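import Groth.Prelude.Def_FSch3
import Mathlib

set_option autoImplicit false
universe u

namespace Groth.Agent.Lib.Helper6.ComplMapLib

open FSch

section Basic

variable {S T : Type u} [CommRing S] [CommRing T] (I : Ideal S) (K : Ideal T) (g : S →+* T)

theorem evalₐ_complMap (h : I.map g ≤ K) (n : ℕ) (x : AdicCompletion I S) :
    AdicCompletion.evalₐ K n (complMap I K g h x) =
      Ideal.quotientMap (K ^ n) g (pow_le_comap_pow_of_map_le I K g h n)
        (AdicCompletion.evalₐ I n x) := by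
  unfold complMap
  generalize_proofs
  rw [AdicCompletion.evalₐ_liftRingHom]
  · rfl
  · assumption

theorem complMap_of (h : I.map g ≤ K) (s : S) :
    complMap I K g h (AdicCompletion.of I S s) = AdicCompletion.of K T (g s) := by
  apply AdicCompletion.ext_evalₐ
  intro n
  rw [evalₐ_complMap, AdicCompletion.evalₐ_of, AdicCompletion.evalₐ_of, Ideal.quotientMap_mk]

theorem complMap_comp {U : Type u} [CommRing U] (L : Ideal U) (g' : T →+* U)
    (h : I.map g ≤ K) (h' : K.map g' ≤ L) (h'' : I.map (g'.comp g) ≤ L) (x : AdicCompletion I S) :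
    complMap K L g' h' (complMap I K g h x) = complMap I L (g'.comp g) h'' x := by
  apply AdicCompletion.ext_evalₐ
  intro n
  rw [evalₐ_complMap, evalₐ_complMap, evalₐ_complMap]
  obtain ⟨y, hy⟩ := Ideal.Quotient.mk_surjective (AdicCompletion.evalₐ I n x)
  rw [← hy, Ideal.quotientMap_mk, Ideal.quotientMap_mk, Ideal.quotientMap_mk]
  rfl

end Basic

section Unit

variable {R : Type u} [CommRing R] (I : Ideal R)

open AdicCompletion in
theorem evalOneₐ_mk (a : AdicCauchySequence I R) :
    AdicCompletion.evalOneₐ I (AdicCompletion.mk I R a) = Ideal.Quotient.mk I (a 1) := by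
  rw [← AdicCompletion.factorₐ_evalₐ_one, AdicCompletion.evalₐ_mk]
  rfl

open AdicCompletion in
theorem isUnit_evalₐ_of_isUnit_evalOneₐ (x : AdicCompletion I R)
    (hx : IsUnit (AdicCompletion.evalOneₐ I x)) (n : ℕ) :
    IsUnit (AdicCompletion.evalₐ I n x) := by
  obtain ⟨a, rfl⟩ := AdicCompletion.mk_surjective I R x
  rw [evalOneₐ_mk] at hx
  rw [AdicCompletion.evalₐ_mk]
  rcases Nat.eq_zero_or_pos n with rfl | hn
  · have : Subsingleton (R ⧸ I ^ 0) := by
      rw [pow_zero, Ideal.one_eq_top]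
      exact Ideal.Quotient.subsingleton_iff.mpr rfl
    exact isUnit_of_subsingleton _
  · rw [Ideal.Quotient.isUnit_mk_pow_iff_isUnit_mk I hn.ne']
    have h1 : Ideal.Quotient.mk I (a.val n) = Ideal.Quotient.mk I (a 1) := by
      have h2 := a.2 (show 1 ≤ n from hn)
      rw [SModEq.sub_mem] at h2
      rw [Ideal.Quotient.eq, ← neg_sub]
      apply I.neg_mem
      simpa using h2
    rw [h1]
    exact hx

theorem isUnit_val_of_isUnit_evalOneₐ (x : AdicCompletion I R)
    (hx : IsUnit (AdicCompletion.evalOneₐ I x)) (n : ℕ) :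
    IsUnit (x.val n) := by
  have h := isUnit_evalₐ_of_isUnit_evalOneₐ I x hx n
  have hI : (I ^ n • ⊤ : Ideal R) = I ^ n := by simp
  have h2 : AdicCompletion.evalₐ I n x = Ideal.quotEquivOfEq hI (x.val n) := rfl
  rw [h2] at h
  exact (isUnit_map_iff (Ideal.quotEquivOfEq hI) _).1 h

/-- The inverse of an element all of whose components are units. -/
noncomputable def invOfUnits (x : AdicCompletion I R) (hu : ∀ n, IsUnit (x.val n)) :
    AdicCompletion I R :=
  ⟨fun n => ((hu n).unit⁻¹ : (R ⧸ (I ^ n • ⊤ : Ideal R))ˣ), by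
    intro m n hmn
    have h1 : AdicCompletion.transitionMap I R hmn (x.val n) = x.val m := x.2 hmn
    have h2 : (AdicCompletion.transitionMapₐ I hmn) (x.val n) = x.val m := h1
    have h3 : Units.map (AdicCompletion.transitionMapₐ I hmn : _ →* _) (hu n).unit = (hu m).unit := by
      ext
      simpa using h2
    show (AdicCompletion.transitionMapₐ I hmn)
      (((hu n).unit⁻¹ : (R ⧸ (I ^ n • ⊤ : Ideal R))ˣ) : R ⧸ (I ^ n • ⊤ : Ideal R)) =
      (((hu m).unit⁻¹ : (R ⧸ (I ^ m • ⊤ : Ideal R))ˣ) : R ⧸ (I ^ m • ⊤ : Ideal R))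
    rw [← h3, ← map_inv, Units.coe_map]
    rfl⟩

theorem mul_invOfUnits (x : AdicCompletion I R) (hu : ∀ n, IsUnit (x.val n)) :
    x * invOfUnits I x hu = 1 := by
  apply AdicCompletion.ext
  intro n
  rw [AdicCompletion.val_mul, AdicCompletion.val_one]
  show x.val n * ((hu n).unit⁻¹ : (R ⧸ (I ^ n • ⊤ : Ideal R))ˣ) = 1
  exact IsUnit.mul_val_inv (hu n)

theorem isUnit_iff_isUnit_evalOneₐ (x : AdicCompletion I R) :
    IsUnit x ↔ IsUnit (AdicCompletion.evalOneₐ I x) := by
  constructor
  · intro h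
    exact h.map _
  · intro h
    exact IsUnit.of_mul_eq_one _ (mul_invOfUnits I x (isUnit_val_of_isUnit_evalOneₐ I x h))

instance isLocalHom_evalOneₐ : IsLocalHom (AdicCompletion.evalOneₐ I) :=
  ⟨fun x hx => (isUnit_iff_isUnit_evalOneₐ I x).2 hx⟩

end Unit

end Groth.Agent.Lib.Helper6.ComplMapLib
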