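import Groth.Agent.Lib.Helper6.ComplMapLib
import Groth.Agent.Lib.Helper1.CompFlat

set_option autoImplicit false
universe u

namespace Groth.Agent.Lib.Helper6.ComplFlat

open FSch Groth.Agent.Lib.Helper6.ComplMapLib TensorProduct

section Quot

variable {R S : Type u} [CommRing R] [CommRing S] [Algebra R S]

theorem flat_quotientMap [Module.Flat R S] (I' : Ideal R) (K' : Ideal S)
    (hK : I'.map (algebraMap R S) = K') (hle : I' ≤ K'.comap (algebraMap R S)) :
    @Module.Flat (R ⧸ I') (S ⧸ K') _ _
      (Ideal.quotientMap K' (algebraMap R S) hle).toAlgebra.toModule := by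
  letI : Algebra (R ⧸ I') (S ⧸ K') := (Ideal.quotientMap K' (algebraMap R S) hle).toAlgebra
  have hst : IsScalarTower R (R ⧸ I') (S ⧸ K') := IsScalarTower.of_algebraMap_eq (fun r => by
    show (algebraMap R (S ⧸ K')) r =
      Ideal.quotientMap K' (algebraMap R S) hle (Ideal.Quotient.mk I' r)
    rw [Ideal.quotientMap_mk]; rfl)
  have e1 : (I' • ⊤ : Submodule R S) = K'.restrictScalars R := by
    rw [← hK, Ideal.smul_top_eq_map]
  let e : ((R ⧸ I') ⊗[R] S) ≃ₗ[R] (S ⧸ K') :=
    (TensorProduct.quotTensorEquivQuotSMul S I').trans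
      ((Submodule.quotEquivOfEq _ _ e1).trans (Submodule.Quotient.restrictScalarsEquiv R K'))
  exact Module.Flat.of_linearEquiv
    (e.extendScalarsOfSurjective Ideal.Quotient.mk_surjective).symm

end Quot

section Ker

variable {R : Type u} [CommRing R] (I : Ideal R)

theorem evalₐ_eq_zero_iff (hI : I.FG) (n : ℕ) (a : AdicCompletion I R) :
    AdicCompletion.evalₐ I n a = 0 ↔ a ∈ (I.map (algebraMap R (AdicCompletion I R))) ^ n := by
  have h1 : (I ^ n • ⊤ : Ideal R) = I ^ n := by ext x; simp
  have e1 : a ∈ (I.map (algebraMap R (AdicCompletion I R))) ^ n ↔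
      AdicCompletion.eval I R n a = 0 := by
    have h2 : a ∈ (I.map (algebraMap R (AdicCompletion I R))) ^ n ↔
        a ∈ ((I.map (algebraMap R (AdicCompletion I R))) ^ n • ⊤ :
          Submodule (AdicCompletion I R) (AdicCompletion I R)) := by
      rw [Ideal.smul_eq_mul, Ideal.mul_top]
    rw [h2, Groth.Agent.Helper1.CompFlat.mem_map_pow_smul_top_iff,
      AdicCompletion.pow_smul_top_eq_ker_eval hI, LinearMap.mem_ker]
  rw [e1]
  constructor
  · intro h
    rw [← AdicCompletion.factor_evalₐ_eq_eval I a (le_of_eq h1.symm), h, map_zero]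
  · intro h
    rw [← AdicCompletion.factor_eval_eq_evalₐ I a (le_of_eq h1), h, map_zero]

end Ker

section Main

variable {R S : Type u} [CommRing R] [CommRing S] [Algebra R S] (I : Ideal R) (K : Ideal S)

open Groth.Agent.Helper1 Groth.Agent.Helper1.CompFlat in
/-- Stacks 0AGW for rings, phrased with `FSch.complMap`: the completion of a flat map of
Noetherian rings is flat. -/
theorem flat_complMap [IsNoetherianRing R] [Module.Flat R S]
    (hK : I.map (algebraMap R S) = K) (h : I.map (algebraMap R S) ≤ K) :
    @Module.Flat (AdicCompletion I R) (AdicCompletion K S) _ _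
      (complMap I K (algebraMap R S) h).toAlgebra.toModule := by
  letI : Algebra (AdicCompletion I R) (AdicCompletion K S) :=
    (complMap I K (algebraMap R S) h).toAlgebra
  have hIfg : I.FG := IsNoetherian.noetherian I
  have hKfg : K.FG := by rw [← hK]; exact hIfg.map _
  have hN : IsNoetherianRing (AdicCompletion I R) :=
    isNoetherianRing_adicCompletion_of_fg R I hIfg
  -- completeness
  have h2a : IsAdicComplete (K.map (algebraMap S (AdicCompletion K S))) (AdicCompletion K S) :=
    AdicCompletion.isAdicComplete_self K hKfg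
  have hcomp : (algebraMap (AdicCompletion I R) (AdicCompletion K S)).comp
      (algebraMap R (AdicCompletion I R)) =
      (algebraMap S (AdicCompletion K S)).comp (algebraMap R S) := by
    apply RingHom.ext
    intro r
    exact complMap_of I K (algebraMap R S) h r
  have h2b : (I.map (algebraMap R (AdicCompletion I R))).map
      (algebraMap (AdicCompletion I R) (AdicCompletion K S)) =
      K.map (algebraMap S (AdicCompletion K S)) := by
    rw [Ideal.map_map, hcomp, ← Ideal.map_map, hK]
  have hC : IsAdicComplete (I.map (algebraMap R (AdicCompletion I R))) (AdicCompletion K S) := by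
    rw [← h2b] at h2a
    exact (IsAdicComplete.map_algebraMap_iff (S := AdicCompletion K S)
      (I.map (algebraMap R (AdicCompletion I R))) (AdicCompletion K S)).mp h2a
  apply flat_of_approxEq (I.map (algebraMap R (AdicCompletion I R)))
  intro n
  have hle : I ^ n ≤ (K ^ n).comap (algebraMap R S) :=
    pow_le_comap_pow_of_map_le I K (algebraMap R S) h n
  letI : Algebra (R ⧸ I ^ n) (S ⧸ K ^ n) :=
    (Ideal.quotientMap (K ^ n) (algebraMap R S) hle).toAlgebra
  have hflat : Module.Flat (R ⧸ I ^ n) (S ⧸ K ^ n) :=
    flat_quotientMap (I ^ n) (K ^ n) (by rw [Ideal.map_pow, hK]) hle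
  refine approxEq_of_flat (B := R ⧸ I ^ n) (P := S ⧸ K ^ n)
    (AdicCompletion.evalₐ I n).toRingHom (AdicCompletion.surjective_evalₐ I n) _
    (fun a => evalₐ_eq_zero_iff I hIfg n a)
    ((AdicCompletion.evalₐ K n).toRingHom : AdicCompletion K S →+ S ⧸ K ^ n)
    (AdicCompletion.surjective_evalₐ K n) ?_ ?_
  · intro a x
    show AdicCompletion.evalₐ K n (complMap I K (algebraMap R S) h a * x) =
      Ideal.quotientMap (K ^ n) (algebraMap R S) hle (AdicCompletion.evalₐ I n a) *
        AdicCompletion.evalₐ K n x
    rw [map_mul, evalₐ_complMap]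
  · intro x
    show AdicCompletion.evalₐ K n x = 0 ↔ _
    rw [evalₐ_eq_zero_iff K hKfg n x, Ideal.smul_top_eq_map,
      Submodule.restrictScalars_mem, Ideal.map_pow, h2b]

end Main

end Groth.Agent.Lib.Helper6.ComplFlat
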