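import Mathlib

set_option autoImplicit false
universe u
open CategoryTheory CategoryTheory.Limits AlgebraicGeometry Opposite TopologicalSpace

namespace Groth.Agent.Helper6.QcohLocal

/-- A presentation of `M.over U` from a presentation of `M.restrict U.ι`. -/
noncomputable def presentationOver {X : Scheme.{u}} (M : X.Modules) (U : X.Opens)
    (P : (M.restrict U.ι).Presentation) : (M.over U).Presentation := by
  let e := Scheme.Modules.overEquiv U
  have : PreservesColimitsOfSize.{u, u} e.inverse := inferInstance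
  let iso : e.inverse.obj (M.restrict U.ι) ≅ M.over U :=
    e.inverse.mapIso ((Scheme.Modules.overFunctorEquiv U).app M).symm ≪≫ (e.unitIso.app _).symm
  exact (P.map e.inverse
    (TopologicalSpace.Opens.sheafOfModulesEquivOverInverseUnit U X.ringCatSheaf).symm).ofIsIso iso.hom

/-- quasi-coherence is local: if `M` restricted to each member of an open cover has a presentation,
then `M` is quasi-coherent. -/
theorem isQuasicoherent_of_presentations {X : Scheme.{u}} (M : X.Modules) {ι : Type u}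
    (U : ι → X.Opens) (hU : IsOpenCover U)
    (P : ∀ i, Nonempty (M.restrict (U i).ι).Presentation) : M.IsQuasicoherent := by
  have q : SheafOfModules.QuasicoherentData.{u, u, u, u} M :=
    { I := ι
      X := U
      coversTop := (Opens.coversTop_iff _ _).2 hU
      presentation := fun i => presentationOver M (U i) (P i).some }
  exact q.isQuasicoherent

/-- transport a presentation of `M.restrict j` to `M.restrict j.opensRange.ι`. -/
noncomputable def presentationOpensRange {X Y : Scheme.{u}} (j : Y ⟶ X) [IsOpenImmersion j]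
    (M : X.Modules) (P : (M.restrict j).Presentation) :
    (M.restrict j.opensRange.ι).Presentation := by
  let e := j.isoOpensRange
  have h : e.inv ≫ j = j.opensRange.ι := j.isoOpensRange_inv_comp
  let iso : Scheme.Modules.restrictFunctor j ⋙ Scheme.Modules.restrictFunctor e.inv ≅
      Scheme.Modules.restrictFunctor j.opensRange.ι :=
    (Scheme.Modules.restrictFunctorComp _ _).symm ≪≫ Scheme.Modules.restrictFunctorCongr h
  exact SheafOfModules.Presentation.ofIsIso.{u, u, u} (iso.app M).hom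
    (Scheme.Modules.presentationRestrict e.inv P)

/-- If `M` restricted along each member of a jointly surjective family of open immersions from
affine schemes satisfies `IsIso fromTildeΓ`, then `M` is quasi-coherent. -/
theorem isQuasicoherent_of_affine_family {X : Scheme.{u}} (M : X.Modules) {ι : Type u}
    (R : ι → CommRingCat.{u}) (j : ∀ i, Spec (R i) ⟶ X) [∀ i, IsOpenImmersion (j i)]
    (hj : ∀ x : X, ∃ i, x ∈ (j i).opensRange)
    (h : ∀ i, IsIso (M.restrict (j i)).fromTildeΓ) : M.IsQuasicoherent := by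
  refine isQuasicoherent_of_presentations M (fun i => (j i).opensRange) ?_ (fun i => ?_)
  · rw [IsOpenCover, eq_top_iff]
    intro x _
    obtain ⟨i, hi⟩ := hj x
    exact Opens.mem_iSup.2 ⟨i, hi⟩
  · refine ⟨presentationOpensRange (j i) M ?_⟩
    exact @SheafOfModules.Presentation.ofIsIso.{u, u, u} _ _ _ _ _ _ _ _ (M.restrict (j i)).fromTildeΓ
      (h i) (presentationTilde.{u} _ .univ (by simp) _ (Submodule.span_eq _))



/-- criterion for `M ≅ Γ(M)~` on `Spec R`. -/
theorem isIso_fromTildeΓ_of_exists {R : CommRingCat.{u}} (M : (Spec R).Modules)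
    (hex : ∀ (g : R) (s : Γ(M, PrimeSpectrum.basicOpen g)), ∃ (n : ℕ) (t : Γ(M, ⊤)),
        g ^ n • s = M.presheaf.map (PrimeSpectrum.basicOpen g).leTop.op t)
    (huniq : ∀ (g : R) (t : Γ(M, ⊤)),
        M.presheaf.map (PrimeSpectrum.basicOpen g).leTop.op t = 0 → ∃ n : ℕ, g ^ n • t = 0) :
    IsIso M.fromTildeΓ := by
  rw [isIso_fromTildeΓ_iff_isLocalizing]
  intro f
  refine IsLocalizedModule.Away.mk_of_addCommGroup ?_ ?_ ?_
  · exact Scheme.Modules.isUnit_algebraMap_end_of_le_basicOpen f le_rfl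
  · intro x
    exact hex f x
  · intro x hx
    exact huniq f x hx

theorem fromSpec_appIso_inv {X : Scheme.{u}} {U : X.Opens} (hU : IsAffineOpen U)
    (V : (Spec Γ(X, U)).Opens) (hV : hU.fromSpec ''ᵁ V ≤ U) :
    (Scheme.ΓSpecIso Γ(X, U)).inv ≫ (Spec Γ(X, U)).presheaf.map V.leTop.op ≫
      (hU.fromSpec.appIso V).inv = X.presheaf.map (homOfLE hV).op := by
  rw [← Category.assoc, Iso.comp_inv_eq, Scheme.Hom.appIso_hom']
  rw [Scheme.Hom.appLE, ← Category.assoc]
  have := hU.fromSpec.naturality (homOfLE hV).op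
  rw [this, hU.fromSpec_app_self]
  simp only [Category.assoc, ← Functor.map_comp]
  rfl

theorem fromSpec_smul {X : Scheme.{u}} {U : X.Opens} (hU : IsAffineOpen U) (M : X.Modules)
    (V : (Spec Γ(X, U)).Opens) (hV : hU.fromSpec ''ᵁ V ≤ U) (r : Γ(X, U))
    (x : Γ(M.restrict hU.fromSpec, V)) :
    (M.restrictAppIso hU.fromSpec V).hom (r • x) =
      X.presheaf.map (homOfLE hV).op r • (M.restrictAppIso hU.fromSpec V).hom x := by
  rw [Scheme.Modules.smul_Spec_def]
  rw [← fromSpec_appIso_inv hU V hV]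
  exact Scheme.Modules.smul_restrictAppIso_hom_apply _ _ _ _ _

theorem isIso_fromTildeΓ_restrict_fromSpec {X : Scheme.{u}} {U : X.Opens} (hU : IsAffineOpen U)
    (M : X.Modules)
    (hE : ∀ (r : Γ(X, U)) (W U' : X.Opens) (hU' : U' = U) (hW : W ≤ U') (_ : W = X.basicOpen r)
      (s : Γ(M, W)), ∃ (n : ℕ) (t : Γ(M, U')),
        (X.presheaf.map (homOfLE (hW.trans hU'.le)).op r) ^ n • s =
          M.presheaf.map (homOfLE hW).op t)
    (hU0 : ∀ (r : Γ(X, U)) (W U' : X.Opens) (hU' : U' = U) (hW : W ≤ U') (_ : W = X.basicOpen r)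
      (t : Γ(M, U')), M.presheaf.map (homOfLE hW).op t = 0 →
        ∃ n : ℕ, (X.presheaf.map (homOfLE hU'.le).op r) ^ n • t = 0) :
    IsIso (M.restrict hU.fromSpec).fromTildeΓ := by
  have hU' : hU.fromSpec ''ᵁ ⊤ = U := by
    rw [Scheme.Hom.image_top_eq_opensRange, hU.opensRange_fromSpec]
  refine isIso_fromTildeΓ_of_exists _ (fun g s => ?_) (fun g t ht => ?_)
  · have hW : hU.fromSpec ''ᵁ PrimeSpectrum.basicOpen g ≤ hU.fromSpec ''ᵁ ⊤ :=
      Scheme.Hom.image_mono _ le_top
    obtain ⟨n, t, h⟩ := hE g _ _ hU' hW (hU.fromSpec_image_basicOpen g) s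
    refine ⟨n, t, ?_⟩
    have h2 := fromSpec_smul hU M _ (hW.trans hU'.le) (g ^ n) s
    rw [map_pow] at h2
    exact h2.trans h
  · have hW : hU.fromSpec ''ᵁ PrimeSpectrum.basicOpen g ≤ hU.fromSpec ''ᵁ ⊤ :=
      Scheme.Hom.image_mono _ le_top
    obtain ⟨n, h⟩ := hU0 g _ _ hU' hW (hU.fromSpec_image_basicOpen g) t ht
    refine ⟨n, ?_⟩
    have h2 := fromSpec_smul hU M _ hU'.le (g ^ n) t
    rw [map_pow] at h2
    exact h2.trans h


/-- Quasi-coherence from conditions (d1), (d2) on an affine open cover. -/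
theorem isQuasicoherent_of_affineOpens {X : Scheme.{u}} (M : X.Modules) {ι : Type u}
    (U : ι → X.Opens) (hU : ∀ i, IsAffineOpen (U i)) (hcov : ∀ x : X, ∃ i, x ∈ U i)
    (hE : ∀ (i : ι) (r : Γ(X, U i)) (W U' : X.Opens) (hU' : U' = U i) (hW : W ≤ U')
      (_ : W = X.basicOpen r) (s : Γ(M, W)), ∃ (n : ℕ) (t : Γ(M, U')),
        (X.presheaf.map (homOfLE (hW.trans hU'.le)).op r) ^ n • s =
          M.presheaf.map (homOfLE hW).op t)
    (hU0 : ∀ (i : ι) (r : Γ(X, U i)) (W U' : X.Opens) (hU' : U' = U i) (hW : W ≤ U')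
      (_ : W = X.basicOpen r) (t : Γ(M, U')), M.presheaf.map (homOfLE hW).op t = 0 →
        ∃ n : ℕ, (X.presheaf.map (homOfLE hU'.le).op r) ^ n • t = 0) :
    M.IsQuasicoherent := by
  refine isQuasicoherent_of_affine_family M (fun i => Γ(X, U i)) (fun i => (hU i).fromSpec)
    (fun x => ?_) (fun i => ?_)
  · obtain ⟨i, hi⟩ := hcov x
    exact ⟨i, by rw [(hU i).opensRange_fromSpec]; exact hi⟩
  · exact isIso_fromTildeΓ_restrict_fromSpec (hU i) M (hE i) (hU0 i)

end Groth.Agent.Helper6.QcohLocal
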