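import Mathlib
import Groth.Prelude.Def_GrMod3

set_option autoImplicit false
set_option linter.style.haveILetI false
set_option linter.unusedSectionVars false
universe u
open DirectSum CategoryTheory CategoryTheory.Limits AlgebraicGeometry Opposite TopologicalSpace

namespace Groth.Agent.Helper6.GrModFrac

variable {A σ : Type u} [CommRing A] [SetLike σ A] [AddSubgroupClass σ A] (𝒜 : ℕ → σ) [GradedRing 𝒜]
variable {M τ : Type u} [AddCommGroup M] [Module A M] [SetLike τ M] [AddSubgroupClass τ M]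
  (ℳ : ℕ → τ) [DirectSum.Decomposition ℳ] [SetLike.GradedSMul 𝒜 ℳ]

theorem proj_smul {i : ℕ} {m : M} (hm : m ∈ ℳ i) (a : A) (j : ℕ) :
    ((decompose ℳ (a • m) (j + i) : ℳ (j + i)) : M) = (decompose 𝒜 a j : A) • m := by
  classical
  conv_lhs => rw [← DirectSum.sum_support_decompose 𝒜 a, Finset.sum_smul, DirectSum.decompose_sum]
  rw [DirectSum.sum_apply, AddSubmonoidClass.coe_finsetSum]
  have key : ∀ j' ∈ DFinsupp.support (decompose 𝒜 a),
      ((decompose ℳ ((decompose 𝒜 a j' : A) • m) (j + i) : ℳ (j + i)) : M) =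
        if j' = j then (decompose 𝒜 a j : A) • m else 0 := by
    intro j' _
    have hmem : (decompose 𝒜 a j' : A) • m ∈ ℳ (j' + i) :=
      SetLike.GradedSMul.smul_mem (decompose 𝒜 a j').2 hm
    split_ifs with hj
    · subst hj
      exact DirectSum.decompose_of_mem_same ℳ hmem
    · exact DirectSum.decompose_of_mem_ne ℳ hmem (fun e => hj (by omega))
  rw [Finset.sum_congr rfl key, Finset.sum_ite_eq']
  split_ifs with hj
  · rfl
  · rw [DFinsupp.notMem_support_iff] at hj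
    rw [hj, ZeroMemClass.coe_zero, zero_smul]

/-- The annihilator ideal of an element. -/
def ann (m : M) : Ideal A := LinearMap.ker (LinearMap.toSpanSingleton A M m)

theorem mem_ann {m : M} {a : A} : a ∈ ann (A := A) m ↔ a • m = 0 := by
  rw [ann, LinearMap.mem_ker, LinearMap.toSpanSingleton_apply]

/-- The annihilator of a homogeneous element is a homogeneous ideal. -/
theorem ann_isHomogeneous {i : ℕ} {m : M} (hm : m ∈ ℳ i) :
    (ann (A := A) m).IsHomogeneous 𝒜 := by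
  intro j a ha
  rw [mem_ann] at ha ⊢
  rw [← proj_smul 𝒜 ℳ hm a j, ha, DirectSum.decompose_zero]
  rfl

/-- Key lemma: a homogeneous element killed locally on `D₊(f)` is killed by a power of `f`. -/
theorem exists_pow_smul_eq_zero {i d : ℕ} (hd : 0 < d) {f : A} (hf : f ∈ 𝒜 d) {m : M} (hm : m ∈ ℳ i)
    (h : ∀ x : ProjectiveSpectrum 𝒜, f ∉ x.asHomogeneousIdeal →
      ∃ s : A, s ∉ x.asHomogeneousIdeal ∧ s • m = 0) :
    ∃ N : ℕ, f ^ N • m = 0 := by
  have hIh : (ann (A := A) m).IsHomogeneous 𝒜 := ann_isHomogeneous 𝒜 ℳ hm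
  by_contra hcon
  have hfr : f ∉ (ann (A := A) m).radical := by
    rintro ⟨N, hN⟩
    exact hcon ⟨N, mem_ann.1 hN⟩
  rw [hIh.radical_eq, Ideal.mem_sInf] at hfr
  push Not at hfr
  obtain ⟨P, ⟨hPh, hIP, hPp⟩, hfP⟩ := hfr
  let x : ProjectiveSpectrum 𝒜 := ⟨⟨P, hPh⟩, hPp, fun hle =>
    hfP (hle (HomogeneousIdeal.mem_irrelevant_of_mem 𝒜 hd hf))⟩
  obtain ⟨s, hs, hsm⟩ := h x hfP
  exact hs (hIP (mem_ann.2 hsm))

/-- `(a • m)_{j+i} = a • m_i` for `a` homogeneous of degree `j`. -/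
theorem proj_smul_left {j : ℕ} {a : A} (ha : a ∈ 𝒜 j) (m : M) (i : ℕ) :
    ((decompose ℳ (a • m) (j + i) : ℳ (j + i)) : M) = a • (decompose ℳ m i : M) := by
  classical
  conv_lhs => rw [← DirectSum.sum_support_decompose ℳ m, Finset.smul_sum, DirectSum.decompose_sum]
  rw [DirectSum.sum_apply, AddSubmonoidClass.coe_finsetSum]
  have key : ∀ i' ∈ DFinsupp.support (decompose ℳ m),
      ((decompose ℳ (a • (decompose ℳ m i' : M)) (j + i) : ℳ (j + i)) : M) =
        if i' = i then a • (decompose ℳ m i : M) else 0 := by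
    intro i' _
    have hmem : a • (decompose ℳ m i' : M) ∈ ℳ (j + i') :=
      SetLike.GradedSMul.smul_mem ha (decompose ℳ m i').2
    split_ifs with hi
    · subst hi
      exact DirectSum.decompose_of_mem_same ℳ hmem
    · exact DirectSum.decompose_of_mem_ne ℳ hmem (fun e => hi (by omega))
  rw [Finset.sum_congr rfl key, Finset.sum_ite_eq']
  split_ifs with hi
  · rfl
  · rw [DFinsupp.notMem_support_iff] at hi
    rw [hi, ZeroMemClass.coe_zero, smul_zero]

/-- value of a section over `D₊(f)` at a point. -/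
def valAt (n : ℤ) {f : A} (s : GrMod.sect 𝒜 ℳ n (op (ProjectiveSpectrum.basicOpen 𝒜 f)))
    (y : ProjectiveSpectrum 𝒜) (hy : f ∉ y.asHomogeneousIdeal) : GrMod.LocMod 𝒜 (M := M) y :=
  (s.1 ⟨y, (ProjectiveSpectrum.mem_basicOpen 𝒜 f y).2 hy⟩).1

theorem exists_local_frac (n : ℤ) {d : ℕ} (hd : 0 < d) {f : A} (hf : f ∈ 𝒜 d)
    (s : GrMod.sect 𝒜 ℳ n (op (ProjectiveSpectrum.basicOpen 𝒜 f)))
    (x : ProjectiveSpectrum 𝒜) (hx : f ∉ x.asHomogeneousIdeal) :
    ∃ (e i : ℕ) (h : A) (m : M), 0 < e ∧ h ∈ 𝒜 e ∧ m ∈ ℳ i ∧ (i : ℤ) = e + n ∧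
      h ∉ x.asHomogeneousIdeal ∧
      (∀ y : ProjectiveSpectrum 𝒜, h ∉ y.asHomogeneousIdeal → f ∉ y.asHomogeneousIdeal) ∧
      ∀ (y : ProjectiveSpectrum 𝒜) (hy : f ∉ y.asHomogeneousIdeal)
        (hh : h ∉ y.asHomogeneousIdeal),
        valAt 𝒜 ℳ n s y hy = LocalizedModule.mk m ⟨h, hh⟩ := by
  classical
  obtain ⟨V, hxV, iV, i, j, ⟨m, hm⟩, ⟨t, ht⟩, nin, hor, w⟩ :=
    s.2 ⟨x, (ProjectiveSpectrum.mem_basicOpen 𝒜 f x).2 hx⟩
  obtain ⟨_, ⟨a, rfl⟩, hxa, hsub⟩ :=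
    (ProjectiveSpectrum.isTopologicalBasis_basic_opens 𝒜).exists_subset_of_mem_open hxV V.2
  obtain ⟨e', hae'⟩ : ∃ e', (decompose 𝒜 a e' : A) ∉ x.asHomogeneousIdeal := by
    by_contra hcon
    push Not at hcon
    apply (ProjectiveSpectrum.mem_basicOpen 𝒜 a x).1 hxa
    change a ∈ x.asHomogeneousIdeal.toIdeal
    rw [← DirectSum.sum_support_decompose 𝒜 a]
    exact Ideal.sum_mem _ (fun e _ => hcon e)
  have hgdeg : (decompose 𝒜 a e' : A) * f ∈ 𝒜 (e' + d) :=
    SetLike.mul_mem_graded (decompose 𝒜 a e').2 hf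
  have hgV : ∀ y : ProjectiveSpectrum 𝒜,
      (decompose 𝒜 a e' : A) * f ∉ y.asHomogeneousIdeal → y ∈ V := by
    intro y hy
    apply hsub
    rw [SetLike.mem_coe, ProjectiveSpectrum.mem_basicOpen]
    intro hay
    exact hy (Ideal.mul_mem_right _ _ (y.asHomogeneousIdeal.isHomogeneous e' hay))
  have hgx : (decompose 𝒜 a e' : A) * f ∉ x.asHomogeneousIdeal := fun hmem =>
    (x.isPrime.mem_or_mem hmem).elim hae' hx
  rcases hor with hij | hm0
  · refine ⟨e' + d + j, e' + d + i, (decompose 𝒜 a e' : A) * f * t,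
      ((decompose 𝒜 a e' : A) * f) • m, by omega, SetLike.mul_mem_graded hgdeg ht,
      SetLike.GradedSMul.smul_mem hgdeg hm, by push_cast; omega, ?_, ?_, ?_⟩
    · intro hmem
      exact (x.isPrime.mem_or_mem hmem).elim hgx (nin ⟨x, hxV⟩)
    · intro y hy hfy
      exact hy (Ideal.mul_mem_right _ _ (Ideal.mul_mem_left _ _ hfy))
    · intro y hy hh
      have hgy : (decompose 𝒜 a e' : A) * f ∉ y.asHomogeneousIdeal :=
        fun h1 => hh (Ideal.mul_mem_right _ _ h1)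
      have e1 := w ⟨y, hgV y hgy⟩
      refine Eq.trans e1 ?_
      rw [LocalizedModule.mk_eq]
      refine ⟨1, ?_⟩
      rw [one_smul, one_smul]
      change ((decompose 𝒜 a e' : A) * f * t) • m = t • (((decompose 𝒜 a e' : A) * f) • m)
      rw [mul_smul, smul_comm]
  · have hK : (0 : ℤ) ≤ ((e' + d + n.natAbs * d : ℕ) : ℤ) + n := by
      have h1 := Nat.le_mul_of_pos_right n.natAbs hd
      generalize n.natAbs * d = k at h1 ⊢
      omega
    refine ⟨e' + d + n.natAbs * d, (((e' + d + n.natAbs * d : ℕ) : ℤ) + n).toNat,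
      (decompose 𝒜 a e' : A) * f * f ^ n.natAbs, 0, by omega, ?_, zero_mem _,
      Int.toNat_of_nonneg hK, ?_, ?_, ?_⟩
    · have := SetLike.pow_mem_graded n.natAbs hf
      exact SetLike.mul_mem_graded hgdeg (by simpa using this)
    · intro hmem
      exact (x.isPrime.mem_or_mem hmem).elim hgx (fun h1 => hx (x.isPrime.mem_of_pow_mem _ h1))
    · intro y hy hfy
      exact hy (Ideal.mul_mem_right _ _ (Ideal.mul_mem_left _ _ hfy))
    · intro y hy hh
      have hgy : (decompose 𝒜 a e' : A) * f ∉ y.asHomogeneousIdeal :=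
        fun h1 => hh (Ideal.mul_mem_right _ _ h1)
      have e1 := w ⟨y, hgV y hgy⟩
      refine Eq.trans e1 ?_
      change LocalizedModule.mk m _ = _
      rw [show m = 0 from hm0, LocalizedModule.zero_mk, LocalizedModule.zero_mk]

set_option maxHeartbeats 1600000 in
/-- Every section of `M(n)~` over `D₊(f)` is one fraction `m / f^L`. -/
theorem exists_global_frac (n : ℤ) {d : ℕ} (hd : 0 < d) {f : A} (hf : f ∈ 𝒜 d)
    (s : GrMod.sect 𝒜 ℳ n (op (ProjectiveSpectrum.basicOpen 𝒜 f))) :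
    ∃ (L q : ℕ) (m : M), m ∈ ℳ q ∧ (q : ℤ) = L * d + n ∧
      ∀ (y : ProjectiveSpectrum 𝒜) (hy : f ∉ y.asHomogeneousIdeal),
        valAt 𝒜 ℳ n s y hy =
          (LocalizedModule.mk m ⟨f ^ L, fun h => hy (y.isPrime.mem_of_pow_mem L h)⟩ :
            GrMod.LocMod 𝒜 (M := M) y) := by
  classical
  have H := fun x : {x : ProjectiveSpectrum 𝒜 // f ∉ x.asHomogeneousIdeal} =>
    exists_local_frac 𝒜 ℳ n hd hf s x.1 x.2
  choose e i h m he hh hm hi hhx hsub hval using H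
  -- Step 3: f ∈ radical (span (range h))
  have hrad : f ∈ (Ideal.span (Set.range h)).radical := by
    by_contra hcon
    have hhom : (Ideal.span (Set.range h)).IsHomogeneous 𝒜 := by
      apply Ideal.homogeneous_span
      rintro _ ⟨x, rfl⟩
      exact ⟨e x, hh x⟩
    rw [hhom.radical_eq, Ideal.mem_sInf] at hcon
    push Not at hcon
    obtain ⟨P, ⟨hPh, hIP, hPp⟩, hfP⟩ := hcon
    let y : ProjectiveSpectrum 𝒜 := ⟨⟨P, hPh⟩, hPp, fun hle =>
      hfP (hle (HomogeneousIdeal.mem_irrelevant_of_mem 𝒜 hd hf))⟩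
    exact hhx ⟨y, hfP⟩ (hIP (Ideal.subset_span ⟨⟨y, hfP⟩, rfl⟩))
  obtain ⟨L₀, hL₀⟩ := hrad
  obtain ⟨c₀, hc₀⟩ := Finsupp.mem_span_range_iff_exists_finsupp.1 hL₀
  have hcover : ∀ y : ProjectiveSpectrum 𝒜, f ∉ y.asHomogeneousIdeal →
      ∃ x ∈ c₀.support, h x ∉ y.asHomogeneousIdeal := by
    intro y hy
    by_contra hcon
    push Not at hcon
    apply hy
    apply y.isPrime.mem_of_pow_mem L₀
    rw [← hc₀]
    exact Ideal.sum_mem _ (fun x hx => Ideal.mul_mem_left _ _ (hcon x hx))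
  -- Step 4
  have hN : ∀ x x' : {x : ProjectiveSpectrum 𝒜 // f ∉ x.asHomogeneousIdeal},
      ∃ N : ℕ, (h x * h x') ^ N • (h x' • m x - h x • m x') = 0 := by
    intro x x'
    have hdeg : e x + i x' = e x' + i x := by
      have := hi x; have := hi x'; omega
    have hw : h x' • m x - h x • m x' ∈ ℳ (e x' + i x) :=
      sub_mem (SetLike.GradedSMul.smul_mem (hh x') (hm x))
        (hdeg ▸ SetLike.GradedSMul.smul_mem (hh x) (hm x'))
    refine exists_pow_smul_eq_zero 𝒜 ℳ (Nat.add_pos_left (he x) _)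
      (SetLike.mul_mem_graded (hh x) (hh x')) hw (fun y hy => ?_)
    have hy1 : h x ∉ y.asHomogeneousIdeal := fun h1 => hy (Ideal.mul_mem_right _ _ h1)
    have hy2 : h x' ∉ y.asHomogeneousIdeal := fun h1 => hy (Ideal.mul_mem_left _ _ h1)
    have hyf : f ∉ y.asHomogeneousIdeal := hsub x y hy1
    have e1 := hval x y hyf hy1
    have e2 := hval x' y hyf hy2
    rw [e1, LocalizedModule.mk_eq] at e2
    obtain ⟨u, hu⟩ := e2
    refine ⟨u.1, u.2, ?_⟩
    rw [smul_sub, sub_eq_zero]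
    exact hu
  choose N hN using hN
  have hNmax : ∀ x ∈ c₀.support, ∀ x' ∈ c₀.support,
      (h x * h x') ^ (c₀.support.sup (fun x => c₀.support.sup (fun x' => N x x'))) •
        (h x' • m x - h x • m x') = 0 := by
    intro x hx x' hx'
    have hle : N x x' ≤ c₀.support.sup (fun x => c₀.support.sup (fun x' => N x x')) :=
      le_trans (Finset.le_sup (f := fun x' => N x x') hx')
        (Finset.le_sup (f := fun x => c₀.support.sup (fun x' => N x x')) hx)
    rw [← Nat.sub_add_cancel hle, pow_add, mul_smul, hN, smul_zero]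
  generalize c₀.support.sup (fun x => c₀.support.sup (fun x' => N x x')) = Nmax at hNmax
  -- Step 5
  have hrad' : f ∈ (Ideal.span ((fun x => h x ^ (Nmax + 1)) '' (c₀.support : Set _))).radical := by
    have h1 : Ideal.span (h '' (c₀.support : Set _)) ≤
        (Ideal.span ((fun x => h x ^ (Nmax + 1)) '' (c₀.support : Set _))).radical := by
      rw [Ideal.span_le]
      rintro _ ⟨x, hx, rfl⟩
      exact ⟨Nmax + 1, Ideal.subset_span ⟨x, hx, rfl⟩⟩
    have h2 : f ^ L₀ ∈ Ideal.span (h '' (c₀.support : Set _)) := by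
      rw [← hc₀]
      exact Ideal.sum_mem _ (fun x hx => Ideal.mul_mem_left _ _ (Ideal.subset_span ⟨x, hx, rfl⟩))
    exact (Ideal.radical_isRadical _) ⟨L₀, h1 h2⟩
  obtain ⟨L₁, hL₁⟩ := hrad'
  obtain ⟨L, hLge, hL⟩ : ∃ L : ℕ, n.natAbs ≤ L ∧ f ^ L ∈
      Ideal.span ((fun x => h x ^ (Nmax + 1)) '' (c₀.support : Set _)) :=
    ⟨L₁ + n.natAbs, Nat.le_add_left _ _, by rw [pow_add]; exact Ideal.mul_mem_right _ _ hL₁⟩
  obtain ⟨c, hcsupp, hc⟩ := (Finsupp.mem_span_image_iff_linearCombination A).1 hL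
  rw [Finsupp.linearCombination_apply,
    Finsupp.sum_of_support_subset c ((Finsupp.mem_supported A c).1 hcsupp) _ (by simp)] at hc
  have hc' : ∑ x ∈ c₀.support, c x * h x ^ (Nmax + 1) = f ^ L := hc
  have hq0 : (0 : ℤ) ≤ (L : ℤ) * d + n := by
    have h1 := Nat.le_mul_of_pos_right L hd
    have h2 : ((L * d : ℕ) : ℤ) = (L : ℤ) * d := by push_cast; rfl
    rw [← h2]
    generalize L * d = k at h1 ⊢
    omega
  have hq : (((L : ℤ) * d + n).toNat : ℤ) = L * d + n := Int.toNat_of_nonneg hq0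
  generalize ((L : ℤ) * d + n).toNat = q at hq
  -- the (possibly non-homogeneous) candidate
  have key : ∀ x' ∈ c₀.support,
      h x' ^ (Nmax + 1) • (∑ x ∈ c₀.support, c x • (h x ^ Nmax • m x)) =
        f ^ L • (h x' ^ Nmax • m x') := by
    intro x' hx'
    rw [Finset.smul_sum, ← hc', Finset.sum_smul]
    refine Finset.sum_congr rfl (fun x hx => ?_)
    have e1 : (h x * h x') ^ Nmax • (h x' • m x) = (h x * h x') ^ Nmax • (h x • m x') := by
      have := hNmax x hx x' hx'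
      rwa [smul_sub, sub_eq_zero] at this
    calc h x' ^ (Nmax + 1) • (c x • (h x ^ Nmax • m x))
        = c x • ((h x * h x') ^ Nmax • (h x' • m x)) := by
          simp only [smul_smul]; congr 1; ring
      _ = c x • ((h x * h x') ^ Nmax • (h x • m x')) := by rw [e1]
      _ = (c x * h x ^ (Nmax + 1)) • (h x' ^ Nmax • m x') := by
          simp only [smul_smul]; congr 1; ring
  have key' : ∀ x' ∈ c₀.support,
      h x' ^ (Nmax + 1) •
        ((decompose ℳ (∑ x ∈ c₀.support, c x • (h x ^ Nmax • m x)) q : ℳ q) : M) =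
        f ^ L • (h x' ^ Nmax • m x') := by
    intro x' hx'
    have hidx : L • d + (Nmax • e x' + i x') = (Nmax + 1) • e x' + q := by
      simp only [smul_eq_mul]
      zify
      rw [hq, hi x']
      ring
    have hmem : f ^ L • (h x' ^ Nmax • m x') ∈ ℳ ((Nmax + 1) • e x' + q) :=
      hidx ▸ SetLike.GradedSMul.smul_mem (SetLike.pow_mem_graded L hf)
        (SetLike.GradedSMul.smul_mem (SetLike.pow_mem_graded Nmax (hh x')) (hm x'))
    rw [← proj_smul_left 𝒜 ℳ (SetLike.pow_mem_graded (Nmax + 1) (hh x')) _ q, key x' hx']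
    exact DirectSum.decompose_of_mem_same ℳ hmem
  refine ⟨L, q, _, (decompose ℳ (∑ x ∈ c₀.support, c x • (h x ^ Nmax • m x)) q).2, hq,
    fun y hy => ?_⟩
  obtain ⟨x', hx', hx'y⟩ := hcover y hy
  rw [hval x' y hy hx'y, LocalizedModule.mk_eq]
  refine ⟨⟨h x' ^ Nmax, fun hmem => hx'y (y.isPrime.mem_of_pow_mem _ hmem)⟩, ?_⟩
  change h x' ^ Nmax • (f ^ L • m x') = h x' ^ Nmax • (h x' •
    ((decompose ℳ (∑ x ∈ c₀.support, c x • (h x ^ Nmax • m x)) q : ℳ q) : M))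
  rw [smul_comm, ← key' x' hx', smul_smul, pow_succ]

theorem pow_mem_primeCompl {f : A} (x : ProjectiveSpectrum 𝒜) (hx : f ∉ x.asHomogeneousIdeal)
    (K : ℕ) : f ^ K ∈ x.asHomogeneousIdeal.toIdeal.primeCompl :=
  fun h => hx (x.isPrime.mem_of_pow_mem K h)

/-- the fraction `m / f^K` at a point of `D₊(f)`. -/
def fracAt (n : ℤ) {d : ℕ} {f : A} (hf : f ∈ 𝒜 d) (K : ℕ) {i : ℕ} (m : ℳ i)
    (hij : (i : ℤ) = ((K • d : ℕ) : ℤ) + n) (y : ProjectiveSpectrum 𝒜)
    (hy : f ∉ y.asHomogeneousIdeal) : GrMod.tildeAt 𝒜 ℳ n y :=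
  ⟨LocalizedModule.mk (m : M) ⟨f ^ K, pow_mem_primeCompl 𝒜 y hy K⟩,
    Submodule.subset_span ⟨i, K • d, m, ⟨f ^ K, SetLike.pow_mem_graded K hf⟩,
      pow_mem_primeCompl 𝒜 y hy K, hij, rfl⟩⟩

/-- the section `m / f^K` of `M(n)~` over `D₊(f)`. -/
def fracPow (n : ℤ) {d : ℕ} {f : A} (hf : f ∈ 𝒜 d) (K : ℕ) {i : ℕ} (m : ℳ i)
    (hij : (i : ℤ) = ((K • d : ℕ) : ℤ) + n) :
    GrMod.sect 𝒜 ℳ n (op (ProjectiveSpectrum.basicOpen 𝒜 f)) :=
  ⟨fun x => fracAt 𝒜 ℳ n hf K m hij x.1 ((ProjectiveSpectrum.mem_basicOpen 𝒜 f x.1).1 x.2),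
   fun x => ⟨_, x.2, 𝟙 _, i, K • d, m, ⟨f ^ K, SetLike.pow_mem_graded K hf⟩,
      fun y => pow_mem_primeCompl 𝒜 y.1 ((ProjectiveSpectrum.mem_basicOpen 𝒜 f y.1).1 y.2) K,
      Or.inl hij, fun _ => rfl⟩⟩

theorem fracPow_apply (n : ℤ) {d : ℕ} {f : A} (hf : f ∈ 𝒜 d) (K : ℕ) {i : ℕ} (m : ℳ i)
    (hij : (i : ℤ) = ((K • d : ℕ) : ℤ) + n) (y : ProjectiveSpectrum 𝒜)
    (hy : f ∉ y.asHomogeneousIdeal) :
    valAt 𝒜 ℳ n (fracPow 𝒜 ℳ n hf K m hij) y hy =
      LocalizedModule.mk (m : M) ⟨f ^ K, pow_mem_primeCompl 𝒜 y hy K⟩ := rfl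

end Groth.Agent.Helper6.GrModFrac
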