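import Groth.Agent.Lib.Helper6.GrModFracA
import Groth.Agent.Lib.Helper13.LocFree
import Groth.Prelude.Def_RelProj3

/-!
# `M(n)~ → Φ_* N(n)~` is an isomorphism when `v : M → N` is a bijective `ψ`-semilinear graded map
-/

set_option autoImplicit false
set_option linter.style.haveILetI false
set_option linter.unusedSectionVars false
universe u
open DirectSum CategoryTheory CategoryTheory.Limits AlgebraicGeometry Opposite TopologicalSpace
open scoped HomogeneousIdeal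

namespace Groth.Agent.Helper6.GrModComap

open Groth.Agent.Helper6.GrModFrac

variable {A σ : Type u} [CommRing A] [SetLike σ A] [AddSubgroupClass σ A] {𝒜 : ℕ → σ}
    [GradedRing 𝒜] {B σ' : Type u} [CommRing B] [SetLike σ' B] [AddSubgroupClass σ' B] {ℬ : ℕ → σ'} [GradedRing ℬ]
    (ψ : 𝒜 →+*ᵍ ℬ) (hψ : ℬ₊ ≤ (𝒜₊).map ψ)
    {M τ : Type u} [AddCommGroup M] [Module A M] [SetLike τ M] [AddSubgroupClass τ M] (ℳ : ℕ → τ)
    [SetLike.GradedSMul 𝒜 ℳ] [DirectSum.Decomposition ℳ]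
    {N τ' : Type u} [AddCommGroup N] [Module B N] [SetLike τ' N] [AddSubgroupClass τ' N] (𝒩 : ℕ → τ')
    [SetLike.GradedSMul ℬ 𝒩] [DirectSum.Decomposition 𝒩]
    (v : M →ₛₗ[ψ.toRingHom] N) (hv : ∀ (i : ℕ) (m : M), m ∈ ℳ i → v m ∈ 𝒩 i)

include hv in
/-- degree-preserving additive maps commute with the projections. -/
theorem map_proj' (x : M) (Q : ℕ) :
    ((decompose 𝒩 (v x) Q : 𝒩 Q) : N) = v (decompose ℳ x Q : M) := by
  classical
  conv_lhs => rw [← DirectSum.sum_support_decompose ℳ x, map_sum, DirectSum.decompose_sum]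
  rw [DirectSum.sum_apply, AddSubmonoidClass.coe_finsetSum]
  have key : ∀ i' ∈ DFinsupp.support (decompose ℳ x),
      ((decompose 𝒩 (v (decompose ℳ x i' : M)) Q : 𝒩 Q) : N) =
        if i' = Q then v (decompose ℳ x Q : M) else 0 := by
    intro i' _
    have hmem : v (decompose ℳ x i' : M) ∈ 𝒩 i' := hv i' _ (decompose ℳ x i').2
    split_ifs with hi
    · subst hi
      exact DirectSum.decompose_of_mem_same 𝒩 hmem
    · exact DirectSum.decompose_of_mem_ne 𝒩 hmem hi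
  rw [Finset.sum_congr rfl key, Finset.sum_ite_eq']
  split_ifs with hi
  · rfl
  · rw [DFinsupp.notMem_support_iff] at hi
    rw [hi, ZeroMemClass.coe_zero, map_zero]

theorem basicOpen_subset (f : A) :
    (ProjectiveSpectrum.basicOpen ℬ (ψ f)).1 ⊆
      ProjectiveSpectrum.comap ψ hψ ⁻¹' (ProjectiveSpectrum.basicOpen 𝒜 f).1 := fun _ hy => hy

theorem notMem_comap {f : A} (y : ProjectiveSpectrum ℬ) (hy : ψ f ∉ y.asHomogeneousIdeal) :
    f ∉ (ProjectiveSpectrum.comap ψ hψ y).asHomogeneousIdeal := hy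

theorem valAt_comapApp (n : ℤ) (f : A)
    (s : GrMod.sect 𝒜 ℳ n (op (ProjectiveSpectrum.basicOpen 𝒜 f)))
    (y : ProjectiveSpectrum ℬ) (hy : ψ f ∉ y.asHomogeneousIdeal) :
    valAt ℬ 𝒩 n (GrMod.comapApp ψ hψ v hv n (ProjectiveSpectrum.basicOpen 𝒜 f)
        (ProjectiveSpectrum.basicOpen ℬ (ψ f)) (basicOpen_subset ψ hψ f) s) y hy =
      GrMod.locModMap ψ hψ v y
        (valAt 𝒜 ℳ n s (ProjectiveSpectrum.comap ψ hψ y) (notMem_comap ψ hψ y hy)) := rfl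

set_option maxHeartbeats 800000 in
theorem comapApp_bijective (hbij : Function.Bijective v) (n : ℤ) {d : ℕ} (hd : 0 < d) {f : A}
    (hf : f ∈ 𝒜 d) :
    Function.Bijective (GrMod.comapApp ψ hψ v hv n (ProjectiveSpectrum.basicOpen 𝒜 f)
        (ProjectiveSpectrum.basicOpen ℬ (ψ f)) (basicOpen_subset ψ hψ f)) := by
  have hψf : ψ f ∈ ℬ d := ψ.map_mem hf
  constructor
  · rw [injective_iff_map_eq_zero]
    intro s hs
    obtain ⟨L, q, m, hm, hq, hval⟩ := exists_global_frac 𝒜 ℳ n hd hf s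
    have hkill : ∀ y : ProjectiveSpectrum ℬ, ψ f ∉ y.asHomogeneousIdeal →
        ∃ t : B, t ∉ y.asHomogeneousIdeal ∧ t • v m = 0 := by
      intro y hy
      have h1 : valAt ℬ 𝒩 n (GrMod.comapApp ψ hψ v hv n (ProjectiveSpectrum.basicOpen 𝒜 f)
          (ProjectiveSpectrum.basicOpen ℬ (ψ f)) (basicOpen_subset ψ hψ f) s) y hy = 0 := by
        rw [hs]
        rfl
      rw [valAt_comapApp, hval _ (notMem_comap ψ hψ y hy), GrMod.locModMap_mk] at h1
      rw [← LocalizedModule.zero_mk 1, LocalizedModule.mk_eq] at h1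
      obtain ⟨t, ht⟩ := h1
      refine ⟨t.1, t.2, ?_⟩
      rw [one_smul, smul_zero, smul_zero] at ht
      exact ht
    obtain ⟨K, hK⟩ := exists_pow_smul_eq_zero ℬ 𝒩 hd hψf (hv q m hm) hkill
    have h3 : v (f ^ K • m) = 0 := by
      rw [LinearMap.map_smulₛₗ]
      change ψ (f ^ K) • v m = 0
      rw [map_pow, hK]
    have h4 : f ^ K • m = 0 := hbij.1 (h3.trans (map_zero v).symm)
    refine Subtype.ext (funext fun x => Subtype.ext ?_)
    have hx : f ∉ x.1.asHomogeneousIdeal := (ProjectiveSpectrum.mem_basicOpen 𝒜 f x.1).1 x.2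
    have h5 := hval x.1 hx
    change valAt 𝒜 ℳ n s x.1 hx = 0
    rw [h5, ← LocalizedModule.zero_mk 1, LocalizedModule.mk_eq]
    refine ⟨⟨f ^ K, pow_mem_primeCompl 𝒜 x.1 hx K⟩, ?_⟩
    rw [one_smul, smul_zero, smul_zero]
    exact h4
  · intro t
    obtain ⟨L, q, n', hn', hq, hval⟩ := exists_global_frac ℬ 𝒩 n hd hψf t
    obtain ⟨m, rfl⟩ := hbij.2 n'
    have h1 : v (decompose ℳ m q : M) = v m := by
      rw [← map_proj' ψ ℳ 𝒩 v hv m q]
      exact DirectSum.decompose_of_mem_same 𝒩 hn'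
    have hij : (q : ℤ) = ((L • d : ℕ) : ℤ) + n := by
      simp only [smul_eq_mul]
      push_cast
      rw [hq]
    refine ⟨fracPow 𝒜 ℳ n hf L (decompose ℳ m q) hij, ?_⟩
    refine Subtype.ext (funext fun ⟨y0, hyV⟩ => Subtype.ext ?_)
    obtain ⟨y, rfl⟩ : ∃ y : ProjectiveSpectrum ℬ, y = y0 := ⟨y0, rfl⟩
    have hy : ψ f ∉ y.asHomogeneousIdeal := (ProjectiveSpectrum.mem_basicOpen ℬ (ψ f) y).1 hyV
    change valAt ℬ 𝒩 n (GrMod.comapApp ψ hψ v hv n (ProjectiveSpectrum.basicOpen 𝒜 f)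
        (ProjectiveSpectrum.basicOpen ℬ (ψ f)) (basicOpen_subset ψ hψ f)
        (fracPow 𝒜 ℳ n hf L (decompose ℳ m q) hij)) y hy = valAt ℬ 𝒩 n t y hy
    refine (valAt_comapApp ψ hψ ℳ 𝒩 v hv n f _ y hy).trans ?_
    rw [fracPow_apply]
    refine (GrMod.locModMap_mk ψ hψ v y _ _).trans (Eq.trans ?_ (hval y hy).symm)
    rw [LocalizedModule.mk_eq]
    refine ⟨1, ?_⟩
    rw [one_smul, one_smul]
    change ψ f ^ L • v (decompose ℳ m q : M) = ψ (f ^ L) • v m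
    rw [h1, map_pow]

theorem isBasis_pos : Opens.IsBasis
    {V : (Proj 𝒜).Opens | ∃ (d : ℕ) (f : A), 0 < d ∧ f ∈ 𝒜 d ∧ V = Proj.basicOpen 𝒜 f} := by
  classical
  rw [Opens.isBasis_iff_nbhd]
  intro U y hy
  obtain ⟨_, ⟨f0, rfl⟩, hy0, h0Y⟩ := Opens.isBasis_iff_nbhd.mp (Proj.isBasis_basicOpen 𝒜) hy
  have hsup := Proj.basicOpen_eq_iSup_proj 𝒜 f0
  rw [hsup] at hy0
  obtain ⟨i, hi⟩ := Opens.mem_iSup.mp hy0
  obtain ⟨m, g, hm, hg, hgy⟩ : ∃ (m : ℕ) (g : A), 0 < m ∧ g ∈ 𝒜 m ∧ g ∉ y.asHomogeneousIdeal := by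
    by_contra! H
    refine y.not_irrelevant_le (fun z hz => ?_)
    rw [← DirectSum.sum_support_decompose 𝒜 z]
    refine y.asHomogeneousIdeal.toIdeal.sum_mem (fun k _ => ?_)
    by_cases hk0 : k = 0
    · subst hk0
      have h0 : ((DirectSum.decompose 𝒜 z 0 : 𝒜 0) : A) = 0 :=
        (HomogeneousIdeal.mem_irrelevant_iff 𝒜 z).mp hz
      rw [h0]
      exact zero_mem _
    · exact H k _ (Nat.pos_of_ne_zero hk0) (SetLike.coe_mem _)
  refine ⟨Proj.basicOpen 𝒜 (GradedRing.proj 𝒜 i f0 * g),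
    ⟨i + m, GradedRing.proj 𝒜 i f0 * g, by omega,
      SetLike.mul_mem_graded (show GradedRing.proj 𝒜 i f0 ∈ 𝒜 i from
        SetLike.coe_mem (DirectSum.decompose 𝒜 f0 i)) hg, rfl⟩, ?_, ?_⟩
  · rw [Proj.basicOpen_mul]
    exact ⟨hi, hgy⟩
  · rw [Proj.basicOpen_mul]
    refine inf_le_left.trans (le_trans ?_ h0Y)
    rw [hsup]
    exact le_iSup (fun i => Proj.basicOpen 𝒜 (GradedRing.proj 𝒜 i f0)) i

theorem isIso_comap (hbij : Function.Bijective v) (n : ℤ) :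
    IsIso (GrMod.comap (ℳ := ℳ) (𝒩 := 𝒩) ψ hψ v hv n) := by
  apply Groth.Agent.Helper13.LocFree.isIso_of_app_bijective_of_isBasis _ (isBasis_pos (𝒜 := 𝒜))
  rintro V ⟨d, f, hd, hf, rfl⟩
  exact comapApp_bijective ψ hψ ℳ 𝒩 v hv hbij n hd hf

end Groth.Agent.Helper6.GrModComap
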