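import Mathlib
import Groth.Agent.Lib.Helper6.GrModComapA

/-!
# Graded pushouts: algebra for the base change of twisting sheaves
-/

set_option autoImplicit false
set_option linter.style.haveILetI false
set_option linter.unusedSectionVars false
universe u
open DirectSum TensorProduct

namespace Groth.Agent.Helper6.BCTw

section Xi

/-- the canonical additive map `A → OU ⊗[OV] FV`, `r • φ b ↦ ρU r • (1 ⊗ tV b)`, for `A = R ⊗[R'] B`. -/
theorem exists_Xi
    {R' R B A : Type u} [CommRing R'] [CommRing R] [Algebra R' R] [CommRing B] [Algebra R' B]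
    [CommRing A] [Algebra R A] [Algebra R' A] [IsScalarTower R' R A] [Algebra B A]
    [IsScalarTower R' B A] [Algebra.IsPushout R' R B A]
    {OV OU : Type u} [CommRing OV] [CommRing OU] [Algebra OV OU]
    (ρV : R' →+* OV) (ρU : R →+* OU)
    (hρ : ∀ r', algebraMap OV OU (ρV r') = ρU (algebraMap R' R r'))
    {FV : Type u} [AddCommGroup FV] [Module OV FV]
    (tV : B →+ FV) (htV : ∀ (r' : R') (b : B), tV (r' • b) = ρV r' • tV b) :
    ∃ Ξ : A →+ OU ⊗[OV] FV, (∀ b, Ξ (algebraMap B A b) = (1 : OU) ⊗ₜ[OV] tV b) ∧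
      (∀ (r : R) (a : A), Ξ (r • a) = ρU r • Ξ a) := by
  letI mR : Module R (OU ⊗[OV] FV) := Module.compHom _ ρU
  letI mR' : Module R' (OU ⊗[OV] FV) := Module.compHom _ (ρU.comp (algebraMap R' R))
  haveI : IsScalarTower R' R (OU ⊗[OV] FV) := ⟨fun r' r t => by
    show ρU (r' • r) • t = ρU (algebraMap R' R r') • (ρU r • t)
    rw [Algebra.smul_def, map_mul, mul_smul]⟩
  let g : B →ₗ[R'] OU ⊗[OV] FV :=
    { toFun := fun b => (1 : OU) ⊗ₜ[OV] tV b
      map_add' := fun b b' => by rw [map_add, TensorProduct.tmul_add]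
      map_smul' := fun r' b => by
        show (1 : OU) ⊗ₜ[OV] tV (r' • b) = ρU (algebraMap R' R r') • ((1 : OU) ⊗ₜ[OV] tV b)
        rw [htV, ← hρ, ← TensorProduct.smul_tmul, TensorProduct.smul_tmul', Algebra.smul_def,
          smul_eq_mul] }
  have hbc : IsBaseChange R (IsScalarTower.toAlgHom R' B A).toLinearMap := Algebra.IsPushout.out
  refine ⟨(hbc.lift g).toAddMonoidHom, fun b => ?_, fun r a => ?_⟩
  · exact hbc.lift_eq g b
  · exact (hbc.lift g).map_smul r a

end Xi

variable {R R' A B : Type u} [CommRing R'] [CommRing R] [Algebra R' R]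
    [CommRing B] [Algebra R' B] (ℬ : ℕ → Submodule R' B) [GradedAlgebra ℬ]
    [CommRing A] [Algebra R A] [Algebra R' A] [IsScalarTower R' R A] (𝒜 : ℕ → Submodule R A)
    [GradedAlgebra 𝒜]
    [Algebra B A] [IsScalarTower R' B A] [Algebra.IsPushout R' R B A]
    (φ : ℬ →+*ᵍ 𝒜) (hφA : ∀ b : B, φ b = algebraMap B A b)

include hφA in
theorem ind_A {P : A → Prop} (h0 : P 0) (hφ : ∀ b : B, P (φ b))
    (hs : ∀ (r : R) (a : A), P a → P (r • a))
    (ha : ∀ a a', P a → P a' → P (a + a')) (a : A) : P a := by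
  have hbc : IsBaseChange R (IsScalarTower.toAlgHom R' B A).toLinearMap := Algebra.IsPushout.out
  refine hbc.inductionOn a P h0 (fun b => ?_) hs ha
  have e : (IsScalarTower.toAlgHom R' B A).toLinearMap b = φ b := (hφA b).symm
  rw [e]
  exact hφ b

omit [Algebra R' A] [IsScalarTower R' R A] [IsScalarTower R' B A] [Algebra.IsPushout R' R B A]
  [Algebra R' R] [Algebra B A] in
/-- `φ` as a semilinear map of modules. -/
def phiSl : B →ₛₗ[φ.toRingHom] A where
  toFun := φ
  map_add' := map_add φ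
  map_smul' b b' := map_mul φ b b'

omit [Algebra R' A] [IsScalarTower R' R A] [IsScalarTower R' B A] [Algebra.IsPushout R' R B A]
  [Algebra R' R] [Algebra B A] in
theorem phiSl_apply (b : B) : phiSl ℬ 𝒜 φ b = φ b := rfl

omit [Algebra R' A] [IsScalarTower R' R A] [IsScalarTower R' B A] [Algebra.IsPushout R' R B A]
  [Algebra R' R] [Algebra B A] in
theorem phiSl_mem (i : ℕ) (b : B) (hb : b ∈ ℬ i) : phiSl ℬ 𝒜 φ b ∈ 𝒜 i := φ.map_mem hb

omit [Algebra R' A] [IsScalarTower R' R A] [IsScalarTower R' B A] [Algebra.IsPushout R' R B A]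
  [Algebra R' R] [Algebra B A] in
theorem proj_phi (m : ℕ) (b : B) :
    GradedAlgebra.proj 𝒜 m (φ b) = φ (GradedAlgebra.proj ℬ m b) := by
  rw [GradedAlgebra.proj_apply, GradedAlgebra.proj_apply]
  exact Groth.Agent.Helper6.GrModComap.map_proj' φ ℬ 𝒜 (phiSl ℬ 𝒜 φ) (phiSl_mem ℬ 𝒜 φ) b m

end Groth.Agent.Helper6.BCTw
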