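import Mathlib
import Groth.Prelude.Def_GrMod3
import Groth.Agent.Lib.Helper6.GrModFracA

/-!
# Dehomogenization with respect to a degree-one element `g`

For a graded ring `𝒜` and `g ∈ 𝒜 1`: the ring hom `eps : A → Γ(Proj 𝒜, D₊(g))`, `a ↦ Σ a_i / g^i`,
and for a graded module `ℳ` the additive map `D : M → Γ(D₊(g), M(n)~)`,
`m ↦ Σ m_q / g^(q-n)`.  `D` is `eps`-semilinear, surjective, with kernel `(g - 1) M`.
-/

set_option autoImplicit false
set_option linter.style.haveILetI false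
set_option linter.unusedSectionVars false
universe u
open DirectSum CategoryTheory CategoryTheory.Limits AlgebraicGeometry Opposite TopologicalSpace

namespace Groth.Agent.Helper6.Dehom

open Groth.Agent.Helper6.GrModFrac

section General

theorem loc_mk_eq_of_mul_eq {R : Type*} [CommRing R] {S : Submonoid R} (a b : R) (s t : S)
    (h : (t : R) * a = (s : R) * b) : Localization.mk a s = Localization.mk b t :=
  Localization.mk_eq_mk_iff.mpr (Localization.r_of_eq h)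

theorem mk_eq_of_smul_eq {R M : Type*} [CommRing R] [AddCommGroup M] [Module R M] {S : Submonoid R}
    (m m' : M) (s s' : S) (h : (s' : R) • m = (s : R) • m') :
    LocalizedModule.mk m s = LocalizedModule.mk m' s' :=
  LocalizedModule.mk_eq.mpr ⟨1, by simpa [Submonoid.smul_def] using h⟩

theorem mk_add_same {R M : Type*} [CommRing R] [AddCommGroup M] [Module R M] {S : Submonoid R}
    (m m' : M) (s : S) :
    LocalizedModule.mk (m + m') s = LocalizedModule.mk m s + LocalizedModule.mk m' s := by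
  rw [LocalizedModule.mk_add_mk, LocalizedModule.mk_eq]
  refine ⟨1, ?_⟩
  simp only [one_smul, smul_add, mul_smul]

end General

variable {A σ : Type u} [CommRing A] [SetLike σ A] [AddSubgroupClass σ A] (𝒜 : ℕ → σ) [GradedRing 𝒜]
variable {g : A} (hg : g ∈ 𝒜 1)

theorem mem_smul_one {i : ℕ} {a : A} (ha : a ∈ 𝒜 i) : a ∈ 𝒜 (i • 1) := by
  rwa [smul_eq_mul, mul_one]

/-- `a / g^i` for `a ∈ 𝒜 i`. -/
noncomputable def dhFun (i : ℕ) (a : A) (ha : a ∈ 𝒜 i) : HomogeneousLocalization.Away 𝒜 g :=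
  HomogeneousLocalization.Away.mk 𝒜 hg i a (mem_smul_one 𝒜 ha)

theorem val_dhFun (i : ℕ) (a : A) (ha : a ∈ 𝒜 i) :
    (dhFun 𝒜 hg i a ha).val = Localization.mk a (⟨g ^ i, ⟨i, rfl⟩⟩ : Submonoid.powers g) := rfl

/-- `a ↦ a / g^i` on the degree `i` piece. -/
noncomputable def dhPiece (i : ℕ) : 𝒜 i →+ HomogeneousLocalization.Away 𝒜 g where
  toFun a := dhFun 𝒜 hg i a.1 a.2
  map_zero' := by
    apply HomogeneousLocalization.val_injective
    rw [val_dhFun, HomogeneousLocalization.val_zero, ZeroMemClass.coe_zero]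
    exact Localization.mk_zero _
  map_add' a b := by
    apply HomogeneousLocalization.val_injective
    rw [HomogeneousLocalization.val_add, val_dhFun, val_dhFun, val_dhFun, Localization.add_mk_self,
      AddMemClass.coe_add]

theorem dhPiece_apply (i : ℕ) (a : 𝒜 i) : dhPiece 𝒜 hg i a = dhFun 𝒜 hg i a.1 a.2 := rfl

theorem dhPiece_one : dhPiece 𝒜 hg 0 (GradedMonoid.GOne.one (A := fun i => ↥(𝒜 i))) = 1 := by
  apply HomogeneousLocalization.val_injective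
  rw [dhPiece_apply, val_dhFun, HomogeneousLocalization.val_one, ← Localization.mk_one]
  refine loc_mk_eq_of_mul_eq _ _ _ _ ?_
  simp

theorem dhPiece_mul {i j : ℕ} (ai : 𝒜 i) (aj : 𝒜 j) :
    dhPiece 𝒜 hg (i + j) (GradedMonoid.GMul.mul (A := fun i => ↥(𝒜 i)) ai aj) =
      dhPiece 𝒜 hg i ai * dhPiece 𝒜 hg j aj := by
  apply HomogeneousLocalization.val_injective
  rw [HomogeneousLocalization.val_mul, dhPiece_apply, dhPiece_apply, dhPiece_apply, val_dhFun,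
    val_dhFun, val_dhFun, Localization.mk_mul]
  refine loc_mk_eq_of_mul_eq _ _ _ _ ?_
  simp only [SetLike.coe_gMul, Submonoid.coe_mul, pow_add]

/-- the dehomogenization ring hom `A → A_(g)`, `a ↦ Σ a_i / g^i`. -/
noncomputable def dh : A →+* HomogeneousLocalization.Away 𝒜 g :=
  (DirectSum.toSemiring (dhPiece 𝒜 hg) (dhPiece_one 𝒜 hg) (dhPiece_mul 𝒜 hg)).comp
    (DirectSum.decomposeRingEquiv 𝒜).toRingHom

theorem dh_of_mem {i : ℕ} {a : A} (ha : a ∈ 𝒜 i) : dh 𝒜 hg a = dhFun 𝒜 hg i a ha := by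
  unfold dh
  rw [RingHom.comp_apply]
  show DirectSum.toSemiring _ _ _ (DirectSum.decompose 𝒜 a) = _
  rw [DirectSum.decompose_of_mem 𝒜 ha, DirectSum.toSemiring_of]
  rfl

theorem dh_self : dh 𝒜 hg g = 1 := by
  rw [dh_of_mem 𝒜 hg hg]
  apply HomogeneousLocalization.val_injective
  rw [val_dhFun, HomogeneousLocalization.val_one, ← Localization.mk_one]
  refine loc_mk_eq_of_mul_eq _ _ _ _ ?_
  simp

theorem dh_surjective : Function.Surjective (dh 𝒜 hg) := by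
  intro x
  obtain ⟨k, a, ha, rfl⟩ := HomogeneousLocalization.Away.mk_surjective 𝒜 hg x
  have ha' : a ∈ 𝒜 k := by rwa [smul_eq_mul, mul_one] at ha
  exact ⟨a, dh_of_mem 𝒜 hg ha'⟩

/-- the dehomogenization ring hom to the sections over `D₊(g)`. -/
noncomputable def eps : A →+* Γ(Proj 𝒜, Proj.basicOpen 𝒜 g) :=
  (Proj.awayToSection 𝒜 g).hom.comp (dh 𝒜 hg)

theorem eps_apply (a : A) : eps 𝒜 hg a = (Proj.awayToSection 𝒜 g).hom (dh 𝒜 hg a) := rfl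

theorem eps_self : eps 𝒜 hg g = 1 := by
  rw [eps_apply, dh_self, map_one]

theorem eps_surjective : Function.Surjective (eps 𝒜 hg) := by
  intro r
  have h1 : r = (Proj.awayToSection 𝒜 g) ((Proj.basicOpenIsoAway 𝒜 g hg one_pos).inv r) := by
    have := (Proj.basicOpenIsoAway 𝒜 g hg one_pos).inv_hom_id_apply r
    rw [Proj.basicOpenIsoAway_hom] at this
    exact this.symm
  obtain ⟨a, ha⟩ := dh_surjective 𝒜 hg ((Proj.basicOpenIsoAway 𝒜 g hg one_pos).inv r)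
  refine ⟨a, ?_⟩
  rw [eps_apply, ha]
  exact h1.symm

/-- `eps a` as a section of the prelude's structure sheaf. -/
noncomputable def epsO (a : A) : GrTwist.O (𝒜 := 𝒜) (op (ProjectiveSpectrum.basicOpen 𝒜 g)) :=
  eps 𝒜 hg a

theorem epsO_val {i : ℕ} {a : A} (ha : a ∈ 𝒜 i) (x : ProjectiveSpectrum 𝒜)
    (hx : g ∉ x.asHomogeneousIdeal) :
    ((epsO 𝒜 hg a).1 ⟨x, (ProjectiveSpectrum.mem_basicOpen 𝒜 g x).2 hx⟩ : GrTwist.A0 𝒜 x).val =
      (Localization.mk a ⟨g ^ i, pow_mem_primeCompl 𝒜 x hx i⟩ : GrTwist.Loc 𝒜 x) := by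
  refine (ProjectiveSpectrum.Proj.awayToSection_apply (𝒜 := 𝒜) g (dh 𝒜 hg a)
    ⟨x, (ProjectiveSpectrum.mem_basicOpen 𝒜 g x).2 hx⟩).trans ?_
  rw [dh_of_mem 𝒜 hg ha, val_dhFun, Localization.mk_eq_mk', IsLocalization.map_mk',
    ← Localization.mk_eq_mk']
  rfl

/-! ### modules -/

variable {M τ : Type u} [AddCommGroup M] [Module A M] [SetLike τ M] [AddSubgroupClass τ M]
  (ℳ : ℕ → τ) [DirectSum.Decomposition ℳ] [SetLike.GradedSMul 𝒜 ℳ] (n : ℤ)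

include hg in
theorem pow_smul_mem (k : ℕ) {q : ℕ} {m : M} (hm : m ∈ ℳ q) : g ^ k • m ∈ ℳ (k + q) := by
  have h : g ^ k • m ∈ ℳ (k • 1 + q) :=
    SetLike.GradedSMul.smul_mem (SetLike.pow_mem_graded k hg) hm
  rwa [smul_eq_mul, mul_one] at h

theorem deg_eq (q : ℕ) : ((n.toNat + q : ℕ) : ℤ) = (((q + (-n).toNat) • 1 : ℕ) : ℤ) + n := by
  simp only [smul_eq_mul, mul_one]
  push_cast
  omega

theorem sect_ext {f : A} (s t : GrMod.sect 𝒜 ℳ n (op (ProjectiveSpectrum.basicOpen 𝒜 f)))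
    (h : ∀ y hy, valAt 𝒜 ℳ n s y hy = valAt 𝒜 ℳ n t y hy) : s = t :=
  Subtype.ext (funext fun x => Subtype.ext
    (h x.1 ((ProjectiveSpectrum.mem_basicOpen 𝒜 f x.1).1 x.2)))

theorem valAt_smul {f : A} (r : GrTwist.O (𝒜 := 𝒜) (op (ProjectiveSpectrum.basicOpen 𝒜 f)))
    (s : GrMod.sect 𝒜 ℳ n (op (ProjectiveSpectrum.basicOpen 𝒜 f)))
    (y : ProjectiveSpectrum 𝒜) (hy : f ∉ y.asHomogeneousIdeal) :
    valAt 𝒜 ℳ n (r • s) y hy =
      (r.1 ⟨y, (ProjectiveSpectrum.mem_basicOpen 𝒜 f y).2 hy⟩ : GrTwist.A0 𝒜 y).val •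
        valAt 𝒜 ℳ n s y hy :=
  GrMod.coe_smul_val n y _ _

/-- `m ↦ g^{n⁺} m / g^{q + n⁻}` on `ℳ q`. -/
noncomputable def Dfun (q : ℕ) (m : M) (hm : m ∈ ℳ q) :
    GrMod.sect 𝒜 ℳ n (op (ProjectiveSpectrum.basicOpen 𝒜 g)) :=
  fracPow 𝒜 ℳ n hg (q + (-n).toNat)
    (⟨g ^ n.toNat • m, pow_smul_mem 𝒜 hg ℳ n.toNat hm⟩ : ℳ (n.toNat + q)) (deg_eq n q)

theorem valAt_Dfun (q : ℕ) (m : M) (hm : m ∈ ℳ q) (y : ProjectiveSpectrum 𝒜)
    (hy : g ∉ y.asHomogeneousIdeal) :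
    valAt 𝒜 ℳ n (Dfun 𝒜 hg ℳ n q m hm) y hy =
      LocalizedModule.mk (g ^ n.toNat • m)
        ⟨g ^ (q + (-n).toNat), pow_mem_primeCompl 𝒜 y hy _⟩ := rfl

noncomputable def Dpiece (q : ℕ) :
    ℳ q →+ GrMod.sect 𝒜 ℳ n (op (ProjectiveSpectrum.basicOpen 𝒜 g)) where
  toFun m := Dfun 𝒜 hg ℳ n q m.1 m.2
  map_zero' := by
    refine sect_ext 𝒜 ℳ n _ _ (fun y hy => ?_)
    rw [valAt_Dfun, ZeroMemClass.coe_zero, smul_zero, LocalizedModule.zero_mk]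
    rfl
  map_add' a b := by
    refine sect_ext 𝒜 ℳ n _ _ (fun y hy => ?_)
    have h : valAt 𝒜 ℳ n (Dfun 𝒜 hg ℳ n q a.1 a.2 + Dfun 𝒜 hg ℳ n q b.1 b.2) y hy =
        valAt 𝒜 ℳ n (Dfun 𝒜 hg ℳ n q a.1 a.2) y hy +
          valAt 𝒜 ℳ n (Dfun 𝒜 hg ℳ n q b.1 b.2) y hy := rfl
    rw [h, valAt_Dfun, valAt_Dfun, valAt_Dfun, AddMemClass.coe_add, smul_add]
    exact mk_add_same _ _ _

theorem Dpiece_apply (q : ℕ) (m : ℳ q) : Dpiece 𝒜 hg ℳ n q m = Dfun 𝒜 hg ℳ n q m.1 m.2 := rfl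

/-- the dehomogenization `M → Γ(D₊(g), M(n)~)`. -/
noncomputable def D : M →+ GrMod.sect 𝒜 ℳ n (op (ProjectiveSpectrum.basicOpen 𝒜 g)) :=
  (DirectSum.toAddMonoid (Dpiece 𝒜 hg ℳ n)).comp (DirectSum.decomposeAddEquiv ℳ).toAddMonoidHom

theorem D_of_mem {q : ℕ} {m : M} (hm : m ∈ ℳ q) : D 𝒜 hg ℳ n m = Dfun 𝒜 hg ℳ n q m hm := by
  unfold D
  rw [AddMonoidHom.comp_apply]
  show DirectSum.toAddMonoid _ (DirectSum.decompose ℳ m) = _
  rw [DirectSum.decompose_of_mem ℳ hm, DirectSum.toAddMonoid_of]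
  rfl

theorem D_smul (a : A) (m : M) :
    D 𝒜 hg ℳ n (a • m) = epsO 𝒜 hg a • D 𝒜 hg ℳ n m := by
  refine DirectSum.Decomposition.inductionOn 𝒜
    (motive := fun a => D 𝒜 hg ℳ n (a • m) = epsO 𝒜 hg a • D 𝒜 hg ℳ n m) ?_ ?_ ?_ a
  · have h0 : epsO 𝒜 hg (0 : A) = 0 := map_zero (eps 𝒜 hg)
    rw [zero_smul, map_zero, h0, zero_smul]
  · intro p a
    refine DirectSum.Decomposition.inductionOn ℳ
      (motive := fun m => D 𝒜 hg ℳ n ((a : A) • m) = epsO 𝒜 hg (a : A) • D 𝒜 hg ℳ n m) ?_ ?_ ?_ m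
    · rw [smul_zero, map_zero, smul_zero]
    · intro q m
      have ham : (a : A) • (m : M) ∈ ℳ (p + q) := SetLike.GradedSMul.smul_mem a.2 m.2
      rw [D_of_mem 𝒜 hg ℳ n ham, D_of_mem 𝒜 hg ℳ n m.2]
      refine sect_ext 𝒜 ℳ n _ _ (fun y hy => ?_)
      rw [valAt_smul, epsO_val 𝒜 hg a.2 y hy, valAt_Dfun, valAt_Dfun, LocalizedModule.mk_smul_mk]
      refine mk_eq_of_smul_eq _ _ _ _ ?_
      show (g ^ p * g ^ (q + (-n).toNat)) • g ^ n.toNat • (a : A) • (m : M) =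
        g ^ (p + q + (-n).toNat) • (a : A) • g ^ n.toNat • (m : M)
      rw [← pow_add, add_assoc, smul_comm (g ^ n.toNat) (a : A) (m : M)]
    · intro m m' h h'
      rw [smul_add, map_add, map_add, h, h', smul_add]
  · intro a a' h h'
    have hadd : epsO 𝒜 hg (a + a') = epsO 𝒜 hg a + epsO 𝒜 hg a' := map_add (eps 𝒜 hg) a a'
    rw [add_smul, map_add, h, h', hadd, add_smul]

theorem D_surjective : Function.Surjective (D 𝒜 hg ℳ n) := by
  intro s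
  obtain ⟨L, q, m, hm, hq, hval⟩ := exists_global_frac 𝒜 ℳ n one_pos hg s
  refine ⟨m, ?_⟩
  rw [D_of_mem 𝒜 hg ℳ n hm]
  refine sect_ext 𝒜 ℳ n _ _ (fun y hy => ?_)
  rw [hval y hy, valAt_Dfun]
  refine mk_eq_of_smul_eq _ _ _ _ ?_
  show g ^ L • g ^ n.toNat • m = g ^ (q + (-n).toNat) • m
  have e : q + (-n).toNat = L + n.toNat := by
    push_cast at hq
    omega
  rw [e, pow_add, mul_smul]

/-- the submodule `(g - 1) M`. -/
def K1 (g : A) (M : Type u) [AddCommGroup M] [Module A M] : Submodule A M :=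
  Submodule.span A (Set.range fun z : M => g • z - z)

omit [GradedRing 𝒜] in
theorem pow_smul_sub_mem (g : A) (k : ℕ) (z : M) : g ^ k • z - z ∈ K1 g M := by
  induction k with
  | zero => simp
  | succ k ih =>
    have : g ^ (k + 1) • z - z = (g • (g ^ k • z) - g ^ k • z) + (g ^ k • z - z) := by
      rw [pow_succ', mul_smul]; abel
    rw [this]
    exact add_mem (Submodule.subset_span ⟨_, rfl⟩) ih

include hg in
theorem exists_homog_rep (m : M) : ∃ (Q : ℕ) (m' : M), m' ∈ ℳ Q ∧ m - m' ∈ K1 g M := by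
  refine DirectSum.Decomposition.inductionOn ℳ
    (motive := fun m => ∃ (Q : ℕ) (m' : M), m' ∈ ℳ Q ∧ m - m' ∈ K1 g M) ?_ ?_ ?_ m
  · exact ⟨0, 0, zero_mem _, by simp⟩
  · intro i m
    exact ⟨i, m, m.2, by simp⟩
  · rintro m₁ m₂ ⟨Q₁, m₁', h₁, k₁⟩ ⟨Q₂, m₂', h₂, k₂⟩
    refine ⟨Q₂ + Q₁, g ^ Q₂ • m₁' + g ^ Q₁ • m₂', add_mem (pow_smul_mem 𝒜 hg ℳ Q₂ h₁) ?_, ?_⟩
    · have := pow_smul_mem 𝒜 hg ℳ Q₁ h₂
      rwa [add_comm] at this
    · have e : m₁ + m₂ - (g ^ Q₂ • m₁' + g ^ Q₁ • m₂') =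
          (m₁ - m₁') + (m₂ - m₂') - (g ^ Q₂ • m₁' - m₁') - (g ^ Q₁ • m₂' - m₂') := by abel
      rw [e]
      exact sub_mem (sub_mem (add_mem k₁ k₂) (pow_smul_sub_mem g Q₂ m₁'))
        (pow_smul_sub_mem g Q₁ m₂')

theorem D_eq_zero_of_mem_K1 {m : M} (hm : m ∈ K1 g M) : D 𝒜 hg ℳ n m = 0 := by
  induction hm using Submodule.span_induction with
  | mem x hx =>
    obtain ⟨z, rfl⟩ := hx
    have h1 : epsO 𝒜 hg g = 1 := eps_self 𝒜 hg
    rw [map_sub, D_smul, h1, one_smul, sub_self]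
  | zero => exact map_zero _
  | add x y _ _ hx hy => rw [map_add, hx, hy, add_zero]
  | smul a x _ hx => rw [D_smul, hx, smul_zero]

theorem mem_K1_of_D_eq_zero {m : M} (h : D 𝒜 hg ℳ n m = 0) : m ∈ K1 g M := by
  obtain ⟨Q, m', hm', hk⟩ := exists_homog_rep 𝒜 hg ℳ m
  have h' : D 𝒜 hg ℳ n m' = 0 := by
    have e0 : m' = m - (m - m') := by abel
    rw [e0, map_sub, h, D_eq_zero_of_mem_K1 𝒜 hg ℳ n hk]
    exact sub_zero (0 : GrMod.sect 𝒜 ℳ n (op (ProjectiveSpectrum.basicOpen 𝒜 g)))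
  have hmem : g ^ n.toNat • m' ∈ ℳ (n.toNat + Q) := pow_smul_mem 𝒜 hg ℳ n.toNat hm'
  obtain ⟨N, hN⟩ := exists_pow_smul_eq_zero 𝒜 ℳ one_pos hg hmem (fun x hx => by
    have hv : valAt 𝒜 ℳ n (D 𝒜 hg ℳ n m') x hx = 0 := by rw [h']; rfl
    rw [D_of_mem 𝒜 hg ℳ n hm', valAt_Dfun, ← LocalizedModule.zero_mk 1, LocalizedModule.mk_eq] at hv
    obtain ⟨t, ht⟩ := hv
    refine ⟨t.1, t.2, ?_⟩
    rw [one_smul, smul_zero, smul_zero] at ht
    exact ht)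
  have e1 : m' = -(g ^ (N + n.toNat) • m' - m') := by
    rw [pow_add, mul_smul, hN, zero_sub, neg_neg]
  have hm'K : m' ∈ K1 g M := by
    rw [e1]
    exact neg_mem (pow_smul_sub_mem g _ m')
  have e2 : m = (m - m') + m' := by abel
  rw [e2]
  exact add_mem hk hm'K

end Groth.Agent.Helper6.Dehom

namespace Groth.Agent.Helper6.Dehom

variable {A σ : Type u} [CommRing A] [SetLike σ A] [AddSubgroupClass σ A] {𝒜 : ℕ → σ} [GradedRing 𝒜]
  {B σ' : Type u} [CommRing B] [SetLike σ' B] [AddSubgroupClass σ' B] {ℬ : ℕ → σ'} [GradedRing ℬ]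
  (ψ : 𝒜 →+*ᵍ ℬ) {g : A} (hg : g ∈ 𝒜 1)

theorem map_dh (a : A) :
    HomogeneousLocalization.Away.map ψ g (dh 𝒜 hg a) = dh ℬ (ψ.map_mem hg) (ψ a) := by
  refine DirectSum.Decomposition.inductionOn 𝒜
    (motive := fun a => HomogeneousLocalization.Away.map ψ g (dh 𝒜 hg a) =
      dh ℬ (ψ.map_mem hg) (ψ a)) ?_ ?_ ?_ a
  · rw [map_zero, map_zero, map_zero, map_zero]
  · intro i a
    have hψa : ψ (a : A) ∈ ℬ i := ψ.map_mem a.2
    rw [dh_of_mem 𝒜 hg a.2, dh_of_mem ℬ (ψ.map_mem hg) hψa]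
    exact HomogeneousLocalization.Away.map_mk ψ g hg i (a : A) _
  · intro a a' h h'
    rw [map_add, map_add, map_add, map_add, h, h']

end Groth.Agent.Helper6.Dehom
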