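import Mathlib
import Groth.Prelude.Def_GrMod3
import Groth.Agent.Lib.Helper6.GrModFracA
import Groth.Agent.Lib.Helper6.DehomA

/-!
# Sections over `D₊(f)` built from homogeneous components (graded algebras over a base ring)

For `𝒜 : ℕ → Submodule R A`, `f ∈ 𝒜 d`, `0 < d`: `rho : R →+* Γ(Proj 𝒜, D₊ f)`,
`cfun k : A →+ Γ(Proj 𝒜, D₊ f)`, `a ↦ a_{kd}/f^k`, and
`tfun k m h : A →+ Γ(D₊ f, A(n)~)`, `a ↦ a_m / f^k` (`m = kd + n`).
-/

set_option autoImplicit false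
set_option linter.style.haveILetI false
set_option linter.unusedSectionVars false
universe u
open DirectSum CategoryTheory CategoryTheory.Limits AlgebraicGeometry Opposite TopologicalSpace

namespace Groth.Agent.Helper6.BCTw

open Groth.Agent.Helper6.GrModFrac Groth.Agent.Helper6.Dehom

variable {R A : Type u} [CommRing R] [CommRing A] [Algebra R A] (𝒜 : ℕ → Submodule R A)
  [GradedAlgebra 𝒜] {f : A} {d : ℕ} (hf : f ∈ 𝒜 d)

theorem proj_mem (m : ℕ) (a : A) : GradedAlgebra.proj 𝒜 m a ∈ 𝒜 m := by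
  rw [GradedAlgebra.proj_apply]
  exact SetLike.coe_mem _

theorem proj_of_mem {m : ℕ} {a : A} (ha : a ∈ 𝒜 m) : GradedAlgebra.proj 𝒜 m a = a := by
  rw [GradedAlgebra.proj_apply]
  exact DirectSum.decompose_of_mem_same 𝒜 ha

theorem proj_mul_left {j : ℕ} {a : A} (ha : a ∈ 𝒜 j) (b : A) (i : ℕ) :
    GradedAlgebra.proj 𝒜 (j + i) (a * b) = a * GradedAlgebra.proj 𝒜 i b := by
  rw [GradedAlgebra.proj_apply, GradedAlgebra.proj_apply]
  exact proj_smul_left 𝒜 𝒜 ha b i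

/-! ### the ring of sections -/

/-- `a ↦ a_{kd} / f^k`, to `A_(f)`. -/
noncomputable def cAway (k : ℕ) : A →+ HomogeneousLocalization.Away 𝒜 f where
  toFun a := HomogeneousLocalization.Away.mk 𝒜 hf k (GradedAlgebra.proj 𝒜 (k • d) a)
    (proj_mem 𝒜 _ a)
  map_zero' := by
    apply HomogeneousLocalization.val_injective
    rw [HomogeneousLocalization.Away.val_mk, HomogeneousLocalization.val_zero, map_zero]
    exact Localization.mk_zero _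
  map_add' a b := by
    apply HomogeneousLocalization.val_injective
    rw [HomogeneousLocalization.val_add, HomogeneousLocalization.Away.val_mk,
      HomogeneousLocalization.Away.val_mk, HomogeneousLocalization.Away.val_mk,
      Localization.add_mk_self, map_add]

theorem val_cAway (k : ℕ) (a : A) :
    (cAway 𝒜 hf k a).val =
      Localization.mk (GradedAlgebra.proj 𝒜 (k • d) a) (⟨f ^ k, ⟨k, rfl⟩⟩ : Submonoid.powers f) :=
  rfl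

variable (f) in
/-- `r ↦ r / 1`, to `A_(f)`. -/
noncomputable def rhoAway : R →+* HomogeneousLocalization.Away 𝒜 f :=
  (HomogeneousLocalization.fromZeroRingHom 𝒜 _).comp (algebraMap R (𝒜 0))

theorem val_rhoAway (r : R) :
    (rhoAway 𝒜 f r).val = Localization.mk (algebraMap R A r) (1 : Submonoid.powers f) := by
  rfl

theorem cAway_smul (k : ℕ) (r : R) (a : A) :
    cAway 𝒜 hf k (r • a) = rhoAway 𝒜 f r * cAway 𝒜 hf k a := by
  apply HomogeneousLocalization.val_injective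
  rw [HomogeneousLocalization.val_mul, val_cAway, val_cAway, val_rhoAway, Localization.mk_mul,
    map_smul]
  refine loc_mk_eq_of_mul_eq _ _ _ _ ?_
  simp only [one_mul, Algebra.smul_def]

theorem rhoAway_eq_cAway (r : R) : rhoAway 𝒜 f r = cAway 𝒜 hf 0 (algebraMap R A r) := by
  apply HomogeneousLocalization.val_injective
  have h0 : algebraMap R A r ∈ 𝒜 (0 • d) := by
    rw [zero_smul]
    exact SetLike.algebraMap_mem_graded 𝒜 r
  rw [val_cAway, val_rhoAway, proj_of_mem 𝒜 h0]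
  refine loc_mk_eq_of_mul_eq _ _ _ _ ?_
  simp

variable (f) in
/-- `r ↦ r / 1` as a section over `D₊(f)`. -/
noncomputable def rho : R →+* Γ(Proj 𝒜, Proj.basicOpen 𝒜 f) :=
  (Proj.awayToSection 𝒜 f).hom.comp (rhoAway 𝒜 f)

/-- `a ↦ a_{kd} / f^k` as a section over `D₊(f)`. -/
noncomputable def cfun (k : ℕ) : A →+ Γ(Proj 𝒜, Proj.basicOpen 𝒜 f) :=
  ((Proj.awayToSection 𝒜 f).hom).toAddMonoidHom.comp (cAway 𝒜 hf k)

theorem cfun_apply (k : ℕ) (a : A) :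
    cfun 𝒜 hf k a = (Proj.awayToSection 𝒜 f).hom (cAway 𝒜 hf k a) := rfl

theorem rho_apply (r : R) : rho 𝒜 f r = (Proj.awayToSection 𝒜 f).hom (rhoAway 𝒜 f r) := rfl

theorem cfun_smul (k : ℕ) (r : R) (a : A) :
    cfun 𝒜 hf k (r • a) = rho 𝒜 f r * cfun 𝒜 hf k a := by
  rw [cfun_apply, cfun_apply, rho_apply, cAway_smul, map_mul]

theorem rho_eq_cfun (r : R) : rho 𝒜 f r = cfun 𝒜 hf 0 (algebraMap R A r) := by
  rw [cfun_apply, rho_apply, rhoAway_eq_cAway 𝒜 hf]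

include hf in
theorem cfun_surj (hd : 0 < d) (c : Γ(Proj 𝒜, Proj.basicOpen 𝒜 f)) :
    ∃ (k : ℕ) (a : A), a ∈ 𝒜 (k • d) ∧ c = cfun 𝒜 hf k a := by
  have h1 : c = (Proj.awayToSection 𝒜 f) ((Proj.basicOpenIsoAway 𝒜 f hf hd).inv c) := by
    have := (Proj.basicOpenIsoAway 𝒜 f hf hd).inv_hom_id_apply c
    rw [Proj.basicOpenIsoAway_hom] at this
    exact this.symm
  obtain ⟨k, a, ha, hka⟩ :=
    HomogeneousLocalization.Away.mk_surjective 𝒜 hf ((Proj.basicOpenIsoAway 𝒜 f hf hd).inv c)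
  refine ⟨k, a, ha, ?_⟩
  rw [cfun_apply]
  refine h1.trans ?_
  rw [← hka]
  congr 1
  apply HomogeneousLocalization.val_injective
  rw [val_cAway, HomogeneousLocalization.Away.val_mk, proj_of_mem 𝒜 ha]

/-- `cfun` as a section of the prelude's structure sheaf. -/
noncomputable def cfunO (k : ℕ) (a : A) :
    GrTwist.O (𝒜 := 𝒜) (op (ProjectiveSpectrum.basicOpen 𝒜 f)) := cfun 𝒜 hf k a

variable (f) in
/-- `rho` as a section of the prelude's structure sheaf. -/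
noncomputable def rhoO (r : R) :
    GrTwist.O (𝒜 := 𝒜) (op (ProjectiveSpectrum.basicOpen 𝒜 f)) := rho 𝒜 f r

theorem cfunO_val (k : ℕ) (a : A) (x : ProjectiveSpectrum 𝒜) (hx : f ∉ x.asHomogeneousIdeal) :
    ((cfunO 𝒜 hf k a).1 ⟨x, (ProjectiveSpectrum.mem_basicOpen 𝒜 f x).2 hx⟩ : GrTwist.A0 𝒜 x).val =
      (Localization.mk (GradedAlgebra.proj 𝒜 (k • d) a) ⟨f ^ k, pow_mem_primeCompl 𝒜 x hx k⟩ :
        GrTwist.Loc 𝒜 x) := by
  refine (ProjectiveSpectrum.Proj.awayToSection_apply (𝒜 := 𝒜) f (cAway 𝒜 hf k a)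
    ⟨x, (ProjectiveSpectrum.mem_basicOpen 𝒜 f x).2 hx⟩).trans ?_
  rw [val_cAway, Localization.mk_eq_mk', IsLocalization.map_mk', ← Localization.mk_eq_mk']
  rfl

theorem rhoO_val (r : R) (x : ProjectiveSpectrum 𝒜) (hx : f ∉ x.asHomogeneousIdeal) :
    ((rhoO 𝒜 f r).1 ⟨x, (ProjectiveSpectrum.mem_basicOpen 𝒜 f x).2 hx⟩ : GrTwist.A0 𝒜 x).val =
      (Localization.mk (algebraMap R A r) 1 : GrTwist.Loc 𝒜 x) := by
  refine (ProjectiveSpectrum.Proj.awayToSection_apply (𝒜 := 𝒜) f (rhoAway 𝒜 f r)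
    ⟨x, (ProjectiveSpectrum.mem_basicOpen 𝒜 f x).2 hx⟩).trans ?_
  rw [val_rhoAway, Localization.mk_eq_mk', IsLocalization.map_mk', ← Localization.mk_eq_mk']
  rfl

/-! ### the module `A(n)~` -/

variable (n : ℤ)

/-- `a ↦ a_m / f^k`, a section of `A(n)~` over `D₊(f)` (`m = kd + n`). -/
noncomputable def tfun (k m : ℕ) (h : (m : ℤ) = ((k • d : ℕ) : ℤ) + n) :
    A →+ GrMod.sect 𝒜 𝒜 n (op (ProjectiveSpectrum.basicOpen 𝒜 f)) where
  toFun a := fracPow 𝒜 𝒜 n hf k (⟨GradedAlgebra.proj 𝒜 m a, proj_mem 𝒜 m a⟩ : 𝒜 m) h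
  map_zero' := by
    refine sect_ext 𝒜 𝒜 n _ _ (fun y hy => ?_)
    rw [fracPow_apply]
    show LocalizedModule.mk (GradedAlgebra.proj 𝒜 m (0 : A)) _ = _
    rw [map_zero, LocalizedModule.zero_mk]
    rfl
  map_add' a b := by
    refine sect_ext 𝒜 𝒜 n _ _ (fun y hy => ?_)
    have h1 : valAt 𝒜 𝒜 n
        (fracPow 𝒜 𝒜 n hf k (⟨GradedAlgebra.proj 𝒜 m a, proj_mem 𝒜 m a⟩ : 𝒜 m) h +
          fracPow 𝒜 𝒜 n hf k (⟨GradedAlgebra.proj 𝒜 m b, proj_mem 𝒜 m b⟩ : 𝒜 m) h) y hy =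
        valAt 𝒜 𝒜 n (fracPow 𝒜 𝒜 n hf k (⟨GradedAlgebra.proj 𝒜 m a, proj_mem 𝒜 m a⟩ : 𝒜 m) h) y hy +
          valAt 𝒜 𝒜 n (fracPow 𝒜 𝒜 n hf k (⟨GradedAlgebra.proj 𝒜 m b, proj_mem 𝒜 m b⟩ : 𝒜 m) h) y hy :=
      rfl
    rw [h1, fracPow_apply, fracPow_apply, fracPow_apply]
    show LocalizedModule.mk (GradedAlgebra.proj 𝒜 m (a + b)) _ = _
    rw [map_add]
    exact mk_add_same _ _ _

theorem valAt_tfun (k m : ℕ) (h : (m : ℤ) = ((k • d : ℕ) : ℤ) + n) (a : A)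
    (y : ProjectiveSpectrum 𝒜) (hy : f ∉ y.asHomogeneousIdeal) :
    valAt 𝒜 𝒜 n (tfun 𝒜 hf n k m h a) y hy =
      LocalizedModule.mk (GradedAlgebra.proj 𝒜 m a) ⟨f ^ k, pow_mem_primeCompl 𝒜 y hy k⟩ := rfl

theorem tfun_smul (k m : ℕ) (h : (m : ℤ) = ((k • d : ℕ) : ℤ) + n) (r : R) (a : A) :
    tfun 𝒜 hf n k m h (r • a) = rhoO 𝒜 f r • tfun 𝒜 hf n k m h a := by
  refine sect_ext 𝒜 𝒜 n _ _ (fun y hy => ?_)
  rw [valAt_smul, rhoO_val 𝒜 r y hy, valAt_tfun, valAt_tfun, LocalizedModule.mk_smul_mk, map_smul]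
  refine mk_eq_of_smul_eq _ _ _ _ ?_
  rw [algebraMap_smul, one_mul]

include hf in
theorem tfun_surj (hd : 0 < d) (s : GrMod.sect 𝒜 𝒜 n (op (ProjectiveSpectrum.basicOpen 𝒜 f))) :
    ∃ (k m : ℕ) (h : (m : ℤ) = ((k • d : ℕ) : ℤ) + n) (a : A), a ∈ 𝒜 m ∧
      s = tfun 𝒜 hf n k m h a := by
  obtain ⟨L, q, a, ha, hq, hval⟩ := exists_global_frac 𝒜 𝒜 n hd hf s
  have h : (q : ℤ) = ((L • d : ℕ) : ℤ) + n := by
    rw [hq]
    simp only [smul_eq_mul]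
    push_cast
    rfl
  refine ⟨L, q, h, a, ha, ?_⟩
  refine sect_ext 𝒜 𝒜 n _ _ (fun y hy => ?_)
  rw [hval y hy, valAt_tfun, proj_of_mem 𝒜 ha]

theorem tfun_ker (hd : 0 < d) (k m : ℕ) (h : (m : ℤ) = ((k • d : ℕ) : ℤ) + n) {a : A}
    (ha : a ∈ 𝒜 m) (h0 : tfun 𝒜 hf n k m h a = 0) : ∃ j : ℕ, f ^ j * a = 0 := by
  obtain ⟨N, hN⟩ := exists_pow_smul_eq_zero 𝒜 𝒜 hd hf ha (fun x hx => by
    have hv : valAt 𝒜 𝒜 n (tfun 𝒜 hf n k m h a) x hx = 0 := by rw [h0]; rfl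
    rw [valAt_tfun, proj_of_mem 𝒜 ha, ← LocalizedModule.zero_mk 1, LocalizedModule.mk_eq] at hv
    obtain ⟨t, ht⟩ := hv
    refine ⟨t.1, t.2, ?_⟩
    rw [one_smul, smul_zero, smul_zero] at ht
    exact ht)
  exact ⟨N, hN⟩

theorem tfun_shift (k m j : ℕ) (h : (m : ℤ) = ((k • d : ℕ) : ℤ) + n)
    (h' : ((j • d + m : ℕ) : ℤ) = (((k + j) • d : ℕ) : ℤ) + n) (a : A) :
    tfun 𝒜 hf n (k + j) (j • d + m) h' (f ^ j * a) = tfun 𝒜 hf n k m h a := by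
  refine sect_ext 𝒜 𝒜 n _ _ (fun y hy => ?_)
  rw [valAt_tfun, valAt_tfun, proj_mul_left 𝒜 (SetLike.pow_mem_graded j hf) a m]
  refine mk_eq_of_smul_eq _ _ _ _ ?_
  simp only [smul_eq_mul, pow_add]
  ring

theorem cfun_smul_tfun (k₁ k₂ m₂ : ℕ) (h₂ : (m₂ : ℤ) = ((k₂ • d : ℕ) : ℤ) + n)
    (h : ((k₁ • d + m₂ : ℕ) : ℤ) = (((k₁ + k₂) • d : ℕ) : ℤ) + n) (a₁ a₂ : A) :
    cfunO 𝒜 hf k₁ a₁ • tfun 𝒜 hf n k₂ m₂ h₂ a₂ =
      tfun 𝒜 hf n (k₁ + k₂) (k₁ • d + m₂) h (GradedAlgebra.proj 𝒜 (k₁ • d) a₁ * a₂) := by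
  refine sect_ext 𝒜 𝒜 n _ _ (fun y hy => ?_)
  rw [valAt_smul, cfunO_val 𝒜 hf k₁ a₁ y hy, valAt_tfun, valAt_tfun, LocalizedModule.mk_smul_mk,
    proj_mul_left 𝒜 (proj_mem 𝒜 (k₁ • d) a₁) a₂ m₂]
  refine mk_eq_of_smul_eq _ _ _ _ ?_
  simp only [Submonoid.coe_mul, smul_eq_mul, pow_add]

end Groth.Agent.Helper6.BCTw
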