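import Mathlib
import Groth.Agent.Lib.Helper18.RecPull
import Groth.Agent.Lib.Helper13.LocFree

/-!
# Sections of the adjunct `j^* F ⟶ G` of `α : F ⟶ j_* G` over `j⁻¹ V`, `V` affine with affine preimage

`Γ(j^*F, j⁻¹V) = Γ(X, j⁻¹V) ⊗[Γ(Y,V)] Γ(F,V)` and the adjunct is `c ⊗ t ↦ c • α_V t`.
-/

set_option autoImplicit false
set_option linter.style.haveILetI false
set_option linter.unusedSectionVars false
universe u
open CategoryTheory CategoryTheory.Limits AlgebraicGeometry Opposite TopologicalSpace TensorProduct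

namespace Groth.Agent.Helper6.PbSec

theorem adjunct_app_pullSect {X Y : Scheme.{u}} (j : X ⟶ Y) {F : Y.Modules} {G : X.Modules}
    (α : F ⟶ (Scheme.Modules.pushforward j).obj G) (V : Y.Opens) (t : Γ(F, V)) :
    (((Scheme.Modules.pullbackPushforwardAdjunction j).homEquiv F G).symm α).app (j ⁻¹ᵁ V)
      (OmegaSh.pullSect j F V t) = α.app V t := by
  have h := (Scheme.Modules.pullbackPushforwardAdjunction j).homEquiv_unit
    (f := ((Scheme.Modules.pullbackPushforwardAdjunction j).homEquiv F G).symm α)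
  rw [Equiv.apply_symm_apply] at h
  exact (congrArg (fun β : F ⟶ (Scheme.Modules.pushforward j).obj G => β.app V t) h).symm

set_option maxRecDepth 8000 in
set_option maxHeartbeats 1600000 in
/-- the adjunct on sections over `j⁻¹ V` as a linear map out of the tensor product. -/
theorem exists_Phi {X Y : Scheme.{u}} (j : X ⟶ Y) {F : Y.Modules} [F.IsQuasicoherent]
    {G : X.Modules} (α : F ⟶ (Scheme.Modules.pushforward j).obj G) {V : Y.Opens}
    (hV : IsAffineOpen V) (hU : IsAffineOpen (j ⁻¹ᵁ V)) :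
    letI := (j.appLE V (j ⁻¹ᵁ V) le_rfl).hom.toAlgebra
    ∃ Φ : Γ(X, j ⁻¹ᵁ V) ⊗[Γ(Y, V)] Γ(F, V) →ₗ[Γ(X, j ⁻¹ᵁ V)] Γ(G, j ⁻¹ᵁ V),
      (∀ t : Γ(F, V), Φ ((1 : Γ(X, j ⁻¹ᵁ V)) ⊗ₜ[Γ(Y, V)] t) = α.app V t) ∧
      (Function.Bijective Φ → Function.Bijective
        ((((Scheme.Modules.pullbackPushforwardAdjunction j).homEquiv F G).symm α).app
          (j ⁻¹ᵁ V))) := by
  letI := (j.appLE V (j ⁻¹ᵁ V) le_rfl).hom.toAlgebra
  obtain ⟨α', hα'⟩ : ∃ α', α' =
      ((Scheme.Modules.pullbackPushforwardAdjunction j).homEquiv F G).symm α := ⟨_, rfl⟩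
  rw [← hα']
  obtain ⟨E, hE⟩ : ∃ E, E = Groth.Agent.Helper13.Pullback.sectionsPullbackEquiv j F hU hV le_rfl :=
    ⟨_, rfl⟩
  have hEpull : ∀ t : Γ(F, V),
      E.symm ((1 : Γ(X, j ⁻¹ᵁ V)) ⊗ₜ[Γ(Y, V)] t) = OmegaSh.pullSect j F V t := by
    intro t
    rw [LinearEquiv.symm_apply_eq, hE]
    have h1 := Groth.Agent.Helper18.Rec.sectionsPullbackEquiv_pullRes j F hU hV le_rfl t
    rw [Groth.Agent.Helper18.Rec.pullRes_refl] at h1
    exact h1.symm
  refine ⟨(Groth.Agent.Helper13.LocFree.appLinearMap α' _).comp E.symm.toLinearMap, ?_, ?_⟩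
  · intro t
    show α'.app _ (E.symm ((1 : Γ(X, j ⁻¹ᵁ V)) ⊗ₜ[Γ(Y, V)] t)) = _
    rw [hEpull, hα', adjunct_app_pullSect]
  · intro key
    have hcomp : (fun s => α'.app (j ⁻¹ᵁ V) s) =
        ((Groth.Agent.Helper13.LocFree.appLinearMap α' _).comp E.symm.toLinearMap) ∘ E := by
      funext s
      show _ = α'.app _ (E.symm (E s))
      rw [LinearEquiv.symm_apply_apply]
    show Function.Bijective (fun s => α'.app (j ⁻¹ᵁ V) s)
    rw [hcomp]
    exact key.comp E.bijective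

end Groth.Agent.Helper6.PbSec
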