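import Mathlib
import Groth.Prelude.Def_RelProj3
import Groth.Agent.Lib.Helper6.BCTwA
import Groth.Agent.Lib.Helper6.BCTwB
import Groth.Agent.Lib.Helper6.PbSecA
import Groth.Agent.Lib.Helper6.GrModComapA
import Groth.Agent.Lib.Helper28.AffIso
import Groth.Agent.Lib.Helper28.GrModQcoh

/-!
# `Φ^* O(n) ≅ O(n)` for `Φ : Proj (R ⊗[R'] B) → Proj B` (base change of the coefficient ring)
-/

set_option autoImplicit false
set_option linter.style.haveILetI false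
set_option linter.unusedSectionVars false
universe u
open DirectSum CategoryTheory CategoryTheory.Limits AlgebraicGeometry Opposite TopologicalSpace
  TensorProduct

namespace Groth.Agent.Helper6.BCTw

open Groth.Agent.Helper6.GrModFrac Groth.Agent.Helper6.GrModComap Groth.Agent.Helper6.Dehom

theorem lvl_eq {k m d : ℕ} {n : ℤ} (h : (m : ℤ) = ((k • d : ℕ) : ℤ) + n) :
    (m : ℤ) = (k : ℤ) * d + n := by
  rw [h]; simp [smul_eq_mul]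

theorem lvl_mk {k m d : ℕ} {n : ℤ} (h : (m : ℤ) = (k : ℤ) * d + n) :
    (m : ℤ) = ((k • d : ℕ) : ℤ) + n := by
  rw [h]; simp [smul_eq_mul]

variable {R R' A B : Type u} [CommRing R'] [CommRing R] [Algebra R' R]
    [CommRing B] [Algebra R' B] (ℬ : ℕ → Submodule R' B) [GradedAlgebra ℬ]
    [CommRing A] [Algebra R A] [Algebra R' A] [IsScalarTower R' R A] (𝒜 : ℕ → Submodule R A)
    [GradedAlgebra 𝒜]
    [Algebra B A] [IsScalarTower R' B A] [Algebra.IsPushout R' R B A]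
    (φ : ℬ →+*ᵍ 𝒜) (hφA : ∀ b : B, φ b = algebraMap B A b)
    (hφ : HomogeneousIdeal.irrelevant 𝒜 ≤ (HomogeneousIdeal.irrelevant ℬ).map φ) (n : ℤ)
    {f : B} {d : ℕ} (hf : f ∈ ℬ d) (hd : 0 < d)

set_option quotPrecheck false in
local notation "VV" => Proj.basicOpen ℬ f
set_option quotPrecheck false in
local notation "UU" => (Proj.map φ hφ ⁻¹ᵁ Proj.basicOpen ℬ f)

include hφ in
theorem exists_pos_deg (x : Proj 𝒜) :
    ∃ (d : ℕ) (f : B), 0 < d ∧ f ∈ ℬ d ∧ φ f ∉ x.asHomogeneousIdeal := by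
  classical
  by_contra! H
  refine x.not_irrelevant_le (hφ.trans ?_)
  apply HomogeneousIdeal.map_le_of_le_comap
  intro z hz
  show φ z ∈ x.asHomogeneousIdeal
  rw [← DirectSum.sum_support_decompose ℬ z, map_sum]
  refine x.asHomogeneousIdeal.toIdeal.sum_mem (fun k _ => ?_)
  by_cases hk0 : k = 0
  · subst hk0
    have h0 : ((DirectSum.decompose ℬ z 0 : ℬ 0) : B) = 0 :=
      (HomogeneousIdeal.mem_irrelevant_iff ℬ z).mp hz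
    rw [h0, map_zero]
    exact zero_mem _
  · exact H k _ (Nat.pos_of_ne_zero hk0) (SetLike.coe_mem _)

/-- `rho` for `𝒜`, sections over the preimage open. -/
noncomputable def rhoU : R →+* Γ(Proj 𝒜, UU) := rho 𝒜 (φ f)

/-- `cfun` for `𝒜`, sections over the preimage open. -/
noncomputable def cU (k : ℕ) : A →+ Γ(Proj 𝒜, UU) := cfun 𝒜 (φ.map_mem hf) k

/-- `tfun` for `𝒜`, sections over the preimage open. -/
noncomputable def tU (k m : ℕ) (h : (m : ℤ) = ((k • d : ℕ) : ℤ) + n) :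
    A →+ Γ(GrMod.tilde 𝒜 𝒜 n, UU) := tfun 𝒜 (φ.map_mem hf) n k m h

/-- `tfun` for `ℬ`, in `Γ`-notation. -/
noncomputable def tV (k m : ℕ) (h : (m : ℤ) = ((k • d : ℕ) : ℤ) + n) :
    B →+ Γ(GrMod.tilde ℬ ℬ n, VV) := tfun ℬ hf n k m h

theorem tV_smul (k m : ℕ) (h : (m : ℤ) = ((k • d : ℕ) : ℤ) + n) (r' : R') (b : B) :
    tV ℬ n hf k m h (r' • b) = rho ℬ f r' • tV ℬ n hf k m h b :=
  tfun_smul ℬ hf n k m h r' b

theorem tU_smul (k m : ℕ) (h : (m : ℤ) = ((k • d : ℕ) : ℤ) + n) (r : R) (a : A) :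
    tU ℬ 𝒜 φ hφ n hf k m h (r • a) = rhoU ℬ 𝒜 φ hφ (f := f) r • tU ℬ 𝒜 φ hφ n hf k m h a :=
  tfun_smul 𝒜 (φ.map_mem hf) n k m h r a

theorem cU_smul (k : ℕ) (r : R) (a : A) :
    cU ℬ 𝒜 φ hφ hf k (r • a) = rhoU ℬ 𝒜 φ hφ (f := f) r * cU ℬ 𝒜 φ hφ hf k a :=
  cfun_smul 𝒜 (φ.map_mem hf) k r a

theorem cV_smul_tV (k₁ k₂ m₂ : ℕ) (h₂ : (m₂ : ℤ) = ((k₂ • d : ℕ) : ℤ) + n)
    (h : ((k₁ • d + m₂ : ℕ) : ℤ) = (((k₁ + k₂) • d : ℕ) : ℤ) + n) (b₁ b₂ : B) :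
    cfun ℬ hf k₁ b₁ • tV ℬ n hf k₂ m₂ h₂ b₂ =
      tV ℬ n hf (k₁ + k₂) (k₁ • d + m₂) h (GradedAlgebra.proj ℬ (k₁ • d) b₁ * b₂) :=
  cfun_smul_tfun ℬ hf n k₁ k₂ m₂ h₂ h b₁ b₂

theorem appLE_cfun (k : ℕ) (b : B) :
    ((Proj.map φ hφ).appLE VV UU le_rfl).hom (cfun ℬ hf k b) = cU ℬ 𝒜 φ hφ hf k (φ b) := by
  have h := congrArg (fun q => q.hom (cAway ℬ hf k b)) (Proj.awayToSection_comp_appLE φ hφ hf)
  refine Eq.trans ?_ (h.trans ?_)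
  · rfl
  · show (Proj.awayToSection 𝒜 (φ f)).hom
        (HomogeneousLocalization.Away.map φ f (cAway ℬ hf k b)) =
      (Proj.awayToSection 𝒜 (φ f)).hom (cAway 𝒜 (φ.map_mem hf) k (φ b))
    congr 1
    apply HomogeneousLocalization.val_injective
    rw [val_cAway, proj_phi]
    show (HomogeneousLocalization.Away.map φ f
      (HomogeneousLocalization.Away.mk ℬ hf k _ (proj_mem ℬ _ b))).val = _
    rw [HomogeneousLocalization.Away.map_mk, HomogeneousLocalization.Away.val_mk]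
    rfl

include hφA hf in
theorem appLE_rho (r' : R') :
    ((Proj.map φ hφ).appLE VV UU le_rfl).hom (rho ℬ f r') =
      rhoU ℬ 𝒜 φ hφ (f := f) (algebraMap R' R r') := by
  have hφf : φ f ∈ 𝒜 d := φ.map_mem hf
  rw [rho_eq_cfun ℬ hf, appLE_cfun]
  show cfun 𝒜 hφf 0 (φ (algebraMap R' B r')) = rho 𝒜 (φ f) (algebraMap R' R r')
  rw [rho_eq_cfun 𝒜 hφf]
  congr 1
  rw [hφA, ← IsScalarTower.algebraMap_apply R' B A, IsScalarTower.algebraMap_apply R' R A]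

theorem comap_tfun (k m : ℕ) (h : (m : ℤ) = ((k • d : ℕ) : ℤ) + n) (b : B) :
    GrMod.comapApp φ hφ (phiSl ℬ 𝒜 φ) (phiSl_mem ℬ 𝒜 φ) n (ProjectiveSpectrum.basicOpen ℬ f)
        (ProjectiveSpectrum.basicOpen 𝒜 (φ f)) (basicOpen_subset φ hφ f) (tfun ℬ hf n k m h b) =
      tfun 𝒜 (φ.map_mem hf) n k m h (φ b) := by
  refine sect_ext 𝒜 𝒜 n _ _ (fun y hy => ?_)
  rw [valAt_comapApp, valAt_tfun, valAt_tfun, GrMod.locModMap_mk, proj_phi]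
  refine mk_eq_of_smul_eq _ _ _ _ ?_
  show (φ f) ^ k • phiSl ℬ 𝒜 φ (GradedAlgebra.proj ℬ m b) =
    φ (f ^ k) • φ (GradedAlgebra.proj ℬ m b)
  rw [map_pow, phiSl_apply]

set_option maxRecDepth 8000 in
set_option maxHeartbeats 3200000 in
include hφA hf hd in
theorem app_bijective_bc :
    Function.Bijective
      ((((Scheme.Modules.pullbackPushforwardAdjunction (Proj.map φ hφ)).homEquiv _ _).symm
        (GrMod.comap (ℳ := ℬ) (𝒩 := 𝒜) φ hφ (phiSl ℬ 𝒜 φ) (phiSl_mem ℬ 𝒜 φ) n)).app UU) := by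
  haveI : (GrMod.tilde ℬ ℬ n).IsQuasicoherent :=
    Groth.Agent.Helper28.GrModQcoh.tilde_isQuasicoherent ℬ ℬ n
  have hV : IsAffineOpen VV := Proj.isAffineOpen_basicOpen ℬ f hf hd
  have hU : IsAffineOpen UU := Proj.isAffineOpen_basicOpen 𝒜 (φ f) (φ.map_mem hf) hd
  letI : Algebra Γ(Proj ℬ, VV) Γ(Proj 𝒜, UU) :=
    ((Proj.map φ hφ).appLE VV UU le_rfl).hom.toAlgebra
  obtain ⟨Φ, hΦ1, hΦ2⟩ := Groth.Agent.Helper6.PbSec.exists_Phi (Proj.map φ hφ)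
    (GrMod.comap (ℳ := ℬ) (𝒩 := 𝒜) φ hφ (phiSl ℬ 𝒜 φ) (phiSl_mem ℬ 𝒜 φ) n) hV hU
  apply hΦ2
  have hρ : ∀ r' : R', algebraMap Γ(Proj ℬ, VV) Γ(Proj 𝒜, UU) (rho ℬ f r') =
      rhoU ℬ 𝒜 φ hφ (f := f) (algebraMap R' R r') := fun r' => appLE_rho ℬ 𝒜 φ hφA hφ hf r'
  have hc : ∀ (k : ℕ) (b : B), algebraMap Γ(Proj ℬ, VV) Γ(Proj 𝒜, UU) (cfun ℬ hf k b) =
      cU ℬ 𝒜 φ hφ hf k (φ b) := fun k b => appLE_cfun ℬ 𝒜 φ hφ hf k b
  have hΦt : ∀ (k m : ℕ) (h : (m : ℤ) = ((k • d : ℕ) : ℤ) + n) (b : B),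
      Φ ((1 : Γ(Proj 𝒜, UU)) ⊗ₜ[Γ(Proj ℬ, VV)] tV ℬ n hf k m h b) =
        tU ℬ 𝒜 φ hφ n hf k m h (φ b) := by
    intro k m h b
    rw [hΦ1]
    exact comap_tfun ℬ 𝒜 φ hφ n hf k m h b
  have hΞ : ∀ (k m : ℕ) (h : (m : ℤ) = ((k • d : ℕ) : ℤ) + n),
      ∃ Ξ : A →+ Γ(Proj 𝒜, UU) ⊗[Γ(Proj ℬ, VV)] Γ(GrMod.tilde ℬ ℬ n, VV),
        (∀ b, Ξ (algebraMap B A b) =
          (1 : Γ(Proj 𝒜, UU)) ⊗ₜ[Γ(Proj ℬ, VV)] tV ℬ n hf k m h b) ∧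
        (∀ (r : R) (a : A), Ξ (r • a) = rhoU ℬ 𝒜 φ hφ (f := f) r • Ξ a) :=
    fun k m h => exists_Xi (rho ℬ f) (rhoU ℬ 𝒜 φ hφ (f := f)) hρ (tV ℬ n hf k m h)
      (tV_smul ℬ n hf k m h)
  choose Ξ hΞ1 hΞ2 using hΞ
  have F1 : ∀ (k m : ℕ) (h : (m : ℤ) = ((k • d : ℕ) : ℤ) + n) (a : A),
      Φ (Ξ k m h a) = tU ℬ 𝒜 φ hφ n hf k m h a := by
    intro k m h a
    refine ind_A ℬ 𝒜 φ hφA (P := fun a => Φ (Ξ k m h a) = tU ℬ 𝒜 φ hφ n hf k m h a)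
      ?_ ?_ ?_ ?_ a
    · rw [map_zero, map_zero, map_zero]
    · intro b
      rw [hφA b, hΞ1, hΦt, hφA b]
    · intro r a ih
      rw [hΞ2, map_smul, ih, tU_smul]
    · intro a a' ih ih'
      simp only [map_add]
      rw [ih, ih']
  have F2 : ∀ (k m : ℕ) (h : (m : ℤ) = ((k • d : ℕ) : ℤ) + n) (j : ℕ)
      (h' : ((j • d + m : ℕ) : ℤ) = (((k + j) • d : ℕ) : ℤ) + n) (a : A),
      Ξ (k + j) (j • d + m) h' (φ f ^ j * a) = Ξ k m h a := by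
    intro k m h j h' a
    refine ind_A ℬ 𝒜 φ hφA
      (P := fun a => Ξ (k + j) (j • d + m) h' (φ f ^ j * a) = Ξ k m h a) ?_ ?_ ?_ ?_ a
    · rw [mul_zero, map_zero, map_zero]
    · intro b
      rw [← map_pow, ← map_mul, hφA, hφA b, hΞ1, hΞ1]
      congr 1
      exact tfun_shift ℬ hf n k m j h h' b
    · intro r a ih
      rw [mul_smul_comm, hΞ2, hΞ2, ih]
    · intro a a' ih ih'
      simp only [mul_add, map_add]
      rw [ih, ih']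
  have Ξc : ∀ (k k' m m' : ℕ) (h : (m : ℤ) = ((k • d : ℕ) : ℤ) + n)
      (h' : (m' : ℤ) = ((k' • d : ℕ) : ℤ) + n), k = k' → m = m' → Ξ k m h = Ξ k' m' h' := by
    intro k k' m m' h h' e e'
    subst e
    subst e'
    rfl
  have F3 : ∀ τ : Γ(Proj 𝒜, UU) ⊗[Γ(Proj ℬ, VV)] Γ(GrMod.tilde ℬ ℬ n, VV),
      ∃ (k m : ℕ) (h : (m : ℤ) = ((k • d : ℕ) : ℤ) + n) (a : A), a ∈ 𝒜 m ∧ τ = Ξ k m h a := by
    intro τ
    induction τ using TensorProduct.induction_on with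
    | zero =>
      obtain ⟨k, m, h, b, hb, -⟩ := tfun_surj ℬ hf n hd 0
      exact ⟨k, m, h, 0, zero_mem _, (map_zero _).symm⟩
    | tmul c t =>
      obtain ⟨k₁, a₁, ha₁, rfl⟩ := cfun_surj 𝒜 (φ.map_mem hf) hd c
      obtain ⟨k₂, m₂, h₂, b₂, hb₂, rfl⟩ := tfun_surj ℬ hf n hd t
      have h₁₂ : ((k₁ • d + m₂ : ℕ) : ℤ) = (((k₁ + k₂) • d : ℕ) : ℤ) + n := by
        refine lvl_mk ?_
        simp only [smul_eq_mul]
        push_cast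
        rw [lvl_eq h₂]
        ring
      have key : ∀ a₁ : A, cU ℬ 𝒜 φ hφ hf k₁ a₁ ⊗ₜ[Γ(Proj ℬ, VV)] tV ℬ n hf k₂ m₂ h₂ b₂ =
          Ξ (k₁ + k₂) (k₁ • d + m₂) h₁₂ (GradedAlgebra.proj 𝒜 (k₁ • d) a₁ * φ b₂) := by
        intro a₁
        refine ind_A ℬ 𝒜 φ hφA
          (P := fun a₁ => cU ℬ 𝒜 φ hφ hf k₁ a₁ ⊗ₜ[Γ(Proj ℬ, VV)] tV ℬ n hf k₂ m₂ h₂ b₂ =
            Ξ (k₁ + k₂) (k₁ • d + m₂) h₁₂ (GradedAlgebra.proj 𝒜 (k₁ • d) a₁ * φ b₂))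
          ?_ ?_ ?_ ?_ a₁
        · rw [map_zero, TensorProduct.zero_tmul, map_zero, zero_mul, map_zero]
        · intro b₁
          rw [← hc, Algebra.algebraMap_eq_smul_one, TensorProduct.smul_tmul,
            cV_smul_tV ℬ n hf k₁ k₂ m₂ h₂ h₁₂, proj_phi, ← map_mul, hφA, hΞ1]
        · intro r a ih
          have e : (rhoU ℬ 𝒜 φ hφ (f := f) r * cU ℬ 𝒜 φ hφ hf k₁ a)
              ⊗ₜ[Γ(Proj ℬ, VV)] tV ℬ n hf k₂ m₂ h₂ b₂ =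
              rhoU ℬ 𝒜 φ hφ (f := f) r •
                (cU ℬ 𝒜 φ hφ hf k₁ a ⊗ₜ[Γ(Proj ℬ, VV)] tV ℬ n hf k₂ m₂ h₂ b₂) :=
            by rw [← smul_eq_mul, TensorProduct.smul_tmul']
          rw [cU_smul, e, ih, map_smul, smul_mul_assoc, hΞ2]
        · intro a a' ih ih'
          simp only [map_add, TensorProduct.add_tmul, add_mul]
          rw [ih, ih']
      refine ⟨k₁ + k₂, k₁ • d + m₂, h₁₂, a₁ * φ b₂,
        SetLike.mul_mem_graded ha₁ (φ.map_mem hb₂), ?_⟩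
      have hk := key a₁
      rw [proj_of_mem 𝒜 ha₁] at hk
      exact hk
    | add x y hx hy =>
      obtain ⟨k₁, m₁, h₁, a₁, ha₁, rfl⟩ := hx
      obtain ⟨k₂, m₂, h₂, a₂, ha₂, rfl⟩ := hy
      have h₁' : ((k₂ • d + m₁ : ℕ) : ℤ) = (((k₁ + k₂) • d : ℕ) : ℤ) + n := by
        refine lvl_mk ?_
        simp only [smul_eq_mul]
        push_cast
        rw [lvl_eq h₁]
        ring
      have h₂' : ((k₁ • d + m₂ : ℕ) : ℤ) = (((k₂ + k₁) • d : ℕ) : ℤ) + n := by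
        refine lvl_mk ?_
        simp only [smul_eq_mul]
        push_cast
        rw [lvl_eq h₂]
        ring
      have e2 : k₁ • d + m₂ = k₂ • d + m₁ := by
        have : ((k₁ • d + m₂ : ℕ) : ℤ) = ((k₂ • d + m₁ : ℕ) : ℤ) := by
          simp only [smul_eq_mul]
          push_cast
          rw [lvl_eq h₁, lvl_eq h₂]
          ring
        exact_mod_cast this
      rw [← F2 k₁ m₁ h₁ k₂ h₁' a₁, ← F2 k₂ m₂ h₂ k₁ h₂' a₂,
        Ξc (k₂ + k₁) (k₁ + k₂) (k₁ • d + m₂) (k₂ • d + m₁) h₂' h₁' (add_comm _ _) e2, ← map_add]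
      refine ⟨k₁ + k₂, k₂ • d + m₁, h₁', _, add_mem
        (SetLike.mul_mem_graded (SetLike.pow_mem_graded k₂ (φ.map_mem hf)) ha₁) ?_, rfl⟩
      rw [← e2]
      exact SetLike.mul_mem_graded (SetLike.pow_mem_graded k₁ (φ.map_mem hf)) ha₂
  refine ⟨?_, ?_⟩
  · rw [injective_iff_map_eq_zero]
    intro τ hτ
    obtain ⟨k, m, h, a, ha, rfl⟩ := F3 τ
    rw [F1] at hτ
    obtain ⟨j, hj⟩ := tfun_ker 𝒜 (φ.map_mem hf) n hd k m h ha hτ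
    have h' : ((j • d + m : ℕ) : ℤ) = (((k + j) • d : ℕ) : ℤ) + n := by
      refine lvl_mk ?_
      simp only [smul_eq_mul]
      push_cast
      rw [lvl_eq h]
      ring
    have hj' : φ f ^ j * a = 0 := hj
    rw [← F2 k m h j h' a, hj', map_zero]
  · intro s
    obtain ⟨k, m, h, a, ha, rfl⟩ := tfun_surj 𝒜 (φ.map_mem hf) n hd s
    exact ⟨Ξ k m h a, F1 k m h a⟩

include hφA in
theorem isIso_adjunct_bc :
    IsIso (((Scheme.Modules.pullbackPushforwardAdjunction (Proj.map φ hφ)).homEquiv _ _).symm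
      (GrMod.comap (ℳ := ℬ) (𝒩 := 𝒜) φ hφ (phiSl ℬ 𝒜 φ) (phiSl_mem ℬ 𝒜 φ) n)) := by
  haveI : (GrMod.tilde ℬ ℬ n).IsQuasicoherent :=
    Groth.Agent.Helper28.GrModQcoh.tilde_isQuasicoherent ℬ ℬ n
  haveI : (GrMod.tilde 𝒜 𝒜 n).IsQuasicoherent :=
    Groth.Agent.Helper28.GrModQcoh.tilde_isQuasicoherent 𝒜 𝒜 n
  apply Groth.Agent.Helper28.AffIso.isIso_of_app_bijective_affine
  intro x
  obtain ⟨d, f, hd, hf, hx⟩ := exists_pos_deg ℬ 𝒜 φ hφ x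
  exact ⟨Proj.map φ hφ ⁻¹ᵁ Proj.basicOpen ℬ f,
    Proj.isAffineOpen_basicOpen 𝒜 (φ f) (φ.map_mem hf) hd, hx,
    app_bijective_bc ℬ 𝒜 φ hφA hφ n hf hd⟩

include hφA in
theorem nonempty_iso_twist :
    Nonempty ((Scheme.Modules.pullback (Proj.map φ hφ)).obj (Twist.twist ℬ n) ≅
      Twist.twist 𝒜 n) := by
  haveI := isIso_adjunct_bc ℬ 𝒜 φ hφA hφ n
  have e1 : GrMod.tilde ℬ ℬ n ≅ Twist.twist ℬ n :=
    Groth.Agent.Helper28.GrModQcoh.tildeIsoTwist ℬ n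
  have e2 : GrMod.tilde 𝒜 𝒜 n ≅ Twist.twist 𝒜 n :=
    Groth.Agent.Helper28.GrModQcoh.tildeIsoTwist 𝒜 n
  exact ⟨(Scheme.Modules.pullback (Proj.map φ hφ)).mapIso e1.symm ≪≫
    asIso (((Scheme.Modules.pullbackPushforwardAdjunction (Proj.map φ hφ)).homEquiv _ _).symm
      (GrMod.comap (ℳ := ℬ) (𝒩 := 𝒜) φ hφ (phiSl ℬ 𝒜 φ) (phiSl_mem ℬ 𝒜 φ) n)) ≪≫ e2⟩

end Groth.Agent.Helper6.BCTw
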