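import Groth.Agent.Lib.Helper6.ThickAffA

/-!
# A scheme receiving a surjective closed immersion from an affine scheme is affine
-/

open AlgebraicGeometry CategoryTheory TopologicalSpace Opposite

namespace Groth.Agent.Helper6.ThickAff
universe u
variable {X X' : Scheme.{u}} (t : X ⟶ X')

theorem preimage_injective (ht : Function.Surjective t.base) {P Q : X'.Opens}
    (h : t ⁻¹ᵁ P = t ⁻¹ᵁ Q) : P = Q := by
  apply Opens.ext
  apply ht.preimage_injective
  exact congrArg (fun U : X.Opens => (U : Set X)) h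

theorem isNilpotent_of_app_eq_zero (ht : Function.Surjective t.base) {W : X'.Opens}
    (hW : IsCompact (W : Set X')) (s : Γ(X', W)) (hs : t.app W s = 0) : IsNilpotent s := by
  rw [Scheme.isNilpotent_iff_basicOpen_eq_bot_of_isCompact hW]
  apply preimage_injective t ht
  rw [Scheme.preimage_basicOpen, hs, Scheme.basicOpen_zero]
  rfl

theorem exists_pow_mul_of_eq_basicOpen (Y : Scheme.{u}) {U O : Y.Opens} (hU : IsAffineOpen U)
    (f : Γ(Y, U)) (hO : O = Y.basicOpen f) (hle : O ≤ U) (s : Γ(Y, O)) :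
    ∃ (n : ℕ) (b : Γ(Y, U)), Y.presheaf.map (homOfLE hle).op b =
      (Y.presheaf.map (homOfLE hle).op f) ^ n * s := by
  subst hO
  exact exists_eq_pow_mul_of_isAffineOpen Y U hU f s

theorem exists_pow_mul_eq_zero_of_eq_basicOpen (Y : Scheme.{u}) {U O : Y.Opens}
    (hU : IsAffineOpen U) (f x : Γ(Y, U)) (hO : O = Y.basicOpen f) (hle : O ≤ U)
    (H : Y.presheaf.map (homOfLE hle).op x = 0) : ∃ k : ℕ, f ^ k * x = 0 := by
  subst hO
  exact exists_pow_mul_eq_zero_of_res_basicOpen_eq_zero_of_isAffineOpen Y hU x f H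

theorem res_res (Y : Scheme.{u}) {P Q R : Y.Opens} (h₁ : Q ≤ P) (h₂ : R ≤ Q) (x : Γ(Y, P)) :
    Y.presheaf.map (homOfLE h₂).op (Y.presheaf.map (homOfLE h₁).op x) =
      Y.presheaf.map (homOfLE (h₂.trans h₁)).op x := by
  rw [← CommRingCat.comp_apply, ← Functor.map_comp]
  rfl

theorem app_res {P Q : X'.Opens} (h : Q ≤ P) (x : Γ(X', P)) :
    t.app Q (X'.presheaf.map (homOfLE h).op x) =
      X.presheaf.map (homOfLE (t.preimage_mono h)).op (t.app P x) := by
  have := t.naturality (homOfLE h).op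
  exact ConcreteCategory.congr_hom this x

theorem glue_two (Y : Scheme.{u}) (U V : Y.Opens) (b₁ : Γ(Y, U)) (b₂ : Γ(Y, V))
    (h : Y.presheaf.map (homOfLE (inf_le_left : U ⊓ V ≤ U)).op b₁ =
      Y.presheaf.map (homOfLE (inf_le_right : U ⊓ V ≤ V)).op b₂) :
    ∃ b : Γ(Y, U ⊔ V), Y.presheaf.map (homOfLE (le_sup_left : U ≤ U ⊔ V)).op b = b₁ ∧
      Y.presheaf.map (homOfLE (le_sup_right : V ≤ U ⊔ V)).op b = b₂ := by
  let x : RingHom.eqLocus
      ((Y.sheaf.obj.map (homOfLE (inf_le_left : U ⊓ V ≤ U)).op).hom.comp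
        (RingHom.fst (Y.sheaf.obj.obj (op U)) (Y.sheaf.obj.obj (op V))))
      ((Y.sheaf.obj.map (homOfLE (inf_le_right : U ⊓ V ≤ V)).op).hom.comp
        (RingHom.snd (Y.sheaf.obj.obj (op U)) (Y.sheaf.obj.obj (op V)))) := ⟨(b₁, b₂), h⟩
  exact ⟨(Y.sheaf.objSupIsoProdEqLocus U V).inv x, Y.sheaf.objSupIsoProdEqLocus_inv_fst U V x,
    Y.sheaf.objSupIsoProdEqLocus_inv_snd U V x⟩

theorem eq_zero_of_res_two (Y : Scheme.{u}) {U V W : Y.Opens} (hU : U ≤ W) (hV : V ≤ W)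
    (hW : W ≤ U ⊔ V) (a : Γ(Y, W)) (h₁ : Y.presheaf.map (homOfLE hU).op a = 0)
    (h₂ : Y.presheaf.map (homOfLE hV).op a = 0) : a = 0 := by
  refine Y.sheaf.eq_of_locally_eq₂ (homOfLE hU) (homOfLE hV) hW a 0 ?_ ?_
  · rw [map_zero]; exact h₁
  · rw [map_zero]; exact h₂

theorem isUnit_of_basicOpen_eq (Y : Scheme.{u}) {U : Y.Opens} (f : Γ(Y, U))
    (h : Y.basicOpen f = U) : IsUnit f := by
  apply RingedSpace.isUnit_of_isUnit_germ Y.toLocallyRingedSpace.toRingedSpace U f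
  intro x hx
  exact (Y.mem_basicOpen f x hx).mp (by rw [h]; exact hx)

theorem app_surjective_sup [IsClosedImmersion t] (ht : Function.Surjective t.base)
    {U' V' : X'.Opens} (hU' : IsAffineOpen U') (hV' : IsAffineOpen V')
    (g h : Γ(X, t ⁻¹ᵁ (U' ⊔ V'))) (hgh : g + h = 1)
    (hh : X.basicOpen h = t ⁻¹ᵁ U') (hg : X.basicOpen g = t ⁻¹ᵁ V') :
    Function.Surjective (t.app (U' ⊔ V')) := by
  have hU : IsAffineOpen (t ⁻¹ᵁ U') := hU'.preimage t
  have hV : IsAffineOpen (t ⁻¹ᵁ V') := hV'.preimage t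
  have le1 : t ⁻¹ᵁ U' ≤ t ⁻¹ᵁ (U' ⊔ V') := t.preimage_mono le_sup_left
  have le2 : t ⁻¹ᵁ V' ≤ t ⁻¹ᵁ (U' ⊔ V') := t.preimage_mono le_sup_right
  have le3 : t ⁻¹ᵁ (U' ⊓ V') ≤ t ⁻¹ᵁ U' := t.preimage_mono inf_le_left
  have le4 : t ⁻¹ᵁ (U' ⊓ V') ≤ t ⁻¹ᵁ V' := t.preimage_mono inf_le_right
  obtain ⟨g', hg'⟩ := t.app_surjective U' hU' (X.presheaf.map (homOfLE le1).op g)
  obtain ⟨h', hh'⟩ := t.app_surjective V' hV' (X.presheaf.map (homOfLE le2).op h)
  have hO₁X : t ⁻¹ᵁ (U' ⊓ V') = X.basicOpen (X.presheaf.map (homOfLE le1).op g) := by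
    rw [Scheme.basicOpen_res, hg]; rfl
  have hO₂X : t ⁻¹ᵁ (U' ⊓ V') = X.basicOpen (X.presheaf.map (homOfLE le2).op h) := by
    rw [Scheme.basicOpen_res, hh, inf_comm]; rfl
  have hO₁ : U' ⊓ V' = X'.basicOpen g' := by
    apply preimage_injective t ht
    rw [Scheme.preimage_basicOpen, hg']; exact hO₁X
  have hO₂ : U' ⊓ V' = X'.basicOpen h' := by
    apply preimage_injective t ht
    rw [Scheme.preimage_basicOpen, hh']; exact hO₂X
  have hcpt : IsCompact ((U' ⊓ V' : X'.Opens) : Set X') := by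
    rw [hO₁]; exact (hU'.basicOpen g').isCompact
  exact glue_surjective
    (X.presheaf.map (homOfLE le3).op).hom
    (X'.presheaf.map (homOfLE (inf_le_left : U' ⊓ V' ≤ U')).op).hom
    (t.app U').hom (t.app (U' ⊓ V')).hom
    (X.presheaf.map (homOfLE le1).op).hom (X.presheaf.map (homOfLE le2).op).hom
    (X.presheaf.map (homOfLE le4).op).hom
    (X'.presheaf.map (homOfLE (le_sup_left : U' ≤ U' ⊔ V')).op).hom
    (X'.presheaf.map (homOfLE (le_sup_right : V' ≤ U' ⊔ V')).op).hom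
    (X'.presheaf.map (homOfLE (inf_le_right : U' ⊓ V' ≤ V')).op).hom
    (t.app (U' ⊔ V')).hom (t.app V').hom
    (fun x => (res_res X le1 le3 x).trans (res_res X le2 le4 x).symm)
    (fun x => (app_res t le_sup_left x).symm)
    (fun x => (app_res t le_sup_right x).symm)
    (fun x => (app_res t inf_le_left x).symm)
    (fun x => (app_res t inf_le_right x).symm)
    (glue_two X' U' V')
    (fun a h1 h2 => eq_zero_of_res_two X le1 le2 (fun x hx => hx) a h1 h2)
    (t.app_surjective U' hU') (t.app_surjective V' hV')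
    (fun x hx => isNilpotent_of_app_eq_zero t ht hcpt x hx)
    g h hgh g' hg'
    (exists_pow_mul_of_eq_basicOpen X' hU' g' hO₁ inf_le_left)
    (fun x hx => exists_pow_mul_eq_zero_of_eq_basicOpen X hU _ x hO₁X le3 hx)
    h' hh'
    (exists_pow_mul_of_eq_basicOpen X' hV' h' hO₂ inf_le_right)
    (fun x hx => exists_pow_mul_eq_zero_of_eq_basicOpen X hV _ x hO₂X le4 hx)

theorem isAffineOpen_sup [IsClosedImmersion t] (ht : Function.Surjective t.base)
    {U' V' : X'.Opens} (hU' : IsAffineOpen U') (hV' : IsAffineOpen V')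
    (g h : Γ(X, t ⁻¹ᵁ (U' ⊔ V'))) (hgh : g + h = 1)
    (hh : X.basicOpen h = t ⁻¹ᵁ U') (hg : X.basicOpen g = t ⁻¹ᵁ V') :
    IsAffineOpen (U' ⊔ V') := by
  have hsurj := app_surjective_sup t ht hU' hV' g h hgh hh hg
  obtain ⟨G, hG⟩ := hsurj g
  obtain ⟨H, hH⟩ := hsurj h
  have eG : X'.basicOpen G = V' := by
    apply preimage_injective t ht
    rw [Scheme.preimage_basicOpen, hG, hg]
  have eH : X'.basicOpen H = U' := by
    apply preimage_injective t ht
    rw [Scheme.preimage_basicOpen, hH, hh]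
  have eGH : X'.basicOpen (G + H) = U' ⊔ V' := by
    apply preimage_injective t ht
    rw [Scheme.preimage_basicOpen, map_add, hG, hH, hgh, Scheme.basicOpen_one]
  have hunit : IsUnit (G + H) := isUnit_of_basicOpen_eq X' _ eGH
  apply isAffineOpen_of_isAffineOpen_basicOpen (U' ⊔ V') {G, H}
  · apply Ideal.eq_top_of_isUnit_mem _ _ hunit
    exact Ideal.add_mem _ (Ideal.subset_span (by simp)) (Ideal.subset_span (by simp))
  · intro i hi
    rcases hi with rfl | rfl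
    · rw [eG]; exact hV'
    · rw [eH]; exact hU'

section Main
variable [IsClosedImmersion t] (ht : Function.Surjective t.base)

/-- `f` is good if `D(f)` is the preimage of an affine open. -/
def Good (f : Γ(X, ⊤)) : Prop :=
  ∃ W' : X'.Opens, IsAffineOpen W' ∧ t ⁻¹ᵁ W' = X.basicOpen f

omit ht in
theorem good_mul (a f : Γ(X, ⊤)) (hf : Good t f) : Good t (a * f) := by
  obtain ⟨W', hW', e⟩ := hf
  obtain ⟨a', ha'⟩ := t.app_surjective W' hW'
    (X.presheaf.map (homOfLE (le_top : t ⁻¹ᵁ W' ≤ ⊤)).op a)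
  refine ⟨X'.basicOpen a', hW'.basicOpen a', ?_⟩
  rw [Scheme.preimage_basicOpen, ha', Scheme.basicOpen_res, e, Scheme.basicOpen_mul, inf_comm]

omit ht in
theorem good_exists [IsAffine X] (x : X) : ∃ f, Good t f ∧ x ∈ X.basicOpen f := by
  obtain ⟨W', hW', hxW', -⟩ :=
    exists_isAffineOpen_mem_and_subset (x := t.base x) (U := ⊤) trivial
  have hx : x ∈ t ⁻¹ᵁ W' := hxW'
  obtain ⟨_, ⟨f, rfl⟩, hxf, hfle⟩ := Opens.isBasis_iff_nbhd.mp (isBasis_basicOpen X) hx
  obtain ⟨f', hf'⟩ := t.app_surjective W' hW'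
    (X.presheaf.map (homOfLE (le_top : t ⁻¹ᵁ W' ≤ ⊤)).op f)
  refine ⟨f, ⟨X'.basicOpen f', hW'.basicOpen f', ?_⟩, hxf⟩
  rw [Scheme.preimage_basicOpen, hf', Scheme.basicOpen_res]
  exact inf_eq_right.mpr hfle

include ht in
theorem good_add (f g : Γ(X, ⊤)) (hf : Good t f) (hg : Good t g) : Good t (f + g) := by
  obtain ⟨U', hU', eU⟩ := good_mul t (f + g) f hf
  obtain ⟨V', hV', eV⟩ := good_mul t (f + g) g hg
  have hW : t ⁻¹ᵁ (U' ⊔ V') = X.basicOpen (f + g) := by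
    change t ⁻¹ᵁ U' ⊔ t ⁻¹ᵁ V' = _
    rw [eU, eV, Scheme.basicOpen_mul, Scheme.basicOpen_mul, ← inf_sup_left]
    exact inf_eq_left.mpr (X.basicOpen_add_le f g)
  refine ⟨U' ⊔ V', ?_, hW⟩
  have hle : t ⁻¹ᵁ (U' ⊔ V') ≤ ⊤ := le_top
  have hs : IsUnit (X.presheaf.map (homOfLE hle).op (f + g)) := by
    apply isUnit_of_basicOpen_eq
    rw [Scheme.basicOpen_res, ← hW, inf_idem]
  obtain ⟨u, hu⟩ := hs
  have hsum : X.presheaf.map (homOfLE hle).op g * ((u⁻¹ : (Γ(X, t ⁻¹ᵁ (U' ⊔ V')))ˣ) : Γ(X, t ⁻¹ᵁ (U' ⊔ V'))) +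
      X.presheaf.map (homOfLE hle).op f * ((u⁻¹ : (Γ(X, t ⁻¹ᵁ (U' ⊔ V')))ˣ) : Γ(X, t ⁻¹ᵁ (U' ⊔ V'))) = 1 := by
    rw [← add_mul, add_comm, ← map_add, ← hu, Units.mul_inv]
  apply isAffineOpen_sup t ht hU' hV' _ _ hsum
  · rw [Scheme.basicOpen_mul, Scheme.basicOpen_of_isUnit _ (Units.isUnit _), Scheme.basicOpen_res,
      eU, Scheme.basicOpen_mul, hW]
    rw [inf_comm (X.basicOpen (f + g)) (X.basicOpen f), inf_assoc, inf_idem, inf_comm]
  · rw [Scheme.basicOpen_mul, Scheme.basicOpen_of_isUnit _ (Units.isUnit _), Scheme.basicOpen_res,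
      eV, Scheme.basicOpen_mul, hW]
    rw [inf_comm (X.basicOpen (f + g)) (X.basicOpen g), inf_assoc, inf_idem, inf_comm]

include ht in
/-- **A scheme receiving a surjective closed immersion from an affine scheme is affine.** -/
theorem isAffine_of_isClosedImmersion_of_surjective [IsAffine X] : IsAffine X' := by
  let I : Ideal Γ(X, ⊤) :=
    { carrier := {f | Good t f}
      add_mem' := fun {f g} hf hg => good_add t ht f g hf hg
      zero_mem' := ⟨⊥, isAffineOpen_bot X', by rw [Scheme.basicOpen_zero]; rfl⟩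
      smul_mem' := fun a f hf => good_mul t a f hf }
  have hI : I = ⊤ := by
    have h1 : Ideal.span (I : Set Γ(X, ⊤)) = ⊤ := by
      rw [← (isAffineOpen_top X).self_le_iSup_basicOpen_iff]
      intro x _
      obtain ⟨f, hf, hxf⟩ := good_exists t x
      exact Opens.mem_iSup.mpr ⟨⟨f, hf⟩, hxf⟩
    rwa [Ideal.span_eq] at h1
  have h1 : Good t 1 := by
    have : (1 : Γ(X, ⊤)) ∈ I := hI ▸ Submodule.mem_top
    exact this
  obtain ⟨W', hW', e⟩ := h1
  rw [Scheme.basicOpen_one] at e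
  have hW'top : W' = ⊤ := preimage_injective t ht (e.trans rfl)
  subst hW'top
  have : IsAffine (⊤ : X'.Opens).toScheme := hW'
  exact IsAffine.of_isIso X'.topIso.inv

include ht in
/-- Open version: if the preimage of an open is affine, so is the open. -/
theorem isAffineOpen_of_isAffineOpen_preimage (W' : X'.Opens) (h : IsAffineOpen (t ⁻¹ᵁ W')) :
    IsAffineOpen W' := by
  have : IsAffine (t ⁻¹ᵁ W').toScheme := h
  have hs : Function.Surjective (t ∣_ W').base := by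
    intro y
    obtain ⟨x, hx⟩ := ht y.1
    refine ⟨⟨x, ?_⟩, ?_⟩
    · show t.base x ∈ W'
      rw [hx]; exact y.2
    · apply Subtype.ext
      exact (morphismRestrict_base_coe t W' _).trans hx
  exact isAffine_of_isClosedImmersion_of_surjective (t ∣_ W') hs

end Main

end Groth.Agent.Helper6.ThickAff
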