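import Mathlib
import Groth.Agent.Lib.Helper13.FlatBC4
import Groth.Agent.Lib.Helper13.GlobGen4
import Groth.Agent.Lib.Helper13.FpqcFin2

/-!
# Global generation descends along faithfully flat base change of an affine base (helper6)

Built on helper13's flat base change library `FlatBC1-4` (the maps `psi`).
-/

set_option autoImplicit false
set_option maxRecDepth 8000
universe u
open CategoryTheory CategoryTheory.Limits AlgebraicGeometry Opposite TopologicalSpace TensorProduct
open Groth.Agent.Helper13.QCoh Groth.Agent.Helper13.Pullback Groth.Agent.Helper18.PbCompat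
open Groth.Agent.Helper18.Rec Groth.Agent.Helper13.Qcqs OmegaSh
open Groth.Agent.Helper13.FlatBC Groth.Agent.Helper13.FinType Groth.Agent.Helper13.GlobGen
open Groth.Agent.Helper13.FpqcFin

namespace Groth.Agent.Helper6.GGDesc

variable {X S X' S' : Scheme.{u}} {f : X ⟶ S} {g : S' ⟶ S} {g' : X' ⟶ X} {f' : X' ⟶ S'}

/-- global form of flat base change for sections: `psi` over the whole preimage is bijective. -/
theorem key_top [QuasiCompact f] [QuasiSeparated f] [Flat g] (M : X.Modules) [M.IsQuasicoherent]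
    (h : IsPullback g' f' f g) (d : Datum g) (hV : IsAffineOpen d.V) (hV' : IsAffineOpen d.V')
    (e' : f' ⁻¹ᵁ d.V' ≤ g' ⁻¹ᵁ (f ⁻¹ᵁ d.V)) :
    Function.Bijective (psi M h d (topSub f d) (f' ⁻¹ᵁ d.V') e' le_rfl) := by
  haveI : Module.Flat (RA d) (RA' d) := g.flat_appLE hV hV' d.e
  obtain ⟨I, T, hI, hT, U, a, b, Ut, hUaff, hUtaff, hta, htb, hcovU, hcovT⟩ :=
    exists_covers f d hV
  exact psi_top_bijective M h d U a b Ut hta htb hcovU hcovT
    (fun i => psi_bijective_of_affine M h d hV hV' (U i) (hUaff i))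
    (fun t => (psi_bijective_of_affine M h d hV hV' (Ut t) (hUtaff t)).1) e'

/-- **descent of global generation** along a flat surjective base change of affine bases. -/
theorem ggAt_of_ggAt_pullback (h : IsPullback g' f' f g) [IsAffine S] [IsAffine S']
    [QuasiCompact f] [QuasiSeparated f] [Flat g] [Surjective g]
    (F : X.Modules) [F.IsQuasicoherent]
    (hG : ∀ z : X', GGAt ((Scheme.Modules.pullback g').obj F) z) : ∀ x : X, GGAt F x := by
  intro x
  haveI : Flat g' := MorphismProperty.of_isPullback (P := @Flat) h.flip inferInstance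
  haveI : Surjective g' := MorphismProperty.of_isPullback (P := @Surjective) h.flip inferInstance
  haveI : ((Scheme.Modules.pullback g').obj F).IsQuasicoherent :=
    Groth.Agent.Helper13.Pullback.isQuasicoherent_pullback g' F
  let d : Datum g := ⟨⊤, ⊤, le_top⟩
  have hV : IsAffineOpen d.V := isAffineOpen_top S
  have hV' : IsAffineOpen d.V' := isAffineOpen_top S'
  have e' : f' ⁻¹ᵁ d.V' ≤ g' ⁻¹ᵁ (f ⁻¹ᵁ d.V) := fun _ _ => trivial
  have keyX := key_top F h d hV hV' e'
  obtain ⟨_, ⟨U, hU, rfl⟩, hxU, -⟩ :=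
    X.isBasis_affineOpens.exists_subset_of_mem_open (Set.mem_univ x) isOpen_univ
  let W : Sub f d := ⟨U, fun _ _ => trivial⟩
  have hU' : IsAffineOpen (pre g' f' d U) := isAffineOpen_pre h d hV hV' W hU
  have e1 : pre g' f' d U ≤ g' ⁻¹ᵁ U := pre_le_left g' f' d U
  have htop : (⊤ : X.Opens) ≤ f ⁻¹ᵁ d.V := fun _ _ => trivial
  -- the family of restrictions of global sections
  let s : Γ(F, f ⁻¹ᵁ d.V) → Γ(F, U) := fun t => res F W.2 t
  suffices hspan : Submodule.span Γ(X, U) (Set.range s) = ⊤ by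
    have h1 := genOn_of_span_eq_top F hU s hspan x hxU
    unfold GGAt
    rw [eq_top_iff, ← h1]
    apply Submodule.span_mono
    rintro _ ⟨t, rfl⟩
    refine ⟨res F htop t, ?_⟩
    have q1 : F.presheaf.germ ⊤ x trivial (res F htop t) =
        F.presheaf.germ (f ⁻¹ᵁ d.V) x trivial t :=
      TopCat.Presheaf.germ_res_apply F.presheaf (homOfLE htop) x trivial t
    have q2 : F.presheaf.germ U x hxU (s t) = F.presheaf.germ (f ⁻¹ᵁ d.V) x trivial t :=
      TopCat.Presheaf.germ_res_apply F.presheaf (homOfLE W.2) x hxU t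
    exact q1.trans q2.symm
  -- Step A
  have hA : Submodule.span Γ(X', pre g' f' d U)
      (Set.range fun t : Γ(F, f ⁻¹ᵁ d.V) => pullRes g' F e1 (s t)) = ⊤ := by
    have hgen : GenOn ((Scheme.Modules.pullback g').obj F) (pre g' f' d U)
        (fun τ : Γ((Scheme.Modules.pullback g').obj F, ⊤) =>
          res ((Scheme.Modules.pullback g').obj F) le_top τ) := by
      intro z hz
      have hz' := hG z
      unfold GGAt at hz'
      rw [eq_top_iff, ← hz']
      apply Submodule.span_mono
      rintro _ ⟨τ, rfl⟩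
      exact ⟨τ, TopCat.Presheaf.germ_res_apply _ (homOfLE le_top) z hz τ⟩
    have h2 := span_eq_top_of_genOn ((Scheme.Modules.pullback g').obj F) hU' _ hgen
    rw [eq_top_iff, ← h2, Submodule.span_le]
    rintro _ ⟨τ, rfl⟩
    obtain ⟨ξ, hξ⟩ := keyX.2
      (res ((Scheme.Modules.pullback g').obj F) (le_top : f' ⁻¹ᵁ d.V' ≤ ⊤) τ)
    have h3 := psi_res F h d (W₁ := topSub f d) (W₂ := W) W.2 (f' ⁻¹ᵁ d.V') (pre g' f' d U)
      (pre_le_right g' f' d U) e' le_rfl e1 (pre_le_right g' f' d U) ξ
    rw [hξ, Groth.Agent.Helper13.Qcqs.res_res] at h3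
    change res ((Scheme.Modules.pullback g').obj F) le_top τ ∈ _
    rw [h3]
    clear h3 hξ
    induction ξ using TensorProduct.induction_on with
    | zero =>
      rw [map_zero, map_zero]
      exact Submodule.zero_mem _
    | tmul a' t =>
      rw [LinearMap.lTensor_tmul, psi_tmul]
      apply Submodule.smul_mem
      apply Submodule.subset_span
      exact ⟨t.out, rfl⟩
    | add y y' hy hy' =>
      rw [map_add, map_add]
      exact Submodule.add_mem _ hy hy'
  -- Step B
  letI alg : Algebra Γ(X, U) Γ(X', pre g' f' d U) := (g'.appLE U (pre g' f' d U) e1).hom.toAlgebra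
  haveI : Module.Flat Γ(X, U) Γ(X', pre g' f' d U) := g'.flat_appLE hU hU' e1
  let E2 := sectionsPullbackEquiv g' F hU' hU e1
  have hE2 : ∀ m : Γ(F, U), E2 (pullRes g' F e1 m) = (1 : Γ(X', pre g' f' d U)) ⊗ₜ[Γ(X, U)] m :=
    fun m => sectionsPullbackEquiv_pullRes g' F hU' hU e1 m
  set P : Submodule Γ(X, U) Γ(F, U) := Submodule.span Γ(X, U) (Set.range s) with hP
  have hzero : ∀ y : Γ(X', pre g' f' d U) ⊗[Γ(X, U)] Γ(F, U),
      (P.mkQ.baseChange Γ(X', pre g' f' d U)) y = 0 := by
    intro y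
    obtain ⟨w, rfl⟩ := E2.surjective y
    have hw : w ∈ Submodule.span Γ(X', pre g' f' d U)
        (Set.range fun t : Γ(F, f ⁻¹ᵁ d.V) => pullRes g' F e1 (s t)) := by
      rw [hA]; trivial
    induction hw using Submodule.span_induction with
    | mem w hw =>
      obtain ⟨t, rfl⟩ := hw
      rw [hE2, LinearMap.baseChange_tmul]
      have : P.mkQ (s t) = 0 :=
        (Submodule.Quotient.mk_eq_zero _).2 (Submodule.subset_span ⟨t, rfl⟩)
      rw [this, TensorProduct.tmul_zero]
    | zero => rw [map_zero, map_zero]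
    | add a b _ _ ha hb => rw [map_add, map_add, ha, hb, add_zero]
    | smul c a _ ha => rw [map_smul, map_smul, ha, smul_zero]
  haveI hsub : Subsingleton (Γ(X', pre g' f' d U) ⊗[Γ(X, U)] (Γ(F, U) ⧸ P)) := by
    refine subsingleton_of_forall_eq 0 (fun z => ?_)
    induction z using TensorProduct.induction_on with
    | zero => rfl
    | tmul b q =>
      obtain ⟨m, rfl⟩ := P.mkQ_surjective q
      have := hzero (b ⊗ₜ[Γ(X, U)] m)
      rwa [LinearMap.baseChange_tmul] at this
    | add a b ha hb => rw [ha, hb, add_zero]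
  rw [eq_top_iff]
  intro m _
  have h5 := map_ker_toSpanSingleton_eq_top (A := Γ(X, U)) Γ(X', pre g' f' d U)
    (Γ(F, U) ⧸ P) (P.mkQ m)
  have hcov : g' ⁻¹ᵁ U ≤ ⨆ _ : Unit, pre g' f' d U := by
    refine le_trans ?_ (le_iSup (fun _ : Unit => pre g' f' d U) ())
    exact le_inf le_rfl (fun _ _ => trivial)
  have h6 : LinearMap.ker (LinearMap.toSpanSingleton Γ(X, U) (Γ(F, U) ⧸ P) (P.mkQ m)) = ⊤ :=
    ideal_eq_top_of_map_eq_top g' hU (fun _ : Unit => pre g' f' d U) (fun _ => hU')
      (fun _ => e1) hcov _ (fun _ => h5)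
  have h7 : (1 : Γ(X, U)) ∈
      LinearMap.ker (LinearMap.toSpanSingleton Γ(X, U) (Γ(F, U) ⧸ P) (P.mkQ m)) := by
    rw [h6]; trivial
  rw [LinearMap.mem_ker, LinearMap.toSpanSingleton_apply, one_smul] at h7
  exact (Submodule.Quotient.mk_eq_zero _).1 h7

end Groth.Agent.Helper6.GGDesc
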