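import Groth.Prelude.Def_FSch3
namespace Groth.Agent.Helper6.IdealComap
open AlgebraicGeometry CategoryTheory Limits Scheme.IdealSheafData
universe u
variable {X Y : Scheme.{u}}

theorem ideal_comap_top_of_isAffine [IsAffine X] [IsAffine Y] (f : X ⟶ Y) (K : Y.IdealSheafData) :
    (K.comap f).ideal ⟨⊤, isAffineOpen_top X⟩ =
      (K.ideal ⟨⊤, isAffineOpen_top Y⟩).map f.appTop.hom := by
  apply le_antisymm
  · have h1 : K.comap f ≤ ofIdealTop ((K.ideal ⟨⊤, isAffineOpen_top Y⟩).map f.appTop.hom) := by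
      rw [← le_map_iff_comap_le]
      apply le_of_isAffine
      rw [ideal_map_of_isAffineHom]
      have : (ofIdealTop ((K.ideal ⟨⊤, isAffineOpen_top Y⟩).map f.appTop.hom)).ideal
          ⟨f ⁻¹ᵁ ⊤, (isAffineOpen_top Y).preimage f⟩ = (K.ideal ⟨⊤, isAffineOpen_top Y⟩).map f.appTop.hom := by
        change (ofIdealTop ((K.ideal ⟨⊤, isAffineOpen_top Y⟩).map f.appTop.hom)).ideal
          ⟨⊤, isAffineOpen_top X⟩ = _
        simp
      rw [this]
      exact Ideal.le_comap_map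
    simpa using h1 ⟨⊤, isAffineOpen_top X⟩
  · rw [Ideal.map_le_iff_le_comap]
    have h2 := le_map_comap K f ⟨⊤, isAffineOpen_top Y⟩
    rwa [ideal_map_of_isAffineHom] at h2

theorem ideal_image_top (K : X.IdealSheafData) (U : X.affineOpens) :
    (K.comap U.1.ι).ideal ⟨⊤, @isAffineOpen_top _ U.2⟩ =
      K.ideal ⟨U.1.ι ''ᵁ ⊤, by rw [Scheme.Opens.ι_image_top]; exact U.2⟩ := by
  have : IsAffine U.1.toScheme := U.2
  rw [ideal_comap_of_isOpenImmersion]
  simp only [Scheme.Opens.ι_appIso]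
  exact Ideal.comap_id _

theorem ideal_map_topIso (K : X.IdealSheafData) (U : X.affineOpens) :
    (K.ideal ⟨U.1.ι ''ᵁ ⊤, by rw [Scheme.Opens.ι_image_top]; exact U.2⟩).map U.1.topIso.hom.hom =
      K.ideal U := by
  exact K.map_ideal' (U := U) (V := ⟨U.1.ι ''ᵁ ⊤, by rw [Scheme.Opens.ι_image_top]; exact U.2⟩)
    (eqToHom U.1.ι_image_top.symm).op

theorem ideal_comap (f : X ⟶ Y) (K : Y.IdealSheafData) (U : X.affineOpens) (V : Y.affineOpens)
    (e : U.1 ≤ f ⁻¹ᵁ V.1) :
    (K.comap f).ideal U = (K.ideal V).map (f.appLE V.1 U.1 e).hom := by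
  have : IsAffine U.1.toScheme := U.2
  have : IsAffine V.1.toScheme := V.2
  have h1 : (K.comap f).comap U.1.ι = (K.comap V.1.ι).comap (f.resLE V.1 U.1 e) := by
    rw [← comap_comp, ← comap_comp, Scheme.Hom.resLE_comp_ι]
  have h2 := ideal_comap_top_of_isAffine (f.resLE V.1 U.1 e) (K.comap V.1.ι)
  rw [← h1, ideal_image_top, ideal_image_top] at h2
  rw [← ideal_map_topIso (K.comap f) U, h2, ← ideal_map_topIso K V]
  have key : (f.resLE V.1 U.1 e).appTop ≫ U.1.topIso.hom = V.1.topIso.hom ≫ f.appLE V.1 U.1 e := by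
    have h3 : (f.resLE V.1 U.1 e).appTop = V.1.topIso.hom ≫ f.appLE V.1 U.1 e ≫ U.1.topIso.inv :=
      Scheme.Hom.resLE_app_top f e
    rw [h3, Category.assoc, Category.assoc, Iso.inv_hom_id, Category.comp_id]
  refine (Ideal.map_map _ _).trans (Eq.trans ?_ (Ideal.map_map _ _).symm)
  exact congrArg (fun φ : Γ(V.1.toScheme, ⊤) ⟶ Γ(X, U.1) => Ideal.map φ.hom _) key

theorem ext_of_forall_affine_le (f : X ⟶ Y) {I J : X.IdealSheafData}
    (H : ∀ (U : X.affineOpens) (V : Y.affineOpens), U.1 ≤ f ⁻¹ᵁ V.1 → I.ideal U = J.ideal U) :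
    I = J := by
  refine ext_of_iSup_eq_top (ι := {p : X.affineOpens × Y.affineOpens // p.1.1 ≤ f ⁻¹ᵁ p.2.1})
    (fun p => p.1.1) ?_ (fun p => H p.1.1 p.1.2 p.2)
  rw [eq_top_iff]
  rintro x -
  obtain ⟨V, hV, hxV, -⟩ := (TopologicalSpace.Opens.isBasis_iff_nbhd.mp Y.isBasis_affineOpens)
    (show f x ∈ (⊤ : Y.Opens) from trivial)
  obtain ⟨U, hU, hxU, hUV⟩ := (TopologicalSpace.Opens.isBasis_iff_nbhd.mp X.isBasis_affineOpens)
    (show x ∈ f ⁻¹ᵁ V from hxV)
  exact TopologicalSpace.Opens.mem_iSup.mpr ⟨⟨(⟨U, hU⟩, ⟨V, hV⟩), hUV⟩, hxU⟩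

theorem comap_mul (f : X ⟶ Y) (K₁ K₂ : Y.IdealSheafData) :
    (K₁ * K₂).comap f = K₁.comap f * K₂.comap f := by
  refine ext_of_forall_affine_le f fun U V e => ?_
  rw [ideal_comap f _ U V e, ideal_mul, ideal_mul, Pi.mul_apply, Pi.mul_apply, Ideal.map_mul,
    ideal_comap f _ U V e, ideal_comap f _ U V e]

theorem comap_pow (f : X ⟶ Y) (K : Y.IdealSheafData) (n : ℕ) :
    (K ^ n).comap f = K.comap f ^ n := by
  refine ext_of_forall_affine_le f fun U V e => ?_
  rw [ideal_comap f _ U V e, ideal_pow, ideal_pow, Pi.pow_apply, Pi.pow_apply, Ideal.map_pow,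
    ideal_comap f _ U V e]

theorem idealSpec_ideal_top (A : Type u) [CommRing A] (J : Ideal A) :
    (FSch.idealSpec A J).ideal ⟨⊤, isAffineOpen_top _⟩ =
      J.comap (Scheme.ΓSpecIso (CommRingCat.of A)).hom.hom := by
  unfold FSch.idealSpec
  rw [Scheme.Hom.ker_apply]
  change RingHom.ker (Spec.map (CommRingCat.ofHom (Ideal.Quotient.mk J))).appTop.hom = _
  have h := Scheme.ΓSpecIso_naturality (CommRingCat.ofHom (Ideal.Quotient.mk J))
  have h2 : (Spec.map (CommRingCat.ofHom (Ideal.Quotient.mk J))).appTop =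
      (Scheme.ΓSpecIso (CommRingCat.of A)).hom ≫ CommRingCat.ofHom (Ideal.Quotient.mk J) ≫
        (Scheme.ΓSpecIso (CommRingCat.of (A ⧸ J))).inv := by
    rw [← Category.assoc, ← h, Category.assoc, Iso.hom_inv_id, Category.comp_id]
  rw [h2]
  ext x
  simp only [RingHom.mem_ker, Ideal.mem_comap, CommRingCat.hom_comp, RingHom.coe_comp,
    Function.comp_apply, CommRingCat.hom_ofHom]
  rw [← Ideal.Quotient.eq_zero_iff_mem]
  constructor
  · intro hx
    have := congrArg (Scheme.ΓSpecIso (CommRingCat.of (A ⧸ J))).hom.hom hx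
    simpa using this
  · intro hx
    rw [hx, map_zero]

theorem comap_idealSpec (A B : Type u) [CommRing A] [CommRing B] (φ : B →+* A) (𝔟 : Ideal B) :
    (FSch.idealSpec B 𝔟).comap (Spec.map (CommRingCat.ofHom φ)) = FSch.idealSpec A (𝔟.map φ) := by
  apply Scheme.IdealSheafData.ext_of_isAffine
  rw [ideal_comap_top_of_isAffine, idealSpec_ideal_top, idealSpec_ideal_top]
  have h := Scheme.ΓSpecIso_naturality (CommRingCat.ofHom φ)
  ext x
  constructor
  · intro hx
    rw [Ideal.mem_comap]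
    refine Submodule.span_induction (p := fun y _ => (Scheme.ΓSpecIso (CommRingCat.of A)).hom.hom y ∈ Ideal.map φ 𝔟)
      ?_ (by simp) (fun a b _ _ ha hb => by rw [map_add]; exact Ideal.add_mem _ ha hb)
      (fun a b _ hb => by rw [smul_eq_mul, map_mul]; exact Ideal.mul_mem_left _ _ hb) hx
    rintro _ ⟨y, hy, rfl⟩
    rw [SetLike.mem_coe, Ideal.mem_comap] at hy
    have := congrArg (fun ψ => ψ.hom y) h
    simp only [CommRingCat.hom_comp, RingHom.coe_comp, Function.comp_apply, CommRingCat.hom_ofHom] at this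
    rw [this]
    exact Ideal.mem_map_of_mem _ hy
  · intro hx
    rw [Ideal.mem_comap] at hx
    have hx' : x = (Scheme.ΓSpecIso (CommRingCat.of A)).inv.hom
        ((Scheme.ΓSpecIso (CommRingCat.of A)).hom.hom x) := by simp
    rw [hx']
    refine Submodule.span_induction (p := fun y _ => (Scheme.ΓSpecIso (CommRingCat.of A)).inv.hom y ∈
        Ideal.map (Spec.map (CommRingCat.ofHom φ)).appTop.hom
          (Ideal.comap (Scheme.ΓSpecIso (CommRingCat.of B)).hom.hom 𝔟))
      ?_ (by simp) (fun a b _ _ ha hb => by rw [map_add]; exact Ideal.add_mem _ ha hb)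
      (fun a b _ hb => by rw [smul_eq_mul, map_mul]; exact Ideal.mul_mem_left _ _ hb) hx
    rintro _ ⟨y, hy, rfl⟩
    have h1 : (Scheme.ΓSpecIso (CommRingCat.of A)).inv.hom (φ y) =
        (Spec.map (CommRingCat.ofHom φ)).appTop.hom ((Scheme.ΓSpecIso (CommRingCat.of B)).inv.hom y) := by
      have := congrArg (fun ψ => (Scheme.ΓSpecIso (CommRingCat.of A)).inv.hom
        (ψ.hom ((Scheme.ΓSpecIso (CommRingCat.of B)).inv.hom y))) h
      simp only [CommRingCat.hom_comp, RingHom.coe_comp, Function.comp_apply, CommRingCat.hom_ofHom] at this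
      simpa using this.symm
    rw [h1]
    apply Ideal.mem_map_of_mem
    rw [Ideal.mem_comap]
    simpa using hy

end Groth.Agent.Helper6.IdealComap
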