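import Mathlib
import Groth.Prelude.Def_Coh
import Groth.Prelude.Def_CohB1
import Groth.Prelude.Def_ShStab
import Groth.Prelude.Def_ParBun
import Groth.Agent.S1524
import Groth.Agent.S9514
import Groth.Agent.Lib.Helper13.TwistSES
import Groth.Agent.Lib.Helper13.PnSerreUnifAmple
import Groth.Agent.Lib.Helper5.K0Coh

/-!
# Parabolic Hilbert functions: additivity of twisted Euler characteristics (helper6)

* `psum`: the weighted sum `a_{l+1} + Σ_j w_j (a_j - a_{j+1})`, `parSum_eq_psum`;
* `subSC`, `subSC_shortExact`: `0 → A ∩ F → A → im(A → G) → 0` for a subobject `A` of `E` and a short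
  exact sequence `0 → F → E → G → 0` in an abelian category;
* `euler_twist_add`: `χ(B ⊗ L^m) = χ(A ⊗ L^m) + χ(C ⊗ L^m)` for a short exact sequence of coherent modules
  on a proper scheme over a field and an invertible `L`;
* `parHilb_add`, `parHilb_eq`.
-/

set_option autoImplicit false
set_option linter.style.haveILetI false
set_option linter.unusedSectionVars false
universe u
open CategoryTheory CategoryTheory.Limits AlgebraicGeometry Polynomial

namespace Groth.Agent.Helper6.ParHilb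

section Psum

/-- the weighted sum `a_{l+1} + Σ_j w_j (a_j - a_{j+1})`. -/
noncomputable def psum (l : ℕ) (w : Fin (l + 1) → ℝ) (a : Fin (l + 2) → ℝ) : ℝ :=
  a (Fin.last (l + 1)) + ∑ j : Fin (l + 1), w j * (a j.castSucc - a j.succ)

theorem psum_add (l : ℕ) (w : Fin (l + 1) → ℝ) (a b : Fin (l + 2) → ℝ) :
    psum l w a + psum l w b = psum l w (fun j => a j + b j) := by
  unfold psum
  rw [add_add_add_comm, ← Finset.sum_add_distrib]
  congr 1
  apply Finset.sum_congr rfl
  intro j _
  ring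

theorem psum_const_sub (l : ℕ) (w : Fin (l + 1) → ℝ) (wX : Fin (l + 2) → ℝ)
    (hw : ∀ j : Fin (l + 1), wX j.castSucc = w j) (hlast : wX (Fin.last (l + 1)) = 1) (c : ℝ)
    (h : Fin (l + 2) → ℝ) (h0 : h 0 = 0) :
    psum l w (fun j => c - h j) =
      c - ∑ j : Fin (l + 1), (wX j.succ - wX j.castSucc) * h j.succ := by
  unfold psum
  have key : ∑ j : Fin (l + 1), wX j.succ * h j.succ -
      ∑ j : Fin (l + 1), wX j.castSucc * h j.castSucc = h (Fin.last (l + 1)) := by
    have e1 := Fin.sum_univ_succ (fun t : Fin (l + 2) => wX t * h t)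
    have e2 := Fin.sum_univ_castSucc (fun t : Fin (l + 2) => wX t * h t)
    simp only [h0, mul_zero, zero_add, hlast, one_mul] at e1 e2
    linarith
  have e3 : ∑ j : Fin (l + 1), w j * ((c - h j.castSucc) - (c - h j.succ)) =
      ∑ j : Fin (l + 1), wX j.castSucc * h j.succ -
        ∑ j : Fin (l + 1), wX j.castSucc * h j.castSucc := by
    rw [← Finset.sum_sub_distrib]
    apply Finset.sum_congr rfl
    intro j _
    rw [hw]
    ring
  have e4 : ∑ j : Fin (l + 1), (wX j.succ - wX j.castSucc) * h j.succ =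
      ∑ j : Fin (l + 1), wX j.succ * h j.succ -
        ∑ j : Fin (l + 1), wX j.castSucc * h j.succ := by
    rw [← Finset.sum_sub_distrib]
    apply Finset.sum_congr rfl
    intro j _
    ring
  rw [e3, e4]
  linarith

end Psum

section Generic

variable {C : Type*} [Category C]

theorem parSum_eq_psum {E : C} (𝓔 : ParSh.Str E) (f : C → ℝ) :
    𝓔.parSum f = psum 𝓔.l 𝓔.wt (fun j => f ((𝓔.pieceX j : Subobject E) : C)) := by
  unfold ParSh.Str.parSum psum
  simp only [ParSh.Str.pieceX_last, ParSh.Str.pieceX_castSucc]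

theorem induced_pieceX [HasPullbacks C] {E F : C} (𝓔 : ParSh.Str E) (i : F ⟶ E)
    (j : Fin (𝓔.l + 2)) :
    (𝓔.induced i).pieceX j = (Subobject.pullback i).obj (𝓔.pieceX j) := by
  induction j using Fin.lastCases with
  | last =>
    have h1 : (𝓔.induced i).pieceX (Fin.last (𝓔.l + 1)) = (𝓔.induced i).bot :=
      (𝓔.induced i).pieceX_last
    exact h1.trans (by rw [𝓔.pieceX_last]; rfl)
  | cast j =>
    have h1 : (𝓔.induced i).pieceX j.castSucc = (𝓔.induced i).piece j :=
      (𝓔.induced i).pieceX_castSucc j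
    exact h1.trans (by rw [𝓔.pieceX_castSucc]; rfl)

theorem coinduced_pieceX [HasImages C] [HasEqualizers C] [Balanced C] {E G : C} (𝓔 : ParSh.Str E)
    (p : E ⟶ G) [Epi p] (j : Fin (𝓔.l + 2)) :
    (𝓔.coinduced p).pieceX j = imageSubobject ((𝓔.pieceX j).arrow ≫ p) := by
  induction j using Fin.lastCases with
  | last =>
    have h1 : (𝓔.coinduced p).pieceX (Fin.last (𝓔.l + 1)) = (𝓔.coinduced p).bot :=
      (𝓔.coinduced p).pieceX_last
    exact h1.trans (by rw [𝓔.pieceX_last]; rfl)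
  | cast j =>
    have h1 : (𝓔.coinduced p).pieceX j.castSucc = (𝓔.coinduced p).piece j :=
      (𝓔.coinduced p).pieceX_castSucc j
    exact h1.trans (by rw [𝓔.pieceX_castSucc]; rfl)

theorem parSum_induced [HasPullbacks C] {E F : C} (𝓔 : ParSh.Str E) (i : F ⟶ E) (f : C → ℝ) :
    (𝓔.induced i).parSum f =
      psum 𝓔.l 𝓔.wt (fun j => f (((Subobject.pullback i).obj (𝓔.pieceX j) : Subobject F) : C)) := by
  rw [parSum_eq_psum]
  exact congrArg (psum 𝓔.l 𝓔.wt) (funext fun j => by rw [induced_pieceX])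

theorem parSum_coinduced [HasImages C] [HasEqualizers C] [Balanced C] {E G : C} (𝓔 : ParSh.Str E)
    (p : E ⟶ G) [Epi p] (f : C → ℝ) :
    (𝓔.coinduced p).parSum f =
      psum 𝓔.l 𝓔.wt (fun j => f ((imageSubobject ((𝓔.pieceX j).arrow ≫ p) : Subobject G) : C)) := by
  rw [parSum_eq_psum]
  exact congrArg (psum 𝓔.l 𝓔.wt) (funext fun j => by rw [coinduced_pieceX])

end Generic

section Ab

variable {C : Type*} [Category C] [Abelian C]

theorem mono_pullbackπ {F E : C} (i : F ⟶ E) [Mono i] (A : Subobject E) :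
    Mono (Subobject.pullbackπ i A) :=
  ⟨fun a b hab => by
    apply (Subobject.isPullback i A).hom_ext hab
    rw [← cancel_mono i, Category.assoc, Category.assoc, ← (Subobject.isPullback i A).w,
      ← Category.assoc, hab, Category.assoc]⟩

theorem pb_comp_zero {F E G : C} (i : F ⟶ E) (p : E ⟶ G) (w : i ≫ p = 0) (A : Subobject E) :
    Subobject.pullbackπ i A ≫ (A.arrow ≫ p) = 0 := by
  rw [← Category.assoc, (Subobject.isPullback i A).w, Category.assoc, w, Limits.comp_zero]

/-- the short complex `A ∩ F → A → im (A → G)`. -/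
noncomputable def subSC {F E G : C} (i : F ⟶ E) (p : E ⟶ G) (w : i ≫ p = 0) (A : Subobject E) :
    ShortComplex C :=
  ShortComplex.mk (Subobject.pullbackπ i A) (factorThruImageSubobject (A.arrow ≫ p)) (by
    rw [← cancel_mono (imageSubobject (A.arrow ≫ p)).arrow, Category.assoc,
      imageSubobject_arrow_comp, Limits.zero_comp]
    exact pb_comp_zero i p w A)

theorem exists_lift {F E G : C} (i : F ⟶ E) (p : E ⟶ G) (w : i ≫ p = 0)
    (hS : (ShortComplex.mk i p w).ShortExact) (A : Subobject E) {T : C} (t : T ⟶ (A : C))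
    (ht : t ≫ A.arrow ≫ p = 0) :
    ∃ l : T ⟶ ((Subobject.pullback i).obj A : C), l ≫ Subobject.pullbackπ i A = t := by
  haveI : Mono (ShortComplex.mk i p w).f := hS.mono_f
  have h1 : (t ≫ A.arrow) ≫ (ShortComplex.mk i p w).g = 0 := by
    rw [Category.assoc]; exact ht
  obtain ⟨s, hs⟩ := hS.exact.lift' (t ≫ A.arrow) h1
  exact ⟨(Subobject.isPullback i A).lift t s hs.symm, (Subobject.isPullback i A).lift_fst _ _ _⟩

/-- `A ∩ F` is the kernel of `A → G`. -/
noncomputable def isKernelPb {F E G : C} (i : F ⟶ E) (p : E ⟶ G) (w : i ≫ p = 0)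
    (hS : (ShortComplex.mk i p w).ShortExact) (A : Subobject E) :
    IsLimit (KernelFork.ofι (Subobject.pullbackπ i A) (pb_comp_zero i p w A)) :=
  haveI : Mono i := hS.mono_f
  haveI : Mono (Subobject.pullbackπ i A) := mono_pullbackπ i A
  KernelFork.IsLimit.ofι' _ _ (fun {_} t ht =>
    ⟨(exists_lift i p w hS A t ht).choose, (exists_lift i p w hS A t ht).choose_spec⟩)

theorem subSC_shortExact {F E G : C} (i : F ⟶ E) (p : E ⟶ G) (w : i ≫ p = 0)
    (hS : (ShortComplex.mk i p w).ShortExact) (A : Subobject E) : (subSC i p w A).ShortExact := by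
  haveI : Mono i := hS.mono_f
  haveI hm : Mono (subSC i p w A).f := mono_pullbackπ i A
  haveI he : Epi (subSC i p w A).g :=
    (inferInstance : Epi (factorThruImageSubobject (A.arrow ≫ p)))
  refine ShortComplex.ShortExact.mk' ?_ hm he
  apply ShortComplex.exact_of_f_is_kernel
  exact KernelFork.IsLimit.ofι' _ _ (fun {T} t ht => by
    have ht' : (show T ⟶ (A : C) from t) ≫ A.arrow ≫ p = 0 := by
      calc (show T ⟶ (A : C) from t) ≫ A.arrow ≫ p
          = (show T ⟶ (A : C) from t) ≫ (factorThruImageSubobject (A.arrow ≫ p) ≫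
              (imageSubobject (A.arrow ≫ p)).arrow) := by rw [imageSubobject_arrow_comp]
        _ = ((show T ⟶ (A : C) from t) ≫ factorThruImageSubobject (A.arrow ≫ p)) ≫
              (imageSubobject (A.arrow ≫ p)).arrow := (Category.assoc _ _ _).symm
        _ = 0 := by
          rw [show (show T ⟶ (A : C) from t) ≫ factorThruImageSubobject (A.arrow ≫ p) = 0 from ht,
            Limits.zero_comp]
    exact ⟨(exists_lift i p w hS A t ht').choose, (exists_lift i p w hS A t ht').choose_spec⟩)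

end Ab

section Sch

theorem euler_twist_add (k : Type u) [Field k] (X : Scheme.{u}) [X.Over (Spec (CommRingCat.of k))]
    [IsProper (X ↘ Spec (CommRingCat.of k))] (L : X.Modules) (hL : PicF.IsInvertible L)
    (S : ShortComplex X.Modules) (hS : S.ShortExact)
    (h₁ : Coh.IsCoh S.X₁) (h₂ : Coh.IsCoh S.X₂) (h₃ : Coh.IsCoh S.X₃) (m : ℕ) :
    Curv2.euler k X (ShStab.twist X L S.X₂ m) =
      Curv2.euler k X (ShStab.twist X L S.X₁ m) + Curv2.euler k X (ShStab.twist X L S.X₃ m) := by
  have hLm := Groth.Agent.Helper13.Inv.isInvertible_tensorPow L hL m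
  have hT := Groth.Agent.Helper13.TwistSES.tensorSC_shortExact S hS (CohB1.tensorPow L m) hLm
  exact Groth.Agent.S1524.result k X
    (Groth.Agent.Helper13.TwistSES.tensorSC S (CohB1.tensorPow L m)) hT
    (Groth.Agent.Helper13.PnSerreUnif.isCoh_tensor_pow L hL _ h₁ m)
    (Groth.Agent.Helper13.PnSerreUnif.isCoh_tensor_pow L hL _ h₂ m)
    (Groth.Agent.Helper13.PnSerreUnif.isCoh_tensor_pow L hL _ h₃ m)

theorem isZero_twist (X : Scheme.{u}) (L Z : X.Modules) (hZ : IsZero Z) (m : ℕ) :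
    IsZero (ShStab.twist X L Z m) := by
  rw [IsZero.iff_id_eq_zero]
  have h := Groth.Agent.Helper13.Tensor.map_id (M := Z) (N := CohB1.tensorPow L m)
  have h0 : (𝟙 Z : Z ⟶ Z) = 0 := hZ.eq_of_src _ _
  rw [h0, Groth.Agent.Helper13.TwistSES.map_zero_left] at h
  exact h.symm

theorem euler_eq_zero_of_isZero (k : Type u) [Field k] (X : Scheme.{u})
    [X.Over (Spec (CommRingCat.of k))] [IsProper (X ↘ Spec (CommRingCat.of k))]
    (Z : X.Modules) (hz : IsZero Z) : Curv2.euler k X Z = 0 := by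
  let S : ShortComplex X.Modules := ShortComplex.mk (𝟙 Z) (𝟙 Z) (hz.eq_of_src _ _)
  have hS : S.ShortExact :=
    { exact := ShortComplex.exact_of_isZero_X₂ S hz
      mono_f := (inferInstance : Mono (𝟙 Z))
      epi_g := (inferInstance : Epi (𝟙 Z)) }
  have hc : Coh.IsCoh Z := Groth.Agent.Helper5.K0Coh.isCoh_of_isZero hz
  have := Groth.Agent.S1524.result k X S hS hc hc hc
  change Curv2.euler k X Z = Curv2.euler k X Z + Curv2.euler k X Z at this
  omega

theorem euler_twist_sub_add (k : Type u) [Field k] (X : Scheme.{u})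
    [X.Over (Spec (CommRingCat.of k))] [IsProper (X ↘ Spec (CommRingCat.of k))]
    (L : X.Modules) (hL : PicF.IsInvertible L) {F E G : X.Modules} (i : F ⟶ E) (p : E ⟶ G)
    (w : i ≫ p = 0) (hS : (ShortComplex.mk i p w).ShortExact) (hG : Coh.IsCoh G)
    (A : Subobject E) (hA : Coh.IsCoh (A : X.Modules)) (m : ℕ) :
    Curv2.euler k X (ShStab.twist X L (((Subobject.pullback i).obj A : Subobject F) : X.Modules) m) +
      Curv2.euler k X
        (ShStab.twist X L ((imageSubobject (A.arrow ≫ p) : Subobject G) : X.Modules) m) =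
      Curv2.euler k X (ShStab.twist X L (A : X.Modules) m) := by
  haveI : IsLocallyNoetherian X :=
    LocallyOfFiniteType.isLocallyNoetherian (X ↘ Spec (CommRingCat.of k))
  have hT := subSC_shortExact i p w hS A
  have hP : Coh.IsCoh (subSC i p w A).X₁ := by
    have hK := (Groth.Agent.S9514.result X hA hG (A.arrow ≫ p)).1
    exact Groth.Agent.Helper5.K0Coh.isCoh_of_iso
      (IsLimit.conePointUniqueUpToIso (kernelIsKernel (A.arrow ≫ p)) (isKernelPb i p w hS A)) hK
  have hA' : Coh.IsCoh (subSC i p w A).X₂ := hA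
  have hI : Coh.IsCoh (subSC i p w A).X₃ := by
    have hQ := (Groth.Agent.S9514.result X hP hA' (subSC i p w A).f).2
    exact Groth.Agent.Helper5.K0Coh.isCoh_of_iso
      (IsColimit.coconePointUniqueUpToIso (cokernelIsCokernel (subSC i p w A).f) hT.gIsCokernel) hQ
  exact (euler_twist_add k X L hL (subSC i p w A) hT hP hA' hI m).symm

theorem parHilb_add (k : Type u) [Field k] (X : Scheme.{u})
    [X.Over (Spec (CommRingCat.of k))] [IsProper (X ↘ Spec (CommRingCat.of k))]
    (L : X.Modules) (hL : PicF.IsInvertible L) {F E G : X.Modules} (hG : Coh.IsCoh G)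
    (i : F ⟶ E) (p : E ⟶ G) [Epi p] (w : i ≫ p = 0) (hS : (ShortComplex.mk i p w).ShortExact)
    (𝓔 : ParSh.Str E)
    (hcoh : ∀ j, Coh.IsCoh ((𝓔.pieceX j : Subobject E) : X.Modules)) (m : ℕ) :
    (𝓔.induced i).parHilb k X L m + (𝓔.coinduced p).parHilb k X L m = 𝓔.parHilb k X L m := by
  unfold ParSh.Str.parHilb
  rw [parSum_induced, parSum_coinduced, parSum_eq_psum, psum_add]
  refine congrArg (psum 𝓔.l 𝓔.wt) (funext fun j => ?_)
  have := euler_twist_sub_add k X L hL i p w hS hG (𝓔.pieceX j) (hcoh j) m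
  exact_mod_cast this

theorem parHilb_eq (k : Type u) [Field k] (X : Scheme.{u})
    [X.Over (Spec (CommRingCat.of k))] [IsProper (X ↘ Spec (CommRingCat.of k))]
    (L : X.Modules) (hL : PicF.IsInvertible L) (E : X.Modules) (hE : Coh.IsCoh E)
    (𝓔 : ParSh.Str E) (hcoh : ∀ j, Coh.IsCoh ((𝓔.pieceX j : Subobject E) : X.Modules))
    (P : ℚ[X]) (hP : ShStab.IsHilbPoly k X L E P) (H : Fin (𝓔.l + 2) → ℚ[X])
    (hH : ∀ j, ShStab.IsHilbPoly k X L (cokernel (𝓔.pieceX j).arrow) (H j)) (m : ℕ) :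
    𝓔.parHilb k X L m =
      ((P.eval (m : ℚ) : ℚ) : ℝ) -
        ∑ j : Fin (𝓔.l + 1),
          (𝓔.wtX j.succ - 𝓔.wtX j.castSucc) * (((H j.succ).eval (m : ℚ) : ℚ) : ℝ) := by
  haveI : IsLocallyNoetherian X :=
    LocallyOfFiniteType.isLocallyNoetherian (X ↘ Spec (CommRingCat.of k))
  have key : ∀ j : Fin (𝓔.l + 2),
      ((Curv2.euler k X (ShStab.twist X L ((𝓔.pieceX j : Subobject E) : X.Modules) m) : ℤ) : ℝ) =
        ((P.eval (m : ℚ) : ℚ) : ℝ) - (((H j).eval (m : ℚ) : ℚ) : ℝ) := by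
    intro j
    let S : ShortComplex X.Modules :=
      ShortComplex.mk (𝓔.pieceX j).arrow (cokernel.π (𝓔.pieceX j).arrow) (cokernel.condition _)
    have hS : S.ShortExact :=
      { exact := ShortComplex.exact_cokernel _
        mono_f := (inferInstance : Mono (𝓔.pieceX j).arrow)
        epi_g := (inferInstance : Epi (cokernel.π (𝓔.pieceX j).arrow)) }
    have hQ : Coh.IsCoh (cokernel (𝓔.pieceX j).arrow) :=
      (Groth.Agent.S9514.result X (hcoh j) hE _).2
    have h := euler_twist_add k X L hL S hS (hcoh j) hE hQ m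
    have h1 := hP m
    have h2 := hH j m
    have e1 : ((Curv2.euler k X (ShStab.twist X L E m) : ℤ) : ℝ) =
        ((P.eval (m : ℚ) : ℚ) : ℝ) := by
      rw [← h1]; exact (Rat.cast_intCast _).symm
    have e2 : ((Curv2.euler k X (ShStab.twist X L (cokernel (𝓔.pieceX j).arrow) m) : ℤ) : ℝ) =
        (((H j).eval (m : ℚ) : ℚ) : ℝ) := by
      rw [← h2]; exact (Rat.cast_intCast _).symm
    have hχ : ((Curv2.euler k X (ShStab.twist X L E m) : ℤ) : ℝ) =
        ((Curv2.euler k X (ShStab.twist X L ((𝓔.pieceX j : Subobject E) : X.Modules) m) : ℤ) : ℝ) +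
          ((Curv2.euler k X (ShStab.twist X L (cokernel (𝓔.pieceX j).arrow) m) : ℤ) : ℝ) := by
      exact_mod_cast h
    linarith
  have h0 : (((H 0).eval (m : ℚ) : ℚ) : ℝ) = 0 := by
    have htop : 𝓔.pieceX 0 = ⊤ := by
      have e0 : (0 : Fin (𝓔.l + 2)) = (0 : Fin (𝓔.l + 1)).castSucc := by simp
      rw [e0, 𝓔.pieceX_castSucc, 𝓔.piece_zero]
    haveI : IsIso (𝓔.pieceX 0).arrow := by rw [htop]; infer_instance
    have hz : IsZero (cokernel (𝓔.pieceX 0).arrow) := isZero_cokernel_of_epi _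
    have hz' := isZero_twist X L _ hz m
    have h2 := hH 0 m
    rw [← h2, euler_eq_zero_of_isZero k X _ hz']
    simp
  have e : 𝓔.parHilb k X L m =
      psum 𝓔.l 𝓔.wt (fun j => ((P.eval (m : ℚ) : ℚ) : ℝ) - (((H j).eval (m : ℚ) : ℚ) : ℝ)) := by
    unfold ParSh.Str.parHilb
    rw [parSum_eq_psum]
    exact congrArg (psum 𝓔.l 𝓔.wt) (funext key)
  rw [e]
  exact psum_const_sub 𝓔.l 𝓔.wt 𝓔.wtX (fun j => 𝓔.wtX_castSucc j) 𝓔.wtX_last _
    (fun j => (((H j).eval (m : ℚ) : ℚ) : ℝ)) h0

end Sch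

end Groth.Agent.Helper6.ParHilb
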