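import Mathlib
import Groth.Prelude.Def_Coh
import Groth.Prelude.Def_CohB1
import Groth.Prelude.Def_ShStab
import Groth.Agent.S1528
import Groth.Agent.S0051
import Groth.Agent.S9514
import Groth.Agent.Lib.Helper6.ParHilbA
import Groth.Agent.Lib.Lead.EulerK0

/-!
# Degrees of Hilbert polynomials (via Snapper, S1528) and eventual positivity (via S0051)
-/

universe u
open CategoryTheory CategoryTheory.Limits AlgebraicGeometry Polynomial

namespace Groth.Agent.Helper6.HilbDeg

theorem poly_eq_of_eval_nat_eq (P Q : ℚ[X]) (h : ∀ m : ℕ, P.eval (m : ℚ) = Q.eval (m : ℚ)) :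
    P = Q := by
  apply Polynomial.eq_of_infinite_eval_eq
  apply Set.infinite_of_injective_forall_mem (f := fun y : ℕ => (y : ℚ)) Nat.cast_injective
  intro y
  exact h y

theorem eval_aeval_X (Pm : MvPolynomial (Fin 1) ℚ) (x : ℚ) :
    Polynomial.eval x (MvPolynomial.aeval (fun _ : Fin 1 => (Polynomial.X : ℚ[X])) Pm) =
      MvPolynomial.eval (fun _ => x) Pm := by
  induction Pm using MvPolynomial.induction_on with
  | C a =>
    rw [MvPolynomial.aeval_C, MvPolynomial.eval_C]
    exact Polynomial.eval_C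
  | add p q hp hq => simp only [map_add, Polynomial.eval_add, hp, hq]
  | mul_X p i hp =>
    simp only [map_mul, Polynomial.eval_mul, hp, MvPolynomial.aeval_X, MvPolynomial.eval_X,
      Polynomial.eval_X]

variable (k : Type u) [Field k] (X : Scheme.{u}) [X.Over (Spec (CommRingCat.of k))]

theorem euler_nonneg_of_vanishing (F : X.Modules)
    (h : ∀ p : ℕ, 0 < p → Subsingleton (Coh.HH X F p)) : 0 ≤ Curv2.euler k X F := by
  unfold Curv2.euler
  have hz : ∀ i : ℕ, i ≠ 0 → (-1 : ℤ) ^ i * (Module.finrank k (Coh.HH X F i) : ℤ) = 0 := by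
    intro i hi
    haveI := h i (Nat.pos_of_ne_zero hi)
    rw [Module.finrank_zero_of_subsingleton]
    simp
  rw [finsum_eq_single (fun i : ℕ => (-1 : ℤ) ^ i * (Module.finrank k (Coh.HH X F i) : ℤ)) 0 hz]
  simp

variable [IsProper (X ↘ Spec (CommRingCat.of k))]

theorem exists_forall_euler_twist_nonneg (L : X.Modules) (hL : CohB1.IsAmple L) (G : X.Modules)
    (hG : Coh.IsCoh G) :
    ∃ n₀ : ℕ, ∀ n : ℕ, n₀ ≤ n → 0 ≤ Curv2.euler k X (ShStab.twist X L G n) := by
  obtain ⟨n₀, hn₀⟩ :=
    (Groth.Agent.S0051.result k X (X ↘ Spec (CommRingCat.of k)) L hL.1).mp hL G hG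
  exact ⟨n₀, fun n hn => euler_nonneg_of_vanishing k X _ (fun p hp => hn₀ n hn p hp)⟩

/-- Snapper: the Hilbert polynomial of a coherent module whose support has dimension `< d` has no
coefficients in degrees `≥ d`. -/
theorem coeff_eq_zero_of_dim_lt (L : X.Modules) (hL : PicF.IsInvertible L) (G : X.Modules)
    (hG : Coh.IsCoh G) (d : ℕ)
    (hsupp : topologicalKrullDim ↥(CohB1.support G) < (d : WithBot ℕ∞))
    (P : ℚ[X]) (hP : ShStab.IsHilbPoly k X L G P) (n : ℕ) (hn : d ≤ n) : P.coeff n = 0 := by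
  cases d with
  | zero =>
    have hempty := Groth.Agent.Lead.EulerK0.support_eq_empty_of_dim_lt (G := G) hsupp
    have hz := Groth.Agent.Lead.EulerK0.isZero_of_support_eq_empty (G := G) hempty
    have hP0 : P = 0 := by
      apply poly_eq_of_eval_nat_eq
      intro m
      rw [← hP m, Groth.Agent.Helper6.ParHilb.euler_eq_zero_of_isZero k X _
        (Groth.Agent.Helper6.ParHilb.isZero_twist X L G hz m)]
      simp
    rw [hP0]
    simp
  | succ d' =>
    have hsupp' : topologicalKrullDim ↥(CohB1.support G) ≤ (d' : WithBot ℕ∞) := by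
      have h := hsupp
      push_cast at h
      exact ENat.WithBot.lt_add_one_iff.mp h
    obtain ⟨Pm, hdeg, hev⟩ :=
      Groth.Agent.S1528.result k X G hG d' hsupp' 1 (fun _ => L) (fun _ => hL)
    obtain ⟨Q, hQ⟩ : ∃ Q : ℚ[X],
        Q = MvPolynomial.aeval (fun _ : Fin 1 => (Polynomial.X : ℚ[X])) Pm := ⟨_, rfl⟩
    have hQdeg : Q.natDegree ≤ d' := by
      have := MvPolynomial.aeval_natDegree_le (n := 1) Pm hdeg
        (fun _ : Fin 1 => (Polynomial.X : ℚ[X])) (fun _ => Polynomial.natDegree_X_le)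
      rw [hQ]
      simpa using this
    have hPQ : P = Q := by
      apply poly_eq_of_eval_nat_eq
      intro m
      rw [← hP m, hQ, eval_aeval_X]
      exact hev (fun _ => m)
    rw [hPQ]
    exact Polynomial.coeff_eq_zero_of_natDegree_lt (by omega)

/-- The cokernel of a mono of coherent modules is coherent with Hilbert polynomial `P' - P`. -/
theorem isHilbPoly_cokernel (L : X.Modules) (hL : PicF.IsInvertible L) {E E' : X.Modules}
    (hE : Coh.IsCoh E) (hE' : Coh.IsCoh E') (ι : E ⟶ E') [Mono ι] (pE pE' : ℚ[X])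
    (hpE : ShStab.IsHilbPoly k X L E pE) (hpE' : ShStab.IsHilbPoly k X L E' pE') :
    Coh.IsCoh (cokernel ι) ∧ ShStab.IsHilbPoly k X L (cokernel ι) (pE' - pE) := by
  haveI : IsLocallyNoetherian X :=
    LocallyOfFiniteType.isLocallyNoetherian (X ↘ Spec (CommRingCat.of k))
  have hG : Coh.IsCoh (cokernel ι) := (Groth.Agent.S9514.result X hE hE' ι).2
  refine ⟨hG, fun m => ?_⟩
  let S : ShortComplex X.Modules := ShortComplex.mk ι (cokernel.π ι) (cokernel.condition ι)
  have hS : S.ShortExact :=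
    { exact := ShortComplex.exact_cokernel _
      mono_f := (inferInstance : Mono ι)
      epi_g := (inferInstance : Epi (cokernel.π ι)) }
  have h := Groth.Agent.Helper6.ParHilb.euler_twist_add k X L hL S hS hE hE' hG m
  have h' : (Curv2.euler k X (ShStab.twist X L E' m) : ℚ) =
      (Curv2.euler k X (ShStab.twist X L E m) : ℚ) +
        (Curv2.euler k X (ShStab.twist X L (cokernel ι) m) : ℚ) := by
    exact_mod_cast h
  rw [Polynomial.eval_sub, ← hpE m, ← hpE' m]
  linarith

theorem polyLE_of_mono (L : X.Modules) (hL : CohB1.IsAmple L) {E E' : X.Modules}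
    (hE : Coh.IsCoh E) (hE' : Coh.IsCoh E') (ι : E ⟶ E') [Mono ι] (pE pE' : ℚ[X])
    (hpE : ShStab.IsHilbPoly k X L E pE) (hpE' : ShStab.IsHilbPoly k X L E' pE') :
    StabCat.PolyLE pE pE' := by
  obtain ⟨hG, hpG⟩ := isHilbPoly_cokernel k X L hL.1 hE hE' ι pE pE' hpE hpE'
  obtain ⟨n₀, hn₀⟩ := exists_forall_euler_twist_nonneg k X L hL (cokernel ι) hG
  refine ⟨n₀, fun m hm => ?_⟩
  have h1 := hpG m
  have h2 : (0 : ℚ) ≤ (Curv2.euler k X (ShStab.twist X L (cokernel ι) m) : ℚ) := by
    exact_mod_cast hn₀ m hm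
  rw [h1, Polynomial.eval_sub] at h2
  linarith

end Groth.Agent.Helper6.HilbDeg
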