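import Mathlib
import Groth.Prelude.Def_ParBun
import Groth.Prelude.Def_KoszTw
import Groth.Prelude.Def_SecTwist
import Groth.Agent.Lib.Helper13.QCohStalk
import Groth.Agent.Lib.Helper13.EpiStalk
import Groth.Agent.Lib.Helper23.UnitsSeq

/-!
# The support of `E / I·E` lies in the support of `I`

`support_cokernel_twistSub_subset`: `Supp (E / I·E) ⊆ V(I)`;
`support_cokernel_pieceX_subset`: for a parabolic structure along `I`, `Supp (E / E_j) ⊆ Supp E ∩ V(I)`.
-/

universe u
open CategoryTheory CategoryTheory.Limits AlgebraicGeometry Opposite TopologicalSpace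

namespace Groth.Agent.Helper6.TwistSupp

variable {X : Scheme.{u}}

theorem support_subset_of_epi {M N : X.Modules} (φ : M ⟶ N) [Epi φ] :
    CohB1.support N ⊆ CohB1.support M := by
  intro z hz hM
  apply hz
  have hsurj := Groth.Agent.Helper13.FinType.stalkMap_surjective_of_epi φ z
  refine ⟨fun a b => ?_⟩
  obtain ⟨a', rfl⟩ := hsurj a
  obtain ⟨b', rfl⟩ := hsurj b
  rw [@Subsingleton.elim _ hM a' b']

theorem exists_one (I : X.IdealSheafData) (V : X.Opens)
    (hV : ∀ y ∈ V, y ∉ (I.support : Set X)) :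
    ∃ k : Γ(ClSub.idealMod I, V), Groth.Agent.Helper23.UnitsSeq.fn I k = 1 := by
  have hbot : I.subschemeι ⁻¹ᵁ V = ⊥ := by
    rw [eq_bot_iff]
    intro y hy
    exfalso
    have hy' : (I.subschemeι y : X) ∈ V := hy
    have hr : (I.subschemeι y : X) ∈ (I.support : Set X) := by
      rw [← Scheme.IdealSheafData.range_subschemeι]
      exact Set.mem_range_self y
    exact hV _ hy' hr
  have h0 : I.subschemeι.app V 1 = 0 := by
    haveI : Subsingleton Γ(I.subscheme, I.subschemeι ⁻¹ᵁ V) := by
      rw [hbot]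
      infer_instance
    exact Subsingleton.elim _ _
  exact Groth.Agent.Helper23.UnitsSeq.exists_fn_eq I 1 h0

theorem twistMap_tmul_of_one (I : X.IdealSheafData) (E : X.Modules) (V : X.Opens) (e : Γ(E, V))
    (k : Γ(ClSub.idealMod I, V)) (hk : Groth.Agent.Helper23.UnitsSeq.fn I k = 1) :
    (ParSh.twistMap I E).app V (SecTwist.tmul E (ClSub.idealMod I) V e k) = e := by
  have h1 := KoszTw.tensorMap_tmul (𝟙 E) (ClSub.idealModι I) V e k
  have h2 := SecTwist.unitorR_tmul E V e (1 : X.ringCatSheaf.obj.obj (op V))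
  rw [one_smul] at h2
  have hk' : (ClSub.idealModι I).app V k =
      ((1 : X.ringCatSheaf.obj.obj (op V)) : (Coh.structureModule X).val.obj (op V)) := hk
  have h3 : (ParSh.twistMap I E).app V (SecTwist.tmul E (ClSub.idealMod I) V e k) =
      (SecTwist.unitorR E).hom.app V ((KoszTw.tensorMap (𝟙 E) (ClSub.idealModι I)).app V
        (SecTwist.tmul E (ClSub.idealMod I) V e k)) := rfl
  rw [h3, h1, hk']
  exact h2

theorem comp_cokernel_π_imageSubobject_arrow {C : Type*} [Category C] [Abelian C] {A B : C}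
    (f : A ⟶ B) : f ≫ cokernel.π (imageSubobject f).arrow = 0 := by
  have h := imageSubobject_arrow_comp f
  calc f ≫ cokernel.π (imageSubobject f).arrow
      = (factorThruImageSubobject f ≫ (imageSubobject f).arrow) ≫
          cokernel.π (imageSubobject f).arrow := by rw [h]
    _ = 0 := by rw [Category.assoc, cokernel.condition, Limits.comp_zero]

theorem support_cokernel_twistSub_subset (I : X.IdealSheafData) (E : X.Modules) :
    CohB1.support (cokernel (ParSh.twistSub I E).arrow) ⊆ (I.support : Set X) := by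
  intro x hx
  by_contra hxI
  apply hx
  have hzero : ParSh.twistMap I E ≫ cokernel.π (ParSh.twistSub I E).arrow = 0 :=
    comp_cokernel_π_imageSubobject_arrow (ParSh.twistMap I E)
  have hsurj := Groth.Agent.Helper13.FinType.stalkMap_surjective_of_epi
    (cokernel.π (ParSh.twistSub I E).arrow) x
  have hall : ∀ c : (cokernel (ParSh.twistSub I E).arrow).presheaf.stalk x, c = 0 := by
    intro c
    obtain ⟨s, rfl⟩ := hsurj c
    obtain ⟨W, hxW, e, rfl⟩ := TopCat.Presheaf.exists_germ_eq E.presheaf s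
    let Wc : X.Opens := ⟨(I.support : Set X)ᶜ, I.support.isClosed.isOpen_compl⟩
    have hxWc : x ∈ Wc := hxI
    have hxV : x ∈ W ⊓ Wc := ⟨hxW, hxWc⟩
    obtain ⟨e', he'⟩ : ∃ e' : Γ(E, W ⊓ Wc),
        e' = E.presheaf.map (homOfLE (inf_le_left : W ⊓ Wc ≤ W)).op e := ⟨_, rfl⟩
    have hge : E.presheaf.germ W x hxW e = E.presheaf.germ (W ⊓ Wc) x hxV e' := by
      rw [he']
      exact (TopCat.Presheaf.germ_res_apply E.presheaf (homOfLE inf_le_left) x hxV e).symm
    obtain ⟨k, hk⟩ := exists_one I (W ⊓ Wc) (fun y hy => hy.2)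
    have hte := twistMap_tmul_of_one I E (W ⊓ Wc) e' k hk
    have h0 : (cokernel.π (ParSh.twistSub I E).arrow).app (W ⊓ Wc)
        ((ParSh.twistMap I E).app (W ⊓ Wc)
          (SecTwist.tmul E (ClSub.idealMod I) (W ⊓ Wc) e' k)) = 0 := by
      have := congrArg (fun φ => φ.app (W ⊓ Wc)
        (SecTwist.tmul E (ClSub.idealMod I) (W ⊓ Wc) e' k)) hzero
      exact this
    rw [hte] at h0
    rw [hge, Groth.Agent.Helper13.QCoh.stalkMap_germ, h0, map_zero]
  exact ⟨fun a b => by rw [hall a, hall b]⟩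

theorem support_cokernel_pieceX_subset (I : X.IdealSheafData) {E : X.Modules} (𝓔 : ParSh.Str E)
    (h𝓔 : 𝓔.Along I) (j : Fin (𝓔.l + 2)) :
    CohB1.support (cokernel (𝓔.pieceX j).arrow) ⊆ CohB1.support E ∩ (I.support : Set X) := by
  have h𝓔' : 𝓔.bot = ParSh.twistSub I E := h𝓔
  have hle : ParSh.twistSub I E ≤ 𝓔.pieceX j := by
    rw [← h𝓔']
    exact 𝓔.bot_le_pieceX j
  refine Set.subset_inter ?_ ?_
  · exact support_subset_of_epi (cokernel.π (𝓔.pieceX j).arrow)
  · have w : (ParSh.twistSub I E).arrow ≫ cokernel.π (𝓔.pieceX j).arrow = 0 := by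
      rw [← Subobject.ofLE_arrow hle, Category.assoc, cokernel.condition, Limits.comp_zero]
    have hψ : cokernel.π (ParSh.twistSub I E).arrow ≫
        cokernel.desc (ParSh.twistSub I E).arrow (cokernel.π (𝓔.pieceX j).arrow) w =
        cokernel.π (𝓔.pieceX j).arrow := cokernel.π_desc _ _ _
    haveI : Epi (cokernel.desc (ParSh.twistSub I E).arrow (cokernel.π (𝓔.pieceX j).arrow) w) := by
      haveI : Epi (cokernel.π (ParSh.twistSub I E).arrow ≫
          cokernel.desc (ParSh.twistSub I E).arrow (cokernel.π (𝓔.pieceX j).arrow) w) := by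
        rw [hψ]; infer_instance
      exact epi_of_epi (cokernel.π (ParSh.twistSub I E).arrow) _
    exact (support_subset_of_epi
      (cokernel.desc (ParSh.twistSub I E).arrow (cokernel.π (𝓔.pieceX j).arrow) w)).trans
      (support_cokernel_twistSub_subset I E)

end Groth.Agent.Helper6.TwistSupp
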