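import Mathlib
import Groth.Prelude.Def_ParBun
import Groth.Prelude.Def_W4swparbununimodPar
import Groth.Agent.Lib.Helper6.HilbDeg
import Groth.Agent.Lib.Helper6.TwistSupp

/-!
# Coefficients of parabolic Hilbert polynomials
-/

universe u
open CategoryTheory CategoryTheory.Limits AlgebraicGeometry

namespace Groth.Agent.Helper6.ParCoeff

theorem coeff_nonneg_of_eventually_nonneg (p : Polynomial ℚ) (e : ℕ) (hdeg : p.natDegree ≤ e)
    (h : ∃ N : ℕ, ∀ m : ℕ, N ≤ m → 0 ≤ p.eval (m : ℚ)) : 0 ≤ p.coeff e := by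
  by_contra hneg
  rw [not_le] at hneg
  have hne : p.coeff e ≠ 0 := ne_of_lt hneg
  have hnat : p.natDegree = e := le_antisymm hdeg (Polynomial.le_natDegree_of_ne_zero hne)
  obtain ⟨N, hN⟩ := h
  rcases Nat.eq_zero_or_pos e with he | he
  · subst he
    have hp : p = Polynomial.C (p.coeff 0) := Polynomial.eq_C_of_natDegree_le_zero hdeg
    have h1 := hN N le_rfl
    rw [hp, Polynomial.eval_C] at h1
    exact absurd h1 (not_le.mpr hneg)
  · have hlead : p.leadingCoeff ≤ 0 := by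
      rw [Polynomial.leadingCoeff, hnat]
      exact hneg.le
    have hdeg' : 0 < p.degree := Polynomial.natDegree_pos_iff_degree_pos.mp (by omega)
    have ht := Polynomial.tendsto_atBot_of_leadingCoeff_nonpos p hdeg' hlead
    have ht' := ht.comp (tendsto_natCast_atTop_atTop (R := ℚ))
    have hev := (ht'.eventually (Filter.eventually_lt_atBot (0 : ℚ))).and
      (Filter.eventually_ge_atTop N)
    obtain ⟨m, hm1, hm2⟩ := hev.exists
    exact absurd (hN m hm2) (not_le.mpr hm1)

theorem fin_telescope : ∀ (n : ℕ) (a : Fin (n + 2) → ℝ),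
    ∑ j : Fin (n + 1), (a j.succ - a j.castSucc) = a (Fin.last (n + 1)) - a 0
  | 0, a => by
    rw [Fin.sum_univ_one]
    rfl
  | n + 1, a => by
    have ih : ∑ j : Fin (n + 1), (a j.succ.castSucc - a j.castSucc.castSucc) =
        a (Fin.last (n + 1)).castSucc - a (0 : Fin (n + 2)).castSucc :=
      fin_telescope n (fun i => a i.castSucc)
    rw [Fin.sum_univ_castSucc]
    simp only [Fin.succ_castSucc]
    rw [ih]
    simp only [Fin.succ_last, Fin.castSucc_zero]
    ring

theorem par_bounds (l : ℕ) (w : Fin (l + 1) → ℝ) (hw0 : ∀ j, 0 ≤ w j) (hw1 : ∀ j, w j ≤ 1)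
    (p : ℝ) (a : Fin (l + 2) → ℝ) (ha0 : 0 ≤ a 0)
    (hmono : ∀ j : Fin (l + 1), a j.castSucc ≤ a j.succ) :
    (p - a (Fin.last (l + 1))) ≤ (p - a (Fin.last (l + 1))) +
        ∑ j : Fin (l + 1), w j * ((p - a j.castSucc) - (p - a j.succ)) ∧
      (p - a (Fin.last (l + 1))) +
        ∑ j : Fin (l + 1), w j * ((p - a j.castSucc) - (p - a j.succ)) ≤ p := by
  have hterm : ∀ j : Fin (l + 1), w j * ((p - a j.castSucc) - (p - a j.succ)) =
      w j * (a j.succ - a j.castSucc) := fun j => by ring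
  simp only [hterm]
  have hnn : 0 ≤ ∑ j : Fin (l + 1), w j * (a j.succ - a j.castSucc) :=
    Finset.sum_nonneg (fun j _ => mul_nonneg (hw0 j) (sub_nonneg.mpr (hmono j)))
  have hle : ∑ j : Fin (l + 1), w j * (a j.succ - a j.castSucc) ≤
      ∑ j : Fin (l + 1), (a j.succ - a j.castSucc) :=
    Finset.sum_le_sum (fun j _ => mul_le_of_le_one_left (sub_nonneg.mpr (hmono j)) (hw1 j))
  rw [fin_telescope] at hle
  constructor <;> linarith

section Abstract

variable {C : Type*} [Category C] [Abelian C] {E : C}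

theorem comp_cokernel_π_of_le {A B : Subobject E} (h : A ≤ B) :
    A.arrow ≫ cokernel.π B.arrow = 0 := by
  rw [← Subobject.ofLE_arrow h, Category.assoc, cokernel.condition, Limits.comp_zero]

/-- `E / A → E / B` for `A ≤ B`. -/
noncomputable def quotMap {A B : Subobject E} (h : A ≤ B) :
    cokernel A.arrow ⟶ cokernel B.arrow :=
  cokernel.desc A.arrow (cokernel.π B.arrow) (comp_cokernel_π_of_le h)

theorem π_quotMap {A B : Subobject E} (h : A ≤ B) :
    cokernel.π A.arrow ≫ quotMap h = cokernel.π B.arrow := cokernel.π_desc _ _ _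

instance epi_quotMap {A B : Subobject E} (h : A ≤ B) : Epi (quotMap h) := by
  haveI : Epi (cokernel.π A.arrow ≫ quotMap h) := by
    rw [π_quotMap]
    infer_instance
  exact epi_of_epi (cokernel.π A.arrow) _

end Abstract

theorem pieceX_succ_le {C : Type*} [Category C] {E : C} (𝓔 : ParSh.Str E) (j : Fin (𝓔.l + 1)) :
    𝓔.pieceX j.succ ≤ 𝓔.pieceX j.castSucc := by
  induction j using Fin.lastCases with
  | last =>
    rw [𝓔.pieceX_succ_last]
    exact 𝓔.bot_le_pieceX _
  | cast j' =>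
    rw [𝓔.pieceX_succ_castSucc, 𝓔.pieceX_castSucc]
    exact 𝓔.piece_anti (by rw [Fin.le_iff_val_le_val]; simp)

section Sch

variable {X : Scheme.{u}}

theorem support_subset_of_mono {M N : X.Modules} (φ : M ⟶ N) [Mono φ] :
    CohB1.support M ⊆ CohB1.support N := by
  intro z hz hN
  apply hz
  have hinj := (Groth.Agent.Helper13.QCoh.mono_iff_stalk_injective φ).1 inferInstance z
  exact ⟨fun a b => hinj (@Subsingleton.elim _ hN _ _)⟩

end Sch

variable (k : Type u) [Field k] (X : Scheme.{u}) [X.Over (Spec (CommRingCat.of k))]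
  [IsProper (X ↘ Spec (CommRingCat.of k))]

theorem isHilbPoly_kernel (L : X.Modules) (hL : PicF.IsInvertible L) {A B : X.Modules}
    (hA : Coh.IsCoh A) (hB : Coh.IsCoh B) (φ : A ⟶ B) [Epi φ] (pA pB : Polynomial ℚ)
    (hpA : ShStab.IsHilbPoly k X L A pA) (hpB : ShStab.IsHilbPoly k X L B pB) :
    Coh.IsCoh (kernel φ) ∧ ShStab.IsHilbPoly k X L (kernel φ) (pA - pB) := by
  haveI : IsLocallyNoetherian X :=
    LocallyOfFiniteType.isLocallyNoetherian (X ↘ Spec (CommRingCat.of k))
  have hK : Coh.IsCoh (kernel φ) := (Groth.Agent.S9514.result X hA hB φ).1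
  refine ⟨hK, fun m => ?_⟩
  let S : ShortComplex X.Modules := ShortComplex.mk (kernel.ι φ) φ (kernel.condition φ)
  have hS : S.ShortExact :=
    { exact := ShortComplex.exact_kernel φ
      mono_f := (inferInstance : Mono (kernel.ι φ))
      epi_g := (inferInstance : Epi φ) }
  have h := Groth.Agent.Helper6.ParHilb.euler_twist_add k X L hL S hS hK hA hB m
  have h' : (Curv2.euler k X (ShStab.twist X L A m) : ℚ) =
      (Curv2.euler k X (ShStab.twist X L (kernel φ) m) : ℚ) +
        (Curv2.euler k X (ShStab.twist X L B m) : ℚ) := by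
    exact_mod_cast h
  rw [Polynomial.eval_sub, ← hpA m, ← hpB m]
  linarith

theorem coeff_pred_nonneg (L : X.Modules) (hL : CohB1.IsAmple L) (G : X.Modules)
    (hG : Coh.IsCoh G) (d : ℕ) (hd : 1 ≤ d)
    (hsupp : topologicalKrullDim ↥(CohB1.support G) < (d : WithBot ℕ∞))
    (H : Polynomial ℚ) (hH : ShStab.IsHilbPoly k X L G H) : 0 ≤ H.coeff (d - 1) := by
  apply coeff_nonneg_of_eventually_nonneg
  · rw [Polynomial.natDegree_le_iff_coeff_eq_zero]
    intro N hN
    exact Groth.Agent.Helper6.HilbDeg.coeff_eq_zero_of_dim_lt k X L hL.1 G hG d hsupp H hH N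
      (by omega)
  · obtain ⟨n₀, hn₀⟩ :=
      Groth.Agent.Helper6.HilbDeg.exists_forall_euler_twist_nonneg k X L hL G hG
    refine ⟨n₀, fun m hm => ?_⟩
    rw [← hH m]
    exact_mod_cast hn₀ m hm

theorem par_coeff_data (L : X.Modules) (hL : CohB1.IsAmple L) (I : X.IdealSheafData)
    {E : X.Modules} (hE : Coh.IsCoh E) (𝓔 : ParSh.Str E) (h𝓔 : 𝓔.Along I)
    (hcoh : ∀ j, Coh.IsCoh ((𝓔.pieceX j : Subobject E) : X.Modules)) (d : ℕ) (hd : 1 ≤ d)
    (hsupp : topologicalKrullDim ↥(CohB1.support E ∩ (I.support : Set X)) < (d : WithBot ℕ∞))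
    (P : Polynomial ℚ) (hP : ShStab.IsHilbPoly k X L E P) (PX : Fin (𝓔.l + 2) → Polynomial ℚ)
    (hPX : ∀ j, ShStab.IsHilbPoly k X L ((𝓔.pieceX j : Subobject E) : X.Modules) (PX j)) :
    (∀ j, 0 ≤ (P - PX j).coeff (d - 1)) ∧
      ∀ j : Fin (𝓔.l + 1), (P - PX j.castSucc).coeff (d - 1) ≤ (P - PX j.succ).coeff (d - 1) := by
  have hq : ∀ j, Coh.IsCoh (cokernel (𝓔.pieceX j).arrow) ∧
      ShStab.IsHilbPoly k X L (cokernel (𝓔.pieceX j).arrow) (P - PX j) := fun j =>
    Groth.Agent.Helper6.HilbDeg.isHilbPoly_cokernel k X L hL.1 (hcoh j) hE (𝓔.pieceX j).arrow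
      (PX j) P (hPX j) hP
  have hdimq : ∀ j, topologicalKrullDim ↥(CohB1.support (cokernel (𝓔.pieceX j).arrow)) <
      (d : WithBot ℕ∞) := fun j =>
    lt_of_le_of_lt (Topology.IsEmbedding.inclusion
      (Groth.Agent.Helper6.TwistSupp.support_cokernel_pieceX_subset I 𝓔 h𝓔
        j)).isInducing.topologicalKrullDim_le hsupp
  refine ⟨fun j => coeff_pred_nonneg k X L hL _ (hq j).1 d hd (hdimq j) _ (hq j).2, fun j => ?_⟩
  have hle := pieceX_succ_le 𝓔 j
  obtain ⟨hK, hpK⟩ := isHilbPoly_kernel k X L hL.1 (hq j.succ).1 (hq j.castSucc).1 (quotMap hle)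
    (P - PX j.succ) (P - PX j.castSucc) (hq j.succ).2 (hq j.castSucc).2
  have hsub : CohB1.support (kernel (quotMap hle)) ⊆
      CohB1.support (cokernel (𝓔.pieceX j.succ).arrow) :=
    support_subset_of_mono (kernel.ι (quotMap hle))
  have hdimK : topologicalKrullDim ↥(CohB1.support (kernel (quotMap hle))) < (d : WithBot ℕ∞) :=
    lt_of_le_of_lt (Topology.IsEmbedding.inclusion hsub).isInducing.topologicalKrullDim_le
      (hdimq j.succ)
  have h0 := coeff_pred_nonneg k X L hL _ hK d hd hdimK _ hpK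
  simp only [Polynomial.coeff_sub] at h0 ⊢
  linarith

end Groth.Agent.Helper6.ParCoeff
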