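import Mathlib
import Groth.Prelude.Def_ShStab
import Groth.Prelude.Def_ClSub2
import Groth.Agent.Lib.Helper6.HilbDeg
import Groth.Agent.Lib.Helper6.ParCoeff
import Groth.Agent.Lib.Helper6.ParHilbA
import Groth.Agent.Lib.Helper13.HilbZero
import Groth.Agent.Lib.Helper13.PbAmple
import Groth.Agent.Lib.Helper13.PnSerreUnifAmple
import Groth.Agent.Lib.Helper20.VBIndec
import Groth.Agent.Lib.Lead.NefDeg
import Groth.Agent.Lib.Lead.SnapperComp

/-!
# Project SP (strict positivity of the leading Hilbert coefficient), part A: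
the degree of the Hilbert polynomial of an integral proper scheme is at least its dimension.
The five farmed-out lemmas enter as hypotheses `HypA … HypE`.
-/

universe u
open CategoryTheory CategoryTheory.Limits AlgebraicGeometry Polynomial

namespace Groth.Agent.Helper6.SPos

open Groth.Agent.Lead.EulerK0 Groth.Agent.Lead.EffDeg

/-- (A) STEPSHEAF. -/
def HypA : Prop :=
  ∀ (k : Type u) [Field k] (Z : Scheme.{u}) [Z.Over (Spec (CommRingCat.of k))]
    [IsProper (Z ↘ Spec (CommRingCat.of k))] [IsIntegral Z] (L : Z.Modules) (_ : CohB1.IsAmple L)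
    (I : Z.IdealSheafData) (_ : I ≠ ⊥),
    ∃ (n : ℕ) (s : Coh.structureModule Z ⟶ ShStab.twist Z L (Coh.structureModule Z) n),
      1 ≤ n ∧ Mono s ∧ ∃ π : cokernel s ⟶ ShStab.twist Z L (ClSub.quotMod I) n, Epi π

/-- (B) twist shift. -/
def HypB : Prop :=
  ∀ (k : Type u) [Field k] (Y : Scheme.{u}) [Y.Over (Spec (CommRingCat.of k))]
    [IsProper (Y ↘ Spec (CommRingCat.of k))] (L : Y.Modules) (_ : PicF.IsInvertible L)
    (G : Y.Modules) (_ : Coh.IsCoh G) (P : ℚ[X]) (_ : ShStab.IsHilbPoly k Y L G P) (n : ℕ),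
    ShStab.IsHilbPoly k Y L (ShStab.twist Y L G n) (P.comp (X + C (n : ℚ)))

/-- (C) chain. -/
def HypC : Prop :=
  ∀ (Z : Type u) [TopologicalSpace Z] [QuasiSober Z] (e : ℕ),
    ((e + 1 : ℕ) : WithBot ℕ∞) ≤ topologicalKrullDim Z →
    ∃ ξ : Z, closure ({ξ} : Set Z) ≠ Set.univ ∧
      ((e : ℕ) : WithBot ℕ∞) ≤ topologicalKrullDim ↥(closure ({ξ} : Set Z))

/-- (D) generic point of a top-dimensional component. -/
def HypD : Prop :=
  ∀ (X : Scheme.{u}) [IsNoetherian X] (G : X.Modules) (_ : Coh.IsCoh G) (d : ℕ)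
    (_ : topologicalKrullDim ↥(CohB1.support G) = (d : WithBot ℕ∞)),
    ∃ ξ : X, topologicalKrullDim ↥(closure ({ξ} : Set X)) = (d : WithBot ℕ∞) ∧
      (Module.length (X.presheaf.stalk ξ) (G.presheaf.stalk ξ)).toNat ≠ 0

/-- (E) polynomial lemma. -/
def HypE : Prop :=
  ∀ (P R : ℚ[X]) (n : ℕ) (_ : 1 ≤ n) (_ : R ≠ 0)
    (_ : ∃ N : ℕ, ∀ m : ℕ, N ≤ m → 0 ≤ R.eval (m : ℚ))
    (_ : ∃ N : ℕ, ∀ m : ℕ, N ≤ m →
      (R.comp (X + C (n : ℚ))).eval (m : ℚ) ≤
        (P.comp (X + C (n : ℚ))).eval (m : ℚ) - P.eval (m : ℚ)),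
    R.natDegree < P.natDegree

section Basic

variable (k : Type u) [Field k] (Y : Scheme.{u}) [Y.Over (Spec (CommRingCat.of k))]
  [IsProper (Y ↘ Spec (CommRingCat.of k))]

theorem exists_hilbPoly (L : Y.Modules) (hL : PicF.IsInvertible L) (G : Y.Modules)
    (hG : Coh.IsCoh G) (D : ℕ)
    (hD : topologicalKrullDim ↥(CohB1.support G) ≤ (D : WithBot ℕ∞)) :
    ∃ P : ℚ[X], ShStab.IsHilbPoly k Y L G P ∧ P.natDegree ≤ D := by
  obtain ⟨Pm, hdeg, hev⟩ :=
    Groth.Agent.S1528.result k Y G hG D hD 1 (fun _ => L) (fun _ => hL)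
  refine ⟨MvPolynomial.aeval (fun _ : Fin 1 => (Polynomial.X : ℚ[X])) Pm, ?_, ?_⟩
  · intro m
    rw [Groth.Agent.Helper6.HilbDeg.eval_aeval_X]
    exact hev (fun _ => m)
  · have := MvPolynomial.aeval_natDegree_le (n := 1) Pm hdeg
      (fun _ : Fin 1 => (Polynomial.X : ℚ[X])) (fun _ => Polynomial.natDegree_X_le)
    simpa using this

theorem eventually_nonneg (L : Y.Modules) (hL : CohB1.IsAmple L) (G : Y.Modules)
    (hG : Coh.IsCoh G) (P : ℚ[X]) (hP : ShStab.IsHilbPoly k Y L G P) :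
    ∃ N : ℕ, ∀ m : ℕ, N ≤ m → 0 ≤ P.eval (m : ℚ) := by
  obtain ⟨N, hN⟩ := Groth.Agent.Helper6.HilbDeg.exists_forall_euler_twist_nonneg k Y L hL G hG
  refine ⟨N, fun m hm => ?_⟩
  rw [← hP m]
  exact_mod_cast hN m hm

theorem ne_zero_of_not_isZero (L : Y.Modules) (hL : CohB1.IsAmple L) (G : Y.Modules)
    (hG : Coh.IsCoh G) (h0 : ¬ IsZero G) (P : ℚ[X]) (hP : ShStab.IsHilbPoly k Y L G P) :
    P ≠ 0 := by
  intro h
  apply h0
  rw [h] at hP
  exact Groth.Agent.Helper13.HilbZero.isZero_of_isHilbPoly_zero k Y L hL G hG hP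

/-- comparison for an epimorphism: `P_B ≤ P_A` eventually. -/
theorem polyLE_of_epi (L : Y.Modules) (hL : CohB1.IsAmple L) {A B : Y.Modules}
    (hA : Coh.IsCoh A) (hB : Coh.IsCoh B) (φ : A ⟶ B) [Epi φ] (pA pB : ℚ[X])
    (hpA : ShStab.IsHilbPoly k Y L A pA) (hpB : ShStab.IsHilbPoly k Y L B pB) :
    ∃ N : ℕ, ∀ m : ℕ, N ≤ m → pB.eval (m : ℚ) ≤ pA.eval (m : ℚ) := by
  obtain ⟨hK, hpK⟩ :=
    Groth.Agent.Helper6.ParCoeff.isHilbPoly_kernel k Y L hL.1 hA hB φ pA pB hpA hpB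
  obtain ⟨N, hN⟩ := eventually_nonneg k Y L hL (kernel φ) hK (pA - pB) hpK
  refine ⟨N, fun m hm => ?_⟩
  have := hN m hm
  rw [Polynomial.eval_sub] at this
  linarith

end Basic

/-- (SP0) the Hilbert polynomial of an integral proper `k`-scheme has degree at least the dimension. -/
theorem sp0 (hA : HypA.{u}) (hB : HypB.{u}) (hC : HypC.{u}) (hE : HypE) :
    ∀ (e : ℕ) (k : Type u) [Field k] (Z : Scheme.{u}) [Z.Over (Spec (CommRingCat.of k))]
      [IsProper (Z ↘ Spec (CommRingCat.of k))] [IsIntegral Z] (L : Z.Modules)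
      (_ : CohB1.IsAmple L) (D : ℕ) (_ : topologicalKrullDim Z ≤ (D : WithBot ℕ∞))
      (P : ℚ[X]) (_ : ShStab.IsHilbPoly k Z L (Coh.structureModule Z) P),
      ((e : ℕ) : WithBot ℕ∞) ≤ topologicalKrullDim Z → e ≤ P.natDegree := by
  intro e
  induction e with
  | zero =>
    intros
    exact Nat.zero_le _
  | succ e ih =>
    intro k _ Z _ _ _ L hL D hD P hP he
    haveI : IsNoetherian Z := isNoetherian_of_proper' k Z
    obtain ⟨ξ, hne, hdimξ⟩ := hC Z e he
    letI inst : (IntMult.ptIdeal ξ).subscheme.Over (Spec (CommRingCat.of k)) :=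
      ⟨(IntMult.ptIdeal ξ).subschemeι ≫ (Z ↘ (Spec (CommRingCat.of k)))⟩
    haveI : IsProper ((IntMult.ptIdeal ξ).subscheme ↘ Spec (CommRingCat.of k)) := by
      show IsProper ((IntMult.ptIdeal ξ).subschemeι ≫ (Z ↘ (Spec (CommRingCat.of k))))
      infer_instance
    haveI : IsIntegral (IntMult.ptIdeal ξ).subscheme :=
      Groth.Agent.Lead.NefDeg.isIntegral_ptIdeal_subscheme ξ
    have hdimW : topologicalKrullDim (IntMult.ptIdeal ξ).subscheme =
        topologicalKrullDim ↥(closure ({ξ} : Set Z)) := by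
      have hemb := (IntMult.ptIdeal ξ).subschemeι.isClosedEmbedding
      have h1 := IsHomeomorph.topologicalKrullDim_eq _
        hemb.isEmbedding.toHomeomorph.isHomeomorph
      rw [h1]
      have hr := Groth.Agent.Helper13.ClosureSheaf.range_ptIdeal_subschemeι ξ
      rw [hr]
    have hamp : CohB1.IsAmple
        ((Scheme.Modules.pullback (IntMult.ptIdeal ξ).subschemeι).obj L) :=
      Groth.Agent.Helper13.PbAmple.isAmple_pullback_of_isAffineHom _ L hL
    have hDW : topologicalKrullDim (IntMult.ptIdeal ξ).subscheme ≤ (D : WithBot ℕ∞) := by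
      rw [hdimW]
      exact (topologicalKrullDim_subspace_le Z _).trans hD
    have hOW : Coh.IsCoh (Coh.structureModule (IntMult.ptIdeal ξ).subscheme) :=
      isCoh_structureModule
    obtain ⟨Q, hQ, -⟩ := exists_hilbPoly k (IntMult.ptIdeal ξ).subscheme
      ((Scheme.Modules.pullback (IntMult.ptIdeal ξ).subschemeι).obj L) hamp.1
      (Coh.structureModule (IntMult.ptIdeal ξ).subscheme) hOW D
      ((topologicalKrullDim_subspace_le _ _).trans hDW)
    have ihQ : e ≤ Q.natDegree :=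
      ih k (IntMult.ptIdeal ξ).subscheme
        ((Scheme.Modules.pullback (IntMult.ptIdeal ξ).subschemeι).obj L) hamp D hDW Q hQ
        (hdimW ▸ hdimξ)
    -- transfer to `Z`
    have hQZ : ShStab.IsHilbPoly k Z L (ClSub.quotMod (IntMult.ptIdeal ξ)) Q := by
      intro m
      have h := Groth.Agent.Lead.SnapperComp.euler_closure_tensorPows k ξ 1 (fun _ => L)
        (fun _ => hL.1) (fun _ => m)
      rw [← hQ m]
      exact_mod_cast h
    have hqc : Coh.IsCoh (ClSub.quotMod (IntMult.ptIdeal ξ)) :=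
      Groth.Agent.Helper13.ClosureSheaf.isCoh_closureStructureSheaf ξ
    have hI : IntMult.ptIdeal ξ ≠ ⊥ := by
      intro h
      apply hne
      have h2 := Groth.Agent.Lead.NefDeg.coe_support_ptIdeal ξ
      rw [h] at h2
      rw [← h2]
      simp
    have hQne : Q ≠ 0 := by
      haveI : Nonempty (IntMult.ptIdeal ξ).subscheme := inferInstance
      exact ne_zero_of_not_isZero k _ _ hamp _ hOW
        (Groth.Agent.Helper20.VBIndec.not_isZero_structureModule _) Q hQ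
    have hQ0 := eventually_nonneg k Z L hL _ hqc Q hQZ
    obtain ⟨n, s, hn, hmono, π, hπ⟩ := hA k Z L hL (IntMult.ptIdeal ξ) hI
    haveI := hmono
    haveI := hπ
    have hO : Coh.IsCoh (Coh.structureModule Z) := isCoh_structureModule
    have hOn : Coh.IsCoh (ShStab.twist Z L (Coh.structureModule Z) n) :=
      Groth.Agent.Helper13.PnSerreUnif.isCoh_tensor_pow L hL.1 _ hO n
    have hqn : Coh.IsCoh (ShStab.twist Z L (ClSub.quotMod (IntMult.ptIdeal ξ)) n) :=
      Groth.Agent.Helper13.PnSerreUnif.isCoh_tensor_pow L hL.1 _ hqc n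
    have hPn := hB k Z L hL.1 _ hO P hP n
    have hQn := hB k Z L hL.1 _ hqc Q hQZ n
    obtain ⟨hcc, hpc⟩ := Groth.Agent.Helper6.HilbDeg.isHilbPoly_cokernel k Z L hL.1 hO hOn s P
      (P.comp (X + C (n : ℚ))) hP hPn
    obtain ⟨N, hN⟩ := polyLE_of_epi k Z L hL hcc hqn π _ _ hpc hQn
    have hineq : ∃ N : ℕ, ∀ m : ℕ, N ≤ m →
        (Q.comp (X + C (n : ℚ))).eval (m : ℚ) ≤
          (P.comp (X + C (n : ℚ))).eval (m : ℚ) - P.eval (m : ℚ) := by
      refine ⟨N, fun m hm => ?_⟩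
      have := hN m hm
      rw [Polynomial.eval_sub] at this
      exact this
    exact Nat.succ_le_of_lt (lt_of_le_of_lt ihQ (hE P Q n hn hQne hQ0 hineq))

end Groth.Agent.Helper6.SPos
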