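import Mathlib
import Groth.Prelude.Def_StabCat
import Groth.Agent.Lib.Helper6.SPosA
import Groth.Agent.Lib.Lead.SnapperFinal
import Groth.Agent.Lib.Lead.SnapperNewton

/-!
# Project SP, part B: strict positivity of the leading Hilbert coefficient
(modulo the farmed-out hypotheses `HypA … HypE` of part A).
-/

universe u
open CategoryTheory CategoryTheory.Limits AlgebraicGeometry Polynomial

namespace Groth.Agent.Helper6.SPos

open Groth.Agent.Lead.EulerK0 Groth.Agent.Lead.EffDeg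

section ClosurePoly

variable (k : Type u) [Field k] (Y : Scheme.{u}) [Y.Over (Spec (CommRingCat.of k))]
  [IsProper (Y ↘ Spec (CommRingCat.of k))]

/-- the Hilbert polynomial of the structure sheaf of the closure of a point of dimension `d` has
degree `d` and positive leading coefficient. -/
theorem closure_poly (hA : HypA.{u}) (hB : HypB.{u}) (hC : HypC.{u}) (hE : HypE)
    (L : Y.Modules) (hL : CohB1.IsAmple L) (ξ : Y) (d : ℕ)
    (hξ : topologicalKrullDim ↥(closure ({ξ} : Set Y)) = (d : WithBot ℕ∞)) :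
    ∃ Q : ℚ[X], ShStab.IsHilbPoly k Y L (ClSub.quotMod (IntMult.ptIdeal ξ)) Q ∧
      Q.natDegree ≤ d ∧ 0 < Q.coeff d := by
  haveI : IsNoetherian Y := isNoetherian_of_proper' k Y
  letI inst : (IntMult.ptIdeal ξ).subscheme.Over (Spec (CommRingCat.of k)) :=
    ⟨(IntMult.ptIdeal ξ).subschemeι ≫ (Y ↘ (Spec (CommRingCat.of k)))⟩
  haveI : IsProper ((IntMult.ptIdeal ξ).subscheme ↘ Spec (CommRingCat.of k)) := by
    show IsProper ((IntMult.ptIdeal ξ).subschemeι ≫ (Y ↘ (Spec (CommRingCat.of k))))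
    infer_instance
  haveI : IsIntegral (IntMult.ptIdeal ξ).subscheme :=
    Groth.Agent.Lead.NefDeg.isIntegral_ptIdeal_subscheme ξ
  have hdimW : topologicalKrullDim (IntMult.ptIdeal ξ).subscheme = (d : WithBot ℕ∞) := by
    have hemb := (IntMult.ptIdeal ξ).subschemeι.isClosedEmbedding
    have h1 := IsHomeomorph.topologicalKrullDim_eq _
      hemb.isEmbedding.toHomeomorph.isHomeomorph
    rw [h1]
    have hr := Groth.Agent.Helper13.ClosureSheaf.range_ptIdeal_subschemeι ξ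
    rw [hr, hξ]
  have hamp : CohB1.IsAmple
      ((Scheme.Modules.pullback (IntMult.ptIdeal ξ).subschemeι).obj L) :=
    Groth.Agent.Helper13.PbAmple.isAmple_pullback_of_isAffineHom _ L hL
  have hOW : Coh.IsCoh (Coh.structureModule (IntMult.ptIdeal ξ).subscheme) :=
    isCoh_structureModule
  obtain ⟨Q, hQ, hQdeg⟩ := exists_hilbPoly k (IntMult.ptIdeal ξ).subscheme
    ((Scheme.Modules.pullback (IntMult.ptIdeal ξ).subschemeι).obj L) hamp.1
    (Coh.structureModule (IntMult.ptIdeal ξ).subscheme) hOW d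
    ((topologicalKrullDim_subspace_le _ _).trans hdimW.le)
  have hge : d ≤ Q.natDegree :=
    sp0 hA hB hC hE d k (IntMult.ptIdeal ξ).subscheme
      ((Scheme.Modules.pullback (IntMult.ptIdeal ξ).subschemeι).obj L) hamp d hdimW.le Q hQ
      hdimW.ge
  have hQZ : ShStab.IsHilbPoly k Y L (ClSub.quotMod (IntMult.ptIdeal ξ)) Q := by
    intro m
    have h := Groth.Agent.Lead.SnapperComp.euler_closure_tensorPows k ξ 1 (fun _ => L)
      (fun _ => hL.1) (fun _ => m)
    rw [← hQ m]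
    exact_mod_cast h
  have hQne : Q ≠ 0 :=
    ne_zero_of_not_isZero k _ _ hamp _ hOW
      (Groth.Agent.Helper20.VBIndec.not_isZero_structureModule _) Q hQ
  have hQ0 := eventually_nonneg k _ _ hamp _ hOW Q hQ
  have hnn := Groth.Agent.Helper6.ParCoeff.coeff_nonneg_of_eventually_nonneg Q d hQdeg hQ0
  have hdeg : Q.natDegree = d := le_antisymm hQdeg hge
  have hlc : Q.coeff d ≠ 0 := by
    have h1 : Q.coeff Q.natDegree ≠ 0 := Polynomial.leadingCoeff_ne_zero.mpr hQne
    rw [hdeg] at h1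
    exact h1
  exact ⟨Q, hQZ, hQdeg, lt_of_le_of_ne hnn (Ne.symm hlc)⟩

end ClosurePoly

section Main

variable (k : Type u) [Field k] (Y : Scheme.{u}) [Y.Over (Spec (CommRingCat.of k))]
  [IsProper (Y ↘ Spec (CommRingCat.of k))]

/-- (SP), coefficient form, modulo the farmed-out hypotheses. -/
theorem sp_coeff (hA : HypA.{u}) (hB : HypB.{u}) (hC : HypC.{u}) (hD : HypD.{u}) (hE : HypE)
    (L : Y.Modules) (hL : CohB1.IsAmple L) (G : Y.Modules) (hG : Coh.IsCoh G) (d : ℕ)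
    (hd : topologicalKrullDim ↥(CohB1.support G) = (d : WithBot ℕ∞))
    (P : ℚ[X]) (hP : ShStab.IsHilbPoly k Y L G P) : 0 < P.coeff d := by
  haveI : IsNoetherian Y := isNoetherian_of_proper' k Y
  classical
  -- the decomposition of `χ(G ⊗ L^m)` over the top-dimensional points
  have key := Groth.Agent.Lead.SnapperComp.isPolyDeg_sub_components k G hG d hd.le 1
    (fun _ => L) (fun _ => hL.1)
  obtain ⟨Pm, hPm, hev⟩ := Groth.Agent.Lead.SnapperFinal.exists_poly_lt
    Groth.Agent.Lead.SnapperFinal.newtonHyp d _ key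
  obtain ⟨R, hR⟩ : ∃ R : ℚ[X],
      R = MvPolynomial.aeval (fun _ : Fin 1 => (Polynomial.X : ℚ[X])) Pm := ⟨_, rfl⟩
  have hRd : R.natDegree ≤ d ∧ R.coeff d = 0 := by
    rcases Nat.eq_zero_or_pos d with h0 | hpos
    · have hPm0 : Pm = 0 := by
        rw [← MvPolynomial.support_eq_empty]
        apply Finset.eq_empty_of_forall_notMem
        intro mon hmon
        have := hPm mon hmon
        omega
      rw [hR, hPm0, map_zero]
      simp
    · have htd : Pm.totalDegree ≤ d - 1 := by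
        unfold MvPolynomial.totalDegree
        apply Finset.sup_le
        intro mon hmon
        have := hPm mon hmon
        omega
      have hle := MvPolynomial.aeval_natDegree_le (n := 1) Pm htd
        (fun _ : Fin 1 => (Polynomial.X : ℚ[X])) (fun _ => Polynomial.natDegree_X_le)
      rw [mul_one, ← hR] at hle
      have hlt : R.natDegree < d := by omega
      exact ⟨hlt.le, Polynomial.coeff_eq_zero_of_natDegree_lt hlt⟩
  have hPdeg : P.natDegree ≤ d := by
    rw [Polynomial.natDegree_le_iff_coeff_eq_zero]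
    intro n hn
    have hlt : topologicalKrullDim ↥(CohB1.support G) < ((d + 1 : ℕ) : WithBot ℕ∞) := by
      rw [hd]
      exact_mod_cast Nat.lt_succ_self d
    exact Groth.Agent.Helper6.HilbDeg.coeff_eq_zero_of_dim_lt k Y L hL.1 G hG (d + 1) hlt P hP n hn
  -- generic point with nonzero length
  obtain ⟨ξ₀, hξ₀, hlen₀⟩ := hD Y G hG d hd
  have hS := Groth.Agent.Lead.SnapperFinal.finite_top_points G hG d hd.le
  -- per point polynomials
  have hcl : ∀ ξ : Y, topologicalKrullDim ↥(closure ({ξ} : Set Y)) = (d : WithBot ℕ∞) →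
      ∃ Q : ℚ[X], ShStab.IsHilbPoly k Y L (ClSub.quotMod (IntMult.ptIdeal ξ)) Q ∧
        Q.natDegree ≤ d ∧ 0 < Q.coeff d :=
    fun ξ hξ => closure_poly k Y hA hB hC hE L hL ξ d hξ
  choose! Qf hQf using hcl
  have hnnf : ∀ ξ : Y, topologicalKrullDim ↥(closure ({ξ} : Set Y)) = (d : WithBot ℕ∞) →
      ∃ N : ℕ, ∀ m : ℕ, N ≤ m → 0 ≤ (Qf ξ).eval (m : ℚ) := fun ξ hξ =>
    eventually_nonneg k Y L hL _
      (Groth.Agent.Helper13.ClosureSheaf.isCoh_closureStructureSheaf ξ) (Qf ξ) (hQf ξ hξ).1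
  choose! Nf hNf using hnnf
  obtain ⟨N, hN⟩ : ∃ N : ℕ, ∀ ξ : Y,
      (topologicalKrullDim ↥(closure ({ξ} : Set Y)) = (d : WithBot ℕ∞) ∧
        (Module.length (Y.presheaf.stalk ξ) (G.presheaf.stalk ξ)).toNat ≠ 0) → Nf ξ ≤ N :=
    ⟨hS.toFinset.sup Nf, fun ξ hξ => Finset.le_sup (f := Nf) (hS.mem_toFinset.mpr hξ)⟩
  -- the terms
  obtain ⟨T, hT⟩ : ∃ T : ℕ → Y → ℤ, T = fun m ξ =>
      (if topologicalKrullDim ↥(closure ({ξ} : Set Y)) = (d : WithBot ℕ∞) then
        ((Module.length (Y.presheaf.stalk ξ) (G.presheaf.stalk ξ)).toNat : ℤ) *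
          Curv2.euler k Y (Curv2.tensorPows (Cyc.closureStructureSheaf ξ) 1 (fun _ => L)
            (fun _ => m))
        else 0) := ⟨_, rfl⟩
  have hTx : ∀ m ξ, T m ξ =
      if topologicalKrullDim ↥(closure ({ξ} : Set Y)) = (d : WithBot ℕ∞) then
        ((Module.length (Y.presheaf.stalk ξ) (G.presheaf.stalk ξ)).toNat : ℤ) *
          Curv2.euler k Y (ShStab.twist Y L (ClSub.quotMod (IntMult.ptIdeal ξ)) m) else 0 := by
    intro m ξ
    rw [hT]
    rfl
  have hsum : ∀ m : ℕ, P.eval (m : ℚ) - ((∑ᶠ ξ, T m ξ : ℤ) : ℚ) = R.eval (m : ℚ) := by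
    intro m
    have h := hev (fun _ => m)
    rw [hR, Groth.Agent.Helper6.HilbDeg.eval_aeval_X, ← hP m, ← Int.cast_sub, hT]
    exact h
  have hTnn : ∀ m : ℕ, N ≤ m → ∀ ξ, 0 ≤ T m ξ := by
    intro m hm ξ
    rw [hTx]
    split_ifs with hξ
    · by_cases hl : (Module.length (Y.presheaf.stalk ξ) (G.presheaf.stalk ξ)).toNat = 0
      · rw [hl]
        simp
      · have h1 := hNf ξ hξ m ((hN ξ ⟨hξ, hl⟩).trans hm)
        rw [← (hQf ξ hξ).1 m] at h1
        have h2 : (0 : ℤ) ≤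
            Curv2.euler k Y (ShStab.twist Y L (ClSub.quotMod (IntMult.ptIdeal ξ)) m) := by
          exact_mod_cast h1
        exact mul_nonneg (Nat.cast_nonneg _) h2
    · exact le_rfl
  have hTfin : ∀ m : ℕ, (Function.support (T m)).Finite := by
    intro m
    refine hS.subset ?_
    intro ξ hξ
    rw [Function.mem_support, hTx] at hξ
    by_cases h1 : topologicalKrullDim ↥(closure ({ξ} : Set Y)) = (d : WithBot ℕ∞)
    · refine ⟨h1, fun hl => hξ ?_⟩
      rw [if_pos h1, hl]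
      simp
    · exact (hξ (if_neg h1)).elim
  obtain ⟨hQ₀, hQ₀deg, hQ₀pos⟩ := hQf ξ₀ hξ₀
  have hmain : ∀ m : ℕ, N ≤ m → 0 ≤ (P - R - Qf ξ₀).eval (m : ℚ) := by
    intro m hm
    have h1 : T m ξ₀ ≤ ∑ᶠ ξ, T m ξ := single_le_finsum ξ₀ (hTfin m) (hTnn m hm)
    have h2 := hsum m
    have h4 : (0 : ℚ) ≤
        (Curv2.euler k Y (ShStab.twist Y L (ClSub.quotMod (IntMult.ptIdeal ξ₀)) m) : ℚ) := by
      rw [hQ₀ m]
      exact hNf ξ₀ hξ₀ m ((hN ξ₀ ⟨hξ₀, hlen₀⟩).trans hm)
    have h5 : (1 : ℚ) ≤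
        ((Module.length (Y.presheaf.stalk ξ₀) (G.presheaf.stalk ξ₀)).toNat : ℚ) := by
      exact_mod_cast Nat.one_le_iff_ne_zero.mpr hlen₀
    have h3 : (Qf ξ₀).eval (m : ℚ) ≤ ((T m ξ₀ : ℤ) : ℚ) := by
      rw [hTx, if_pos hξ₀, ← hQ₀ m]
      push_cast
      nlinarith [mul_nonneg (sub_nonneg.mpr h5) h4]
    have h6 : ((T m ξ₀ : ℤ) : ℚ) ≤ ((∑ᶠ ξ, T m ξ : ℤ) : ℚ) := by exact_mod_cast h1
    rw [Polynomial.eval_sub, Polynomial.eval_sub]
    linarith
  have hTdeg : (P - R - Qf ξ₀).natDegree ≤ d := by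
    have h1 := Polynomial.natDegree_sub_le_of_le hPdeg hRd.1
    rw [max_self] at h1
    have h2 := Polynomial.natDegree_sub_le_of_le h1 hQ₀deg
    rw [max_self] at h2
    exact h2
  have hc := Groth.Agent.Helper6.ParCoeff.coeff_nonneg_of_eventually_nonneg (P - R - Qf ξ₀) d
    hTdeg ⟨N, hmain⟩
  rw [Polynomial.coeff_sub, Polynomial.coeff_sub, hRd.2] at hc
  linarith

/-- (SP), `StabCat.alpha` form, modulo the farmed-out hypotheses. -/
theorem sp_alpha (hA : HypA.{u}) (hB : HypB.{u}) (hC : HypC.{u}) (hD : HypD.{u}) (hE : HypE)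
    (L : Y.Modules) (hL : CohB1.IsAmple L) (G : Y.Modules) (d : ℕ) (hG : Coh.IsCoh G)
    (hd : topologicalKrullDim ↥(CohB1.support G) = (d : WithBot ℕ∞))
    (P : ℚ[X]) (hP : ShStab.IsHilbPoly k Y L G P) : 0 < StabCat.alpha d P := by
  unfold StabCat.alpha
  exact mul_pos (by exact_mod_cast Nat.factorial_pos d)
    (sp_coeff k Y hA hB hC hD hE L hL G hG d hd P hP)

end Main

end Groth.Agent.Helper6.SPos
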