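import Groth.Agent.Lib.Helper6.TorFlat

set_option autoImplicit false

open CategoryTheory Limits MonoidalCategory

namespace Groth.Agent.Helper6.TorBalance

open Groth.Agent.Helper18.TorLib

universe u
variable {R : Type u} [CommRing R]

/-- dimension shifting in the first variable. -/
theorem isIso_torδ {S : ShortComplex (ModuleCat.{u} R)} (hS : S.ShortExact) [Module.Flat R S.X₂]
    (N : ModuleCat.{u} R) (n : ℕ) : IsIso (torδ hS N (n + 1)) := by
  have hmono : Mono (torδ hS N (n + 1)) :=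
    (tor_exact₃ hS N (n + 1)).mono_g ((isZero_tor_succ_of_flat_left S.X₂ N (n + 1)).eq_of_src _ _)
  have hepi : Epi (torδ hS N (n + 1)) :=
    (tor_exact₁ hS N (n + 1)).epi_f ((isZero_tor_succ_of_flat_left S.X₂ N n).eq_of_tgt _ _)
  exact isIso_of_mono_of_epi _

/-- `Tor₁(X₃, N)` is the kernel of `X₁ ⊗ N → X₂ ⊗ N` when `X₂` is flat. -/
theorem tor_one_iso_ker {S : ShortComplex (ModuleCat.{u} R)} (hS : S.ShortExact)
    [Module.Flat R S.X₂] (N : ModuleCat.{u} R) :
    Nonempty (((Tor (ModuleCat.{u} R) 1).obj S.X₃).obj N ≅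
      ModuleCat.of R (LinearMap.ker (S.f.hom.rTensor N))) := by
  have hmono : Mono (torδ hS N 0) :=
    (tor_exact₃ hS N 0).mono_g ((isZero_tor_succ_of_flat_left S.X₂ N 0).eq_of_src _ _)
  have hex := tor_exact₁ hS N 0
  -- transport along `tor0Iso`
  have hzero : (torδ hS N 0 ≫ (tor0Iso S.X₁ N).hom) ≫ (S.f ▷ N) = 0 := by
    rw [Category.assoc, ← tor0Iso_hom_naturality, ← Category.assoc, torδ_comp, zero_comp]
  have hex' : (ShortComplex.mk (torδ hS N 0 ≫ (tor0Iso S.X₁ N).hom) (S.f ▷ N) hzero).Exact := by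
    refine ShortComplex.exact_of_iso ?_ hex
    refine ShortComplex.isoMk (Iso.refl _) (tor0Iso S.X₁ N) (tor0Iso S.X₂ N) ?_ ?_
    · simp
    · exact (tor0Iso_hom_naturality S.f N).symm
  have hmono' : Mono (torδ hS N 0 ≫ (tor0Iso S.X₁ N).hom) := mono_comp _ _
  have hinj : Function.Injective (torδ hS N 0 ≫ (tor0Iso S.X₁ N).hom).hom :=
    (ModuleCat.mono_iff_injective _).1 hmono'
  have hrange := hex'.moduleCat_range_eq_ker
  dsimp only at hrange
  rw [ModuleCat.hom_whiskerRight] at hrange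
  exact ⟨(LinearEquiv.ofInjective _ hinj ≪≫ₗ LinearEquiv.ofEq _ _ hrange).toModuleIso⟩

/-- the homology of `F₂ ⊗ N → F₁ ⊗ N → F₀ ⊗ N` when `F₂ → F₁ → Z → 0` is exact and
`F₁ → F₀` factors as `F₁ → Z → F₀`. -/
theorem homology_iso_ker {F₂ F₁ F₀ Z : ModuleCat.{u} R} (d₁ : F₂ ⟶ F₁) (d₀ : F₁ ⟶ F₀)
    (e : F₁ ⟶ Z) (ι : Z ⟶ F₀) (hd : d₁ ≫ d₀ = 0) (he : d₁ ≫ e = 0)
    (hex : (ShortComplex.mk d₁ e he).Exact) (hepi : Epi e) (hfac : e ≫ ι = d₀)
    (N : ModuleCat.{u} R) :
    Nonempty ((ShortComplex.mk (d₁ ▷ N) (d₀ ▷ N)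
        (by rw [← comp_whiskerRight, hd, MonoidalPreadditive.zero_whiskerRight])).homology ≅
      ModuleCat.of R (LinearMap.ker (ι.hom.rTensor N))) := by
  set T : ShortComplex (ModuleCat.{u} R) := ShortComplex.mk (d₁ ▷ N) (d₀ ▷ N)
    (by rw [← comp_whiskerRight, hd, MonoidalPreadditive.zero_whiskerRight]) with hT
  refine ⟨T.moduleCatHomologyIso ≪≫ LinearEquiv.toModuleIso ?_⟩
  change (LinearMap.ker T.g.hom ⧸ LinearMap.range T.moduleCatToCycles) ≃ₗ[R]
    LinearMap.ker (ι.hom.rTensor N)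
  have hg : T.g.hom = d₀.hom.rTensor N := ModuleCat.hom_whiskerRight _ _
  have hf : T.f.hom = d₁.hom.rTensor N := ModuleCat.hom_whiskerRight _ _
  have hfac' : (ι.hom.rTensor N) ∘ₗ (e.hom.rTensor N) = d₀.hom.rTensor N := by
    rw [← LinearMap.rTensor_comp, ← ModuleCat.hom_comp, hfac]
  -- the map `ker (d₀ ⊗ N) → ker (ι ⊗ N)`
  let φ : LinearMap.ker T.g.hom →ₗ[R] LinearMap.ker (ι.hom.rTensor N) :=
    LinearMap.codRestrict _ ((e.hom.rTensor N) ∘ₗ (LinearMap.ker T.g.hom).subtype) (by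
      intro x
      rw [LinearMap.mem_ker, LinearMap.comp_apply, ← LinearMap.comp_apply, hfac', ← hg]
      exact x.2)
  have hesurj : Function.Surjective (e.hom.rTensor N) :=
    LinearMap.rTensor_surjective _ ((ModuleCat.epi_iff_surjective _).1 hepi)
  have hφsurj : Function.Surjective φ := by
    rintro ⟨y, hy⟩
    obtain ⟨x, rfl⟩ := hesurj y
    refine ⟨⟨x, ?_⟩, rfl⟩
    rw [LinearMap.mem_ker, hg, ← hfac', LinearMap.comp_apply]
    exact hy
  have hexact : Function.Exact (d₁.hom.rTensor N) (e.hom.rTensor N) :=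
    rTensor_exact _ ((ShortComplex.ShortExact.moduleCat_exact_iff_function_exact _).1 hex)
      ((ModuleCat.epi_iff_surjective _).1 hepi)
  have hker : LinearMap.ker φ = LinearMap.range T.moduleCatToCycles := by
    ext x
    rw [LinearMap.mem_ker, LinearMap.mem_range]
    constructor
    · intro hx
      have hx' : (e.hom.rTensor N) x.1 = 0 := congrArg Subtype.val hx
      obtain ⟨y, hy⟩ := (hexact x.1).1 hx'
      refine ⟨y, Subtype.ext ?_⟩
      change T.f.hom y = x.1
      rw [hf, hy]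
    · rintro ⟨y, rfl⟩
      apply Subtype.ext
      change (e.hom.rTensor N) (T.f.hom y) = 0
      rw [hf]
      exact hexact.apply_apply_eq_zero y
  exact (Submodule.quotEquivOfEq _ _ hker.symm) ≪≫ₗ φ.quotKerEquivOfSurjective hφsurj


/-- a resolution of `X` by flat modules, as a plain sequence. -/
structure FlatRes (X : ModuleCat.{u} R) where
  F : ℕ → ModuleCat.{u} R
  d : ∀ k, F (k + 1) ⟶ F k
  ε : F 0 ⟶ X
  flat : ∀ k, Module.Flat R (F k)
  epi : Epi ε
  d_ε : d 0 ≫ ε = 0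
  d_d : ∀ k, d (k + 1) ≫ d k = 0
  ex0 : (ShortComplex.mk (d 0) ε d_ε).Exact
  ex : ∀ k, (ShortComplex.mk (d (k + 1)) (d k) (d_d k)).Exact

namespace FlatRes

variable {X : ModuleCat.{u} R} (r : FlatRes X)

/-- the lift of `d 0` to the kernel of the augmentation. -/
noncomputable def ε' : r.F 1 ⟶ kernel r.ε := kernel.lift r.ε (r.d 0) r.d_ε

theorem ε'_ι : r.ε' ≫ kernel.ι r.ε = r.d 0 := kernel.lift_ι _ _ _

theorem d_ε' : r.d 1 ≫ r.ε' = 0 := by
  rw [← cancel_mono (kernel.ι r.ε), Category.assoc, ε'_ι, zero_comp, r.d_d 0]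

theorem epi_ε' : Epi r.ε' := by
  have := r.ex0
  rw [ShortComplex.exact_iff_epi_kernel_lift] at this
  exact this

theorem ex0' : (ShortComplex.mk (r.d 1) r.ε' r.d_ε').Exact := by
  let φ : ShortComplex.mk (r.d 1) r.ε' r.d_ε' ⟶ ShortComplex.mk (r.d 1) (r.d 0) (r.d_d 0) :=
    { τ₁ := 𝟙 _
      τ₂ := 𝟙 _
      τ₃ := kernel.ι r.ε
      comm₁₂ := by simp
      comm₂₃ := by
        dsimp
        rw [Category.id_comp, ε'_ι] }
  haveI : Epi φ.τ₁ := by dsimp [φ]; infer_instance
  haveI : IsIso φ.τ₂ := by dsimp [φ]; infer_instance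
  haveI : Mono φ.τ₃ := by dsimp [φ]; infer_instance
  exact (ShortComplex.exact_iff_of_epi_of_isIso_of_mono φ).2 (r.ex 0)

/-- the shifted resolution of the kernel of the augmentation. -/
noncomputable def shift : FlatRes (kernel r.ε) where
  F k := r.F (k + 1)
  d k := r.d (k + 1)
  ε := r.ε'
  flat k := r.flat (k + 1)
  epi := r.epi_ε'
  d_ε := r.d_ε'
  d_d k := r.d_d (k + 1)
  ex0 := r.ex0'
  ex k := r.ex (k + 1)

/-- the short exact sequence `0 → ker ε → F 0 → X → 0`. -/
noncomputable def ses : ShortComplex (ModuleCat.{u} R) :=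
  ShortComplex.mk (kernel.ι r.ε) r.ε (kernel.condition r.ε)

theorem ses_shortExact : r.ses.ShortExact := by
  haveI : Mono r.ses.f := by dsimp [ses]; infer_instance
  haveI : Epi r.ses.g := r.epi
  refine ShortComplex.ShortExact.mk ?_
  exact ShortComplex.exact_of_f_is_kernel _ (kernelIsKernel r.ε)

theorem whisker_zero (N : ModuleCat.{u} R) (n : ℕ) : (r.d (n + 1) ▷ N) ≫ (r.d n ▷ N) = 0 := by
  rw [← comp_whiskerRight, r.d_d, MonoidalPreadditive.zero_whiskerRight]

end FlatRes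

/-- balancing: `Tor_{n+1}(X, N)` is computed by a flat resolution of `X`. -/
theorem nonempty_tor_iso_homology (N : ModuleCat.{u} R) (n : ℕ) :
    ∀ (X : ModuleCat.{u} R) (r : FlatRes X),
      Nonempty (((Tor (ModuleCat.{u} R) (n + 1)).obj X).obj N ≅
        (ShortComplex.mk (r.d (n + 1) ▷ N) (r.d n ▷ N) (r.whisker_zero N n)).homology) := by
  induction n with
  | zero =>
    intro X r
    haveI : Module.Flat R r.ses.X₂ := r.flat 0
    obtain ⟨e1⟩ := tor_one_iso_ker r.ses_shortExact N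
    obtain ⟨e2⟩ := homology_iso_ker (r.d 1) (r.d 0) r.ε' (kernel.ι r.ε) (r.d_d 0) r.d_ε' r.ex0'
      r.epi_ε' r.ε'_ι N
    exact ⟨e1 ≪≫ e2.symm⟩
  | succ n ih =>
    intro X r
    haveI : Module.Flat R r.ses.X₂ := r.flat 0
    have hiso := isIso_torδ r.ses_shortExact N n
    obtain ⟨e⟩ := ih (kernel r.ε) r.shift
    exact ⟨@asIso _ _ _ _ (torδ r.ses_shortExact N (n + 1)) hiso ≪≫ e⟩


/-- the flat resolution attached to a projective resolution. -/
noncomputable def FlatRes.ofProjectiveResolution {M : ModuleCat.{u} R} (P : ProjectiveResolution M) :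
    FlatRes M where
  F k := P.complex.X k
  d k := P.complex.d (k + 1) k
  ε := P.π.f 0
  flat k := by
    haveI := P.projective k
    exact flat_of_projective (P.complex.X k)
  epi := epi_of_isColimit_cofork P.isColimitCokernelCofork
  d_ε := P.complex_d_comp_π_f_zero
  d_d k := P.complex.d_comp_d _ _ _
  ex0 := ShortComplex.exact_of_g_is_cokernel _ P.isColimitCokernelCofork
  ex k := P.exact_succ k

/-- balancing of Tor: `Tor_n(M, N)` (derived in the second variable) is computed by a projective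
resolution of the first variable. -/
theorem nonempty_tor_iso (M N : ModuleCat.{u} R) (P : ProjectiveResolution M) (n : ℕ) :
    Nonempty (((Tor (ModuleCat.{u} R) n).obj M).obj N ≅
      (((tensorRight N).mapHomologicalComplex (ComplexShape.down ℕ)).obj P.complex).homology n) := by
  cases n with
  | zero =>
    exact ⟨tor0Iso M N ≪≫ ((Functor.leftDerivedZeroIsoSelf (tensorRight N)).app M).symm ≪≫
      P.isoLeftDerivedObj (tensorRight N) 0⟩
  | succ n =>
    obtain ⟨e⟩ := nonempty_tor_iso_homology N n M (FlatRes.ofProjectiveResolution P)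
    refine ⟨e ≪≫ (HomologicalComplex.homologyIsoSc'
      (((tensorRight N).mapHomologicalComplex (ComplexShape.down ℕ)).obj P.complex) (n + 2) (n + 1) n
      (ChainComplex.prev ℕ (n + 1)) (by simp)).symm⟩

end Groth.Agent.Helper6.TorBalance
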