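import Groth.Prelude.Def_CInt
import Mathlib.AlgebraicGeometry.Morphisms.QuasiCompact
import Mathlib.AlgebraicGeometry.Noetherian
import Mathlib.RingTheory.Ideal.AssociatedPrime.Finiteness
import Mathlib.RingTheory.Ideal.MinimalPrime.Basic

/-!
# Schematically dense open subsets (`CInt.IsSchematicallyDense`): helper lemmas (helper6)
-/

set_option autoImplicit false

namespace Groth.Agent.Helper6
open CategoryTheory AlgebraicGeometry TopologicalSpace

universe u

variable {X : Scheme.{u}}

/-- restriction to `V ⊓ U` is injective on sections over `V` -/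
def ResInj (U V : X.Opens) : Prop :=
  Function.Injective (X.presheaf.map (homOfLE (inf_le_left : V ⊓ U ≤ V)).op)

theorem isSchematicallyDense_iff (U : X.Opens) :
    CInt.IsSchematicallyDense U ↔ ∀ V, ResInj U V := Iff.rfl

theorem resInj_iff (U V : X.Opens) : ResInj U V ↔
    ∀ a : Γ(X, V), X.presheaf.map (homOfLE (inf_le_left : V ⊓ U ≤ V)).op a = 0 → a = 0 :=
  injective_iff_map_eq_zero (X.presheaf.map (homOfLE (inf_le_left : V ⊓ U ≤ V)).op).hom

theorem res_res {V W W' : X.Opens} (h : W ≤ V) (h' : W' ≤ W) (a : Γ(X, V)) :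
    X.presheaf.map (homOfLE h').op (X.presheaf.map (homOfLE h).op a) =
      X.presheaf.map (homOfLE (h'.trans h)).op a := by
  rw [← ConcreteCategory.comp_apply, ← Functor.map_comp]; rfl

theorem res_zero {V W : X.Opens} (h : W ≤ V) :
    X.presheaf.map (homOfLE h).op (0 : Γ(X, V)) = 0 :=
  map_zero (X.presheaf.map (homOfLE h).op).hom

theorem ResInj.mono {U U' V : X.Opens} (hUU' : U ≤ U') (h : ResInj U V) : ResInj U' V := by
  rw [resInj_iff] at h ⊢
  intro a ha
  apply h
  have := res_res (inf_le_left : V ⊓ U' ≤ V) (inf_le_inf_left V hUU' : V ⊓ U ≤ V ⊓ U') a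
  rw [ha, res_zero] at this
  exact this.symm

theorem resInj_of_local {U V : X.Opens}
    (h : ∀ x ∈ V, ∃ V' : X.Opens, V' ≤ V ∧ x ∈ V' ∧ ResInj U V') : ResInj U V := by
  rw [resInj_iff]
  intro a ha
  apply TopCat.Presheaf.section_ext X.sheaf V
  intro x hx
  refine Eq.trans ?_ (map_zero (X.presheaf.germ V x hx).hom).symm
  change (X.presheaf.germ V x hx) a = 0
  obtain ⟨V', hV'V, hxV', hV'⟩ := h x hx
  rw [resInj_iff] at hV'
  have h0 : X.presheaf.map (homOfLE hV'V).op a = 0 := by
    apply hV'
    rw [res_res]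
    have := res_res (inf_le_left : V ⊓ U ≤ V) (inf_le_inf_right U hV'V : V' ⊓ U ≤ V ⊓ U) a
    rw [ha, res_zero] at this
    exact this.symm
  have := congrArg (X.presheaf.germ V' x hxV') h0
  rw [TopCat.Presheaf.germ_res_apply, map_zero] at this
  exact this

theorem isSchematicallyDense_of_local {U : X.Opens}
    (h : ∀ x : X, ∃ W : X.Opens, x ∈ W ∧ ∀ V : X.Opens, V ≤ W → ResInj U V) :
    CInt.IsSchematicallyDense U := by
  intro V
  apply resInj_of_local
  intro x hx
  obtain ⟨W, hxW, hW⟩ := h x
  exact ⟨V ⊓ W, inf_le_left, ⟨hx, hxW⟩, hW _ inf_le_right⟩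

theorem IsSchematicallyDense.mono {U U' : X.Opens} (hUU' : U ≤ U')
    (h : CInt.IsSchematicallyDense U) : CInt.IsSchematicallyDense U' :=
  fun V => ResInj.mono hUU' (h V)

/-- a section over `W` all of whose germs are regular: its non-vanishing locus is
schematically dense in `W`. -/
theorem resInj_basicOpen_of_germ_regular {W : X.Opens} (s : Γ(X, W))
    (hs : ∀ (x : X) (hx : x ∈ W), X.presheaf.germ W x hx s ∈ nonZeroDivisors ↑(X.presheaf.stalk x))
    (V : X.Opens) (hVW : V ≤ W) : ResInj (X.basicOpen s) V := by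
  rw [resInj_iff]
  intro a ha
  apply TopCat.Presheaf.section_ext X.sheaf V
  intro x hx
  refine Eq.trans ?_ (map_zero (X.presheaf.germ V x hx).hom).symm
  change (X.presheaf.germ V x hx) a = 0
  obtain ⟨_, ⟨W', hW', rfl⟩, hxW', hW'V⟩ :=
    X.isBasis_affineOpens.exists_subset_of_mem_open hx V.2
  have hW'V' : W' ≤ V := hW'V
  set a' : Γ(X, W') := X.presheaf.map (homOfLE hW'V').op a with ha'
  set s' : Γ(X, W') := X.presheaf.map (homOfLE (hW'V'.trans hVW)).op s with hs'
  have hle : X.basicOpen s' ≤ V ⊓ X.basicOpen s := by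
    rw [hs', Scheme.basicOpen_res]
    exact inf_le_inf_right _ hW'V'
  have h0 : X.presheaf.map (homOfLE (X.basicOpen_le s')).op a' = 0 := by
    have h1 : X.presheaf.map (homOfLE (X.basicOpen_le s')).op a' =
        X.presheaf.map (homOfLE hle).op
          (X.presheaf.map (homOfLE (inf_le_left : V ⊓ X.basicOpen s ≤ V)).op a) := by
      rw [ha', res_res, res_res]
    rw [h1, ha, res_zero]
  obtain ⟨n, hn⟩ :=
    exists_pow_mul_eq_zero_of_res_basicOpen_eq_zero_of_isAffineOpen X hW' a' s' h0
  have hg := congrArg (X.presheaf.germ W' x hxW') hn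
  rw [map_mul, map_pow, map_zero, ha', hs', TopCat.Presheaf.germ_res_apply,
    TopCat.Presheaf.germ_res_apply] at hg
  have hnz := pow_mem (hs x (hVW hx)) n
  rw [mul_comm] at hg
  exact hnz.2 _ hg

/-- On an affine open, germs of regular sections are regular. -/
theorem germ_mem_nonZeroDivisors {W : X.Opens} (hW : IsAffineOpen W) {s : Γ(X, W)}
    (hs : s ∈ nonZeroDivisors Γ(X, W)) (x : X) (hx : x ∈ W) :
    X.presheaf.germ W x hx s ∈ nonZeroDivisors ↑(X.presheaf.stalk x) := by
  let _ := TopCat.Presheaf.algebra_section_stalk X.presheaf (⟨x, hx⟩ : W)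
  have := hW.isLocalization_stalk ⟨x, hx⟩
  exact IsLocalization.map_nonZeroDivisors_le (hW.primeIdealOf ⟨x, hx⟩).asIdeal.primeCompl
    (X.presheaf.stalk x) (Submonoid.mem_map_of_mem _ hs)

/-- regular sections on an affine open have schematically dense non-vanishing locus -/
theorem resInj_basicOpen_of_nonZeroDivisor {W : X.Opens} (hW : IsAffineOpen W) {s : Γ(X, W)}
    (hs : s ∈ nonZeroDivisors Γ(X, W)) (V : X.Opens) (hVW : V ≤ W) :
    ResInj (X.basicOpen s) V :=
  resInj_basicOpen_of_germ_regular s (germ_mem_nonZeroDivisors hW hs) V hVW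


/-- an ideal consisting of zero divisors in a reduced ring with finitely many minimal primes
is killed by a nonzero element; together with the noetherian case. -/
theorem exists_mem_nonZeroDivisors_of_forall_annihilator {A : Type*} [CommRing A]
    (hA : IsNoetherianRing A ∨ (IsReduced A ∧ (minimalPrimes A).Finite)) (I : Ideal A)
    (hI : ∀ x : A, (∀ t ∈ I, x * t = 0) → x = 0) : ∃ t ∈ I, t ∈ nonZeroDivisors A := by
  by_contra hcon
  push Not at hcon
  have hdisj : Disjoint (I : Set A) (nonZeroDivisors A) :=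
    Set.disjoint_left.mpr fun t ht => hcon t ht
  rcases hA with hA | ⟨hred, hfin⟩
  · obtain ⟨x, hx, hx0⟩ := SetLike.exists_of_lt
      (Ideal.bot_lt_annihilator_of_disjoint_nonZeroDivisors hdisj)
    apply hx0
    rw [Ideal.mem_bot]
    apply hI
    intro t ht
    have := (Module.mem_annihilator.mp hx) ⟨t, ht⟩
    simpa using congrArg Subtype.val this
  · -- every element avoiding all minimal primes is regular
    have hreg : ∀ t : A, (∀ p ∈ minimalPrimes A, t ∉ p) → t ∈ nonZeroDivisors A := by
      intro t ht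
      rw [mem_nonZeroDivisors_iff_right]
      intro b hb
      have : b ∈ nilradical A := by
        rw [nilradical, ← Ideal.sInf_minimalPrimes, Ideal.mem_sInf]
        intro p hp
        have hp' : p.IsPrime := hp.1.1
        rcases hp'.mem_or_mem (hb ▸ p.zero_mem : b * t ∈ p) with h | h
        · exact h
        · exact absurd h (ht p hp)
      rwa [nilradical_eq_zero, Ideal.zero_eq_bot, Ideal.mem_bot] at this
    -- I is contained in a minimal prime
    have hsub : (I : Set A) ⊆ ⋃ p ∈ minimalPrimes A, (p : Set A) := by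
      intro t ht
      by_contra hnot
      apply hcon t ht
      apply hreg
      intro p hp htp
      exact hnot (Set.mem_biUnion hp htp)
    obtain ⟨p, hp, hIp⟩ : ∃ p ∈ minimalPrimes A, I ≤ p :=
      (I.subset_union_prime_finite hfin (f := id) 0 0 fun q hq _ _ => hq.1.1).1 hsub
    have hpprime : p.IsPrime := hp.1.1
    -- choose elements a_q ∈ q \ p
    have hchoose : ∀ q ∈ minimalPrimes A, q ≠ p → ∃ a ∈ q, a ∉ p := by
      intro q hq hqp
      by_contra hno
      push Not at hno
      have hqlep : q ≤ p := hno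
      exact hqp (le_antisymm hqlep (hp.2 hq.1 hqlep))
    classical
    let a : Ideal A → A := fun q =>
      if h : q ∈ minimalPrimes A ∧ q ≠ p then (hchoose q h.1 h.2).choose else 1
    have ha_mem : ∀ q ∈ minimalPrimes A, q ≠ p → a q ∈ q := by
      intro q hq hqp
      simp only [a, dif_pos (And.intro hq hqp)]
      exact (hchoose q hq hqp).choose_spec.1
    have ha_notMem : ∀ q, a q ∉ p := by
      intro q
      by_cases h : q ∈ minimalPrimes A ∧ q ≠ p
      · simp only [a, dif_pos h]
        exact (hchoose q h.1 h.2).choose_spec.2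
      · simp only [a, dif_neg h]
        exact fun h1 => hpprime.ne_top ((Ideal.eq_top_iff_one _).mpr h1)
    let x : A := ∏ q ∈ hfin.toFinset, a q
    have hxp : x ∉ p := by
      intro hx
      obtain ⟨q, _, hq⟩ := (hpprime.prod_mem_iff).mp hx
      exact ha_notMem q hq
    have hx0 : x = 0 := by
      apply hI
      intro t ht
      have : x * t ∈ nilradical A := by
        rw [nilradical, ← Ideal.sInf_minimalPrimes, Ideal.mem_sInf]
        intro q hq
        by_cases hqp : q = p
        · subst hqp
          exact Ideal.mul_mem_left _ _ (hIp ht)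
        · apply Ideal.mul_mem_right
          exact Ideal.prod_mem q (hfin.mem_toFinset.mpr hq) (ha_mem q hq hqp)
      rwa [nilradical_eq_zero, Ideal.zero_eq_bot, Ideal.mem_bot] at this
    exact hxp (hx0 ▸ p.zero_mem)


theorem basicOpen_add_le {W : X.Opens} (s t : Γ(X, W)) :
    X.basicOpen (s + t) ≤ X.basicOpen s ⊔ X.basicOpen t := by
  intro x hx
  have hxW : x ∈ W := X.basicOpen_le _ hx
  rw [Scheme.mem_basicOpen _ _ x hxW, map_add] at hx
  rcases IsLocalRing.isUnit_or_isUnit_of_isUnit_add hx with h | h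
  · exact Or.inl ((Scheme.mem_basicOpen _ _ x hxW).mpr h)
  · exact Or.inr ((Scheme.mem_basicOpen _ _ x hxW).mpr h)

/-- If restriction `Γ(W) → Γ(W ∩ U)` is injective on an affine open `W` whose ring is noetherian
(or reduced with finitely many minimal primes), then `U` contains `D(t)` for a regular `t`. -/
theorem exists_nonZeroDivisor_basicOpen_le {W : X.Opens} (hW : IsAffineOpen W)
    (hA : IsNoetherianRing Γ(X, W) ∨ (IsReduced Γ(X, W) ∧ (minimalPrimes Γ(X, W)).Finite))
    (U : X.Opens) (hU : ResInj U W) : ∃ t ∈ nonZeroDivisors Γ(X, W), X.basicOpen t ≤ U := by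
  let I : Ideal Γ(X, W) :=
    { carrier := {t | X.basicOpen t ≤ U}
      add_mem' := fun {s t} hs ht => (basicOpen_add_le s t).trans (sup_le hs ht)
      zero_mem' := by simp
      smul_mem' := fun c t ht => by
        change X.basicOpen (c * t) ≤ U
        rw [Scheme.basicOpen_mul]; exact inf_le_right.trans ht }
  suffices hI : ∀ x : Γ(X, W), (∀ t ∈ I, x * t = 0) → x = 0 by
    obtain ⟨t, htI, ht⟩ := exists_mem_nonZeroDivisors_of_forall_annihilator hA I hI
    exact ⟨t, ht, htI⟩
  intro x hx
  rw [resInj_iff] at hU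
  apply hU
  apply TopCat.Presheaf.section_ext X.sheaf (W ⊓ U)
  intro y hy
  refine Eq.trans ?_ (map_zero (X.presheaf.germ (W ⊓ U) y hy).hom).symm
  change (X.presheaf.germ (W ⊓ U) y hy) _ = 0
  rw [TopCat.Presheaf.germ_res_apply]
  obtain ⟨t, htU, hyt⟩ := hW.exists_basicOpen_le (V := U) ⟨y, hy.2⟩ hy.1
  have h1 := hx t htU
  have hg := congrArg (X.presheaf.germ W y hy.1) h1
  rw [map_mul, map_zero] at hg
  have hunit : IsUnit (X.presheaf.germ W y hy.1 t) := (Scheme.mem_basicOpen _ _ y hy.1).mp hyt
  exact (hunit.mul_left_eq_zero).mp hg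

end Groth.Agent.Helper6
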