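import Groth.Agent.Lib.Helper6.ConeLib
import Mathlib.AlgebraicGeometry.Morphisms.Affine
import Mathlib.AlgebraicGeometry.Morphisms.UnderlyingMap

set_option autoImplicit false
namespace Groth.Agent.Helper6.ConeLib
universe u
open AlgebraicGeometry CategoryTheory Limits HomogeneousLocalization

theorem specMap_asIdeal {R S : Type u} [CommRing R] [CommRing S] (φ : R →+* S)
    (y : Spec (CommRingCat.of S)) :
    ((Spec.map (CommRingCat.ofHom φ)).base y).asIdeal = Ideal.comap φ y.asIdeal := rfl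

variable {R A : Type u} [CommRing R] [CommRing A] [Algebra R A] {𝒜 : ℕ → Submodule R A}
  [GradedAlgebra 𝒜]

section retraction
variable (π : (Cone.pointed 𝒜 : Scheme.{u}) ⟶ Proj 𝒜)
  (hπ : ∀ (d : ℕ) (f : A) (hd : 0 < d) (hf : f ∈ 𝒜 d), Cone.chart hf hd ≫ π = gmap hf hd)

include hπ in
theorem π_chart_apply {d : ℕ} {f : A} (hf : f ∈ 𝒜 d) (hd : 0 < d)
    (y : Spec (CommRingCat.of (Localization.Away f))) :
    π.base ((Cone.chart hf hd).base y) = (Proj.awayι 𝒜 f hf hd).base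
      ((Spec.map (CommRingCat.ofHom (algebraMap (Away 𝒜 f) (Localization.Away f)))).base y) := by
  have := congrArg (fun h => h.base y) (hπ d f hd hf)
  simpa [gmap] using this

theorem ι_chart_apply {d : ℕ} {f : A} (hf : f ∈ 𝒜 d) (hd : 0 < d)
    (y : Spec (CommRingCat.of (Localization.Away f))) :
    (Cone.pointed 𝒜).ι.base ((Cone.chart hf hd).base y) =
      (Spec.map (CommRingCat.ofHom (algebraMap A (Localization.Away f)))).base y := by
  have := congrArg (fun h => h.base y) (chart_ι hf hd)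
  simpa using this

include hπ in
theorem π_mem_basicOpen_iff {d : ℕ} {f : A} (hf : f ∈ 𝒜 d) (hd : 0 < d)
    (q : (Cone.pointed 𝒜 : Scheme.{u})) :
    π.base q ∈ Proj.basicOpen 𝒜 f ↔
      (Cone.pointed 𝒜).ι.base q ∈ (PrimeSpectrum.basicOpen f : Set (PrimeSpectrum A)) := by
  constructor
  · intro h
    obtain ⟨i, y, rfl⟩ := exists_mem_range_chart q
    rw [π_chart_apply π hπ i.hf i.hd] at h
    have h2 : (Spec.map (CommRingCat.ofHom (algebraMap (Away 𝒜 i.f) (Localization.Away i.f)))).base y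
        ∈ Proj.awayι 𝒜 i.f i.hf i.hd ⁻¹ᵁ Proj.basicOpen 𝒜 f := h
    rw [Proj.awayι_preimage_basicOpen 𝒜 i.hf i.hd hf hd] at h2
    rw [ι_chart_apply]
    change _ ∉ _ at h2
    change f ∉ _
    rw [specMap_asIdeal] at h2 ⊢
    intro hmem
    apply h2
    rw [Ideal.mem_comap] at hmem ⊢
    rw [HomogeneousLocalization.algebraMap_apply, Away.val_mk, Localization.mk_eq_mk',
      IsLocalization.mk'_mem_iff, map_pow]
    exact Ideal.pow_mem_of_mem _ hmem _ i.hd
  · intro h
    obtain ⟨y, rfl⟩ := (mem_range_chart hf hd q).mpr h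
    rw [π_chart_apply π hπ hf hd, ← Proj.opensRange_awayι 𝒜 f hf hd]
    exact ⟨_, rfl⟩

include hπ in
theorem π_preimage_basicOpen {d : ℕ} {f : A} (hf : f ∈ 𝒜 d) (hd : 0 < d) :
    π ⁻¹ᵁ Proj.basicOpen 𝒜 f = (Cone.pointed 𝒜).ι ⁻¹ᵁ Cone.coneOpen f := by
  ext q
  exact π_mem_basicOpen_iff π hπ hf hd q

include hπ in
theorem π_preimage_eq_opensRange {d : ℕ} {f : A} (hf : f ∈ 𝒜 d) (hd : 0 < d) :
    π ⁻¹ᵁ Proj.basicOpen 𝒜 f = (Cone.chart hf hd).opensRange := by
  ext q
  change π.base q ∈ Proj.basicOpen 𝒜 f ↔ q ∈ Set.range (Cone.chart hf hd).base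
  rw [π_mem_basicOpen_iff π hπ hf hd q, mem_range_chart]

theorem exists_mem_basicOpen (x : Proj 𝒜) :
    ∃ (d : ℕ) (f : A) (_ : 0 < d) (_ : f ∈ 𝒜 d), x ∈ Proj.basicOpen 𝒜 f := by
  obtain ⟨y, hy⟩ := (Proj.affineOpenCover 𝒜).covers x
  refine ⟨(Proj.affineOpenCover 𝒜).idx x |>.1, (Proj.affineOpenCover 𝒜).idx x |>.2.1,
    ((Proj.affineOpenCover 𝒜).idx x).1.2, ((Proj.affineOpenCover 𝒜).idx x).2.2, ?_⟩
  rw [← Proj.opensRange_awayι 𝒜 _ ((Proj.affineOpenCover 𝒜).idx x).2.2
    ((Proj.affineOpenCover 𝒜).idx x).1.2]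
  exact ⟨y, hy⟩

include hπ in
theorem π_isAffineHom : IsAffineHom π := by
  apply isAffineHom_of_forall_exists_isAffineOpen
  intro x
  obtain ⟨d, f, hd, hf, hx⟩ := exists_mem_basicOpen x
  refine ⟨Proj.basicOpen 𝒜 f, hx, Proj.isAffineOpen_basicOpen 𝒜 f hf hd, ?_⟩
  rw [π_preimage_eq_opensRange π hπ hf hd]
  exact isAffineOpen_opensRange _

include hπ in
theorem π_asHomogeneousIdeal (p : (Cone.pointed 𝒜 : Scheme.{u})) :
    (π.base p).asHomogeneousIdeal =
      (((Cone.pointed 𝒜).ι.base p).asIdeal).homogeneousCore 𝒜 := by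
  -- homogeneous elements
  have key : ∀ (n : ℕ) (h : A), h ∈ 𝒜 n →
      (h ∈ (π.base p).asHomogeneousIdeal ↔ h ∈ ((Cone.pointed 𝒜).ι.base p).asIdeal) := by
    have pos : ∀ (n : ℕ) (h : A), 0 < n → h ∈ 𝒜 n →
        (h ∈ (π.base p).asHomogeneousIdeal ↔ h ∈ ((Cone.pointed 𝒜).ι.base p).asIdeal) := by
      intro n h hn hh
      have := π_mem_basicOpen_iff π hπ hh hn p
      rw [Proj.mem_basicOpen] at this
      exact not_iff_not.mp this
    intro n h hh
    by_cases hn : 0 < n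
    · exact pos n h hn hh
    · obtain rfl : n = 0 := by omega
      obtain ⟨i, hi⟩ := exists_mem_range_chart p
      have hg1 : i.f ∉ ((Cone.pointed 𝒜).ι.base p).asIdeal := (mem_range_chart i.hf i.hd p).mp hi
      have hg2 : i.f ∉ (π.base p).asHomogeneousIdeal := fun hc => hg1 ((pos _ _ i.hd i.hf).mp hc)
      have hmul := pos (0 + i.d) (h * i.f) (by have := i.hd; omega) (SetLike.mul_mem_graded hh i.hf)
      constructor
      · intro hmem
        have h1 : h * i.f ∈ ((Cone.pointed 𝒜).ι.base p).asIdeal :=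
          hmul.mp (Ideal.mul_mem_right _ _ hmem)
        exact (((Cone.pointed 𝒜).ι.base p).isPrime.mem_or_mem h1).resolve_right hg1
      · intro hmem
        have h1 : h * i.f ∈ (π.base p).asHomogeneousIdeal :=
          hmul.mpr (Ideal.mul_mem_right _ _ hmem)
        exact ((π.base p).isPrime.mem_or_mem h1).resolve_right hg2
  apply HomogeneousIdeal.toIdeal_injective
  ext a
  rw [(π.base p).asHomogeneousIdeal.isHomogeneous.mem_iff,
    ((((Cone.pointed 𝒜).ι.base p).asIdeal).homogeneousCore 𝒜).isHomogeneous.mem_iff]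
  refine forall_congr' fun n => ?_
  have h1 := key n _ (SetLike.coe_mem (DirectSum.decompose 𝒜 a n))
  constructor
  · intro h
    exact Ideal.mem_homogeneousCore_of_homogeneous_of_mem ⟨n, SetLike.coe_mem _⟩ (h1.mp h)
  · intro h
    exact h1.mpr (Ideal.toIdeal_homogeneousCore_le 𝒜 _ h)

include hπ in
theorem π_surjective : Function.Surjective π.base := by
  intro x
  have hx : (⟨x.asHomogeneousIdeal.toIdeal, x.isPrime⟩ : PrimeSpectrum A) ∈ Cone.pointed 𝒜 := by
    intro hmem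
    exact x.not_irrelevant_le ((PrimeSpectrum.mem_zeroLocus _ _).mp hmem)
  refine ⟨⟨_, hx⟩, ?_⟩
  apply ProjectiveSpectrum.ext
  rw [π_asHomogeneousIdeal π hπ]
  exact HomogeneousIdeal.toIdeal_homogeneousCore_eq_self _

end retraction

end Groth.Agent.Helper6.ConeLib
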