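import Groth.Agent.Lib.Helper6.PConeLib
import Groth.Agent.Lib.Helper6.ConeLib2
import Mathlib.AlgebraicGeometry.ProjectiveSpectrum.Functor

set_option autoImplicit false
namespace Groth.Agent.Helper6.PConeLib
universe u
open AlgebraicGeometry CategoryTheory Limits HomogeneousLocalization

variable {R A B : Type u} [CommRing R] [CommRing A] [Algebra R A] {𝒜 : ℕ → Submodule R A}
  [GradedAlgebra 𝒜] [CommRing B] [Algebra R B] {ℬ : ℕ → Submodule R B} [GradedAlgebra ℬ]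
  (φ : 𝒜 →+*ᵍ ℬ)

theorem map_isLocalizationElem {d e : ℕ} {f g : A} (hf : f ∈ 𝒜 d) (hg : g ∈ 𝒜 e) :
    Away.map φ g (Away.isLocalizationElem hg hf) = Away.isLocalizationElem (φ.2 hg) (φ.2 hf) := by
  unfold Away.isLocalizationElem
  rw [Away.map_mk]
  apply HomogeneousLocalization.val_injective
  simp only [Away.val_mk, map_pow]
  rfl

section retraction
variable (p : (PCone.dom φ : Scheme.{u}) ⟶ Proj 𝒜)
  (hp : ∀ (d : ℕ) (f : A) (hd : 0 < d) (hf : f ∈ 𝒜 d), PCone.chart φ hf hd ≫ p = gmap φ hf hd)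

include hp in
theorem p_chart_apply {d : ℕ} {f : A} (hf : f ∈ 𝒜 d) (hd : 0 < d)
    (y : Spec (CommRingCat.of (Away ℬ (φ f)))) :
    p.base ((PCone.chart φ hf hd).base y) = (Proj.awayι 𝒜 f hf hd).base
      ((Spec.map (CommRingCat.ofHom (Away.map φ f))).base y) := by
  have := congrArg (fun h => h.base y) (hp d f hd hf)
  simpa [gmap] using this

omit [GradedAlgebra 𝒜] in
theorem ι_chart_apply {d : ℕ} {f : A} (hf : f ∈ 𝒜 d) (hd : 0 < d)
    (y : Spec (CommRingCat.of (Away ℬ (φ f)))) :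
    (PCone.dom φ).ι.base ((PCone.chart φ hf hd).base y) =
      (Proj.awayι ℬ (φ f) (φ.2 hf) hd).base y := by
  have := congrArg (fun h => h.base y) (chart_ι φ hf hd)
  simpa using this

include hp in
theorem p_mem_basicOpen_iff {d : ℕ} {f : A} (hf : f ∈ 𝒜 d) (hd : 0 < d)
    (q : (PCone.dom φ : Scheme.{u})) :
    p.base q ∈ Proj.basicOpen 𝒜 f ↔ (PCone.dom φ).ι.base q ∈ Proj.basicOpen ℬ (φ f) := by
  constructor
  · intro h
    obtain ⟨i, y, rfl⟩ := exists_mem_range_chart φ q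
    rw [p_chart_apply φ p hp i.hf i.hd] at h
    have h2 : (Spec.map (CommRingCat.ofHom (Away.map φ i.f))).base y
        ∈ Proj.awayι 𝒜 i.f i.hf i.hd ⁻¹ᵁ Proj.basicOpen 𝒜 f := h
    rw [Proj.awayι_preimage_basicOpen 𝒜 i.hf i.hd hf hd] at h2
    rw [ι_chart_apply]
    have e := Proj.awayι_preimage_basicOpen ℬ (φ.2 i.hf) i.hd (φ.2 hf) hd
    have h3 : y ∈ (PrimeSpectrum.basicOpen (Away.isLocalizationElem (φ.2 i.hf) (φ.2 hf)) :
        (Spec (CommRingCat.of (Away ℬ (φ i.f)))).Opens) := by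
      change _ ∉ _ at h2
      change _ ∉ _
      rw [ConeLib.specMap_asIdeal, Ideal.mem_comap, map_isLocalizationElem] at h2
      exact h2
    exact e.ge h3
  · intro h
    obtain ⟨y, rfl⟩ := (mem_range_chart φ hf hd q).mpr h
    rw [p_chart_apply φ p hp hf hd, ← Proj.opensRange_awayι 𝒜 f hf hd]
    exact ⟨_, rfl⟩

include hp in
theorem p_preimage_eq_opensRange {d : ℕ} {f : A} (hf : f ∈ 𝒜 d) (hd : 0 < d) :
    p ⁻¹ᵁ Proj.basicOpen 𝒜 f = (PCone.chart φ hf hd).opensRange := by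
  ext q
  change p.base q ∈ Proj.basicOpen 𝒜 f ↔ q ∈ Set.range (PCone.chart φ hf hd).base
  rw [p_mem_basicOpen_iff φ p hp hf hd q, mem_range_chart]

include hp in
theorem p_isAffineHom : IsAffineHom p := by
  apply isAffineHom_of_forall_exists_isAffineOpen
  intro x
  obtain ⟨d, f, hd, hf, hx⟩ := ConeLib.exists_mem_basicOpen x
  refine ⟨Proj.basicOpen 𝒜 f, hx, Proj.isAffineOpen_basicOpen 𝒜 f hf hd, ?_⟩
  rw [p_preimage_eq_opensRange φ p hp hf hd]
  exact isAffineOpen_opensRange _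

end retraction

section congr
variable (𝒜)

/-- transport of `Away 𝒜 a` along an equality `a = b` -/
noncomputable def awayCongr {a b : A} (h : a = b) : Away 𝒜 a ≃+* Away 𝒜 b := by
  subst h; exact RingEquiv.refl _

theorem awayCongr_mk {a b : A} (h : a = b) {d : ℕ} (ha : a ∈ 𝒜 d) (n : ℕ) (c : A)
    (hc : c ∈ 𝒜 (n • d)) :
    awayCongr 𝒜 h (Away.mk 𝒜 ha n c hc) = Away.mk 𝒜 (h ▸ ha) n c hc := by
  subst h; rfl

theorem specMap_awayCongr_awayι {a b : A} (h : a = b) {d : ℕ} (ha : a ∈ 𝒜 d) (hd : 0 < d) :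
    Spec.map (CommRingCat.ofHom (awayCongr 𝒜 h).toRingHom) ≫ Proj.awayι 𝒜 a ha hd =
      Proj.awayι 𝒜 b (h ▸ ha) hd := by
  subst h
  change Spec.map (𝟙 _) ≫ _ = _
  rw [Spec.map_id, Category.id_comp]

end congr

section sectionj
variable (ψ : ℬ →+*ᵍ 𝒜) (hψφ : ∀ a : A, ψ (φ a) = a)
  (hψ : HomogeneousIdeal.irrelevant 𝒜 ≤ (HomogeneousIdeal.irrelevant ℬ).map ψ)

include hψφ in
theorem range_map_subset : Set.range (Proj.map ψ hψ).base ⊆ Set.range (PCone.dom φ).ι.base := by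
  rw [Scheme.Opens.range_ι]
  rintro _ ⟨x, rfl⟩
  obtain ⟨d, f, hd, hf, hx⟩ := ConeLib.exists_mem_basicOpen x
  have h1 : x ∈ Proj.map ψ hψ ⁻¹ᵁ Proj.basicOpen ℬ (φ f) := by
    rw [Proj.map_preimage_basicOpen, hψφ]; exact hx
  exact TopologicalSpace.Opens.mem_iSup.mpr ⟨⟨f, d, hd, hf⟩, h1⟩

/-- the section `j : Proj 𝒜 ⟶ G(φ)` induced by the retraction `ψ`. -/
noncomputable def jmap : Proj 𝒜 ⟶ (PCone.dom φ : Scheme.{u}) :=
  IsOpenImmersion.lift (PCone.dom φ).ι (Proj.map ψ hψ) (range_map_subset φ ψ hψφ hψ)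

theorem jmap_ι : jmap φ ψ hψφ hψ ≫ (PCone.dom φ).ι = Proj.map ψ hψ :=
  IsOpenImmersion.lift_fac _ _ _

theorem awayι_jmap {d : ℕ} {f : A} (hf : f ∈ 𝒜 d) (hd : 0 < d) :
    Proj.awayι 𝒜 f hf hd ≫ jmap φ ψ hψφ hψ =
      Spec.map (CommRingCat.ofHom (awayCongr 𝒜 (hψφ f)).toRingHom) ≫
        Spec.map (CommRingCat.ofHom (Away.map ψ (φ f))) ≫ PCone.chart φ hf hd := by
  rw [← cancel_mono (PCone.dom φ).ι, Category.assoc, jmap_ι, Category.assoc, Category.assoc,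
    chart_ι, ← Proj.awayι_comp_map ψ hψ hd (φ f) (φ.2 hf), ← Category.assoc,
    specMap_awayCongr_awayι 𝒜 (hψφ f) (ψ.2 (φ.2 hf)) hd]

include hψφ in
theorem congr_map_map {d : ℕ} {f : A} (hf : f ∈ 𝒜 d) :
    ((awayCongr 𝒜 (hψφ f)).toRingHom.comp (Away.map ψ (φ f))).comp (Away.map φ f) =
      RingHom.id _ := by
  ext x
  obtain ⟨n, a, ha, rfl⟩ := Away.mk_surjective 𝒜 hf x
  simp only [RingHom.comp_apply, Away.map_mk, RingEquiv.toRingHom_eq_coe, RingHom.coe_coe,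
    awayCongr_mk, RingHom.id_apply, Away.val_mk, hψφ]

variable (p : (PCone.dom φ : Scheme.{u}) ⟶ Proj 𝒜)
  (hp : ∀ (d : ℕ) (f : A) (hd : 0 < d) (hf : f ∈ 𝒜 d), PCone.chart φ hf hd ≫ p = gmap φ hf hd)

include hp in
theorem jmap_p : jmap φ ψ hψφ hψ ≫ p = 𝟙 (Proj 𝒜) := by
  apply (Proj.affineOpenCover 𝒜).openCover.hom_ext
  intro i
  change Proj.awayι 𝒜 i.2.1 i.2.2 i.1.2 ≫ _ = Proj.awayι 𝒜 i.2.1 i.2.2 i.1.2 ≫ _
  rw [← Category.assoc, awayι_jmap, Category.assoc, Category.assoc, hp, Category.comp_id]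
  unfold gmap
  rw [← Category.assoc, ← Category.assoc, ← Spec.map_comp, ← Spec.map_comp,
    ← CommRingCat.ofHom_comp, ← CommRingCat.ofHom_comp,
    congr_map_map φ ψ hψφ i.2.2]
  change Spec.map (𝟙 _) ≫ _ = _
  rw [Spec.map_id, Category.id_comp]

omit [GradedAlgebra 𝒜] [GradedAlgebra ℬ] in
theorem surjective_of_section {X Y : Scheme.{u}} (p : X ⟶ Y) (j : Y ⟶ X) (hj : j ≫ p = 𝟙 Y) :
    Function.Surjective p.base := by
  intro x
  refine ⟨j.base x, ?_⟩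
  have := congrArg (fun h => h.base x) hj
  simpa using this

end sectionj

end Groth.Agent.Helper6.PConeLib
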