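import Groth.Agent.Lib.Helper6.Uni2
import Groth.Prelude.Def_SGA3b
import Mathlib

/-!
# Groups of multiplicative type over a field (helper6), part 1: cancellation of base changes as a
bialgebra isomorphism, spans of group-like elements under surjections and base change.
-/

set_option autoImplicit false

namespace Groth.Agent.Helper6.MT

open TensorProduct

universe u

section GroupLikeSpan

variable {R : Type*} [CommRing R]

theorem span_groupLike_eq_top_of_surjective {X Y : Type*} [CommRing X] [Bialgebra R X]
    [CommRing Y] [Bialgebra R Y] (φ : X →ₐc[R] Y) (hφ : Function.Surjective φ)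
    (h : Submodule.span R {a : X | IsGroupLikeElem R a} = ⊤) :
    Submodule.span R {a : Y | IsGroupLikeElem R a} = ⊤ := by
  rw [eq_top_iff]
  intro y _
  obtain ⟨x, rfl⟩ := hφ y
  have hx : x ∈ Submodule.span R {a : X | IsGroupLikeElem R a} := by
    rw [h]
    trivial
  have hle : Submodule.span R {a : X | IsGroupLikeElem R a} ≤
      Submodule.comap (φ : X →ₗ[R] Y) (Submodule.span R {a : Y | IsGroupLikeElem R a}) := by
    rw [Submodule.span_le]
    intro g hg
    show φ g ∈ Submodule.span R {a : Y | IsGroupLikeElem R a}
    exact Submodule.subset_span (IsGroupLikeElem.map φ hg)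
  exact hle hx

theorem isGroupLikeElem_one_tmul {K : Type*} [CommRing K] [Algebra R K]
    {X : Type*} [CommRing X] [Bialgebra R X] {g : X} (hg : IsGroupLikeElem R g) :
    IsGroupLikeElem K ((1 : K) ⊗ₜ[R] g) where
  counit_eq_one := by
    rw [TensorProduct.counit_tmul, hg.counit_eq_one, one_smul]
    rfl
  comul_eq_tmul_self := by
    rw [TensorProduct.comul_tmul, hg.comul_eq_tmul_self]
    have h1 : Coalgebra.comul (R := K) (1 : K) = (1 : K) ⊗ₜ[K] (1 : K) := rfl
    rw [h1]
    simp

theorem span_groupLike_baseChange (K : Type*) [CommRing K] [Algebra R K]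
    {X : Type*} [CommRing X] [Bialgebra R X]
    (h : Submodule.span R {a : X | IsGroupLikeElem R a} = ⊤) :
    Submodule.span K {a : K ⊗[R] X | IsGroupLikeElem K a} = ⊤ := by
  have key : ∀ z : K ⊗[R] X, z ∈ Submodule.span K {a : K ⊗[R] X | IsGroupLikeElem K a} := by
    intro z
    induction z using TensorProduct.induction_on with
    | zero => exact Submodule.zero_mem _
    | tmul c x =>
      have hx : x ∈ Submodule.span R {a : X | IsGroupLikeElem R a} := by
        rw [h]
        trivial
      clear h
      revert c
      refine Submodule.span_induction (p := fun x _ => ∀ c : K, (c ⊗ₜ[R] x : K ⊗[R] X) ∈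
        Submodule.span K {a : K ⊗[R] X | IsGroupLikeElem K a}) ?_ ?_ ?_ ?_ hx
      · intro g hg c
        have e1 : (c ⊗ₜ[R] g : K ⊗[R] X) = c • ((1 : K) ⊗ₜ[R] g) := by
          rw [TensorProduct.smul_tmul', smul_eq_mul, mul_one]
        rw [e1]
        exact Submodule.smul_mem _ _ (Submodule.subset_span (isGroupLikeElem_one_tmul hg))
      · intro c
        rw [TensorProduct.tmul_zero]
        exact Submodule.zero_mem _
      · intro x y _ _ hx hy c
        rw [TensorProduct.tmul_add]
        exact Submodule.add_mem _ (hx c) (hy c)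
      · intro r x _ hx c
        rw [TensorProduct.tmul_smul, TensorProduct.smul_tmul']
        exact hx _
    | add x y hx hy => exact Submodule.add_mem _ hx hy
  rw [eq_top_iff]
  intro z _
  exact key z

end GroupLikeSpan

section Cancel

variable (R : Type*) [CommRing R] (S : Type*) [CommRing S] [Algebra R S]
  (K : Type*) [CommRing K] [Algebra S K] [Algebra R K] [IsScalarTower R S K]
  (B : Type*) [CommRing B] [Bialgebra R B]

theorem comul_one_tmul (b : B) :
    Coalgebra.comul (R := S) ((1 : S) ⊗ₜ[R] b : S ⊗[R] B) =
      AlgebraTensorModule.distribBaseChange R S B B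
        ((1 : S) ⊗ₜ[R] (Coalgebra.comul (R := R) b)) := by
  rw [TensorProduct.comul_tmul]
  have h1 : Coalgebra.comul (R := S) (1 : S) = (1 : S) ⊗ₜ[S] (1 : S) := rfl
  rw [h1]
  generalize Coalgebra.comul (R := R) b = z
  induction z using TensorProduct.induction_on with
  | zero => simp
  | tmul x y => simp
  | add x y hx hy => rw [TensorProduct.tmul_add, map_add, hx, hy, TensorProduct.tmul_add, map_add]

theorem cancel_counit (x : K ⊗[S] (S ⊗[R] B)) :
    Coalgebra.counit (R := K) (Algebra.TensorProduct.cancelBaseChange R S K K B x) =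
      Coalgebra.counit (R := K) x := by
  induction x using TensorProduct.induction_on with
  | zero => simp
  | tmul c y =>
    induction y using TensorProduct.induction_on with
    | zero => simp
    | tmul s b =>
      rw [Algebra.TensorProduct.cancelBaseChange_tmul]
      simp only [TensorProduct.counit_tmul, CommSemiring.counit_apply, smul_assoc]
    | add y z hy hz =>
      rw [TensorProduct.tmul_add, map_add, map_add, map_add, hy, hz]
  | add x y hx hy => rw [map_add, map_add, map_add, hx, hy]

theorem cancel_comul_gen (b : B) :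
    Algebra.TensorProduct.map
        (Algebra.TensorProduct.cancelBaseChange R S K K B : K ⊗[S] (S ⊗[R] B) →ₐ[K] K ⊗[R] B)
        (Algebra.TensorProduct.cancelBaseChange R S K K B : K ⊗[S] (S ⊗[R] B) →ₐ[K] K ⊗[R] B)
        (Coalgebra.comul (R := K) ((1 : K) ⊗ₜ[S] ((1 : S) ⊗ₜ[R] b) : K ⊗[S] (S ⊗[R] B))) =
      Coalgebra.comul (R := K) ((1 : K) ⊗ₜ[R] b : K ⊗[R] B) := by
  rw [comul_one_tmul S K (S ⊗[R] B), comul_one_tmul R S B, comul_one_tmul R K B]
  generalize Coalgebra.comul (R := R) b = z
  induction z using TensorProduct.induction_on with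
  | zero => simp
  | tmul x y => simp
  | add x y hx hy =>
    simp only [TensorProduct.tmul_add, map_add] at hx hy ⊢
    rw [hx, hy]

/-- cancellation of base changes, as an isomorphism of bialgebras -/
noncomputable def cancelBC : K ⊗[S] (S ⊗[R] B) ≃ₐc[K] K ⊗[R] B :=
  BialgEquiv.ofAlgEquiv (Algebra.TensorProduct.cancelBaseChange R S K K B)
    (by
      apply AlgHom.ext
      intro x
      exact cancel_counit R S K B x)
    (by
      apply AlgHom.ext
      intro x
      induction x using TensorProduct.induction_on with
      | zero => simp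
      | tmul c y =>
        induction y using TensorProduct.induction_on with
        | zero => simp
        | tmul s b =>
          have e1 : (c ⊗ₜ[S] (s ⊗ₜ[R] b) : K ⊗[S] (S ⊗[R] B)) =
              (s • c) • ((1 : K) ⊗ₜ[S] ((1 : S) ⊗ₜ[R] b)) := by
            rw [TensorProduct.smul_tmul', smul_eq_mul, mul_one, TensorProduct.smul_tmul,
              TensorProduct.smul_tmul', smul_eq_mul, mul_one]
          rw [e1, map_smul, map_smul]
          congr 1
          show Algebra.TensorProduct.map
              (Algebra.TensorProduct.cancelBaseChange R S K K B : K ⊗[S] (S ⊗[R] B) →ₐ[K] K ⊗[R] B)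
              (Algebra.TensorProduct.cancelBaseChange R S K K B : K ⊗[S] (S ⊗[R] B) →ₐ[K] K ⊗[R] B)
              (Coalgebra.comul (R := K) ((1 : K) ⊗ₜ[S] ((1 : S) ⊗ₜ[R] b) : K ⊗[S] (S ⊗[R] B))) =
            Coalgebra.comul (R := K) (Algebra.TensorProduct.cancelBaseChange R S K K B
              ((1 : K) ⊗ₜ[S] ((1 : S) ⊗ₜ[R] b)))
          rw [Algebra.TensorProduct.cancelBaseChange_tmul, one_smul]
          exact cancel_comul_gen R S K B b
        | add y z hy hz =>
          rw [TensorProduct.tmul_add, map_add, map_add, hy, hz]
      | add x y hx hy => rw [map_add, map_add, hx, hy])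

theorem cancelBC_surjective : Function.Surjective (cancelBC R S K B) :=
  (cancelBC R S K B).surjective

end Cancel

end Groth.Agent.Helper6.MT
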