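import Groth.Agent.Lib.Helper6.SchDense
import Mathlib.AlgebraicGeometry.Properties
import Mathlib.Topology.Irreducible

/-!
# Schematic density vs topological density (helper6)
-/

set_option autoImplicit false

namespace Groth.Agent.Helper6
open CategoryTheory AlgebraicGeometry TopologicalSpace

universe u

variable {X : Scheme.{u}}

/-- a schematically dense open is (topologically) dense -/
theorem dense_of_isSchematicallyDense {U : X.Opens} (hU : CInt.IsSchematicallyDense U) :
    Dense (U : Set X) := by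
  rw [dense_iff_inter_open]
  intro W hWo hWne
  by_contra hempty
  rw [Set.not_nonempty_iff_eq_empty] at hempty
  let W' : X.Opens := ⟨W, hWo⟩
  have hbot : W' ⊓ U = ⊥ := by
    ext y
    constructor
    · intro hy
      have : y ∈ W ∩ (U : Set X) := hy
      rw [hempty] at this
      exact this.elim
    · intro hy
      exact hy.elim
  have hinj := hU W'
  have hsub : Subsingleton Γ(X, W' ⊓ U) := by
    rw [hbot]; infer_instance
  have h10 : (1 : Γ(X, W')) = 0 := hinj (Subsingleton.elim _ _)
  have hW' : W' = ⊥ := by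
    have h1 : X.basicOpen (1 : Γ(X, W')) = W' := X.basicOpen_of_isUnit isUnit_one
    rw [h10, Scheme.basicOpen_zero] at h1
    exact h1.symm
  obtain ⟨y, hy⟩ := hWne
  have : y ∈ W' := hy
  rw [hW'] at this
  exact this.elim

/-- on a reduced scheme, a dense open is schematically dense -/
theorem isSchematicallyDense_of_dense [IsReduced X] {U : X.Opens} (hU : Dense (U : Set X)) :
    CInt.IsSchematicallyDense U := by
  intro V
  change ResInj U V
  rw [resInj_iff]
  intro a ha
  rw [← basicOpen_eq_bot_iff]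
  have h1 : X.basicOpen (X.presheaf.map (homOfLE (inf_le_left : V ⊓ U ≤ V)).op a) = ⊥ := by
    rw [ha, Scheme.basicOpen_zero]
  rw [Scheme.basicOpen_res] at h1
  by_contra hne
  have hne' : (X.basicOpen a : Set X).Nonempty := by
    rw [Set.nonempty_iff_ne_empty]
    intro h
    exact hne (TopologicalSpace.Opens.ext h)
  obtain ⟨y, hyU, hya⟩ := (hU.inter_open_nonempty _ (X.basicOpen a).2 hne').imp fun y hy => hy.symm
  have : y ∈ (V ⊓ U) ⊓ X.basicOpen a := ⟨⟨X.basicOpen_le a hya, hyU⟩, hya⟩
  rw [h1] at this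
  exact this.elim


/-- with locally finitely many irreducible components, a dense subset meets every irreducible
component. -/
theorem nonempty_inter_of_dense_of_locallyFinite {α : Type*} [TopologicalSpace α]
    (hfin : ∀ x : α, ∃ W : Set α, IsOpen W ∧ x ∈ W ∧
      {Z ∈ irreducibleComponents α | (Z ∩ W).Nonempty}.Finite)
    {V : Set α} (hVd : Dense V) {Z : Set α} (hZ : Z ∈ irreducibleComponents α) :
    (V ∩ Z).Nonempty := by
  obtain ⟨x, hx⟩ := hZ.1.1
  obtain ⟨W, hWo, hxW, hS⟩ := hfin x
  set S := {Z₁ ∈ irreducibleComponents α | (Z₁ ∩ W).Nonempty} with hSdef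
  have hZS : Z ∈ S := ⟨hZ, x, hx, hxW⟩
  let T := S \ {Z}
  have hTfin : T.Finite := hS.subset Set.sdiff_subset
  have hTsub : T ⊆ irreducibleComponents α := fun Z₁ h => h.1.1
  have hCclosed : IsClosed (⋃₀ T) := by
    rw [Set.sUnion_eq_biUnion]
    exact hTfin.isClosed_biUnion fun Z₁ h => isClosed_of_mem_irreducibleComponents _ (hTsub h)
  have hne : (W ∩ (⋃₀ T)ᶜ).Nonempty := by
    by_contra hempty
    rw [Set.not_nonempty_iff_eq_empty] at hempty
    have hWC : W ⊆ ⋃₀ T := by
      intro y hy
      by_contra hyC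
      have : y ∈ W ∩ (⋃₀ T)ᶜ := ⟨hy, hyC⟩
      rw [hempty] at this
      exact this
    have hZsub : Z ⊆ ⋃₀ T := by
      have h1 : Z ⊆ closure (Z ∩ W) :=
        subset_closure_inter_of_isPreirreducible_of_isOpen hZ.1.2 hWo ⟨x, hx, hxW⟩
      exact h1.trans (closure_minimal (Set.inter_subset_right.trans hWC) hCclosed)
    have := mem_of_subset_sUnion_irreducibleComponents Z hZ T hTfin hTsub hZsub
    exact this.2 rfl
  obtain ⟨v, hv, hvV⟩ := hVd.inter_open_nonempty _ (hWo.inter hCclosed.isOpen_compl) hne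
  refine ⟨v, hvV, ?_⟩
  have hZ1 := irreducibleComponent_mem_irreducibleComponents v
  have hZ1S : irreducibleComponent v ∈ S := ⟨hZ1, v, mem_irreducibleComponent, hv.1⟩
  by_contra hvZ
  apply hv.2
  refine ⟨irreducibleComponent v, ⟨hZ1S, ?_⟩, mem_irreducibleComponent⟩
  intro h
  have h' : irreducibleComponent v = Z := h
  exact hvZ (h' ▸ mem_irreducibleComponent)

theorem dense_preimage_of_dominate {α β : Type*} [TopologicalSpace α] [TopologicalSpace β]
    (f : β → α) (hf : Continuous f)
    (hfin : ∀ x : α, ∃ W : Set α, IsOpen W ∧ x ∈ W ∧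
      {Z ∈ irreducibleComponents α | (Z ∩ W).Nonempty}.Finite)
    (hdom : ∀ Z' ∈ irreducibleComponents β, closure (f '' Z') ∈ irreducibleComponents α)
    {V : Set α} (hVo : IsOpen V) (hVd : Dense V) : Dense (f ⁻¹' V) := by
  intro x'
  have hZ' := irreducibleComponent_mem_irreducibleComponents x'
  obtain ⟨v, hvV, hvZ⟩ := nonempty_inter_of_dense_of_locallyFinite hfin hVd (hdom _ hZ')
  obtain ⟨_, hwV, ⟨z', hz', rfl⟩⟩ := mem_closure_iff.mp hvZ V hVo hvV
  have h1 : irreducibleComponent x' ⊆ closure (irreducibleComponent x' ∩ f ⁻¹' V) :=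
    subset_closure_inter_of_isPreirreducible_of_isOpen hZ'.1.2 (hVo.preimage hf) ⟨z', hz', hwV⟩
  exact closure_mono Set.inter_subset_right (h1 mem_irreducibleComponent)

end Groth.Agent.Helper6
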