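import Groth.Prelude.Def_CAlgX
import Mathlib.RingTheory.Regular.RegularSequence
import Mathlib.RingTheory.MvPolynomial.Homogeneous
import Mathlib.Algebra.MvPolynomial.Division
import Mathlib.RingTheory.Polynomial.Basic

/-!
# Regular sequences are quasi-regular (helper6)
-/

set_option autoImplicit false
universe u

namespace Groth.Agent.Helper6.QReg

open MvPolynomial

variable {R : Type u} [CommRing R]

/-- quasi-regularity in degree `n`, ideal form. -/
def QRat {c : ℕ} (f : Fin c → R) (n : ℕ) : Prop :=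
  ∀ P : MvPolynomial (Fin c) R, P.IsHomogeneous n →
    eval f P ∈ Ideal.span (Set.range f) ^ (n + 1) → P ∈ Ideal.map C (Ideal.span (Set.range f))

/-- vanishing form of quasi-regularity in degree `n`. -/
def Zat {c : ℕ} (f : Fin c → R) (n : ℕ) : Prop :=
  ∀ P : MvPolynomial (Fin c) R, P.IsHomogeneous n → eval f P = 0 →
    P ∈ Ideal.map C (Ideal.span (Set.range f))

theorem isQuasiRegular_iff {c : ℕ} (f : Fin c → R) : CAlgX.IsQuasiRegular f ↔ ∀ n, QRat f n := by
  unfold CAlgX.IsQuasiRegular QRat
  simp only [mem_map_C_iff]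

theorem degree_of_mem_support {σ : Type*} {P : MvPolynomial σ R} {k : ℕ} (hP : P.IsHomogeneous k)
    {d : σ →₀ ℕ} (hd : d ∈ P.support) : d.degree = k := by
  have := hP (mem_support_iff.1 hd)
  rw [Finsupp.degree_eq_weight_one]
  exact this

theorem eval_mem_pow {c : ℕ} (f : Fin c → R) (k : ℕ) (P : MvPolynomial (Fin c) R)
    (hP : P.IsHomogeneous k) : eval f P ∈ Ideal.span (Set.range f) ^ k :=
  (Ideal.mem_span_pow_iff_exists_isHomogeneous f _).2 ⟨P, hP, rfl⟩

theorem eval_mem_pow_succ {c : ℕ} (f : Fin c → R) (k : ℕ) (P : MvPolynomial (Fin c) R)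
    (hP : P.IsHomogeneous k) (hc : P ∈ Ideal.map C (Ideal.span (Set.range f))) :
    eval f P ∈ Ideal.span (Set.range f) ^ (k + 1) := by
  rw [mem_map_C_iff] at hc
  rw [← P.support_sum_monomial_coeff, map_sum]
  refine Ideal.sum_mem _ fun d hd => ?_
  have h1 : eval f (monomial d (coeff d P)) = coeff d P * eval f (monomial d 1) := by
    simp [eval_monomial]
  rw [h1, pow_succ']
  refine Ideal.mul_mem_mul (hc d) ?_
  exact eval_mem_pow f k _ (isHomogeneous_monomial _ (degree_of_mem_support hP hd))

/-- elements of `J^(n+1)` are combinations of the generators with coefficients in `J^n`. -/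
theorem exists_sum_of_mem_pow_succ {c : ℕ} (f : Fin c → R) (n : ℕ) (x : R)
    (hx : x ∈ Ideal.span (Set.range f) ^ (n + 1)) :
    ∃ y : Fin c → R, (∀ i, y i ∈ Ideal.span (Set.range f) ^ n) ∧ x = ∑ i, f i * y i := by
  rw [pow_succ, ← smul_eq_mul] at hx
  obtain ⟨a, ha, rfl⟩ := (Submodule.mem_ideal_smul_span_iff_exists_sum _ f x).1 hx
  refine ⟨fun i => a i, ha, ?_⟩
  rw [Finsupp.sum_fintype a (fun i c => c • f i) (fun i => zero_smul _ _)]
  refine Finset.sum_congr rfl fun i _ => ?_
  rw [smul_eq_mul, mul_comm]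

theorem C_mem_map {c : ℕ} (f : Fin c → R) (i : Fin c) :
    (C (f i) : MvPolynomial (Fin c) R) ∈ Ideal.map C (Ideal.span (Set.range f)) :=
  Ideal.mem_map_of_mem _ (Ideal.subset_span ⟨i, rfl⟩)

theorem qrat_of_zat {c : ℕ} (f : Fin c → R) (n : ℕ) (h : Zat f n) : QRat f n := by
  intro P hP hev
  obtain ⟨y, hy, hxy⟩ := exists_sum_of_mem_pow_succ f n _ hev
  choose Q hQ hQe using fun i => (Ideal.mem_span_pow_iff_exists_isHomogeneous f (y i)).1 (hy i)
  have hS : (∑ i, C (f i) * Q i) ∈ Ideal.map C (Ideal.span (Set.range f)) :=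
    Ideal.sum_mem _ fun i _ => Ideal.mul_mem_right _ _ (C_mem_map f i)
  have hhom : (P - ∑ i, C (f i) * Q i).IsHomogeneous n :=
    hP.sub (IsHomogeneous.sum _ _ _ fun i _ => (hQ i).C_mul (f i))
  have hev0 : eval f (P - ∑ i, C (f i) * Q i) = 0 := by
    rw [map_sub, map_sum, hxy, sub_eq_zero]
    refine Finset.sum_congr rfl fun i _ => ?_
    rw [map_mul, eval_C, hQe]
  have := h _ hhom hev0
  have h2 := Ideal.add_mem _ this hS
  rwa [sub_add_cancel] at h2

/-- Matsumura 16.1: if `f` is quasi-regular and `a` is a non-zero-divisor modulo `J = (f)`, then `a` is a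
non-zero-divisor modulo every power of `J`. -/
theorem colon_pow {c : ℕ} (f : Fin c → R) (hq : ∀ n, QRat f n) (a : R)
    (ha : ∀ x, a * x ∈ Ideal.span (Set.range f) → x ∈ Ideal.span (Set.range f)) :
    ∀ (k : ℕ) (x : R), a * x ∈ Ideal.span (Set.range f) ^ k → x ∈ Ideal.span (Set.range f) ^ k := by
  intro k
  induction k with
  | zero => intro x _; rw [pow_zero, Ideal.one_eq_top]; trivial
  | succ k ih =>
    intro x hx
    have hxk : x ∈ Ideal.span (Set.range f) ^ k :=
      ih x (Ideal.pow_le_pow_right (Nat.le_succ k) hx)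
    obtain ⟨P, hP, rfl⟩ := (Ideal.mem_span_pow_iff_exists_isHomogeneous f x).1 hxk
    have h1 : C a * P ∈ Ideal.map C (Ideal.span (Set.range f)) := by
      refine hq k _ (hP.C_mul a) ?_
      rw [map_mul, eval_C]
      exact hx
    have h2 : P ∈ Ideal.map C (Ideal.span (Set.range f)) := by
      rw [mem_map_C_iff] at h1 ⊢
      intro d
      have := h1 d
      rw [coeff_C_mul] at this
      exact ha _ this
    exact eval_mem_pow_succ f k P hP h2


theorem rename_mem_map {σ τ : Type*} (k : σ → τ) {I I' : Ideal R} (hI : I ≤ I')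
    {P : MvPolynomial σ R} (hP : P ∈ Ideal.map C I) : rename k P ∈ Ideal.map C I' := by
  rw [mem_map_C_iff] at hP ⊢
  intro m
  classical
  rw [← P.support_sum_monomial_coeff, map_sum, coeff_sum]
  refine Ideal.sum_mem _ fun d _ => ?_
  rw [rename_monomial, coeff_monomial]
  split_ifs
  · exact hI (hP d)
  · exact Ideal.zero_mem _

section step

variable {c : ℕ} (f : Fin (c + 1) → R)

theorem span_init_le :
    Ideal.span (Set.range (f ∘ Fin.castSucc)) ≤ Ideal.span (Set.range f) :=
  Ideal.span_mono (by rintro _ ⟨i, rfl⟩; exact ⟨_, rfl⟩)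

theorem exists_decomp (F : MvPolynomial (Fin (c + 1)) R) (n : ℕ) (hF : F.IsHomogeneous (n + 1)) :
    ∃ (G : MvPolynomial (Fin c) R) (H : MvPolynomial (Fin (c + 1)) R),
      G.IsHomogeneous (n + 1) ∧ H.IsHomogeneous n ∧
        F = rename Fin.castSucc G + X (Fin.last c) * H := by
  classical
  set s : Fin (c + 1) →₀ ℕ := Finsupp.single (Fin.last c) 1 with hs
  have hs1 : Finsupp.weight (1 : Fin (c + 1) → ℕ) s = 1 := by
    rw [hs, Finsupp.weight_single]
    simp
  have hH : (F.divMonomial s).IsHomogeneous n := by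
    intro d hd
    rw [coeff_divMonomial] at hd
    have := hF hd
    rw [map_add, hs1] at this
    omega
  have hG' : (F.modMonomial s).IsHomogeneous (n + 1) := by
    intro d hd
    by_cases hle : s ≤ d
    · rw [coeff_modMonomial_of_le _ hle] at hd
      exact absurd rfl hd
    · rw [coeff_modMonomial_of_not_le _ hle] at hd
      exact hF hd
  have hvars : (↑(F.modMonomial s).vars : Set (Fin (c + 1))) ⊆ Set.range Fin.castSucc := by
    intro i hi
    rw [Finset.mem_coe, mem_vars_iff_mem_support] at hi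
    obtain ⟨d, hd, hid⟩ := hi
    have hnle : ¬ s ≤ d := by
      intro hle
      rw [mem_support_iff, coeff_modMonomial_of_le _ hle] at hd
      exact hd rfl
    have hil : i ≠ Fin.last c := by
      rintro rfl
      apply hnle
      rw [hs, Finsupp.single_le_iff]
      exact Nat.one_le_iff_ne_zero.2 (Finsupp.mem_support_iff.1 hid)
    exact Fin.exists_castSucc_eq.2 hil
  obtain ⟨G, hG⟩ := exists_rename_eq_of_vars_subset_range _ Fin.castSucc
    (Fin.castSucc_injective c) hvars
  refine ⟨G, F.divMonomial s, ?_, hH, ?_⟩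
  · rw [← IsHomogeneous.rename_isHomogeneous_iff (Fin.castSucc_injective c), hG]
    exact hG'
  · rw [hG]
    exact (modMonomial_add_divMonomial_single F (Fin.last c)).symm

theorem zat_step (hq' : ∀ n, QRat (f ∘ Fin.castSucc) n)
    (hreg : ∀ x, f (Fin.last c) * x ∈ Ideal.span (Set.range (f ∘ Fin.castSucc)) →
      x ∈ Ideal.span (Set.range (f ∘ Fin.castSucc))) : ∀ n, Zat f n := by
  intro n
  induction n with
  | zero =>
    intro F hF hev
    have hFC : F = C (coeff 0 F) :=
      totalDegree_eq_zero_iff_eq_C.1 ((totalDegree_zero_iff_isHomogeneous _).2 hF)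
    rw [hFC, eval_C] at hev
    rw [hFC, hev, C_0]
    exact Ideal.zero_mem _
  | succ n ih =>
    intro F hF hev
    obtain ⟨G, H, hG, hH, rfl⟩ := exists_decomp F n hF
    rw [map_add, eval_rename, map_mul, eval_X] at hev
    have h1 : f (Fin.last c) * eval f H ∈ Ideal.span (Set.range (f ∘ Fin.castSucc)) ^ (n + 1) := by
      have : f (Fin.last c) * eval f H = - eval (f ∘ Fin.castSucc) G := by
        linear_combination hev
      rw [this]
      exact neg_mem (eval_mem_pow _ _ _ hG)
    have h2 : eval f H ∈ Ideal.span (Set.range (f ∘ Fin.castSucc)) ^ (n + 1) :=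
      colon_pow _ hq' _ hreg (n + 1) _ h1
    have hHJ : H ∈ Ideal.map C (Ideal.span (Set.range f)) :=
      qrat_of_zat f n ih H hH (Ideal.pow_right_mono (span_init_le f) (n + 1) h2)
    obtain ⟨h, hh, hhe⟩ := (Ideal.mem_span_pow_iff_exists_isHomogeneous _ _).1 h2
    have hg : G + C (f (Fin.last c)) * h ∈
        Ideal.map C (Ideal.span (Set.range (f ∘ Fin.castSucc))) := by
      refine hq' (n + 1) _ (hG.add (hh.C_mul _)) ?_
      have : eval (f ∘ Fin.castSucc) (G + C (f (Fin.last c)) * h) = 0 := by
        rw [map_add, map_mul, eval_C, hhe]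
        exact hev
      rw [this]
      exact Ideal.zero_mem _
    have hG'' : rename Fin.castSucc G ∈ Ideal.map C (Ideal.span (Set.range f)) := by
      have e : rename Fin.castSucc G = rename Fin.castSucc (G + C (f (Fin.last c)) * h) -
          C (f (Fin.last c)) * rename Fin.castSucc h := by
        rw [map_add, map_mul, rename_C]
        ring
      rw [e]
      exact Ideal.sub_mem _ (rename_mem_map _ (span_init_le f) hg)
        (Ideal.mul_mem_right _ _ (C_mem_map f (Fin.last c)))
    exact Ideal.add_mem _ hG'' (Ideal.mul_mem_left _ _ hHJ)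

end step

theorem qrat_of_isWeaklyRegular : ∀ (c : ℕ) (f : Fin c → R),
    RingTheory.Sequence.IsWeaklyRegular R (List.ofFn f) → ∀ n, QRat f n := by
  intro c
  induction c with
  | zero =>
    intro f _ n P hP hev
    have hPC : P = C (coeff 0 P) := eq_C_of_isEmpty P
    have hJ : Ideal.span (Set.range f) = ⊥ := by
      rw [Set.range_eq_empty, Ideal.span_empty]
    rw [hPC, eval_C, hJ, Ideal.bot_pow (Nat.succ_ne_zero n), Ideal.mem_bot] at hev
    rw [hPC, hev, C_0]
    exact Ideal.zero_mem _
  | succ c ih =>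
    intro f hf n
    rw [List.ofFn_succ_last, RingTheory.Sequence.isWeaklyRegular_append_iff] at hf
    obtain ⟨hf1, hf2⟩ := hf
    rw [RingTheory.Sequence.isWeaklyRegular_singleton_iff] at hf2
    have hq' : ∀ n, QRat (f ∘ Fin.castSucc) n := ih _ hf1
    have hofList : Ideal.ofList (List.ofFn fun i : Fin c => f i.castSucc) =
        Ideal.span (Set.range (f ∘ Fin.castSucc)) := by
      unfold Ideal.ofList
      congr 1
      ext x
      simp [List.mem_ofFn]
    have hreg : ∀ x, f (Fin.last c) * x ∈ Ideal.span (Set.range (f ∘ Fin.castSucc)) →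
        x ∈ Ideal.span (Set.range (f ∘ Fin.castSucc)) := by
      intro x hx
      have htop : (Ideal.ofList (List.ofFn fun i : Fin c => f i.castSucc) • (⊤ : Submodule R R)) =
          Ideal.span (Set.range (f ∘ Fin.castSucc)) := by
        rw [hofList, smul_eq_mul, Ideal.mul_top]
      have h0 : f (Fin.last c) • (Submodule.Quotient.mk x :
          R ⧸ (Ideal.ofList (List.ofFn fun i : Fin c => f i.castSucc) • (⊤ : Submodule R R))) =
            f (Fin.last c) • 0 := by
        rw [smul_zero, ← Submodule.Quotient.mk_smul, Submodule.Quotient.mk_eq_zero, htop, smul_eq_mul]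
        exact hx
      have h3 := hf2 h0
      rw [Submodule.Quotient.mk_eq_zero, htop] at h3
      exact h3
    exact qrat_of_zat f n (zat_step f hq' hreg n)

/-- A weakly regular sequence in a ring is quasi-regular. -/
theorem isQuasiRegular_of_isWeaklyRegular {c : ℕ} (f : Fin c → R)
    (hf : RingTheory.Sequence.IsWeaklyRegular R (List.ofFn f)) : CAlgX.IsQuasiRegular f :=
  (isQuasiRegular_iff f).2 (qrat_of_isWeaklyRegular c f hf)

end Groth.Agent.Helper6.QReg
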