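import Mathlib
import Groth.Prelude.Def_CAlgX

set_option autoImplicit false
universe u
open MvPolynomial

namespace Groth.Agent.Helper6.QRegGen

variable {A : Type u} [CommRing A]

theorem exists_coeffs {n : ℕ} (f : Fin n → A) {x : A} (hx : x ∈ Ideal.span (Set.range f)) :
    ∃ c : Fin n → A, x = ∑ j, c j * f j := by
  rw [Ideal.mem_span_range_iff_exists_fun] at hx
  obtain ⟨c, hc⟩ := hx
  exact ⟨c, hc.symm⟩

/-- degree-one part of quasi-regularity -/
theorem lin_indep_mod {n : ℕ} (f : Fin n → A) (hf : CAlgX.IsQuasiRegular f) (c : Fin n → A)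
    (hc : ∑ j, c j * f j ∈ Ideal.span (Set.range f) ^ 2) (j : Fin n) :
    c j ∈ Ideal.span (Set.range f) := by
  classical
  have hh : (∑ j, C (c j) * X j : MvPolynomial (Fin n) A).IsHomogeneous 1 := by
    apply IsHomogeneous.sum
    intro i _
    simpa using (isHomogeneous_C (Fin n) (c i)).mul (isHomogeneous_X A i)
  have := hf 1 (∑ j, C (c j) * X j) hh (by simpa using hc) (Finsupp.single j 1)
  simpa [coeff_sum, coeff_C_mul, coeff_X, Finsupp.single_left_inj] using this

theorem isQuasiRegular_of_span_eq {n : ℕ} (f f' : Fin n → A)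
    (hf : CAlgX.IsQuasiRegular f) (h : Ideal.span (Set.range f') = Ideal.span (Set.range f)) :
    CAlgX.IsQuasiRegular f' := by
  classical
  have ha : ∀ i, ∃ a : Fin n → A, f' i = ∑ j, a j * f j := fun i =>
    exists_coeffs f (h ▸ Ideal.subset_span ⟨i, rfl⟩)
  choose a ha using ha
  have hb : ∀ j, ∃ b : Fin n → A, f j = ∑ k, b k * f' k := fun j =>
    exists_coeffs f' (h.symm ▸ Ideal.subset_span ⟨j, rfl⟩)
  choose b hb using hb
  -- (b a - 1) kills f modulo I²
  have hba : ∀ j l, (∑ k, b j k * a k l) - (if j = l then 1 else 0) ∈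
      Ideal.span (Set.range f) := by
    intro j l
    refine lin_indep_mod f hf (fun l => (∑ k, b j k * a k l) - (if j = l then 1 else 0)) ?_ l
    have : ∑ l, ((∑ k, b j k * a k l) - (if j = l then 1 else 0)) * f l = 0 := by
      simp only [sub_mul, Finset.sum_sub_distrib, ite_mul, one_mul, zero_mul,
        Finset.sum_ite_eq, Finset.mem_univ, if_true]
      rw [sub_eq_zero]
      conv_rhs => rw [hb j]
      simp only [ha, Finset.mul_sum, Finset.sum_mul]
      rw [Finset.sum_comm]
      refine Finset.sum_congr rfl (fun k _ => Finset.sum_congr rfl (fun l _ => ?_))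
      ring
    rw [this]
    exact zero_mem _
  have hab : ∀ i k, (∑ j, a i j * b j k) - (if i = k then 1 else 0) ∈
      Ideal.span (Set.range f) := by
    let Ma : Matrix (Fin n) (Fin n) (A ⧸ Ideal.span (Set.range f)) :=
      Matrix.of fun i j => Ideal.Quotient.mk _ (a i j)
    let Mb : Matrix (Fin n) (Fin n) (A ⧸ Ideal.span (Set.range f)) :=
      Matrix.of fun i j => Ideal.Quotient.mk _ (b i j)
    have h1 : Mb * Ma = 1 := by
      ext j l
      rw [Matrix.mul_apply, Matrix.one_apply]
      have := hba j l
      rw [← Ideal.Quotient.eq_zero_iff_mem, map_sub, sub_eq_zero] at this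
      simp only [Ma, Mb, Matrix.of_apply]
      simp only [map_sum, map_mul] at this
      rw [this]
      split_ifs <;> simp
    have h2 : Ma * Mb = 1 := mul_eq_one_comm.1 h1
    intro i k
    have h3 := congrFun (congrFun h2 i) k
    rw [Matrix.mul_apply, Matrix.one_apply] at h3
    simp only [Ma, Mb, Matrix.of_apply] at h3
    rw [← Ideal.Quotient.eq_zero_iff_mem, map_sub, sub_eq_zero]
    simp only [map_sum, map_mul]
    rw [h3]
    split_ifs <;> simp
  intro k P hP hPev d
  have hL : ∀ i, (∑ j, C (a i j) * X j : MvPolynomial (Fin n) A).IsHomogeneous 1 := by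
    intro i
    apply IsHomogeneous.sum
    intro j _
    simpa using (isHomogeneous_C (Fin n) (a i j)).mul (isHomogeneous_X A j)
  have hQh : (bind₁ (fun i => ∑ j, C (a i j) * X j) P).IsHomogeneous k := by
    have := hP.aeval (fun i => (∑ j, C (a i j) * X j : MvPolynomial (Fin n) A)) hL
    rwa [one_mul] at this
  have hQev : eval f (bind₁ (fun i => ∑ j, C (a i j) * X j) P) = eval f' P := by
    have e1 : ∀ Q : MvPolynomial (Fin n) A, eval f Q = aeval f Q := fun Q => by
      rw [aeval_eq_eval₂Hom]; rfl
    rw [e1, aeval_bind₁]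
    have e2 : (fun i => aeval f (∑ j, C (a i j) * X j : MvPolynomial (Fin n) A)) = f' := by
      funext i
      rw [ha i]
      simp
    rw [e2]
    rw [aeval_eq_eval₂Hom]; rfl
  have hQc := hf k _ hQh (by rw [hQev, ← h]; exact hPev)
  have hQ0 : map (Ideal.Quotient.mk (Ideal.span (Set.range f)))
      (bind₁ (fun i => ∑ j, C (a i j) * X j) P) = 0 := by
    ext d
    rw [coeff_map, coeff_zero, Ideal.Quotient.eq_zero_iff_mem]
    exact hQc d
  have key : map (Ideal.Quotient.mk (Ideal.span (Set.range f))) P =
      bind₁ (fun j => map (Ideal.Quotient.mk (Ideal.span (Set.range f)))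
        (∑ k, C (b j k) * X k : MvPolynomial (Fin n) A))
        (map (Ideal.Quotient.mk (Ideal.span (Set.range f)))
          (bind₁ (fun i => ∑ j, C (a i j) * X j) P)) := by
    rw [map_bind₁, bind₁_bind₁]
    have e3 : (fun i => bind₁ (fun j => map (Ideal.Quotient.mk (Ideal.span (Set.range f)))
        (∑ k, C (b j k) * X k : MvPolynomial (Fin n) A))
        (map (Ideal.Quotient.mk (Ideal.span (Set.range f)))
          (∑ j, C (a i j) * X j : MvPolynomial (Fin n) A))) = X := by
      funext i
      simp only [map_sum, map_mul, map_C, map_X, bind₁_C_right, bind₁_X_right]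
      simp only [Finset.mul_sum]
      rw [Finset.sum_comm]
      have e4 : ∀ k, ∑ x, C ((Ideal.Quotient.mk (Ideal.span (Set.range f))) (a i x)) *
          (C ((Ideal.Quotient.mk (Ideal.span (Set.range f))) (b x k)) * X k) =
          C (if i = k then 1 else 0) * (X k : MvPolynomial (Fin n) (A ⧸ Ideal.span (Set.range f))) := by
        intro k
        simp only [← mul_assoc, ← C_mul, ← Finset.sum_mul, ← map_sum, ← map_mul]
        congr 2
        have h5 := hab i k
        rw [← Ideal.Quotient.eq_zero_iff_mem, map_sub, sub_eq_zero] at h5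
        rw [h5]
        split_ifs <;> simp
      simp only [e4]
      simp
    rw [e3, bind₁_X_left]
    rfl
  have hP0 : map (Ideal.Quotient.mk (Ideal.span (Set.range f))) P = 0 := by
    rw [key, hQ0, map_zero]
  have h4 := congrArg (coeff d) hP0
  rw [coeff_map, coeff_zero, Ideal.Quotient.eq_zero_iff_mem] at h4
  rw [h]
  exact h4

end Groth.Agent.Helper6.QRegGen
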