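import Mathlib
import Groth.Prelude.Def_LCI2
import Groth.Prelude.Def_ega3
import Groth.Agent.Lib.Helper2.KosIdeal

/-!
# Base change of Koszul-regular sequences / ideals with flat quotient

If `B` is a flat `A`-algebra, `xs` is a Koszul-regular sequence in `B` and `B/(xs)` is flat over
`A`, then for every `A`-module `N` the Koszul complex of `xs` on `B ⊗[A] N` is acyclic off degree
zero.  Consequently Koszul-regular ideals with `A`-flat quotient stay Koszul-regular after an
arbitrary base change `A → A'`.
-/

set_option autoImplicit false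
set_option linter.style.haveILetI false
set_option linter.unusedSectionVars false
universe u

namespace Groth.Agent.Helper6.LciBC

open TensorProduct Groth.Agent.Helper21.KL Groth.Agent.Helper2.KosReg
  Groth.Agent.Helper2.KosIdeal

section Tor

variable {A B : Type u} [CommRing A] [CommRing B] [Algebra A B]

theorem acycAt_of_flat (xs : List B) (hK : ∀ i : ℤ, i ≠ 0 → AcycAt xs B i)
    (F : Type u) [AddCommGroup F] [Module B F] [Module.Flat B F] (i : ℤ) (hi : i ≠ 0) :
    AcycAt xs F i :=
  Groth.Agent.Helper21.KL.AcycAt.of_linearEquiv (TensorProduct.rid B F)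
    (Groth.Agent.Helper2.KosReg.AcycAt.tensor_flat xs (hK i hi) F)

section SES

variable [Module.Flat A B] {N' N N'' : Type u} [AddCommGroup N'] [Module A N'] [AddCommGroup N]
  [Module A N] [AddCommGroup N''] [Module A N''] (ι : N' →ₗ[A] N) (p : N →ₗ[A] N'')
  (hι : Function.Injective ι) (hp : Function.Surjective p) (hex : Function.Exact ι p)
  (xs : List B)

include hι hp hex in
theorem acycAt_top [Module.Flat A (B ⧸ Ideal.ofList xs)]
    (h : AcycAt xs (B ⊗[A] N) (-1)) : AcycAt xs (B ⊗[A] N'') (-1) := by
  refine Groth.Agent.Helper21.KL.AcycAt.shift_top xs (ι.baseChange B) (p.baseChange B)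
    (baseChange_injective ι hι) (baseChange_surjective p hp) (baseChange_exact ι p hp hex) h ?_
  rw [injective_homologyMap_kMap_iff]
  intro m hm
  have hm' : ι.lTensor B m ∈ Ideal.ofList xs • (⊤ : Submodule B (B ⊗[A] N)) := hm
  have h1 := (mem_smul_top_iff (Ideal.ofList xs) N _).mp hm'
  rw [rTensor_lTensor] at h1
  have hinj : Function.Injective (ι.lTensor (B ⧸ Ideal.ofList xs)) :=
    Module.Flat.lTensor_preserves_injective_linearMap ι hι
  have h2 : (mkA (A := A) (Ideal.ofList xs)).rTensor N' m = 0 := hinj (by rw [h1, map_zero])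
  exact (mem_smul_top_iff (Ideal.ofList xs) N' m).mpr h2

include hι hp hex in
theorem acycAt_shift {i j : ℤ} (hij : i + 1 = j) (h : AcycAt xs (B ⊗[A] N) i)
    (h' : AcycAt xs (B ⊗[A] N') j) : AcycAt xs (B ⊗[A] N'') i :=
  Groth.Agent.Helper21.KL.AcycAt.shift xs (ι.baseChange B) (p.baseChange B)
    (baseChange_injective ι hι) (baseChange_surjective p hp) (baseChange_exact ι p hp hex)
    hij h h'

end SES

section Main

variable [Module.Flat A B] (xs : List B) (hK : ∀ i : ℤ, i ≠ 0 → AcycAt xs B i)
  [Module.Flat A (B ⧸ Ideal.ofList xs)]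

include hK in
theorem acycAt_neg : ∀ (m : ℕ) (N : Type u) [AddCommGroup N] [Module A N],
    AcycAt xs (B ⊗[A] N) (-(m : ℤ) - 1) := by
  intro m
  induction m with
  | zero =>
    intro N _ _
    have hF : AcycAt xs (B ⊗[A] (N →₀ A)) (-1) :=
      acycAt_of_flat xs hK (B ⊗[A] (N →₀ A)) (-1) (by norm_num)
    let p : (N →₀ A) →ₗ[A] N := Finsupp.linearCombination A (id : N → N)
    let ι : ↥(LinearMap.ker p) →ₗ[A] (N →₀ A) := (LinearMap.ker p).subtype
    have h := acycAt_top (N' := ↥(LinearMap.ker p)) (N := N →₀ A) (N'' := N) ι p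
      (Submodule.injective_subtype _)
      (Finsupp.linearCombination_id_surjective A N)
      (LinearMap.exact_subtype_ker_map p) xs hF
    have e : (-((0 : ℕ) : ℤ) - 1) = -1 := by norm_num
    rw [e]
    exact h
  | succ m ih =>
    intro N _ _
    have hi : (-((m + 1 : ℕ) : ℤ) - 1) ≠ 0 := by omega
    have hF : AcycAt xs (B ⊗[A] (N →₀ A)) (-((m + 1 : ℕ) : ℤ) - 1) :=
      acycAt_of_flat xs hK (B ⊗[A] (N →₀ A)) _ hi
    let p : (N →₀ A) →ₗ[A] N := Finsupp.linearCombination A (id : N → N)
    let ι : ↥(LinearMap.ker p) →ₗ[A] (N →₀ A) := (LinearMap.ker p).subtype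
    have hij : (-((m + 1 : ℕ) : ℤ) - 1) + 1 = -(m : ℤ) - 1 := by push_cast; ring
    have ih' : AcycAt xs (B ⊗[A] ↥(LinearMap.ker p)) (-(m : ℤ) - 1) := ih ↥(LinearMap.ker p)
    exact acycAt_shift (N' := ↥(LinearMap.ker p)) (N := N →₀ A) (N'' := N) ι p
      (Submodule.injective_subtype _)
      (Finsupp.linearCombination_id_surjective A N)
      (LinearMap.exact_subtype_ker_map p) xs hij hF ih'

include hK in
theorem acycAt_tensor (N : Type u) [AddCommGroup N] [Module A N] (i : ℤ) (hi : i ≠ 0) :
    AcycAt xs (B ⊗[A] N) i := by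
  rcases lt_trichotomy i 0 with h | h | h
  · obtain ⟨m, rfl⟩ : ∃ m : ℕ, i = -(m : ℤ) - 1 :=
      ⟨(-i - 1).toNat, by have := Int.toNat_of_nonneg (show 0 ≤ -i - 1 by omega); omega⟩
    exact acycAt_neg xs hK m N
  · exact absurd h hi
  · exact Groth.Agent.Helper21.KL.AcycAt.of_pos xs _ i h

end Main

/-- Koszul-regular sequences with flat quotient stay Koszul-regular after base change. -/
theorem krSeq_tensor [Module.Flat A B] (xs : List B) (hxs : LCI.IsKoszulRegularSeq B xs)
    [Module.Flat A (B ⧸ Ideal.ofList xs)] (A' : Type u) [CommRing A'] [Algebra A A'] :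
    LCI.IsKoszulRegularSeq (B ⊗[A] A')
      (xs.map (Algebra.TensorProduct.includeLeftRingHom : B →+* B ⊗[A] A')) := by
  rw [isKoszulRegularSeq_iff] at hxs ⊢
  intro i hi
  refine (acycAt_restrict_iff (Algebra.TensorProduct.includeLeftRingHom : B →+* B ⊗[A] A')
    (B ⊗[A] A') ?_ xs i).mpr (acycAt_tensor xs hxs A' i hi)
  intro b m
  show b • m = (b ⊗ₜ[A] (1 : A')) * m
  induction m using TensorProduct.induction_on with
  | zero => rw [smul_zero, mul_zero]
  | tmul x a =>
    rw [TensorProduct.smul_tmul', Algebra.TensorProduct.tmul_mul_tmul, one_mul, smul_eq_mul]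
  | add x y hx hy => rw [smul_add, mul_add, hx, hy]

end Tor

section Ideal

variable {A P : Type u} [CommRing A] [CommRing P] [Algebra A P] [Module.Flat A P]

theorem flat_away_quot (I : Ideal P) [Module.Flat A (P ⧸ I)] (g : P) :
    Module.Flat A (Localization.Away g ⧸ I.map (algebraMap P (Localization.Away g))) := by
  haveI : IsScalarTower A (P ⧸ I)
      (Localization.Away g ⧸ I.map (algebraMap P (Localization.Away g))) :=
    IsScalarTower.of_algebraMap_eq (fun a => by
      show Ideal.Quotient.mk _ (algebraMap A (Localization.Away g) a) =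
        Ideal.Quotient.mk _ (algebraMap P (Localization.Away g) (algebraMap A P a))
      rw [← IsScalarTower.algebraMap_apply A P (Localization.Away g)])
  haveI : Module.Flat (P ⧸ I)
      (Localization.Away g ⧸ I.map (algebraMap P (Localization.Away g))) :=
    IsLocalization.flat _ (Algebra.algebraMapSubmonoid (P ⧸ I) (Submonoid.powers g))
  exact Module.Flat.trans A (P ⧸ I) _

/-- Koszul-regular ideals with flat quotient stay Koszul-regular after base change. -/
theorem kr_tensor (I : Ideal P) (hI : LCI.IsKoszulRegularIdeal I) [Module.Flat A (P ⧸ I)]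
    (A' : Type u) [CommRing A'] [Algebra A A'] :
    LCI.IsKoszulRegularIdeal
      (I.map (Algebra.TensorProduct.includeLeftRingHom : P →+* P ⊗[A] A')) := by
  intro 𝔮' hI'
  have hle : I ≤ 𝔮'.asIdeal.comap
      (Algebra.TensorProduct.includeLeftRingHom : P →+* P ⊗[A] A') :=
    Ideal.map_le_iff_le_comap.mp hI'
  obtain ⟨g, hg, l, hl, hIl⟩ := hI ⟨𝔮'.asIdeal.comap _, inferInstance⟩ hle
  haveI : Module.Flat P (Localization.Away g) :=
    IsLocalization.flat (Localization.Away g) (Submonoid.powers g)
  haveI : Module.Flat A (Localization.Away g) := Module.Flat.trans A P (Localization.Away g)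
  haveI hfl : Module.Flat A (Localization.Away g ⧸ Ideal.ofList l) := by
    have hJ : Ideal.ofList l = I.map (algebraMap P (Localization.Away g)) := hIl.symm
    rw [hJ]
    exact flat_away_quot I g
  have hl' := krSeq_tensor (A := A) l hl A'
  letI algPQ : Algebra (P ⊗[A] A') (Localization.Away g ⊗[A] A') :=
    (Algebra.TensorProduct.map (IsScalarTower.toAlgHom A P (Localization.Away g))
      (AlgHom.id A A')).toRingHom.toAlgebra
  haveI : IsScalarTower P (P ⊗[A] A') (Localization.Away g ⊗[A] A') :=
    .of_algebraMap_eq <| by intro; simp [RingHom.algebraMap_toAlgebra]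
  have hloc := IsLocalization.tensorProduct_tensorProduct A A' (Submonoid.powers g)
    (Localization.Away g) (by ext; simp [RingHom.algebraMap_toAlgebra])
  rw [Algebra.algebraMapSubmonoid_powers] at hloc
  have hg' : algebraMap P (P ⊗[A] A') g =
      (Algebra.TensorProduct.includeLeftRingHom : P →+* P ⊗[A] A') g := rfl
  rw [hg'] at hloc
  haveI : IsLocalization.Away
      ((Algebra.TensorProduct.includeLeftRingHom : P →+* P ⊗[A] A') g)
      (Localization.Away g ⊗[A] A') := hloc
  refine ⟨(Algebra.TensorProduct.includeLeftRingHom : P →+* P ⊗[A] A') g, hg, ?_⟩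
  let e : Localization.Away ((Algebra.TensorProduct.includeLeftRingHom : P →+* P ⊗[A] A') g)
      ≃ₐ[P ⊗[A] A'] Localization.Away g ⊗[A] A' :=
    IsLocalization.algEquiv
      (Submonoid.powers ((Algebra.TensorProduct.includeLeftRingHom : P →+* P ⊗[A] A') g)) _ _
  refine ⟨(l.map (Algebra.TensorProduct.includeLeftRingHom :
      Localization.Away g →+* Localization.Away g ⊗[A] A')).map e.symm.toRingEquiv,
    isKoszulRegularSeq_ringEquiv e.symm.toRingEquiv _ hl', ?_⟩
  have h1 : (algebraMap (P ⊗[A] A') (Localization.Away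
      ((Algebra.TensorProduct.includeLeftRingHom : P →+* P ⊗[A] A') g))).comp
        (Algebra.TensorProduct.includeLeftRingHom : P →+* P ⊗[A] A') =
      (e.symm.toRingEquiv : Localization.Away g ⊗[A] A' →+* _).comp
        ((Algebra.TensorProduct.includeLeftRingHom :
          Localization.Away g →+* Localization.Away g ⊗[A] A').comp
          (algebraMap P (Localization.Away g))) := by
    ext x
    simp only [RingHom.comp_apply]
    have h2 : (Algebra.TensorProduct.includeLeftRingHom :
        Localization.Away g →+* Localization.Away g ⊗[A] A')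
          (algebraMap P (Localization.Away g) x) =
        algebraMap (P ⊗[A] A') (Localization.Away g ⊗[A] A')
          ((Algebra.TensorProduct.includeLeftRingHom : P →+* P ⊗[A] A') x) := by
      simp [RingHom.algebraMap_toAlgebra]
    rw [h2]
    exact (e.symm.commutes _).symm
  rw [Ideal.map_map, h1, ← Ideal.map_map, ← Ideal.map_map, hIl, Ideal.map_span, Ideal.map_span]
  congr 1
  rw [image_list, image_list]
  rfl

end Ideal

end Groth.Agent.Helper6.LciBC
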