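import Mathlib
import Groth.Prelude.Def_CotT2
import Groth.Agent.Lib.Helper18.CotT.Exact

/-!
# Nine-term sequence of cotangent functors: general helpers (helper6)
-/

set_option autoImplicit false

open TensorProduct CotT

noncomputable section

namespace Groth.Agent.Helper6.CotT9

universe u

section General

/-- Factor a linear map through a surjection. -/
def factorThru {R X Y Z : Type*} [Ring R] [AddCommGroup X] [AddCommGroup Y] [AddCommGroup Z]
    [Module R X] [Module R Y] [Module R Z] (p : X →ₗ[R] Y) (hp : Function.Surjective p)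
    (φ : X →ₗ[R] Z) (h : LinearMap.ker p ≤ LinearMap.ker φ) : Y →ₗ[R] Z :=
  ((LinearMap.ker p).liftQ φ h).comp (p.quotKerEquivOfSurjective hp).symm.toLinearMap

lemma factorThru_apply {R X Y Z : Type*} [Ring R] [AddCommGroup X] [AddCommGroup Y]
    [AddCommGroup Z] [Module R X] [Module R Y] [Module R Z] (p : X →ₗ[R] Y)
    (hp : Function.Surjective p) (φ : X →ₗ[R] Z) (h : LinearMap.ker p ≤ LinearMap.ker φ) (x : X) :
    factorThru p hp φ h (p x) = φ x := by
  simp only [factorThru, LinearMap.coe_comp, LinearEquiv.coe_coe, Function.comp_apply,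
    LinearMap.quotKerEquivOfSurjective_symm_apply, Submodule.liftQ_apply]

theorem eq_zero_of_one_tmul_eq_zero {R B N : Type*} [CommRing R] [CommRing B] [Algebra R B]
    [AddCommGroup N] [Module R N]
    (hsurj : Function.Surjective (algebraMap R B))
    (hIN : ∀ r : R, algebraMap R B r = 0 → ∀ n : N, r • n = 0)
    (n : N) (h : (1 : B) ⊗ₜ[R] n = 0) : n = 0 := by
  have hs : Function.Surjective (Algebra.linearMap R B) := hsurj
  let e := (Algebra.linearMap R B).quotKerEquivOfSurjective hs
  let μ' : R →ₗ[R] (N →ₗ[R] N) := LinearMap.lsmul R N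
  have hker : LinearMap.ker (Algebra.linearMap R B) ≤ LinearMap.ker μ' := by
    intro r hr
    rw [LinearMap.mem_ker] at hr ⊢
    ext n'
    exact hIN r hr n'
  let μ : B →ₗ[R] (N →ₗ[R] N) :=
    ((LinearMap.ker (Algebra.linearMap R B)).liftQ μ' hker).comp e.symm.toLinearMap
  have h1 : TensorProduct.lift μ ((1 : B) ⊗ₜ n) = n := by
    rw [TensorProduct.lift.tmul]
    have he : e.symm 1 = Submodule.Quotient.mk 1 := by
      have h2 : e (Submodule.Quotient.mk 1) = 1 := by
        show (Algebra.linearMap R B) 1 = 1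
        simp
      rw [← h2, LinearEquiv.symm_apply_apply]
    show ((LinearMap.ker (Algebra.linearMap R B)).liftQ μ' hker (e.symm 1)) n = n
    rw [he, Submodule.liftQ_apply]
    simp [μ']
  rw [← h1, h, map_zero]

end General

section L2

variable {A B ι σ : Type u} [CommRing A] [CommRing B] [Algebra A B]
variable (P : Algebra.Presentation A B ι σ)

lemma algebraMap_surj : Function.Surjective (algebraMap P.toExtension.Ring B) :=
  P.algebraMap_surjective

lemma algebraMap_smul_one_tmul {N : Type*} [AddCommGroup N] [Module P.toExtension.Ring N]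
    (r : P.toExtension.Ring) (x : N) :
    algebraMap P.toExtension.Ring B r • ((1 : B) ⊗ₜ[P.toExtension.Ring] x) =
      (1 : B) ⊗ₜ (r • x) := by
  have h1 : (1 : B) ⊗ₜ[P.toExtension.Ring] (r • x) = (r • (1 : B)) ⊗ₜ x :=
    (TensorProduct.smul_tmul r (1 : B) x).symm
  rw [h1, TensorProduct.smul_tmul', smul_eq_mul, Algebra.smul_def]

lemma exists_mk_one_tmul (z : L2 P) :
    ∃ q : relKer P, z = Submodule.Quotient.mk ((1 : B) ⊗ₜ[P.toExtension.Ring] q) := by
  obtain ⟨x, rfl⟩ := Submodule.Quotient.mk_surjective _ z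
  induction x using TensorProduct.induction_on with
  | zero => exact ⟨0, by rw [TensorProduct.tmul_zero]⟩
  | tmul b q =>
    obtain ⟨r, rfl⟩ := algebraMap_surj P b
    refine ⟨r • q, ?_⟩
    rw [← algebraMap_smul_one_tmul P r q, TensorProduct.smul_tmul', smul_eq_mul, mul_one]
  | add x y hx hy =>
    obtain ⟨q, hq⟩ := hx
    obtain ⟨q', hq'⟩ := hy
    exact ⟨q + q', by
      rw [Submodule.Quotient.mk_add, hq, hq', TensorProduct.tmul_add, Submodule.Quotient.mk_add]⟩

lemma smul_mem_trivRel (r : P.toExtension.Ring) (hr : algebraMap P.toExtension.Ring B r = 0)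
    (q : relKer P) : r • (q : relMod P) ∈ trivRel P := by
  have hr' : r ∈ LinearMap.range (jmap P) := by
    rw [range_jmap]
    exact hr
  obtain ⟨f, rfl⟩ := hr'
  have hq : jmap P (q : relMod P) = 0 := q.2
  have : jmap P f • (q : relMod P) = jmap P f • (q : relMod P) - jmap P (q : relMod P) • f := by
    rw [hq, zero_smul, sub_zero]
  rw [this]
  exact Submodule.subset_span ⟨f, q, rfl⟩

lemma mk_one_tmul_eq_zero_of_mem (q : relKer P) (hq : (q : relMod P) ∈ trivRel P) :
    (Submodule.Quotient.mk ((1 : B) ⊗ₜ[P.toExtension.Ring] q) : L2 P) = 0 := by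
  rw [Submodule.Quotient.mk_eq_zero]
  exact ⟨(1 : B) ⊗ₜ ⟨q, hq⟩, by rw [LinearMap.baseChange_tmul]; rfl⟩

lemma mem_trivRel_of_mk_eq_zero (q : relKer P)
    (h : (Submodule.Quotient.mk ((1 : B) ⊗ₜ[P.toExtension.Ring] q) : L2 P) = 0) :
    (q : relMod P) ∈ trivRel P := by
  rw [Submodule.Quotient.mk_eq_zero] at h
  obtain ⟨y, hy⟩ := h
  let g : relKer P →ₗ[P.toExtension.Ring] (relMod P ⧸ trivRel P) :=
    (Submodule.mkQ (trivRel P)).comp (relKer P).subtype
  let g' : relKer P →ₗ[P.toExtension.Ring] LinearMap.range g := g.rangeRestrict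
  have hp : (LinearMap.baseChange (R := P.toExtension.Ring) B g') ((1 : B) ⊗ₜ q) = 0 := by
    rw [← hy]
    clear hy
    induction y using TensorProduct.induction_on with
    | zero => simp
    | tmul b k =>
      rw [LinearMap.baseChange_tmul, LinearMap.baseChange_tmul, Submodule.coe_subtype]
      have : g' (k : relKer P) = 0 := by
        apply Subtype.ext
        show Submodule.mkQ (trivRel P) ((k : relKer P) : relMod P) = 0
        exact (Submodule.Quotient.mk_eq_zero _).2 k.2
      rw [this, TensorProduct.tmul_zero]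
    | add x y hx hy => rw [map_add, map_add, hx, hy, add_zero]
  rw [LinearMap.baseChange_tmul] at hp
  have h0 : g' q = 0 :=
    eq_zero_of_one_tmul_eq_zero (N := LinearMap.range g) (algebraMap_surj P) (by
      rintro r hr ⟨n, q', rfl⟩
      apply Subtype.ext
      show r • g q' = 0
      rw [← map_smul]
      show Submodule.mkQ (trivRel P) ((r • q' : relKer P) : relMod P) = 0
      exact (Submodule.Quotient.mk_eq_zero _).2 (smul_mem_trivRel P r hr q')) _ hp
  have h1 : Submodule.mkQ (trivRel P) (q : relMod P) = 0 := congrArg Subtype.val h0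
  exact (Submodule.Quotient.mk_eq_zero _).1 h1

lemma mk_one_tmul_eq_zero_iff (q : relKer P) :
    (Submodule.Quotient.mk ((1 : B) ⊗ₜ[P.toExtension.Ring] q) : L2 P) = 0 ↔
      (q : relMod P) ∈ trivRel P :=
  ⟨mem_trivRel_of_mk_eq_zero P q, mk_one_tmul_eq_zero_of_mem P q⟩

end L2

end Groth.Agent.Helper6.CotT9

end
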