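import Mathlib
import Groth.Prelude.Def_CotT2
import Groth.Agent.Lib.Helper18.CotT.Exact
import Groth.Agent.Lib.Helper6.CotT9A

/-!
# Nine-term sequence: composition / identity of morphisms of presentations, homotopy
invariance of `T⁰`, `T¹` (helper6)
-/

set_option autoImplicit false

open TensorProduct CotT

noncomputable section

namespace Groth.Agent.Helper6.CotT9

universe u

section Mk

variable {A B ι σ A' B' ι' σ' : Type u}
variable [CommRing A] [CommRing B] [Algebra A B] [CommRing A'] [CommRing B'] [Algebra A' B']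
variable [Algebra A A'] [Algebra B B'] [Algebra A B'] [IsScalarTower A A' B'] [IsScalarTower A B B']
variable {P : Algebra.Presentation A B ι σ} {P' : Algebra.Presentation A' B' ι' σ'}
variable (M' : Type u) [AddCommGroup M'] [Module B' M'] [Module B M'] [IsScalarTower B B' M']

lemma T1pull_mk (h : PresHom P P') (z : cocycles1 P' M') :
    h.T1pull M' (Submodule.Quotient.mk z : T1 P' M') =
      (Submodule.Quotient.mk (h.cocycles1Pull M' z) : T1 P M') := rfl

lemma T2pull_mk (h : PresHom P P') (χ : L2 P' →ₗ[B'] M') :
    h.T2pull M' (Submodule.Quotient.mk χ : T2 P' M') =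
      (Submodule.Quotient.mk (h.pull2 M' χ) : T2 P M') := rfl

end Mk

section Comp

variable {A B ι σ A' B' ι' σ' A'' B'' ι'' σ'' : Type u}
variable [CommRing A] [CommRing B] [Algebra A B]
variable [CommRing A'] [CommRing B'] [Algebra A' B']
variable [CommRing A''] [CommRing B''] [Algebra A'' B'']
variable [Algebra A A'] [Algebra B B'] [Algebra A B'] [IsScalarTower A A' B'] [IsScalarTower A B B']
variable [Algebra A' A''] [Algebra B' B''] [Algebra A' B''] [IsScalarTower A' A'' B'']
  [IsScalarTower A' B' B'']
variable [Algebra A A''] [Algebra B B''] [Algebra A B''] [IsScalarTower A A'' B'']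
  [IsScalarTower A B B'']
variable [IsScalarTower A A' A''] [IsScalarTower B B' B'']
variable {P : Algebra.Presentation A B ι σ} {P' : Algebra.Presentation A' B' ι' σ'}
  {P'' : Algebra.Presentation A'' B'' ι'' σ''}

/-- Composition of morphisms of presentations. -/
def presComp (h' : PresHom P' P'') (h : PresHom P P') : PresHom P P'' where
  hom := h'.hom.comp h.hom
  relVal s := h'.relModMap (h.relVal s)
  jmap_relVal s := by
    rw [h'.jmap_relModMap, h.jmap_relVal]
    exact (Algebra.Generators.Hom.toAlgHom_comp_apply _ _ _ h.hom h'.hom (rel P s)).symm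

variable (h' : PresHom P' P'') (h : PresHom P P')

lemma presComp_ringHom (x : P.toExtension.Ring) :
    (presComp h' h).ringHom x = h'.ringHom (h.ringHom x) :=
  Algebra.Generators.Hom.toAlgHom_comp_apply _ _ _ h.hom h'.hom x

lemma presComp_relModMap (f : relMod P) :
    (presComp h' h).relModMap f = h'.relModMap (h.relModMap f) := by
  induction f using Finsupp.induction_linear with
  | zero => rw [map_zero, map_zero, map_zero]
  | add f g hf hg => rw [map_add, map_add, map_add, hf, hg]
  | single s r =>
    rw [PresHom.relModMap_single, PresHom.relModMap_single, LinearMap.map_smulₛₗ,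
      presComp_ringHom]
    rfl

lemma presComp_relKerMap (q : relKer P) :
    (presComp h' h).relKerMap q = h'.relKerMap (h.relKerMap q) :=
  Subtype.ext (presComp_relModMap h' h q)

lemma presComp_L1map (x : L1 P) : (presComp h' h).L1map x = h'.L1map (h.L1map x) := by
  induction x using TensorProduct.induction_on with
  | zero => rw [map_zero, map_zero, map_zero]
  | add x y hx hy => rw [map_add, map_add, map_add, hx, hy]
  | tmul b f =>
    rw [PresHom.L1map_tmul, PresHom.L1map_tmul, PresHom.L1map_tmul, presComp_relModMap,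
      ← IsScalarTower.algebraMap_apply]

lemma presComp_L2map (z : L2 P) : (presComp h' h).L2map z = h'.L2map (h.L2map z) := by
  obtain ⟨q, rfl⟩ := exists_mk_one_tmul P z
  rw [PresHom.L2map_mk_tmul, PresHom.L2map_mk_tmul, PresHom.L2map_mk_tmul, presComp_relKerMap,
    ← IsScalarTower.algebraMap_apply]

section
attribute [local instance] SMulCommClass.of_commMonoid

lemma presComp_L0map (x : L0 P) : (presComp h' h).L0map x = h'.L0map (h.L0map x) := by
  rw [PresHom.L0map_apply, PresHom.L0map_apply, PresHom.L0map_apply]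
  show Algebra.Extension.CotangentSpace.map (h'.hom.comp h.hom).toExtensionHom x = _
  rw [Algebra.Generators.Hom.toExtensionHom_comp,
    Algebra.Extension.CotangentSpace.map_comp_apply]

end

variable (M : Type u) [AddCommGroup M] [Module B'' M] [Module B' M] [Module B M]
  [IsScalarTower B' B'' M] [IsScalarTower B B'' M] [IsScalarTower B B' M]

theorem presComp_T0pull (x : T0 P'' M) :
    (presComp h' h).T0pull M x = h.T0pull M (h'.T0pull M x) := by
  apply Subtype.ext
  apply LinearMap.ext
  intro y
  show (x : L0 P'' →ₗ[B''] M) ((presComp h' h).L0map y) =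
    (x : L0 P'' →ₗ[B''] M) (h'.L0map (h.L0map y))
  rw [presComp_L0map]

theorem presComp_T1pull (x : T1 P'' M) :
    (presComp h' h).T1pull M x = h.T1pull M (h'.T1pull M x) := by
  obtain ⟨z, rfl⟩ := Submodule.Quotient.mk_surjective (coboundaries1 P'' M) x
  have e1 := T1pull_mk M h' z
  have e2 := T1pull_mk M h (h'.cocycles1Pull M z)
  have e3 := T1pull_mk M (presComp h' h) z
  have e4 : (presComp h' h).cocycles1Pull M z = h.cocycles1Pull M (h'.cocycles1Pull M z) := by
    apply Subtype.ext
    apply LinearMap.ext
    intro y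
    show (z : L1 P'' →ₗ[B''] M) ((presComp h' h).L1map y) =
      (z : L1 P'' →ₗ[B''] M) (h'.L1map (h.L1map y))
    rw [presComp_L1map]
  exact e3.trans ((congrArg (fun t => (Submodule.Quotient.mk t : T1 P M)) e4).trans
    (e2.symm.trans (congrArg (h.T1pull M) e1.symm)))

theorem presComp_T2pull (x : T2 P'' M) :
    (presComp h' h).T2pull M x = h.T2pull M (h'.T2pull M x) := by
  obtain ⟨χ, rfl⟩ := Submodule.Quotient.mk_surjective (LinearMap.range (d2Star P'' M)) x
  have e1 := T2pull_mk M h' χ
  have e2 := T2pull_mk M h (h'.pull2 M χ)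
  have e3 := T2pull_mk M (presComp h' h) χ
  have e4 : (presComp h' h).pull2 M χ = h.pull2 M (h'.pull2 M χ) := by
    apply LinearMap.ext
    intro y
    exact (PresHom.pull2_apply (presComp h' h) M χ y).trans
      ((congrArg χ (presComp_L2map h' h y)).trans
        ((PresHom.pull2_apply h M (h'.pull2 M χ) y).trans
          (PresHom.pull2_apply h' M χ (h.L2map y))).symm)
  exact e3.trans ((congrArg (fun t => (Submodule.Quotient.mk t : T2 P M)) e4).trans
    (e2.symm.trans (congrArg (h.T2pull M) e1.symm)))

end Comp

section Id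

variable {A B ι σ : Type u} [CommRing A] [CommRing B] [Algebra A B]
variable (P : Algebra.Presentation A B ι σ)

lemma id_ringHom (x : P.toExtension.Ring) : (PresHom.id P).ringHom x = x := by
  show (Algebra.Generators.Hom.id P.toGenerators).toAlgHom x = x
  rw [Algebra.Generators.Hom.toAlgHom_id]
  rfl

lemma id_relModMap (f : relMod P) : (PresHom.id P).relModMap f = f := by
  induction f using Finsupp.induction_linear with
  | zero => rw [map_zero]
  | add f g hf hg => rw [map_add, hf, hg]
  | single s r =>
    rw [PresHom.relModMap_single, id_ringHom]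
    show r • Finsupp.single s (1 : P.toExtension.Ring) = Finsupp.single s r
    rw [Finsupp.smul_single, smul_eq_mul, mul_one]

lemma id_relKerMap (q : relKer P) : (PresHom.id P).relKerMap q = q :=
  Subtype.ext (id_relModMap P q)

lemma id_L1map (x : L1 P) : (PresHom.id P).L1map x = x := by
  induction x using TensorProduct.induction_on with
  | zero => rw [map_zero]
  | add x y hx hy => rw [map_add, hx, hy]
  | tmul b f =>
    rw [PresHom.L1map_tmul, id_relModMap]
    rfl

lemma id_L2map (z : L2 P) : (PresHom.id P).L2map z = z := by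
  obtain ⟨q, rfl⟩ := exists_mk_one_tmul P z
  rw [PresHom.L2map_mk_tmul, id_relKerMap]
  rfl

section
attribute [local instance] SMulCommClass.of_commMonoid

lemma id_L0map (x : L0 P) : (PresHom.id P).L0map x = x := by
  rw [PresHom.L0map_apply]
  show Algebra.Extension.CotangentSpace.map
    (Algebra.Generators.Hom.id P.toGenerators).toExtensionHom x = x
  rw [Algebra.Generators.Hom.toExtensionHom_id, Algebra.Extension.CotangentSpace.map_id]
  rfl

end

variable (M : Type u) [AddCommGroup M] [Module B M]

theorem id_T0pull (x : T0 P M) : (PresHom.id P).T0pull M x = x := by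
  apply Subtype.ext
  apply LinearMap.ext
  intro y
  show (x : L0 P →ₗ[B] M) ((PresHom.id P).L0map y) = (x : L0 P →ₗ[B] M) y
  rw [id_L0map]

theorem id_T1pull (x : T1 P M) : (PresHom.id P).T1pull M x = x := by
  obtain ⟨z, rfl⟩ := Submodule.Quotient.mk_surjective _ x
  show (Submodule.Quotient.mk ((PresHom.id P).cocycles1Pull M z) : T1 P M) =
    Submodule.Quotient.mk z
  refine congrArg _ ?_
  apply Subtype.ext
  apply LinearMap.ext
  intro y
  show (z : L1 P →ₗ[B] M) ((PresHom.id P).L1map y) = (z : L1 P →ₗ[B] M) y
  rw [id_L1map]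

theorem id_T2pull (x : T2 P M) : (PresHom.id P).T2pull M x = x := by
  obtain ⟨χ, rfl⟩ := Submodule.Quotient.mk_surjective _ x
  show (Submodule.Quotient.mk ((PresHom.id P).pull2 M χ) : T2 P M) = Submodule.Quotient.mk χ
  refine congrArg _ ?_
  apply LinearMap.ext
  intro y
  show χ ((PresHom.id P).L2map y) = χ y
  rw [id_L2map]

end Id

section OfHom

variable {A B ι σ A' B' ι' σ' : Type u}
variable [CommRing A] [CommRing B] [Algebra A B] [CommRing A'] [CommRing B'] [Algebra A' B']
variable [Algebra A A'] [Algebra B B'] [Algebra A B'] [IsScalarTower A A' B'] [IsScalarTower A B B']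
variable (P : Algebra.Presentation A B ι σ) (P' : Algebra.Presentation A' B' ι' σ')

lemma exists_relVal (g : Algebra.Generators.Hom P.toGenerators P'.toGenerators) (s : σ) :
    ∃ f : relMod P', jmap P' f = g.toExtensionHom.toRingHom (rel P s) := by
  have h1 : g.toExtensionHom.toRingHom (rel P s) ∈ LinearMap.range (jmap P') := by
    rw [range_jmap]
    show algebraMap P'.toExtension.Ring B' (g.toExtensionHom.toRingHom (rel P s)) = 0
    rw [g.toExtensionHom.algebraMap_toRingHom, algebraMap_rel, map_zero]
  exact h1

/-- A morphism of presentations with prescribed map on generators. -/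
def presOfHom (g : Algebra.Generators.Hom P.toGenerators P'.toGenerators) : PresHom P P' where
  hom := g
  relVal s := (exists_relVal P P' g s).choose
  jmap_relVal s := (exists_relVal P P' g s).choose_spec

end OfHom

section Homotopy01

variable {A B ι σ A' B' ι' σ' : Type u}
variable [CommRing A] [CommRing B] [Algebra A B] [CommRing A'] [CommRing B'] [Algebra A' B']
variable [Algebra A A'] [Algebra B B'] [Algebra A B'] [IsScalarTower A A' B'] [IsScalarTower A B B']
variable {P : Algebra.Presentation A B ι σ} {P' : Algebra.Presentation A' B' ι' σ'}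
variable (M' : Type u) [AddCommGroup M'] [Module B' M'] [Module B M'] [IsScalarTower B B' M']

attribute [local instance] SMulCommClass.of_commMonoid

theorem T0pull_eq (h₁ h₂ : PresHom P P') (x : T0 P' M') : h₁.T0pull M' x = h₂.T0pull M' x := by
  apply Subtype.ext
  apply LinearMap.ext
  intro y
  show (x : L0 P' →ₗ[B'] M') (h₁.L0map y) = (x : L0 P' →ₗ[B'] M') (h₂.L0map y)
  rw [← sub_eq_zero, ← map_sub]
  have key : h₁.L0map y - h₂.L0map y = P'.toExtension.cotangentComplex
      ((h₁.hom.toExtensionHom.sub h₂.hom.toExtensionHom) y) := by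
    rw [PresHom.L0map_apply, PresHom.L0map_apply, ← LinearMap.sub_apply,
      Algebra.Extension.CotangentSpace.map_sub_map]
    rfl
  rw [key]
  obtain ⟨ℓ, hℓ⟩ := Groth.Agent.Helper18.CotTLib.toCot_surjective P'
    ((h₁.hom.toExtensionHom.sub h₂.hom.toExtensionHom) y)
  rw [← hℓ]
  have hx : d1Star P' M' (x : L0 P' →ₗ[B'] M') = 0 := x.2
  exact LinearMap.congr_fun hx ℓ

theorem T1pull_eq (h₁ h₂ : PresHom P P') (x : T1 P' M') : h₁.T1pull M' x = h₂.T1pull M' x := by
  obtain ⟨z, rfl⟩ := Submodule.Quotient.mk_surjective _ x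
  show (Submodule.Quotient.mk (h₁.cocycles1Pull M' z) : T1 P M') =
    Submodule.Quotient.mk (h₂.cocycles1Pull M' z)
  rw [Submodule.Quotient.eq]
  have hz : d2Star P' M' (z : L1 P' →ₗ[B'] M') = 0 := z.2
  have hker : LinearMap.ker (toCot P') ≤ LinearMap.ker (z : L1 P' →ₗ[B'] M') := by
    rw [← Groth.Agent.Helper18.CotTLib.range_d2_eq_ker_toCot]
    rintro _ ⟨w, rfl⟩
    exact LinearMap.congr_fun hz w
  let φb := factorThru (toCot P') (Groth.Agent.Helper18.CotTLib.toCot_surjective P')
    (z : L1 P' →ₗ[B'] M') hker
  have hφb : ∀ ℓ, φb (toCot P' ℓ) = (z : L1 P' →ₗ[B'] M') ℓ := factorThru_apply _ _ _ _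
  refine ⟨(φb.restrictScalars B) ∘ₗ (h₁.hom.toExtensionHom.sub h₂.hom.toExtensionHom), ?_⟩
  apply LinearMap.ext
  intro ℓ
  show φb ((h₁.hom.toExtensionHom.sub h₂.hom.toExtensionHom)
      (P.toExtension.cotangentComplex (toCot P ℓ))) =
    (z : L1 P' →ₗ[B'] M') (h₁.L1map ℓ) - (z : L1 P' →ₗ[B'] M') (h₂.L1map ℓ)
  rw [← hφb, ← hφb, PresHom.toCot_L1map, PresHom.toCot_L1map, ← map_sub, PresHom.cotMap_apply,
    PresHom.cotMap_apply, ← LinearMap.sub_apply, Algebra.Extension.Cotangent.map_sub_map]
  rfl

end Homotopy01

end Groth.Agent.Helper6.CotT9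

end
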