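import Mathlib
import Groth.Prelude.Def_CotT2
import Groth.Agent.Lib.Helper6.CotT9A
import Groth.Agent.Lib.Helper6.CotT9B

/-!
# Nine-term sequence: homotopy invariance of `T²` (helper6)
-/

set_option autoImplicit false

open TensorProduct CotT

noncomputable section

namespace Groth.Agent.Helper6.CotT9

universe u

section PN

variable {A B ι σ : Type u} [CommRing A] [CommRing B] [Algebra A B]
variable (P : Algebra.Presentation A B ι σ)

/-- `F / F₀`, which carries the crossed-module multiplication `x * y = j(x) • y`. -/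
def PN : Type u := relMod P ⧸ trivRel P

instance : AddCommGroup (PN P) := inferInstanceAs (AddCommGroup (relMod P ⧸ trivRel P))

instance : Module P.toExtension.Ring (PN P) :=
  inferInstanceAs (Module P.toExtension.Ring (relMod P ⧸ trivRel P))

/-- the quotient map -/
def PN.mk : relMod P →ₗ[P.toExtension.Ring] PN P := (trivRel P).mkQ

/-- `j` on the quotient -/
def PN.jbar : PN P →ₗ[P.toExtension.Ring] P.toExtension.Ring :=
  (trivRel P).liftQ (jmap P) (trivRel_le_relKer P)

lemma PN.mk_surjective : Function.Surjective (PN.mk P) := Submodule.mkQ_surjective _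

lemma PN.jbar_mk (f : relMod P) : PN.jbar P (PN.mk P f) = jmap P f := rfl

lemma PN.mk_eq_zero_iff (f : relMod P) : PN.mk P f = 0 ↔ f ∈ trivRel P :=
  Submodule.Quotient.mk_eq_zero _

lemma PN.peiffer (x y : PN P) : PN.jbar P x • y = PN.jbar P y • x := by
  obtain ⟨a, rfl⟩ := PN.mk_surjective P x
  obtain ⟨b, rfl⟩ := PN.mk_surjective P y
  rw [PN.jbar_mk, PN.jbar_mk, ← map_smul, ← map_smul, ← sub_eq_zero, ← map_sub,
    PN.mk_eq_zero_iff]
  exact Submodule.subset_span ⟨a, b, rfl⟩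

instance : Mul (PN P) := ⟨fun x y => PN.jbar P x • y⟩

lemma PN.mul_def (x y : PN P) : x * y = PN.jbar P x • y := rfl

instance : NonUnitalCommRing (PN P) :=
  { (inferInstance : AddCommGroup (PN P)) with
    mul := (· * ·)
    left_distrib := fun a b c => by
      show PN.jbar P a • (b + c) = PN.jbar P a • b + PN.jbar P a • c
      exact smul_add _ _ _
    right_distrib := fun a b c => by
      show PN.jbar P (a + b) • c = PN.jbar P a • c + PN.jbar P b • c
      rw [map_add, add_smul]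
    zero_mul := fun a => by
      show PN.jbar P (0 : PN P) • a = 0
      rw [map_zero, zero_smul]
    mul_zero := fun a => by
      show PN.jbar P a • (0 : PN P) = 0
      exact smul_zero _
    mul_assoc := fun a b c => by
      show PN.jbar P (PN.jbar P a • b) • c = PN.jbar P a • (PN.jbar P b • c)
      rw [map_smul, smul_eq_mul, mul_smul]
    mul_comm := fun a b => PN.peiffer P a b }

instance : IsScalarTower P.toExtension.Ring (PN P) (PN P) := ⟨fun r x y => by
  show PN.jbar P (r • x) • y = r • (PN.jbar P x • y)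
  rw [map_smul, smul_eq_mul, mul_smul]⟩

instance : SMulCommClass P.toExtension.Ring (PN P) (PN P) := ⟨fun r x y => by
  show r • (PN.jbar P x • y) = PN.jbar P x • (r • y)
  exact smul_comm _ _ _⟩

/-- The unitization `R ⊕ F/F₀`. -/
abbrev PE : Type u := Unitization P.toExtension.Ring (PN P)

/-- `(r, x) ↦ r + j(x)`, a ring hom. -/
def PN.eps : PE P →+* P.toExtension.Ring where
  toFun x := x.fst + PN.jbar P x.snd
  map_one' := by
    rw [Unitization.fst_one, Unitization.snd_one, map_zero, add_zero]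
  map_mul' x y := by
    simp only [Unitization.fst_mul, Unitization.snd_mul, map_add, map_smul, PN.mul_def,
      smul_eq_mul]
    ring
  map_zero' := by
    rw [Unitization.fst_zero, Unitization.snd_zero, map_zero, add_zero]
  map_add' x y := by
    rw [Unitization.fst_add, Unitization.snd_add, map_add]
    ring

lemma PN.eps_apply (x : PE P) : PN.eps P x = x.fst + PN.jbar P x.snd := rfl

lemma PN.eps_inl (r : P.toExtension.Ring) :
    PN.eps P (Unitization.inl r : PE P) = r := by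
  rw [PN.eps_apply, Unitization.fst_inl, Unitization.snd_inl, map_zero, add_zero]

lemma PN.eps_inr (x : PN P) : PN.eps P (Unitization.inr x : PE P) = PN.jbar P x := by
  rw [PN.eps_apply, Unitization.fst_inr, Unitization.snd_inr, zero_add]

end PN

section Phi

variable {A ι : Type u} [CommRing A]
variable {A' B' ι' σ' : Type u} [CommRing A'] [CommRing B'] [Algebra A' B']
variable (P' : Algebra.Presentation A' B' ι' σ')
variable (τ₁ τ₂ : MvPolynomial ι A →+* P'.toExtension.Ring)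
variable (hC : ∀ a, τ₁ (MvPolynomial.C a) = τ₂ (MvPolynomial.C a))
variable (hk : ∀ r, algebraMap P'.toExtension.Ring B' (τ₁ r) =
  algebraMap P'.toExtension.Ring B' (τ₂ r))

include hk in
lemma exists_Dv (i : ι) :
    ∃ f : relMod P', jmap P' f = τ₁ (MvPolynomial.X i) - τ₂ (MvPolynomial.X i) := by
  have h1 : τ₁ (MvPolynomial.X i) - τ₂ (MvPolynomial.X i) ∈ LinearMap.range (jmap P') := by
    rw [range_jmap]
    show algebraMap P'.toExtension.Ring B' (τ₁ (MvPolynomial.X i) - τ₂ (MvPolynomial.X i)) = 0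
    rw [map_sub, hk, sub_self]
  exact h1

/-- lifts of the differences of the images of the variables -/
def Dv (i : ι) : relMod P' := (exists_Dv P' τ₁ τ₂ hk i).choose

lemma jmap_Dv (i : ι) :
    jmap P' (Dv P' τ₁ τ₂ hk i) = τ₁ (MvPolynomial.X i) - τ₂ (MvPolynomial.X i) :=
  (exists_Dv P' τ₁ τ₂ hk i).choose_spec

/-- The ring hom `R → R' ⊕ F'/F₀'` with components `τ₂` and the "derivation" `D`. -/
def Phi : MvPolynomial ι A →+* PE P' :=
  MvPolynomial.eval₂Hom
    ((Unitization.inlRingHom P'.toExtension.Ring (PN P')).comp (τ₂.comp MvPolynomial.C))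
    (fun i => Unitization.inl (τ₂ (MvPolynomial.X i)) +
      Unitization.inr (PN.mk P' (Dv P' τ₁ τ₂ hk i)))

lemma Phi_C (a : A) :
    Phi P' τ₁ τ₂ hk (MvPolynomial.C a) = Unitization.inl (τ₂ (MvPolynomial.C a)) :=
  MvPolynomial.eval₂Hom_C _ _ a

lemma Phi_X (i : ι) :
    Phi P' τ₁ τ₂ hk (MvPolynomial.X i) = Unitization.inl (τ₂ (MvPolynomial.X i)) +
      Unitization.inr (PN.mk P' (Dv P' τ₁ τ₂ hk i)) :=
  MvPolynomial.eval₂Hom_X' _ _ i

lemma fst_Phi (r : MvPolynomial ι A) : (Phi P' τ₁ τ₂ hk r).fst = τ₂ r := by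
  induction r using MvPolynomial.induction_on with
  | C a => rw [Phi_C, Unitization.fst_inl]
  | add p q hp hq => rw [map_add, Unitization.fst_add, hp, hq, map_add]
  | mul_X p i hp =>
    rw [map_mul, Unitization.fst_mul, hp, Phi_X, Unitization.fst_add, Unitization.fst_inl,
      Unitization.fst_inr, add_zero, map_mul]

include hC in
lemma eps_Phi (r : MvPolynomial ι A) : PN.eps P' (Phi P' τ₁ τ₂ hk r) = τ₁ r := by
  induction r using MvPolynomial.induction_on with
  | C a => rw [Phi_C, PN.eps_inl, hC]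
  | add p q hp hq => rw [map_add, map_add, hp, hq, map_add]
  | mul_X p i hp =>
    rw [map_mul, map_mul, hp, Phi_X, map_add, PN.eps_inl, PN.eps_inr, PN.jbar_mk, jmap_Dv,
      map_mul]
    ring

/-- The `(τ₁, τ₂)`-derivation `D : R → F'/F₀'`. -/
def Dmap (r : MvPolynomial ι A) : PN P' := (Phi P' τ₁ τ₂ hk r).snd

lemma Dmap_zero : Dmap P' τ₁ τ₂ hk 0 = 0 := by
  rw [Dmap, map_zero, Unitization.snd_zero]

lemma Dmap_add (r s : MvPolynomial ι A) :
    Dmap P' τ₁ τ₂ hk (r + s) = Dmap P' τ₁ τ₂ hk r + Dmap P' τ₁ τ₂ hk s := by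
  rw [Dmap, Dmap, Dmap, map_add, Unitization.snd_add]

include hC in
lemma jbar_Dmap (r : MvPolynomial ι A) :
    PN.jbar P' (Dmap P' τ₁ τ₂ hk r) = τ₁ r - τ₂ r := by
  have h := eps_Phi P' τ₁ τ₂ hC hk r
  rw [PN.eps_apply, fst_Phi] at h
  rw [← h]
  show PN.jbar P' (Phi P' τ₁ τ₂ hk r).snd = τ₂ r + PN.jbar P' (Phi P' τ₁ τ₂ hk r).snd - τ₂ r
  ring

include hC in
lemma Dmap_mul (r s : MvPolynomial ι A) :
    Dmap P' τ₁ τ₂ hk (r * s) = τ₁ r • Dmap P' τ₁ τ₂ hk s + τ₂ s • Dmap P' τ₁ τ₂ hk r := by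
  have hj : PN.jbar P' (Phi P' τ₁ τ₂ hk r).snd = τ₁ r - τ₂ r := jbar_Dmap P' τ₁ τ₂ hC hk r
  show (Phi P' τ₁ τ₂ hk (r * s)).snd =
    τ₁ r • (Phi P' τ₁ τ₂ hk s).snd + τ₂ s • (Phi P' τ₁ τ₂ hk r).snd
  rw [map_mul, Unitization.snd_mul, fst_Phi, fst_Phi, PN.mul_def, hj, sub_smul]
  abel

end Phi

section SemiLC

variable {R R' : Type*} [CommRing R] [CommRing R'] (τ : R →+* R') {σ : Type*} {N : Type*}
  [AddCommGroup N] [Module R' N] (v : σ → N)

/-- `e_s ↦ v s`, extended `τ`-semilinearly. -/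
def semiLC : (σ →₀ R) →ₛₗ[τ] N where
  toFun f := Finsupp.linearCombination R' v (Finsupp.mapRange τ (map_zero _) f)
  map_add' f g := by rw [Finsupp.mapRange_add (map_add _), map_add]
  map_smul' r f := by
    rw [← map_smul]
    congr 1
    ext s
    simp [Finsupp.mapRange_apply, map_mul]

lemma semiLC_single (s : σ) (r : R) : semiLC τ v (Finsupp.single s r) = τ r • v s := by
  simp [semiLC]

end SemiLC

section Homotopy2

variable {A B ι σ A' B' ι' σ' : Type u}
variable [CommRing A] [CommRing B] [Algebra A B] [CommRing A'] [CommRing B'] [Algebra A' B']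
variable [Algebra A A'] [Algebra B B'] [Algebra A B'] [IsScalarTower A A' B'] [IsScalarTower A B B']
variable {P : Algebra.Presentation A B ι σ} {P' : Algebra.Presentation A' B' ι' σ'}
variable (h₁ h₂ : PresHom P P')

lemma ringHom_C_eq (a : A) :
    h₁.ringHom (MvPolynomial.C a) = h₂.ringHom (MvPolynomial.C a) := by
  show h₁.hom.toAlgHom (MvPolynomial.C a) = h₂.hom.toAlgHom (MvPolynomial.C a)
  rw [Algebra.Generators.Hom.toAlgHom_C, Algebra.Generators.Hom.toAlgHom_C]

lemma algebraMap_ringHom_eq (r : P.toExtension.Ring) :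
    algebraMap P'.toExtension.Ring B' (h₁.ringHom r) =
      algebraMap P'.toExtension.Ring B' (h₂.ringHom r) := by
  rw [h₁.algebraMap_ringHom, h₂.algebraMap_ringHom]

/-- the derivation attached to two morphisms -/
def DD (r : P.toExtension.Ring) : PN P' :=
  Dmap P' h₁.ringHom h₂.ringHom (algebraMap_ringHom_eq h₁ h₂) r

lemma DD_zero : DD h₁ h₂ 0 = 0 := Dmap_zero _ _ _ _

lemma DD_add (r s : P.toExtension.Ring) : DD h₁ h₂ (r + s) = DD h₁ h₂ r + DD h₁ h₂ s :=
  Dmap_add _ _ _ _ r s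

lemma jbar_DD (r : P.toExtension.Ring) :
    PN.jbar P' (DD h₁ h₂ r) = h₁.ringHom r - h₂.ringHom r :=
  jbar_Dmap P' h₁.ringHom h₂.ringHom (ringHom_C_eq h₁ h₂) (algebraMap_ringHom_eq h₁ h₂) r

lemma DD_mul (r s : P.toExtension.Ring) :
    DD h₁ h₂ (r * s) = h₁.ringHom r • DD h₁ h₂ s + h₂.ringHom s • DD h₁ h₂ r :=
  Dmap_mul P' h₁.ringHom h₂.ringHom (ringHom_C_eq h₁ h₂) (algebraMap_ringHom_eq h₁ h₂) r s

lemma exists_chat (s : σ) : ∃ q : relKer P', PN.mk P' (q : relMod P') =
    PN.mk P' (h₁.relVal s) - PN.mk P' (h₂.relVal s) - DD h₁ h₂ (rel P s) := by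
  obtain ⟨f, hf⟩ := PN.mk_surjective P'
    (PN.mk P' (h₁.relVal s) - PN.mk P' (h₂.relVal s) - DD h₁ h₂ (rel P s))
  refine ⟨⟨f, ?_⟩, hf⟩
  show jmap P' f = 0
  rw [← PN.jbar_mk, hf, map_sub, map_sub, PN.jbar_mk, PN.jbar_mk, jbar_DD, h₁.jmap_relVal,
    h₂.jmap_relVal]
  exact sub_self _

/-- the correction terms -/
def chat (s : σ) : relKer P' := (exists_chat h₁ h₂ s).choose

lemma chat_spec (s : σ) : PN.mk P' (chat h₁ h₂ s : relMod P') =
    PN.mk P' (h₁.relVal s) - PN.mk P' (h₂.relVal s) - DD h₁ h₂ (rel P s) :=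
  (exists_chat h₁ h₂ s).choose_spec

/-- `e_s ↦ ĉ_s`, semilinear over `τ₁`. -/
def theta : relMod P →ₛₗ[h₁.ringHom] relKer P' := semiLC h₁.ringHom (chat h₁ h₂)

lemma theta_single (s : σ) (r : P.toExtension.Ring) :
    theta h₁ h₂ (Finsupp.single s r) = h₁.ringHom r • chat h₁ h₂ s :=
  semiLC_single _ _ s r

lemma star (f : relMod P) :
    PN.mk P' (h₁.relModMap f) - PN.mk P' (h₂.relModMap f) -
      PN.mk P' ((theta h₁ h₂ f : relKer P') : relMod P') = DD h₁ h₂ (jmap P f) := by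
  induction f using Finsupp.induction_linear with
  | zero =>
    have e : ((theta h₁ h₂ 0 : relKer P') : relMod P') = 0 := by
      rw [map_zero]
      rfl
    rw [e]
    simp only [map_zero, sub_zero]
    exact (DD_zero h₁ h₂).symm
  | add f g hf hg =>
    have e : ((theta h₁ h₂ (f + g) : relKer P') : relMod P') =
        ((theta h₁ h₂ f : relKer P') : relMod P') + ((theta h₁ h₂ g : relKer P') : relMod P') := by
      rw [map_add]
      rfl
    rw [e]
    simp only [map_add]
    rw [DD_add, ← hf, ← hg]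
    abel
  | single s r =>
    rw [PresHom.relModMap_single, PresHom.relModMap_single, theta_single, Submodule.coe_smul,
      map_smul, map_smul, map_smul, chat_spec, jmap_single, DD_mul]
    have hp := PN.peiffer P' (DD h₁ h₂ r) (PN.mk P' (h₂.relVal s))
    rw [jbar_DD, PN.jbar_mk, h₂.jmap_relVal] at hp
    rw [← hp, smul_sub, smul_sub, sub_smul]
    abel

variable (M' : Type u) [AddCommGroup M'] [Module B' M'] [Module B M'] [IsScalarTower B B' M']

/-- the homotopy in degree 2 -/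
def htpy2 (χ' : L2 P' →ₗ[B'] M') : L1 P →ₗ[B] M' :=
  PresHom.linOfSemilinear M' (χ'.comp
    ((Submodule.mkQ (LinearMap.range ((trivRelKer P').subtype.baseChange B'))).comp
      (tensorMap h₁.ringHom h₁.algebraMap_ringHom (theta h₁ h₂))))

lemma htpy2_tmul (χ' : L2 P' →ₗ[B'] M') (b : B) (f : relMod P) :
    htpy2 h₁ h₂ M' χ' (b ⊗ₜ f) =
      χ' (Submodule.Quotient.mk (algebraMap B B' b ⊗ₜ theta h₁ h₂ f)) := rfl

lemma key_L2 (q : relKer P) :
    (Submodule.Quotient.mk ((1 : B') ⊗ₜ[P'.toExtension.Ring] h₁.relKerMap q) : L2 P') =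
      Submodule.Quotient.mk ((1 : B') ⊗ₜ[P'.toExtension.Ring] h₂.relKerMap q) +
      Submodule.Quotient.mk ((1 : B') ⊗ₜ[P'.toExtension.Ring] theta h₁ h₂ (q : relMod P)) := by
  have hmem : ((h₁.relKerMap q - h₂.relKerMap q - theta h₁ h₂ (q : relMod P) : relKer P') :
      relMod P') ∈ trivRel P' := by
    rw [← PN.mk_eq_zero_iff]
    have hs := star h₁ h₂ (q : relMod P)
    have hq : jmap P (q : relMod P) = 0 := q.2
    rw [hq, DD_zero] at hs
    rw [Submodule.coe_sub, Submodule.coe_sub, map_sub, map_sub]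
    exact hs
  have h0 := mk_one_tmul_eq_zero_of_mem P' _ hmem
  have e : ∀ a b : relKer P',
      (Submodule.Quotient.mk ((1 : B') ⊗ₜ[P'.toExtension.Ring] (a - b)) : L2 P') =
        Submodule.Quotient.mk ((1 : B') ⊗ₜ[P'.toExtension.Ring] a) -
        Submodule.Quotient.mk ((1 : B') ⊗ₜ[P'.toExtension.Ring] b) := by
    intro a b
    have h3 := map_sub (TensorProduct.mk P'.toExtension.Ring B' (relKer P') 1) a b
    rw [← Submodule.Quotient.mk_sub]
    exact congrArg _ h3
  rw [e, e, sub_sub, sub_eq_zero] at h0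
  exact h0

theorem pull2_sub_mem (χ' : L2 P' →ₗ[B'] M') :
    h₁.pull2 M' χ' - h₂.pull2 M' χ' ∈ LinearMap.range (d2Star P M') := by
  refine ⟨htpy2 h₁ h₂ M' χ', ?_⟩
  apply LinearMap.ext
  intro z
  obtain ⟨q, rfl⟩ := exists_mk_one_tmul P z
  have e1 : (d2Star P M' (htpy2 h₁ h₂ M' χ')) (Submodule.Quotient.mk ((1 : B) ⊗ₜ q)) =
      χ' (Submodule.Quotient.mk ((1 : B') ⊗ₜ theta h₁ h₂ (q : relMod P))) := by
    show htpy2 h₁ h₂ M' χ' (d2 P (Submodule.Quotient.mk ((1 : B) ⊗ₜ q))) = _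
    rw [d2_mk_tmul P 1 q, htpy2_tmul, map_one]
  have e2 : ∀ h : PresHom P P', (h.pull2 M' χ') (Submodule.Quotient.mk ((1 : B) ⊗ₜ q)) =
      χ' (Submodule.Quotient.mk ((1 : B') ⊗ₜ h.relKerMap q)) := by
    intro h
    rw [PresHom.pull2_apply h M' χ' _, PresHom.L2map_mk_tmul h 1 q, map_one]
  rw [e1, LinearMap.sub_apply, e2 h₁, e2 h₂, key_L2 h₁ h₂ q, map_add]
  abel

theorem T2pull_eq (x : T2 P' M') : h₁.T2pull M' x = h₂.T2pull M' x := by
  obtain ⟨χ', rfl⟩ := Submodule.Quotient.mk_surjective (LinearMap.range (d2Star P' M')) x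
  exact (T2pull_mk M' h₁ χ').trans
    (((Submodule.Quotient.eq _).2 (pull2_sub_mem h₁ h₂ M' χ')).trans (T2pull_mk M' h₂ χ').symm)

end Homotopy2

end Groth.Agent.Helper6.CotT9

end
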