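import Mathlib

/-!
# Nine-term sequence: the abstract diagram chase (helper6)
-/

set_option autoImplicit false

namespace Groth.Agent.Helper6.CotT9

/-- A total, functional, additive relation gives an additive hom. -/
theorem exists_addHom_of_rel {G H : Type*} [AddCommGroup G] [AddCommGroup H] (r : G → H → Prop)
    (htot : ∀ g, ∃ h, r g h) (hfun : ∀ g h h', r g h → r g h' → h = h')
    (hadd : ∀ g g' h h', r g h → r g' h' → r (g + g') (h + h')) :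
    ∃ δ : G →+ H, ∀ g, r g (δ g) := by
  classical
  choose f hf using htot
  refine ⟨AddMonoidHom.mk' f (fun a b => ?_), hf⟩
  exact hfun _ _ _ (hf (a + b)) (hadd _ _ _ _ (hf a) (hf b))

/-- A three-term cochain complex of abelian groups together with models of its cohomology. -/
structure Cpx (C0 C1 C2 T0 Z1 T1 T2 : Type*) [AddCommGroup C0] [AddCommGroup C1] [AddCommGroup C2]
    [AddCommGroup T0] [AddCommGroup Z1] [AddCommGroup T1] [AddCommGroup T2] where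
  d0 : C0 →+ C1
  d1 : C1 →+ C2
  dd : ∀ x, d1 (d0 x) = 0
  i0 : T0 →+ C0
  i0_inj : Function.Injective i0
  d0_i0 : ∀ t, d0 (i0 t) = 0
  i0_range : ∀ x, d0 x = 0 → ∃ t, i0 t = x
  j1 : Z1 →+ C1
  j1_inj : Function.Injective j1
  d1_j1 : ∀ z, d1 (j1 z) = 0
  j1_range : ∀ x, d1 x = 0 → ∃ z, j1 z = x
  p1 : Z1 →+ T1
  p1_surj : Function.Surjective p1
  p1_ker : ∀ z, p1 z = 0 ↔ ∃ c, d0 c = j1 z
  p2 : C2 →+ T2
  p2_surj : Function.Surjective p2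
  p2_ker : ∀ x, p2 x = 0 ↔ ∃ c, d1 c = x

/-- A map of such complexes. -/
structure CpxMap {C0 C1 C2 T0 Z1 T1 T2 C0' C1' C2' T0' Z1' T1' T2' : Type*}
    [AddCommGroup C0] [AddCommGroup C1] [AddCommGroup C2]
    [AddCommGroup T0] [AddCommGroup Z1] [AddCommGroup T1] [AddCommGroup T2]
    [AddCommGroup C0'] [AddCommGroup C1'] [AddCommGroup C2']
    [AddCommGroup T0'] [AddCommGroup Z1'] [AddCommGroup T1'] [AddCommGroup T2']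
    (K : Cpx C0 C1 C2 T0 Z1 T1 T2) (K' : Cpx C0' C1' C2' T0' Z1' T1' T2') where
  f0 : C0 →+ C0'
  f1 : C1 →+ C1'
  f2 : C2 →+ C2'
  c0 : ∀ x, f1 (K.d0 x) = K'.d0 (f0 x)
  c1 : ∀ x, f2 (K.d1 x) = K'.d1 (f1 x)
  F0 : T0 →+ T0'
  hF0 : ∀ t, K'.i0 (F0 t) = f0 (K.i0 t)
  fZ : Z1 →+ Z1'
  hfZ : ∀ z, K'.j1 (fZ z) = f1 (K.j1 z)
  F1 : T1 →+ T1'
  hF1 : ∀ z, F1 (K.p1 z) = K'.p1 (fZ z)
  F2 : T2 →+ T2'
  hF2 : ∀ x, F2 (K.p2 x) = K'.p2 (f2 x)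

section Nine

variable {X0 X1 X2 XT0 XZ XT1 XT2 Y0 Y1 Y2 YT0 YZ YT1 YT2 Z0 Z1 Z2 ZT0 ZZ ZT1 ZT2 : Type*}
  [AddCommGroup X0] [AddCommGroup X1] [AddCommGroup X2]
  [AddCommGroup XT0] [AddCommGroup XZ] [AddCommGroup XT1] [AddCommGroup XT2]
  [AddCommGroup Y0] [AddCommGroup Y1] [AddCommGroup Y2]
  [AddCommGroup YT0] [AddCommGroup YZ] [AddCommGroup YT1] [AddCommGroup YT2]
  [AddCommGroup Z0] [AddCommGroup Z1] [AddCommGroup Z2]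
  [AddCommGroup ZT0] [AddCommGroup ZZ] [AddCommGroup ZT1] [AddCommGroup ZT2]
  {KX : Cpx X0 X1 X2 XT0 XZ XT1 XT2} {KY : Cpx Y0 Y1 Y2 YT0 YZ YT1 YT2}
  {KZ : Cpx Z0 Z1 Z2 ZT0 ZZ ZT1 ZT2}

/-- Hypotheses: `0 → X → Y → Z` exact degreewise, `Y → Z` onto in degrees 0, 1. -/
structure NineHyp (φ : CpxMap KX KY) (γ : CpxMap KY KZ) : Prop where
  i0 : Function.Injective φ.f0
  i1 : Function.Injective φ.f1
  i2 : Function.Injective φ.f2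
  c0 : ∀ x, γ.f0 (φ.f0 x) = 0
  c1 : ∀ x, γ.f1 (φ.f1 x) = 0
  c2 : ∀ x, γ.f2 (φ.f2 x) = 0
  e0 : ∀ y, γ.f0 y = 0 → ∃ x, φ.f0 x = y
  e1 : ∀ y, γ.f1 y = 0 → ∃ x, φ.f1 x = y
  e2 : ∀ y, γ.f2 y = 0 → ∃ x, φ.f2 x = y
  s0 : Function.Surjective γ.f0
  s1 : Function.Surjective γ.f1

variable (φ : CpxMap KX KY) (γ : CpxMap KY KZ)

theorem nine_inj (H : NineHyp φ γ) : Function.Injective φ.F0 := by
  intro t t' h
  apply KX.i0_inj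
  apply H.i0
  rw [← φ.hF0, ← φ.hF0, h]

theorem nine_ex0 (H : NineHyp φ γ) : Function.Exact φ.F0 γ.F0 := by
  intro y
  constructor
  · intro hy
    have h1 : γ.f0 (KY.i0 y) = 0 := by rw [← γ.hF0, hy, map_zero]
    obtain ⟨x, hx⟩ := H.e0 _ h1
    have h2 : KX.d0 x = 0 := by
      apply H.i1
      rw [φ.c0, hx, KY.d0_i0, map_zero]
    obtain ⟨t, ht⟩ := KX.i0_range x h2
    refine ⟨t, ?_⟩
    apply KY.i0_inj
    rw [φ.hF0, ht, hx]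
  · rintro ⟨t, rfl⟩
    apply KZ.i0_inj
    rw [γ.hF0, φ.hF0, H.c0, map_zero]

theorem nine_ex1 (H : NineHyp φ γ) : Function.Exact φ.F1 γ.F1 := by
  intro y
  constructor
  · intro hy
    obtain ⟨zy, rfl⟩ := KY.p1_surj y
    rw [γ.hF1] at hy
    obtain ⟨c, hc⟩ := (KZ.p1_ker _).1 hy
    obtain ⟨c', rfl⟩ := H.s0 c
    have h1 : γ.f1 (KY.j1 zy - KY.d0 c') = 0 := by
      rw [map_sub, γ.c0, ← γ.hfZ, hc, sub_self]
    obtain ⟨x, hx⟩ := H.e1 _ h1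
    have h2 : KX.d1 x = 0 := by
      apply H.i2
      rw [φ.c1, hx, map_sub, KY.d1_j1, KY.dd, sub_zero, map_zero]
    obtain ⟨zx, hzx⟩ := KX.j1_range x h2
    refine ⟨KX.p1 zx, ?_⟩
    rw [φ.hF1, ← sub_eq_zero, ← map_sub, KY.p1_ker]
    refine ⟨-c', ?_⟩
    rw [map_neg, map_sub, φ.hfZ, hzx, hx]
    abel
  · rintro ⟨t, rfl⟩
    obtain ⟨z, rfl⟩ := KX.p1_surj t
    rw [φ.hF1, γ.hF1]
    have : γ.fZ (φ.fZ z) = 0 := by
      apply KZ.j1_inj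
      rw [γ.hfZ, φ.hfZ, H.c1, map_zero]
    rw [this, map_zero]

theorem nine_ex2 (H : NineHyp φ γ) : Function.Exact φ.F2 γ.F2 := by
  intro y
  constructor
  · intro hy
    obtain ⟨cy, rfl⟩ := KY.p2_surj y
    rw [γ.hF2] at hy
    obtain ⟨c, hc⟩ := (KZ.p2_ker _).1 hy
    obtain ⟨c', rfl⟩ := H.s1 c
    have h1 : γ.f2 (cy - KY.d1 c') = 0 := by
      rw [map_sub, γ.c1, hc, sub_self]
    obtain ⟨x, hx⟩ := H.e2 _ h1
    refine ⟨KX.p2 x, ?_⟩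
    rw [φ.hF2, hx, map_sub, sub_eq_self, KY.p2_ker]
    exact ⟨c', rfl⟩
  · rintro ⟨t, rfl⟩
    obtain ⟨x, rfl⟩ := KX.p2_surj t
    rw [φ.hF2, γ.hF2, H.c2, map_zero]

/-- The relation defining `δ₀`. -/
def rel0 (t : ZT0) (s : XT1) : Prop :=
  ∃ (y : Y0) (zx : XZ), γ.f0 y = KZ.i0 t ∧ φ.f1 (KX.j1 zx) = KY.d0 y ∧ s = KX.p1 zx

lemma rel0_total (H : NineHyp φ γ) (t : ZT0) : ∃ s, rel0 φ γ t s := by
  obtain ⟨y, hy⟩ := H.s0 (KZ.i0 t)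
  have h1 : γ.f1 (KY.d0 y) = 0 := by rw [γ.c0, hy, KZ.d0_i0]
  obtain ⟨x, hx⟩ := H.e1 _ h1
  have h2 : KX.d1 x = 0 := by
    apply H.i2
    rw [φ.c1, hx, KY.dd, map_zero]
  obtain ⟨zx, hzx⟩ := KX.j1_range x h2
  exact ⟨KX.p1 zx, y, zx, hy, by rw [hzx, hx], rfl⟩

lemma rel0_fun (H : NineHyp φ γ) (t : ZT0) (s s' : XT1) :
    rel0 φ γ t s → rel0 φ γ t s' → s = s' := by
  rintro ⟨y, zx, h1, h2, rfl⟩ ⟨y', zx', h1', h2', rfl⟩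
  have h3 : γ.f0 (y - y') = 0 := by rw [map_sub, h1, h1', sub_self]
  obtain ⟨x0, hx0⟩ := H.e0 _ h3
  rw [← sub_eq_zero, ← map_sub, KX.p1_ker]
  refine ⟨x0, ?_⟩
  apply H.i1
  rw [φ.c0, hx0]
  simp only [map_sub, h2, h2']

lemma rel0_add (t t' : ZT0) (s s' : XT1) :
    rel0 φ γ t s → rel0 φ γ t' s' → rel0 φ γ (t + t') (s + s') := by
  rintro ⟨y, zx, h1, h2, rfl⟩ ⟨y', zx', h1', h2', rfl⟩
  exact ⟨y + y', zx + zx', by rw [map_add, map_add, h1, h1'],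
    by simp only [map_add, h2, h2'], by rw [map_add]⟩

theorem nine_exA (H : NineHyp φ γ) (δ0 : ZT0 →+ XT1) (hδ : ∀ t, rel0 φ γ t (δ0 t)) :
    Function.Exact γ.F0 δ0 := by
  intro t
  constructor
  · intro ht
    obtain ⟨y, zx, h1, h2, h3⟩ := hδ t
    rw [ht] at h3
    obtain ⟨c, hc⟩ := (KX.p1_ker zx).1 h3.symm
    have h4 : KY.d0 (y - φ.f0 c) = 0 := by
      rw [map_sub, ← φ.c0, hc, h2, sub_self]
    obtain ⟨ty, hty⟩ := KY.i0_range _ h4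
    refine ⟨ty, ?_⟩
    apply KZ.i0_inj
    rw [γ.hF0, hty, map_sub, H.c0, sub_zero, h1]
  · rintro ⟨ty, rfl⟩
    have h0 : rel0 φ γ (γ.F0 ty) 0 :=
      ⟨KY.i0 ty, 0, (γ.hF0 ty).symm, by rw [map_zero, map_zero, KY.d0_i0], by rw [map_zero]⟩
    exact rel0_fun φ γ H _ _ _ (hδ _) h0

theorem nine_exB (H : NineHyp φ γ) (δ0 : ZT0 →+ XT1) (hδ : ∀ t, rel0 φ γ t (δ0 t)) :
    Function.Exact δ0 φ.F1 := by
  intro s
  constructor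
  · intro hs
    obtain ⟨zx, rfl⟩ := KX.p1_surj s
    rw [φ.hF1] at hs
    obtain ⟨y, hy⟩ := (KY.p1_ker _).1 hs
    rw [φ.hfZ] at hy
    have h1 : KZ.d0 (γ.f0 y) = 0 := by rw [← γ.c0, hy, H.c1]
    obtain ⟨t, ht⟩ := KZ.i0_range _ h1
    refine ⟨t, ?_⟩
    exact rel0_fun φ γ H _ _ _ (hδ t) ⟨y, zx, ht.symm, hy.symm, rfl⟩
  · rintro ⟨t, rfl⟩
    obtain ⟨y, zx, h1, h2, h3⟩ := hδ t
    rw [h3, φ.hF1, KY.p1_ker]
    exact ⟨y, by rw [φ.hfZ, h2]⟩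

/-- The relation defining `δ₁`. -/
def rel1 (t : ZT1) (s : XT2) : Prop :=
  ∃ (zz : ZZ) (y : Y1) (x : X2), KZ.p1 zz = t ∧ γ.f1 y = KZ.j1 zz ∧ φ.f2 x = KY.d1 y ∧
    s = KX.p2 x

lemma rel1_total (H : NineHyp φ γ) (t : ZT1) : ∃ s, rel1 φ γ t s := by
  obtain ⟨zz, rfl⟩ := KZ.p1_surj t
  obtain ⟨y, hy⟩ := H.s1 (KZ.j1 zz)
  have h1 : γ.f2 (KY.d1 y) = 0 := by rw [γ.c1, hy, KZ.d1_j1]
  obtain ⟨x, hx⟩ := H.e2 _ h1
  exact ⟨KX.p2 x, zz, y, x, rfl, hy, hx, rfl⟩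

lemma rel1_fun (H : NineHyp φ γ) (t : ZT1) (s s' : XT2) :
    rel1 φ γ t s → rel1 φ γ t s' → s = s' := by
  rintro ⟨zz, y, x, h0, h1, h2, rfl⟩ ⟨zz', y', x', h0', h1', h2', rfl⟩
  have h3 : KZ.p1 (zz - zz') = 0 := by rw [map_sub, h0, h0', sub_self]
  obtain ⟨c, hc⟩ := (KZ.p1_ker _).1 h3
  obtain ⟨c', rfl⟩ := H.s0 c
  have h4 : γ.f1 (y - y' - KY.d0 c') = 0 := by
    simp only [map_sub, γ.c0, hc, h1, h1', sub_self]
  obtain ⟨x1, hx1⟩ := H.e1 _ h4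
  rw [← sub_eq_zero, ← map_sub, KX.p2_ker]
  refine ⟨x1, ?_⟩
  apply H.i2
  rw [φ.c1, hx1]
  simp only [map_sub, h2, h2', KY.dd, sub_zero]

lemma rel1_add (t t' : ZT1) (s s' : XT2) :
    rel1 φ γ t s → rel1 φ γ t' s' → rel1 φ γ (t + t') (s + s') := by
  rintro ⟨zz, y, x, h0, h1, h2, rfl⟩ ⟨zz', y', x', h0', h1', h2', rfl⟩
  exact ⟨zz + zz', y + y', x + x', by rw [map_add, h0, h0'],
    by rw [map_add, map_add, h1, h1'], by rw [map_add, map_add, h2, h2'], by rw [map_add]⟩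

theorem nine_exC (H : NineHyp φ γ) (δ1 : ZT1 →+ XT2) (hδ : ∀ t, rel1 φ γ t (δ1 t)) :
    Function.Exact γ.F1 δ1 := by
  intro t
  constructor
  · intro ht
    obtain ⟨zz, y, x, h0, h1, h2, h3⟩ := hδ t
    rw [ht] at h3
    obtain ⟨c, hc⟩ := (KX.p2_ker x).1 h3.symm
    have h4 : KY.d1 (y - φ.f1 c) = 0 := by
      rw [map_sub, ← φ.c1, hc, h2, sub_self]
    obtain ⟨zy, hzy⟩ := KY.j1_range _ h4
    refine ⟨KY.p1 zy, ?_⟩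
    rw [γ.hF1, ← h0]
    refine congrArg KZ.p1 ?_
    apply KZ.j1_inj
    rw [γ.hfZ, hzy, map_sub, H.c1, sub_zero, h1]
  · rintro ⟨ty, rfl⟩
    obtain ⟨zy, rfl⟩ := KY.p1_surj ty
    have h0 : rel1 φ γ (γ.F1 (KY.p1 zy)) 0 :=
      ⟨γ.fZ zy, KY.j1 zy, 0, (γ.hF1 zy).symm, (γ.hfZ zy).symm,
        by rw [map_zero, KY.d1_j1], by rw [map_zero]⟩
    exact rel1_fun φ γ H _ _ _ (hδ _) h0

theorem nine_exD (H : NineHyp φ γ) (δ1 : ZT1 →+ XT2) (hδ : ∀ t, rel1 φ γ t (δ1 t)) :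
    Function.Exact δ1 φ.F2 := by
  intro s
  constructor
  · intro hs
    obtain ⟨x, rfl⟩ := KX.p2_surj s
    rw [φ.hF2] at hs
    obtain ⟨y, hy⟩ := (KY.p2_ker _).1 hs
    have h1 : KZ.d1 (γ.f1 y) = 0 := by rw [← γ.c1, hy, H.c2]
    obtain ⟨zz, hzz⟩ := KZ.j1_range _ h1
    refine ⟨KZ.p1 zz, ?_⟩
    exact rel1_fun φ γ H _ _ _ (hδ _) ⟨zz, y, x, rfl, hzz.symm, hy.symm, rfl⟩
  · rintro ⟨t, rfl⟩
    obtain ⟨zz, y, x, h0, h1, h2, h3⟩ := hδ t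
    rw [h3, φ.hF2, KY.p2_ker]
    exact ⟨y, h2.symm⟩

/-- The abstract nine-term sequence. -/
theorem nine (H : NineHyp φ γ) :
    Function.Injective φ.F0 ∧ Function.Exact φ.F0 γ.F0 ∧ Function.Exact φ.F1 γ.F1 ∧
    Function.Exact φ.F2 γ.F2 ∧
    ∃ (δ0 : ZT0 →+ XT1) (δ1 : ZT1 →+ XT2), Function.Exact γ.F0 δ0 ∧ Function.Exact δ0 φ.F1 ∧
      Function.Exact γ.F1 δ1 ∧ Function.Exact δ1 φ.F2 := by
  obtain ⟨δ0, h0⟩ := exists_addHom_of_rel (rel0 φ γ) (rel0_total φ γ H) (rel0_fun φ γ H)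
    (rel0_add φ γ)
  obtain ⟨δ1, h1⟩ := exists_addHom_of_rel (rel1 φ γ) (rel1_total φ γ H) (rel1_fun φ γ H)
    (rel1_add φ γ)
  exact ⟨nine_inj φ γ H, nine_ex0 φ γ H, nine_ex1 φ γ H, nine_ex2 φ γ H, δ0, δ1,
    nine_exA φ γ H δ0 h0, nine_exB φ γ H δ0 h0, nine_exC φ γ H δ1 h1, nine_exD φ γ H δ1 h1⟩

end Nine

section Transfer

theorem exact_transfer {X Y Y' Z : Type*} [Zero Z] {F : X → Y'} {G : Y' → Z} {F' : X → Y}
    {G' : Y → Z} (V : Y → Y') (hV : Function.Injective V) (hF : ∀ x, F x = V (F' x))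
    (hG : ∀ y, G' y = G (V y)) (h : Function.Exact F G) : Function.Exact F' G' := by
  intro y
  rw [hG, h (V y)]
  constructor
  · rintro ⟨x, hx⟩
    exact ⟨x, hV (by rw [← hF, hx])⟩
  · rintro ⟨x, rfl⟩
    exact ⟨x, hF x⟩

theorem exact_transfer_left {Y Y' Z W : Type*} [Zero W] {G : Y' → Z} {G' : Y → Z} {δ : Z → W}
    (V : Y → Y') (hV : Function.Surjective V) (hG : ∀ y, G' y = G (V y))
    (h : Function.Exact G δ) : Function.Exact G' δ := by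
  intro t
  rw [h t]
  constructor
  · rintro ⟨y', rfl⟩
    obtain ⟨y, rfl⟩ := hV y'
    exact ⟨y, hG y⟩
  · rintro ⟨y, rfl⟩
    exact ⟨V y, (hG y).symm⟩

theorem exact_transfer_right {W X Y Y' : Type*} [Zero Y] [Zero Y'] {δ : W → X} {F : X → Y'}
    {F' : X → Y} (V : Y → Y') (hV : Function.Injective V) (hV0 : V 0 = 0)
    (hF : ∀ x, F x = V (F' x)) (h : Function.Exact δ F) : Function.Exact δ F' := by
  intro s
  rw [← h s, hF]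
  constructor
  · intro hs
    rw [hs, hV0]
  · intro hs
    exact hV (by rw [hs, hV0])

end Transfer

end Groth.Agent.Helper6.CotT9
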