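import Mathlib
import Groth.Prelude.Def_CotT2
import Groth.Agent.Lib.Helper6.CotT9A

/-!
# Nine-term sequence: the composed presentation, degrees 0 and 1 (helper6)
-/

set_option autoImplicit false

open TensorProduct CotT

noncomputable section

namespace Groth.Agent.Helper6.CotT9

universe u

section BasisLemma

variable {B C : Type u} [CommRing B] [CommRing C] [Algebra B C]
variable {Z Y X : Type u} [AddCommGroup Z] [Module B Z] [AddCommGroup Y] [Module C Y]
  [AddCommGroup X] [Module C X]
variable {κ κ' : Type u} (eZ : Module.Basis κ B Z) (eY : Module.Basis (κ' ⊕ κ) C Y)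
  (eX : Module.Basis κ' C X)
variable (α : Z →ₛₗ[(algebraMap B C : B →+* C)] Y) (β : Y →ₛₗ[(algebraMap C C : C →+* C)] X)
variable (hα : ∀ k, α (eZ k) = eY (Sum.inr k)) (hβl : ∀ k', β (eY (Sum.inl k')) = eX k')
  (hβr : ∀ k, β (eY (Sum.inr k)) = 0)
variable (M : Type u) [AddCommGroup M] [Module C M] [Module B M] [IsScalarTower B C M]

include hβl in
lemma basis_inj (ψ ψ' : X →ₗ[C] M) (h : ∀ y, ψ (β y) = ψ' (β y)) : ψ = ψ' :=
  eX.ext fun k' => by rw [← hβl k']; exact h _

include hα hβr in
lemma basis_comp (z : Z) : β (α z) = 0 := by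
  have hz : z ∈ Submodule.span B (Set.range eZ) := eZ.mem_span z
  induction hz using Submodule.span_induction with
  | mem x hx =>
    obtain ⟨k, rfl⟩ := hx
    rw [hα, hβr]
  | zero => rw [map_zero, map_zero]
  | add x y _ _ hx hy => rw [map_add, map_add, hx, hy, add_zero]
  | smul b x _ hx => rw [LinearMap.map_smulₛₗ, LinearMap.map_smulₛₗ, hx, smul_zero]

include hα hβl hβr in
lemma basis_ex (ψ : Y →ₗ[C] M) (h : ∀ z, ψ (α z) = 0) :
    ∃ ψ' : X →ₗ[C] M, ∀ y, ψ' (β y) = ψ y := by
  refine ⟨eX.constr C (fun k' => ψ (eY (Sum.inl k'))), fun y => ?_⟩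
  have hy : y ∈ Submodule.span C (Set.range eY) := eY.mem_span y
  induction hy using Submodule.span_induction with
  | mem x hx =>
    obtain ⟨t, rfl⟩ := hx
    cases t with
    | inl k' => rw [hβl, Module.Basis.constr_basis]
    | inr k => rw [hβr, map_zero, ← hα, h]
  | zero => rw [map_zero, map_zero, map_zero]
  | add x y _ _ hx hy => rw [map_add, map_add, map_add, hx, hy]
  | smul c x _ hx =>
    rw [LinearMap.map_smulₛₗ, map_smul, map_smul, hx]
    rfl

include hα in
lemma basis_surj (χ : Z →ₗ[B] M) : ∃ ψ : Y →ₗ[C] M, ∀ z, ψ (α z) = χ z := by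
  refine ⟨eY.constr C (Sum.elim (fun _ => 0) (fun k => χ (eZ k))), fun z => ?_⟩
  have hz : z ∈ Submodule.span B (Set.range eZ) := eZ.mem_span z
  induction hz using Submodule.span_induction with
  | mem x hx =>
    obtain ⟨k, rfl⟩ := hx
    rw [hα, Module.Basis.constr_basis, Sum.elim_inr]
  | zero => rw [map_zero, map_zero, map_zero]
  | add x y _ _ hx hy => rw [map_add, map_add, map_add, hx, hy]
  | smul b x _ hx =>
    rw [LinearMap.map_smulₛₗ, map_smul, map_smul, hx, IsScalarTower.algebraMap_smul]

end BasisLemma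

section Triple

variable {A B C ι σ ι' σ' : Type u} [CommRing A] [CommRing B] [CommRing C]
variable [Algebra A B] [Algebra B C] [Algebra A C] [IsScalarTower A B C]
variable (P : Algebra.Presentation A B ι σ) (Q : Algebra.Presentation B C ι' σ')

/-- The morphism `P → Q.comp P` over `A = A`, `B → C`. -/
def homA : PresHom P (Q.comp P) where
  hom := Q.toGenerators.toComp P.toGenerators
  relVal s := Finsupp.single (Sum.inr s) 1
  jmap_relVal s := by
    rw [jmap_single, one_mul]
    show (Q.comp P).relation (Sum.inr s) =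
      (Q.toGenerators.toComp P.toGenerators).toAlgHom (P.relation s)
    rw [Algebra.Generators.toComp_toAlgHom]
    rfl

/-- The morphism `Q.comp P → Q` over `A → B`, `C = C`. -/
def homB : PresHom (Q.comp P) Q where
  hom := Q.toGenerators.ofComp P.toGenerators
  relVal := Sum.elim (fun s' => Finsupp.single s' 1) (fun _ => 0)
  jmap_relVal t := by
    cases t with
    | inl s' =>
      rw [Sum.elim_inl, jmap_single, one_mul]
      exact (Algebra.Presentation.comp_aeval_relation_inl Q P s').symm
    | inr s =>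
      rw [Sum.elim_inr, map_zero]
      show (0 : Q.toExtension.Ring) = (Q.toGenerators.ofComp P.toGenerators).toAlgHom
        (MvPolynomial.rename Sum.inr (P.relation s))
      rw [Algebra.Generators.toAlgHom_ofComp_rename]
      have h0 : algebraMap P.toGenerators.Ring B (P.relation s) = 0 := algebraMap_rel P s
      rw [h0, map_zero]
      rfl

lemma homA_ringHom (r : P.toExtension.Ring) :
    (homA P Q).ringHom r = MvPolynomial.rename Sum.inr r :=
  DFunLike.congr_fun (Algebra.Generators.toComp_toAlgHom Q.toGenerators P.toGenerators) r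

lemma homA_relVal (s : σ) : (homA P Q).relVal s = Finsupp.single (Sum.inr s) 1 := rfl

lemma homB_relVal_inl (s' : σ') : (homB P Q).relVal (Sum.inl s') = Finsupp.single s' 1 := rfl

lemma homB_relVal_inr (s : σ) : (homB P Q).relVal (Sum.inr s) = 0 := rfl

lemma homB_ringHom_surjective : Function.Surjective (homB P Q).ringHom :=
  Algebra.Generators.toAlgHom_ofComp_surjective Q.toGenerators P.toGenerators

/-! ### values on the bases of `L₁` -/

lemma homA_L1map_basis (s : σ) :
    (homA P Q).L1map (L1basis P s) = L1basis (Q.comp P) (Sum.inr s) := by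
  rw [L1basis_apply, L1basis_apply, PresHom.L1map_tmul, PresHom.relModMap_single, map_one,
    map_one, one_smul, homA_relVal]

lemma homB_L1map_basis_inl (s' : σ') :
    (homB P Q).L1map (L1basis (Q.comp P) (Sum.inl s')) = L1basis Q s' := by
  rw [L1basis_apply, L1basis_apply, PresHom.L1map_tmul, PresHom.relModMap_single, map_one,
    map_one, one_smul, homB_relVal_inl]

lemma homB_L1map_basis_inr (s : σ) :
    (homB P Q).L1map (L1basis (Q.comp P) (Sum.inr s)) = 0 := by
  rw [L1basis_apply, PresHom.L1map_tmul, PresHom.relModMap_single, homB_relVal_inr, smul_zero,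
    TensorProduct.tmul_zero]

/-! ### values on the bases of `L₀` -/

section
attribute [local instance] SMulCommClass.of_commMonoid

lemma homA_L0map_basis (i : ι) :
    (homA P Q).L0map (P.cotangentSpaceBasis i) = (Q.comp P).cotangentSpaceBasis (Sum.inr i) := by
  classical
  rw [PresHom.L0map_apply]
  apply (Q.comp P).cotangentSpaceBasis.repr.injective
  ext j
  rw [Algebra.Generators.repr_CotangentSpaceMap, Module.Basis.repr_self]
  show MvPolynomial.aeval (Q.comp P).val (MvPolynomial.pderiv j (MvPolynomial.X (Sum.inr i))) = _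
  simp only [MvPolynomial.pderiv_X, Finsupp.single_apply, Pi.single_apply]
  split_ifs <;> simp_all

lemma homB_L0map_basis_inl (i' : ι') :
    (homB P Q).L0map ((Q.comp P).cotangentSpaceBasis (Sum.inl i')) = Q.cotangentSpaceBasis i' := by
  classical
  rw [PresHom.L0map_apply]
  apply Q.cotangentSpaceBasis.repr.injective
  ext j
  rw [Algebra.Generators.repr_CotangentSpaceMap, Module.Basis.repr_self]
  show MvPolynomial.aeval Q.val (MvPolynomial.pderiv j (MvPolynomial.X i')) = _
  simp only [MvPolynomial.pderiv_X, Finsupp.single_apply, Pi.single_apply]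
  split_ifs <;> simp_all

lemma homB_L0map_basis_inr (i : ι) :
    (homB P Q).L0map ((Q.comp P).cotangentSpaceBasis (Sum.inr i)) = 0 := by
  classical
  rw [PresHom.L0map_apply]
  apply Q.cotangentSpaceBasis.repr.injective
  ext j
  rw [Algebra.Generators.repr_CotangentSpaceMap, map_zero]
  show MvPolynomial.aeval Q.val (MvPolynomial.pderiv j (MvPolynomial.C (P.val i))) = _
  rw [MvPolynomial.pderiv_C, map_zero]
  rfl

end

variable (M : Type u) [AddCommGroup M] [Module C M] [Module B M] [IsScalarTower B C M]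

/-! ### degree 0 -/

theorem pull0B_injective : Function.Injective ((homB P Q).pull0 M) := by
  intro ψ ψ' h
  exact basis_inj (Q.comp P).cotangentSpaceBasis Q.cotangentSpaceBasis (homB P Q).L0map
    (homB_L0map_basis_inl P Q) M ψ ψ' (fun y => LinearMap.congr_fun h y)

theorem pull0A_pull0B (ψ : L0 Q →ₗ[C] M) : (homA P Q).pull0 M ((homB P Q).pull0 M ψ) = 0 := by
  apply LinearMap.ext
  intro z
  show ψ ((homB P Q).L0map ((homA P Q).L0map z)) = 0
  rw [basis_comp P.cotangentSpaceBasis (Q.comp P).cotangentSpaceBasis (homA P Q).L0map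
    (homB P Q).L0map (homA_L0map_basis P Q) (homB_L0map_basis_inr P Q) z, map_zero]

theorem pull0_exact (ψ : L0 (Q.comp P) →ₗ[C] M) (h : (homA P Q).pull0 M ψ = 0) :
    ∃ ψ', (homB P Q).pull0 M ψ' = ψ := by
  obtain ⟨ψ', hψ'⟩ := basis_ex P.cotangentSpaceBasis (Q.comp P).cotangentSpaceBasis
    Q.cotangentSpaceBasis (homA P Q).L0map (homB P Q).L0map (homA_L0map_basis P Q)
    (homB_L0map_basis_inl P Q) (homB_L0map_basis_inr P Q) M ψ (fun z => LinearMap.congr_fun h z)
  exact ⟨ψ', LinearMap.ext hψ'⟩

theorem pull0A_surjective : Function.Surjective ((homA P Q).pull0 M) := by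
  intro χ
  obtain ⟨ψ, hψ⟩ := basis_surj P.cotangentSpaceBasis (Q.comp P).cotangentSpaceBasis
    (homA P Q).L0map (homA_L0map_basis P Q) M χ
  exact ⟨ψ, LinearMap.ext hψ⟩

/-! ### degree 1 -/

theorem pull1B_injective : Function.Injective ((homB P Q).pull1 M) := by
  intro ψ ψ' h
  exact basis_inj (L1basis (Q.comp P)) (L1basis Q) (homB P Q).L1map
    (homB_L1map_basis_inl P Q) M ψ ψ' (fun y => LinearMap.congr_fun h y)

theorem pull1A_pull1B (ψ : L1 Q →ₗ[C] M) : (homA P Q).pull1 M ((homB P Q).pull1 M ψ) = 0 := by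
  apply LinearMap.ext
  intro z
  show ψ ((homB P Q).L1map ((homA P Q).L1map z)) = 0
  rw [basis_comp (L1basis P) (L1basis (Q.comp P)) (homA P Q).L1map
    (homB P Q).L1map (homA_L1map_basis P Q) (homB_L1map_basis_inr P Q) z, map_zero]

theorem pull1_exact (ψ : L1 (Q.comp P) →ₗ[C] M) (h : (homA P Q).pull1 M ψ = 0) :
    ∃ ψ', (homB P Q).pull1 M ψ' = ψ := by
  obtain ⟨ψ', hψ'⟩ := basis_ex (L1basis P) (L1basis (Q.comp P))
    (L1basis Q) (homA P Q).L1map (homB P Q).L1map (homA_L1map_basis P Q)
    (homB_L1map_basis_inl P Q) (homB_L1map_basis_inr P Q) M ψ (fun z => LinearMap.congr_fun h z)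
  exact ⟨ψ', LinearMap.ext hψ'⟩

theorem pull1A_surjective : Function.Surjective ((homA P Q).pull1 M) := by
  intro χ
  obtain ⟨ψ, hψ⟩ := basis_surj (L1basis P) (L1basis (Q.comp P))
    (homA P Q).L1map (homA_L1map_basis P Q) M χ
  exact ⟨ψ, LinearMap.ext hψ⟩

end Triple

end Groth.Agent.Helper6.CotT9

end
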