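import Mathlib
import Groth.Prelude.Def_CotT2
import Groth.Agent.Lib.Helper6.CotT9A
import Groth.Agent.Lib.Helper6.CotT9F

/-!
# Nine-term sequence: the composed presentation, degree 2 (helper6)
-/

set_option autoImplicit false

open TensorProduct CotT

noncomputable section

namespace Groth.Agent.Helper6.CotT9

universe u

section Flat

variable (A ι' ι : Type u) [CommRing A]

/-- The coefficient of `X^m` (in the `ι'`-variables), a polynomial in the `ι`-variables. -/
def kap (m : ι' →₀ ℕ) (x : MvPolynomial (ι' ⊕ ι) A) : MvPolynomial ι A :=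
  MvPolynomial.coeff m (MvPolynomial.sumAlgEquiv A ι' ι x)

lemma kap_zero (m : ι' →₀ ℕ) : kap A ι' ι m 0 = 0 := by
  rw [kap, map_zero, MvPolynomial.coeff_zero]

lemma kap_add (m : ι' →₀ ℕ) (x y : MvPolynomial (ι' ⊕ ι) A) :
    kap A ι' ι m (x + y) = kap A ι' ι m x + kap A ι' ι m y := by
  rw [kap, kap, kap, map_add, MvPolynomial.coeff_add]

lemma sumAlgEquiv_rename_inr (r : MvPolynomial ι A) :
    MvPolynomial.sumAlgEquiv A ι' ι (MvPolynomial.rename Sum.inr r) = MvPolynomial.C r :=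
  AlgHom.congr_fun (MvPolynomial.sumAlgEquiv_comp_rename_inr A ι' ι) r

lemma kap_rename_mul (m : ι' →₀ ℕ) (r : MvPolynomial ι A) (x : MvPolynomial (ι' ⊕ ι) A) :
    kap A ι' ι m (MvPolynomial.rename Sum.inr r * x) = r * kap A ι' ι m x := by
  rw [kap, kap, map_mul, sumAlgEquiv_rename_inr, MvPolynomial.coeff_C_mul]

/-- the monomial `X^m` in the `ι'`-variables -/
def mu (m : ι' →₀ ℕ) : MvPolynomial (ι' ⊕ ι) A :=
  (MvPolynomial.sumAlgEquiv A ι' ι).symm (MvPolynomial.monomial m 1)

lemma reconstruct (x : MvPolynomial (ι' ⊕ ι) A) (𝓜 : Finset (ι' →₀ ℕ))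
    (h𝓜 : (MvPolynomial.sumAlgEquiv A ι' ι x).support ⊆ 𝓜) :
    x = ∑ m ∈ 𝓜, MvPolynomial.rename Sum.inr (kap A ι' ι m x) * mu A ι' ι m := by
  apply (MvPolynomial.sumAlgEquiv A ι' ι).injective
  rw [map_sum]
  have h1 : ∀ m ∈ 𝓜, MvPolynomial.sumAlgEquiv A ι' ι
      (MvPolynomial.rename Sum.inr (kap A ι' ι m x) * mu A ι' ι m) =
      MvPolynomial.monomial m (MvPolynomial.coeff m (MvPolynomial.sumAlgEquiv A ι' ι x)) := by
    intro m _
    rw [map_mul, sumAlgEquiv_rename_inr, mu, AlgEquiv.apply_symm_apply,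
      MvPolynomial.C_mul_monomial, mul_one]
    rfl
  rw [Finset.sum_congr rfl h1]
  have h2 : ∀ m ∈ 𝓜, m ∉ (MvPolynomial.sumAlgEquiv A ι' ι x).support →
      MvPolynomial.monomial m (MvPolynomial.coeff m (MvPolynomial.sumAlgEquiv A ι' ι x)) = 0 := by
    intro m _ hm
    have h0 : MvPolynomial.coeff m (MvPolynomial.sumAlgEquiv A ι' ι x) = 0 := by
      by_contra h
      exact hm (MvPolynomial.mem_support_iff.2 h)
    rw [h0, map_zero]
  rw [← Finset.sum_subset h𝓜 h2]
  exact (MvPolynomial.support_sum_monomial_coeff _).symm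

lemma lc_mapRange_kap {σ : Type u} (rel : σ → MvPolynomial ι A) (m : ι' →₀ ℕ)
    (f' : σ →₀ MvPolynomial (ι' ⊕ ι) A) :
    Finsupp.linearCombination (MvPolynomial ι A) rel
        (f'.mapRange (kap A ι' ι m) (kap_zero A ι' ι m)) =
      kap A ι' ι m (Finsupp.linearCombination (MvPolynomial (ι' ⊕ ι) A)
        (fun s => MvPolynomial.rename (Sum.inr : ι → ι' ⊕ ι) (rel s)) f') := by
  induction f' using Finsupp.induction_linear with
  | zero => rw [Finsupp.mapRange_zero, map_zero, map_zero, kap_zero]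
  | add f g hf hg =>
    rw [Finsupp.mapRange_add (kap_add A ι' ι m), map_add, map_add, kap_add, hf, hg]
  | single s r =>
    rw [Finsupp.mapRange_single, Finsupp.linearCombination_single,
      Finsupp.linearCombination_single, smul_eq_mul, smul_eq_mul, mul_comm r, kap_rename_mul,
      mul_comm]

theorem flat_pure {σ : Type u} (rel : σ → MvPolynomial ι A)
    (f' : σ →₀ MvPolynomial (ι' ⊕ ι) A)
    (h : Finsupp.linearCombination (MvPolynomial (ι' ⊕ ι) A)
      (fun s => MvPolynomial.rename (Sum.inr : ι → ι' ⊕ ι) (rel s)) f' = 0) :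
    ∃ (𝓜 : Finset (ι' →₀ ℕ)) (p : (ι' →₀ ℕ) → (σ →₀ MvPolynomial ι A)),
      (∀ m, Finsupp.linearCombination (MvPolynomial ι A) rel (p m) = 0) ∧
      ∀ s, f' s = ∑ m ∈ 𝓜, mu A ι' ι m *
        MvPolynomial.rename (Sum.inr : ι → ι' ⊕ ι) (p m s) := by
  classical
  let 𝓜 : Finset (ι' →₀ ℕ) :=
    f'.support.biUnion (fun s => (MvPolynomial.sumAlgEquiv A ι' ι (f' s)).support)
  refine ⟨𝓜, fun m => f'.mapRange (kap A ι' ι m) (kap_zero A ι' ι m), fun m => ?_, fun s => ?_⟩
  · rw [lc_mapRange_kap, h, kap_zero]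
  · have hs : (MvPolynomial.sumAlgEquiv A ι' ι (f' s)).support ⊆ 𝓜 := by
      by_cases hs : s ∈ f'.support
      · exact Finset.subset_biUnion_of_mem
          (fun s => (MvPolynomial.sumAlgEquiv A ι' ι (f' s)).support) hs
      · have h0 : f' s = 0 := by simpa [Finsupp.mem_support_iff] using hs
        rw [h0, map_zero, MvPolynomial.support_zero]
        exact Finset.empty_subset _
    refine (reconstruct A ι' ι (f' s) 𝓜 hs).trans ?_
    refine Finset.sum_congr rfl (fun m _ => ?_)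
    rw [Finsupp.mapRange_apply, mul_comm]

lemma exists_finsupp_of_mem_span {σ : Type u} (rel : σ → MvPolynomial ι A)
    (x : MvPolynomial (ι' ⊕ ι) A)
    (hx : x ∈ Ideal.span (⇑(MvPolynomial.rename (Sum.inr : ι → ι' ⊕ ι)) '' Set.range rel)) :
    ∃ f' : σ →₀ MvPolynomial (ι' ⊕ ι) A,
      Finsupp.linearCombination (MvPolynomial (ι' ⊕ ι) A)
        (fun s => MvPolynomial.rename (Sum.inr : ι → ι' ⊕ ι) (rel s)) f' = x := by
  rw [← Set.range_comp] at hx
  obtain ⟨c, hc⟩ := Finsupp.mem_ideal_span_range_iff_exists_finsupp.1 hx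
  exact ⟨c, by rw [Finsupp.linearCombination_apply]; exact hc⟩

end Flat

section Triple

variable {A B C ι σ ι' σ' : Type u} [CommRing A] [CommRing B] [CommRing C]
variable [Algebra A B] [Algebra B C] [Algebra A C] [IsScalarTower A B C]
variable (P : Algebra.Presentation A B ι σ) (Q : Algebra.Presentation B C ι' σ')

lemma homA_relModMap (f : relMod P) :
    (homA P Q).relModMap f =
      (f.mapRange (homA P Q).ringHom (map_zero _)).mapDomain Sum.inr := by
  induction f using Finsupp.induction_linear with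
  | zero => rw [map_zero, Finsupp.mapRange_zero, Finsupp.mapDomain_zero]
  | add f g hf hg =>
    rw [map_add, Finsupp.mapRange_add (map_add _), Finsupp.mapDomain_add, hf, hg]
  | single s r =>
    rw [PresHom.relModMap_single, Finsupp.mapRange_single, Finsupp.mapDomain_single,
      homA_relVal, Finsupp.smul_single, smul_eq_mul, mul_one]

lemma homA_relModMap_inl (f : relMod P) (s' : σ') :
    ((homA P Q).relModMap f) (Sum.inl s') = 0 := by
  rw [homA_relModMap, Finsupp.mapDomain_of_notMem_range]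
  rintro ⟨s, hs⟩
  exact Sum.inr_ne_inl hs

lemma homA_relModMap_inr (f : relMod P) (s : σ) :
    ((homA P Q).relModMap f) (Sum.inr s) = (homA P Q).ringHom (f s) := by
  rw [homA_relModMap, Finsupp.mapDomain_apply Sum.inr_injective, Finsupp.mapRange_apply]

lemma jmap_mapDomain_inr (f' : σ →₀ (Q.comp P).toExtension.Ring) :
    jmap (Q.comp P) (f'.mapDomain Sum.inr) =
      Finsupp.linearCombination (Q.comp P).toExtension.Ring
        (fun s => rel (Q.comp P) (Sum.inr s)) f' :=
  Finsupp.linearCombination_mapDomain _ _ _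

lemma homB_relModMap_apply (f : relMod (Q.comp P)) (s' : σ') :
    ((homB P Q).relModMap f) s' = (homB P Q).ringHom (f (Sum.inl s')) := by
  classical
  induction f using Finsupp.induction_linear with
  | zero => rw [map_zero, Finsupp.zero_apply, Finsupp.zero_apply, map_zero]
  | add f g hf hg => rw [map_add, Finsupp.add_apply, Finsupp.add_apply, map_add, hf, hg]
  | single t r =>
    rw [PresHom.relModMap_single]
    cases t with
    | inl t' =>
      rw [homB_relVal_inl, Finsupp.smul_single, smul_eq_mul, mul_one, Finsupp.single_apply,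
        Finsupp.single_apply]
      by_cases h : t' = s'
      · rw [if_pos h, if_pos (congrArg Sum.inl h)]
      · rw [if_neg h, if_neg (fun h' => h (Sum.inl_injective h')), map_zero]
    | inr t =>
      rw [homB_relVal_inr, smul_zero, Finsupp.zero_apply, Finsupp.single_apply,
        if_neg Sum.inr_ne_inl, map_zero]

lemma homB_relModMap_surjective : Function.Surjective (homB P Q).relModMap := by
  intro g
  induction g using Finsupp.induction_linear with
  | zero => exact ⟨0, map_zero _⟩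
  | add f g hf hg =>
    obtain ⟨x, rfl⟩ := hf
    obtain ⟨y, rfl⟩ := hg
    exact ⟨x + y, map_add _ _ _⟩
  | single s' r =>
    obtain ⟨r2, rfl⟩ := homB_ringHom_surjective P Q r
    refine ⟨Finsupp.single (Sum.inl s') r2, ?_⟩
    rw [PresHom.relModMap_single, homB_relVal_inl, Finsupp.smul_single, smul_eq_mul, mul_one]

lemma exists_of_ringHom_eq_zero (x : (Q.comp P).toExtension.Ring)
    (hx : (homB P Q).ringHom x = 0) :
    ∃ f' : σ →₀ (Q.comp P).toExtension.Ring,
      jmap (Q.comp P) (f'.mapDomain Sum.inr) = x := by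
  have h1 : x ∈ RingHom.ker (Q.toGenerators.ofComp P.toGenerators).toAlgHom := hx
  rw [← Algebra.Generators.map_toComp_ker, ← P.span_range_relation_eq_ker, Ideal.map_span] at h1
  rw [Algebra.Generators.toComp_toAlgHom] at h1
  obtain ⟨f0, hf0⟩ := exists_finsupp_of_mem_span A ι' ι P.relation x h1
  refine ⟨f0, ?_⟩
  exact (jmap_mapDomain_inr P Q f0).trans hf0

lemma homB_relModMap_mapDomain_inr (f' : σ →₀ (Q.comp P).toExtension.Ring) :
    (homB P Q).relModMap (f'.mapDomain Sum.inr) = 0 := by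
  ext s'
  rw [homB_relModMap_apply, Finsupp.mapDomain_of_notMem_range, map_zero, Finsupp.zero_apply]
  rintro ⟨s, hs⟩
  exact Sum.inr_ne_inl hs

lemma exists_trivRel_lift (t : relMod Q) (ht : t ∈ trivRel Q) :
    ∃ t2 ∈ trivRel (Q.comp P), (homB P Q).relModMap t2 = t := by
  induction ht using Submodule.span_induction with
  | mem x hx =>
    obtain ⟨a, b, rfl⟩ := hx
    obtain ⟨a2, rfl⟩ := homB_relModMap_surjective P Q a
    obtain ⟨b2, rfl⟩ := homB_relModMap_surjective P Q b
    refine ⟨jmap (Q.comp P) a2 • b2 - jmap (Q.comp P) b2 • a2,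
      Submodule.subset_span ⟨a2, b2, rfl⟩, ?_⟩
    rw [map_sub, LinearMap.map_smulₛₗ, LinearMap.map_smulₛₗ, PresHom.jmap_relModMap,
      PresHom.jmap_relModMap]
  | zero => exact ⟨0, Submodule.zero_mem _, map_zero _⟩
  | add x y _ _ hx hy =>
    obtain ⟨x2, hx2, rfl⟩ := hx
    obtain ⟨y2, hy2, rfl⟩ := hy
    exact ⟨x2 + y2, Submodule.add_mem _ hx2 hy2, map_add _ _ _⟩
  | smul r x _ hx =>
    obtain ⟨x2, hx2, rfl⟩ := hx
    obtain ⟨r2, rfl⟩ := homB_ringHom_surjective P Q r
    exact ⟨r2 • x2, Submodule.smul_mem _ _ hx2, LinearMap.map_smulₛₗ _ _ _⟩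

/-- the finsupps supported on the old relations -/
abbrev inrRange : Submodule (Q.comp P).toExtension.Ring (relMod (Q.comp P)) :=
  LinearMap.range (Finsupp.lmapDomain (Q.comp P).toExtension.Ring (Q.comp P).toExtension.Ring
    (Sum.inr : σ → σ' ⊕ σ))

lemma mem_sup_of_inl_ker (g : relMod (Q.comp P))
    (hg : ∀ s', (homB P Q).ringHom (g (Sum.inl s')) = 0) :
    g ∈ trivRel (Q.comp P) ⊔ inrRange P Q := by
  have key : ∀ t, Finsupp.single t (g t) ∈ trivRel (Q.comp P) ⊔ inrRange P Q := by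
    intro t
    cases t with
    | inr s =>
      exact Submodule.mem_sup_right ⟨Finsupp.single s (g (Sum.inr s)), Finsupp.mapDomain_single⟩
    | inl s' =>
      obtain ⟨u, hu⟩ := exists_of_ringHom_eq_zero P Q _ (hg s')
      have e : Finsupp.single (Sum.inl s') (g (Sum.inl s')) =
          (jmap (Q.comp P) (u.mapDomain Sum.inr) •
              (Finsupp.single (Sum.inl s') 1 : relMod (Q.comp P)) -
            jmap (Q.comp P) (Finsupp.single (Sum.inl s') 1) • u.mapDomain Sum.inr) +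
          jmap (Q.comp P) (Finsupp.single (Sum.inl s') 1) • u.mapDomain Sum.inr := by
        rw [sub_add_cancel, hu, Finsupp.smul_single, smul_eq_mul, mul_one]
      rw [e]
      exact Submodule.add_mem _
        (Submodule.mem_sup_left (Submodule.subset_span ⟨_, _, rfl⟩))
        (Submodule.mem_sup_right (Submodule.smul_mem _ _ ⟨u, rfl⟩))
  have h2 : g.sum Finsupp.single ∈ trivRel (Q.comp P) ⊔ inrRange P Q :=
    Submodule.sum_mem _ (fun t _ => key t)
  rwa [Finsupp.sum_single] at h2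

/-- `mu` with the type of the presentation's ring -/
def muP (m : ι' →₀ ℕ) : (Q.comp P).toExtension.Ring := mu A ι' ι m

lemma flat_key (f' : σ →₀ (Q.comp P).toExtension.Ring)
    (hf' : jmap (Q.comp P) (f'.mapDomain Sum.inr) = 0) :
    f'.mapDomain Sum.inr ∈ Submodule.span (Q.comp P).toExtension.Ring
      ((homA P Q).relModMap '' (relKer P : Set (relMod P))) := by
  have h : Finsupp.linearCombination (MvPolynomial (ι' ⊕ ι) A)
      (fun s => MvPolynomial.rename (Sum.inr : ι → ι' ⊕ ι) (P.relation s)) f' = 0 :=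
    (jmap_mapDomain_inr P Q f').symm.trans hf'
  obtain ⟨𝓜, p0, hp0, hsum0⟩ := flat_pure A ι' ι P.relation f' h
  obtain ⟨p, hpeq⟩ : ∃ p : (ι' →₀ ℕ) → relMod P, ∀ m, p m = p0 m := ⟨p0, fun _ => rfl⟩
  have hp : ∀ m, p m ∈ relKer P := by
    intro m
    rw [hpeq m]
    exact hp0 m
  have hterm : ∀ m s, mu A ι' ι m * MvPolynomial.rename (Sum.inr : ι → ι' ⊕ ι) (p0 m s) =
      muP P Q m * (homA P Q).ringHom (p m s) := by
    intro m s
    rw [hpeq m, homA_ringHom]
    rfl
  have hsum : ∀ s, f' s = ∑ m ∈ 𝓜, muP P Q m * (homA P Q).ringHom (p m s) := by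
    intro s
    refine (hsum0 s).trans ?_
    exact Finset.sum_congr rfl (fun m _ => hterm m s)
  have h4 : f'.mapDomain Sum.inr =
      ∑ m ∈ 𝓜, muP P Q m • (homA P Q).relModMap (p m) := by
    refine Finsupp.ext fun t => ?_
    rw [Finsupp.finsetSum_apply]
    cases t with
    | inl s' =>
      rw [Finsupp.mapDomain_of_notMem_range _ _ (by
        rintro ⟨s, hs⟩
        exact Sum.inr_ne_inl hs)]
      symm
      apply Finset.sum_eq_zero
      intro m _
      rw [Finsupp.smul_apply, homA_relModMap_inl, smul_zero]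
    | inr s =>
      rw [Finsupp.mapDomain_apply Sum.inr_injective, hsum s]
      refine Finset.sum_congr rfl (fun m _ => ?_)
      rw [Finsupp.smul_apply, homA_relModMap_inr, smul_eq_mul]
  rw [h4]
  exact Submodule.sum_mem _ (fun m _ => Submodule.smul_mem _ _
    (Submodule.subset_span ⟨p m, hp m, rfl⟩))

lemma mem_sup_span (q2 : relMod (Q.comp P)) (hq2 : q2 ∈ relKer (Q.comp P))
    (hb : (homB P Q).relModMap q2 ∈ trivRel Q) :
    q2 ∈ trivRel (Q.comp P) ⊔ Submodule.span (Q.comp P).toExtension.Ring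
      ((homA P Q).relModMap '' (relKer P : Set (relMod P))) := by
  obtain ⟨t2, ht2, hbt⟩ := exists_trivRel_lift P Q _ hb
  have hg : ∀ s', (homB P Q).ringHom ((q2 - t2) (Sum.inl s')) = 0 := by
    intro s'
    rw [← homB_relModMap_apply, map_sub, hbt, sub_self, Finsupp.zero_apply]
  obtain ⟨t3, ht3, y, ⟨f', rfl⟩, hsum⟩ :=
    Submodule.mem_sup.1 (mem_sup_of_inl_ker P Q (q2 - t2) hg)
  have hsum' : t3 + f'.mapDomain Sum.inr = q2 - t2 := hsum
  have h1 : f'.mapDomain Sum.inr = q2 - t2 - t3 := by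
    rw [← hsum']
    abel
  have hj : jmap (Q.comp P) (f'.mapDomain Sum.inr) = 0 := by
    have e1 : jmap (Q.comp P) q2 = 0 := hq2
    have e2 : jmap (Q.comp P) t2 = 0 := trivRel_le_relKer _ ht2
    have e3 : jmap (Q.comp P) t3 = 0 := trivRel_le_relKer _ ht3
    rw [h1, map_sub, map_sub, e1, e2, e3, sub_zero, sub_zero]
  have hflat := flat_key P Q f' hj
  have h5 : q2 = (t2 + t3) + f'.mapDomain Sum.inr := by
    rw [h1]
    abel
  rw [h5]
  exact Submodule.add_mem _ (Submodule.mem_sup_left (Submodule.add_mem _ ht2 ht3))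
    (Submodule.mem_sup_right hflat)

variable (M : Type u) [AddCommGroup M] [Module C M]

/-- the relations `q` with `χ [1 ⊗ q] = 0` -/
def killSub (χ : L2 (Q.comp P) →ₗ[C] M) :
    Submodule (Q.comp P).toExtension.Ring (relMod (Q.comp P)) where
  carrier := {f | ∃ hf : f ∈ relKer (Q.comp P),
    χ (Submodule.Quotient.mk ((1 : C) ⊗ₜ[(Q.comp P).toExtension.Ring]
      (⟨f, hf⟩ : relKer (Q.comp P)))) = 0}
  zero_mem' := ⟨Submodule.zero_mem _, by
    have e : (⟨0, Submodule.zero_mem _⟩ : relKer (Q.comp P)) = 0 := rfl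
    rw [e, TensorProduct.tmul_zero, Submodule.Quotient.mk_zero, map_zero]⟩
  add_mem' := by
    rintro f g ⟨hf, hf'⟩ ⟨hg, hg'⟩
    refine ⟨Submodule.add_mem _ hf hg, ?_⟩
    have e : (⟨f + g, Submodule.add_mem _ hf hg⟩ : relKer (Q.comp P)) = ⟨f, hf⟩ + ⟨g, hg⟩ := rfl
    rw [e, TensorProduct.tmul_add, Submodule.Quotient.mk_add, map_add, hf', hg', add_zero]
  smul_mem' := by
    rintro r f ⟨hf, hf'⟩
    refine ⟨Submodule.smul_mem _ r hf, ?_⟩
    have e : (⟨r • f, Submodule.smul_mem _ r hf⟩ : relKer (Q.comp P)) = r • ⟨f, hf⟩ := rfl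
    have e2 : (1 : C) ⊗ₜ[(Q.comp P).toExtension.Ring] (r • (⟨f, hf⟩ : relKer (Q.comp P))) =
        algebraMap (Q.comp P).toExtension.Ring C r •
          ((1 : C) ⊗ₜ[(Q.comp P).toExtension.Ring] (⟨f, hf⟩ : relKer (Q.comp P))) :=
      (algebraMap_smul_one_tmul (N := relKer (Q.comp P)) (Q.comp P) r ⟨f, hf⟩).symm
    rw [e, e2, Submodule.Quotient.mk_smul, map_smul, hf', smul_zero]

theorem homB_L2map_surjective : Function.Surjective (homB P Q).L2map := by
  intro z
  obtain ⟨qQ, rfl⟩ := exists_mk_one_tmul Q z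
  obtain ⟨f, hf⟩ := homB_relModMap_surjective P Q (qQ : relMod Q)
  have h1 : (homB P Q).ringHom (jmap (Q.comp P) f) = 0 := by
    rw [← PresHom.jmap_relModMap, hf]
    exact qQ.2
  obtain ⟨f', hf'⟩ := exists_of_ringHom_eq_zero P Q _ h1
  have hq2 : f - f'.mapDomain Sum.inr ∈ relKer (Q.comp P) := by
    show jmap (Q.comp P) (f - f'.mapDomain Sum.inr) = 0
    rw [map_sub, hf', sub_self]
  obtain ⟨q2, hq2v⟩ : ∃ q2 : relKer (Q.comp P),
      (q2 : relMod (Q.comp P)) = f - f'.mapDomain Sum.inr := ⟨⟨_, hq2⟩, rfl⟩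
  refine ⟨(Submodule.Quotient.mk ((1 : C) ⊗ₜ[(Q.comp P).toExtension.Ring] q2) :
    L2 (Q.comp P)), ?_⟩
  have e : (homB P Q).relKerMap q2 = qQ := by
    apply Subtype.ext
    rw [PresHom.relKerMap_coe, hq2v, map_sub, homB_relModMap_mapDomain_inr, sub_zero, hf]
  exact (PresHom.L2map_mk_tmul (homB P Q) (1 : C) q2).trans (by rw [map_one, e])

theorem homB_L2map_homA_L2map (z : L2 P) : (homB P Q).L2map ((homA P Q).L2map z) = 0 := by
  obtain ⟨q, rfl⟩ := exists_mk_one_tmul P z
  have e : (homB P Q).relKerMap ((homA P Q).relKerMap q) = 0 := by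
    apply Subtype.ext
    show (homB P Q).relModMap ((homA P Q).relModMap (q : relMod P)) = 0
    rw [homA_relModMap, homB_relModMap_mapDomain_inr]
  rw [PresHom.L2map_mk_tmul (homA P Q) (1 : B) q,
    PresHom.L2map_mk_tmul (homB P Q) _ ((homA P Q).relKerMap q), e, TensorProduct.tmul_zero,
    Submodule.Quotient.mk_zero]

theorem L2_exact (χ : L2 (Q.comp P) →ₗ[C] M) (hχ : ∀ z, χ ((homA P Q).L2map z) = 0)
    (y : L2 (Q.comp P)) (hy : (homB P Q).L2map y = 0) : χ y = 0 := by
  obtain ⟨q2, rfl⟩ := exists_mk_one_tmul (Q.comp P) y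
  rw [PresHom.L2map_mk_tmul (homB P Q) (1 : C) q2, map_one] at hy
  have h1 : ((homB P Q).relKerMap q2 : relMod Q) ∈ trivRel Q :=
    mem_trivRel_of_mk_eq_zero Q _ hy
  have h2 := mem_sup_span P Q (q2 : relMod (Q.comp P)) q2.2 h1
  have h3 : trivRel (Q.comp P) ⊔ Submodule.span (Q.comp P).toExtension.Ring
      ((homA P Q).relModMap '' (relKer P : Set (relMod P))) ≤ killSub P Q M χ := by
    refine sup_le ?_ (Submodule.span_le.2 ?_)
    · intro t ht
      refine ⟨trivRel_le_relKer _ ht, ?_⟩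
      rw [mk_one_tmul_eq_zero_of_mem (Q.comp P) ⟨t, trivRel_le_relKer _ ht⟩ ht, map_zero]
    · rintro _ ⟨p, hp, rfl⟩
      refine ⟨((homA P Q).relKerMap ⟨p, hp⟩).2, ?_⟩
      have h4 := hχ (Submodule.Quotient.mk ((1 : B) ⊗ₜ ⟨p, hp⟩))
      rw [PresHom.L2map_mk_tmul (homA P Q) (1 : B) ⟨p, hp⟩, map_one] at h4
      exact h4
  obtain ⟨hq, hq'⟩ := h3 h2
  exact hq'

variable [Module B M] [IsScalarTower B C M]

/-! ### degree 2, pull-back form -/

theorem pull2B_injective : Function.Injective ((homB P Q).pull2 M) := by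
  intro ψ ψ' h
  apply LinearMap.ext
  intro x
  obtain ⟨y, rfl⟩ := homB_L2map_surjective P Q x
  exact LinearMap.congr_fun h y

theorem pull2A_pull2B (ψ : L2 Q →ₗ[C] M) : (homA P Q).pull2 M ((homB P Q).pull2 M ψ) = 0 := by
  apply LinearMap.ext
  intro z
  show ψ ((homB P Q).L2map ((homA P Q).L2map z)) = 0
  rw [homB_L2map_homA_L2map, map_zero]

theorem pull2_exact (χ : L2 (Q.comp P) →ₗ[C] M) (h : (homA P Q).pull2 M χ = 0) :
    ∃ χ', (homB P Q).pull2 M χ' = χ := by
  have hχ : ∀ z, χ ((homA P Q).L2map z) = 0 := fun z => LinearMap.congr_fun h z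
  let βlin : L2 (Q.comp P) →ₗ[C] L2 Q := PresHom.linOfSemilinear (L2 Q) (homB P Q).L2map
  have hsurj : Function.Surjective βlin := homB_L2map_surjective P Q
  have hker : LinearMap.ker βlin ≤ LinearMap.ker χ := by
    intro y hy
    exact L2_exact P Q M χ hχ y hy
  refine ⟨factorThru βlin hsurj χ hker, ?_⟩
  apply LinearMap.ext
  intro y
  exact factorThru_apply βlin hsurj χ hker y

end Triple

end Groth.Agent.Helper6.CotT9

end
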