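import Mathlib
import Groth.Prelude.Def_CotT2
import Groth.Agent.Lib.Helper6.CotT9A
import Groth.Agent.Lib.Helper6.CotT9B
import Groth.Agent.Lib.Helper6.CotT9D
import Groth.Agent.Lib.Helper6.CotT9E
import Groth.Agent.Lib.Helper6.CotT9F
import Groth.Agent.Lib.Helper6.CotT9G

/-!
# Nine-term sequence of the cotangent functors: assembly (helper6)
-/

set_option autoImplicit false

open TensorProduct CotT

noncomputable section

namespace Groth.Agent.Helper6.CotT9

universe u

section CpxOf

variable {A B ι σ : Type u} [CommRing A] [CommRing B] [Algebra A B]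
variable (P : Algebra.Presentation A B ι σ) (M : Type u) [AddCommGroup M] [Module B M]

/-- the dual complex of a presentation with its cohomology -/
def cpxOf : Cpx (L0 P →ₗ[B] M) (L1 P →ₗ[B] M) (L2 P →ₗ[B] M) (T0 P M) (cocycles1 P M) (T1 P M)
    (T2 P M) where
  d0 := (d1Star P M).toAddMonoidHom
  d1 := (d2Star P M).toAddMonoidHom
  dd x := LinearMap.congr_fun (d2Star_comp_d1Star P M) x
  i0 := (LinearMap.ker (d1Star P M)).subtype.toAddMonoidHom
  i0_inj := Subtype.val_injective
  d0_i0 t := t.2
  i0_range x hx := ⟨⟨x, hx⟩, rfl⟩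
  j1 := (cocycles1 P M).subtype.toAddMonoidHom
  j1_inj := Subtype.val_injective
  d1_j1 z := z.2
  j1_range x hx := ⟨⟨x, hx⟩, rfl⟩
  p1 := (coboundaries1 P M).mkQ.toAddMonoidHom
  p1_surj := Submodule.mkQ_surjective _
  p1_ker z := (Submodule.Quotient.mk_eq_zero _).trans Iff.rfl
  p2 := (LinearMap.range (d2Star P M)).mkQ.toAddMonoidHom
  p2_surj := Submodule.mkQ_surjective _
  p2_ker x := (Submodule.Quotient.mk_eq_zero _).trans Iff.rfl

end CpxOf

section CpxMapOf

variable {A B ι σ A' B' ι' σ' : Type u}
variable [CommRing A] [CommRing B] [Algebra A B] [CommRing A'] [CommRing B'] [Algebra A' B']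
variable [Algebra A A'] [Algebra B B'] [Algebra A B'] [IsScalarTower A A' B'] [IsScalarTower A B B']
variable {P : Algebra.Presentation A B ι σ} {P' : Algebra.Presentation A' B' ι' σ'}
variable (h : PresHom P P')
variable (M' : Type u) [AddCommGroup M'] [Module B' M'] [Module B M'] [IsScalarTower B B' M']

/-- the map of dual complexes induced by a morphism of presentations -/
def cpxMapOf : CpxMap (cpxOf P' M') (cpxOf P M') where
  f0 := (h.pull0 M').toAddMonoidHom
  f1 := (h.pull1 M').toAddMonoidHom
  f2 := (h.pull2 M').toAddMonoidHom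
  c0 x := h.pull1_d1Star M' x
  c1 x := h.pull2_d2Star M' x
  F0 := (h.T0pull M').toAddMonoidHom
  hF0 t := rfl
  fZ := (h.cocycles1Pull M').toAddMonoidHom
  hfZ z := rfl
  F1 := (h.T1pull M').toAddMonoidHom
  hF1 z := T1pull_mk M' h z
  F2 := (h.T2pull M').toAddMonoidHom
  hF2 x := T2pull_mk M' h x

end CpxMapOf

section Triple

variable {A B C ι σ ι' σ' : Type u} [CommRing A] [CommRing B] [CommRing C]
variable [Algebra A B] [Algebra B C] [Algebra A C] [IsScalarTower A B C]
variable (P : Algebra.Presentation A B ι σ) (Q : Algebra.Presentation B C ι' σ')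
variable (M : Type u) [AddCommGroup M] [Module C M] [Module B M] [IsScalarTower B C M]

theorem nineHyp : NineHyp (cpxMapOf (homB P Q) M) (cpxMapOf (homA P Q) M) where
  i0 := pull0B_injective P Q M
  i1 := pull1B_injective P Q M
  i2 := pull2B_injective P Q M
  c0 := pull0A_pull0B P Q M
  c1 := pull1A_pull1B P Q M
  c2 := pull2A_pull2B P Q M
  e0 := pull0_exact P Q M
  e1 := pull1_exact P Q M
  e2 := pull2_exact P Q M
  s0 := pull0A_surjective P Q M
  s1 := pull1A_surjective P Q M

/-- The nine-term sequence for the composed presentation. -/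
theorem nine_comp :
    Function.Injective ((homB P Q).T0pull M) ∧
    Function.Exact ((homB P Q).T0pull M) ((homA P Q).T0pull M) ∧
    Function.Exact ((homB P Q).T1pull M) ((homA P Q).T1pull M) ∧
    Function.Exact ((homB P Q).T2pull M) ((homA P Q).T2pull M) ∧
    ∃ (δ₀ : T0 P M →+ T1 Q M) (δ₁ : T1 P M →+ T2 Q M),
      Function.Exact ((homA P Q).T0pull M) δ₀ ∧ Function.Exact δ₀ ((homB P Q).T1pull M) ∧
      Function.Exact ((homA P Q).T1pull M) δ₁ ∧ Function.Exact δ₁ ((homB P Q).T2pull M) :=
  nine (cpxMapOf (homB P Q) M) (cpxMapOf (homA P Q) M) (nineHyp P Q M)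

end Triple

section Final

variable (A B C : Type u) [CommRing A] [CommRing B] [CommRing C]
variable [Algebra A B] [Algebra B C] [Algebra A C] [IsScalarTower A B C]
variable (M : Type u) [AddCommGroup M] [Module C M] [Module B M] [IsScalarTower B C M]

/-- comparison morphism from the composed presentation to the canonical one -/
def vHom : PresHom ((canon B C).comp (canon A B)) (canon A C) :=
  presOfHom _ _ (Algebra.Generators.defaultHom _ _)

/-- comparison morphism from the canonical presentation to the composed one -/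
def uHom : PresHom (canon A C) ((canon B C).comp (canon A B)) :=
  presOfHom _ _ (Algebra.Generators.defaultHom _ _)

lemma factI0 (x : T0 (canon A C) M) :
    (canonHom A B A C).T0pull M x =
      (homA (canon A B) (canon B C)).T0pull M ((vHom A B C).T0pull M x) :=
  (T0pull_eq M (canonHom A B A C) (presComp (vHom A B C) (homA (canon A B) (canon B C))) x).trans
    (presComp_T0pull (vHom A B C) (homA (canon A B) (canon B C)) M x)

lemma factII0 (x : T0 (canon B C) M) :
    (homB (canon A B) (canon B C)).T0pull M x =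
      (vHom A B C).T0pull M ((canonHom A C B C).T0pull M x) :=
  (T0pull_eq M (homB (canon A B) (canon B C)) (presComp (canonHom A C B C) (vHom A B C)) x).trans
    (presComp_T0pull (canonHom A C B C) (vHom A B C) M x)

lemma factIII0 (y : T0 ((canon B C).comp (canon A B)) M) :
    (vHom A B C).T0pull M ((uHom A B C).T0pull M y) = y :=
  (presComp_T0pull (uHom A B C) (vHom A B C) M y).symm.trans
    ((T0pull_eq M (presComp (uHom A B C) (vHom A B C))
      (PresHom.id ((canon B C).comp (canon A B))) y).trans
      (id_T0pull ((canon B C).comp (canon A B)) M y))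

lemma factIV0 (x : T0 (canon A C) M) :
    (uHom A B C).T0pull M ((vHom A B C).T0pull M x) = x :=
  (presComp_T0pull (vHom A B C) (uHom A B C) M x).symm.trans
    ((T0pull_eq M (presComp (vHom A B C) (uHom A B C)) (PresHom.id (canon A C)) x).trans
      (id_T0pull (canon A C) M x))

lemma vInj0 : Function.Injective ((vHom A B C).T0pull M) :=
  Function.LeftInverse.injective (factIV0 A B C M)

lemma vSurj0 : Function.Surjective ((vHom A B C).T0pull M) :=
  fun y => ⟨(uHom A B C).T0pull M y, factIII0 A B C M y⟩

lemma factI1 (x : T1 (canon A C) M) :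
    (canonHom A B A C).T1pull M x =
      (homA (canon A B) (canon B C)).T1pull M ((vHom A B C).T1pull M x) :=
  (T1pull_eq M (canonHom A B A C) (presComp (vHom A B C) (homA (canon A B) (canon B C))) x).trans
    (presComp_T1pull (vHom A B C) (homA (canon A B) (canon B C)) M x)

lemma factII1 (x : T1 (canon B C) M) :
    (homB (canon A B) (canon B C)).T1pull M x =
      (vHom A B C).T1pull M ((canonHom A C B C).T1pull M x) :=
  (T1pull_eq M (homB (canon A B) (canon B C)) (presComp (canonHom A C B C) (vHom A B C)) x).trans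
    (presComp_T1pull (canonHom A C B C) (vHom A B C) M x)

lemma factIII1 (y : T1 ((canon B C).comp (canon A B)) M) :
    (vHom A B C).T1pull M ((uHom A B C).T1pull M y) = y :=
  (presComp_T1pull (uHom A B C) (vHom A B C) M y).symm.trans
    ((T1pull_eq M (presComp (uHom A B C) (vHom A B C))
      (PresHom.id ((canon B C).comp (canon A B))) y).trans
      (id_T1pull ((canon B C).comp (canon A B)) M y))

lemma factIV1 (x : T1 (canon A C) M) :
    (uHom A B C).T1pull M ((vHom A B C).T1pull M x) = x :=
  (presComp_T1pull (vHom A B C) (uHom A B C) M x).symm.trans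
    ((T1pull_eq M (presComp (vHom A B C) (uHom A B C)) (PresHom.id (canon A C)) x).trans
      (id_T1pull (canon A C) M x))

lemma vInj1 : Function.Injective ((vHom A B C).T1pull M) :=
  Function.LeftInverse.injective (factIV1 A B C M)

lemma vSurj1 : Function.Surjective ((vHom A B C).T1pull M) :=
  fun y => ⟨(uHom A B C).T1pull M y, factIII1 A B C M y⟩

lemma factI2 (x : T2 (canon A C) M) :
    (canonHom A B A C).T2pull M x =
      (homA (canon A B) (canon B C)).T2pull M ((vHom A B C).T2pull M x) :=
  (T2pull_eq (canonHom A B A C) (presComp (vHom A B C) (homA (canon A B) (canon B C))) M x).trans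
    (presComp_T2pull (vHom A B C) (homA (canon A B) (canon B C)) M x)

lemma factII2 (x : T2 (canon B C) M) :
    (homB (canon A B) (canon B C)).T2pull M x =
      (vHom A B C).T2pull M ((canonHom A C B C).T2pull M x) :=
  (T2pull_eq (homB (canon A B) (canon B C)) (presComp (canonHom A C B C) (vHom A B C)) M x).trans
    (presComp_T2pull (canonHom A C B C) (vHom A B C) M x)

lemma factIII2 (y : T2 ((canon B C).comp (canon A B)) M) :
    (vHom A B C).T2pull M ((uHom A B C).T2pull M y) = y :=
  (presComp_T2pull (uHom A B C) (vHom A B C) M y).symm.trans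
    ((T2pull_eq (presComp (uHom A B C) (vHom A B C))
      (PresHom.id ((canon B C).comp (canon A B))) M y).trans
      (id_T2pull ((canon B C).comp (canon A B)) M y))

lemma factIV2 (x : T2 (canon A C) M) :
    (uHom A B C).T2pull M ((vHom A B C).T2pull M x) = x :=
  (presComp_T2pull (vHom A B C) (uHom A B C) M x).symm.trans
    ((T2pull_eq (presComp (vHom A B C) (uHom A B C)) (PresHom.id (canon A C)) M x).trans
      (id_T2pull (canon A C) M x))

lemma vInj2 : Function.Injective ((vHom A B C).T2pull M) :=
  Function.LeftInverse.injective (factIV2 A B C M)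

lemma vSurj2 : Function.Surjective ((vHom A B C).T2pull M) :=
  fun y => ⟨(uHom A B C).T2pull M y, factIII2 A B C M y⟩

theorem G1 (n1 : Function.Injective ((homB (canon A B) (canon B C)).T0pull M)) :
    Function.Injective ((CotT.canonHom A C B C).T0pull M) := by
  intro x y hxy
  apply n1
  rw [factII0 A B C M x, factII0 A B C M y, hxy]

theorem G20 (n : Function.Exact ((homB (canon A B) (canon B C)).T0pull M) ((homA (canon A B) (canon B C)).T0pull M)) :
    Function.Exact ((CotT.canonHom A C B C).T0pull M) ((CotT.canonHom A B A C).T0pull M) :=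
  exact_transfer _ (vInj0 A B C M) (factII0 A B C M) (factI0 A B C M) n

theorem G21 (n : Function.Exact ((homB (canon A B) (canon B C)).T1pull M) ((homA (canon A B) (canon B C)).T1pull M)) :
    Function.Exact ((CotT.canonHom A C B C).T1pull M) ((CotT.canonHom A B A C).T1pull M) :=
  exact_transfer _ (vInj1 A B C M) (factII1 A B C M) (factI1 A B C M) n

theorem G22 (n : Function.Exact ((homB (canon A B) (canon B C)).T2pull M) ((homA (canon A B) (canon B C)).T2pull M)) :
    Function.Exact ((CotT.canonHom A C B C).T2pull M) ((CotT.canonHom A B A C).T2pull M) :=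
  exact_transfer _ (vInj2 A B C M) (factII2 A B C M) (factI2 A B C M) n

theorem GA (δ₀ : CotT.T0 (CotT.canon A B) M →+ CotT.T1 (CotT.canon B C) M)
    (n : Function.Exact ((homA (canon A B) (canon B C)).T0pull M) δ₀) : Function.Exact ((CotT.canonHom A B A C).T0pull M) δ₀ :=
  exact_transfer_left _ (vSurj0 A B C M) (factI0 A B C M) n

theorem GB (δ₀ : CotT.T0 (CotT.canon A B) M →+ CotT.T1 (CotT.canon B C) M)
    (n : Function.Exact δ₀ ((homB (canon A B) (canon B C)).T1pull M)) : Function.Exact δ₀ ((CotT.canonHom A C B C).T1pull M) :=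
  exact_transfer_right _ (vInj1 A B C M) (map_zero _) (factII1 A B C M) n

theorem GC (δ₁ : CotT.T1 (CotT.canon A B) M →+ CotT.T2 (CotT.canon B C) M)
    (n : Function.Exact ((homA (canon A B) (canon B C)).T1pull M) δ₁) : Function.Exact ((CotT.canonHom A B A C).T1pull M) δ₁ :=
  exact_transfer_left _ (vSurj1 A B C M) (factI1 A B C M) n

theorem GD (δ₁ : CotT.T1 (CotT.canon A B) M →+ CotT.T2 (CotT.canon B C) M)
    (n : Function.Exact δ₁ ((homB (canon A B) (canon B C)).T2pull M)) : Function.Exact δ₁ ((CotT.canonHom A C B C).T2pull M) :=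
  exact_transfer_right _ (vInj2 A B C M) (map_zero _) (factII2 A B C M) n

/-- The nine-term sequence of the cotangent functors for `A → B → C`. -/
theorem S12285_main :
    Function.Injective ((CotT.canonHom A C B C).T0pull M) ∧
    Function.Exact ((CotT.canonHom A C B C).T0pull M) ((CotT.canonHom A B A C).T0pull M) ∧
    Function.Exact ((CotT.canonHom A C B C).T1pull M) ((CotT.canonHom A B A C).T1pull M) ∧
    Function.Exact ((CotT.canonHom A C B C).T2pull M) ((CotT.canonHom A B A C).T2pull M) ∧
    ∃ (δ₀ : CotT.T0 (CotT.canon A B) M →+ CotT.T1 (CotT.canon B C) M)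
      (δ₁ : CotT.T1 (CotT.canon A B) M →+ CotT.T2 (CotT.canon B C) M),
      Function.Exact ((CotT.canonHom A B A C).T0pull M) δ₀ ∧ Function.Exact δ₀ ((CotT.canonHom A C B C).T1pull M) ∧
      Function.Exact ((CotT.canonHom A B A C).T1pull M) δ₁ ∧ Function.Exact δ₁ ((CotT.canonHom A C B C).T2pull M) := by
  have hn := nine_comp (canon A B) (canon B C) M
  have h4 := hn.2.2.2.2
  obtain ⟨δ₀, hδ₀⟩ := h4
  obtain ⟨δ₁, hδ₁⟩ := hδ₀
  have g1 := G1 A B C M hn.1
  have g20 := G20 A B C M hn.2.1
  have g21 := G21 A B C M hn.2.2.1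
  have g22 := G22 A B C M hn.2.2.2.1
  have gA := GA A B C M δ₀ hδ₁.1
  have gB := GB A B C M δ₀ hδ₁.2.1
  have gC := GC A B C M δ₁ hδ₁.2.2.1
  have gD := GD A B C M δ₁ hδ₁.2.2.2
  exact ⟨g1, g20, g21, g22, δ₀, δ₁, gA, gB, gC, gD⟩

end Final

end Groth.Agent.Helper6.CotT9

end
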