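import Mathlib
import Groth.Prelude.Def_CAlgX
import Groth.Agent.S5803
import Groth.Agent.S9272
import Groth.Agent.Lib.Helper21.MCPF12

/-!
# Quasi-regular sequences modulo a locally nilpotent ideal (helper6)

Library for S9270 / S9271: if `A' → B'` is flat of finite presentation, `I ⊂ A'` is locally
nilpotent, and `f'` in `B'` reduces to a quasi-regular sequence in `B'/IB'` with flat quotient over
`A'/I`, then `B'/(f')` is flat over `A'`.
-/

set_option autoImplicit false
set_option linter.style.haveILetI false
universe u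
open TensorProduct

namespace Groth.Agent.Helper6.QRNil

theorem map_eval_comm {R S : Type*} [CommRing R] [CommRing S] {c : ℕ} (φ : R →+* S)
    (f : Fin c → R) (p : MvPolynomial (Fin c) R) :
    φ (MvPolynomial.eval f p) =
      MvPolynomial.eval (fun i => φ (f i)) (MvPolynomial.map φ p) := by
  induction p using MvPolynomial.induction_on with
  | C a => simp
  | add p q hp hq => simp [hp, hq]
  | mul_X p i hp => simp [hp]

theorem isQuasiRegular_ringEquiv {R R' : Type u} [CommRing R] [CommRing R'] {c : ℕ}
    (e : R ≃+* R') (f : Fin c → R) (hf : CAlgX.IsQuasiRegular f) :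
    CAlgX.IsQuasiRegular (fun i => e (f i)) := by
  intro n P hP hev d
  have hJ : Ideal.span (Set.range fun i => e (f i)) =
      Ideal.map e (Ideal.span (Set.range f)) := by
    rw [Ideal.map_span, ← Set.range_comp]
    rfl
  have hP' : (MvPolynomial.map (e.symm : R' →+* R) P).IsHomogeneous n := hP.map _
  rw [hJ, ← Ideal.map_pow] at hev
  obtain ⟨x, hx, hxe⟩ := (Ideal.mem_map_of_equiv e _).mp hev
  have hev' : MvPolynomial.eval f (MvPolynomial.map (e.symm : R' →+* R) P) ∈
      Ideal.span (Set.range f) ^ (n + 1) := by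
    have h1 : MvPolynomial.eval f (MvPolynomial.map (e.symm : R' →+* R) P) =
        (e.symm : R' →+* R) (MvPolynomial.eval (fun i => e (f i)) P) := by
      rw [map_eval_comm]
      have hfe : (fun i => (e.symm : R' →+* R) (e (f i))) = f := by
        funext i
        simp
      rw [hfe]
    rw [h1, ← hxe]
    simpa using hx
  have h2 := hf n _ hP' hev' d
  rw [MvPolynomial.coeff_map] at h2
  have h3 := Ideal.mem_map_of_mem e h2
  rw [hJ]
  simpa using h3

theorem isQuasiRegular_localization {R : Type u} [CommRing R] (T : Submonoid R) (S : Type u)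
    [CommRing S] [Algebra R S] [IsLocalization T S] {c : ℕ}
    (f : Fin c → R) (hf : CAlgX.IsQuasiRegular f) :
    CAlgX.IsQuasiRegular (fun i => algebraMap R S (f i)) := by
  classical
  intro n P hP hev d
  have hJ : Ideal.span (Set.range fun i => algebraMap R S (f i)) =
      Ideal.map (algebraMap R S) (Ideal.span (Set.range f)) := by
    rw [Ideal.map_span, ← Set.range_comp]
    rfl
  rw [hJ] at hev ⊢
  obtain ⟨t, ht⟩ := IsLocalization.exist_integer_multiples T P.support
    (fun d => MvPolynomial.coeff d P)
  have ht' : ∀ i ∈ P.support, ∃ x : R, algebraMap R S x = (t : R) • MvPolynomial.coeff i P :=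
    fun i hi => ht i hi
  choose! a ha using ht'
  obtain ⟨P₀, hP₀⟩ : ∃ P₀ : MvPolynomial (Fin c) R,
      P₀ = ∑ e ∈ P.support, MvPolynomial.monomial e (a e) := ⟨_, rfl⟩
  have hP₀hom : P₀.IsHomogeneous n := by
    rw [hP₀]
    apply MvPolynomial.IsHomogeneous.sum
    intro e he
    apply MvPolynomial.isHomogeneous_monomial
    rw [Finsupp.degree_eq_weight_one]
    exact hP (MvPolynomial.mem_support_iff.mp he)
  have hcoeff : ∀ e, algebraMap R S (MvPolynomial.coeff e P₀) =
      algebraMap R S t * MvPolynomial.coeff e P := by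
    intro e
    rw [hP₀, MvPolynomial.coeff_sum]
    simp only [MvPolynomial.coeff_monomial]
    rw [Finset.sum_ite_eq']
    split_ifs with he
    · rw [ha e he, Algebra.smul_def]
    · rw [MvPolynomial.notMem_support_iff.mp he, mul_zero, map_zero]
  have hmap : MvPolynomial.map (algebraMap R S) P₀ =
      MvPolynomial.C (algebraMap R S t) * P := by
    ext e
    rw [MvPolynomial.coeff_map, MvPolynomial.coeff_C_mul, hcoeff]
  have h1 : algebraMap R S (MvPolynomial.eval f P₀) ∈
      Ideal.map (algebraMap R S) (Ideal.span (Set.range f) ^ (n + 1)) := by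
    rw [map_eval_comm, hmap, map_mul, MvPolynomial.eval_C, Ideal.map_pow]
    exact Ideal.mul_mem_left _ _ hev
  obtain ⟨m, hm, hm'⟩ :=
    (IsLocalization.algebraMap_mem_map_algebraMap_iff T S _ _).mp h1
  have h2 : MvPolynomial.eval f (MvPolynomial.C m * P₀) ∈
      Ideal.span (Set.range f) ^ (n + 1) := by
    rw [map_mul, MvPolynomial.eval_C]
    exact hm'
  have h4 := hf n _ (hP₀hom.C_mul m) h2 d
  rw [MvPolynomial.coeff_C_mul] at h4
  have hu : IsUnit (algebraMap R S (m * t)) :=
    IsLocalization.map_units S (⟨m * t, T.mul_mem hm t.2⟩ : T)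
  have h5 : algebraMap R S (m * t) * MvPolynomial.coeff d P ∈
      Ideal.map (algebraMap R S) (Ideal.span (Set.range f)) := by
    have h6 := Ideal.mem_map_of_mem (algebraMap R S) h4
    rw [map_mul, hcoeff, ← mul_assoc, ← map_mul] at h6
    exact h6
  exact (Ideal.unit_mul_mem_iff_mem _ hu).mp h5

theorem isPushout_quot' (A P : Type*) [CommRing A] [CommRing P] [Algebra A P] (J : Ideal A) :
    Algebra.IsPushout A (A ⧸ J) P (P ⧸ J.map (algebraMap A P)) := by
  constructor
  refine IsBaseChange.of_equiv
    (Algebra.TensorProduct.quotIdealMapEquivQuotTensor P J).symm.toLinearEquiv (fun x => ?_)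
  rw [AlgEquiv.toLinearEquiv_apply, AlgEquiv.symm_apply_eq]
  rfl

section Local

variable {A' B' : Type u} [CommRing A'] [CommRing B'] [Algebra A' B']

/-- Quasi-regularity passes from `B'/IB'` to `B' ⊗ K` for an `A'/I`-algebra `K`. -/
theorem isQuasiRegular_fiber (I : Ideal A') (K : Type u) [CommRing K] [Algebra A' K]
    [Algebra (A' ⧸ I) K] [IsScalarTower A' (A' ⧸ I) K]
    (r : ℕ) (f' : Fin r → B')
    (hq : CAlgX.IsQuasiRegular
      (fun i => Ideal.Quotient.mk (Ideal.map (algebraMap A' B') I) (f' i)))
    (hflat : Module.Flat (A' ⧸ I)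
      ((B' ⧸ Ideal.map (algebraMap A' B') I) ⧸
        Ideal.span (Set.range
          (fun i => Ideal.Quotient.mk (Ideal.map (algebraMap A' B') I) (f' i))))) :
    CAlgX.IsQuasiRegular (fun i => algebraMap B' (B' ⊗[A'] K) (f' i)) := by
  haveI hpo : Algebra.IsPushout A' B' (A' ⧸ I) (B' ⧸ Ideal.map (algebraMap A' B') I) :=
    (isPushout_quot' A' B' I).symm
  have hq1 := Groth.Agent.S9272.result (A' ⧸ I) (B' ⧸ Ideal.map (algebraMap A' B') I) K r
    (fun i => Ideal.Quotient.mk (Ideal.map (algebraMap A' B') I) (f' i)) hflat hq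
  have hq2 := isQuasiRegular_ringEquiv
    (Algebra.TensorProduct.comm (A' ⧸ I) K
      (B' ⧸ Ideal.map (algebraMap A' B') I)).toRingEquiv _ hq1
  have hq3 := isQuasiRegular_ringEquiv
    (Algebra.IsPushout.cancelBaseChangeAlg A' B' (A' ⧸ I)
      (B' ⧸ Ideal.map (algebraMap A' B') I) K).toRingEquiv _ hq2
  have hfun : (fun i => algebraMap B' (B' ⊗[A'] K) (f' i)) =
      (fun i => (Algebra.IsPushout.cancelBaseChangeAlg A' B' (A' ⧸ I)
        (B' ⧸ Ideal.map (algebraMap A' B') I) K).toRingEquiv
        ((Algebra.TensorProduct.comm (A' ⧸ I) K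
          (B' ⧸ Ideal.map (algebraMap A' B') I)).toRingEquiv
          ((1 : K) ⊗ₜ[A' ⧸ I] Ideal.Quotient.mk (Ideal.map (algebraMap A' B') I) (f' i)))) := by
    funext i
    have h1 := Algebra.IsPushout.cancelBaseChangeAlg_symm_tmul A' B' (A' ⧸ I)
      (B' ⧸ Ideal.map (algebraMap A' B') I) K (f' i) (1 : K)
    rw [AlgEquiv.symm_apply_eq] at h1
    exact h1
  rw [hfun]
  exact hq3

variable (Q : Ideal B') [Q.IsPrime]

set_option quotPrecheck false in
local notation "κ" => (Ideal.comap (algebraMap A' B') Q).ResidueField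
set_option quotPrecheck false in
local notation "F" => B' ⊗[A'] (Ideal.comap (algebraMap A' B') Q).ResidueField

theorem algebraMap_fiber_ne_zero (u : B') (hu : u ∉ Q) : algebraMap B' F u ≠ 0 := by
  intro h0
  let μ : F →ₐ[A'] Q.ResidueField :=
    Algebra.TensorProduct.productMap (IsScalarTower.toAlgHom A' B' Q.ResidueField)
      (Ideal.ResidueField.mapₐ (Q.comap (algebraMap A' B')) Q (Algebra.ofId A' B') rfl)
  have h1 : μ (algebraMap B' F u) = algebraMap B' Q.ResidueField u := by
    rw [Algebra.TensorProduct.algebraMap_apply]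
    simp [μ]
  rw [h0, map_zero] at h1
  exact hu (Ideal.algebraMap_residueField_eq_zero.mp h1.symm)

theorem isRegular_localizedModule_fiber [Algebra.FiniteType A' B']
    (r : ℕ) (f' : Fin r → B') (hQ : ∀ i, f' i ∈ Q)
    (hq : CAlgX.IsQuasiRegular (fun i => algebraMap B' F (f' i))) :
    RingTheory.Sequence.IsRegular (LocalizedModule Q.primeCompl F) (List.ofFn f') := by
  classical
  haveI hFN : IsNoetherianRing F := by
    haveI : Algebra.FiniteType κ (κ ⊗[A'] B') := inferInstance
    haveI : IsNoetherianRing (κ ⊗[A'] B') := Algebra.FiniteType.isNoetherianRing κ _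
    exact isNoetherianRing_of_ringEquiv (κ ⊗[A'] B')
      (Algebra.TensorProduct.comm A' κ B').toRingEquiv
  obtain ⟨T, hT⟩ : ∃ T : Submonoid F, T = Algebra.algebraMapSubmonoid F Q.primeCompl := ⟨_, rfl⟩
  haveI hSN : IsNoetherianRing (Localization T) := IsLocalization.isNoetherianRing T _ hFN
  have h0 : (0 : F) ∉ T := by
    rw [hT]
    rintro ⟨u, hu, hu0⟩
    exact algebraMap_fiber_ne_zero Q u hu hu0
  haveI : Nontrivial (Localization T) := by
    rw [← not_subsingleton_iff_nontrivial]
    intro hs
    exact h0 ((IsLocalization.subsingleton_iff (M := T) (S := Localization T)).mp hs)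
  have hq' : CAlgX.IsQuasiRegular
      (fun i => algebraMap F (Localization T) (algebraMap B' F (f' i))) :=
    isQuasiRegular_localization T (Localization T) _ hq
  have hjac : ∀ i, algebraMap F (Localization T) (algebraMap B' F (f' i)) ∈
      Ring.jacobson (Localization T) := by
    intro i
    rw [← Ideal.jacobson_bot, Ideal.mem_jacobson_bot]
    intro y
    obtain ⟨g, ⟨t, ht⟩, rfl⟩ := IsLocalization.exists_mk'_eq T y
    have ht' : t ∈ Algebra.algebraMapSubmonoid F Q.primeCompl := hT ▸ ht
    obtain ⟨u, hu, hut⟩ := ht'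
    obtain ⟨a, ha, s, hs⟩ :=
      Ideal.ResidueField.exists_smul_eq_tmul_one (Q.comap (algebraMap A' B')) g
    have hs' : algebraMap B' F (algebraMap A' B' a) * g = algebraMap B' F s := by
      rw [← IsScalarTower.algebraMap_apply A' B' F, ← Algebra.smul_def, hs]
      rfl
    have hw : f' i * s + algebraMap A' B' a * u ∈ Q.primeCompl := by
      intro hmem
      have h1 : algebraMap A' B' a * u ∈ Q := by
        have h2 := Q.sub_mem hmem (Q.mul_mem_right s (hQ i))
        rwa [add_sub_cancel_left] at h2
      rcases Ideal.IsPrime.mem_or_mem inferInstance h1 with h | h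
      · exact ha h
      · exact hu h
    have hwT : algebraMap B' F (f' i * s + algebraMap A' B' a * u) ∈ T := by
      rw [hT]
      exact Algebra.mem_algebraMapSubmonoid_of_mem ⟨_, hw⟩
    have hunit : IsUnit (algebraMap F (Localization T)
        (algebraMap B' F (f' i * s + algebraMap A' B' a * u))) :=
      IsLocalization.map_units (Localization T) (⟨_, hwT⟩ : T)
    have hspec : algebraMap F (Localization T) t *
        IsLocalization.mk' (Localization T) g (⟨t, ht⟩ : T) =
        algebraMap F (Localization T) g :=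
      IsLocalization.mk'_spec' (Localization T) g (⟨t, ht⟩ : T)
    have hs'' : algebraMap F (Localization T) (algebraMap B' F (algebraMap A' B' a)) *
        algebraMap F (Localization T) g =
        algebraMap F (Localization T) (algebraMap B' F s) := by
      rw [← map_mul, hs']
    have heq : algebraMap F (Localization T)
        (algebraMap B' F (f' i * s + algebraMap A' B' a * u)) =
        (algebraMap F (Localization T) (algebraMap B' F (algebraMap A' B' a)) *
          algebraMap F (Localization T) t) *
          (algebraMap F (Localization T) (algebraMap B' F (f' i)) *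
            IsLocalization.mk' (Localization T) g (⟨t, ht⟩ : T) + 1) := by
      simp only [map_add, map_mul]
      rw [← hs'', ← hspec, hut]
      ring
    rw [heq] at hunit
    exact isUnit_of_mul_isUnit_right hunit
  have hwr := Groth.Agent.S5803.result (Localization T) r _ hjac hq'
  have hreg : RingTheory.Sequence.IsRegular (Localization T)
      (List.ofFn fun i => algebraMap F (Localization T) (algebraMap B' F (f' i))) := by
    refine ⟨hwr, Submodule.top_ne_ideal_smul_of_le_jacobson_annihilator ?_⟩
    refine (Ideal.span_le.mpr ?_).trans (Ideal.jacobson_mono bot_le)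
    intro x hx
    obtain ⟨i, rfl⟩ := List.mem_ofFn.mp hx
    rw [SetLike.mem_coe, Ideal.jacobson_bot]
    exact hjac i
  subst hT
  let ψ : F →ₗ[B'] Localization (Algebra.algebraMapSubmonoid F Q.primeCompl) :=
    (IsScalarTower.toAlgHom B' F
      (Localization (Algebra.algebraMapSubmonoid F Q.primeCompl))).toLinearMap
  haveI : IsLocalizedModule Q.primeCompl ψ := inferInstance
  let e := IsLocalizedModule.iso Q.primeCompl ψ
  refine (e.toAddEquiv.isRegular_congr ?_).mpr hreg
  rw [show (List.ofFn fun i => algebraMap F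
      (Localization (Algebra.algebraMapSubmonoid F Q.primeCompl)) (algebraMap B' F (f' i))) =
    (List.ofFn f').map (fun b => algebraMap F
      (Localization (Algebra.algebraMapSubmonoid F Q.primeCompl)) (algebraMap B' F b)) from
    (List.map_ofFn (f := f') (g := fun b => algebraMap F
      (Localization (Algebra.algebraMapSubmonoid F Q.primeCompl)) (algebraMap B' F b))).symm]
  refine List.forall₂_map_right_iff.mpr (List.forall₂_same.mpr fun b _ x => ?_)
  change e (b • x) = _ • e x
  rw [map_smul, smul_eq_mul, ← IsScalarTower.algebraMap_apply B' F, ← Algebra.smul_def]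

end Local

end Groth.Agent.Helper6.QRNil
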