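import Mathlib
import Groth.Agent.S6356
import Groth.Agent.S6359

/-!
# Mittag-Leffler countably generated modules: endomorphisms factoring through f.p. modules
(helper6) Uses S6356 (ML ↔ f.p. domination) and S6359 (domination ↔ factorization).
-/

set_option autoImplicit false
universe u

namespace Groth.Agent.Helper6.MLEndo

open TensorProduct

variable {R : Type u} [CommRing R] {M : Type u} [AddCommGroup M] [Module R M]

/-- Domination data for a map `f : P → M`. -/
structure Dom {P : Type u} [AddCommGroup P] [Module R P] (f : P →ₗ[R] M) where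
  Q : Type u
  [iA : AddCommGroup Q]
  [iM : Module R Q]
  [iF : Module.FinitePresentation R Q]
  g : P →ₗ[R] Q
  hg : ∀ (N : Type u) [AddCommGroup N] [Module R N],
    LinearMap.ker (f.rTensor N) = LinearMap.ker (g.rTensor N)

attribute [instance] Dom.iA Dom.iM Dom.iF

theorem nonempty_dom (hML : CAlg.IsMittagLeffler R M) {P : Type u} [AddCommGroup P] [Module R P]
    [Module.FinitePresentation R P] (f : P →ₗ[R] M) : Nonempty (Dom f) := by
  obtain ⟨Q, iA, iM, iF, g, hg⟩ := (Groth.Agent.S6356.result R M).mp hML P f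
  exact ⟨⟨Q, g, hg⟩⟩

theorem ker_le {P : Type u} [AddCommGroup P] [Module R P] {f : P →ₗ[R] M} (D : Dom f) :
    LinearMap.ker f ≤ LinearMap.ker D.g := by
  intro x hx
  have h := D.hg R
  have h1 : x ⊗ₜ[R] (1 : R) ∈ LinearMap.ker (f.rTensor R) := by
    rw [LinearMap.mem_ker, LinearMap.rTensor_tmul, LinearMap.mem_ker.mp hx, TensorProduct.zero_tmul]
  rw [h, LinearMap.mem_ker, LinearMap.rTensor_tmul] at h1
  have h2 := congrArg (TensorProduct.rid R D.Q) h1
  rw [TensorProduct.rid_tmul, one_smul, map_zero] at h2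
  exact LinearMap.mem_ker.mpr h2

theorem fp_quot_range {P Q : Type u} [AddCommGroup P] [Module R P] [AddCommGroup Q] [Module R Q]
    [Module.Finite R P] [Module.FinitePresentation R Q] (φ : P →ₗ[R] Q) :
    Module.FinitePresentation R (Q ⧸ LinearMap.range φ) := by
  refine Module.finitePresentation_of_surjective (LinearMap.range φ).mkQ
    (Submodule.mkQ_surjective _) ?_
  rw [Submodule.ker_mkQ, LinearMap.range_eq_map]
  exact Module.Finite.fg_top.map φ

section core

variable (y : ℕ → M) (a : ℕ)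

/-- the finite free stage -/
noncomputable def vv (m : ℕ) : (Fin (a + m) →₀ R) →ₗ[R] M :=
  Finsupp.linearCombination R (fun i : Fin (a + m) => y i)

variable (R) in
/-- inclusion of stages -/
noncomputable def io (m : ℕ) : (Fin (a + m) →₀ R) →ₗ[R] (Fin (a + (m + 1)) →₀ R) :=
  Finsupp.lmapDomain R R (Fin.castLE (by omega))

variable (R) in
/-- inclusion of a stage in the big free module -/
noncomputable def JJ (m : ℕ) : (Fin (a + m) →₀ R) →ₗ[R] (ℕ →₀ R) :=
  Finsupp.lmapDomain R R (Fin.val : Fin (a + m) → ℕ)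

/-- the big presentation -/
noncomputable def VV : (ℕ →₀ R) →ₗ[R] M := Finsupp.linearCombination R y

theorem vv_comp_io (m : ℕ) : vv y a (m + 1) ∘ₗ io R a m = vv y a m := by
  unfold vv io
  rw [Finsupp.linearCombination_comp_lmapDomain]
  rfl

theorem VV_comp_JJ (m : ℕ) : VV y ∘ₗ JJ R a m = vv y a m := by
  unfold vv VV JJ
  rw [Finsupp.linearCombination_comp_lmapDomain]
  rfl

variable (D : ∀ m, Dom (vv y a m))
  (t : ∀ m, (D (m + 1)).Q →ₗ[R] (D m).Q)
  (ht : ∀ m, (D m).g = t m ∘ₗ ((D (m + 1)).g ∘ₗ io R a m))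

/-- composite transition maps down to stage `0`. -/
noncomputable def TT : ∀ m, (D m).Q →ₗ[R] (D 0).Q
  | 0 => LinearMap.id
  | m + 1 => TT m ∘ₗ t m

/-- stage maps to `Q 0`. -/
noncomputable def SS (m : ℕ) : (Fin (a + m) →₀ R) →ₗ[R] (D 0).Q := TT y a D t m ∘ₗ (D m).g

include ht in
theorem SS_io (m : ℕ) (x : Fin (a + m) →₀ R) :
    SS y a D t (m + 1) (io R a m x) = SS y a D t m x := by
  have h := congrArg (fun φ => φ x) (ht m)
  simp only [LinearMap.comp_apply] at h
  show TT y a D t m (t m ((D (m + 1)).g (io R a m x))) = TT y a D t m ((D m).g x)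
  rw [h]

include ht in
theorem SS_single_succ (m j : ℕ) (h : j < a + m) :
    SS y a D t (m + 1) (Finsupp.single ⟨j, by omega⟩ 1) =
      SS y a D t m (Finsupp.single ⟨j, h⟩ 1) := by
  have h1 : io R a m (Finsupp.single ⟨j, h⟩ 1) = Finsupp.single ⟨j, by omega⟩ 1 := by
    unfold io
    rw [Finsupp.lmapDomain_apply, Finsupp.mapDomain_single]
    rfl
  rw [← h1, SS_io y a D t ht]

include ht in
theorem SS_single_le (m j : ℕ) (h : j < a + m) (m' : ℕ) (hm : m ≤ m') : ∀ h' : j < a + m',
    SS y a D t m' (Finsupp.single ⟨j, h'⟩ 1) = SS y a D t m (Finsupp.single ⟨j, h⟩ 1) :=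
  Nat.le_induction (m := m)
    (P := fun n _ => ∀ h' : j < a + n,
      SS y a D t n (Finsupp.single ⟨j, h'⟩ 1) = SS y a D t m (Finsupp.single ⟨j, h⟩ 1))
    (fun _ => rfl)
    (fun k hk ih h' => (SS_single_succ y a D t ht k j (by omega)).trans (ih _)) m' hm

/-- the map on the big free module -/
noncomputable def ss : (ℕ →₀ R) →ₗ[R] (D 0).Q :=
  Finsupp.linearCombination R
    (fun j : ℕ => SS y a D t (j + 1) (Finsupp.single ⟨j, by omega⟩ 1))

include ht in
theorem ss_comp_JJ (m : ℕ) : ss y a D t ∘ₗ JJ R a m = SS y a D t m := by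
  apply Finsupp.lhom_ext
  intro i r
  rw [LinearMap.comp_apply]
  unfold JJ ss
  rw [Finsupp.lmapDomain_apply, Finsupp.mapDomain_single, Finsupp.linearCombination_single,
    ← Finsupp.smul_single_one i r, map_smul]
  beta_reduce
  congr 1
  rcases le_total m ((i : ℕ) + 1) with h | h
  · exact SS_single_le y a D t ht m i i.2 _ h _
  · exact (SS_single_le y a D t ht (i + 1) i (by omega) m h i.2).symm

variable (R) in
theorem exists_JJ_eq (x : ℕ →₀ R) : ∃ m, ∃ x' : Fin (a + m) →₀ R, JJ R a m x' = x := by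
  classical
  refine ⟨x.support.sup id + 1,
    Finsupp.comapDomain (Fin.val : Fin (a + (x.support.sup id + 1)) → ℕ) x
      (Fin.val_injective.injOn), ?_⟩
  unfold JJ
  rw [Finsupp.lmapDomain_apply]
  apply Finsupp.mapDomain_comapDomain _ Fin.val_injective
  intro j hj
  have : j ≤ x.support.sup id := Finset.le_sup (f := id) (Finset.mem_coe.mp hj)
  exact ⟨⟨j, by omega⟩, rfl⟩

include ht in
theorem ker_VV_le : LinearMap.ker (VV y) ≤ LinearMap.ker (ss y a D t) := by
  intro x hx
  obtain ⟨m, x', rfl⟩ := exists_JJ_eq R a x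
  have h1 : vv y a m x' = 0 := by
    rw [← VV_comp_JJ]
    exact LinearMap.mem_ker.mp hx
  have h2 : (D m).g x' = 0 := LinearMap.mem_ker.mp (ker_le (D m) (LinearMap.mem_ker.mpr h1))
  rw [LinearMap.mem_ker, ← LinearMap.comp_apply, ss_comp_JJ y a D t ht]
  show TT y a D t m ((D m).g x') = 0
  rw [h2, map_zero]

end core

theorem core (hML : CAlg.IsMittagLeffler R M) (y : ℕ → M)
    (hy : Submodule.span R (Set.range y) = ⊤) (a : ℕ) :
    ∃ (Q : Type u) (_ : AddCommGroup Q) (_ : Module R Q) (_ : Module.FinitePresentation R Q)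
      (b : M →ₗ[R] Q) (c : Q →ₗ[R] M), ∀ i, i < a → c (b (y i)) = y i := by
  obtain ⟨D⟩ : Nonempty (∀ m, Dom (vv y a m)) :=
    ⟨fun m => Classical.choice (nonempty_dom hML _)⟩
  have ex_t : ∀ m, ∃ t : (D (m + 1)).Q →ₗ[R] (D m).Q,
      (D m).g = t ∘ₗ ((D (m + 1)).g ∘ₗ io R a m) := by
    intro m
    have := fp_quot_range ((D (m + 1)).g ∘ₗ io R a m)
    refine (Groth.Agent.S6359.result R ((D (m + 1)).g ∘ₗ io R a m) (D m).g).mp ?_
    intro N _ _ x hx
    rw [LinearMap.mem_ker, LinearMap.rTensor_comp_apply] at hx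
    have h2 : (io R a m).rTensor N x ∈ LinearMap.ker ((vv y a (m + 1)).rTensor N) := by
      rw [(D (m + 1)).hg N]
      exact LinearMap.mem_ker.mpr hx
    have h3 : (vv y a m).rTensor N x = 0 := by
      have h := LinearMap.mem_ker.mp h2
      rw [← LinearMap.rTensor_comp_apply, vv_comp_io] at h
      exact h
    have h4 : x ∈ LinearMap.ker ((vv y a m).rTensor N) := LinearMap.mem_ker.mpr h3
    rw [(D m).hg N] at h4
    exact h4
  choose t ht using ex_t
  have ex_c : ∃ c : (D 0).Q →ₗ[R] M, vv y a 0 = c ∘ₗ (D 0).g := by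
    have := fp_quot_range (D 0).g
    refine (Groth.Agent.S6359.result R (D 0).g (vv y a 0)).mp ?_
    intro N _ _
    exact ((D 0).hg N).ge
  obtain ⟨c, hc⟩ := ex_c
  have hV : Function.Surjective (VV (R := R) y) := by
    rw [← LinearMap.range_eq_top]
    unfold VV
    rw [Finsupp.range_linearCombination, hy]
  obtain ⟨b, hb⟩ : ∃ b : M →ₗ[R] (D 0).Q, ∀ x, b (VV (R := R) y x) = ss y a D t x := by
    refine ⟨((LinearMap.ker (VV (R := R) y)).liftQ (ss y a D t) (ker_VV_le y a D t ht)) ∘ₗ
      ((VV (R := R) y).quotKerEquivOfSurjective hV).symm.toLinearMap, ?_⟩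
    intro x
    rw [LinearMap.comp_apply, LinearEquiv.coe_coe,
      LinearMap.quotKerEquivOfSurjective_symm_apply, Submodule.liftQ_apply]
  refine ⟨(D 0).Q, inferInstance, inferInstance, inferInstance, b, c, ?_⟩
  intro i hi
  obtain ⟨e, he⟩ : ∃ e : Fin (a + 0) →₀ R, e = Finsupp.single ⟨i, by omega⟩ 1 := ⟨_, rfl⟩
  have e1 : VV (R := R) y (JJ R a 0 e) = y i := by
    rw [he]
    unfold VV JJ
    rw [Finsupp.lmapDomain_apply, Finsupp.mapDomain_single, Finsupp.linearCombination_single,
      one_smul]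
  have e2 : vv y a 0 e = y i := by
    rw [he]
    unfold vv
    rw [Finsupp.linearCombination_single, one_smul]
  have e3 : b (y i) = (D 0).g e := by
    rw [← e1, hb, ← LinearMap.comp_apply, ss_comp_JJ y a D t ht 0]
    rfl
  rw [e3, ← LinearMap.comp_apply, ← hc, e2]

end Groth.Agent.Helper6.MLEndo
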