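import Groth.Agent.Lib.Helper6.QRegGen

set_option autoImplicit false
universe u
open MvPolynomial

namespace Groth.Agent.Helper6.QRegGen

variable {A : Type u} [CommRing A]

theorem toCotangent_sum {m : ℕ} (I : Ideal A) (f : Fin m → I) (c : Fin m → A) :
    ∑ i, (Ideal.Quotient.mk I (c i)) • I.toCotangent (f i) = I.toCotangent (∑ i, c i • f i) := by
  rw [map_sum]
  refine Finset.sum_congr rfl (fun i _ => ?_)
  rw [map_smul]
  rfl

theorem basis_of_quasiRegular {m : ℕ} (I : Ideal A) (f : Fin m → I)
    (hq : CAlgX.IsQuasiRegular (fun i => (f i : A)))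
    (hs : Ideal.span (Set.range fun i => (f i : A)) = I) :
    LinearIndependent (A ⧸ I) (fun i => I.toCotangent (f i)) ∧
      Submodule.span (A ⧸ I) (Set.range fun i => I.toCotangent (f i)) = ⊤ := by
  constructor
  · rw [Fintype.linearIndependent_iff]
    intro c hc i
    choose c' hc' using fun i => Ideal.Quotient.mk_surjective (c i)
    have h1 : ∑ i, (Ideal.Quotient.mk I (c' i)) • I.toCotangent (f i) = 0 := by
      simpa only [hc'] using hc
    rw [toCotangent_sum, Ideal.toCotangent_eq_zero] at h1
    have h2 : ∑ i, c' i * (f i : A) ∈ Ideal.span (Set.range fun i => (f i : A)) ^ 2 := by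
      rw [hs]
      convert h1 using 1
      simp
    have h3 := lin_indep_mod _ hq c' h2 i
    rw [hs] at h3
    rw [← hc' i]
    exact Ideal.Quotient.eq_zero_iff_mem.2 h3
  · rw [eq_top_iff]
    intro y _
    obtain ⟨x, rfl⟩ := I.toCotangent_surjective y
    have hx : (x : A) ∈ Ideal.span (Set.range fun i => (f i : A)) := by
      rw [hs]; exact x.2
    obtain ⟨c, hc⟩ := exists_coeffs _ hx
    have hx' : x = ∑ i, c i • f i := by
      apply Subtype.ext
      rw [hc]
      simp
    rw [hx', ← toCotangent_sum]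
    exact Submodule.sum_mem _ (fun i _ => Submodule.smul_mem _ _ (Submodule.subset_span ⟨i, rfl⟩))

theorem quasiRegular_of_basis [IsLocalRing A] (I : Ideal A)
    (hI : I ≤ IsLocalRing.maximalIdeal A)
    {r : ℕ} (g : Fin r → A) (hg : CAlgX.IsQuasiRegular g) (hgs : Ideal.span (Set.range g) = I)
    {m : ℕ} (f : Fin m → I)
    (hli : LinearIndependent (A ⧸ I) (fun i => I.toCotangent (f i)))
    (hsp : Submodule.span (A ⧸ I) (Set.range fun i => I.toCotangent (f i)) = ⊤) :
    CAlgX.IsQuasiRegular (fun i => (f i : A)) ∧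
      Ideal.span (Set.range fun i => (f i : A)) = I := by
  have hfg : I.FG := by
    rw [← hgs]
    exact Submodule.fg_span (Set.finite_range g)
  have hgen : Ideal.span (Set.range fun i => (f i : A)) = I := by
    apply le_antisymm
    · rw [Ideal.span_le]
      rintro _ ⟨i, rfl⟩
      exact (f i).2
    · apply Submodule.le_of_le_smul_of_le_jacobson_bot hfg (I := I)
        (by rw [IsLocalRing.jacobson_eq_maximalIdeal ⊥ bot_ne_top]; exact hI)
      intro x hx
      have h0 : I.toCotangent ⟨x, hx⟩ ∈
          Submodule.span (A ⧸ I) (Set.range fun i => I.toCotangent (f i)) := by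
        rw [hsp]; trivial
      rw [Submodule.mem_span_range_iff_exists_fun] at h0
      obtain ⟨c, hc⟩ := h0
      choose c' hc' using fun i => Ideal.Quotient.mk_surjective (c i)
      have h1 : I.toCotangent (∑ i, c' i • f i) = I.toCotangent ⟨x, hx⟩ := by
        rw [← toCotangent_sum, ← hc]
        simp only [hc']
      rw [Ideal.toCotangent_eq] at h1
      refine Submodule.mem_sup.2 ⟨((∑ i, c' i • f i : I) : A), ?_,
        x - ((∑ i, c' i • f i : I) : A), ?_, by ring⟩
      · rw [AddSubmonoidClass.coe_finsetSum]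
        refine Ideal.sum_mem _ (fun i _ => ?_)
        exact Ideal.mul_mem_left _ _ (Ideal.subset_span ⟨i, rfl⟩)
      · rw [smul_eq_mul, ← pow_two, ← neg_sub]
        exact neg_mem h1
  have hgI : ∀ j, g j ∈ I := fun j => hgs ▸ Ideal.subset_span ⟨j, rfl⟩
  obtain ⟨hli', hsp'⟩ := basis_of_quasiRegular I (fun j => (⟨g j, hgI j⟩ : I)) hg hgs
  have hnt : Nontrivial (A ⧸ I) :=
    Ideal.Quotient.nontrivial_iff.2
      (ne_top_of_le_ne_top (IsLocalRing.maximalIdeal.isMaximal A).ne_top hI)
  have hcard : m = r := by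
    have h1 := Module.finrank_eq_card_basis (Module.Basis.mk hli (le_of_eq hsp.symm))
    have h2 := Module.finrank_eq_card_basis (Module.Basis.mk hli' (le_of_eq hsp'.symm))
    simpa using h1.symm.trans h2
  subst hcard
  exact ⟨isQuasiRegular_of_span_eq g _ hg (hgen.trans hgs.symm), hgen⟩

end Groth.Agent.Helper6.QRegGen
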