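import Groth.Agent.Lib.Helper6.QReg
import Mathlib.RingTheory.Filtration

/-!
# Consequences of quasi-regularity modulo an ideal (helper6)
-/

set_option autoImplicit false
universe u

namespace Groth.Agent.Helper6.QReg

open MvPolynomial

variable {A : Type u} [CommRing A]

theorem isQuasiRegular_mk_of_isWeaklyRegular (J : Ideal A) {r : ℕ} (f : Fin r → A)
    (hf : RingTheory.Sequence.IsWeaklyRegular (A ⧸ J) (List.ofFn f)) :
    CAlgX.IsQuasiRegular (fun i => Ideal.Quotient.mk J (f i)) := by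
  apply isQuasiRegular_of_isWeaklyRegular
  have h := (RingTheory.Sequence.isWeaklyRegular_map_algebraMap_iff (A ⧸ J) (A ⧸ J) (List.ofFn f)).2 hf
  rw [List.map_ofFn] at h
  exact h

theorem inf_pow_le_step (J : Ideal A) {r : ℕ} (f : Fin r → A)
    (hq : CAlgX.IsQuasiRegular (fun i => Ideal.Quotient.mk J (f i))) (k : ℕ) :
    J ⊓ Ideal.span (Set.range f) ^ k ≤
      J * Ideal.span (Set.range f) ^ k ⊔ J ⊓ Ideal.span (Set.range f) ^ (k + 1) := by
  classical
  rintro x ⟨hxJ, hxk⟩
  obtain ⟨P, hP, rfl⟩ := (Ideal.mem_span_pow_iff_exists_isHomogeneous f x).1 hxk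
  have hmapspan : Ideal.span (Set.range fun i => Ideal.Quotient.mk J (f i)) =
      Ideal.map (Ideal.Quotient.mk J) (Ideal.span (Set.range f)) := by
    rw [Ideal.map_span, ← Set.range_comp]
    rfl
  have hev : eval (fun i => Ideal.Quotient.mk J (f i)) (map (Ideal.Quotient.mk J) P) =
      Ideal.Quotient.mk J (eval f P) := by
    rw [eval_map, ← eval₂_id (g := f), eval₂_comp_left]
    rfl
  have hcoef : ∀ d, coeff d (map (Ideal.Quotient.mk J) P) ∈
      Ideal.span (Set.range fun i => Ideal.Quotient.mk J (f i)) := by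
    refine hq k _ (hP.map _) ?_
    rw [hev, Ideal.Quotient.eq_zero_iff_mem.2 hxJ]
    exact Ideal.zero_mem _
  have hdec : ∀ d, ∃ a ∈ Ideal.span (Set.range f), coeff d P - a ∈ J := by
    intro d
    have := hcoef d
    rw [coeff_map, hmapspan, Ideal.mem_map_iff_of_surjective _ Ideal.Quotient.mk_surjective] at this
    obtain ⟨a, ha, hae⟩ := this
    refine ⟨a, ha, ?_⟩
    rw [← Ideal.Quotient.eq_zero_iff_mem, map_sub, hae, sub_self]
  choose a ha haj using hdec
  have hm : ∀ d ∈ P.support, eval f (monomial d 1) ∈ Ideal.span (Set.range f) ^ k := fun d hd =>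
    eval_mem_pow f k _ (isHomogeneous_monomial _ (degree_of_mem_support hP hd))
  have hsum : eval f P = ∑ d ∈ P.support, (coeff d P - a d) * eval f (monomial d 1) +
      ∑ d ∈ P.support, a d * eval f (monomial d 1) := by
    rw [← Finset.sum_add_distrib]
    conv_lhs => rw [← P.support_sum_monomial_coeff, map_sum]
    refine Finset.sum_congr rfl fun d _ => ?_
    rw [← add_mul, sub_add_cancel]
    simp [eval_monomial]
  have hy : ∑ d ∈ P.support, (coeff d P - a d) * eval f (monomial d 1) ∈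
      J * Ideal.span (Set.range f) ^ k :=
    Ideal.sum_mem _ fun d hd => Ideal.mul_mem_mul (haj d) (hm d hd)
  have hw : ∑ d ∈ P.support, a d * eval f (monomial d 1) ∈ Ideal.span (Set.range f) ^ (k + 1) := by
    rw [pow_succ']
    exact Ideal.sum_mem _ fun d hd => Ideal.mul_mem_mul (ha d) (hm d hd)
  have hwJ : ∑ d ∈ P.support, a d * eval f (monomial d 1) ∈ J := by
    have : ∑ d ∈ P.support, a d * eval f (monomial d 1) = eval f P -
        ∑ d ∈ P.support, (coeff d P - a d) * eval f (monomial d 1) := by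
      rw [hsum]; ring
    rw [this]
    have hyJ : ∑ d ∈ P.support, (coeff d P - a d) * eval f (monomial d 1) ∈ J :=
      (Ideal.mul_le_left : J * Ideal.span (Set.range f) ^ k ≤ J) hy
    exact Ideal.sub_mem J hxJ hyJ
  rw [hsum]
  exact Submodule.add_mem_sup hy ⟨hwJ, hw⟩

theorem inf_pow_eq (J : Ideal A) {r : ℕ} (f : Fin r → A)
    (hq : CAlgX.IsQuasiRegular (fun i => Ideal.Quotient.mk J (f i))) (n N : ℕ) (hnN : n ≤ N) :
    J ⊓ Ideal.span (Set.range f) ^ n =
      J * Ideal.span (Set.range f) ^ n ⊔ J ⊓ Ideal.span (Set.range f) ^ N := by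
  refine le_antisymm ?_ ?_
  · induction N, hnN using Nat.le_induction with
    | base => exact le_sup_right
    | succ N hN ih =>
      refine ih.trans (sup_le le_sup_left ?_)
      refine (inf_pow_le_step J f hq N).trans (sup_le ?_ le_sup_right)
      exact (Ideal.mul_mono_right (Ideal.pow_le_pow_right hN)).trans le_sup_left
  · refine sup_le Ideal.mul_le_inf ?_
    exact inf_le_inf_left _ (Ideal.pow_le_pow_right hnN)


/-- ideals are closed for the `I`-adic topology when `I` is in the Jacobson radical of a noetherian ring. -/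
theorem mem_of_forall_mem_sup_pow [IsNoetherianRing A] (I K : Ideal A)
    (hI : I ≤ (⊥ : Ideal A).jacobson) (x : A) (hx : ∀ N, x ∈ K ⊔ I ^ N) : x ∈ K := by
  have h1 : (Submodule.Quotient.mk x : A ⧸ K) ∈ (⨅ i : ℕ, I ^ i • ⊤ : Submodule A (A ⧸ K)) := by
    rw [Submodule.mem_iInf]
    intro N
    obtain ⟨k, hk, y, hy, rfl⟩ := Submodule.mem_sup.1 (hx N)
    have : (Submodule.Quotient.mk (k + y) : A ⧸ K) = y • (Submodule.Quotient.mk 1 : A ⧸ K) := by
      rw [← Submodule.Quotient.mk_smul, smul_eq_mul, mul_one, Submodule.Quotient.mk_add,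
        (Submodule.Quotient.mk_eq_zero K).2 hk, zero_add]
    rw [this]
    exact Submodule.smul_mem_smul hy Submodule.mem_top
  rw [Ideal.iInf_pow_smul_eq_bot_of_le_jacobson I hI, Submodule.mem_bot] at h1
  exact (Submodule.Quotient.mk_eq_zero K).1 h1

theorem inf_pow_eq_mul [IsNoetherianRing A] (J : Ideal A) {r : ℕ} (f : Fin r → A)
    (hq : CAlgX.IsQuasiRegular (fun i => Ideal.Quotient.mk J (f i)))
    (hrad : Ideal.span (Set.range f) ≤ (⊥ : Ideal A).jacobson) (n : ℕ) :
    J ⊓ Ideal.span (Set.range f) ^ n = J * Ideal.span (Set.range f) ^ n := by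
  refine le_antisymm ?_ Ideal.mul_le_inf
  intro x hx
  refine mem_of_forall_mem_sup_pow (Ideal.span (Set.range f)) _ hrad x fun N => ?_
  by_cases hN : n ≤ N
  · have := (inf_pow_eq J f hq n N hN).le hx
    have hle : J * Ideal.span (Set.range f) ^ n ⊔ J ⊓ Ideal.span (Set.range f) ^ N ≤
        J * Ideal.span (Set.range f) ^ n ⊔ Ideal.span (Set.range f) ^ N :=
      sup_le le_sup_left (inf_le_right.trans le_sup_right)
    exact hle this
  · exact Ideal.mem_sup_right (Ideal.pow_le_pow_right (by omega) hx.2)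

theorem inf_sq_eq_mul [IsNoetherianRing A] (J : Ideal A) {r : ℕ} (f : Fin r → A)
    (hq : CAlgX.IsQuasiRegular (fun i => Ideal.Quotient.mk J (f i)))
    (hrad : Ideal.span (Set.range f) ≤ (⊥ : Ideal A).jacobson) :
    J ⊓ (J ⊔ Ideal.span (Set.range f)) ^ 2 = J * (J ⊔ Ideal.span (Set.range f)) := by
  refine le_antisymm ?_ ?_
  · rintro x ⟨hxJ, hxQ⟩
    have hQ : (J ⊔ Ideal.span (Set.range f)) ^ 2 ≤
        J * (J ⊔ Ideal.span (Set.range f)) ⊔ Ideal.span (Set.range f) ^ 2 := by
      rw [sq, Ideal.sup_mul, Ideal.mul_sup (Ideal.span (Set.range f)), sq]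
      refine sup_le le_sup_left (sup_le ?_ le_sup_right)
      rw [mul_comm]
      exact (Ideal.mul_mono_right le_sup_right).trans le_sup_left
    obtain ⟨y, hy, w, hw, rfl⟩ := Submodule.mem_sup.1 (hQ hxQ)
    have hyJ : y ∈ J := (Ideal.mul_le_left : J * (J ⊔ Ideal.span (Set.range f)) ≤ J) hy
    have hwJ : w ∈ J := by
      have := Ideal.sub_mem J hxJ hyJ
      rwa [add_sub_cancel_left] at this
    have hw2 : w ∈ J * Ideal.span (Set.range f) ^ 2 := by
      rw [← inf_pow_eq_mul J f hq hrad 2]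
      exact ⟨hwJ, hw⟩
    have hw3 : w ∈ J * (J ⊔ Ideal.span (Set.range f)) := by
      refine Ideal.mul_mono_right ?_ hw2
      exact (Ideal.pow_le_self (by norm_num)).trans le_sup_right
    exact Ideal.add_mem _ hy hw3
  · refine le_inf Ideal.mul_le_left ?_
    rw [sq]
    exact Ideal.mul_mono_left le_sup_left

end Groth.Agent.Helper6.QReg
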