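import Groth.Agent.Lib.Helper6.ThickAffB

/-!
# Affine and integral morphisms of thickenings
-/

open AlgebraicGeometry CategoryTheory TopologicalSpace Opposite

namespace Groth.Agent.Helper6.ThickAff
universe u

theorem isIntegral_of_comp_nil {R' T' T : Type*} [CommRing R'] [CommRing T'] [CommRing T]
    (ψ : R' →+* T') (π : T' →+* T) (hnil : ∀ x, π x = 0 → IsNilpotent x)
    (h : (π.comp ψ).IsIntegral) : ψ.IsIntegral := by
  intro b
  obtain ⟨p, hp, hpe⟩ := h (π b)
  have h0 : π (p.eval₂ ψ b) = 0 := by rw [Polynomial.hom_eval₂]; exact hpe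
  obtain ⟨n, hn⟩ := hnil _ h0
  exact ⟨p ^ n, hp.pow n, by rw [Polynomial.eval₂_pow, hn]⟩

variable {X X' S S' : Scheme.{u}} (iX : X ⟶ X') (iS : S ⟶ S') (f : X ⟶ S) (f' : X' ⟶ S')

/-- For a commutative square of thickenings, `f` affine implies `f'` affine. -/
theorem isAffineHom_of_thickening [IsClosedImmersion iX] (hX : Function.Surjective iX.base)
    [IsClosedImmersion iS] (w : iX ≫ f' = f ≫ iS) [IsAffineHom f] : IsAffineHom f' := by
  refine ⟨fun V' hV' => ?_⟩
  apply isAffineOpen_of_isAffineOpen_preimage iX hX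
  have e : iX ⁻¹ᵁ (f' ⁻¹ᵁ V') = f ⁻¹ᵁ (iS ⁻¹ᵁ V') := by
    change (iX ≫ f') ⁻¹ᵁ V' = (f ≫ iS) ⁻¹ᵁ V'
    rw [w]
  rw [e]
  exact (hV'.preimage iS).preimage f

/-- Every open of the source of a surjective closed immersion is the preimage of an open, which is
affine if the given one is. -/
theorem exists_isAffineOpen_preimage_eq [IsClosedImmersion iS] (hS : Function.Surjective iS.base)
    (V : S.Opens) (hV : IsAffineOpen V) : ∃ V' : S'.Opens, IsAffineOpen V' ∧ iS ⁻¹ᵁ V' = V := by
  obtain ⟨V's, hV'o, hpre⟩ := iS.isClosedEmbedding.isInducing.isOpen_iff.mp V.2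
  have e : iS ⁻¹ᵁ (⟨V's, hV'o⟩ : S'.Opens) = V := TopologicalSpace.Opens.ext hpre
  exact ⟨⟨V's, hV'o⟩, isAffineOpen_of_isAffineOpen_preimage iS hS _ (by rw [e]; exact hV), e⟩

/-- For a commutative square of thickenings, `f'` affine implies `f` affine. -/
theorem isAffineHom_of_thickening' [IsClosedImmersion iX]
    [IsClosedImmersion iS] (hS : Function.Surjective iS.base) (w : iX ≫ f' = f ≫ iS)
    [IsAffineHom f'] : IsAffineHom f := by
  refine ⟨fun V hV => ?_⟩
  obtain ⟨V', hV', rfl⟩ := exists_isAffineOpen_preimage_eq iS hS V hV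
  have e2 : f ⁻¹ᵁ (iS ⁻¹ᵁ V') = iX ⁻¹ᵁ (f' ⁻¹ᵁ V') := by
    change (f ≫ iS) ⁻¹ᵁ V' = (iX ≫ f') ⁻¹ᵁ V'
    rw [w]
  rw [e2]
  exact (hV'.preimage f').preimage iX

/-- For a commutative square of thickenings, `f` integral implies `f'` integral. -/
theorem isIntegralHom_of_thickening [IsClosedImmersion iX] (hX : Function.Surjective iX.base)
    [IsClosedImmersion iS] (w : iX ≫ f' = f ≫ iS) [IsIntegralHom f] : IsIntegralHom f' := by
  have haff : IsAffineHom f' := isAffineHom_of_thickening iX iS f f' hX w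
  have hk : IsIntegralHom (iX ≫ f') := by rw [w]; infer_instance
  refine { haff with isIntegral_app := fun V' hV' => ?_ }
  have h1 : ((iX ≫ f').app V').hom.IsIntegral := IsIntegralHom.isIntegral_app (iX ≫ f') V' hV'
  have hcpt : IsCompact ((f' ⁻¹ᵁ V' : X'.Opens) : Set X') := (hV'.preimage f').isCompact
  exact isIntegral_of_comp_nil (f'.app V').hom (iX.app (f' ⁻¹ᵁ V')).hom
    (fun x hx => isNilpotent_of_app_eq_zero iX hX hcpt x hx) h1

/-- For a commutative square of thickenings, `f'` integral implies `f` integral. -/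
theorem isIntegralHom_of_thickening' [IsClosedImmersion iX]
    [IsClosedImmersion iS] (hS : Function.Surjective iS.base) (w : iX ≫ f' = f ≫ iS)
    [IsIntegralHom f'] : IsIntegralHom f := by
  have haff : IsAffineHom f := isAffineHom_of_thickening' iX iS f f' hS w
  have hk : IsIntegralHom (f ≫ iS) := by rw [← w]; infer_instance
  refine { haff with isIntegral_app := fun V hV => ?_ }
  obtain ⟨V', hV', rfl⟩ := exists_isAffineOpen_preimage_eq iS hS V hV
  have h1 : ((f ≫ iS).app V').hom.IsIntegral := IsIntegralHom.isIntegral_app (f ≫ iS) V' hV'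
  exact RingHom.IsIntegral.tower_top (f := (iS.app V').hom) (g := (f.app (iS ⁻¹ᵁ V')).hom) h1

end Groth.Agent.Helper6.ThickAff
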