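import Groth.Agent.Lib.Helper6.FSchThick
namespace Groth.Agent.Helper6.FSchLib
open AlgebraicGeometry CategoryTheory Limits Scheme.IdealSheafData
universe u
variable {X Y : Scheme.{u}}

theorem idealFT_of_iSup_eq_top {I : X.IdealSheafData} {ι : Type*}
    (U : ι → X.affineOpens) (hU : ⨆ i, (U i).1 = ⊤) (H : ∀ i, (I.ideal (U i)).FG) :
    FSch.IdealFT I := by
  intro V
  have : ∀ x : V.1, ∃ (i : ι) (r : Γ(X, V.1)) (rU : Γ(X, U i)),
      X.basicOpen r = X.basicOpen rU ∧ x.1 ∈ X.basicOpen r := by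
    intro ⟨x, hxV⟩
    obtain ⟨i, hi⟩ := TopologicalSpace.Opens.mem_iSup.mp (hU.ge (Set.mem_univ x))
    exact ⟨i, exists_basicOpen_le_affine_inter V.2 (U i).2 _ ⟨hxV, hi⟩⟩
  choose i r rU e hxr using this
  have hspan : Ideal.span (Set.range r) = ⊤ := by
    rw [← V.2.self_le_iSup_basicOpen_iff]
    exact fun x hxV ↦ TopologicalSpace.Opens.mem_iSup.mpr ⟨⟨_, _, rfl⟩, hxr ⟨x, hxV⟩⟩
  have inst := V.2.isLocalization_basicOpen
  refine Submodule.of_localizationSpan' (Set.range r) hspan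
    (Rₚ := fun g => Γ(X, X.basicOpen g.1)) (Mₚ := fun g => Γ(X, X.basicOpen g.1))
    (fun g => Algebra.linearMap Γ(X, V.1) Γ(X, X.basicOpen g.1)) ?_
  rintro ⟨_, j, rfl⟩
  rw [Ideal.localized'_eq_map]
  simp only [RingHom.algebraMap_toAlgebra]
  erw [I.map_ideal (U := ⟨_, V.2.basicOpen _⟩) (X.basicOpen_le (r j))]
  rw! [e]
  rw [← I.map_ideal (V := (U _)) (X.basicOpen_le _)]
  exact Ideal.FG.map (H (i j)) _

theorem iSup_affine_le_eq_top (f : X ⟶ Y) :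
    ⨆ p : {p : X.affineOpens × Y.affineOpens // p.1.1 ≤ f ⁻¹ᵁ p.2.1}, (p.1.1 : X.affineOpens).1 = ⊤ := by
  rw [eq_top_iff]
  rintro x -
  obtain ⟨V, hV, hxV, -⟩ := (TopologicalSpace.Opens.isBasis_iff_nbhd.mp Y.isBasis_affineOpens)
    (show f x ∈ (⊤ : Y.Opens) from trivial)
  obtain ⟨U, hU, hxU, hUV⟩ := (TopologicalSpace.Opens.isBasis_iff_nbhd.mp X.isBasis_affineOpens)
    (show x ∈ f ⁻¹ᵁ V from hxV)
  exact TopologicalSpace.Opens.mem_iSup.mpr ⟨⟨(⟨U, hU⟩, ⟨V, hV⟩), hUV⟩, hxU⟩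

theorem idealFT_comap (f : X ⟶ Y) (K : Y.IdealSheafData) (hK : FSch.IdealFT K) :
    FSch.IdealFT (K.comap f) := by
  refine idealFT_of_iSup_eq_top (fun p : {p : X.affineOpens × Y.affineOpens // p.1.1 ≤ f ⁻¹ᵁ p.2.1} =>
    p.1.1) (iSup_affine_le_eq_top f) fun p => ?_
  rw [IdealComap.ideal_comap f K p.1.1 p.1.2 p.2]
  exact Ideal.FG.map (hK _) _

theorem idealFT_of_isLocallyNoetherian [IsLocallyNoetherian X] (K : X.IdealSheafData) :
    FSch.IdealFT K := fun U =>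
  have := IsLocallyNoetherian.component_noetherian U
  IsNoetherian.noetherian _

/-- For a cartesian square with a closed immersion at the bottom, the kernel of the top map is the
inverse image of the kernel of the bottom map. -/
theorem ker_of_isPullback {P X' Z' W : Scheme.{u}} {a : P ⟶ X'} {b : P ⟶ Z'} {c : X' ⟶ W} {d : Z' ⟶ W}
    (h : IsPullback a b c d) [IsClosedImmersion d] : a.ker = d.ker.comap c := by
  rw [← ker_fst_of_isClosedImmersion d c]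
  have e : h.isoPullback.hom ≫ pullback.fst c d = a := h.isoPullback_hom_fst
  calc a.ker = (h.isoPullback.hom ≫ pullback.fst c d).ker := by rw [e]
    _ = _ := Scheme.Hom.ker_comp_of_isIso _ _

section AdicHom
variable {𝔛 𝔖 : FSch.Sys.{u}} (f : 𝔛 ⟶ 𝔖)

theorem isPullback_toX (hf : FSch.IsAdicHom f) (n : ℕ) :
    IsPullback (𝔛.toX n) ((f : FSch.Hom 𝔛 𝔖).app 0) ((f : FSch.Hom 𝔛 𝔖).app n) (𝔖.toX n) := by
  induction n with
  | zero =>
    have h1 : IsIso (𝔛.toX 0) := inferInstanceAs (IsIso (𝟙 _))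
    have h2 : IsIso (𝔖.toX 0) := inferInstanceAs (IsIso (𝟙 _))
    exact IsPullback.of_horiz_isIso ⟨by simp [FSch.Sys.toX]⟩
  | succ n ih => exact ih.paste_horiz (hf n)

theorem isFormal_of_isAdicHom (hf : FSch.IsAdicHom f) (h𝔖 : 𝔖.IsFormal) : 𝔛.IsFormal := by
  intro n
  refine ⟨MorphismProperty.of_isPullback (P := @IsClosedImmersion) (hf n).flip (h𝔖 n).1, ?_⟩
  exact (MorphismProperty.of_isPullback (P := @Surjective) (hf n).flip ⟨(h𝔖 n).2⟩).surj

theorem isAdic_of_isAdicHom (hf : FSch.IsAdicHom f) (h𝔖F : 𝔖.IsFormal) (h𝔖A : 𝔖.IsAdic) :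
    𝔛.IsAdic := by
  intro n
  have := (h𝔖F n).1
  have := toX_isClosedImmersion 𝔖 h𝔖F (n + 1)
  rw [ker_of_isPullback (hf n), h𝔖A n, IdealComap.comap_pow,
    ← ker_of_isPullback (isPullback_toX f hf (n + 1))]

theorem isLocNoethFormal_of_isAdicHom (h𝔖 : 𝔖.IsLocNoethFormal) (hf : FSch.IsAdicHom f)
    [IsLocallyNoetherian (𝔛.X 0)] : 𝔛.IsLocNoethFormal := by
  have hF := isFormal_of_isAdicHom f hf h𝔖.1
  have hA := isAdic_of_isAdicHom f hf h𝔖.1 h𝔖.2.1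
  refine ⟨hF, hA, fun n => isLocallyNoetherian_of_isAdic 𝔛 hF hA ?_ n⟩
  have := (h𝔖.1 0).1
  have := h𝔖.2.2 1
  rw [ker_of_isPullback (hf 0)]
  exact idealFT_comap _ _ (idealFT_of_isLocallyNoetherian _)

end AdicHom

end Groth.Agent.Helper6.FSchLib
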