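import Mathlib

/-!
# Projective dimension of the residue field after localizing at a maximal ideal

`pdLT_residueField_of_pdLT_quotient`: if `D ⧸ m` has projective dimension `< n + 1` over `D`
(`m` maximal), then the residue field of `D_m` has projective dimension `< n + 1` over `D_m`.
-/

universe u

open CategoryTheory

namespace Groth.Agent.Helper6.PdLoc

section
variable {D : Type u} [CommRing D] (m : Ideal D) [m.IsMaximal]

/-- The `D`-linear map `D ⧸ m → κ(D_m)`. -/
noncomputable def resMap :
    (D ⧸ m) →ₗ[D] IsLocalRing.ResidueField (Localization.AtPrime m) :=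
  (Ideal.Quotient.liftₐ m
    (Algebra.ofId D (IsLocalRing.ResidueField (Localization.AtPrime m)))
    (fun a ha => by
      show algebraMap D (IsLocalRing.ResidueField (Localization.AtPrime m)) a = 0
      rw [IsScalarTower.algebraMap_apply D (Localization.AtPrime m),
        IsLocalRing.ResidueField.algebraMap_eq, IsLocalRing.residue_eq_zero_iff]
      exact (IsLocalization.AtPrime.to_map_mem_maximal_iff _ m a).mpr ha)).toLinearMap

theorem resMap_eq (x : D ⧸ m) :
    resMap m x =
      (IsLocalization.AtPrime.equivQuotMaximalIdeal m (Localization.AtPrime m) x :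
        Localization.AtPrime m ⧸ IsLocalRing.maximalIdeal (Localization.AtPrime m)) := by
  obtain ⟨x, rfl⟩ := Ideal.Quotient.mk_surjective x
  rfl

theorem resMap_bijective : Function.Bijective (resMap m) := by
  constructor
  · intro x y hxy
    rw [resMap_eq, resMap_eq] at hxy
    exact (IsLocalization.AtPrime.equivQuotMaximalIdeal m (Localization.AtPrime m)).injective hxy
  · intro y
    refine ⟨(IsLocalization.AtPrime.equivQuotMaximalIdeal m (Localization.AtPrime m)).symm y, ?_⟩
    rw [resMap_eq]
    exact (IsLocalization.AtPrime.equivQuotMaximalIdeal m (Localization.AtPrime m)).apply_symm_apply y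

instance resMap_isLocalizedModule : IsLocalizedModule m.primeCompl (resMap m) := by
  have h1 : IsLocalizedModule m.primeCompl
      (LinearMap.id : IsLocalRing.ResidueField (Localization.AtPrime m) →ₗ[D]
        IsLocalRing.ResidueField (Localization.AtPrime m)) :=
    isLocalizedModule_id (S := m.primeCompl)
      (M := IsLocalRing.ResidueField (Localization.AtPrime m)) (R' := Localization.AtPrime m)
  have h2 := (IsLocalizedModule.comp_iff_of_bijective_right (S := m.primeCompl) (resMap m)
    (f := (LinearMap.id : IsLocalRing.ResidueField (Localization.AtPrime m) →ₗ[D]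
        IsLocalRing.ResidueField (Localization.AtPrime m))) (resMap_bijective m)).mpr h1
  rwa [LinearMap.id_comp] at h2

end

theorem pdLT_residueField_of_isLocalizedModule {D : Type u} [CommRing D]
    (m : Ideal D) [m.IsMaximal] (n : ℕ) (M : ModuleCat.{u} D)
    (h : HasProjectiveDimensionLT M (n + 1))
    (g : M →ₗ[D] IsLocalRing.ResidueField (Localization.AtPrime m))
    [IsLocalizedModule m.primeCompl g] :
    HasProjectiveDimensionLT (ModuleCat.of (Localization.AtPrime m)
      (IsLocalRing.ResidueField (Localization.AtPrime m))) (n + 1) := by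
  haveI : HasProjectiveDimensionLE M n := h
  have h2 : HasProjectiveDimensionLE (M.localizedModule m.primeCompl) n :=
    ModuleCat.localizedModule_hasProjectiveDimensionLE n m.primeCompl M
  let e0 : (M.localizedModule m.primeCompl) ≃ₗ[D]
      IsLocalRing.ResidueField (Localization.AtPrime m) :=
    IsLocalizedModule.linearEquiv m.primeCompl (M.localizedModuleMkLinearMap m.primeCompl) g
  let e1 : (M.localizedModule m.primeCompl) ≃ₗ[Localization.AtPrime m]
      IsLocalRing.ResidueField (Localization.AtPrime m) :=
    LinearEquiv.extendScalarsOfIsLocalization m.primeCompl (Localization.AtPrime m) e0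
  haveI : HasProjectiveDimensionLT
      (ModuleCat.of (Localization.AtPrime m) (M.localizedModule m.primeCompl)) (n + 1) := h2
  exact hasProjectiveDimensionLT_of_iso e1.toModuleIso (n + 1)

theorem pdLT_residueField_of_pdLT_quotient {D : Type u} [CommRing D] [IsNoetherianRing D]
    (m : Ideal D) [m.IsMaximal] (n : ℕ)
    (h : HasProjectiveDimensionLT (ModuleCat.of D (D ⧸ m)) (n + 1)) :
    HasProjectiveDimensionLT (ModuleCat.of (Localization.AtPrime m)
      (IsLocalRing.ResidueField (Localization.AtPrime m))) (n + 1) :=
  @pdLT_residueField_of_isLocalizedModule D _ m _ n (ModuleCat.of D (D ⧸ m)) h (resMap m)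
    (resMap_isLocalizedModule m)

end Groth.Agent.Helper6.PdLoc
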