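import Mathlib

/-!
# Two Mathlib-only sub-lemmas for S2206 (requested by helper2) (helper6)
-/

set_option autoImplicit false
set_option linter.style.haveILetI false

universe u

namespace Groth.Agent.Helper6.S2206Aux

/-- (E): residue fields at maximal ideals of a finite type algebra over an algebraically closed field. -/
theorem bijective_algebraMap_quotient_maximal (L D : Type u) [Field L] [IsAlgClosed L] [CommRing D]
    [Algebra L D] [Algebra.FiniteType L D] (m : Ideal D) [m.IsMaximal] :
    Function.Bijective (algebraMap L (D ⧸ m)) := by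
  letI : Field (D ⧸ m) := Ideal.Quotient.field m
  haveI : Algebra.FiniteType L (D ⧸ m) :=
    Algebra.FiniteType.of_surjective (Ideal.Quotient.mkₐ L m) (Ideal.Quotient.mkₐ_surjective L m)
  haveI : Module.Finite L (D ⧸ m) := finite_of_finite_type_of_isJacobsonRing L (D ⧸ m)
  exact IsAlgClosed.algebraMap_bijective_of_isIntegral

/-- (G): smoothness can be checked at maximal ideals. -/
theorem smooth_of_formallySmooth_at_maximal (L D : Type u) [Field L] [CommRing D] [Algebra L D]
    [Algebra.FinitePresentation L D]
    (h : ∀ (m : Ideal D) [m.IsMaximal], Algebra.FormallySmooth L (Localization.AtPrime m)) :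
    Algebra.Smooth L D := by
  have hloc : Algebra.smoothLocus L D = Set.univ := by
    apply Set.eq_univ_of_forall
    intro p
    obtain ⟨m, hm, hpm⟩ := Ideal.exists_le_maximal p.asIdeal p.2.ne_top
    haveI := hm
    have hspec : p ⤳ (⟨m, hm.isPrime⟩ : PrimeSpectrum D) :=
      (PrimeSpectrum.le_iff_specializes _ _).mp hpm
    exact hspec.mem_open Algebra.isOpen_smoothLocus (h m)
  exact ⟨Algebra.smoothLocus_eq_univ_iff.mp hloc, inferInstance⟩

end Groth.Agent.Helper6.S2206Aux
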