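import Mathlib

/-!
# Two-term complexes in degrees `-1, 0` (Mathlib's `HomologicalComplex.double`): maps, composition,
isomorphisms and homotopies (helper6)
-/

open CategoryTheory Limits HomologicalComplex

universe v u

namespace Groth.Agent.Helper6.NLDbl

variable {C : Type u} [Category.{v} C] [Preadditive C] [HasZeroObject C]

theorem rel : (ComplexShape.up ℤ).Rel (-1) 0 := by simp

theorem ne : (-1 : ℤ) ≠ 0 := by decide

/-- the two-term complex `X₀ ⟶ X₁` in degrees `-1, 0` -/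
noncomputable abbrev dbl {X₀ X₁ : C} (f : X₀ ⟶ X₁) : CochainComplex C ℤ := double f rel

variable {X₀ X₁ Y₀ Y₁ Z₀ Z₁ : C} {f : X₀ ⟶ X₁} {g : Y₀ ⟶ Y₁} {k : Z₀ ⟶ Z₁}

/-- the chain map induced by a commutative square -/
noncomputable def dmap (a₀ : X₀ ⟶ Y₀) (a₁ : X₁ ⟶ Y₁) (comm : a₀ ≫ g = f ≫ a₁) : dbl f ⟶ dbl g :=
  mkHomFromDouble rel ne (a₀ ≫ (doubleXIso₀ g rel).inv) (a₁ ≫ (doubleXIso₁ g rel ne).inv)
    (by
      rw [double_d g rel ne]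
      simp only [Category.assoc, Iso.inv_hom_id_assoc]
      rw [← Category.assoc, comm, Category.assoc])
    (fun k hk => (isZero_double_X g rel k (by simp at hk; omega) (by simp at hk; omega)).eq_of_tgt _ _)

theorem dmap_f₀ (a₀ : X₀ ⟶ Y₀) (a₁ : X₁ ⟶ Y₁) (comm : a₀ ≫ g = f ≫ a₁) :
    (dmap a₀ a₁ comm).f (-1) = (doubleXIso₀ f rel).hom ≫ a₀ ≫ (doubleXIso₀ g rel).inv :=
  mkHomFromDouble_f₀ _ _ _ _ _ _

theorem dmap_f₁ (a₀ : X₀ ⟶ Y₀) (a₁ : X₁ ⟶ Y₁) (comm : a₀ ≫ g = f ≫ a₁) :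
    (dmap a₀ a₁ comm).f 0 = (doubleXIso₁ f rel ne).hom ≫ a₁ ≫ (doubleXIso₁ g rel ne).inv :=
  mkHomFromDouble_f₁ _ _ _ _ _ _

theorem dmap_comp (a₀ : X₀ ⟶ Y₀) (a₁ : X₁ ⟶ Y₁) (comm : a₀ ≫ g = f ≫ a₁)
    (b₀ : Y₀ ⟶ Z₀) (b₁ : Y₁ ⟶ Z₁) (comm' : b₀ ≫ k = g ≫ b₁) :
    dmap a₀ a₁ comm ≫ dmap b₀ b₁ comm' = dmap (a₀ ≫ b₀) (a₁ ≫ b₁)
      (by rw [Category.assoc, comm', ← Category.assoc, comm, Category.assoc]) := by
  apply from_double_hom_ext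
  · simp only [comp_f, dmap_f₀, Category.assoc, Iso.inv_hom_id_assoc]
  · simp only [comp_f, dmap_f₁, Category.assoc, Iso.inv_hom_id_assoc]

theorem dmap_id : dmap (f := f) (g := f) (𝟙 X₀) (𝟙 X₁) (by simp) = 𝟙 (dbl f) := by
  apply from_double_hom_ext
  · simp only [dmap_f₀, id_f, Category.id_comp, Iso.hom_inv_id]
  · simp only [dmap_f₁, id_f, Category.id_comp, Iso.hom_inv_id]

theorem dmap_congr {a₀ a₀' : X₀ ⟶ Y₀} {a₁ a₁' : X₁ ⟶ Y₁} (h₀ : a₀ = a₀') (h₁ : a₁ = a₁')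
    (comm : a₀ ≫ g = f ≫ a₁) (comm' : a₀' ≫ g = f ≫ a₁') :
    dmap a₀ a₁ comm = dmap a₀' a₁' comm' := by
  subst h₀; subst h₁; rfl

theorem isIso_dmap (a₀ : X₀ ⟶ Y₀) (a₁ : X₁ ⟶ Y₁) (comm : a₀ ≫ g = f ≫ a₁) [IsIso a₀] [IsIso a₁] :
    IsIso (dmap a₀ a₁ comm) := by
  have comm' : inv a₀ ≫ f = g ≫ inv a₁ := by
    rw [IsIso.inv_comp_eq, ← Category.assoc, comm, Category.assoc, IsIso.hom_inv_id,
      Category.comp_id]
  refine ⟨⟨dmap (inv a₀) (inv a₁) comm', ?_, ?_⟩⟩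
  · rw [dmap_comp, ← dmap_id]
    exact dmap_congr (IsIso.hom_inv_id a₀) (IsIso.hom_inv_id a₁) _ _
  · rw [dmap_comp, ← dmap_id]
    exact dmap_congr (IsIso.inv_hom_id a₀) (IsIso.inv_hom_id a₁) _ _

/-- the components of the homotopy attached to `s : X₁ ⟶ Y₀` -/
noncomputable def dhom (s : X₁ ⟶ Y₀) (i j : ℤ) : (dbl f).X i ⟶ (dbl g).X j :=
  if h : i = 0 ∧ j = -1 then
    eqToHom (by rw [h.1]) ≫ (doubleXIso₁ f rel ne).hom ≫ s ≫ (doubleXIso₀ g rel).inv ≫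
      eqToHom (by rw [h.2])
  else 0

theorem dhom_self (s : X₁ ⟶ Y₀) :
    dhom (f := f) (g := g) s 0 (-1) =
      (doubleXIso₁ f rel ne).hom ≫ s ≫ (doubleXIso₀ g rel).inv := by
  simp [dhom]

theorem dhom_zero (s : X₁ ⟶ Y₀) (i j : ℤ) (h : ¬ (i = 0 ∧ j = -1)) :
    dhom (f := f) (g := g) s i j = 0 := dif_neg h

/-- the homotopy between two maps of two-term complexes given by `s : X₁ ⟶ Y₀` -/
noncomputable def dhomotopy {a₀ b₀ : X₀ ⟶ Y₀} {a₁ b₁ : X₁ ⟶ Y₁} (ca : a₀ ≫ g = f ≫ a₁)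
    (cb : b₀ ≫ g = f ≫ b₁) (s : X₁ ⟶ Y₀) (h₀ : a₀ = f ≫ s + b₀) (h₁ : a₁ = s ≫ g + b₁) :
    Homotopy (dmap a₀ a₁ ca) (dmap b₀ b₁ cb) where
  hom := dhom s
  zero i j hij := dhom_zero s i j (by rintro ⟨rfl, rfl⟩; exact hij (by simp))
  comm i := by
    by_cases hi0 : i = -1
    · subst hi0
      rw [dNext_eq _ rel, prevD_eq _ (show (ComplexShape.up ℤ).Rel (-2) (-1) by simp),
        dhom_zero s (-1) (-2) (by omega), zero_comp, add_zero, dmap_f₀, dmap_f₀,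
        double_d f rel ne, dhom_self, h₀]
      simp only [Category.assoc, Iso.inv_hom_id_assoc, Preadditive.add_comp, Preadditive.comp_add]
    · by_cases hi1 : i = 0
      · subst hi1
        rw [dNext_eq _ (show (ComplexShape.up ℤ).Rel 0 1 by simp), prevD_eq _ rel,
          dhom_zero s 1 0 (by omega), comp_zero, zero_add, dmap_f₁, dmap_f₁,
          double_d g rel ne, dhom_self, h₁]
        simp only [Category.assoc, Iso.inv_hom_id_assoc, Preadditive.add_comp,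
          Preadditive.comp_add]
      · exact (isZero_double_X f rel i hi0 hi1).eq_of_src _ _

end Groth.Agent.Helper6.NLDbl
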