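import Groth.Agent.Lib.Helper6.NLFlatA
import Groth.Agent.Lib.Helper6.NLDbl

/-!
# Naive cotangent complex: chain-level statements for base change along a cocartesian square
(helper6)
-/

open CategoryTheory Limits HomologicalComplex TensorProduct
open Groth.Agent.Helper6.NLDbl

universe u

namespace Groth.Agent.Helper6.NLFlat

section SameTop

variable {R S : Type u} [CommRing R] [CommRing S] [Algebra R S]
  {R' : Type u} [CommRing R'] [Algebra R' S] [Algebra R R'] [IsScalarTower R R' S]
  {P : Algebra.Extension.{u} R S} {P' : Algebra.Extension.{u} R' S}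

theorem map_comm (f : P.Hom P') :
    ModuleCat.ofHom (Algebra.Extension.Cotangent.map f) ≫ ModuleCat.ofHom P'.cotangentComplex =
      ModuleCat.ofHom P.cotangentComplex ≫
        ModuleCat.ofHom (Algebra.Extension.CotangentSpace.map f) := by
  ext x
  simpa using (Algebra.Extension.CotangentSpace.map_cotangentComplex f x).symm

theorem map_eq_dmap (f : P.Hom P') :
    NLCx.map f = dmap (ModuleCat.ofHom (Algebra.Extension.Cotangent.map f))
      (ModuleCat.ofHom (Algebra.Extension.CotangentSpace.map f)) (map_comm f) := rfl

end SameTop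

section Homot

variable {R S : Type u} [CommRing R] [CommRing S] [Algebra R S]
  {P P' P'' : Algebra.Extension.{u} R S}

theorem map_id : NLCx.map (Algebra.Extension.Hom.id P) = 𝟙 (NLCx.cx P) := by
  rw [map_eq_dmap]
  refine (dmap_congr ?_ ?_ _ (by simp)).trans dmap_id
  · rw [Algebra.Extension.Cotangent.map_id]
    rfl
  · rw [Algebra.Extension.CotangentSpace.map_id]
    rfl

theorem map_comp (f : P.Hom P') (g : P'.Hom P'') :
    NLCx.map (g.comp f) = NLCx.map f ≫ NLCx.map g := by
  rw [map_eq_dmap, map_eq_dmap, map_eq_dmap]
  refine Eq.trans ?_ (dmap_comp _ _ _ _ _ _).symm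
  apply dmap_congr
  · rw [Algebra.Extension.Cotangent.map_comp]
    rfl
  · rw [Algebra.Extension.CotangentSpace.map_comp]
    rfl

/-- two morphisms of extensions induce homotopic maps on naive cotangent complexes -/
noncomputable def mapHomotopy (f g : P.Hom P') : Homotopy (NLCx.map f) (NLCx.map g) :=
  dhomotopy (map_comm f) (map_comm g) (ModuleCat.ofHom (f.sub g))
    (by
      apply ModuleCat.hom_ext
      apply LinearMap.ext
      intro x
      have := congrArg (fun l => l x) (Algebra.Extension.Cotangent.map_sub_map f g)
      simp only [LinearMap.sub_apply, LinearMap.comp_apply] at this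
      rw [sub_eq_iff_eq_add] at this
      simpa using this)
    (by
      apply ModuleCat.hom_ext
      apply LinearMap.ext
      intro x
      have := congrArg (fun l => l x) (Algebra.Extension.CotangentSpace.map_sub_map f g)
      simp only [LinearMap.sub_apply, LinearMap.comp_apply, LinearMap.restrictScalars_apply]
        at this
      rw [sub_eq_iff_eq_add] at this
      simpa using this)

/-- naive cotangent complexes of two extensions with maps both ways are homotopy equivalent -/
noncomputable def homotopyEquiv (f : P.Hom P') (g : P'.Hom P) :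
    HomotopyEquiv (NLCx.cx P) (NLCx.cx P') where
  hom := NLCx.map f
  inv := NLCx.map g
  homotopyHomInvId :=
    (Homotopy.ofEq (map_comp f g).symm).trans
      ((mapHomotopy (g.comp f) (Algebra.Extension.Hom.id P)).trans (Homotopy.ofEq map_id))
  homotopyInvHomId :=
    (Homotopy.ofEq (map_comp g f).symm).trans
      ((mapHomotopy (f.comp g) (Algebra.Extension.Hom.id P')).trans (Homotopy.ofEq map_id))

end Homot

section BC

variable {R S R' S' : Type u} [CommRing R] [CommRing S] [CommRing R'] [CommRing S']
  [Algebra R S] [Algebra R' S'] [Algebra R R'] [Algebra S S'] [Algebra R S']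
  [IsScalarTower R R' S'] [IsScalarTower R S S']
  {P : Algebra.Extension.{u} R S} {P' P'' : Algebra.Extension.{u} R' S'}

omit [IsScalarTower R S S'] in
theorem bcMap_comm (f : P.Hom P') :
    ModuleCat.ofHom (LinearMap.liftBaseChange S' (Algebra.Extension.Cotangent.map f)) ≫
        ModuleCat.ofHom P'.cotangentComplex =
      ModuleCat.ofHom (P.cotangentComplex.baseChange S') ≫
        ModuleCat.ofHom (LinearMap.liftBaseChange S'
          (Algebra.Extension.CotangentSpace.map f)) := by
  ext x
  simpa using (Algebra.Extension.CotangentSpace.map_cotangentComplex f x).symm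

theorem bcMap_eq_dmap (f : P.Hom P') :
    NLCx.bcMap f = dmap
      (ModuleCat.ofHom (LinearMap.liftBaseChange S' (Algebra.Extension.Cotangent.map f)))
      (ModuleCat.ofHom (LinearMap.liftBaseChange S' (Algebra.Extension.CotangentSpace.map f)))
      (bcMap_comm f) := rfl

theorem isIso_bcMap (f : P.Hom P')
    (h1 : Function.Bijective (LinearMap.liftBaseChange S' (Algebra.Extension.Cotangent.map f)))
    (h2 : Function.Bijective
      (LinearMap.liftBaseChange S' (Algebra.Extension.CotangentSpace.map f))) :
    IsIso (NLCx.bcMap f) := by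
  rw [bcMap_eq_dmap]
  have : IsIso (ModuleCat.ofHom
      (LinearMap.liftBaseChange S' (Algebra.Extension.Cotangent.map f))) :=
    (ConcreteCategory.isIso_iff_bijective _).mpr h1
  have : IsIso (ModuleCat.ofHom
      (LinearMap.liftBaseChange S' (Algebra.Extension.CotangentSpace.map f))) :=
    (ConcreteCategory.isIso_iff_bijective _).mpr h2
  exact isIso_dmap _ _ _

omit [IsScalarTower R S S'] in
theorem lift_cotangentSpace_comp (f : P.Hom P') (g : P'.Hom P'')
    (x : S' ⊗[S] P.CotangentSpace) :
    LinearMap.liftBaseChange S' (Algebra.Extension.CotangentSpace.map (g.comp f)) x =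
      Algebra.Extension.CotangentSpace.map g
        (LinearMap.liftBaseChange S' (Algebra.Extension.CotangentSpace.map f) x) := by
  induction x using TensorProduct.induction_on with
  | zero => simp
  | tmul a b =>
    rw [LinearMap.liftBaseChange_tmul, LinearMap.liftBaseChange_tmul, map_smul,
      Algebra.Extension.CotangentSpace.map_comp]
    rfl
  | add a b ha hb => rw [map_add, map_add, map_add, ha, hb]

theorem bcMap_comp (f : P.Hom P') (g : P'.Hom P'') :
    NLCx.bcMap (g.comp f) = NLCx.bcMap f ≫ NLCx.map g := by
  rw [bcMap_eq_dmap, bcMap_eq_dmap, map_eq_dmap]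
  refine Eq.trans ?_ (dmap_comp _ _ _ _ _ _).symm
  apply dmap_congr
  · apply ModuleCat.hom_ext
    apply LinearMap.ext
    intro x
    exact NLBase.lift_cotangent_comp f g x
  · apply ModuleCat.hom_ext
    apply LinearMap.ext
    intro x
    exact lift_cotangentSpace_comp f g x

end BC

section Main

variable (R S R' S' : Type u) [CommRing R] [CommRing S] [CommRing R'] [CommRing S']
  [Algebra R S] [Algebra R' S'] [Algebra R R'] [Algebra S S'] [Algebra R S']
  [IsScalarTower R R' S'] [IsScalarTower R S S'] [Algebra.IsPushout R R' S S']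

theorem bcMapSelf_eq : NLCx.bcMapSelf R S R' S' =
    NLCx.bcMap (NLBase.f1 R S R' S').toExtensionHom ≫
      NLCx.map (NLBase.g1 R S R' S').toExtensionHom := by
  unfold NLCx.bcMapSelf
  rw [NLBase.defaultHom_eq R S R' S', Algebra.Generators.Hom.toExtensionHom_comp, bcMap_comp]

/-- the homotopy equivalence comparing the base-changed presentation with the canonical one -/
noncomputable def hEquivG1 : HomotopyEquiv (NLCx.cx (NLBase.G1 R S R' S').toExtension)
    (NLCx.cx (Algebra.Generators.self R' S').toExtension) :=
  homotopyEquiv (NLBase.g1 R S R' S').toExtensionHom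
    ((Algebra.Generators.self R' S').defaultHom (NLBase.G1 R S R' S')).toExtensionHom

theorem hEquivG1_hom : (hEquivG1 R S R' S').hom =
    NLCx.map (NLBase.g1 R S R' S').toExtensionHom := rfl

theorem isIso_bcMap_f1_of_flat_top [Module.Flat R S] :
    IsIso (NLCx.bcMap (S' := S') (NLBase.f1 R S R' S').toExtensionHom) :=
  isIso_bcMap _ (lift_cotangent_bijective_of_flat_top _ _ _)
    (NLBase.lift_cotangentSpace_bijective _ _ _)

theorem isIso_bcMap_f1_of_flat_base [Module.Flat R R'] :
    IsIso (NLCx.bcMap (S' := S') (NLBase.f1 R S R' S').toExtensionHom) :=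
  isIso_bcMap _ (lift_cotangent_bijective_of_flat_base _ _ _)
    (NLBase.lift_cotangentSpace_bijective _ _ _)

theorem quasiIso_bcMapSelf_of_isIso
    (hI : IsIso (NLCx.bcMap (S' := S') (NLBase.f1 R S R' S').toExtensionHom)) :
    QuasiIso (NLCx.bcMapSelf R S R' S') := by
  rw [bcMapSelf_eq]
  haveI := hI
  haveI : QuasiIso (NLCx.map (NLBase.g1 R S R' S').toExtensionHom) := by
    rw [← hEquivG1_hom]
    infer_instance
  infer_instance

theorem quasiIso_bcMapSelf_of_flat_top [Module.Flat R S] :
    QuasiIso (NLCx.bcMapSelf R S R' S') :=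
  quasiIso_bcMapSelf_of_isIso R S R' S' (isIso_bcMap_f1_of_flat_top R S R' S')

/-- the homotopy equivalence of S7224 -/
theorem exists_homotopyEquiv_of_isIso
    (hI : IsIso (NLCx.bcMap (S' := S') (NLBase.f1 R S R' S').toExtensionHom)) :
    ∃ e : HomotopyEquiv (NLCx.bcCx (Algebra.Generators.self R S).toExtension S')
        (NLCx.cx (Algebra.Generators.self R' S').toExtension),
      e.hom = NLCx.bcMapSelf R S R' S' := by
  haveI := hI
  refine ⟨(HomotopyEquiv.ofIso
    (asIso (NLCx.bcMap (S' := S') (NLBase.f1 R S R' S').toExtensionHom))).trans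
      (hEquivG1 R S R' S'), ?_⟩
  rw [bcMapSelf_eq]
  rfl

end Main

end Groth.Agent.Helper6.NLFlat
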