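import Groth.Agent.Lib.Helper6.KRCotB
import Groth.Agent.Lib.Helper6.NLFlatB

/-!
# LCI ring maps have perfect naive cotangent complex of tor-amplitude `[-1,0]` (helper6)
-/

set_option autoImplicit false
set_option linter.style.haveILetI false

open CategoryTheory CategoryTheory.Limits HomologicalComplex
open Groth.Agent.Helper6.NLDbl

attribute [local instance] HasDerivedCategory.standard

universe u

namespace Groth.Agent.Helper6.KRCot

section Ext

variable {R S : Type u} [CommRing R] [CommRing S] [Algebra R S]
  (E : Algebra.Extension.{u} R S)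

/-- transfer finite projectivity from `I/I²` over `P/I` to `E.Cotangent` over `S`. -/
theorem ext_cotangent_of_ker_cotangent
    (hfin : Module.Finite (E.Ring ⧸ E.ker) E.ker.Cotangent)
    (hproj : Module.Projective (E.Ring ⧸ E.ker) E.ker.Cotangent) :
    Module.Finite S E.Cotangent ∧ Module.Projective S E.Cotangent := by
  let e : (E.Ring ⧸ E.ker) ≃+* S :=
    RingHom.quotientKerEquivOfSurjective E.algebraMap_surjective
  letI : RingHomInvPair (e : E.Ring ⧸ E.ker →+* S) (e.symm : S →+* E.Ring ⧸ E.ker) :=
    RingHomInvPair.of_ringEquiv e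
  letI : RingHomInvPair (e.symm : S →+* E.Ring ⧸ E.ker) (e : E.Ring ⧸ E.ker →+* S) :=
    RingHomInvPair.of_ringEquiv_symm e
  let e₂ : E.ker.Cotangent ≃ₛₗ[(e : E.Ring ⧸ E.ker →+* S)] E.Cotangent :=
    { toFun := Algebra.Extension.Cotangent.of
      map_add' := fun _ _ => rfl
      map_smul' := by
        intro r x
        obtain ⟨p, rfl⟩ := Ideal.Quotient.mk_surjective r
        apply Algebra.Extension.Cotangent.ext
        show (Ideal.Quotient.mk E.ker p • x) =
          ((algebraMap E.Ring S p) • Algebra.Extension.Cotangent.of x).val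
        rw [← Ideal.Quotient.algebraMap_eq, algebraMap_smul]
        exact (Algebra.Extension.Cotangent.val_smul' p (Algebra.Extension.Cotangent.of x)).symm
      invFun := Algebra.Extension.Cotangent.val
      left_inv := fun _ => rfl
      right_inv := fun _ => rfl }
  haveI := hfin
  haveI := hproj
  exact ⟨Module.Finite.of_surjective e₂.toLinearMap e₂.surjective, Module.Projective.of_equiv e₂⟩

end Ext

section Main

variable {A B : Type u} [CommRing A] [CommRing B] [Algebra A B]

theorem gens_cotangent_finite_projective (n : ℕ) (f : MvPolynomial (Fin n) A →ₐ[A] B)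
    (hf : Function.Surjective f) (hK : LCI.IsKoszulRegularIdeal (RingHom.ker f.toRingHom)) :
    Module.Finite B (Algebra.Generators.ofAlgHom f hf).toExtension.Cotangent ∧
      Module.Projective B (Algebra.Generators.ofAlgHom f hf).toExtension.Cotangent := by
  have hker : (Algebra.Generators.ofAlgHom f hf).toExtension.ker = RingHom.ker f.toRingHom := by
    ext x
    have : algebraMap (Algebra.Generators.ofAlgHom f hf).toExtension.Ring B x = f x := by
      change MvPolynomial.aeval (f ∘ MvPolynomial.X) x = f x
      exact (DFunLike.congr_fun (MvPolynomial.aeval_unique f) x).symm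
    show algebraMap (Algebra.Generators.ofAlgHom f hf).toExtension.Ring B x = 0 ↔ f x = 0
    rw [this]
  have hK' : LCI.IsKoszulRegularIdeal (Algebra.Generators.ofAlgHom f hf).toExtension.ker := by
    rw [hker]
    exact hK
  obtain ⟨h1, h2⟩ := cotangent_finite_projective_of_kr _ hK'
  exact ext_cotangent_of_ker_cotangent _ h1 h2

/-- S7072: an lci ring map has perfect naive cotangent complex of tor-amplitude `[-1,0]`. -/
theorem isPerfect_and_torAmp_of_isLCI (h : LCI.IsLCI A B) :
    DRing.IsPerfect B (LCI.NL A B) ∧ DRing.HasTorAmplitudeIn B (-1) 0 (LCI.NL A B) := by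
  obtain ⟨-, n, f, hf, hK⟩ := h
  obtain ⟨G, hG⟩ : ∃ G : Algebra.Generators A B (Fin n),
      G = Algebra.Generators.ofAlgHom f hf := ⟨_, rfl⟩
  obtain ⟨hfin, hproj⟩ : Module.Finite B G.toExtension.Cotangent ∧
      Module.Projective B G.toExtension.Cotangent := by
    rw [hG]
    exact gens_cotangent_finite_projective n f hf hK
  let E : DRing.Cx B := NLCx.cx G.toExtension
  have hvan : DRing.VanishesOutside E (-1) 0 := fun i hi =>
    isZero_double_X _ _ i (by omega) (by omega)
  have hterm : DRing.TermwiseFiniteProjective E := by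
    intro i
    by_cases h1 : i = -1
    · subst h1
      let e : G.toExtension.Cotangent ≃ₗ[B] (E.X (-1)) :=
        (doubleXIso₀ (ModuleCat.ofHom G.toExtension.cotangentComplex) rel).toLinearEquiv.symm
      exact ⟨Module.Finite.equiv e, Module.Projective.of_equiv' e⟩
    · by_cases h2 : i = 0
      · subst h2
        let e : G.toExtension.CotangentSpace ≃ₗ[B] (E.X 0) :=
          (doubleXIso₁ (ModuleCat.ofHom G.toExtension.cotangentComplex) rel
            ne).toLinearEquiv.symm
        haveI : Module.Free B G.toExtension.CotangentSpace :=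
          Module.Free.of_basis G.cotangentSpaceBasis
        haveI : Module.Finite B G.toExtension.CotangentSpace :=
          Module.Finite.of_basis G.cotangentSpaceBasis
        exact ⟨Module.Finite.equiv e, Module.Projective.of_equiv' e⟩
      · have hz : IsZero (E.X i) := isZero_double_X _ _ i h1 h2
        haveI : Subsingleton (E.X i) := ModuleCat.subsingleton_of_isZero hz
        exact ⟨inferInstance, inferInstance⟩
  let he : HomotopyEquiv E (LCI.NLcx A B) :=
    Groth.Agent.Helper6.NLFlat.homotopyEquiv
      (G.defaultHom (Algebra.Generators.self A B)).toExtensionHom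
      ((Algebra.Generators.self A B).defaultHom G).toExtensionHom
  have hq : IsIso (DerivedCategory.Q.map he.hom) :=
    (DerivedCategory.isIso_Q_map_iff_quasiIso _ he.hom).mpr inferInstance
  have iso : DRing.toD E ≅ LCI.NL A B := @asIso _ _ _ _ _ hq
  refine ⟨⟨E, -1, 0, hvan, hterm, ⟨iso⟩⟩, ⟨E, hvan, fun i => ?_, ⟨iso⟩⟩⟩
  haveI := (hterm i).2
  infer_instance

end Main

end Groth.Agent.Helper6.KRCot
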