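import Groth.Agent.Lib.Helper6.NLBaseC

/-!
# Naive cotangent complex: base change along a cocartesian square with `Tor₁ = 0`,
bijectivity in degree `-1` (helper6)
-/

open TensorProduct

universe u

namespace Groth.Agent.Helper6.NLFlat

section General

variable {R S R' S' : Type u} [CommRing R] [CommRing S] [CommRing R'] [CommRing S']
  [Algebra R S] [Algebra R' S'] [Algebra R R'] [Algebra S S'] [Algebra R S']
  [IsScalarTower R R' S'] [IsScalarTower R S S']
  {P : Algebra.Extension.{u} R S} {P' : Algebra.Extension.{u} R' S'} (f : P.Hom P')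

/-- `R' ⊗[R] P.Ring → P'.Ring`, `r' ⊗ p ↦ r' • f p`. -/
noncomputable def eMap : R' ⊗[R] P.Ring →ₗ[R'] P'.Ring :=
  LinearMap.liftBaseChange R' f.toAlgHom.toLinearMap

omit [IsScalarTower R S S'] in
theorem eMap_tmul (r' : R') (p : P.Ring) : eMap f (r' ⊗ₜ p) = r' • f.toRingHom p := by
  simp [eMap]

variable (R') in
/-- `R' ⊗[R] J → R' ⊗[R] P.Ring` for an ideal `J`. -/
noncomputable abbrev jJ (J : Ideal P.Ring) : R' ⊗[R] J →ₗ[R] R' ⊗[R] P.Ring :=
  LinearMap.lTensor R' (J.subtype.restrictScalars R)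

theorem jJ_tmul (J : Ideal P.Ring) (r' : R') (x : J) :
    jJ R' J (r' ⊗ₜ x) = r' ⊗ₜ (x : P.Ring) := rfl

theorem exists_mul (J : Ideal P.Ring) (θ : R' ⊗[R] P.Ring) (η : R' ⊗[R] J) :
    ∃ η' : R' ⊗[R] J, eMap f (jJ R' J η') = eMap f θ * eMap f (jJ R' J η) := by
  induction θ using TensorProduct.induction_on with
  | zero => exact ⟨0, by simp⟩
  | add θ₁ θ₂ h₁ h₂ =>
    obtain ⟨a, ha⟩ := h₁
    obtain ⟨b, hb⟩ := h₂
    exact ⟨a + b, by rw [map_add, map_add, ha, hb, map_add, add_mul]⟩
  | tmul a p =>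
    induction η using TensorProduct.induction_on with
    | zero => exact ⟨0, by simp⟩
    | add η₁ η₂ h₁ h₂ =>
      obtain ⟨x, hx⟩ := h₁
      obtain ⟨y, hy⟩ := h₂
      exact ⟨x + y, by rw [map_add, map_add, hx, hy, map_add, map_add, mul_add]⟩
    | tmul b x =>
      refine ⟨(a * b) ⊗ₜ (p • x), ?_⟩
      rw [jJ_tmul, jJ_tmul, eMap_tmul, eMap_tmul, eMap_tmul, smul_mul_smul_comm, ← map_mul]
      rfl

theorem exists_of_mem_map (hsurj : Function.Surjective (eMap f)) (J : Ideal P.Ring) (z : P'.Ring)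
    (hz : z ∈ Ideal.map f.toRingHom J) : ∃ η : R' ⊗[R] J, eMap f (jJ R' J η) = z := by
  have hz2 : z ∈ Submodule.span P'.Ring (f.toRingHom '' (J : Set P.Ring)) := hz
  refine Submodule.span_induction
    (p := fun z _ => ∃ η : R' ⊗[R] J, eMap f (jJ R' J η) = z) ?_ ?_ ?_ ?_ hz2
  · rintro _ ⟨x, hx, rfl⟩
    exact ⟨1 ⊗ₜ ⟨x, hx⟩, by rw [jJ_tmul, eMap_tmul, one_smul]⟩
  · exact ⟨0, by simp⟩
  · rintro a b _ _ ⟨x, rfl⟩ ⟨y, rfl⟩
    exact ⟨x + y, by rw [map_add, map_add]⟩
  · rintro q a _ ⟨x, rfl⟩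
    obtain ⟨θ, rfl⟩ := hsurj q
    obtain ⟨η', hη'⟩ := exists_mul f J θ x
    exact ⟨η', by rw [hη', smul_eq_mul]⟩

omit [Algebra R S'] [IsScalarTower R R' S'] [IsScalarTower R S S'] in
theorem toRingHom_mem_ker (x : P.ker) : f.toRingHom x ∈ P'.ker := by
  have hx : algebraMap P.Ring S x = 0 := x.2
  rw [Algebra.Extension.ker, RingHom.mem_ker, f.algebraMap_toRingHom, hx, map_zero]

theorem lift_cotangent_injective [Algebra.IsPushout R R' S S']
    (hker : P'.ker ≤ Ideal.map f.toRingHom P.ker)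
    (he : Function.Bijective (eMap f))
    (hj : Function.Injective (jJ R' P.ker)) :
    Function.Injective (LinearMap.liftBaseChange S' (Algebra.Extension.Cotangent.map f)) := by
  let mkR : P.ker →ₗ[R] P.Cotangent :=
    (Algebra.Extension.Cotangent.mk (P := P)).restrictScalars R
  let cb : S' ⊗[S] P.Cotangent ≃ₗ[R'] R' ⊗[R] P.Cotangent :=
    Algebra.IsPushout.cancelBaseChange R R' S S' P.Cotangent
  have hmk : Function.Surjective mkR := Algebra.Extension.Cotangent.mk_surjective
  have key : ∀ η : R' ⊗[R] P.ker, ∃ y : P'.ker, (y : P'.Ring) = eMap f (jJ R' P.ker η) ∧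
      LinearMap.liftBaseChange S' (Algebra.Extension.Cotangent.map f)
        (cb.symm (LinearMap.lTensor R' mkR η)) = Algebra.Extension.Cotangent.mk y := by
    intro η
    induction η using TensorProduct.induction_on with
    | zero => exact ⟨0, by simp, by simp⟩
    | add η₁ η₂ h₁ h₂ =>
      obtain ⟨y₁, h11, h12⟩ := h₁
      obtain ⟨y₂, h21, h22⟩ := h₂
      refine ⟨y₁ + y₂, ?_, ?_⟩
      · rw [map_add, map_add, ← h11, ← h21]
        rfl
      · rw [map_add, map_add, map_add, h12, h22, map_add]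
    | tmul r' x =>
      refine ⟨r' • ⟨f.toRingHom x, toRingHom_mem_ker f x⟩, ?_, ?_⟩
      · rw [jJ_tmul, eMap_tmul]
        rfl
      · rw [LinearMap.lTensor_tmul, Algebra.IsPushout.cancelBaseChange_symm_tmul,
          LinearMap.liftBaseChange_tmul, algebraMap_smul]
        show r' • Algebra.Extension.Cotangent.map f (Algebra.Extension.Cotangent.mk x) = _
        rw [Algebra.Extension.Cotangent.map_mk]
        exact (LinearMap.map_smul_of_tower (Algebra.Extension.Cotangent.mk (P := P')) r' _).symm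
  rw [injective_iff_map_eq_zero]
  intro ξ hξ
  obtain ⟨η, hη⟩ := LinearMap.lTensor_surjective R' hmk (cb ξ)
  obtain ⟨y, hy1, hy2⟩ := key η
  rw [hη, LinearEquiv.symm_apply_apply, hξ] at hy2
  have hy3 : (y : P'.Ring) ∈ P'.ker ^ 2 :=
    (Algebra.Extension.Cotangent.mk_eq_zero_iff y).mp hy2.symm
  have hy4 : (y : P'.Ring) ∈ Ideal.map f.toRingHom (P.ker ^ 2) := by
    rw [Ideal.map_pow]
    exact Ideal.pow_right_mono hker 2 hy3
  obtain ⟨η₂, hη₂⟩ := exists_of_mem_map f he.2 (P.ker ^ 2) _ hy4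
  let inc : ↥(P.ker ^ 2) →ₗ[R] ↥P.ker :=
    (Submodule.inclusion (Ideal.pow_le_self two_ne_zero)).restrictScalars R
  have hinc : ∀ w, jJ R' P.ker (LinearMap.lTensor R' inc w) = jJ R' (P.ker ^ 2) w := by
    intro w
    rw [← LinearMap.comp_apply, ← LinearMap.lTensor_comp]
    rfl
  have h5 : jJ R' P.ker (LinearMap.lTensor R' inc η₂) = jJ R' P.ker η := by
    apply he.1
    rw [hinc, hη₂, hy1]
  have h6 : LinearMap.lTensor R' inc η₂ = η := hj h5
  have h7 : LinearMap.lTensor R' mkR η = 0 := by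
    rw [← h6, ← LinearMap.comp_apply, ← LinearMap.lTensor_comp]
    have h0 : mkR ∘ₗ inc = 0 := by
      ext x
      exact (Algebra.Extension.Cotangent.mk_eq_zero_iff _).mpr x.2
    rw [h0, LinearMap.lTensor_zero, LinearMap.zero_apply]
  rw [h7] at hη
  exact cb.map_eq_zero_iff.mp hη.symm

theorem jJ_injective_of_flat_top [Module.Flat R S] : Function.Injective (jJ R' P.ker) := by
  refine LinearMap.lTensor_injective_of_exact_of_flat (P := S)
    ((IsScalarTower.toAlgHom R P.Ring S).toLinearMap) P.algebraMap_surjective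
    (P.ker.subtype.restrictScalars R) (Submodule.injective_subtype _) ?_ R'
  intro x
  constructor
  · intro hx
    exact ⟨⟨x, hx⟩, rfl⟩
  · rintro ⟨y, rfl⟩
    exact y.2

theorem jJ_injective_of_flat_base [Module.Flat R R'] : Function.Injective (jJ R' P.ker) :=
  Module.Flat.lTensor_preserves_injective_linearMap (M := R')
    (P.ker.subtype.restrictScalars R) (Submodule.injective_subtype _)

end General

section Gens

variable {R S R' S' : Type u} [CommRing R] [CommRing S] [CommRing R'] [CommRing S']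
  [Algebra R S] [Algebra R' S'] [Algebra R R'] [Algebra S S'] [Algebra R S']
  [IsScalarTower R R' S'] [IsScalarTower R S S']
  {ι : Type u} (G : Algebra.Generators R S ι) (G' : Algebra.Generators R' S' ι)
  (h : ∀ i, G'.val i = algebraMap S S' (G.val i))

theorem toRingHom_eq_map (x : MvPolynomial ι R) :
    (NLCx.sameVarsHom G G' h).toExtensionHom.toRingHom x =
      MvPolynomial.map (algebraMap R R') x := by
  have : ((NLCx.sameVarsHom G G' h).toAlgHom : MvPolynomial ι R →+* MvPolynomial ι R') =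
      MvPolynomial.map (algebraMap R R') := by
    apply MvPolynomial.ringHom_ext
    · intro a
      simp [Algebra.Generators.Hom.toAlgHom, MvPolynomial.algebraMap_apply]
    · intro i
      simp [Algebra.Generators.Hom.toAlgHom, NLCx.sameVarsHom]
  exact DFunLike.congr_fun this x

theorem eMap_bijective :
    Function.Bijective (eMap (NLCx.sameVarsHom G G' h).toExtensionHom) := by
  obtain ⟨e, he⟩ : ∃ e : R' ⊗[R] G.toExtension.Ring ≃ₗ[R'] G'.toExtension.Ring,
      ∀ (r' : R') (p : G.toExtension.Ring), e (r' ⊗ₜ p) =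
        r' • (NLCx.sameVarsHom G G' h).toExtensionHom.toRingHom p :=
    ⟨(MvPolynomial.algebraTensorAlgEquiv (σ := ι) R R').toLinearEquiv, fun r' p =>
      (MvPolynomial.algebraTensorAlgEquiv_tmul (R := R) (A := R') r' p).trans
        (congrArg (fun z => r' • z) (toRingHom_eq_map G G' h p).symm)⟩
  have hE : ∀ θ, eMap (NLCx.sameVarsHom G G' h).toExtensionHom θ = e θ := by
    intro θ
    induction θ using TensorProduct.induction_on with
    | zero => rw [map_zero, map_zero]
    | add a b ha hb => rw [map_add, map_add, ha, hb]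
    | tmul r' p => rw [eMap_tmul, he]
  have : ⇑(eMap (NLCx.sameVarsHom G G' h).toExtensionHom) = ⇑e := funext hE
  rw [this]
  exact e.bijective

theorem lift_cotangent_bijective_of_flat_top [Algebra.IsPushout R R' S S'] [Module.Flat R S] :
    Function.Bijective (LinearMap.liftBaseChange S'
      (Algebra.Extension.Cotangent.map (NLCx.sameVarsHom G G' h).toExtensionHom)) :=
  ⟨lift_cotangent_injective _ (NLBase.ker_le_map G G' h) (eMap_bijective G G' h)
      jJ_injective_of_flat_top,
    NLBase.lift_cotangent_surjective _ (NLBase.ker_le_map G G' h)⟩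

theorem lift_cotangent_bijective_of_flat_base [Algebra.IsPushout R R' S S'] [Module.Flat R R'] :
    Function.Bijective (LinearMap.liftBaseChange S'
      (Algebra.Extension.Cotangent.map (NLCx.sameVarsHom G G' h).toExtensionHom)) :=
  ⟨lift_cotangent_injective _ (NLBase.ker_le_map G G' h) (eMap_bijective G G' h)
      jJ_injective_of_flat_base,
    NLBase.lift_cotangent_surjective _ (NLBase.ker_le_map G G' h)⟩

end Gens

end Groth.Agent.Helper6.NLFlat
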