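import Mathlib
import Groth.Prelude.Def_LCI2
import Groth.Agent.S2189
import Groth.Agent.S15821
import Groth.Agent.Lib.Lead.Hom12

/-!
# An ideal of `k[x₁..xₙ]` with projective conormal module is Koszul-regular (helper6)

Sub-lemma (K) requested by helper2 (for S2234).
-/

set_option autoImplicit false
set_option linter.style.haveILetI false

universe u

open CategoryTheory

namespace Groth.Agent.Helper6.KRField

theorem kr_of_projective_cotangent_field (k : Type u) [Field k] (n : ℕ)
    (I : Ideal (MvPolynomial (Fin n) k))
    [Module.Projective (MvPolynomial (Fin n) k ⧸ I) I.Cotangent] : LCI.IsKoszulRegularIdeal I := by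
  have hreg : ∀ m : MaximalSpectrum (MvPolynomial (Fin n) k),
      IsRegularLocalRing (Localization.AtPrime m.asIdeal) := fun m => by
    haveI : IsRegularRing (MvPolynomial (Fin n) k) := inferInstance
    exact isRegularRing_iff.mp inferInstance m.asIdeal
  have hD : ringKrullDim (MvPolynomial (Fin n) k) ≤ (n : ℕ) := by
    rw [MvPolynomial.ringKrullDim_of_isNoetherianRing, ringKrullDim_eq_zero_of_field]
    simp
  have hpd : HasProjectiveDimensionLT (ModuleCat.of (MvPolynomial (Fin n) k) I) (n + 1) :=
    Groth.Agent.Lead.Hom.hasProjectiveDimensionLT_of_regular_of_dim_le hreg hD I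
  intro 𝔭 hle
  obtain ⟨g, hg, rs, hreg', hgen⟩ := Groth.Agent.S2189.result I (n + 1) hpd 𝔭.asIdeal hle
  exact ⟨g, hg, rs, (Groth.Agent.S15821.result _ rs hreg'.toIsWeaklyRegular).1, hgen.symm⟩

end Groth.Agent.Helper6.KRField
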