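import Mathlib

/-!
# `I/I²` is projective over `P/I` when the cotangent module of the extension is flat (helper6)

Mathlib-only sub-lemma requested by helper2 (for S2234).
-/

set_option autoImplicit false
set_option linter.style.haveILetI false

universe u

namespace Groth.Agent.Helper6.KerCotProj

theorem ker_cotangent_projective_of_flat {R S : Type u} [CommRing R] [CommRing S] [Algebra R S]
    (E : Algebra.Extension.{u} R S) [IsNoetherianRing E.Ring] [Module.Flat S E.Cotangent] :
    Module.Projective (E.Ring ⧸ E.ker) E.ker.Cotangent := by
  let e : (E.Ring ⧸ E.ker) ≃+* S :=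
    RingHom.quotientKerEquivOfSurjective E.algebraMap_surjective
  letI : RingHomInvPair (e : E.Ring ⧸ E.ker →+* S) (e.symm : S →+* E.Ring ⧸ E.ker) :=
    RingHomInvPair.of_ringEquiv e
  letI : RingHomInvPair (e.symm : S →+* E.Ring ⧸ E.ker) (e : E.Ring ⧸ E.ker →+* S) :=
    RingHomInvPair.of_ringEquiv_symm e
  let e₂ : E.ker.Cotangent ≃ₛₗ[(e : E.Ring ⧸ E.ker →+* S)] E.Cotangent :=
    { toFun := Algebra.Extension.Cotangent.of
      map_add' := fun _ _ => rfl
      map_smul' := by
        intro r x
        obtain ⟨p, rfl⟩ := Ideal.Quotient.mk_surjective r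
        apply Algebra.Extension.Cotangent.ext
        show (Ideal.Quotient.mk E.ker p • x) =
          ((algebraMap E.Ring S p) • Algebra.Extension.Cotangent.of x).val
        rw [← Ideal.Quotient.algebraMap_eq, algebraMap_smul]
        exact (Algebra.Extension.Cotangent.val_smul' p (Algebra.Extension.Cotangent.of x)).symm
      invFun := Algebra.Extension.Cotangent.val
      left_inv := fun _ => rfl
      right_inv := fun _ => rfl }
  haveI hfin : Module.Finite (E.Ring ⧸ E.ker) E.ker.Cotangent := by
    have hfg : E.ker.FG := IsNoetherian.noetherian E.ker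
    haveI : Module.Finite E.Ring E.ker := Module.Finite.iff_fg.mpr hfg
    haveI : Module.Finite E.Ring E.ker.Cotangent :=
      Module.Finite.of_surjective E.ker.toCotangent (Ideal.toCotangent_surjective E.ker)
    exact Module.Finite.of_restrictScalars_finite E.Ring (E.Ring ⧸ E.ker) E.ker.Cotangent
  haveI : Module.Finite S E.Cotangent :=
    Module.Finite.of_surjective e₂.toLinearMap e₂.surjective
  haveI : IsNoetherianRing S :=
    isNoetherianRing_of_surjective E.Ring S (algebraMap E.Ring S) E.algebraMap_surjective
  haveI : Module.FinitePresentation S E.Cotangent := Module.finitePresentation_of_finite S E.Cotangent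
  haveI : Module.Projective S E.Cotangent := Module.Flat.projective_of_finitePresentation
  exact Module.Projective.of_equiv e₂.symm

end Groth.Agent.Helper6.KerCotProj
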