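import Mathlib
import Groth.Prelude.Def_LCI2
import Groth.Prelude.Def_ega3
import Groth.Agent.Lib.Helper6.LciBCA
import Groth.Agent.Lib.Helper12.LciGor3

/-!
# Flat local complete intersections are stable under arbitrary base change; Gorenstein fibres
-/

set_option autoImplicit false
set_option linter.style.haveILetI false
set_option linter.unusedSectionVars false
universe u

namespace Groth.Agent.Helper6.LciBC

open TensorProduct Groth.Agent.Helper2.KosIdeal

/-- A flat local complete intersection algebra stays a local complete intersection after an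
arbitrary base change. -/
theorem isLCI_baseChange (A B : Type u) [CommRing A] [CommRing B] [Algebra A B] [Module.Flat A B]
    (hl : LCI.IsLCI A B) (A' : Type u) [CommRing A'] [Algebra A A'] :
    LCI.IsLCI A' (A' ⊗[A] B) := by
  obtain ⟨hft, n, f, hf, hker⟩ := hl
  haveI := hft
  haveI hflat : Module.Flat A (MvPolynomial (Fin n) A ⧸ RingHom.ker f.toRingHom) :=
    Module.Flat.of_linearEquiv
      (Ideal.quotientKerAlgEquivOfSurjective hf).toLinearEquiv
  have h1 := kr_tensor (A := A) (RingHom.ker f.toRingHom) hker A'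
  let c : MvPolynomial (Fin n) A ⊗[A] A' ≃+* A' ⊗[A] MvPolynomial (Fin n) A :=
    (Algebra.TensorProduct.comm A (MvPolynomial (Fin n) A) A').toRingEquiv
  let σ : A' ⊗[A] MvPolynomial (Fin n) A ≃+* MvPolynomial (Fin n) A' :=
    (MvPolynomial.algebraTensorAlgEquiv A A').toRingEquiv
  have h2 := kr_ringEquiv (c.trans σ) _ h1
  let G : A' ⊗[A] MvPolynomial (Fin n) A →ₐ[A'] A' ⊗[A] B :=
    Algebra.TensorProduct.map (AlgHom.id A' A') f
  let F : MvPolynomial (Fin n) A' →ₐ[A'] A' ⊗[A] B :=
    G.comp (MvPolynomial.algebraTensorAlgEquiv A A').symm.toAlgHom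
  have hG : Function.Surjective G :=
    Algebra.TensorProduct.map_surjective _ _ Function.surjective_id hf
  refine ⟨inferInstance, n, F, hG.comp (AlgEquiv.surjective _), ?_⟩
  have hkerG : RingHom.ker G.toRingHom = (RingHom.ker f.toRingHom).map
      (Algebra.TensorProduct.includeRight :
        MvPolynomial (Fin n) A →ₐ[A] A' ⊗[A] MvPolynomial (Fin n) A).toRingHom :=
    Algebra.TensorProduct.lTensor_ker (A := A') f hf
  have hkerF : RingHom.ker F.toRingHom = (RingHom.ker G.toRingHom).map (σ : _ →+* _) := by
    rw [Ideal.map_comap_of_equiv σ]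
    rfl
  rw [hkerF, hkerG]
  convert h2 using 1
  rw [Ideal.map_map, Ideal.map_map]
  congr 1

/-- The fibres of a flat local complete intersection algebra are Gorenstein. -/
theorem isGorensteinRing_fibre (A B : Type u) [CommRing A] [CommRing B] [Algebra A B]
    [Module.Flat A B] (hl : LCI.IsLCI A B) (κ : Type u) [Field κ] [Algebra A κ] :
    LocCoh.IsGorensteinRing (B ⊗[A] κ) := by
  have h1 : LocCoh.IsGorensteinRing (κ ⊗[A] B) :=
    Groth.Agent.Helper12.LciGor.isGorensteinRing_of_isLCI κ (κ ⊗[A] B)
      (Groth.Agent.Helper12.GorFib.isGorensteinRing_of_isRegularRing κ)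
      (isLCI_baseChange A B hl κ)
  exact Groth.Agent.Helper12.GorField.isGorensteinRing_of_ringEquiv
    (Algebra.TensorProduct.comm A κ B).toRingEquiv h1

end Groth.Agent.Helper6.LciBC
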