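import Groth.Prelude.Def_W4c6instabfans3FanCvx
import Mathlib

/-!
# Rational local maxima of quasi-concave functions on convex subsets of `P F` (helper6, for S19370)
-/

set_option autoImplicit false
universe u v
open CategoryTheory Opposite Instab Instab.Fan

namespace Groth.Agent.Lib.Helper6.FanMax

variable {F : Fan.{u}}

theorem continuous_mk {n : ICone} (ξ : F.obj (op n)) :
    Continuous (fun v : Orth n => P.mk ξ v) := by
  have h1 : Continuous (fun v : Orth n => (⟨⟨n, ξ⟩, v⟩ : Pt F)) :=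
    continuous_sigmaMk (σ := fun e : (Σ n : ICone, F.obj (op n)) => Orth e.1) (i := ⟨n, ξ⟩)
  exact continuous_quot_mk.comp h1

theorem val_zero_two : ((0 : Fin two.dim) : ℕ) = 0 := rfl
theorem val_one_two : ((1 : Fin two.dim) : ℕ) = 1 := rfl

theorem zero_ne_one_two : (0 : Fin two.dim) ≠ 1 := by
  intro h
  have h2 := congrArg Fin.val h
  rw [val_zero_two, val_one_two] at h2
  exact absurd h2 (by norm_num)

theorem one_ne_zero_two : (1 : Fin two.dim) ≠ 0 := fun h => zero_ne_one_two h.symm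

theorem fin_two_cases (j : Fin two.dim) : j = 0 ∨ j = 1 := by
  have hlt : j.val < 2 := j.isLt
  rcases Nat.lt_or_ge j.val 1 with h | h
  · left; exact Fin.ext (by rw [val_zero_two]; omega)
  · right; exact Fin.ext (by rw [val_one_two]; omega)

/-- the segment `(1, |s|)` in the orthant of `[2]`. -/
noncomputable def curve (s : ℝ) : Orth two :=
  ⟨fun j : Fin two.dim => if j = 0 then (1:ℝ) else |s|, fun j => by
    show 0 ≤ (if j = 0 then (1:ℝ) else |s|)
    by_cases h : j = 0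
    · rw [if_pos h]; exact zero_le_one
    · rw [if_neg h]; exact abs_nonneg s, fun h => by
    have h1 : (if (0 : Fin two.dim) = 0 then (1:ℝ) else |s|) = 0 := congr_fun h (0 : Fin two.dim)
    rw [if_pos rfl] at h1
    exact one_ne_zero h1⟩

theorem curve_val (s : ℝ) (j : Fin two.dim) : (curve s).1 j = if j = 0 then (1:ℝ) else |s| := rfl

theorem basis_val (i j : Fin two.dim) : (Orth.basis two i).1 j = if j = i then (1:ℝ) else 0 := rfl

theorem curve_zero : curve 0 = Orth.basis two 0 := by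
  apply Subtype.ext
  funext j
  rw [curve_val, basis_val, abs_zero]

theorem curve_decomp {s : ℝ} (hs : 0 < s) :
    (curve s).1 = (1:ℝ) • (Orth.basis two 0).1 + s • (Orth.basis two 1).1 := by
  funext j
  rw [Pi.add_apply, Pi.smul_apply, Pi.smul_apply, curve_val, basis_val, basis_val]
  rcases fin_two_cases j with h | h
  · rw [h, if_pos (rfl : (0 : Fin two.dim) = 0), if_pos (rfl : (0 : Fin two.dim) = 0),
      if_neg zero_ne_one_two]; simp
  · rw [h, if_neg one_ne_zero_two, if_neg one_ne_zero_two,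
      if_pos (rfl : (1 : Fin two.dim) = 1)]; simp [abs_of_pos hs]

theorem continuous_curve : Continuous curve := by
  apply Continuous.subtype_mk
  apply continuous_pi
  intro j
  by_cases h : j = 0
  · simp only [if_pos h]; exact continuous_const
  · simp only [if_neg h]; exact continuous_abs

theorem basis_indep : ¬ ∃ c : ℝ, (Orth.basis two 1).1 = c • (Orth.basis two 0).1 := by
  rintro ⟨c, hc⟩
  have h1 := congr_fun hc (1 : Fin two.dim)
  rw [Pi.smul_apply, basis_val, basis_val, if_pos (rfl : (1 : Fin two.dim) = 1),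
    if_neg one_ne_zero_two, smul_zero] at h1
  exact one_ne_zero h1

/-- rational approximations of a vector of the orthant. -/
noncomputable def approx {n : ICone} (w : Orth n) (N : ℕ) : Fin n.dim → ℝ :=
  fun i => ((⌈((N:ℝ) + 1) * w.1 i⌉ : ℤ) : ℝ) / ((N:ℝ) + 1)

theorem approx_val {n : ICone} (w : Orth n) (N : ℕ) (i : Fin n.dim) :
    approx w N i = ((⌈((N:ℝ) + 1) * w.1 i⌉ : ℤ) : ℝ) / ((N:ℝ) + 1) := rfl

theorem exists_pos {n : ICone} (w : Orth n) : ∃ i, 0 < w.1 i := by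
  obtain ⟨i, hi⟩ := Function.ne_iff.mp w.2.2
  exact ⟨i, lt_of_le_of_ne (w.2.1 i) (Ne.symm hi)⟩

theorem approx_nonneg {n : ICone} (w : Orth n) (N : ℕ) (i : Fin n.dim) : 0 ≤ approx w N i := by
  rw [approx_val]
  have hpos : (0:ℝ) < (N:ℝ) + 1 := by positivity
  have h1 : (0:ℤ) ≤ ⌈((N:ℝ) + 1) * w.1 i⌉ := Int.ceil_nonneg (mul_nonneg hpos.le (w.2.1 i))
  have h2 : (0:ℝ) ≤ ((⌈((N:ℝ) + 1) * w.1 i⌉ : ℤ) : ℝ) := by exact_mod_cast h1
  exact div_nonneg h2 hpos.le

theorem ceil_pos_of_pos {n : ICone} (w : Orth n) (N : ℕ) {i : Fin n.dim} (hi : 0 < w.1 i) :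
    (0:ℤ) < ⌈((N:ℝ) + 1) * w.1 i⌉ := by
  have hpos : (0:ℝ) < (N:ℝ) + 1 := by positivity
  exact Int.ceil_pos.mpr (mul_pos hpos hi)

theorem approx_ne_zero {n : ICone} (w : Orth n) (N : ℕ) : approx w N ≠ 0 := by
  obtain ⟨i, hi⟩ := exists_pos w
  intro h
  have h1 := congr_fun h i
  rw [approx_val, Pi.zero_apply] at h1
  have hpos : (0:ℝ) < (N:ℝ) + 1 := by positivity
  have h2 : (0:ℝ) < ((⌈((N:ℝ) + 1) * w.1 i⌉ : ℤ) : ℝ) := by exact_mod_cast ceil_pos_of_pos w N hi
  have h3 := div_pos h2 hpos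
  rw [h1] at h3
  exact lt_irrefl _ h3

noncomputable def approxOrth {n : ICone} (w : Orth n) (N : ℕ) : Orth n :=
  ⟨approx w N, fun i => approx_nonneg w N i, approx_ne_zero w N⟩

theorem tendsto_approx {n : ICone} (w : Orth n) (i : Fin n.dim) :
    Filter.Tendsto (fun N : ℕ => approx w N i) Filter.atTop (nhds (w.1 i)) := by
  have hlow : ∀ N : ℕ, w.1 i ≤ approx w N i := by
    intro N
    have hpos : (0:ℝ) < (N:ℝ) + 1 := by positivity
    rw [approx_val, le_div_iff₀ hpos]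
    have := Int.le_ceil (((N:ℝ) + 1) * w.1 i)
    linarith
  have hup : ∀ N : ℕ, approx w N i ≤ w.1 i + 1 / ((N:ℝ) + 1) := by
    intro N
    have hpos : (0:ℝ) < (N:ℝ) + 1 := by positivity
    have hne : (N:ℝ) + 1 ≠ 0 := ne_of_gt hpos
    rw [approx_val, div_le_iff₀ hpos]
    have := Int.ceil_lt_add_one (((N:ℝ) + 1) * w.1 i)
    have h2 : (w.1 i + 1 / ((N:ℝ) + 1)) * ((N:ℝ) + 1) = ((N:ℝ) + 1) * w.1 i + 1 := by
      rw [add_mul, one_div, inv_mul_cancel₀ hne]; ring
    rw [h2]; linarith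
  have hlim : Filter.Tendsto (fun N : ℕ => w.1 i + 1 / ((N:ℝ) + 1)) Filter.atTop
      (nhds (w.1 i)) := by
    have := (tendsto_one_div_add_atTop_nhds_zero_nat (𝕜 := ℝ)).const_add (w.1 i)
    simpa using this
  exact tendsto_of_tendsto_of_tendsto_of_le_of_le tendsto_const_nhds hlim hlow hup

theorem tendsto_approxOrth {n : ICone} (w : Orth n) :
    Filter.Tendsto (fun N : ℕ => approxOrth w N) Filter.atTop (nhds w) := by
  refine tendsto_subtype_rng.mpr ?_
  exact tendsto_pi_nhds.mpr (fun i => tendsto_approx w i)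

theorem fin_one_eq (i : Fin Fan.one.dim) : i = ⟨0, Fan.one.dim.pos⟩ := by
  have hlt : i.val < 1 := i.isLt
  exact Fin.ext (by show i.val = 0; omega)

theorem isRational_mk_approx {n : ICone} (ξ : F.obj (op n)) (w : Orth n) (N : ℕ) :
    (P.mk ξ (approxOrth w N)).IsRational := by
  obtain ⟨i1, hi1⟩ := exists_pos w
  obtain ⟨mvec, hmvec⟩ : ∃ mvec : Fin n.dim → ℤ, mvec = fun i => ⌈((N:ℝ) + 1) * w.1 i⌉ :=
    ⟨_, rfl⟩
  have hm_nonneg : ∀ i, 0 ≤ mvec i := fun i => by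
    rw [hmvec]
    have hpos : (0:ℝ) < (N:ℝ) + 1 := by positivity
    exact Int.ceil_nonneg (mul_nonneg hpos.le (w.2.1 i))
  have hm_pos : 0 < mvec i1 := by rw [hmvec]; exact ceil_pos_of_pos w N hi1
  let i0 : Fin Fan.one.dim := ⟨0, Fan.one.dim.pos⟩
  let φ : ICone.Hom Fan.one n :=
    { toLin := (LinearMap.proj i0 : (Fin Fan.one.dim → ℤ) →ₗ[ℤ] ℤ).smulRight mvec
      injective := by
        intro a b hab
        have h1 := congr_fun hab i1
        simp only [LinearMap.smulRight_apply, LinearMap.proj_apply, Pi.smul_apply,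
          smul_eq_mul] at h1
        have h2 : a i0 = b i0 := mul_right_cancel₀ (ne_of_gt hm_pos) h1
        funext i
        rw [fin_one_eq i]
        exact h2
      nonneg := by
        intro v hv j
        simp only [LinearMap.smulRight_apply, LinearMap.proj_apply, Pi.smul_apply, smul_eq_mul]
        exact mul_nonneg (hv i0) (hm_nonneg j) }
  have hpos : (0:ℝ) < 1 / ((N:ℝ) + 1) := by positivity
  have hglue : (approxOrth w N).1 = (1 / ((N:ℝ) + 1)) • ICone.Hom.realMap (k := Fan.one) (n := n) φ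
      (Orth.ones Fan.one).1 := by
    funext j
    have hsum : ICone.Hom.realMap (k := Fan.one) (n := n) φ (Orth.ones Fan.one).1 j
        = (mvec j : ℝ) := by
      show ∑ i : Fin Fan.one.dim, ((φ.toLin (Pi.single i 1) j : ℤ) : ℝ) * (1:ℝ) = (mvec j : ℝ)
      rw [Fintype.sum_eq_single i0 (fun x hx => absurd (fin_one_eq x) hx)]
      show (((LinearMap.proj i0 : (Fin Fan.one.dim → ℤ) →ₗ[ℤ] ℤ).smulRight mvec
        (Pi.single i0 1) j : ℤ) : ℝ) * 1 = (mvec j : ℝ)
      simp only [LinearMap.smulRight_apply, LinearMap.proj_apply, Pi.single_eq_same, one_smul,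
        mul_one]
    rw [Pi.smul_apply, hsum]
    show approx w N j = (1 / ((N:ℝ) + 1)) • (mvec j : ℝ)
    rw [approx_val, hmvec, smul_eq_mul]
    ring
  refine ⟨F.map (Quiver.Hom.op (show Fan.one ⟶ n from φ)) ξ, ?_⟩
  exact (Quot.sound (Rel.glue (show Fan.one ⟶ n from φ) ξ (Orth.ones Fan.one) (approxOrth w N)
    (1 / ((N:ℝ) + 1)) hpos hglue)).symm

section Main

variable {U : Set (Fan.P F)} {Γ : Type v} [LinearOrder Γ]

theorem rational_le (hU : Fan.IsConvex U) (Φ : U → Γ) (hΦ : Fan.IsQuasiConcaveOn U Φ)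
    (x y : U) (hx : (x : Fan.P F).IsRational) (hy : (y : Fan.P F).IsRational)
    (hmax : IsLocalMax Φ x) : Φ y ≤ Φ x := by
  by_contra hlt
  rw [not_le] at hlt
  have hne : (x : Fan.P F) ≠ (y : Fan.P F) := by
    intro h
    have h2 : x = y := Subtype.ext h
    rw [h2] at hlt
    exact lt_irrefl _ hlt
  obtain ⟨τ, hcell, hτx, hτy⟩ := hU.2.2 x.1 y.1 x.2 y.2 hx hy hne
  have hmem : ∀ v : Orth two, P.mk τ v ∈ U := fun v => hcell ⟨v, rfl⟩
  obtain ⟨G, hGdef⟩ : ∃ G : ℝ → U, G = fun s => ⟨P.mk τ (curve s), hmem _⟩ := ⟨_, rfl⟩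
  have hGval : ∀ s, (G s : Fan.P F) = P.mk τ (curve s) := fun s => by rw [hGdef]
  have hGcont : Continuous G := by
    rw [hGdef]
    exact Continuous.subtype_mk ((continuous_mk τ).comp continuous_curve) _
  have hG0 : G 0 = x := Subtype.ext (by rw [hGval, curve_zero]; exact hτx)
  have h1 : Filter.Tendsto G (nhds 0) (nhds x) := by
    have h := hGcont.tendsto 0
    rwa [hG0] at h
  have hev : ∀ᶠ s in nhds (0:ℝ), Φ (G s) ≤ Φ x := h1.eventually hmax
  have hev2 : ∀ᶠ s in nhdsWithin (0:ℝ) (Set.Ioi 0), Φ (G s) ≤ Φ x :=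
    hev.filter_mono nhdsWithin_le_nhds
  have hev3 : ∀ᶠ s in nhdsWithin (0:ℝ) (Set.Ioi 0), s ∈ Set.Ioi (0:ℝ) := self_mem_nhdsWithin
  obtain ⟨s, hs1, hs2⟩ := (hev2.and hev3).exists
  have hs : 0 < s := hs2
  have hqc := hΦ two τ (Orth.basis two 0) (curve s) (Orth.basis two 1) (hmem _) (hmem _) (hmem _)
    basis_indep ⟨1, s, one_pos, hs, curve_decomp hs⟩
  have e0 : (⟨P.mk τ (Orth.basis two 0), hmem _⟩ : U) = x := Subtype.ext hτx
  have e1 : (⟨P.mk τ (Orth.basis two 1), hmem _⟩ : U) = y := Subtype.ext hτy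
  have es : (⟨P.mk τ (curve s), hmem _⟩ : U) = G s := Subtype.ext (hGval s).symm
  rw [e0, e1, es] at hqc
  obtain ⟨hq1, hq2⟩ := hqc
  have hmin : min (Φ x) (Φ y) = Φ x := min_eq_left (le_of_lt hlt)
  rw [hmin] at hq1 hq2
  have heq : Φ (G s) = Φ x := le_antisymm hs1 hq1
  have h3 := hq2 heq
  rw [h3] at hlt
  exact lt_irrefl _ hlt

theorem rational_max_global (hU : Fan.IsConvex U) (Φ : U → Γ) (hΦ : Fan.IsQuasiConcaveOn U Φ)
    (hlsc : ∀ c : Γ, IsClosed {x : U | Φ x ≤ c})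
    (x : U) (hx : (x : Fan.P F).IsRational) (hmax : IsLocalMax Φ x) (y : U) : Φ y ≤ Φ x := by
  obtain ⟨S, hS⟩ := hU.2.1
  have hy : (y : Fan.P F) ∈ Set.range (P.map S.ι) := by rw [← hS]; exact y.2
  obtain ⟨p, hp⟩ := hy
  obtain ⟨⟨⟨n, ξ'⟩, w⟩, rfl⟩ := Quot.exists_rep p
  have hmemU : ∀ v : Orth n, P.mk (F := F) (S.ι.app (op n) ξ') v ∈ U := fun v => by
    rw [hS]; exact ⟨P.mk ξ' v, rfl⟩
  obtain ⟨H, hHdef⟩ : ∃ H : Orth n → U, H = fun v => ⟨P.mk (S.ι.app (op n) ξ') v, hmemU v⟩ :=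
    ⟨_, rfl⟩
  have hHval : ∀ v, (H v : Fan.P F) = P.mk (S.ι.app (op n) ξ') v := fun v => by rw [hHdef]
  have hHcont : Continuous H := by
    rw [hHdef]
    exact Continuous.subtype_mk (continuous_mk _) _
  have hHw : H w = y := Subtype.ext (by rw [hHval]; exact hp)
  have hmemC : ∀ N : ℕ, H (approxOrth w N) ∈ {z : U | Φ z ≤ Φ x} := fun N =>
    rational_le hU Φ hΦ x (H (approxOrth w N)) hx
      (by rw [hHval]; exact isRational_mk_approx _ w N) hmax
  have htend : Filter.Tendsto (fun N : ℕ => H (approxOrth w N)) Filter.atTop (nhds (H w)) :=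
    (hHcont.tendsto w).comp (tendsto_approxOrth w)
  have hfin : H w ∈ {z : U | Φ z ≤ Φ x} :=
    (hlsc (Φ x)).mem_of_tendsto htend (Filter.Eventually.of_forall hmemC)
  rw [hHw] at hfin
  exact hfin

theorem main (F : Fan.{u}) (U : Set (Fan.P F))
    (hU : Fan.IsConvex U) {Γ : Type v} [LinearOrder Γ] (Φ : U → Γ) (hΦ : Fan.IsQuasiConcaveOn U Φ)
    (hlsc : ∀ c : Γ, IsClosed {x : U | Φ x ≤ c}) :
    (∀ x : U, (x : Fan.P F).IsRational → IsLocalMax Φ x → ∀ y : U, Φ y ≤ Φ x) ∧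
    (Fan.IsStrictQuasiConcaveOn U Φ → ∀ x y : U, (x : Fan.P F).IsRational →
      (y : Fan.P F).IsRational → IsLocalMax Φ x → IsLocalMax Φ y → x = y) := by
  refine ⟨fun x hx hmax y => rational_max_global hU Φ hΦ hlsc x hx hmax y, ?_⟩
  intro hstrict x y hx hy hmx hmy
  by_contra hne
  have hxy : Φ y ≤ Φ x := rational_max_global hU Φ hΦ hlsc x hx hmx y
  have hyx : Φ x ≤ Φ y := rational_max_global hU Φ hΦ hlsc y hy hmy x
  have heq : Φ x = Φ y := le_antisymm hyx hxy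
  have hne' : (x : Fan.P F) ≠ (y : Fan.P F) := fun h => hne (Subtype.ext h)
  obtain ⟨τ, hcell, hτx, hτy⟩ := hU.2.2 x.1 y.1 x.2 y.2 hx hy hne'
  have hmem : ∀ v : Orth two, P.mk τ v ∈ U := fun v => hcell ⟨v, rfl⟩
  have hst := hstrict two τ (Orth.basis two 0) (curve 1) (Orth.basis two 1) (hmem _) (hmem _)
    (hmem _) basis_indep ⟨1, 1, one_pos, one_pos, curve_decomp one_pos⟩
  have e0 : (⟨P.mk τ (Orth.basis two 0), hmem _⟩ : U) = x := Subtype.ext hτx
  have e1 : (⟨P.mk τ (Orth.basis two 1), hmem _⟩ : U) = y := Subtype.ext hτy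
  rw [e0, e1, ← heq, min_self] at hst
  have h4 := rational_max_global hU Φ hΦ hlsc x hx hmx ⟨P.mk τ (curve 1), hmem _⟩
  exact absurd hst (not_lt.mpr h4)

end Main

end Groth.Agent.Lib.Helper6.FanMax
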