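import Mathlib

/-!
# Filtered colimits in `ModuleCat`: elementwise criterion, and preservation of filtered
colimits by a kernel of functors preserving them.
-/

set_option autoImplicit false

open CategoryTheory Limits

namespace Groth.Agent.Helper6.ModFilt

universe u

variable {A : Type u} [Ring A]
variable {J : Type u} [SmallCategory J] [IsFiltered J]

section criterion

variable (F : J ⥤ ModuleCat.{u} A) (t : Cocone F)

theorem exists_rep (ht : IsColimit t) (x : t.pt) :
    ∃ (j : J) (y : F.obj j), (t.ι.app j).hom y = x :=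
  Concrete.isColimit_exists_rep F ht x

theorem exists_map_eq_zero (ht : IsColimit t) {j : J} (y : F.obj j)
    (h : (t.ι.app j).hom y = 0) : ∃ (k : J) (f : j ⟶ k), (F.map f).hom y = 0 := by
  have h' : (t.ι.app j).hom y = (t.ι.app j).hom (0 : F.obj j) := by rw [h, map_zero]
  obtain ⟨k, f, g, hfg⟩ := Concrete.isColimit_exists_of_rep_eq F ht y (0 : F.obj j) h'
  refine ⟨k, f, ?_⟩
  have : (F.map g).hom (0 : F.obj j) = 0 := map_zero _
  exact hfg.trans this

/-- elementwise criterion for a cocone over a filtered diagram of modules to be a colimit. -/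
theorem nonempty_isColimit
    (hrep : ∀ x : t.pt, ∃ (j : J) (y : F.obj j), (t.ι.app j).hom y = x)
    (heq : ∀ (j : J) (y : F.obj j), (t.ι.app j).hom y = 0 →
      ∃ (k : J) (f : j ⟶ k), (F.map f).hom y = 0) :
    Nonempty (IsColimit t) := by
  let φ : colimit F ⟶ t.pt := colimit.desc F t
  have hφ : ∀ (j : J) (y : F.obj j), φ.hom ((colimit.ι F j).hom y) = (t.ι.app j).hom y := by
    intro j y
    have : colimit.ι F j ≫ φ = t.ι.app j := colimit.ι_desc t j
    rw [← this]
    rfl
  have hbij : Function.Bijective φ.hom := by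
    constructor
    · rw [injective_iff_map_eq_zero]
      intro z hz
      obtain ⟨j, y, rfl⟩ := exists_rep F (colimit.cocone F) (colimit.isColimit F) z
      have hz' : (t.ι.app j).hom y = 0 := (hφ j y).symm.trans hz
      obtain ⟨k, f, hf⟩ := heq j y hz'
      have hw : F.map f ≫ colimit.ι F k = colimit.ι F j := colimit.w F f
      show (colimit.ι F j).hom y = 0
      rw [← hw]
      show (colimit.ι F k).hom ((F.map f).hom y) = 0
      rw [hf, map_zero]
    · intro x
      obtain ⟨j, y, rfl⟩ := hrep x
      exact ⟨(colimit.ι F j).hom y, hφ j y⟩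
  haveI : IsIso φ := (ConcreteCategory.isIso_iff_bijective φ).2 hbij
  haveI : IsIso ((colimit.isColimit F).desc t) := ‹IsIso φ›
  exact ⟨IsColimit.ofPointIso (colimit.isColimit F)⟩

end criterion

section kernel

variable {D : Type*} [Category D]

/-- **Lemma K**: if `0 → G' → G → G''` is exact objectwise and `G`, `G''` preserve filtered
colimits of shape `J`, so does `G'`. -/
theorem preservesColimitsOfShape_of_exact {G' G G'' : D ⥤ ModuleCat.{u} A}
    (α : G' ⟶ G) (β : G ⟶ G'')
    (hα : ∀ N : D, Function.Injective (α.app N).hom)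
    (hαβ : ∀ (N : D) (x : G'.obj N), (β.app N).hom ((α.app N).hom x) = 0)
    (hex : ∀ (N : D) (y : G.obj N), (β.app N).hom y = 0 → ∃ x : G'.obj N, (α.app N).hom x = y)
    [PreservesColimitsOfShape J G] [PreservesColimitsOfShape J G''] :
    PreservesColimitsOfShape J G' := by
  constructor
  intro K
  constructor
  intro c hc
  have hG : IsColimit (G.mapCocone c) := isColimitOfPreserves G hc
  have hG'' : IsColimit (G''.mapCocone c) := isColimitOfPreserves G'' hc
  -- naturality, elementwise
  have natα : ∀ {X Y : D} (f : X ⟶ Y) (x : G'.obj X),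
      (α.app Y).hom ((G'.map f).hom x) = (G.map f).hom ((α.app X).hom x) := by
    intro X Y f x
    have := α.naturality f
    exact congrArg (fun m => m.hom x) this
  have natβ : ∀ {X Y : D} (f : X ⟶ Y) (x : G.obj X),
      (β.app Y).hom ((G.map f).hom x) = (G''.map f).hom ((β.app X).hom x) := by
    intro X Y f x
    have := β.naturality f
    exact congrArg (fun m => m.hom x) this
  have hGw : ∀ {j k : J} (f : j ⟶ k) (y : G.obj (K.obj j)),
      (G.map (c.ι.app k)).hom ((G.map (K.map f)).hom y) = (G.map (c.ι.app j)).hom y := by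
    intro j k f y
    have : K.map f ≫ c.ι.app k = c.ι.app j := c.w f
    rw [← this, G.map_comp]
    rfl
  apply nonempty_isColimit
  · intro x'
    obtain ⟨j, y, hy⟩ := exists_rep (K ⋙ G) (G.mapCocone c) hG ((α.app c.pt).hom x')
    change (G.map (c.ι.app j)).hom y = _ at hy
    have h0 : (G''.map (c.ι.app j)).hom ((β.app (K.obj j)).hom y) = 0 := by
      rw [← natβ, hy]
      exact hαβ c.pt x'
    obtain ⟨k, f, hf⟩ := exists_map_eq_zero (K ⋙ G'') (G''.mapCocone c) hG''
      ((β.app (K.obj j)).hom y) h0
    change (G''.map (K.map f)).hom _ = 0 at hf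
    rw [← natβ] at hf
    obtain ⟨y', hy'⟩ := hex (K.obj k) _ hf
    refine ⟨k, y', ?_⟩
    change (G'.map (c.ι.app k)).hom y' = x'
    apply hα
    rw [natα, hy', hGw, hy]
    rfl
  · intro j y' hy'
    change (G'.map (c.ι.app j)).hom y' = 0 at hy'
    have h0 : (G.map (c.ι.app j)).hom ((α.app (K.obj j)).hom y') = 0 := by
      rw [← natα, hy', map_zero]
    obtain ⟨k, f, hf⟩ := exists_map_eq_zero (K ⋙ G) (G.mapCocone c) hG
      ((α.app (K.obj j)).hom y') h0
    change (G.map (K.map f)).hom _ = 0 at hf
    refine ⟨k, f, ?_⟩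
    change (G'.map (K.map f)).hom y' = 0
    apply hα
    rw [natα, hf, map_zero]

end kernel

end Groth.Agent.Helper6.ModFilt
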