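import Groth.Agent.Lib.Helper18.Tor.Low

set_option autoImplicit false

open CategoryTheory Limits MonoidalCategory

namespace Groth.Agent.Helper6.TorFlat

open Groth.Agent.Helper18.TorLib

universe u
variable {R : Type u} [CommRing R]

/-- a short exact sequence of modules as a short complex in `ModuleCat`. -/
theorem exists_shortComplex {K F N : Type u} [AddCommGroup K] [Module R K]
    [AddCommGroup F] [Module R F] [AddCommGroup N] [Module R N]
    (i : K →ₗ[R] F) (p : F →ₗ[R] N) (hi : Function.Injective i)
    (hip : Function.Exact i p) (hp : Function.Surjective p) :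
    ∃ S : ShortComplex (ModuleCat.{u} R), S.ShortExact ∧ S.X₁ = ModuleCat.of R K ∧
      S.X₂ = ModuleCat.of R F ∧ S.X₃ = ModuleCat.of R N := by
  let S : ShortComplex (ModuleCat.{u} R) :=
    ShortComplex.mk (ModuleCat.ofHom i) (ModuleCat.ofHom p) (by
      ext x
      exact hip.apply_apply_eq_zero x)
  refine ⟨S, ?_, rfl, rfl, rfl⟩
  refine ShortComplex.ShortExact.mk' ?_ ?_ ?_
  · rw [ShortComplex.ShortExact.moduleCat_exact_iff_function_exact]
    exact hip
  · exact (ModuleCat.mono_iff_injective _).2 hi
  · exact (ModuleCat.epi_iff_surjective _).2 hp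

/-- a free presentation of a module as a short exact sequence. -/
theorem exists_presentation (N : ModuleCat.{u} R) :
    ∃ S : ShortComplex (ModuleCat.{u} R), S.ShortExact ∧ Module.Free R S.X₂ ∧ S.X₃ = N := by
  have hp : Function.Surjective (Finsupp.linearCombination R (id : N → N)) :=
    Finsupp.linearCombination_id_surjective R N
  have hip : Function.Exact (LinearMap.ker (Finsupp.linearCombination R (id : N → N))).subtype
      (Finsupp.linearCombination R (id : N → N)) := by
    intro x
    constructor
    · intro hx
      exact ⟨⟨x, hx⟩, rfl⟩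
    · rintro ⟨y, rfl⟩
      exact y.2
  obtain ⟨S, hS, -, h2, h3⟩ := exists_shortComplex _ _ (Submodule.injective_subtype _) hip hp
  refine ⟨S, hS, ?_, h3⟩
  rw [h2]
  exact (inferInstance : Module.Free R (N →₀ R))

/-- Higher Tor vanishes when the second variable is flat. -/
theorem isZero_tor_succ_of_flat_right (M : ModuleCat.{u} R) [Module.Flat R M] (n : ℕ) :
    ∀ N : ModuleCat.{u} R, IsZero (((Tor (ModuleCat.{u} R) (n + 1)).obj N).obj M) := by
  induction n with
  | zero =>
    intro N
    obtain ⟨S, hS, hfree, rfl⟩ := exists_presentation N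
    have : Module.Flat R S.X₂ := inferInstance
    rw [isZero_tor_one_iff_mono hS M, mono_whiskerRight_iff]
    exact Module.Flat.rTensor_preserves_injective_linearMap _
      ((ModuleCat.mono_iff_injective _).1 hS.mono_f)
  | succ n ih =>
    intro N
    obtain ⟨S, hS, hfree, rfl⟩ := exists_presentation N
    have : Module.Flat R S.X₂ := inferInstance
    refine (tor_exact₃ hS M (n + 1)).isZero_of_both_zeros ?_ ?_
    · exact (isZero_tor_succ_of_flat_left S.X₂ M (n + 1)).eq_of_src _ _
    · exact (ih S.X₁).eq_of_tgt _ _

end Groth.Agent.Helper6.TorFlat
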