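import Mathlib
import Groth.Agent.Lib.Helper18.Tor.Low
import Groth.Agent.Lib.Helper6.TorFlat
import Groth.Agent.Lib.Helper6.ModFilt

/-!
# Naturality of the connecting homomorphism of Tor, and Tor commutes with filtered colimits
-/

set_option autoImplicit false

open CategoryTheory Limits MonoidalCategory

namespace Groth.Agent.Helper6.TorNat

section general

open HomologicalComplex HomologySequence

variable {C ι : Type*} [Category C] [Abelian C] {c : ComplexShape ι}
  {S S' : ShortComplex (HomologicalComplex C c)}

/-- the morphism of snake inputs induced by a morphism of short exact sequences of complexes. -/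
noncomputable def snakeHom (ψ : S ⟶ S') (hS : S.ShortExact) (hS' : S'.ShortExact) (i j : ι)
    (hij : c.Rel i j) : snakeInput hS i j hij ⟶ snakeInput hS' i j hij where
  f₀ := (homologyFunctor C c i).mapShortComplex.map ψ
  f₁ := (opcyclesFunctor C c i).mapShortComplex.map ψ
  f₂ := (cyclesFunctor C c j).mapShortComplex.map ψ
  f₃ := (homologyFunctor C c j).mapShortComplex.map ψ
  comm₀₁ := by ext <;> exact homologyι_naturality _ _
  comm₁₂ := by ext <;> exact opcyclesToCycles_naturality _ _ _
  comm₂₃ := by ext <;> exact (homologyπ_naturality _ _).symm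

/-- naturality of the connecting homomorphism of the homology sequence. -/
theorem δ_naturality (ψ : S ⟶ S') (hS : S.ShortExact) (hS' : S'.ShortExact) (i j : ι)
    (hij : c.Rel i j) :
    hS.δ i j hij ≫ homologyMap ψ.τ₁ j = homologyMap ψ.τ₃ i ≫ hS'.δ i j hij :=
  ShortComplex.SnakeInput.naturality_δ (snakeHom ψ hS hS' i j hij)

end general

open Groth.Agent.Helper18.TorLib

universe u
variable {R : Type u} [CommRing R]

section natS

variable {S S' : ShortComplex (ModuleCat.{u} R)} (hS : S.ShortExact) (hS' : S'.ShortExact)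
  (ψ : S ⟶ S')

/-- the morphism `S ⊗ P• ⟶ S' ⊗ P•`. -/
noncomputable def cxShortComplexMap {M : ModuleCat.{u} R} (P : ProjectiveResolution M) :
    cxShortComplex P S ⟶ cxShortComplex P S' where
  τ₁ := cxMap P ψ.τ₁
  τ₂ := cxMap P ψ.τ₂
  τ₃ := cxMap P ψ.τ₃
  comm₁₂ := by
    show cxMap P ψ.τ₁ ≫ cxMap P S'.f = cxMap P S.f ≫ cxMap P ψ.τ₂
    rw [← cxMap_comp, ← cxMap_comp, ψ.comm₁₂]
  comm₂₃ := by
    show cxMap P ψ.τ₂ ≫ cxMap P S'.g = cxMap P S.g ≫ cxMap P ψ.τ₃
    rw [← cxMap_comp, ← cxMap_comp, ψ.comm₂₃]

/-- naturality of `torδ` in the short exact sequence. -/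
theorem torδ_naturality_left (N : ModuleCat.{u} R) (n : ℕ) :
    ((Tor (ModuleCat.{u} R) (n + 1)).map ψ.τ₃).app N ≫ torδ hS' N n =
      torδ hS N n ≫ ((Tor (ModuleCat.{u} R) n).map ψ.τ₁).app N := by
  let P := projectiveResolution N
  have hδ := δ_naturality (cxShortComplexMap ψ P) (cxShortComplex_shortExact P hS)
    (cxShortComplex_shortExact P hS') (n + 1) n (hrel n)
  change (cxShortComplex_shortExact P hS).δ (n + 1) n (hrel n) ≫
      HomologicalComplex.homologyMap (cxMap P ψ.τ₁) n =
    HomologicalComplex.homologyMap (cxMap P ψ.τ₃) (n + 1) ≫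
      (cxShortComplex_shortExact P hS').δ (n + 1) n (hrel n) at hδ
  unfold torδ
  rw [reassoc_of% (torIso_hom_naturality P ψ.τ₃ (n + 1)), ← reassoc_of% hδ, Category.assoc,
    Category.assoc, torIso_inv_naturality]

end natS

section natN

variable {S : ShortComplex (ModuleCat.{u} R)} (hS : S.ShortExact)

/-- the morphism `S ⊗ P• ⟶ S ⊗ P'•` induced by a chain map `P• ⟶ P'•`. -/
noncomputable def cxShortComplexMap' {N N' : ModuleCat.{u} R} (P : ProjectiveResolution N)
    (P' : ProjectiveResolution N') (φ : P.complex ⟶ P'.complex) :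
    cxShortComplex P S ⟶ cxShortComplex P' S where
  τ₁ := ((tL S.X₁).mapHomologicalComplex (ComplexShape.down ℕ)).map φ
  τ₂ := ((tL S.X₂).mapHomologicalComplex (ComplexShape.down ℕ)).map φ
  τ₃ := ((tL S.X₃).mapHomologicalComplex (ComplexShape.down ℕ)).map φ
  comm₁₂ := (NatTrans.mapHomologicalComplex
    ((tensoringLeft (ModuleCat.{u} R)).map S.f) (ComplexShape.down ℕ)).naturality φ
  comm₂₃ := (NatTrans.mapHomologicalComplex
    ((tensoringLeft (ModuleCat.{u} R)).map S.g) (ComplexShape.down ℕ)).naturality φ

/-- naturality of `torδ` in the second (derived) variable. -/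
theorem torδ_naturality_right {N N' : ModuleCat.{u} R} (g : N ⟶ N') (n : ℕ) :
    ((Tor (ModuleCat.{u} R) (n + 1)).obj S.X₃).map g ≫ torδ hS N' n =
      torδ hS N n ≫ ((Tor (ModuleCat.{u} R) n).obj S.X₁).map g := by
  let P := projectiveResolution N
  let P' := projectiveResolution N'
  let φ := ProjectiveResolution.lift g P P'
  have comm : φ.f 0 ≫ P'.π.f 0 = P.π.f 0 ≫ g := ProjectiveResolution.lift_commutes_zero g P P'
  have hδ := δ_naturality (cxShortComplexMap' (S := S) P P' φ) (cxShortComplex_shortExact P hS)
    (cxShortComplex_shortExact P' hS) (n + 1) n (hrel n)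
  have h3 := ProjectiveResolution.isoLeftDerivedObj_hom_naturality g P P' φ comm (tL S.X₃) (n + 1)
  have h1 := ProjectiveResolution.isoLeftDerivedObj_inv_naturality g P P' φ comm (tL S.X₁) n
  have key : ((tL S.X₃).leftDerived (n + 1)).map g ≫
      ((P'.isoLeftDerivedObj (tL S.X₃) (n + 1)).hom ≫
        (cxShortComplex_shortExact P' hS).δ (n + 1) n (hrel n) ≫
          (P'.isoLeftDerivedObj (tL S.X₁) n).inv) =
      ((P.isoLeftDerivedObj (tL S.X₃) (n + 1)).hom ≫
        (cxShortComplex_shortExact P hS).δ (n + 1) n (hrel n) ≫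
          (P.isoLeftDerivedObj (tL S.X₁) n).inv) ≫ ((tL S.X₁).leftDerived n).map g := by
    rw [reassoc_of% h3, Category.assoc, Category.assoc]
    erw [h1]
    congr 1
    exact ((Category.assoc _ _ _).symm.trans (congrArg (· ≫ _) hδ.symm)).trans
      (Category.assoc _ _ _)
  exact key

end natN

section pres

/-- the free module on the underlying set, as a functor. -/
noncomputable def Fr : ModuleCat.{u} R ⥤ ModuleCat.{u} R :=
  forget (ModuleCat.{u} R) ⋙ ModuleCat.free R

/-- the canonical surjection `Fr M ⟶ M`. -/
noncomputable def prj : Fr (R := R) ⟶ 𝟭 (ModuleCat.{u} R) := (ModuleCat.adj R).counit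

instance prj_epi (M : ModuleCat.{u} R) : Epi ((prj (R := R)).app M) :=
  inferInstanceAs (Epi ((ModuleCat.adj R).counit.app M))

instance (M : ModuleCat.{u} R) : Module.Flat R ((Fr (R := R)).obj M) := by
  haveI : Module.Free R ((Fr (R := R)).obj M) :=
    inferInstanceAs (Module.Free R ((forget (ModuleCat.{u} R)).obj M →₀ R))
  infer_instance

/-- the first syzygy functor `M ↦ ker (Fr M ⟶ M)`. -/
noncomputable def Om : ModuleCat.{u} R ⥤ ModuleCat.{u} R where
  obj M := kernel ((prj (R := R)).app M)
  map {M M'} f := kernel.map ((prj (R := R)).app M) ((prj (R := R)).app M')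
    ((Fr (R := R)).map f) f ((prj (R := R)).naturality f).symm
  map_id M := by
    apply (cancel_mono (kernel.ι ((prj (R := R)).app M))).1
    simp
  map_comp f g := by
    apply (cancel_mono (kernel.ι _)).1
    simp

/-- the inclusion `Om M ⟶ Fr M`. -/
noncomputable def inc : Om (R := R) ⟶ Fr (R := R) where
  app M := kernel.ι _
  naturality M M' f := by
    show kernel.map ((prj (R := R)).app M) ((prj (R := R)).app M')
      ((Fr (R := R)).map f) f ((prj (R := R)).naturality f).symm ≫ kernel.ι _ = kernel.ι _ ≫ _
    simp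

/-- the functorial presentation `0 → Om M → Fr M → M → 0`. -/
noncomputable def pres (M : ModuleCat.{u} R) : ShortComplex (ModuleCat.{u} R) :=
  ShortComplex.mk ((inc (R := R)).app M) ((prj (R := R)).app M) (kernel.condition _)

theorem pres_shortExact (M : ModuleCat.{u} R) : (pres M).ShortExact := by
  haveI : Mono (pres M).f := inferInstanceAs (Mono (kernel.ι ((prj (R := R)).app M)))
  haveI : Epi (pres M).g := prj_epi M
  refine ShortComplex.ShortExact.mk ?_
  exact ShortComplex.exact_of_f_is_kernel _ (kernelIsKernel _)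

/-- functoriality of the presentation. -/
noncomputable def presMap {M M' : ModuleCat.{u} R} (f : M ⟶ M') : pres M ⟶ pres M' where
  τ₁ := (Om (R := R)).map f
  τ₂ := (Fr (R := R)).map f
  τ₃ := f
  comm₁₂ := (inc (R := R)).naturality f
  comm₂₃ := (prj (R := R)).naturality f

instance (M : ModuleCat.{u} R) : Module.Flat R (pres M).X₂ :=
  inferInstanceAs (Module.Flat R ((Fr (R := R)).obj M))

end pres

section filtered

open Groth.Agent.Helper6.ModFilt

variable (J : Type u) [SmallCategory J] [IsFiltered J]

instance Fr_preserves : PreservesColimitsOfShape J (Fr (R := R)) := by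
  have : PreservesColimitsOfShape J (forget (ModuleCat.{u} R)) :=
    PreservesFilteredColimitsOfSize.preserves_filtered_colimits J
  have : PreservesColimitsOfShape J (ModuleCat.free R) :=
    (ModuleCat.adj R).leftAdjoint_preservesColimits.preservesColimitsOfShape
  unfold Fr
  infer_instance

instance Om_preserves : PreservesColimitsOfShape J (Om (R := R)) := by
  refine preservesColimitsOfShape_of_exact (J := J) (inc (R := R)) (prj (R := R)) ?_ ?_ ?_
  · intro M
    exact (ModuleCat.mono_iff_injective _).1
      (inferInstanceAs (Mono (kernel.ι ((prj (R := R)).app M))))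
  · intro M x
    have h : (inc (R := R)).app M ≫ (prj (R := R)).app M = 0 := kernel.condition _
    exact congrArg (fun m => m.hom x) h
  · intro M y hy
    have hex := (pres_shortExact M).exact
    rw [ShortComplex.moduleCat_exact_iff] at hex
    exact hex y hy

/-- `M ↦ Tor_p(M, N)` commutes with filtered colimits. -/
theorem preserves_flip (N : ModuleCat.{u} R) (p : ℕ) :
    PreservesColimitsOfShape J ((Tor (ModuleCat.{u} R) p).flip.obj N) := by
  induction p with
  | zero =>
    have e : tensorRight N ≅ (Tor (ModuleCat.{u} R) 0).flip.obj N :=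
      (NatIso.ofComponents (fun M => tor0Iso M N)
        (fun {M M'} f => tor0Iso_hom_naturality f N)).symm
    exact preservesColimitsOfShape_of_natIso e
  | succ p ih =>
    let T := (Tor (ModuleCat.{u} R) p).flip.obj N
    let α : (Tor (ModuleCat.{u} R) (p + 1)).flip.obj N ⟶ Om (R := R) ⋙ T :=
      { app := fun M => torδ (pres_shortExact M) N p
        naturality := fun M M' f =>
          torδ_naturality_left (pres_shortExact M) (pres_shortExact M') (presMap f) N p }
    let β : Om (R := R) ⋙ T ⟶ Fr (R := R) ⋙ T := Functor.whiskerRight (inc (R := R)) T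
    refine preservesColimitsOfShape_of_exact (J := J) α β ?_ ?_ ?_
    · intro M
      have hmono : Mono (torδ (pres_shortExact M) N p) :=
        (tor_exact₃ (pres_shortExact M) N p).mono_g
          ((isZero_tor_succ_of_flat_left (pres M).X₂ N p).eq_of_src _ _)
      exact (ModuleCat.mono_iff_injective _).1 hmono
    · intro M x
      have h := torδ_comp (pres_shortExact M) N p
      exact congrArg (fun m => m.hom x) h
    · intro M y hy
      have hex := tor_exact₁ (pres_shortExact M) N p
      rw [ShortComplex.moduleCat_exact_iff] at hex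
      exact hex y hy

/-- `N ↦ Tor_p(M, N)` commutes with filtered colimits. -/
theorem preserves_obj (p : ℕ) : ∀ M : ModuleCat.{u} R,
    PreservesColimitsOfShape J ((Tor (ModuleCat.{u} R) p).obj M) := by
  induction p with
  | zero =>
    intro M
    have e : tensorLeft M ≅ (Tor (ModuleCat.{u} R) 0).obj M :=
      (Functor.leftDerivedZeroIsoSelf (tL M)).symm
    exact preservesColimitsOfShape_of_natIso e
  | succ p ih =>
    intro M
    haveI := ih ((Om (R := R)).obj M)
    haveI := ih ((Fr (R := R)).obj M)
    let α : (Tor (ModuleCat.{u} R) (p + 1)).obj M ⟶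
        (Tor (ModuleCat.{u} R) p).obj ((Om (R := R)).obj M) :=
      { app := fun N => torδ (pres_shortExact M) N p
        naturality := fun N N' g => torδ_naturality_right (pres_shortExact M) g p }
    let β : (Tor (ModuleCat.{u} R) p).obj ((Om (R := R)).obj M) ⟶
        (Tor (ModuleCat.{u} R) p).obj ((Fr (R := R)).obj M) :=
      (Tor (ModuleCat.{u} R) p).map ((inc (R := R)).app M)
    refine preservesColimitsOfShape_of_exact (J := J) α β ?_ ?_ ?_
    · intro N
      have hmono : Mono (torδ (pres_shortExact M) N p) :=
        (tor_exact₃ (pres_shortExact M) N p).mono_g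
          ((isZero_tor_succ_of_flat_left (pres M).X₂ N p).eq_of_src _ _)
      exact (ModuleCat.mono_iff_injective _).1 hmono
    · intro N x
      have h := torδ_comp (pres_shortExact M) N p
      exact congrArg (fun m => m.hom x) h
    · intro N y hy
      have hex := tor_exact₁ (pres_shortExact M) N p
      rw [ShortComplex.moduleCat_exact_iff] at hex
      exact hex y hy

end filtered

end Groth.Agent.Helper6.TorNat
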