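import Groth.Agent.Lib.Helper6.TorBalance

/-!
# Base change for Tor
-/

set_option autoImplicit false

open CategoryTheory Limits MonoidalCategory TensorProduct

namespace Groth.Agent.Helper6.TorBC

open Groth.Agent.Helper18.TorLib Groth.Agent.Helper6.TorBalance

universe u

section Semilinear

variable {A A' : Type u} [CommRing A] [CommRing A'] (σ : A →+* A')

/-- semilinear bijections between the terms of two short complexes of modules (over different
rings) induce a semilinear bijection in homology. -/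
theorem exists_semilinear_homology (S : ShortComplex (ModuleCat.{u} A))
    (S' : ShortComplex (ModuleCat.{u} A'))
    (e₁ : S.X₁ →ₛₗ[σ] S'.X₁) (e₂ : S.X₂ →ₛₗ[σ] S'.X₂) (e₃ : S.X₃ →ₛₗ[σ] S'.X₃)
    (h₁ : Function.Surjective e₁) (h₂ : Function.Bijective e₂) (h₃ : Function.Injective e₃)
    (c₁ : ∀ x, e₂ (S.f.hom x) = S'.f.hom (e₁ x)) (c₂ : ∀ x, e₃ (S.g.hom x) = S'.g.hom (e₂ x)) :
    ∃ φ : S.homology →ₛₗ[σ] S'.homology, Function.Bijective φ := by
  -- the map on cycles
  let ψ : LinearMap.ker S.g.hom →ₛₗ[σ] LinearMap.ker S'.g.hom :=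
    (e₂.comp (LinearMap.ker S.g.hom).subtype).codRestrict (LinearMap.ker S'.g.hom) (by
      intro x
      rw [LinearMap.mem_ker, LinearMap.comp_apply, Submodule.subtype_apply, ← c₂, x.2, map_zero])
  have hψ : ∀ x, ((ψ x : LinearMap.ker S'.g.hom) : S'.X₂) = e₂ (x : S.X₂) := fun x => rfl
  have hle : LinearMap.range S.moduleCatToCycles ≤
      (LinearMap.range S'.moduleCatToCycles).comap ψ := by
    rintro _ ⟨x, rfl⟩
    rw [Submodule.mem_comap]
    refine ⟨e₁ x, ?_⟩
    apply Subtype.ext
    rw [hψ]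
    exact (c₁ x).symm
  let Ψ := Submodule.mapQ (LinearMap.range S.moduleCatToCycles)
    (LinearMap.range S'.moduleCatToCycles) ψ hle
  have hΨ : Function.Bijective Ψ := by
    constructor
    · rw [← LinearMap.ker_eq_bot, LinearMap.ker_eq_bot']
      intro z hz
      obtain ⟨z, rfl⟩ := Submodule.Quotient.mk_surjective _ z
      rw [Submodule.mapQ_apply, Submodule.Quotient.mk_eq_zero] at hz
      obtain ⟨y', hy'⟩ := hz
      obtain ⟨y, rfl⟩ := h₁ y'
      rw [Submodule.Quotient.mk_eq_zero]
      refine ⟨y, ?_⟩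
      apply Subtype.ext
      apply h₂.1
      calc e₂ ((S.moduleCatToCycles y : LinearMap.ker S.g.hom) : S.X₂) = e₂ (S.f.hom y) := rfl
        _ = S'.f.hom (e₁ y) := c₁ y
        _ = ((S'.moduleCatToCycles (e₁ y) : LinearMap.ker S'.g.hom) : S'.X₂) := rfl
        _ = ((ψ z : LinearMap.ker S'.g.hom) : S'.X₂) := by rw [hy']
        _ = e₂ (z : S.X₂) := hψ z
    · intro z'
      obtain ⟨z', rfl⟩ := Submodule.Quotient.mk_surjective _ z'
      obtain ⟨z, hz⟩ := h₂.2 (z' : S'.X₂)
      have hzk : z ∈ LinearMap.ker S.g.hom := by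
        rw [LinearMap.mem_ker]
        apply h₃
        rw [c₂, hz, map_zero]
        exact z'.2
      refine ⟨Submodule.Quotient.mk ⟨z, hzk⟩, ?_⟩
      rw [Submodule.mapQ_apply]
      congr 1
      apply Subtype.ext
      rw [hψ]
      exact hz
  refine ⟨(S'.moduleCatHomologyIso.inv.hom).comp (Ψ.comp S.moduleCatHomologyIso.hom.hom), ?_⟩
  have b1 : Function.Bijective S.moduleCatHomologyIso.hom.hom :=
    ConcreteCategory.bijective_of_isIso S.moduleCatHomologyIso.hom
  have b2 : Function.Bijective S'.moduleCatHomologyIso.inv.hom :=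
    ConcreteCategory.bijective_of_isIso S'.moduleCatHomologyIso.inv
  exact b2.comp (hΨ.comp b1)

end Semilinear

section BC

variable {A A' : Type u} [CommRing A] [CommRing A'] [Algebra A A']

/-- the comparison `F ⊗_A Q' → (A' ⊗_A F) ⊗_{A'} Q'`. -/
noncomputable def eF (F Q' : Type u) [AddCommGroup F] [Module A F] [AddCommGroup Q'] [Module A' Q']
    [Module A Q'] [IsScalarTower A A' Q'] :
    F ⊗[A] Q' →ₛₗ[algebraMap A A'] (A' ⊗[A] F) ⊗[A'] Q' where
  toFun x := TensorProduct.comm A' Q' (A' ⊗[A] F)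
    ((AlgebraTensorModule.cancelBaseChange A A' A' Q' F).symm (TensorProduct.comm A F Q' x))
  map_add' x y := by simp
  map_smul' a x := by
    rw [map_smul, ← algebraMap_smul A' a (TensorProduct.comm A F Q' x), map_smul, map_smul]

theorem eF_tmul (F Q' : Type u) [AddCommGroup F] [Module A F] [AddCommGroup Q'] [Module A' Q']
    [Module A Q'] [IsScalarTower A A' Q'] (f : F) (q : Q') :
    eF F Q' (f ⊗ₜ[A] q) = ((1 : A') ⊗ₜ[A] f) ⊗ₜ[A'] q := rfl

theorem eF_bijective (F Q' : Type u) [AddCommGroup F] [Module A F] [AddCommGroup Q'] [Module A' Q']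
    [Module A Q'] [IsScalarTower A A' Q'] : Function.Bijective (eF (A := A) (A' := A') F Q') :=
  (TensorProduct.comm A' Q' (A' ⊗[A] F)).bijective.comp
    ((AlgebraTensorModule.cancelBaseChange A A' A' Q' F).symm.bijective.comp
      (TensorProduct.comm A F Q').bijective)

theorem eF_natural {F G : Type u} [AddCommGroup F] [Module A F] [AddCommGroup G] [Module A G]
    (Q' : Type u) [AddCommGroup Q'] [Module A' Q'] [Module A Q'] [IsScalarTower A A' Q']
    (d : F →ₗ[A] G) (x : F ⊗[A] Q') :
    eF G Q' (d.rTensor Q' x) = (d.baseChange A').rTensor Q' (eF F Q' x) := by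
  induction x using TensorProduct.induction_on with
  | zero => simp
  | tmul f q =>
    rw [LinearMap.rTensor_tmul, eF_tmul, eF_tmul, LinearMap.rTensor_tmul, LinearMap.baseChange_tmul]
  | add x y hx hy => rw [map_add, map_add, hx, hy, map_add, map_add]

variable {X : ModuleCat.{u} A} (r : FlatRes X)

/-- base change of a flat resolution, given exactness after base change. -/
noncomputable def bcRes
    (hex : ∀ k, Function.Exact ((r.d (k + 1)).hom.lTensor A') ((r.d k).hom.lTensor A')) :
    FlatRes (ModuleCat.of A' (A' ⊗[A] X)) where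
  F k := ModuleCat.of A' (A' ⊗[A] r.F k)
  d k := ModuleCat.ofHom ((r.d k).hom.baseChange A')
  ε := ModuleCat.ofHom (r.ε.hom.baseChange A')
  flat k := by
    haveI := r.flat k
    show Module.Flat A' (A' ⊗[A] r.F k)
    infer_instance
  epi := by
    rw [ModuleCat.epi_iff_surjective]
    show Function.Surjective (r.ε.hom.baseChange A')
    rw [LinearMap.baseChange_eq_ltensor]
    exact LinearMap.lTensor_surjective A' ((ModuleCat.epi_iff_surjective _).mp r.epi)
  d_ε := by
    rw [← ModuleCat.ofHom_comp, ← LinearMap.baseChange_comp, ← ModuleCat.hom_comp, r.d_ε]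
    simp
  d_d k := by
    rw [← ModuleCat.ofHom_comp, ← LinearMap.baseChange_comp, ← ModuleCat.hom_comp, r.d_d]
    simp
  ex0 := by
    rw [ShortComplex.moduleCat_exact_iff_range_eq_ker, eq_comm, ← LinearMap.exact_iff]
    show Function.Exact ((r.d 0).hom.baseChange A') (r.ε.hom.baseChange A')
    rw [LinearMap.baseChange_eq_ltensor, LinearMap.baseChange_eq_ltensor]
    have h0 := r.ex0
    rw [ShortComplex.moduleCat_exact_iff_range_eq_ker, eq_comm, ← LinearMap.exact_iff] at h0
    exact lTensor_exact A' h0 ((ModuleCat.epi_iff_surjective _).mp r.epi)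
  ex k := by
    rw [ShortComplex.moduleCat_exact_iff_range_eq_ker, eq_comm, ← LinearMap.exact_iff]
    show Function.Exact ((r.d (k + 1)).hom.baseChange A') ((r.d k).hom.baseChange A')
    rw [LinearMap.baseChange_eq_ltensor, LinearMap.baseChange_eq_ltensor]
    exact hex k

/-- exactness of the base-changed resolution from vanishing of `Tor_q(X, A')`. -/
theorem exact_of_tor_vanish
    (hP : ∀ q : ℕ, 0 < q →
      IsZero (((Tor (ModuleCat.{u} A) q).obj X).obj (ModuleCat.of A A'))) (k : ℕ) :
    Function.Exact ((r.d (k + 1)).hom.lTensor A') ((r.d k).hom.lTensor A') := by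
  obtain ⟨i⟩ := nonempty_tor_iso_homology (ModuleCat.of A A') k X r
  have hz := IsZero.of_iso (hP (k + 1) (Nat.succ_pos k)) i.symm
  rw [← ShortComplex.exact_iff_isZero_homology, ShortComplex.moduleCat_exact_iff_range_eq_ker,
    eq_comm, ← LinearMap.exact_iff] at hz
  rw [← LinearMap.rTensor_exact_iff_lTensor_exact]
  exact hz

/-- Base change for Tor (S3537). -/
theorem tor_baseChange (P : Type u) [AddCommGroup P] [Module A P] (Q' : Type u) [AddCommGroup Q']
    [Module A' Q'] [Module A Q'] [IsScalarTower A A' Q']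
    (hP : ∀ q : ℕ, 0 < q → Subsingleton
      (((Tor (ModuleCat.{u} A) q).obj (ModuleCat.of A P)).obj (ModuleCat.of A A'))) (n : ℕ) :
    ∃ φ : (((Tor (ModuleCat.{u} A) n).obj (ModuleCat.of A P)).obj (ModuleCat.of A Q')) →ₛₗ[algebraMap A A']
        (((Tor (ModuleCat.{u} A') n).obj (ModuleCat.of A' (A' ⊗[A] P))).obj (ModuleCat.of A' Q')),
      Function.Bijective φ := by
  cases n with
  | zero =>
    let i := tor0Iso (ModuleCat.of A P) (ModuleCat.of A Q')
    let i' := tor0Iso (ModuleCat.of A' (A' ⊗[A] P)) (ModuleCat.of A' Q')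
    refine ⟨(i'.inv.hom).comp ((eF P Q').comp i.hom.hom), ?_⟩
    have b1 : Function.Bijective i.hom.hom := ConcreteCategory.bijective_of_isIso i.hom
    have b2 : Function.Bijective i'.inv.hom := ConcreteCategory.bijective_of_isIso i'.inv
    exact b2.comp ((eF_bijective P Q').comp b1)
  | succ n =>
    let r : FlatRes (ModuleCat.of A P) :=
      FlatRes.ofProjectiveResolution (projectiveResolution (ModuleCat.of A P))
    have hP' : ∀ q : ℕ, 0 < q →
        IsZero (((Tor (ModuleCat.{u} A) q).obj (ModuleCat.of A P)).obj (ModuleCat.of A A')) :=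
      fun q hq => by
        haveI := hP q hq
        exact ModuleCat.isZero_of_subsingleton _
    let r' := bcRes r (exact_of_tor_vanish r hP')
    obtain ⟨i⟩ := nonempty_tor_iso_homology (ModuleCat.of A Q') n _ r
    obtain ⟨i'⟩ := nonempty_tor_iso_homology (ModuleCat.of A' Q') n _ r'
    obtain ⟨ψ, hψ⟩ := exists_semilinear_homology (algebraMap A A')
      (ShortComplex.mk (r.d (n + 1) ▷ ModuleCat.of A Q') (r.d n ▷ ModuleCat.of A Q')
        (r.whisker_zero _ n))
      (ShortComplex.mk (r'.d (n + 1) ▷ ModuleCat.of A' Q') (r'.d n ▷ ModuleCat.of A' Q')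
        (r'.whisker_zero _ n))
      (eF (r.F (n + 1 + 1)) Q') (eF (r.F (n + 1)) Q') (eF (r.F n) Q')
      (eF_bijective _ Q').2 (eF_bijective _ Q') (eF_bijective _ Q').1
      (fun x => eF_natural Q' (r.d (n + 1)).hom x)
      (fun x => eF_natural Q' (r.d n).hom x)
    refine ⟨(i'.inv.hom).comp (ψ.comp i.hom.hom), ?_⟩
    have b1 : Function.Bijective i.hom.hom := ConcreteCategory.bijective_of_isIso i.hom
    have b2 : Function.Bijective i'.inv.hom := ConcreteCategory.bijective_of_isIso i'.inv
    exact b2.comp (hψ.comp b1)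

end BC

end Groth.Agent.Helper6.TorBC
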