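import Groth.Agent.Lib.Helper6.ModFilt

/-!
# A module as the filtered colimit of its finitely generated submodules (in `ModuleCat`)
-/

set_option autoImplicit false

open CategoryTheory Limits

namespace Groth.Agent.Helper6.FGColim

universe u
variable {R : Type u} [CommRing R]

section
variable (R) (L : Type u) [AddCommGroup L] [Module R L]

/-- the directed set of finitely generated submodules. -/
abbrev FG : Type u := {S : Submodule R L // S.FG}

instance : IsDirected (FG R L) (· ≤ ·) :=
  ⟨fun a b => ⟨⟨a.1 ⊔ b.1, a.2.sup b.2⟩, le_sup_left, le_sup_right⟩⟩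

instance : Nonempty (FG R L) := ⟨⟨⊥, Submodule.fg_bot⟩⟩

/-- the diagram of finitely generated submodules. -/
def diagram : FG R L ⥤ ModuleCat.{u} R where
  obj S := ModuleCat.of R S.1
  map {S T} f := ModuleCat.ofHom (Submodule.inclusion (leOfHom f))
  map_id S := by ext x; rfl
  map_comp f g := by ext x; rfl

/-- the cocone of inclusions. -/
def cocone : Cocone (diagram R L) where
  pt := ModuleCat.of R L
  ι := { app := fun S => ModuleCat.ofHom S.1.subtype
         naturality := fun S T f => by ext x; rfl }

theorem nonempty_isColimit : Nonempty (IsColimit (cocone R L)) := by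
  refine Groth.Agent.Helper6.ModFilt.nonempty_isColimit (diagram R L) (cocone R L) ?_ ?_
  · intro x
    exact ⟨⟨Submodule.span R {x}, Submodule.fg_span_singleton x⟩,
      ⟨x, Submodule.mem_span_singleton_self x⟩, rfl⟩
  · intro S y hy
    refine ⟨S, 𝟙 S, ?_⟩
    have : y = 0 := Subtype.ext hy
    rw [this]
    exact map_zero _

/-- the cocone of inclusions is a colimit. -/
noncomputable def isColimit : IsColimit (cocone R L) := (nonempty_isColimit R L).some

end

/-- a colimit of zero objects is zero. -/
theorem isZero_of_isColimit {C J : Type*} [Category C] [Category J] [HasZeroMorphisms C]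
    {K : J ⥤ C} {c : Cocone K} (hc : IsColimit c) (h : ∀ j, IsZero (K.obj j)) : IsZero c.pt := by
  rw [IsZero.iff_id_eq_zero]
  exact hc.hom_ext (fun j => (h j).eq_of_src _ _)

/-- a functor preserving filtered colimits which vanishes on the finitely generated submodules
of `L` vanishes on `L`. -/
theorem isZero_of_forall_fg (F : ModuleCat.{u} R ⥤ ModuleCat.{u} R)
    (hF : ∀ (J : Type u) [SmallCategory J] [IsFiltered J], PreservesColimitsOfShape J F)
    (L : Type u) [AddCommGroup L] [Module R L]
    (h : ∀ S : Submodule R L, S.FG → IsZero (F.obj (ModuleCat.of R S))) :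
    IsZero (F.obj (ModuleCat.of R L)) := by
  have := hF (FG R L)
  have hc := isColimitOfPreserves F (isColimit R L)
  exact isZero_of_isColimit hc (fun S => h S.1 S.2)

end Groth.Agent.Helper6.FGColim
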