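import Groth.Agent.Lib.Helper6.TorNat

/-!
# Dévissage for the property "`u : M ⟶ N` induces isomorphisms on `Tor_i(L, -)` for all `i`"

* `P u L`: the property of `L`.
* `P.X₁`, `P.X₂`: two-out-of-three along short exact sequences in the first variable.
* `P.of_iso`, `P.of_subsingleton`.
* `P.of_isColimit`: stability under filtered colimits in the first variable.
* `P.self_iff`: `P u R ↔ IsIso u`.
-/

set_option autoImplicit false

open CategoryTheory Limits MonoidalCategory
open Groth.Agent.Helper18.TorLib Groth.Agent.Helper6.TorNat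

namespace Groth.Agent.Helper6.TorDev

universe u
variable {R : Type u} [CommRing R] {M N : ModuleCat.{u} R} (u : M ⟶ N)

/-- `u` induces isomorphisms `Tor_i(L, M) ≅ Tor_i(L, N)` for all `i`. -/
def P (L : ModuleCat.{u} R) : Prop :=
  ∀ i : ℕ, IsIso (((Tor (ModuleCat.{u} R) i).obj L).map u)

lemma comp_eq {A B C D : ModuleCat.{u} R} {f : A ⟶ B} {g : B ⟶ D} {f' : A ⟶ C} {g' : C ⟶ D}
    (h : f ≫ g = f' ≫ g') : g.hom.comp f.hom = g'.hom.comp f'.hom := by
  rw [← ModuleCat.hom_comp, ← ModuleCat.hom_comp, h]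

lemma bij_of_isIso {A B : ModuleCat.{u} R} (f : A ⟶ B) (h : IsIso f) :
    Function.Bijective f.hom :=
  (ConcreteCategory.isIso_iff_bijective f).1 h

lemma isIso_of_bij {A B : ModuleCat.{u} R} (f : A ⟶ B) (h : Function.Bijective f.hom) :
    IsIso f :=
  (ConcreteCategory.isIso_iff_bijective f).2 h

section LES

variable {S : ShortComplex (ModuleCat.{u} R)} (hS : S.ShortExact) (X : ModuleCat.{u} R)

include hS in
lemma ex₁ (n : ℕ) : Function.Exact (torδ hS X n).hom
    (((Tor (ModuleCat.{u} R) n).map S.f).app X).hom :=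
  (ShortComplex.ShortExact.moduleCat_exact_iff_function_exact _).1 (tor_exact₁ hS X n)

include hS in
lemma ex₂ (n : ℕ) : Function.Exact (((Tor (ModuleCat.{u} R) n).map S.f).app X).hom
    (((Tor (ModuleCat.{u} R) n).map S.g).app X).hom :=
  (ShortComplex.ShortExact.moduleCat_exact_iff_function_exact _).1 (tor_exact₂ hS X n)

include hS in
lemma ex₃ (n : ℕ) : Function.Exact (((Tor (ModuleCat.{u} R) (n + 1)).map S.g).app X).hom
    (torδ hS X n).hom :=
  (ShortComplex.ShortExact.moduleCat_exact_iff_function_exact _).1 (tor_exact₃ hS X n)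

include hS in
lemma surj₀ : Function.Surjective (((Tor (ModuleCat.{u} R) 0).map S.g).app X).hom := by
  have h := tor0Iso_hom_naturality S.g X
  have hsurj : Function.Surjective (S.g ▷ X).hom :=
    LinearMap.rTensor_surjective X hS.moduleCat_surjective_g
  have : Epi (S.g ▷ X) := (ModuleCat.epi_iff_surjective _).2 hsurj
  have h2 : ((Tor (ModuleCat.{u} R) 0).map S.g).app X =
      (tor0Iso S.X₂ X).hom ≫ (S.g ▷ X) ≫ (tor0Iso S.X₃ X).inv := by
    rw [← reassoc_of% h, Iso.hom_inv_id, Category.comp_id]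
  have : Epi (((Tor (ModuleCat.{u} R) 0).map S.g).app X) := by
    rw [h2]; infer_instance
  exact (ModuleCat.epi_iff_surjective _).1 this

end LES

section twoOfThree

variable {S : ShortComplex (ModuleCat.{u} R)} (hS : S.ShortExact)

include hS in
/-- `P X₂`, `P X₃` imply `P X₁`. -/
theorem P.X₁ (h₂ : P u S.X₂) (h₃ : P u S.X₃) : P u S.X₁ := by
  intro n
  apply isIso_of_bij
  exact LinearMap.bijective_of_surjective_of_bijective_of_bijective_of_injective
    (((Tor (ModuleCat.{u} R) (n + 1)).map S.g).app M).hom (torδ hS M n).hom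
    (((Tor (ModuleCat.{u} R) n).map S.f).app M).hom (((Tor (ModuleCat.{u} R) n).map S.g).app M).hom
    (((Tor (ModuleCat.{u} R) (n + 1)).map S.g).app N).hom (torδ hS N n).hom
    (((Tor (ModuleCat.{u} R) n).map S.f).app N).hom (((Tor (ModuleCat.{u} R) n).map S.g).app N).hom
    (((Tor (ModuleCat.{u} R) (n + 1)).obj S.X₂).map u).hom
    (((Tor (ModuleCat.{u} R) (n + 1)).obj S.X₃).map u).hom
    (((Tor (ModuleCat.{u} R) n).obj S.X₁).map u).hom
    (((Tor (ModuleCat.{u} R) n).obj S.X₂).map u).hom
    (((Tor (ModuleCat.{u} R) n).obj S.X₃).map u).hom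
    (comp_eq (((Tor (ModuleCat.{u} R) (n + 1)).map S.g).naturality u))
    (comp_eq (torδ_naturality_right hS u n))
    (comp_eq (((Tor (ModuleCat.{u} R) n).map S.f).naturality u))
    (comp_eq (((Tor (ModuleCat.{u} R) n).map S.g).naturality u))
    (ex₃ hS M n) (ex₁ hS M n) (ex₂ hS M n) (ex₃ hS N n) (ex₁ hS N n) (ex₂ hS N n)
    (bij_of_isIso _ (h₂ (n + 1))).2 (bij_of_isIso _ (h₃ (n + 1))) (bij_of_isIso _ (h₂ n))
    (bij_of_isIso _ (h₃ n)).1

include hS in
/-- `P X₁`, `P X₃` imply `P X₂`. -/
theorem P.X₂ (h₁ : P u S.X₁) (h₃ : P u S.X₃) : P u S.X₂ := by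
  intro n
  apply isIso_of_bij
  constructor
  · -- injectivity: four lemma on Tor_{n+1}(X₃) → Tor_n(X₁) → Tor_n(X₂) → Tor_n(X₃)
    exact LinearMap.injective_of_surjective_of_injective_of_injective
      (torδ hS M n).hom (((Tor (ModuleCat.{u} R) n).map S.f).app M).hom
      (((Tor (ModuleCat.{u} R) n).map S.g).app M).hom
      (torδ hS N n).hom (((Tor (ModuleCat.{u} R) n).map S.f).app N).hom
      (((Tor (ModuleCat.{u} R) n).map S.g).app N).hom
      (((Tor (ModuleCat.{u} R) (n + 1)).obj S.X₃).map u).hom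
      (((Tor (ModuleCat.{u} R) n).obj S.X₁).map u).hom
      (((Tor (ModuleCat.{u} R) n).obj S.X₂).map u).hom
      (((Tor (ModuleCat.{u} R) n).obj S.X₃).map u).hom
      (comp_eq (torδ_naturality_right hS u n))
      (comp_eq (((Tor (ModuleCat.{u} R) n).map S.f).naturality u))
      (comp_eq (((Tor (ModuleCat.{u} R) n).map S.g).naturality u))
      (ex₁ hS M n) (ex₂ hS M n) (ex₁ hS N n)
      (bij_of_isIso _ (h₃ (n + 1))).2 (bij_of_isIso _ (h₁ n)).1 (bij_of_isIso _ (h₃ n)).1
  · -- surjectivity
    cases n with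
    | zero =>
      intro y
      obtain ⟨z, hz⟩ := (bij_of_isIso _ (h₃ 0)).2
        ((((Tor (ModuleCat.{u} R) 0).map S.g).app N).hom y)
      obtain ⟨x, rfl⟩ := surj₀ hS M z
      have hc := comp_eq (((Tor (ModuleCat.{u} R) 0).map S.g).naturality u)
      have hcx := LinearMap.congr_fun hc x
      simp only [LinearMap.comp_apply] at hcx
      have hker : (((Tor (ModuleCat.{u} R) 0).map S.g).app N).hom
          (y - (((Tor (ModuleCat.{u} R) 0).obj S.X₂).map u).hom x) = 0 := by
        rw [map_sub, hcx, hz, sub_self]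
      obtain ⟨w, hw⟩ := (ex₂ hS N 0 _).1 hker
      obtain ⟨v, rfl⟩ := (bij_of_isIso _ (h₁ 0)).2 w
      have hc' := comp_eq (((Tor (ModuleCat.{u} R) 0).map S.f).naturality u)
      have hcv := LinearMap.congr_fun hc' v
      simp only [LinearMap.comp_apply] at hcv
      refine ⟨x + (((Tor (ModuleCat.{u} R) 0).map S.f).app M).hom v, ?_⟩
      rw [map_add, ← hcv, hw]
      abel
    | succ n =>
      exact LinearMap.surjective_of_surjective_of_surjective_of_injective
        (((Tor (ModuleCat.{u} R) (n + 1)).map S.f).app M).hom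
        (((Tor (ModuleCat.{u} R) (n + 1)).map S.g).app M).hom (torδ hS M n).hom
        (((Tor (ModuleCat.{u} R) (n + 1)).map S.f).app N).hom
        (((Tor (ModuleCat.{u} R) (n + 1)).map S.g).app N).hom (torδ hS N n).hom
        (((Tor (ModuleCat.{u} R) (n + 1)).obj S.X₁).map u).hom
        (((Tor (ModuleCat.{u} R) (n + 1)).obj S.X₂).map u).hom
        (((Tor (ModuleCat.{u} R) (n + 1)).obj S.X₃).map u).hom
        (((Tor (ModuleCat.{u} R) n).obj S.X₁).map u).hom
        (comp_eq (((Tor (ModuleCat.{u} R) (n + 1)).map S.f).naturality u))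
        (comp_eq (((Tor (ModuleCat.{u} R) (n + 1)).map S.g).naturality u))
        (comp_eq (torδ_naturality_right hS u n))
        (ex₃ hS M n) (ex₂ hS N (n + 1)) (ex₃ hS N n)
        (bij_of_isIso _ (h₁ (n + 1))).2 (bij_of_isIso _ (h₃ (n + 1))).2 (bij_of_isIso _ (h₁ n)).1

end twoOfThree

section basic

theorem P.of_iso {L L' : ModuleCat.{u} R} (e : L ≅ L') (h : P u L) : P u L' := by
  intro i
  exact (NatIso.isIso_map_iff ((Tor (ModuleCat.{u} R) i).mapIso e) u).1 (h i)

theorem isZero_tor_of_subsingleton (L X : ModuleCat.{u} R) [Subsingleton L] (i : ℕ) :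
    IsZero (((Tor (ModuleCat.{u} R) i).obj L).obj X) := by
  cases i with
  | zero =>
    refine IsZero.of_iso ?_ (tor0Iso L X)
    have : Subsingleton (TensorProduct R L X) := inferInstance
    exact ModuleCat.isZero_of_subsingleton (ModuleCat.of R (TensorProduct R L X))
  | succ n =>
    have : Module.Flat R L := inferInstance
    exact isZero_tor_succ_of_flat_left L X n

theorem P.of_subsingleton (L : ModuleCat.{u} R) [Subsingleton L] : P u L := by
  intro i
  have h1 := isZero_tor_of_subsingleton L M i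
  have h2 := isZero_tor_of_subsingleton L N i
  exact ⟨⟨0, h1.eq_of_src _ _, h2.eq_of_src _ _⟩⟩

/-- `Tor_0(R, -) ≅ 𝟭`. -/
noncomputable def tor0SelfIso :
    (Tor (ModuleCat.{u} R) 0).obj (ModuleCat.of R R) ≅ 𝟭 (ModuleCat.{u} R) :=
  (Functor.leftDerivedZeroIsoSelf (tL (ModuleCat.of R R))) ≪≫
    (leftUnitorNatIso (ModuleCat.{u} R))

theorem P.isIso_of_self (h : P u (ModuleCat.of R R)) : IsIso u := by
  have := (NatIso.isIso_map_iff (tor0SelfIso (R := R)) u).1 (h 0)
  exact this

end basic

section colimit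

/-- a natural transformation between functors preserving a colimit which is an isomorphism on
the diagram is an isomorphism on the colimit. -/
theorem isIso_app_of_isColimit {C D J : Type*} [Category C] [Category D] [Category J]
    {F G : C ⥤ D} (τ : F ⟶ G) {K : J ⥤ C} {c : Cocone K} (hc : IsColimit c)
    [PreservesColimit K F] [PreservesColimit K G] (h : ∀ j, IsIso (τ.app (K.obj j))) :
    IsIso (τ.app c.pt) := by
  have hF := isColimitOfPreserves F hc
  have hG := isColimitOfPreserves G hc
  have hw : ∀ j : J, IsIso ((Functor.whiskerLeft K τ).app j) := fun j => by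
    rw [Functor.whiskerLeft_app]
    exact h j
  have : IsIso (Functor.whiskerLeft K τ) :=
    NatIso.isIso_of_isIso_app (α := Functor.whiskerLeft K τ)
  let e : K ⋙ F ≅ K ⋙ G := asIso (Functor.whiskerLeft K τ)
  let φ := IsColimit.coconePointsIsoOfNatIso hF hG e
  have : τ.app c.pt = φ.hom := by
    apply hF.hom_ext
    intro j
    rw [IsColimit.comp_coconePointsIsoOfNatIso_hom]
    simp [e]
  rw [this]
  infer_instance

variable {J : Type u} [SmallCategory J] [IsFiltered J]

theorem P.of_isColimit {K : J ⥤ ModuleCat.{u} R} {c : Cocone K} (hc : IsColimit c)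
    (h : ∀ j, P u (K.obj j)) : P u c.pt := by
  intro i
  have := preserves_flip J M i
  have := preserves_flip J N i
  exact isIso_app_of_isColimit ((Tor (ModuleCat.{u} R) i).flip.map u) hc (fun j => h j i)

end colimit

section unbundled

variable {N₁ N₂ N₃ : Type u} [AddCommGroup N₁] [Module R N₁] [AddCommGroup N₂] [Module R N₂]
  [AddCommGroup N₃] [Module R N₃]

theorem P.of_exact₂ (f : N₁ →ₗ[R] N₂) (g : N₂ →ₗ[R] N₃) (hf : Function.Injective f)
    (hg : Function.Surjective g) (hfg : Function.Exact f g)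
    (h₁ : P u (ModuleCat.of R N₁)) (h₃ : P u (ModuleCat.of R N₃)) : P u (ModuleCat.of R N₂) := by
  have hS : (ModuleCat.shortComplexOfCompEqZero f g hfg.linearMap_comp_eq_zero).ShortExact :=
    ModuleCat.shortComplex_shortExact _ hfg hf hg
  exact P.X₂ u hS h₁ h₃

theorem P.of_exact₁ (f : N₁ →ₗ[R] N₂) (g : N₂ →ₗ[R] N₃) (hf : Function.Injective f)
    (hg : Function.Surjective g) (hfg : Function.Exact f g)
    (h₂ : P u (ModuleCat.of R N₂)) (h₃ : P u (ModuleCat.of R N₃)) : P u (ModuleCat.of R N₁) := by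
  have hS : (ModuleCat.shortComplexOfCompEqZero f g hfg.linearMap_comp_eq_zero).ShortExact :=
    ModuleCat.shortComplex_shortExact _ hfg hf hg
  exact P.X₁ u hS h₂ h₃

theorem P.of_linearEquiv (e : N₁ ≃ₗ[R] N₂) (h : P u (ModuleCat.of R N₁)) :
    P u (ModuleCat.of R N₂) :=
  P.of_iso u e.toModuleIso h

/-- the property passes from all finitely generated submodules to the module. -/
theorem P.of_forall_fg (L : Type u) [AddCommGroup L] [Module R L]
    (h : ∀ S : Submodule R L, S.FG → P u (ModuleCat.of R S)) : P u (ModuleCat.of R L) := by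
  let J := {S : Submodule R L // S.FG}
  haveI : IsDirected J (· ≤ ·) :=
    ⟨fun a b => ⟨⟨a.1 ⊔ b.1, a.2.sup b.2⟩, le_sup_left, le_sup_right⟩⟩
  haveI : Nonempty J := ⟨⟨⊥, Submodule.fg_bot⟩⟩
  let K : J ⥤ ModuleCat.{u} R :=
    { obj := fun S => ModuleCat.of R S.1
      map := fun {S T} f => ModuleCat.ofHom (Submodule.inclusion (leOfHom f))
      map_id := fun S => by ext x; rfl
      map_comp := fun f g => by ext x; rfl }
  let c : Cocone K :=
    { pt := ModuleCat.of R L
      ι := { app := fun S => ModuleCat.ofHom S.1.subtype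
             naturality := fun S T f => by ext x; rfl } }
  obtain ⟨hc⟩ : Nonempty (IsColimit c) := by
    refine Groth.Agent.Helper6.ModFilt.nonempty_isColimit K c ?_ ?_
    · intro x
      exact ⟨⟨Submodule.span R {x}, Submodule.fg_span_singleton x⟩,
        ⟨x, Submodule.mem_span_singleton_self x⟩, rfl⟩
    · intro S y hy
      refine ⟨S, 𝟙 S, ?_⟩
      have : y = 0 := Subtype.ext hy
      rw [this]
      exact map_zero _
  exact P.of_isColimit u hc (fun S => h S.1 S.2)

end unbundled

section dev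

variable [IsNoetherianRing R]

/-- dévissage: a property holding for all `R ⧸ q`, `q` prime, holds for all f.g. modules. -/
theorem P.of_finite (hq : ∀ q : Ideal R, q.IsPrime → P u (ModuleCat.of R (R ⧸ q)))
    (L : Type u) [AddCommGroup L] [Module R L] [Module.Finite R L] : P u (ModuleCat.of R L) := by
  refine IsNoetherianRing.induction_on_isQuotientEquivQuotientPrime R (M := L) ‹_›
    (motive := fun N _ _ _ => P u (ModuleCat.of R N)) ?_ ?_ ?_
  · intro N _ _ _ _
    exact P.of_subsingleton u (ModuleCat.of R N)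
  · intro N _ _ _ q e
    exact P.of_linearEquiv u e.symm (hq q.1 q.2)
  · intro N₁ _ _ _ N₂ _ _ _ N₃ _ _ _ f g hf hg hfg h₁ h₃
    exact P.of_exact₂ u f g hf hg hfg h₁ h₃

/-- dévissage for "torsion" modules: f.g. modules killed by `p` all of whose elements are killed
by some `f ∉ p` have the property as soon as `R ⧸ q` has it for all primes `q > p`. -/
theorem P.of_finite_torsion (p : Ideal R)
    (IH : ∀ q : Ideal R, q.IsPrime → p < q → P u (ModuleCat.of R (R ⧸ q)))
    (L : Type u) [AddCommGroup L] [Module R L] [Module.Finite R L]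
    (hL : ∀ x : L, (∀ a ∈ p, a • x = 0) ∧ ∃ f, f ∉ p ∧ f • x = 0) :
    P u (ModuleCat.of R L) := by
  revert hL
  refine IsNoetherianRing.induction_on_isQuotientEquivQuotientPrime R (M := L) ‹_›
    (motive := fun N _ _ _ => (∀ x : N, (∀ a ∈ p, a • x = 0) ∧ ∃ f, f ∉ p ∧ f • x = 0) →
      P u (ModuleCat.of R N)) ?_ ?_ ?_
  · intro N _ _ _ _ _
    exact P.of_subsingleton u (ModuleCat.of R N)
  · intro N _ _ _ q e hN
    obtain ⟨h1, f, hfp, hf⟩ := hN (e.symm 1)
    have hle : p ≤ q.1 := by
      intro a ha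
      have h := h1 a ha
      rw [← map_smul, LinearEquiv.map_eq_zero_iff] at h
      have h' : (Ideal.Quotient.mk q.1) a = 0 := by
        have : a • (1 : R ⧸ q.1) = (Ideal.Quotient.mk q.1) a := by
          rw [Algebra.smul_def, mul_one]; rfl
        rw [← this]; exact h
      exact Ideal.Quotient.eq_zero_iff_mem.1 h'
    have hfq : f ∈ q.1 := by
      rw [← map_smul, LinearEquiv.map_eq_zero_iff] at hf
      have h' : (Ideal.Quotient.mk q.1) f = 0 := by
        have : f • (1 : R ⧸ q.1) = (Ideal.Quotient.mk q.1) f := by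
          rw [Algebra.smul_def, mul_one]; rfl
        rw [← this]; exact hf
      exact Ideal.Quotient.eq_zero_iff_mem.1 h'
    have hlt : p < q.1 := lt_of_le_of_ne hle (fun h => hfp (h ▸ hfq))
    exact P.of_linearEquiv u e.symm (IH q.1 q.2 hlt)
  · intro N₁ _ _ _ N₂ _ _ _ N₃ _ _ _ f g hf hg hfg h₁ h₃ hN
    refine P.of_exact₂ u f g hf hg hfg (h₁ ?_) (h₃ ?_)
    · intro x
      obtain ⟨h1, a, hap, ha⟩ := hN (f x)
      refine ⟨fun b hb => hf ?_, a, hap, hf ?_⟩
      · rw [map_smul, h1 b hb, map_zero]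
      · rw [map_smul, ha, map_zero]
    · intro y
      obtain ⟨x, rfl⟩ := hg y
      obtain ⟨h1, a, hap, ha⟩ := hN x
      refine ⟨fun b hb => ?_, a, hap, ?_⟩
      · rw [← map_smul, h1 b hb, map_zero]
      · rw [← map_smul, ha, map_zero]

/-- the same without finiteness. -/
theorem P.of_torsion (p : Ideal R)
    (IH : ∀ q : Ideal R, q.IsPrime → p < q → P u (ModuleCat.of R (R ⧸ q)))
    (L : Type u) [AddCommGroup L] [Module R L]
    (hL : ∀ x : L, (∀ a ∈ p, a • x = 0) ∧ ∃ f, f ∉ p ∧ f • x = 0) :
    P u (ModuleCat.of R L) := by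
  apply P.of_forall_fg
  intro S hS
  haveI : Module.Finite R S := Module.Finite.iff_fg.2 hS
  refine P.of_finite_torsion u p IH S ?_
  intro x
  obtain ⟨h1, a, hap, ha⟩ := hL x.1
  exact ⟨fun b hb => Subtype.ext (h1 b hb), a, hap, Subtype.ext ha⟩

/-- the key step: `P (κ(p))` and `P (R ⧸ q)` for `q > p` imply `P (R ⧸ p)`. -/
theorem P.quotient_of_residueField (p : Ideal R) [p.IsPrime]
    (hres : P u (ModuleCat.of R p.ResidueField))
    (IH : ∀ q : Ideal R, q.IsPrime → p < q → P u (ModuleCat.of R (R ⧸ q))) :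
    P u (ModuleCat.of R (R ⧸ p)) := by
  let ι : (R ⧸ p) →ₗ[R] p.ResidueField :=
    (IsScalarTower.toAlgHom R (R ⧸ p) p.ResidueField).toLinearMap
  have hι : ∀ b, ι b = algebraMap (R ⧸ p) p.ResidueField b := fun b => rfl
  have hinj : Function.Injective ι := by
    intro a b hab
    exact (IsFractionRing.injective (R ⧸ p) p.ResidueField) hab
  refine P.of_exact₁ u ι (LinearMap.range ι).mkQ hinj (Submodule.mkQ_surjective _)
    ι.exact_map_mkQ_range hres ?_
  refine P.of_torsion u p IH _ ?_
  intro x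
  obtain ⟨y, rfl⟩ := Submodule.mkQ_surjective _ x
  constructor
  · intro a ha
    rw [← map_smul]
    have : a • y = 0 := by
      rw [Algebra.smul_def, IsScalarTower.algebraMap_apply R (R ⧸ p) p.ResidueField,
        Ideal.Quotient.algebraMap_eq, Ideal.Quotient.eq_zero_iff_mem.2 ha, map_zero, zero_mul]
    rw [this, map_zero]
  · obtain ⟨b, s, hs, rfl⟩ := IsFractionRing.div_surjective (A := R ⧸ p) y
    obtain ⟨f, rfl⟩ := Ideal.Quotient.mk_surjective s
    refine ⟨f, ?_, ?_⟩
    · intro hf
      have : (Ideal.Quotient.mk p) f = 0 := Ideal.Quotient.eq_zero_iff_mem.2 hf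
      rw [this] at hs
      exact zero_notMem_nonZeroDivisors hs
    · rw [← map_smul]
      have hne : algebraMap (R ⧸ p) p.ResidueField ((Ideal.Quotient.mk p) f) ≠ 0 := by
        intro h0
        have := (IsFractionRing.injective (R ⧸ p) p.ResidueField) (h0.trans (map_zero _).symm)
        rw [this] at hs
        exact zero_notMem_nonZeroDivisors hs
      have : f • (algebraMap (R ⧸ p) p.ResidueField b /
          algebraMap (R ⧸ p) p.ResidueField ((Ideal.Quotient.mk p) f)) = ι b := by
        rw [Algebra.smul_def, IsScalarTower.algebraMap_apply R (R ⧸ p) p.ResidueField,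
          Ideal.Quotient.algebraMap_eq, hι, mul_div_cancel₀ _ hne]
      rw [this]
      exact (Submodule.Quotient.mk_eq_zero _).2 ⟨b, rfl⟩

/-- `P (κ(p))` for all primes `p` implies `P (R ⧸ p)` for all primes `p`. -/
theorem P.quotient_prime
    (hres : ∀ (p : Ideal R) [p.IsPrime], P u (ModuleCat.of R p.ResidueField)) :
    ∀ p : Ideal R, p.IsPrime → P u (ModuleCat.of R (R ⧸ p)) := by
  intro p
  induction p using WellFoundedGT.induction with
  | ind p IH =>
    intro hp
    exact P.quotient_of_residueField u p (hres p) (fun q hq hpq => IH q hpq hq)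

/-- **Main theorem**: over a Noetherian ring, a morphism `u : M ⟶ N` inducing isomorphisms on
`Tor_i(κ(p), -)` for all primes `p` and all `i` is an isomorphism. -/
theorem isIso_of_residueField
    (hres : ∀ (p : Ideal R) [p.IsPrime], P u (ModuleCat.of R p.ResidueField)) : IsIso u :=
  P.isIso_of_self u (P.of_finite u (P.quotient_prime u hres) R)

/-- more generally, `P` then holds for all modules. -/
theorem P.of_residueField
    (hres : ∀ (p : Ideal R) [p.IsPrime], P u (ModuleCat.of R p.ResidueField))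
    (L : Type u) [AddCommGroup L] [Module R L] : P u (ModuleCat.of R L) := by
  apply P.of_forall_fg
  intro S hS
  haveI : Module.Finite R S := Module.Finite.iff_fg.2 hS
  exact P.of_finite u (P.quotient_prime u hres) S

end dev

end Groth.Agent.Helper6.TorDev
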