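import Groth.Agent.Lib.Helper6.EtGlueTor
import Groth.Agent.Lib.Helper6.FGColim
import Groth.Agent.Lib.Helper6.TorDev

/-!
# Tor computations for glueing pairs, II: `Tor_1(C, R') = 0` for `f`-power torsion `C`
-/

set_option autoImplicit false

open CategoryTheory Limits MonoidalCategory TensorProduct
open Groth.Agent.Helper18.TorLib

namespace Groth.Agent.Helper6.EtGlueTor

universe u
variable {R R' : Type u} [CommRing R] [CommRing R'] [Algebra R R'] (f : R)

/-- **L1**: `f^n`-torsion of `R'` comes from `f^n`-torsion of `R`. -/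
theorem exists_torsion_lift (h : EtGlue.IsGlueingPair R R' f) (n : ℕ) (r' : R')
    (hr' : algebraMap R R' f ^ n * r' = 0) : ∃ r : R, f ^ n * r = 0 ∧ algebraMap R R' r = r' := by
  have h0 : algebraMap R' (Localization.Away (algebraMap R R' f)) r' =
      Localization.awayMap (algebraMap R R') f 0 := by
    rw [map_zero, IsLocalization.map_eq_zero_iff (Submonoid.powers (algebraMap R R' f))]
    exact ⟨⟨algebraMap R R' f ^ n, n, rfl⟩, hr'⟩
  obtain ⟨r, hr1, hr2⟩ := h.2.2.1 r' 0 h0
  refine ⟨r, ?_, hr1⟩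
  apply h.2.1
  show (algebraMap R R' (f ^ n * r), algebraMap R (Localization.Away f) (f ^ n * r)) =
    (algebraMap R R' 0, algebraMap R (Localization.Away f) 0)
  rw [map_mul, map_mul, hr1, hr2, map_pow, hr', mul_zero, map_zero, map_zero]

/-- **L3**: `Tor_1(R/f^n, R') = 0`. -/
theorem isZero_tor_one_quot (h : EtGlue.IsGlueingPair R R' f) (n : ℕ) :
    IsZero (((Tor (ModuleCat.{u} R) 1).obj
      (ModuleCat.of R (R ⧸ Ideal.span ({f ^ n} : Set R)))).obj (ModuleCat.of R R')) := by
  let I : Ideal R := Ideal.span ({f ^ n} : Set R)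
  refine (isZero_tor_one_iff_injective (M := R') (Submodule.subtype I) (Submodule.mkQ I)
    (Submodule.injective_subtype I) (LinearMap.exact_subtype_mkQ I)
    (Submodule.mkQ_surjective I)).2 ?_
  let g : I := ⟨f ^ n, Ideal.mem_span_singleton_self _⟩
  have hform : ∀ x : I ⊗[R] R', ∃ r' : R', x = g ⊗ₜ[R] r' := by
    intro x
    induction x using TensorProduct.induction_on with
    | zero => exact ⟨0, (tmul_zero _ _).symm⟩
    | tmul k s =>
      obtain ⟨a, ha⟩ := Ideal.mem_span_singleton'.1 k.2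
      refine ⟨a • s, ?_⟩
      have : k = a • g := Subtype.ext (by simp [g, ← ha])
      rw [this, smul_tmul]
    | add x y hx hy =>
      obtain ⟨a, rfl⟩ := hx
      obtain ⟨b, rfl⟩ := hy
      exact ⟨a + b, (tmul_add _ _ _).symm⟩
  rw [injective_iff_map_eq_zero]
  intro x hx
  obtain ⟨r', rfl⟩ := hform x
  rw [LinearMap.rTensor_tmul] at hx
  have h1 := congrArg (TensorProduct.lid R R') hx
  rw [TensorProduct.lid_tmul, map_zero] at h1
  have h2 : algebraMap R R' f ^ n * r' = 0 := by
    rw [← map_pow, ← Algebra.smul_def]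
    exact h1
  obtain ⟨r, hr, rfl⟩ := exists_torsion_lift f h n r' h2
  rw [Algebra.algebraMap_eq_smul_one, ← smul_tmul]
  have : r • g = 0 := Subtype.ext (by simp [g, mul_comm r, hr])
  rw [this, zero_tmul]

section retraction

variable {f}
variable {Y : Type u} [AddCommGroup Y] [Module R Y]

/-- the action of `R/I` on a module killed by `I`. -/
noncomputable def act (I : Ideal R) (hY : ∀ a ∈ I, ∀ y : Y, a • y = 0) :
    (R ⧸ I) →ₗ[R] (Y →ₗ[R] Y) :=
  Submodule.liftQ I (LinearMap.lsmul R Y) (fun a ha => by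
    rw [LinearMap.mem_ker]
    ext y
    exact hY a ha y)

/-- **L2 (injectivity)**: for `Y` killed by `f^n`, `y ↦ y ⊗ 1 : Y → Y ⊗ R'` is injective. -/
theorem tmul_one_injective (h : EtGlue.QuotPowBijective R R' f) (n : ℕ)
    (hY : ∀ y : Y, f ^ n • y = 0) : Function.Injective (fun y : Y => y ⊗ₜ[R] (1 : R')) := by
  let I : Ideal R := Ideal.span ({f ^ (n + 1)} : Set R)
  let I' : Ideal R' := Ideal.map (algebraMap R R') I
  have hYI : ∀ a ∈ I, ∀ y : Y, a • y = 0 := by
    intro a ha y
    obtain ⟨b, rfl⟩ := Ideal.mem_span_singleton'.1 ha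
    rw [pow_succ, ← mul_assoc, mul_smul, mul_smul, hY, smul_zero]
  have hb := h (n + 1) (Nat.succ_pos n)
  -- the `R`-linear version of the quotient map
  let ℓ : (R ⧸ I) →ₗ[R] (R' ⧸ I') :=
    Submodule.liftQ I (((Submodule.mkQ I').restrictScalars R).comp (Algebra.linearMap R R'))
      (fun a ha => by
        rw [LinearMap.mem_ker]
        show (Ideal.Quotient.mk I') (algebraMap R R' a) = 0
        exact Ideal.Quotient.eq_zero_iff_mem.2 (Ideal.mem_map_of_mem _ ha))
  have hℓ : ∀ x, ℓ x = Ideal.quotientMap I' (algebraMap R R') Ideal.le_comap_map x := by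
    intro x
    obtain ⟨r, rfl⟩ := Ideal.Quotient.mk_surjective x
    rfl
  have hℓb : Function.Bijective ℓ := by
    have : (ℓ : (R ⧸ I) → (R' ⧸ I')) =
        Ideal.quotientMap I' (algebraMap R R') Ideal.le_comap_map := funext hℓ
    rw [this]
    exact hb
  let e : (R ⧸ I) ≃ₗ[R] (R' ⧸ I') := LinearEquiv.ofBijective ℓ hℓb
  let σ : R' →ₗ[R] (R ⧸ I) := e.symm.toLinearMap.comp ((Submodule.mkQ I').restrictScalars R)
  have hσ : σ 1 = 1 := by
    show e.symm ((Ideal.Quotient.mk I') 1) = 1
    rw [LinearEquiv.symm_apply_eq]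
    show (Ideal.Quotient.mk I') 1 = ℓ 1
    rw [hℓ, map_one, map_one]
  let ρ : Y ⊗[R] R' →ₗ[R] Y := TensorProduct.lift ((act I hYI).comp σ).flip
  have hρ : ∀ y : Y, ρ (y ⊗ₜ[R] (1 : R')) = y := by
    intro y
    show (act I hYI) (σ 1) y = y
    rw [hσ]
    show (act I hYI) ((Ideal.Quotient.mk I) 1) y = y
    show (LinearMap.lsmul R Y) 1 y = y
    simp
  intro y₁ y₂ hy
  have := congrArg ρ hy
  rwa [hρ, hρ] at this

/-- for `g : X → Y` injective with `X`, `Y` killed by powers of `f`, `g ⊗ R'` is injective. -/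
theorem rTensor_injective_of_torsion (h : EtGlue.QuotPowBijective R R' f) (n : ℕ)
    {X : Type u} [AddCommGroup X] [Module R X] (g : X →ₗ[R] Y) (hg : Function.Injective g)
    (hY : ∀ y : Y, f ^ n • y = 0) : Function.Injective (g.rTensor R') := by
  rw [injective_iff_map_eq_zero]
  intro z hz
  have hX : ∀ x : X, ∃ m : ℕ, f ^ m • x = 0 := fun x => ⟨n, hg (by
    rw [map_smul, hY, map_zero])⟩
  obtain ⟨x, rfl⟩ := exists_tmul_one f h hX z
  rw [LinearMap.rTensor_tmul] at hz
  have h0 : g x = 0 := tmul_one_injective h n hY (hz.trans (zero_tmul _ _).symm)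
  have : x = 0 := hg (h0.trans (map_zero g).symm)
  rw [this, zero_tmul]

end retraction

section devissage

variable {f}

/-- **Lemma G**: `0 → K → F → Y → 0` exact, `F` killed by `f^n`, `Tor_1(F, R') = 0`
⟹ `Tor_1(Y, R') = 0`. -/
theorem isZero_tor_one_of_shortExact (h : EtGlue.QuotPowBijective R R' f) (n : ℕ)
    {S : ShortComplex (ModuleCat.{u} R)} (hS : S.ShortExact)
    (hF : ∀ y : S.X₂, f ^ n • y = 0)
    (hz : IsZero (((Tor (ModuleCat.{u} R) 1).obj S.X₂).obj (ModuleCat.of R R'))) :
    IsZero (((Tor (ModuleCat.{u} R) 1).obj S.X₃).obj (ModuleCat.of R R')) := by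
  let M : ModuleCat.{u} R := ModuleCat.of R R'
  have hinj : Function.Injective (S.f.hom.rTensor M) :=
    rTensor_injective_of_torsion h n S.f.hom hS.moduleCat_injective_f hF
  have hmono : Mono (((Tor (ModuleCat.{u} R) 0).map S.f).app M) :=
    (mono_tor0_map_iff S.f M).2 ((mono_whiskerRight_iff S.f M).2 hinj)
  have hδmono : Mono (torδ hS M 0) :=
    (tor_exact₃ hS M 0).mono_g (hz.eq_of_src _ _)
  have hδ : torδ hS M 0 = 0 := by
    rw [← cancel_mono (((Tor (ModuleCat.{u} R) 0).map S.f).app M), torδ_comp, zero_comp]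
  exact IsZero.of_mono_eq_zero _ hδ

/-- **Lemma C**: a quotient of `R/f^n` has `Tor_1(-, R') = 0`. -/
theorem isZero_tor_one_of_cyclic (h : EtGlue.IsGlueingPair R R' f) (n : ℕ)
    {Y : Type u} [AddCommGroup Y] [Module R Y]
    (q : (R ⧸ Ideal.span ({f ^ n} : Set R)) →ₗ[R] Y) (hq : Function.Surjective q) :
    IsZero (((Tor (ModuleCat.{u} R) 1).obj (ModuleCat.of R Y)).obj (ModuleCat.of R R')) := by
  have hS := LinearMap.shortExact_shortComplexKer hq
  refine isZero_tor_one_of_shortExact h.1 n hS ?_ (isZero_tor_one_quot f h n)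
  intro y
  obtain ⟨r, rfl⟩ := Ideal.Quotient.mk_surjective y
  show f ^ n • (Ideal.Quotient.mk _ r) = 0
  rw [Algebra.smul_def, Ideal.Quotient.algebraMap_eq, ← map_mul]
  exact Ideal.Quotient.eq_zero_iff_mem.2 (Ideal.mul_mem_right _ _ (Ideal.mem_span_singleton_self _))

/-- modules killed by `f^n` generated by `k` elements. -/
theorem isZero_tor_one_of_fin (h : EtGlue.IsGlueingPair R R' f) (n : ℕ) :
    ∀ (k : ℕ) (Y : Type u) [AddCommGroup Y] [Module R Y] (s : Fin k → Y),
      Submodule.span R (Set.range s) = ⊤ → (∀ y : Y, f ^ n • y = 0) →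
      IsZero (((Tor (ModuleCat.{u} R) 1).obj (ModuleCat.of R Y)).obj (ModuleCat.of R R')) := by
  intro k
  induction k with
  | zero =>
    intro Y _ _ s hs _
    have : Subsingleton Y := by
      rw [← Submodule.subsingleton_iff R, ← subsingleton_iff_bot_eq_top]
      rw [← hs, Set.range_eq_empty, Submodule.span_empty]
    exact Groth.Agent.Helper6.TorDev.isZero_tor_of_subsingleton (ModuleCat.of R Y) _ 1
  | succ k ih =>
    intro Y _ _ s hs hY
    let Y' : Submodule R Y := Submodule.span R (Set.range (s ∘ Fin.castSucc))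
    let s' : Fin k → Y' := fun i => ⟨s (Fin.castSucc i), Submodule.subset_span ⟨i, rfl⟩⟩
    have hs' : Submodule.span R (Set.range s') = ⊤ := by
      have := Submodule.span_span_coe_preimage (R := R) (s := Set.range (s ∘ Fin.castSucc))
      rw [← this]
      congr 1
      ext ⟨y, hy⟩
      simp only [Set.mem_range, Set.mem_preimage, Function.comp_apply, s', Subtype.mk.injEq]
    have h1 := ih Y' s' hs' (fun y => Subtype.ext (hY y.1))
    -- the quotient is cyclic
    let y₀ : Y ⧸ Y' := Submodule.Quotient.mk (s (Fin.last k))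
    let q : (R ⧸ Ideal.span ({f ^ n} : Set R)) →ₗ[R] (Y ⧸ Y') :=
      Submodule.liftQ _ (LinearMap.toSpanSingleton R (Y ⧸ Y') y₀) (fun a ha => by
        obtain ⟨b, rfl⟩ := Ideal.mem_span_singleton'.1 ha
        rw [LinearMap.mem_ker, LinearMap.toSpanSingleton_apply, mul_smul, ← Submodule.Quotient.mk_smul,
          hY, Submodule.Quotient.mk_zero, smul_zero])
    have hq : Function.Surjective q := by
      intro z
      obtain ⟨y, rfl⟩ := Submodule.mkQ_surjective _ z
      have hy : y ∈ Y' ⊔ Submodule.span R {s (Fin.last k)} := by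
        have hle : Submodule.span R (Set.range s) ≤ Y' ⊔ Submodule.span R {s (Fin.last k)} := by
          rw [Submodule.span_le]
          rintro _ ⟨i, rfl⟩
          refine Fin.lastCases ?_ (fun j => ?_) i
          · exact Submodule.mem_sup_right (Submodule.mem_span_singleton_self _)
          · exact Submodule.mem_sup_left (Submodule.subset_span ⟨j, rfl⟩)
        exact hle (hs ▸ Submodule.mem_top)
      obtain ⟨y', hy', z', hz', rfl⟩ := Submodule.mem_sup.1 hy
      obtain ⟨c, rfl⟩ := Submodule.mem_span_singleton.1 hz'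
      refine ⟨Ideal.Quotient.mk _ c, ?_⟩
      show (LinearMap.toSpanSingleton R (Y ⧸ Y') y₀) c = _
      rw [LinearMap.toSpanSingleton_apply, Submodule.mkQ_apply, Submodule.Quotient.mk_add,
        (Submodule.Quotient.mk_eq_zero Y').2 hy', zero_add, Submodule.Quotient.mk_smul]
    have h3 := isZero_tor_one_of_cyclic h n q hq
    have hS : (ModuleCat.shortComplexOfCompEqZero Y'.subtype Y'.mkQ
        (LinearMap.exact_subtype_mkQ Y').linearMap_comp_eq_zero).ShortExact :=
      ModuleCat.shortComplex_shortExact _ (LinearMap.exact_subtype_mkQ Y')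
        (Submodule.injective_subtype Y') (Submodule.mkQ_surjective Y')
    exact (tor_exact₂ hS (ModuleCat.of R R') 1).isZero_of_both_zeros
      (h1.eq_of_src _ _) (h3.eq_of_tgt _ _)

/-- **L6**: `Tor_1(C, R') = 0` for every `f`-power torsion module `C`. -/
theorem isZero_tor_one_of_torsion (h : EtGlue.IsGlueingPair R R' f)
    (C : Type u) [AddCommGroup C] [Module R C] (hC : ∀ x : C, ∃ n : ℕ, f ^ n • x = 0) :
    IsZero (((Tor (ModuleCat.{u} R) 1).obj (ModuleCat.of R C)).obj (ModuleCat.of R R')) := by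
  refine Groth.Agent.Helper6.FGColim.isZero_of_forall_fg
    ((Tor (ModuleCat.{u} R) 1).flip.obj (ModuleCat.of R R'))
    (fun J _ _ => Groth.Agent.Helper6.TorNat.preserves_flip J (ModuleCat.of R R') 1) C ?_
  intro S hS
  haveI : Module.Finite R S := Module.Finite.iff_fg.2 hS
  obtain ⟨k, s, hs⟩ := Module.Finite.exists_fin (R := R) (M := S)
  choose m hm using fun i => hC (s i).1
  let n := Finset.univ.sup m
  have hn : ∀ y : S, f ^ n • y = 0 := by
    intro y
    have hy : y ∈ Submodule.span R (Set.range s) := hs ▸ Submodule.mem_top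
    induction hy using Submodule.span_induction with
    | mem x hx =>
      obtain ⟨i, rfl⟩ := hx
      have hle : m i ≤ n := Finset.le_sup (Finset.mem_univ i)
      apply Subtype.ext
      show f ^ n • (s i).1 = 0
      rw [← Nat.sub_add_cancel hle, pow_add, mul_smul, hm i, smul_zero]
    | zero => exact smul_zero _
    | add x y _ _ hx hy => rw [smul_add, hx, hy, add_zero]
    | smul a x _ hx => rw [smul_comm, hx, smul_zero]
  exact isZero_tor_one_of_fin h n k S s hs hn

/-- the symmetric form, as a subsingleton statement. -/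
theorem subsingleton_tor_one_of_torsion (h : EtGlue.IsGlueingPair R R' f)
    (C : Type u) [AddCommGroup C] [Module R C] (hC : ∀ x : C, ∃ n : ℕ, f ^ n • x = 0) :
    Subsingleton (((Tor (ModuleCat.{u} R) 1).obj (ModuleCat.of R R')).obj (ModuleCat.of R C)) :=
  ModuleCat.subsingleton_of_isZero
    (Groth.Agent.Helper21.TS.isZero_tor_comm (isZero_tor_one_of_torsion h C hC))

end devissage

end Groth.Agent.Helper6.EtGlueTor
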