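import Mathlib
import Groth.Prelude.Def_Fitting
import Groth.Agent.Lib.Helper10.FittingE
import Groth.Agent.S6895

set_option autoImplicit false
universe u v

/-!
# Fitting ideals: semilinear invariance, and flatness when all Fitting ideals are `⊥` or `⊤`
-/

namespace Groth.Agent.Lib.Helper6.FittSemi

open Groth.Agent.Lib.Helper10.Fitting

section Semi

variable {R : Type*} [CommRing R] {N : Type*} [AddCommGroup N] [Module R N]

/-- A surjective additive map `θ` with `θ (r • z) = σ r • θ z` maps Fitting ideals into Fitting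
ideals. -/
theorem fitt_map_le_of_semilinear (σ : R →+* R) (θ : N →+ N) (hsurj : Function.Surjective θ)
    (hθ : ∀ (r : R) (z : N), θ (r • z) = σ r • θ z) (k : ℕ) :
    (Fitt.ideal R N k).map σ ≤ Fitt.ideal R N k := by
  rw [Ideal.map_le_iff_le_comap]
  refine Ideal.span_le.2 ?_
  rintro d ⟨n, x, a, hx, hrel, rfl⟩
  rw [SetLike.mem_coe, Ideal.mem_comap, RingHom.map_det]
  refine Ideal.subset_span ⟨n, θ ∘ x, σ.mapMatrix a, ?_, ?_, rfl⟩
  · rw [eq_top_iff]
    intro z _
    obtain ⟨w, rfl⟩ := hsurj z
    have hw : w ∈ Submodule.span R (Set.range x) := by rw [hx]; trivial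
    obtain ⟨c, rfl⟩ := (Submodule.mem_span_range_iff_exists_fun R).1 hw
    rw [map_sum]
    refine Submodule.sum_mem _ fun i _ => ?_
    rw [hθ]
    exact Submodule.smul_mem _ _ (Submodule.subset_span ⟨i, rfl⟩)
  · intro i hi
    have h1 := congrArg θ (hrel i hi)
    rw [map_sum, map_zero] at h1
    rw [← h1]
    refine Finset.sum_congr rfl fun j _ => ?_
    rw [hθ]
    rfl

end Semi

section BaseChange

variable {K : Type*} [CommRing K] {R : Type*} [CommRing R] [Algebra K R]
  {Q : Type*} [AddCommGroup Q] [Module K Q] [Module.Finite K Q]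
  {N : Type*} [AddCommGroup N] [Module K N] [Module R N] [IsScalarTower K R N]

theorem map_fitt_stable (f : Q →ₗ[K] N) (hf : IsBaseChange R f) (σ : R →+* R) (θ : N →+ N)
    (hsurj : Function.Surjective θ) (hθ : ∀ (r : R) (z : N), θ (r • z) = σ r • θ z) (k : ℕ) :
    ((Fitt.ideal K Q k).map (algebraMap K R)).map σ ≤ (Fitt.ideal K Q k).map (algebraMap K R) := by
  rw [← fitt_isBaseChange R f hf k]
  exact fitt_map_le_of_semilinear σ θ hsurj hθ k

end BaseChange

section Flat

variable {R : Type u} [CommRing R] {M : Type v} [AddCommGroup M] [Module R M]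

theorem fitt_mono (k : ℕ) : Fitt.ideal R M k ≤ Fitt.ideal R M (k + 1) := by
  refine Ideal.span_le.2 ?_
  rintro d ⟨n, x, a, hx, hrel, rfl⟩
  exact Ideal.subset_span ⟨n, x, a, hx, fun i hi => hrel i (by omega), rfl⟩

theorem fitt_mono' {k l : ℕ} (h : k ≤ l) : Fitt.ideal R M k ≤ Fitt.ideal R M l := by
  induction l, h using Nat.le_induction with
  | base => exact le_rfl
  | succ l _ ih => exact ih.trans (fitt_mono l)

/-- A finite module all of whose Fitting ideals are `⊥` or `⊤` is flat (it is locally free of
constant rank). -/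
theorem flat_of_fitt_dichotomy [Module.Finite R M]
    (h : ∀ k, Fitt.ideal R M k = ⊥ ∨ Fitt.ideal R M k = ⊤) : Module.Flat R M := by
  classical
  obtain ⟨n, x, hx⟩ := Module.Finite.exists_fin (R := R) (M := M)
  have hex : ∃ k, Fitt.ideal R M k = ⊤ := ⟨n, fitt_eq_top_of_span x hx n le_rfl⟩
  let r := Nat.find hex
  have hr : Fitt.ideal R M r = ⊤ := Nat.find_spec hex
  have hlt : ∀ k, k < r → Fitt.ideal R M k = ⊥ := by
    intro k hk
    rcases h k with h0 | h1
    · exact h0
    · exact absurd h1 (Nat.find_min hex hk)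
  have hge : ∀ k, r ≤ k → Fitt.ideal R M k = ⊤ := by
    intro k hk
    rw [eq_top_iff, ← hr]
    exact fitt_mono' hk
  have hloc := Groth.Agent.S6895.backward (R := R) (M := M) r ⟨hlt, hge⟩
  -- flatness is local on a cover by basic opens
  let s : Set R := {f | Module.Free (Localization.Away f)
    (LocalizedModule (Submonoid.powers f) M)}
  have hs : Ideal.span s = ⊤ := by
    by_contra hne
    obtain ⟨p, hp, hsp⟩ := Ideal.exists_le_maximal _ hne
    have := hp.isPrime
    obtain ⟨f, hf, hfree, _⟩ := hloc p
    exact hf (hsp (Ideal.subset_span hfree))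
  refine Module.flat_of_localized_span R M s hs ?_
  intro f
  have : Module.Free (Localization.Away f.1) (LocalizedModule (Submonoid.powers f.1) M) := f.2
  have : Module.Flat R (Localization.Away f.1) := IsLocalization.flat _ (Submonoid.powers f.1)
  exact Module.Flat.trans R (Localization.Away f.1) _

end Flat

end Groth.Agent.Lib.Helper6.FittSemi
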