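import Mathlib

set_option autoImplicit false
universe u v w

/-!
# `Q ⊗[k] H` as a module over `K ⊗[k] H`

For a `K`-module `Q` (with compatible `k`-structure) the tensor product `Q ⊗[k] H` is a module over
`K ⊗[k] H` by `(a ⊗ h) • (q ⊗ h') = (a • q) ⊗ (h * h')`, and `q ↦ q ⊗ 1` exhibits it as the base
change of `Q` along `K → K ⊗[k] H`.
-/

namespace Groth.Agent.Lib.Helper6.HopfNQ

open TensorProduct

variable (k : Type u) [CommRing k] (K : Type v) [CommRing K] [Algebra k K]
  (H : Type v) [CommRing H] [Algebra k H]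
  (Q : Type w) [AddCommGroup Q] [Module k Q] [Module K Q] [IsScalarTower k K Q]

/-- The action of `K ⊗ H` on `Q ⊗ H`. -/
noncomputable def actHom : K ⊗[k] H →ₐ[k] Module.End k (Q ⊗[k] H) :=
  Algebra.TensorProduct.lift
    ((Module.End.rTensorAlgHom k Q H).comp (Algebra.lsmul k k Q : K →ₐ[k] Module.End k Q))
    ((Module.End.lTensorAlgHom k H Q).comp (Algebra.lsmul k k H : H →ₐ[k] Module.End k H))
    (fun a h => by
      rw [commute_iff_eq]
      show LinearMap.rTensor H (Algebra.lsmul k k Q a) * LinearMap.lTensor Q (Algebra.lsmul k k H h) =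
        LinearMap.lTensor Q (Algebra.lsmul k k H h) * LinearMap.rTensor H (Algebra.lsmul k k Q a)
      apply TensorProduct.ext'
      intro q h'
      simp only [Module.End.mul_apply, LinearMap.rTensor_tmul, LinearMap.lTensor_tmul])

theorem actHom_tmul_tmul (a : K) (h : H) (q : Q) (h' : H) :
    actHom k K H Q (a ⊗ₜ h) (q ⊗ₜ h') = (a • q) ⊗ₜ (h * h') := by
  unfold actHom
  rw [Algebra.TensorProduct.lift_tmul]
  show LinearMap.rTensor H (Algebra.lsmul k k Q a)
    (LinearMap.lTensor Q (Algebra.lsmul k k H h) (q ⊗ₜ h')) = _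
  rw [LinearMap.lTensor_tmul, LinearMap.rTensor_tmul]
  rfl

/-- The `K ⊗ H`-module structure on `Q ⊗ H`. -/
@[reducible] noncomputable def nqModule : Module (K ⊗[k] H) (Q ⊗[k] H) :=
  Module.compHom _ (actHom k K H Q).toRingHom

noncomputable scoped instance : Module (K ⊗[k] H) (Q ⊗[k] H) := nqModule k K H Q

theorem smul_def (r : K ⊗[k] H) (z : Q ⊗[k] H) : r • z = actHom k K H Q r z := rfl

theorem tmul_smul_tmul (a : K) (h : H) (q : Q) (h' : H) :
    (a ⊗ₜ[k] h) • (q ⊗ₜ[k] h') = (a • q) ⊗ₜ[k] (h * h') :=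
  actHom_tmul_tmul k K H Q a h q h'

instance : IsScalarTower K (K ⊗[k] H) (Q ⊗[k] H) := by
  apply IsScalarTower.of_algebraMap_smul
  intro a z
  rw [Algebra.TensorProduct.algebraMap_apply, Algebra.algebraMap_self, RingHom.id_apply]
  induction z using TensorProduct.induction_on with
  | zero => simp
  | tmul q h => rw [tmul_smul_tmul, one_mul, TensorProduct.smul_tmul']
  | add x y hx hy => rw [smul_add, smul_add, hx, hy]

instance : IsScalarTower k (K ⊗[k] H) (Q ⊗[k] H) :=
  ⟨fun c r z => by rw [smul_def, smul_def, map_smul, LinearMap.smul_apply]⟩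

variable {Q} in
/-- Functoriality: a `K`-linear map induces a `K ⊗ H`-linear map. -/
noncomputable def mapN {Q' : Type w} [AddCommGroup Q'] [Module k Q'] [Module K Q']
    [IsScalarTower k K Q'] (g : Q →ₗ[K] Q') : Q ⊗[k] H →ₗ[K ⊗[k] H] Q' ⊗[k] H where
  toFun := TensorProduct.map (g.restrictScalars k) LinearMap.id
  map_add' := map_add _
  map_smul' := by
    intro r z
    simp only [RingHom.id_apply]
    induction r using TensorProduct.induction_on with
    | zero => simp
    | tmul a h =>
      induction z using TensorProduct.induction_on with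
      | zero => simp
      | tmul q h' =>
        rw [tmul_smul_tmul, TensorProduct.map_tmul, TensorProduct.map_tmul, tmul_smul_tmul]
        simp
      | add x y hx hy => rw [smul_add, map_add, hx, hy, map_add, smul_add]
    | add r s hr hs => rw [add_smul, map_add, hr, hs, add_smul]

variable {Q} in
theorem mapN_apply {Q' : Type w} [AddCommGroup Q'] [Module k Q'] [Module K Q']
    [IsScalarTower k K Q'] (g : Q →ₗ[K] Q') (z : Q ⊗[k] H) :
    mapN k K H g z = TensorProduct.map (g.restrictScalars k) LinearMap.id z := rfl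

/-- `q ↦ q ⊗ 1`. -/
noncomputable def fQ : Q →ₗ[K] Q ⊗[k] H :=
  (TensorProduct.AlgebraTensorModule.mk k K Q H).flip 1

theorem fQ_apply (q : Q) : fQ k K H Q q = q ⊗ₜ 1 := rfl

/-- The comparison `(K ⊗ H) ⊗[K] Q ≃ Q ⊗ H`. -/
noncomputable def e₀ : (K ⊗[k] H) ⊗[K] Q ≃ₗ[K] Q ⊗[k] H :=
  (TensorProduct.comm K (K ⊗[k] H) Q).trans
    (TensorProduct.AlgebraTensorModule.cancelBaseChange k K K Q H)

theorem e₀_tmul (a : K) (h : H) (q : Q) :
    e₀ k K H Q ((a ⊗ₜ[k] h) ⊗ₜ[K] q) = (a • q) ⊗ₜ[k] h := by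
  simp [e₀]

theorem isBaseChange : IsBaseChange (K ⊗[k] H) (fQ k K H Q) := by
  unfold IsBaseChange IsTensorProduct
  have h : (TensorProduct.lift (((Algebra.linearMap (K ⊗[k] H)
      (Module.End (K ⊗[k] H) (Q →ₗ[K] Q ⊗[k] H))).flip (fQ k K H Q)).restrictScalars K)) =
      (e₀ k K H Q).toLinearMap := by
    apply TensorProduct.ext'
    intro r q
    induction r using TensorProduct.induction_on with
    | zero => simp
    | tmul a h =>
      rw [LinearEquiv.coe_coe, e₀_tmul]
      simp [fQ_apply, tmul_smul_tmul]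
    | add r s hr hs =>
      rw [TensorProduct.add_tmul, map_add, hr, hs, map_add]
  rw [h]
  exact (e₀ k K H Q).bijective

end Groth.Agent.Lib.Helper6.HopfNQ
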