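import Mathlib

set_option autoImplicit false
universe u v

/-!
# The shear automorphism of `H ⊗ H` for a commutative Hopf algebra `H`

`shear (x ⊗ h) = Δ(x) * (1 ⊗ h)`, with inverse `shearInv (x ⊗ h) = (id ⊗ S)(Δ x) * (1 ⊗ h)`.
-/

namespace Groth.Agent.Lib.Helper6.HopfShear

open TensorProduct Coalgebra

variable (k : Type u) [CommRing k] (H : Type v) [CommRing H] [HopfAlgebra k H]

/-- `x ↦ (id ⊗ S)(Δ x)` as an algebra map. -/
noncomputable def comulS : H →ₐ[k] H ⊗[k] H :=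
  (Algebra.TensorProduct.map (AlgHom.id k H) (HopfAlgebra.antipodeAlgHom k H)).comp
    (Bialgebra.comulAlgHom k H)

/-- The shear map `x ⊗ h ↦ Δ(x) (1 ⊗ h)`. -/
noncomputable def shearHom : H ⊗[k] H →ₐ[k] H ⊗[k] H :=
  Algebra.TensorProduct.lift (Bialgebra.comulAlgHom k H) Algebra.TensorProduct.includeRight
    (fun _ _ => Commute.all _ _)

/-- The inverse shear map `x ⊗ h ↦ (id ⊗ S)(Δ x) (1 ⊗ h)`. -/
noncomputable def shearInvHom : H ⊗[k] H →ₐ[k] H ⊗[k] H :=
  Algebra.TensorProduct.lift (comulS k H) Algebra.TensorProduct.includeRight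
    (fun _ _ => Commute.all _ _)

theorem shearHom_tmul (x h : H) :
    shearHom k H (x ⊗ₜ h) = CoalgebraStruct.comul (R := k) x * (1 ⊗ₜ h) := by
  simp [shearHom]

theorem shearInvHom_tmul (x h : H) :
    shearInvHom k H (x ⊗ₜ h) = comulS k H x * (1 ⊗ₜ h) := by
  simp [shearInvHom]

theorem comulS_apply (x : H) :
    comulS k H x = TensorProduct.map LinearMap.id (HopfAlgebra.antipode k)
      (CoalgebraStruct.comul (R := k) x) := by
  simp only [comulS, AlgHom.comp_apply, Bialgebra.comulAlgHom_apply]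
  generalize CoalgebraStruct.comul (R := k) x = y
  induction y using TensorProduct.induction_on with
  | zero => simp
  | tmul a b => simp
  | add a b ha hb => simp only [map_add, ha, hb]

/-- `Σ x₁ ⊗ S(x₂) x₃ = x ⊗ 1`. -/
theorem shearInvHom_comul (a : H) :
    shearInvHom k H (CoalgebraStruct.comul (R := k) a) = a ⊗ₜ 1 := by
  let 𝓡 := Repr.arbitrary k a
  let a₁ := fun i => Repr.arbitrary k (𝓡.left i)
  let a₂ := fun i => Repr.arbitrary k (𝓡.right i)
  have hco := sum_tmul_tmul_eq 𝓡 a₁ a₂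
  let F : H ⊗[k] (H ⊗[k] H) →ₗ[k] H ⊗[k] H :=
    TensorProduct.map LinearMap.id
      ((LinearMap.mul' k H).comp (TensorProduct.map (HopfAlgebra.antipode k) LinearMap.id))
  have hF := congrArg F hco
  simp only [map_sum, F, TensorProduct.map_tmul, LinearMap.id_apply, LinearMap.comp_apply,
    LinearMap.mul'_apply] at hF
  rw [← 𝓡.eq, map_sum]
  have h1 : ∀ i ∈ 𝓡.index, shearInvHom k H (𝓡.left i ⊗ₜ 𝓡.right i) =
      ∑ j ∈ (a₁ i).index, (a₁ i).left j ⊗ₜ[k]
        (HopfAlgebra.antipode k ((a₁ i).right j) * 𝓡.right i) := by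
    intro i _
    rw [shearInvHom_tmul, comulS_apply, ← (a₁ i).eq, map_sum, Finset.sum_mul]
    refine Finset.sum_congr rfl fun j _ => ?_
    rw [TensorProduct.map_tmul, Algebra.TensorProduct.tmul_mul_tmul, LinearMap.id_apply, mul_one]
  rw [Finset.sum_congr rfl h1, hF]
  have h2 : ∀ i ∈ 𝓡.index, ∑ j ∈ (a₂ i).index, 𝓡.left i ⊗ₜ[k]
      (HopfAlgebra.antipode k ((a₂ i).left j) * (a₂ i).right j) =
      𝓡.left i ⊗ₜ[k] (algebraMap k H (counit (𝓡.right i))) := by
    intro i _
    rw [← TensorProduct.tmul_sum, HopfAlgebra.sum_antipode_mul_eq_algebraMap_counit]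
  rw [Finset.sum_congr rfl h2]
  have h3 := sum_tmul_counit_eq 𝓡
  have h4 := congrArg (TensorProduct.map (LinearMap.id : H →ₗ[k] H) (Algebra.linearMap k H)) h3
  simp only [map_sum, TensorProduct.map_tmul, LinearMap.id_apply, Algebra.linearMap_apply,
    map_one] at h4
  exact h4

/-- `Σ x₁ ⊗ x₂ S(x₃) = x ⊗ 1`. -/
theorem shearHom_comulS (a : H) :
    shearHom k H (comulS k H a) = a ⊗ₜ 1 := by
  let 𝓡 := Repr.arbitrary k a
  let a₁ := fun i => Repr.arbitrary k (𝓡.left i)
  let a₂ := fun i => Repr.arbitrary k (𝓡.right i)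
  have hco := sum_tmul_tmul_eq 𝓡 a₁ a₂
  let F : H ⊗[k] (H ⊗[k] H) →ₗ[k] H ⊗[k] H :=
    TensorProduct.map LinearMap.id
      ((LinearMap.mul' k H).comp (TensorProduct.map LinearMap.id (HopfAlgebra.antipode k)))
  have hF := congrArg F hco
  simp only [map_sum, F, TensorProduct.map_tmul, LinearMap.id_apply, LinearMap.comp_apply,
    LinearMap.mul'_apply] at hF
  rw [comulS_apply, ← 𝓡.eq, map_sum, map_sum]
  have h1 : ∀ i ∈ 𝓡.index, shearHom k H (TensorProduct.map LinearMap.id (HopfAlgebra.antipode k)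
      (𝓡.left i ⊗ₜ 𝓡.right i)) =
      ∑ j ∈ (a₁ i).index, (a₁ i).left j ⊗ₜ[k]
        ((a₁ i).right j * HopfAlgebra.antipode k (𝓡.right i)) := by
    intro i _
    rw [TensorProduct.map_tmul, LinearMap.id_apply, shearHom_tmul, ← (a₁ i).eq, Finset.sum_mul]
    refine Finset.sum_congr rfl fun j _ => ?_
    rw [Algebra.TensorProduct.tmul_mul_tmul, mul_one]
  rw [Finset.sum_congr rfl h1, hF]
  have h2 : ∀ i ∈ 𝓡.index, ∑ j ∈ (a₂ i).index, 𝓡.left i ⊗ₜ[k]
      ((a₂ i).left j * HopfAlgebra.antipode k ((a₂ i).right j)) =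
      𝓡.left i ⊗ₜ[k] (algebraMap k H (counit (𝓡.right i))) := by
    intro i _
    rw [← TensorProduct.tmul_sum, HopfAlgebra.sum_mul_antipode_eq_algebraMap_counit]
  rw [Finset.sum_congr rfl h2]
  have h3 := sum_tmul_counit_eq 𝓡
  have h4 := congrArg (TensorProduct.map (LinearMap.id : H →ₗ[k] H) (Algebra.linearMap k H)) h3
  simp only [map_sum, TensorProduct.map_tmul, LinearMap.id_apply, Algebra.linearMap_apply,
    map_one] at h4
  exact h4

theorem shearInvHom_comp_shearHom :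
    (shearInvHom k H).comp (shearHom k H) = AlgHom.id k _ := by
  apply Algebra.TensorProduct.ext'
  intro x h
  rw [AlgHom.comp_apply, shearHom_tmul, map_mul, shearInvHom_comul, shearInvHom_tmul, map_one,
    one_mul, Algebra.TensorProduct.tmul_mul_tmul, mul_one, one_mul]
  rfl

theorem shearHom_comp_shearInvHom :
    (shearHom k H).comp (shearInvHom k H) = AlgHom.id k _ := by
  apply Algebra.TensorProduct.ext'
  intro x h
  rw [AlgHom.comp_apply, shearInvHom_tmul, map_mul, shearHom_comulS, shearHom_tmul,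
    Bialgebra.comul_one, one_mul, Algebra.TensorProduct.tmul_mul_tmul, mul_one, one_mul]
  rfl

/-- The shear automorphism of `H ⊗ H`. -/
noncomputable def shear : (H ⊗[k] H) ≃ₐ[k] (H ⊗[k] H) :=
  AlgEquiv.ofAlgHom (shearHom k H) (shearInvHom k H) (shearHom_comp_shearInvHom k H)
    (shearInvHom_comp_shearHom k H)

theorem shear_tmul (x h : H) :
    shear k H (x ⊗ₜ h) = CoalgebraStruct.comul (R := k) x * (1 ⊗ₜ h) := shearHom_tmul k H x h

theorem shear_symm_tmul (x h : H) :
    (shear k H).symm (x ⊗ₜ h) = comulS k H x * (1 ⊗ₜ h) := shearInvHom_tmul k H x h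

end Groth.Agent.Lib.Helper6.HopfShear
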