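import Mathlib
import Groth.Agent.Lib.Helper6.HopfShear
import Groth.Agent.Lib.Helper6.HopfNQ
import Groth.Agent.Lib.Helper6.FittSemi

set_option autoImplicit false
universe u v

/-!
# Hopf subalgebras: the shear map on `B ⊗ H`, and costable ideals
-/

namespace Groth.Agent.Lib.Helper6.HopfSub

open TensorProduct Groth.Agent.Lib.Helper6.HopfShear Groth.Agent.Lib.Helper6.HopfNQ

variable (k : Type u) [Field k] (H : Type v) [CommRing H] [HopfAlgebra k H] (B : Subalgebra k H)

/-- `B ⊗ H → H ⊗ H`. -/
noncomputable def jHom : B ⊗[k] H →ₐ[k] H ⊗[k] H :=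
  Algebra.TensorProduct.map B.val (AlgHom.id k H)

theorem jHom_tmul (a : B) (h : H) : jHom k H B (a ⊗ₜ h) = (a : H) ⊗ₜ h := by
  simp [jHom]

theorem jHom_eq_rTensor (r : B ⊗[k] H) :
    jHom k H B r = LinearMap.rTensor H B.val.toLinearMap r := by
  induction r using TensorProduct.induction_on with
  | zero => simp
  | tmul a h => rw [jHom_tmul]; rfl
  | add x y hx hy => rw [map_add, map_add, hx, hy]

theorem jHom_injective : Function.Injective (jHom k H B) := by
  have h : Function.Injective (LinearMap.rTensor H B.val.toLinearMap) :=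
    Module.Flat.rTensor_preserves_injective_linearMap _ Subtype.val_injective
  intro x y hxy
  apply h
  rw [← jHom_eq_rTensor, ← jHom_eq_rTensor, hxy]

/-- The comultiplication maps `B` into `B ⊗ B`, and the antipode preserves `B`. -/
structure IsHopfSub : Prop where
  comul_mem : ∀ b ∈ B, CoalgebraStruct.comul (R := k) (A := H) b ∈
      LinearMap.range (TensorProduct.map B.val.toLinearMap B.val.toLinearMap)
  antipode_mem : ∀ b ∈ B, HopfAlgebraStruct.antipode k (A := H) b ∈ B

variable {k H B}

theorem map_val_val_eq (y : B ⊗[k] B) :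
    TensorProduct.map B.val.toLinearMap B.val.toLinearMap y =
      jHom k H B (LinearMap.lTensor B B.val.toLinearMap y) := by
  induction y using TensorProduct.induction_on with
  | zero => simp
  | tmul a b => rw [LinearMap.lTensor_tmul, jHom_tmul]; rfl
  | add x y hx hy => rw [map_add, map_add, map_add, hx, hy]

theorem IsHopfSub.exists_comul (hB : IsHopfSub k H B) (b : B) :
    ∃ y : B ⊗[k] B, jHom k H B (LinearMap.lTensor B B.val.toLinearMap y) =
      CoalgebraStruct.comul (R := k) (A := H) (b : H) := by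
  obtain ⟨y, hy⟩ := hB.comul_mem b b.2
  exact ⟨y, by rw [← map_val_val_eq, hy]⟩

theorem shear_jHom_mem (hB : IsHopfSub k H B) (r : B ⊗[k] H) :
    shear k H (jHom k H B r) ∈ (jHom k H B).range := by
  induction r using TensorProduct.induction_on with
  | zero => simp
  | tmul a h =>
    rw [jHom_tmul, shear_tmul]
    obtain ⟨y, hy⟩ := hB.exists_comul a
    rw [← hy]
    refine Subalgebra.mul_mem _ ⟨_, rfl⟩ ⟨(1 : B) ⊗ₜ h, ?_⟩
    show jHom k H B (1 ⊗ₜ h) = _
    rw [jHom_tmul]
    rfl
  | add x y hx hy => rw [map_add, map_add]; exact Subalgebra.add_mem _ hx hy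

/-- The shear endomorphism of `B ⊗ H`. -/
noncomputable def sigma (hB : IsHopfSub k H B) : B ⊗[k] H →ₐ[k] B ⊗[k] H :=
  ((AlgEquiv.ofInjective (jHom k H B) (jHom_injective k H B)).symm : _ →ₐ[k] _).comp
    (((shearHom k H).comp (jHom k H B)).codRestrict (jHom k H B).range
      (fun r => shear_jHom_mem hB r))

theorem jHom_sigma (hB : IsHopfSub k H B) (r : B ⊗[k] H) :
    jHom k H B (sigma hB r) = shear k H (jHom k H B r) := by
  unfold sigma
  set e := AlgEquiv.ofInjective (jHom k H B) (jHom_injective k H B)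
  set w := (((shearHom k H).comp (jHom k H B)).codRestrict (jHom k H B).range
      (fun r => shear_jHom_mem hB r)) r with hw
  have h1 : (e (e.symm w) : H ⊗[k] H) = jHom k H B (e.symm w) :=
    AlgEquiv.ofInjective_apply _ _ _
  rw [AlgEquiv.apply_symm_apply] at h1
  show jHom k H B (e.symm w) = _
  rw [← h1, hw]
  rfl

section Costable

variable (k H) in
/-- `u ⊗ h ↦ ε(u) h`. -/
noncomputable def gammaHom : H ⊗[k] H →ₐ[k] H :=
  Algebra.TensorProduct.lift ((Algebra.ofId k H).comp (Bialgebra.counitAlgHom k H)) (AlgHom.id k H)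
    (fun _ _ => Commute.all _ _)

theorem gammaHom_tmul (u h : H) :
    gammaHom k H (u ⊗ₜ h) = algebraMap k H (Coalgebra.counit u) * h := by
  simp [gammaHom, Algebra.ofId_apply]

theorem gammaHom_comul (x : H) : gammaHom k H (CoalgebraStruct.comul (R := k) x) = x := by
  have h : ∀ z : H ⊗[k] H, gammaHom k H z =
      TensorProduct.lid k H (LinearMap.rTensor H Coalgebra.counit z) := by
    intro z
    induction z using TensorProduct.induction_on with
    | zero => simp
    | tmul u h =>
      rw [gammaHom_tmul, LinearMap.rTensor_tmul, TensorProduct.lid_tmul, Algebra.smul_def]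
    | add x y hx hy => rw [map_add, map_add, map_add, hx, hy]
  rw [h, Coalgebra.rTensor_counit_comul, TensorProduct.lid_tmul, one_smul]

theorem sigma_algebraMap (hB : IsHopfSub k H B) (x : B) :
    jHom k H B (sigma hB (algebraMap B (B ⊗[k] H) x)) =
      CoalgebraStruct.comul (R := k) (A := H) (x : H) := by
  rw [jHom_sigma, Algebra.TensorProduct.algebraMap_apply, Algebra.algebraMap_self, RingHom.id_apply,
    jHom_tmul, shear_tmul]
  show _ * (1 : H ⊗[k] H) = _
  rw [mul_one]

theorem eq_bot_of_counit_eq_zero (hB : IsHopfSub k H B) (I : Ideal B)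
    (hI : (I.map (algebraMap B (B ⊗[k] H))).map (sigma hB).toRingHom ≤
      I.map (algebraMap B (B ⊗[k] H)))
    (hε : ∀ a ∈ I, Coalgebra.counit (R := k) (A := H) (a : H) = 0) : I = ⊥ := by
  rw [eq_bot_iff]
  intro x hx
  rw [Ideal.mem_bot]
  have hy : sigma hB (algebraMap B (B ⊗[k] H) x) ∈ I.map (algebraMap B (B ⊗[k] H)) :=
    hI (Ideal.mem_map_of_mem _ (Ideal.mem_map_of_mem _ hx))
  let Γ : B ⊗[k] H →ₐ[k] H := (gammaHom k H).comp (jHom k H B)
  have hle : I.map (algebraMap B (B ⊗[k] H)) ≤ RingHom.ker Γ.toRingHom := by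
    rw [Ideal.map_le_iff_le_comap]
    intro a ha
    rw [Ideal.mem_comap, RingHom.mem_ker]
    show gammaHom k H (jHom k H B (algebraMap B (B ⊗[k] H) a)) = 0
    rw [Algebra.TensorProduct.algebraMap_apply, Algebra.algebraMap_self, RingHom.id_apply,
      jHom_tmul, gammaHom_tmul, hε a ha, map_zero, zero_mul]
  have h0 : Γ (sigma hB (algebraMap B (B ⊗[k] H) x)) = 0 := hle hy
  have h1 : Γ (sigma hB (algebraMap B (B ⊗[k] H) x)) = (x : H) := by
    show gammaHom k H (jHom k H B _) = _
    rw [sigma_algebraMap, gammaHom_comul]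
  rw [h1] at h0
  exact Subtype.ext h0

theorem counit_smul_one_mem (hB : IsHopfSub k H B) (I : Ideal B)
    (hI : (I.map (algebraMap B (B ⊗[k] H))).map (sigma hB).toRingHom ≤
      I.map (algebraMap B (B ⊗[k] H)))
    (x : B) (hx : x ∈ I) :
    (Coalgebra.counit (R := k) (A := H) (x : H)) • (1 : B) ∈ I := by
  have hy : sigma hB (algebraMap B (B ⊗[k] H) x) ∈ I.map (algebraMap B (B ⊗[k] H)) :=
    hI (Ideal.mem_map_of_mem _ (Ideal.mem_map_of_mem _ hx))
  obtain ⟨π, hπ⟩ := LinearMap.exists_leftInverse_of_injective B.val.toLinearMap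
    (LinearMap.ker_eq_bot.2 Subtype.val_injective)
  have hπ' : ∀ b : B, π (b : H) = b := fun b => LinearMap.congr_fun hπ b
  let Sπ : H →ₗ[k] B := π ∘ₗ HopfAlgebraStruct.antipode k
  let β : B ⊗[k] H →ₗ[B] B := (Algebra.TensorProduct.lmul'' k (S := B)).toLinearMap ∘ₗ
    TensorProduct.AlgebraTensorModule.map (LinearMap.id : B →ₗ[B] B) Sπ
  have hβ : ∀ (a : B) (h : H), β (a ⊗ₜ h) = a * Sπ h := fun a h => rfl
  -- β maps `I R` into `I`
  have hβI : ∀ z ∈ I.map (algebraMap B (B ⊗[k] H)), β z ∈ I := by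
    intro z hz
    have hz' : z ∈ (I • ⊤ : Submodule B (B ⊗[k] H)) := by
      rw [Ideal.smul_top_eq_map]
      exact hz
    refine Submodule.smul_induction_on hz' ?_ ?_
    · intro a ha r _
      rw [map_smul, smul_eq_mul]
      exact I.mul_mem_right _ ha
    · intro u v hu hv
      rw [map_add]
      exact I.add_mem hu hv
  have hmem := hβI _ hy
  -- compute β y
  obtain ⟨y', hy'⟩ := hB.exists_comul x
  have hyy : sigma hB (algebraMap B (B ⊗[k] H) x) = LinearMap.lTensor B B.val.toLinearMap y' := by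
    apply jHom_injective k H B
    rw [sigma_algebraMap, hy']
  have hval : ∀ y' : B ⊗[k] B, ((β (LinearMap.lTensor B B.val.toLinearMap y') : B) : H) =
      LinearMap.mul' k H (LinearMap.lTensor H (HopfAlgebraStruct.antipode k)
        (TensorProduct.map B.val.toLinearMap B.val.toLinearMap y')) := by
    intro y'
    induction y' using TensorProduct.induction_on with
    | zero => simp
    | tmul a b =>
      rw [LinearMap.lTensor_tmul, hβ, TensorProduct.map_tmul, LinearMap.lTensor_tmul,
        LinearMap.mul'_apply]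
      have hSb : Sπ (B.val.toLinearMap b) = ⟨HopfAlgebraStruct.antipode k (b : H),
          hB.antipode_mem b b.2⟩ := hπ' ⟨_, hB.antipode_mem b b.2⟩
      rw [hSb]
      rfl
    | add u v hu hv =>
      rw [map_add, map_add, map_add, map_add, map_add, Subalgebra.coe_add, hu, hv]
  have h2 : ((β (sigma hB (algebraMap B (B ⊗[k] H) x)) : B) : H) =
      algebraMap k H (Coalgebra.counit (R := k) (A := H) (x : H)) := by
    rw [hyy, hval, map_val_val_eq, hy']
    exact HopfAlgebra.mul_antipode_lTensor_comul_apply (R := k) (x : H)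
  have h3 : β (sigma hB (algebraMap B (B ⊗[k] H) x)) =
      (Coalgebra.counit (R := k) (A := H) (x : H)) • (1 : B) := by
    apply Subtype.ext
    rw [h2, Algebra.algebraMap_eq_smul_one]
    rfl
  rw [← h3]
  exact hmem

theorem eq_bot_or_eq_top (hB : IsHopfSub k H B) (I : Ideal B)
    (hI : (I.map (algebraMap B (B ⊗[k] H))).map (sigma hB).toRingHom ≤
      I.map (algebraMap B (B ⊗[k] H))) : I = ⊥ ∨ I = ⊤ := by
  by_cases hε : ∀ a ∈ I, Coalgebra.counit (R := k) (A := H) (a : H) = 0
  · exact Or.inl (eq_bot_of_counit_eq_zero hB I hI hε)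
  · right
    rw [not_forall] at hε
    obtain ⟨x, hx'⟩ := hε
    rw [Classical.not_imp] at hx'
    obtain ⟨hx, hne⟩ := hx'
    have h1 := counit_smul_one_mem hB I hI x hx
    rw [Ideal.eq_top_iff_one]
    have h2 := I.smul_mem ((Coalgebra.counit (R := k) (A := H) (x : H))⁻¹ • (1 : B)) h1
    rw [smul_eq_mul, Algebra.smul_mul_assoc, one_mul, smul_smul, inv_mul_cancel₀ hne, one_smul] at h2
    exact h2

end Costable

end Groth.Agent.Lib.Helper6.HopfSub
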