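import Mathlib
import Groth.Agent.Lib.Helper6.HopfSub

set_option autoImplicit false
universe u v

/-!
# Relative Hopf modules inside `H`: shear maps on sub-quotients, and flatness
-/

namespace Groth.Agent.Lib.Helper6.HopfMod

open TensorProduct Groth.Agent.Lib.Helper6.HopfShear Groth.Agent.Lib.Helper6.HopfNQ
  Groth.Agent.Lib.Helper6.HopfSub
open scoped Groth.Agent.Lib.Helper6.HopfNQ

variable {k : Type u} [Field k] {H : Type v} [CommRing H] [HopfAlgebra k H] {B : Subalgebra k H}

section Iota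

variable (M : Submodule B H)

/-- `M ⊗ H → H ⊗ H`. -/
noncomputable def iota : (M ⊗[k] H) →ₗ[B ⊗[k] H] (H ⊗[k] H) := mapN k B H M.subtype

theorem iota_tmul (m : M) (h : H) : iota M (m ⊗ₜ h) = (m : H) ⊗ₜ h := rfl

theorem iota_injective : Function.Injective (iota M) := by
  have h : Function.Injective (LinearMap.rTensor H (M.subtype.restrictScalars k)) :=
    Module.Flat.rTensor_preserves_injective_linearMap _ Subtype.val_injective
  exact h

end Iota

theorem smul_eq_jHom_mul (r : B ⊗[k] H) (z : H ⊗[k] H) : r • z = jHom k H B r * z := by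
  induction r using TensorProduct.induction_on with
  | zero => rw [zero_smul (B ⊗[k] H) z, map_zero, zero_mul]
  | tmul a h =>
    induction z using TensorProduct.induction_on with
    | zero => rw [smul_zero, mul_zero]
    | tmul x y =>
      rw [tmul_smul_tmul, jHom_tmul, Algebra.TensorProduct.tmul_mul_tmul]
      rfl
    | add x y hx hy => rw [smul_add, hx, hy, mul_add]
  | add r s hr hs => rw [add_smul, hr, hs, map_add, add_mul]

theorem shear_smul (hB : IsHopfSub k H B) (r : B ⊗[k] H) (z : H ⊗[k] H) :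
    shear k H (r • z) = sigma hB r • shear k H z := by
  rw [smul_eq_jHom_mul, smul_eq_jHom_mul, map_mul, jHom_sigma]

/-- `M` is a subcomodule: `Δ(M) ⊆ M ⊗ H`. -/
def IsSub (M : Submodule B H) : Prop :=
  ∀ m ∈ M, CoalgebraStruct.comul (R := k) (A := H) m ∈ LinearMap.range (iota M)

theorem isSub_bot : IsSub (⊥ : Submodule B H) := by
  intro m hm
  rw [(Submodule.mem_bot B).1 hm, map_zero]
  exact Submodule.zero_mem _

section Rho

variable (M : Submodule B H) (hM : IsSub M)

include hM in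
theorem exists_rho : ∃ ρ : M →ₗ[k] M ⊗[k] H, ∀ m : M,
    iota M (ρ m) = CoalgebraStruct.comul (R := k) (A := H) (m : H) := by
  let ιk : M ⊗[k] H →ₗ[k] H ⊗[k] H := (iota M).restrictScalars k
  have hinj : Function.Injective ιk := iota_injective M
  let e := LinearEquiv.ofInjective ιk hinj
  let c : M →ₗ[k] H ⊗[k] H := (CoalgebraStruct.comul (R := k) (A := H)) ∘ₗ
    (M.subtype.restrictScalars k)
  have hc : ∀ m : M, c m ∈ LinearMap.range ιk := by
    intro m
    obtain ⟨y, hy⟩ := hM m m.2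
    exact ⟨y, hy⟩
  refine ⟨e.symm.toLinearMap ∘ₗ c.codRestrict (LinearMap.range ιk) hc, fun m => ?_⟩
  have h1 : ((e (e.symm (c.codRestrict (LinearMap.range ιk) hc m)) : LinearMap.range ιk) :
      H ⊗[k] H) = ιk (e.symm (c.codRestrict (LinearMap.range ιk) hc m)) :=
    LinearEquiv.ofInjective_apply _ _
  rw [LinearEquiv.apply_symm_apply] at h1
  exact h1.symm

end Rho

section Descend

theorem exists_descend {X Y W : Type*} [AddCommGroup X] [Module k X] [AddCommGroup Y] [Module k Y]
    [AddCommGroup W] [Module k W] (g : X →ₗ[k] Y) (hg : Function.Surjective g) (f : X →ₗ[k] W)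
    (h : ∀ x, g x = 0 → f x = 0) : ∃ f' : Y →ₗ[k] W, ∀ x, f' (g x) = f x := by
  refine ⟨(LinearMap.ker g).liftQ f (fun x hx => h x hx) ∘ₗ
    (g.quotKerEquivOfSurjective hg).symm.toLinearMap, fun x => ?_⟩
  have h1 : (g.quotKerEquivOfSurjective hg).symm (g x) = Submodule.Quotient.mk x := by
    rw [LinearEquiv.symm_apply_eq, LinearMap.quotKerEquivOfSurjective_apply_mk]
  rw [LinearMap.comp_apply, LinearEquiv.coe_coe, h1]
  rfl

end Descend

section Theta

variable {Q : Type v} [AddCommGroup Q] [Module k Q] [Module B Q] [IsScalarTower k B Q]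

variable (B) in
/-- `h ↦ ((1 ⊗ h) • ·)`. -/
noncomputable def actR : H →ₗ[k] Module.End k (Q ⊗[k] H) :=
  (actHom k B H Q).toLinearMap ∘ₗ
    (Algebra.TensorProduct.includeRight : H →ₐ[k] B ⊗[k] H).toLinearMap

theorem actR_apply (h : H) (z : Q ⊗[k] H) : actR B h z = ((1 : B) ⊗ₜ[k] h) • z := rfl

variable (B) in
/-- The shear map attached to a coaction: `q ⊗ h ↦ (1 ⊗ h) • ρ q`. -/
noncomputable def thetaOf (ρ : Q →ₗ[k] Q ⊗[k] H) : Q ⊗[k] H →ₗ[k] Q ⊗[k] H :=
  TensorProduct.lift ((actR B (Q := Q)).flip ∘ₗ ρ)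

theorem thetaOf_tmul (ρ : Q →ₗ[k] Q ⊗[k] H) (q : Q) (h : H) :
    thetaOf B ρ (q ⊗ₜ h) = ((1 : B) ⊗ₜ[k] h) • ρ q := rfl

end Theta

section ThetaM

variable (M : Submodule B H) (ρ : M →ₗ[k] M ⊗[k] H)
  (hρ : ∀ m : M, iota M (ρ m) = CoalgebraStruct.comul (R := k) (A := H) (m : H))

include hρ in
theorem iota_thetaOf (z : M ⊗[k] H) : iota M (thetaOf B ρ z) = shear k H (iota M z) := by
  induction z using TensorProduct.induction_on with
  | zero => rw [map_zero, map_zero, map_zero]
  | tmul m h =>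
    rw [thetaOf_tmul, map_smul, hρ, smul_eq_jHom_mul, jHom_tmul, iota_tmul, shear_tmul, mul_comm]
    rfl
  | add x y hx hy => rw [map_add, map_add, map_add, map_add, hx, hy]

theorem map_id_antipode_iota (y : M ⊗[k] H) :
    TensorProduct.map LinearMap.id (HopfAlgebraStruct.antipode k) (iota M y) =
      iota M (TensorProduct.map LinearMap.id (HopfAlgebraStruct.antipode k) y) := by
  induction y using TensorProduct.induction_on with
  | zero => simp only [map_zero]
  | tmul m h => rfl
  | add x y hx hy => rw [map_add, map_add, map_add, map_add, hx, hy]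

include hρ in
theorem exists_iota_eq_shear_symm (z : M ⊗[k] H) :
    ∃ w : M ⊗[k] H, iota M w = (shear k H).symm (iota M z) := by
  induction z using TensorProduct.induction_on with
  | zero => exact ⟨0, by simp only [map_zero]⟩
  | tmul m h =>
    refine ⟨((1 : B) ⊗ₜ[k] h) •
      TensorProduct.map LinearMap.id (HopfAlgebraStruct.antipode k) (ρ m), ?_⟩
    rw [map_smul, ← map_id_antipode_iota, hρ, iota_tmul, shear_symm_tmul, comulS_apply,
      smul_eq_jHom_mul, jHom_tmul, mul_comm]
    rfl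
  | add x y hx hy =>
    obtain ⟨w₁, h₁⟩ := hx
    obtain ⟨w₂, h₂⟩ := hy
    exact ⟨w₁ + w₂, by rw [map_add, map_add, map_add, h₁, h₂]⟩

include hρ in
theorem thetaOf_surjective : Function.Surjective (thetaOf B ρ) := by
  intro z
  obtain ⟨w, hw⟩ := exists_iota_eq_shear_symm M ρ hρ z
  refine ⟨w, iota_injective M ?_⟩
  rw [iota_thetaOf M ρ hρ, hw, AlgEquiv.apply_symm_apply]

include hρ in
theorem thetaOf_smul (hB : IsHopfSub k H B) (r : B ⊗[k] H) (z : M ⊗[k] H) :
    thetaOf B ρ (r • z) = sigma hB r • thetaOf B ρ z := by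
  apply iota_injective M
  rw [iota_thetaOf M ρ hρ, map_smul, shear_smul hB, map_smul, iota_thetaOf M ρ hρ]

end ThetaM

section Quot

variable {Q : Type v} [AddCommGroup Q] [Module k Q] [Module B Q] [IsScalarTower k B Q]

theorem iota_mapN_inclusion {M M' : Submodule B H} (hle : M' ≤ M) (y : M' ⊗[k] H) :
    iota M (mapN k B H (Submodule.inclusion hle) y) = iota M' y := by
  induction y using TensorProduct.induction_on with
  | zero => simp only [map_zero]
  | tmul m h => rfl
  | add x y hx hy => rw [map_add, map_add, map_add, hx, hy]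

theorem mapN_eq_zero_of_forall {Q₁ : Type v} [AddCommGroup Q₁] [Module k Q₁] [Module B Q₁]
    [IsScalarTower k B Q₁] (f : Q₁ →ₗ[B] Q) (hf : ∀ x, f x = 0) (y : Q₁ ⊗[k] H) :
    mapN k B H f y = 0 := by
  induction y using TensorProduct.induction_on with
  | zero => simp only [map_zero]
  | tmul m h =>
    rw [mapN_apply, TensorProduct.map_tmul]
    show f m ⊗ₜ[k] h = 0
    rw [hf, TensorProduct.zero_tmul]
  | add x y hx hy => rw [map_add, hx, hy, add_zero]

theorem mapN_comp_apply {Q₁ Q₂ : Type v} [AddCommGroup Q₁] [Module k Q₁] [Module B Q₁]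
    [IsScalarTower k B Q₁] [AddCommGroup Q₂] [Module k Q₂] [Module B Q₂] [IsScalarTower k B Q₂]
    (f : Q₁ →ₗ[B] Q₂) (g : Q₂ →ₗ[B] Q) (y : Q₁ ⊗[k] H) :
    mapN k B H g (mapN k B H f y) = mapN k B H (g ∘ₗ f) y := by
  induction y using TensorProduct.induction_on with
  | zero => simp only [map_zero]
  | tmul m h => rfl
  | add x y hx hy => rw [map_add, map_add, map_add, hx, hy]

theorem mapN_surjective {Q₁ : Type v} [AddCommGroup Q₁] [Module k Q₁] [Module B Q₁]
    [IsScalarTower k B Q₁] (f : Q₁ →ₗ[B] Q) (hf : Function.Surjective f) :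
    Function.Surjective (mapN k B H f) :=
  LinearMap.rTensor_surjective H (g := f.restrictScalars k) hf

variable {M M' : Submodule B H} (hM : IsSub M) (hM' : IsSub M') (hle : M' ≤ M)
  (p : M →ₗ[B] Q) (hp : Function.Surjective p) (hker : ∀ m : M, p m = 0 ↔ (m : H) ∈ M')

include hM' hle hker in
theorem mapN_rho_eq_zero (ρ : M →ₗ[k] M ⊗[k] H)
    (hρ : ∀ m : M, iota M (ρ m) = CoalgebraStruct.comul (R := k) (A := H) (m : H))
    (m : M) (hm : p m = 0) : mapN k B H p (ρ m) = 0 := by
  obtain ⟨y, hy⟩ := hM' m ((hker m).1 hm)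
  have h1 : ρ m = mapN k B H (Submodule.inclusion hle) y := by
    apply iota_injective M
    rw [hρ, iota_mapN_inclusion hle, hy]
  rw [h1, mapN_comp_apply]
  apply mapN_eq_zero_of_forall
  intro x
  exact (hker _).2 x.2

include hM hM' hle hp hker in
theorem exists_theta (hB : IsHopfSub k H B) :
    ∃ θ : Q ⊗[k] H →+ Q ⊗[k] H, Function.Surjective θ ∧
      ∀ (r : B ⊗[k] H) (z : Q ⊗[k] H), θ (r • z) = sigma hB r • θ z := by
  obtain ⟨ρ, hρ⟩ := exists_rho M hM
  obtain ⟨ρQ, hρQ⟩ := exists_descend (k := k) (p.restrictScalars k) hp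
    (((mapN k B H p).restrictScalars k) ∘ₗ ρ)
    (fun m hm => mapN_rho_eq_zero hM' hle p hker ρ hρ m hm)
  have hcomm : ∀ z : M ⊗[k] H, thetaOf B ρQ (mapN k B H p z) =
      mapN k B H p (thetaOf B ρ z) := by
    intro z
    induction z using TensorProduct.induction_on with
    | zero => simp only [map_zero]
    | tmul m h =>
      have h1 : mapN k B H p (m ⊗ₜ[k] h) = (p m) ⊗ₜ[k] h := rfl
      rw [h1, thetaOf_tmul, thetaOf_tmul, map_smul]
      congr 1
      exact hρQ m
    | add x y hx hy => rw [map_add, map_add, map_add, map_add, hx, hy]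
  have hgs := mapN_surjective (H := H) p hp
  refine ⟨(thetaOf B ρQ).toAddMonoidHom, ?_, ?_⟩
  · intro z'
    obtain ⟨z, rfl⟩ := hgs z'
    obtain ⟨w, rfl⟩ := thetaOf_surjective M ρ hρ z
    exact ⟨mapN k B H p w, hcomm w⟩
  · intro r z'
    obtain ⟨z, rfl⟩ := hgs z'
    show thetaOf B ρQ (r • mapN k B H p z) = sigma hB r • thetaOf B ρQ (mapN k B H p z)
    rw [← map_smul, hcomm, thetaOf_smul M ρ hρ hB, map_smul, hcomm]

include hM hM' hle hp hker in
/-- A finitely generated sub-quotient Hopf module is flat. -/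
theorem flat_of_isSub (hB : IsHopfSub k H B) [Module.Finite B Q] : Module.Flat B Q := by
  obtain ⟨θ, hsurj, hθ⟩ := exists_theta hM hM' hle p hp hker hB
  apply Groth.Agent.Lib.Helper6.FittSemi.flat_of_fitt_dichotomy
  intro n
  apply eq_bot_or_eq_top hB
  exact Groth.Agent.Lib.Helper6.FittSemi.map_fitt_stable (fQ k B H Q) (isBaseChange k B H Q)
    (sigma hB).toRingHom θ hsurj hθ n

end Quot

end Groth.Agent.Lib.Helper6.HopfMod
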