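import Mathlib
import Groth.Agent.Lib.Helper6.HopfMod
import Groth.Agent.Lib.Helper12.Subcoalg
import Groth.Agent.Lib.Helper1.LocalCriterion

set_option autoImplicit false
universe u v

/-!
# A commutative Hopf algebra over a field is faithfully flat over every Hopf subalgebra
-/

namespace Groth.Agent.Lib.Helper6.HopfFlat

open TensorProduct Groth.Agent.Lib.Helper6.HopfShear Groth.Agent.Lib.Helper6.HopfNQ
  Groth.Agent.Lib.Helper6.HopfSub Groth.Agent.Lib.Helper6.HopfMod
open scoped Groth.Agent.Lib.Helper6.HopfNQ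

variable {k : Type u} [Field k] {H : Type v} [CommRing H] [HopfAlgebra k H] {B : Subalgebra k H}

section ComulMem

/-- The `B`-submodule of elements whose comultiplication lies in `M ⊗ H`. -/
def comulMem (hB : IsHopfSub k H B) (M : Submodule B H) : Submodule B H where
  carrier := {m | CoalgebraStruct.comul (R := k) (A := H) m ∈ LinearMap.range (iota M)}
  zero_mem' := by
    show CoalgebraStruct.comul (R := k) (A := H) 0 ∈ LinearMap.range (iota M)
    rw [map_zero]
    exact Submodule.zero_mem _
  add_mem' := by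
    intro a b ha hb
    show CoalgebraStruct.comul (R := k) (A := H) (a + b) ∈ LinearMap.range (iota M)
    rw [map_add]
    exact Submodule.add_mem _ ha hb
  smul_mem' := by
    intro b m hm
    show CoalgebraStruct.comul (R := k) (A := H) (b • m) ∈ LinearMap.range (iota M)
    have h1 : b • m = (b : H) * m := rfl
    rw [h1, Bialgebra.comul_mul]
    obtain ⟨y, hy⟩ := hB.exists_comul b
    obtain ⟨w, hw⟩ := hm
    rw [← hy, ← hw, ← smul_eq_jHom_mul, ← map_smul]
    exact ⟨_, rfl⟩

theorem isSub_of_le_comulMem (hB : IsHopfSub k H B) (M : Submodule B H)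
    (h : M ≤ comulMem hB M) : IsSub M := fun m hm => h hm

end ComulMem

/-- The `B`-submodule `B · 1` of `H`. -/
def one (B : Subalgebra k H) : Submodule B H := LinearMap.range (Algebra.linearMap B H)

theorem mem_one (x : H) : x ∈ one B ↔ x ∈ B := by
  constructor
  · rintro ⟨b, rfl⟩
    exact b.2
  · intro hx
    exact ⟨⟨x, hx⟩, rfl⟩

theorem isSub_one (hB : IsHopfSub k H B) : IsSub (one B) := by
  intro m hm
  obtain ⟨b, rfl⟩ := hm
  obtain ⟨y, hy⟩ := hB.comul_mem b b.2
  let c : B →ₗ[k] one B := ((Algebra.linearMap B H).rangeRestrict).restrictScalars k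
  refine ⟨TensorProduct.map c B.val.toLinearMap y, ?_⟩
  show iota (one B) _ = CoalgebraStruct.comul (R := k) (A := H) (b : H)
  rw [← hy]
  generalize y = y
  induction y using TensorProduct.induction_on with
  | zero => simp only [map_zero]
  | tmul a b => rfl
  | add x y hx hy => rw [map_add, map_add, map_add, hx, hy]

theorem isSub_span (hB : IsHopfSub k H B) (C : Submodule k H)
    (hC : Groth.Agent.Helper12.IsSubcoalg C) : IsSub (Submodule.span B (C : Set H)) := by
  apply isSub_of_le_comulMem hB
  rw [Submodule.span_le]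
  intro c hc
  obtain ⟨y, hy⟩ := hC c hc
  let i : C →ₗ[k] Submodule.span B (C : Set H) :=
    { toFun := fun c => ⟨c.1, Submodule.subset_span c.2⟩
      map_add' := fun _ _ => rfl
      map_smul' := fun _ _ => rfl }
  refine ⟨TensorProduct.map i C.subtype y, ?_⟩
  rw [← hy]
  generalize y = y
  induction y using TensorProduct.induction_on with
  | zero => simp only [map_zero]
  | tmul a b => rfl
  | add x y hx hy => rw [map_add, map_add, map_add, hx, hy]

/-- Every finite set of elements lies in a finitely generated sub-Hopf-module containing `B`. -/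
theorem exists_fg_isSub (hB : IsHopfSub k H B) (s : Finset H) :
    ∃ M : Submodule B H, M.FG ∧ IsSub M ∧ (↑s : Set H) ⊆ M ∧ one B ≤ M := by
  classical
  obtain ⟨C, hCfin, hsC, hC⟩ :=
    Groth.Agent.Helper12.exists_finite_subcoalg_finset (k := k) (insert (1 : H) s)
  refine ⟨Submodule.span B (C : Set H), ?_, isSub_span hB C hC, ?_, ?_⟩
  · obtain ⟨t, ht⟩ := (Module.Finite.iff_fg.1 hCfin)
    refine ⟨t, ?_⟩
    rw [← ht, Submodule.span_span_of_tower]
  · intro x hx
    exact Submodule.subset_span (hsC (Finset.mem_insert_of_mem hx))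
  · rintro _ ⟨b, rfl⟩
    have h1 : (1 : H) ∈ Submodule.span B (C : Set H) :=
      Submodule.subset_span (hsC (Finset.mem_insert_self _ _))
    have h2 := Submodule.smul_mem _ b h1
    have h3 : b • (1 : H) = Algebra.linearMap B H b := by
      rw [Algebra.linearMap_apply, Algebra.algebraMap_eq_smul_one]
    rw [← h3]
    exact h2

/-- A finitely generated sub-Hopf-module of `H` is flat over `B`. -/
theorem flat_of_fg_isSub (hB : IsHopfSub k H B) (M : Submodule B H) (hfg : M.FG) (hM : IsSub M) :
    Module.Flat B M := by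
  have : Module.Finite B M := Module.Finite.iff_fg.2 hfg
  refine flat_of_isSub (M := M) (M' := ⊥) hM isSub_bot bot_le (LinearMap.id : M →ₗ[B] M)
    Function.surjective_id ?_ hB
  intro m
  rw [LinearMap.id_apply, Submodule.mem_bot]
  exact ⟨fun h => by rw [h]; rfl, fun h => Subtype.ext h⟩

/-- `M / B` is flat for a finitely generated sub-Hopf-module `M ⊇ B`. -/
theorem flat_quotient_one (hB : IsHopfSub k H B) (M : Submodule B H) (hfg : M.FG) (hM : IsSub M)
    (hle : one B ≤ M) :
    Module.Flat B (M ⧸ Submodule.comap M.subtype (one B)) := by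
  have : Module.Finite B M := Module.Finite.iff_fg.2 hfg
  refine flat_of_isSub (M := M) (M' := one B) hM (isSub_one hB) hle
    (Submodule.mkQ (Submodule.comap M.subtype (one B))) (Submodule.mkQ_surjective _) ?_ hB
  intro m
  rw [Submodule.mkQ_apply, Submodule.Quotient.mk_eq_zero]
  rfl

theorem flat (hB : IsHopfSub k H B) : Module.Flat B H := by
  classical
  rw [Module.Flat.iff_forall_isTrivialRelation]
  intro l f x hrel
  obtain ⟨M, hfg, hM, hsM, _⟩ := exists_fg_isSub hB (Finset.univ.image x)
  have hx : ∀ i, x i ∈ M := fun i =>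
    hsM (Finset.mem_coe.2 (Finset.mem_image_of_mem x (Finset.mem_univ i)))
  have hflat := flat_of_fg_isSub hB M hfg hM
  have hrel' : ∑ i, f i • (⟨x i, hx i⟩ : M) = 0 := by
    apply Subtype.ext
    rw [Submodule.coe_sum, Submodule.coe_zero, ← hrel]
    rfl
  obtain ⟨κ, a, y, hxy, hfa⟩ := Module.Flat.isTrivialRelation_of_sum_smul_eq_zero hrel'
  refine ⟨κ, a, fun j => (y j : H), fun i => ?_, hfa⟩
  have h1 := congrArg (Subtype.val) (hxy i)
  rw [Submodule.coe_sum] at h1
  exact h1

theorem flat_quotient (hB : IsHopfSub k H B) : Module.Flat B (H ⧸ one B) := by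
  classical
  rw [Module.Flat.iff_forall_isTrivialRelation]
  intro l f xb hrel
  choose x hx using fun i => Submodule.Quotient.mk_surjective (one B) (xb i)
  obtain ⟨M, hfg, hM, hsM, hle⟩ := exists_fg_isSub hB (Finset.univ.image x)
  have hxM : ∀ i, x i ∈ M := fun i =>
    hsM (Finset.mem_coe.2 (Finset.mem_image_of_mem x (Finset.mem_univ i)))
  have hflat := flat_quotient_one hB M hfg hM hle
  let φ : (M ⧸ Submodule.comap M.subtype (one B)) →ₗ[B] H ⧸ one B :=
    Submodule.mapQ _ (one B) M.subtype le_rfl
  have hφ : ∀ m : M, φ (Submodule.Quotient.mk m) = Submodule.Quotient.mk (m : H) := fun m => rfl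
  have hφinj : Function.Injective φ := by
    rw [injective_iff_map_eq_zero]
    intro q hq
    obtain ⟨m, rfl⟩ := Submodule.Quotient.mk_surjective _ q
    rw [hφ, Submodule.Quotient.mk_eq_zero] at hq
    rw [Submodule.Quotient.mk_eq_zero]
    exact hq
  let q : Fin l → M ⧸ Submodule.comap M.subtype (one B) :=
    fun i => Submodule.Quotient.mk ⟨x i, hxM i⟩
  have hq : ∀ i, φ (q i) = xb i := fun i => by rw [hφ]; exact hx i
  have hrel' : ∑ i, f i • q i = 0 := by
    apply hφinj
    rw [map_sum, map_zero, ← hrel]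
    refine Finset.sum_congr rfl fun i _ => ?_
    rw [map_smul, hq]
  obtain ⟨κ, a, y, hxy, hfa⟩ := Module.Flat.isTrivialRelation_of_sum_smul_eq_zero hrel'
  refine ⟨κ, a, fun j => φ (y j), fun i => ?_, hfa⟩
  rw [← hq, hxy i, map_sum]
  refine Finset.sum_congr rfl fun j _ => ?_
  rw [map_smul]

/-- **Takeuchi's theorem**: a commutative Hopf algebra over a field is faithfully flat over every
Hopf subalgebra. -/
theorem faithfullyFlat (hB : IsHopfSub k H B) : Module.FaithfullyFlat B H := by
  have hflat := flat hB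
  have hflatq := flat_quotient hB
  refine ⟨fun 𝔪 h𝔪 htop => ?_⟩
  have hinj : Function.Injective (Algebra.linearMap B H) := Subtype.val_injective
  have hex : Function.Exact (Algebra.linearMap B H) (Submodule.mkQ (one B)) := by
    intro x
    rw [Submodule.mkQ_apply, Submodule.Quotient.mk_eq_zero]
    rfl
  have h1 := Groth.Agent.Helper1.lTensor_injective_of_exact_of_flat (Algebra.linearMap B H)
    (Submodule.mkQ (one B)) hinj hex (Submodule.mkQ_surjective _) (B ⧸ 𝔪)
  have h2 : Subsingleton ((B ⧸ 𝔪) ⊗[B] H) := by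
    have e := TensorProduct.quotTensorEquivQuotSMul H 𝔪
    have : Subsingleton (H ⧸ (𝔪 • ⊤ : Submodule B H)) := by
      rw [htop]
      exact Submodule.Quotient.subsingleton_iff.2 rfl
    exact e.toEquiv.subsingleton
  have h3 : Subsingleton ((B ⧸ 𝔪) ⊗[B] B) := h1.subsingleton
  have h4 : Subsingleton (B ⧸ 𝔪) := (TensorProduct.rid B (B ⧸ 𝔪)).symm.toEquiv.subsingleton
  exact h𝔪.ne_top (Ideal.Quotient.subsingleton_iff.1 h4)

end Groth.Agent.Lib.Helper6.HopfFlat
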