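import Mathlib
import Groth.Agent.Lib.Helper6.HopfSub

set_option autoImplicit false
universe u v

/-!
# The Hopf algebra structure on a Hopf subalgebra (over a field)
-/

namespace Groth.Agent.Lib.Helper6.HopfSubInst

open TensorProduct Groth.Agent.Lib.Helper6.HopfSub

variable {k : Type u} [Field k] {H : Type v} [CommRing H] [HopfAlgebra k H] {B : Subalgebra k H}

/-- `ι ⊗ ι : B ⊗ B → H ⊗ H`. -/
noncomputable def ii (B : Subalgebra k H) : B ⊗[k] B →ₐ[k] H ⊗[k] H :=
  Algebra.TensorProduct.map B.val B.val

theorem ii_tmul (x y : B) : ii B (x ⊗ₜ y) = (x : H) ⊗ₜ (y : H) := rfl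

theorem ii_injective (B : Subalgebra k H) : Function.Injective (ii B) := by
  have h : Function.Injective (TensorProduct.map B.val.toLinearMap B.val.toLinearMap) :=
    TensorProduct.map_injective_of_flat_flat _ _ Subtype.val_injective Subtype.val_injective
  intro x y hxy
  exact h hxy

/-- `ι ⊗ (ι ⊗ ι)`. -/
noncomputable def iii (B : Subalgebra k H) : B ⊗[k] (B ⊗[k] B) →ₐ[k] H ⊗[k] (H ⊗[k] H) :=
  Algebra.TensorProduct.map B.val (ii B)

theorem iii_tmul (x : B) (t : B ⊗[k] B) : iii B (x ⊗ₜ t) = (x : H) ⊗ₜ ii B t := rfl

theorem iii_injective (B : Subalgebra k H) : Function.Injective (iii B) := by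
  have h : Function.Injective (TensorProduct.map B.val.toLinearMap (ii B).toLinearMap) :=
    TensorProduct.map_injective_of_flat_flat _ _ Subtype.val_injective (ii_injective B)
  intro x y hxy
  exact h hxy

theorem comul_mem_range (hB : IsHopfSub k H B) (b : B) :
    ((Bialgebra.comulAlgHom k H).comp B.val) b ∈ (ii B).range := by
  obtain ⟨y, hy⟩ := hB.comul_mem b b.2
  exact ⟨y, hy⟩

/-- the comultiplication of a Hopf subalgebra -/
noncomputable def comulB (hB : IsHopfSub k H B) : B →ₐ[k] B ⊗[k] B :=
  ((AlgEquiv.ofInjective (ii B) (ii_injective B)).symm : _ →ₐ[k] _).comp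
    (((Bialgebra.comulAlgHom k H).comp B.val).codRestrict (ii B).range (comul_mem_range hB))

theorem ii_comulB (hB : IsHopfSub k H B) (b : B) :
    ii B (comulB hB b) = CoalgebraStruct.comul (R := k) (A := H) (b : H) := by
  unfold comulB
  set e := AlgEquiv.ofInjective (ii B) (ii_injective B)
  set w := (((Bialgebra.comulAlgHom k H).comp B.val).codRestrict (ii B).range
    (comul_mem_range hB)) b with hw
  have h1 : (e (e.symm w) : H ⊗[k] H) = ii B (e.symm w) := AlgEquiv.ofInjective_apply _ _ _
  rw [AlgEquiv.apply_symm_apply] at h1
  show ii B (e.symm w) = _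
  rw [← h1, hw]
  rfl

/-- the counit of a Hopf subalgebra -/
noncomputable def counitB (B : Subalgebra k H) : B →ₐ[k] k :=
  (Bialgebra.counitAlgHom k H).comp B.val

theorem counitB_apply (b : B) : counitB B b = CoalgebraStruct.counit (R := k) (A := H) (b : H) := rfl

/-- the antipode of a Hopf subalgebra -/
noncomputable def antipodeB (hB : IsHopfSub k H B) : B →ₗ[k] B :=
  ((HopfAlgebraStruct.antipode k (A := H)) ∘ₗ B.val.toLinearMap).codRestrict
    (Subalgebra.toSubmodule B) (fun b => hB.antipode_mem b b.2)

theorem antipodeB_coe (hB : IsHopfSub k H B) (b : B) :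
    ((antipodeB hB b : B) : H) = HopfAlgebraStruct.antipode k (A := H) (b : H) := rfl

section axioms

variable (hB : IsHopfSub k H B)

theorem aux_assoc1 (t : B ⊗[k] B) (y : B) :
    iii B (Algebra.TensorProduct.assoc k k k B B B (t ⊗ₜ y)) =
      Algebra.TensorProduct.assoc k k k H H H ((ii B t) ⊗ₜ (y : H)) := by
  induction t using TensorProduct.induction_on with
  | zero => simp
  | tmul u v => rfl
  | add a b ha hb => simp only [TensorProduct.add_tmul, map_add, ha, hb]

theorem aux_assoc2 (z : B ⊗[k] B) :
    iii B (Algebra.TensorProduct.assoc k k k B B B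
      (Algebra.TensorProduct.map (comulB hB) (AlgHom.id k B) z)) =
    Algebra.TensorProduct.assoc k k k H H H
      (Algebra.TensorProduct.map (Bialgebra.comulAlgHom k H) (AlgHom.id k H) (ii B z)) := by
  induction z using TensorProduct.induction_on with
  | zero => simp
  | tmul x y =>
    rw [Algebra.TensorProduct.map_tmul, AlgHom.id_apply, aux_assoc1, ii_comulB, ii_tmul,
      Algebra.TensorProduct.map_tmul, AlgHom.id_apply]
    rfl
  | add a b ha hb => simp only [map_add, ha, hb]

theorem aux_assoc3 (z : B ⊗[k] B) :
    iii B (Algebra.TensorProduct.map (AlgHom.id k B) (comulB hB) z) =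
      Algebra.TensorProduct.map (AlgHom.id k H) (Bialgebra.comulAlgHom k H) (ii B z) := by
  induction z using TensorProduct.induction_on with
  | zero => simp
  | tmul x y =>
    rw [Algebra.TensorProduct.map_tmul, AlgHom.id_apply, iii_tmul, ii_comulB, ii_tmul,
      Algebra.TensorProduct.map_tmul, AlgHom.id_apply]
    rfl
  | add a b ha hb => simp only [map_add, ha, hb]

theorem coassocH (a : H) :
    Algebra.TensorProduct.assoc k k k H H H
      (Algebra.TensorProduct.map (Bialgebra.comulAlgHom k H) (AlgHom.id k H)
        (CoalgebraStruct.comul (R := k) a)) =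
    Algebra.TensorProduct.map (AlgHom.id k H) (Bialgebra.comulAlgHom k H)
      (CoalgebraStruct.comul (R := k) a) := by
  have h := Coalgebra.coassoc_apply (R := k) (A := H) a
  have h1 : ∀ z : H ⊗[k] H,
      Algebra.TensorProduct.map (Bialgebra.comulAlgHom k H) (AlgHom.id k H) z =
        LinearMap.rTensor H (CoalgebraStruct.comul (R := k) (A := H)) z := by
    intro z
    induction z using TensorProduct.induction_on with
    | zero => simp
    | tmul x y => rfl
    | add a b ha hb => simp only [map_add, ha, hb]
  have h2 : ∀ z : H ⊗[k] H,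
      Algebra.TensorProduct.map (AlgHom.id k H) (Bialgebra.comulAlgHom k H) z =
        LinearMap.lTensor H (CoalgebraStruct.comul (R := k) (A := H)) z := by
    intro z
    induction z using TensorProduct.induction_on with
    | zero => simp
    | tmul x y => rfl
    | add a b ha hb => simp only [map_add, ha, hb]
  rw [h1, h2, ← h]
  rfl

theorem h_coassoc :
    (Algebra.TensorProduct.assoc k k k B B B).toAlgHom.comp
      ((Algebra.TensorProduct.map (comulB hB) (AlgHom.id k B)).comp (comulB hB)) =
    (Algebra.TensorProduct.map (AlgHom.id k B) (comulB hB)).comp (comulB hB) := by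
  ext b
  apply iii_injective B
  show iii B (Algebra.TensorProduct.assoc k k k B B B
      (Algebra.TensorProduct.map (comulB hB) (AlgHom.id k B) (comulB hB b))) =
    iii B (Algebra.TensorProduct.map (AlgHom.id k B) (comulB hB) (comulB hB b))
  rw [aux_assoc2, aux_assoc3, ii_comulB, coassocH]

theorem h_rTensor :
    (Algebra.TensorProduct.map (counitB B) (AlgHom.id k B)).comp (comulB hB) =
      (Algebra.TensorProduct.lid k B).symm := by
  ext b
  apply (Algebra.TensorProduct.lid k B).injective
  apply Subtype.val_injective
  have key : ∀ z : B ⊗[k] B,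
      ((Algebra.TensorProduct.lid k B
        (Algebra.TensorProduct.map (counitB B) (AlgHom.id k B) z) : B) : H) =
      TensorProduct.lid k H (LinearMap.rTensor H (CoalgebraStruct.counit (R := k) (A := H))
        (ii B z)) := by
    intro z
    induction z using TensorProduct.induction_on with
    | zero => simp
    | tmul x y =>
      rw [Algebra.TensorProduct.map_tmul, AlgHom.id_apply, Algebra.TensorProduct.lid_tmul,
        ii_tmul, LinearMap.rTensor_tmul, TensorProduct.lid_tmul]
      rfl
    | add a b ha hb => simp only [map_add, Subalgebra.coe_add, ha, hb]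
  show ((Algebra.TensorProduct.lid k B
        (Algebra.TensorProduct.map (counitB B) (AlgHom.id k B) (comulB hB b)) : B) : H) =
    ((Algebra.TensorProduct.lid k B ((Algebra.TensorProduct.lid k B).symm b) : B) : H)
  rw [key, ii_comulB, Coalgebra.rTensor_counit_comul, AlgEquiv.apply_symm_apply,
    TensorProduct.lid_tmul, one_smul]

theorem h_lTensor :
    (Algebra.TensorProduct.map (AlgHom.id k B) (counitB B)).comp (comulB hB) =
      (Algebra.TensorProduct.rid k k B).symm := by
  ext b
  apply (Algebra.TensorProduct.rid k k B).injective
  apply Subtype.val_injective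
  have key : ∀ z : B ⊗[k] B,
      ((Algebra.TensorProduct.rid k k B
        (Algebra.TensorProduct.map (AlgHom.id k B) (counitB B) z) : B) : H) =
      TensorProduct.rid k H (LinearMap.lTensor H (CoalgebraStruct.counit (R := k) (A := H))
        (ii B z)) := by
    intro z
    induction z using TensorProduct.induction_on with
    | zero => simp
    | tmul x y =>
      rw [Algebra.TensorProduct.map_tmul, AlgHom.id_apply, Algebra.TensorProduct.rid_tmul,
        ii_tmul, LinearMap.lTensor_tmul, TensorProduct.rid_tmul]
      rfl
    | add a b ha hb => simp only [map_add, Subalgebra.coe_add, ha, hb]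
  show ((Algebra.TensorProduct.rid k k B
        (Algebra.TensorProduct.map (AlgHom.id k B) (counitB B) (comulB hB b)) : B) : H) =
    ((Algebra.TensorProduct.rid k k B ((Algebra.TensorProduct.rid k k B).symm b) : B) : H)
  rw [key, ii_comulB, Coalgebra.lTensor_counit_comul, AlgEquiv.apply_symm_apply,
    TensorProduct.rid_tmul, one_smul]

end axioms

/-- The bialgebra structure on a Hopf subalgebra. -/
@[reducible] noncomputable def bialgebra (hB : IsHopfSub k H B) : Bialgebra k B :=
  Bialgebra.ofAlgHom (comulB hB) (counitB B) (h_coassoc hB) (h_rTensor hB) (h_lTensor hB)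

/-- The Hopf algebra structure on a Hopf subalgebra. -/
@[reducible] noncomputable def hopfAlgebra (hB : IsHopfSub k H B) : HopfAlgebra k B :=
  { bialgebra hB with
    antipode := antipodeB hB
    mul_antipode_rTensor_comul := by
      ext b
      have key : ∀ z : B ⊗[k] B,
          ((LinearMap.mul' k B (LinearMap.rTensor B (antipodeB hB) z) : B) : H) =
          LinearMap.mul' k H (LinearMap.rTensor H (HopfAlgebraStruct.antipode k (A := H))
            (ii B z)) := by
        intro z
        induction z using TensorProduct.induction_on with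
        | zero => simp
        | tmul x y => rfl
        | add a b ha hb => simp only [map_add, Subalgebra.coe_add, ha, hb]
      show ((LinearMap.mul' k B (LinearMap.rTensor B (antipodeB hB) (comulB hB b)) : B) : H) =
        ((algebraMap k B (counitB B b) : B) : H)
      rw [key, ii_comulB, HopfAlgebra.mul_antipode_rTensor_comul_apply]
      rfl
    mul_antipode_lTensor_comul := by
      ext b
      have key : ∀ z : B ⊗[k] B,
          ((LinearMap.mul' k B (LinearMap.lTensor B (antipodeB hB) z) : B) : H) =
          LinearMap.mul' k H (LinearMap.lTensor H (HopfAlgebraStruct.antipode k (A := H))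
            (ii B z)) := by
        intro z
        induction z using TensorProduct.induction_on with
        | zero => simp
        | tmul x y => rfl
        | add a b ha hb => simp only [map_add, Subalgebra.coe_add, ha, hb]
      show ((LinearMap.mul' k B (LinearMap.lTensor B (antipodeB hB) (comulB hB b)) : B) : H) =
        ((algebraMap k B (counitB B b) : B) : H)
      rw [key, ii_comulB, HopfAlgebra.mul_antipode_lTensor_comul_apply]
      rfl }

end Groth.Agent.Lib.Helper6.HopfSubInst
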