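import Mathlib
import Groth.Agent.Lib.Helper6.HopfFlat

set_option autoImplicit false
universe u v w

/-!
# The image of a bialgebra map of commutative Hopf algebras is a Hopf subalgebra
-/

namespace Groth.Agent.Lib.Helper6.HopfRange

open TensorProduct WithConv Groth.Agent.Lib.Helper6.HopfSub

section antipode
variable {k : Type u} [CommRing k] {A : Type v} {B : Type w} [CommRing A] [CommRing B]
  [HopfAlgebra k A] [HopfAlgebra k B]

/-- Bialgebra maps between commutative Hopf algebras commute with the antipodes. -/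
theorem antipodeAlgHom_comp (f : A →ₐc[k] B) :
    (HopfAlgebra.antipodeAlgHom k B).comp (f : A →ₐ[k] B) =
      (f : A →ₐ[k] B).comp (HopfAlgebra.antipodeAlgHom k A) := by
  have h1 : toConv ((HopfAlgebra.antipodeAlgHom k B).comp (f : A →ₐ[k] B)) *
      toConv (f : A →ₐ[k] B) = 1 := by
    have h := AlgHom.convMul_comp_bialgHom_distrib
      (toConv (HopfAlgebra.antipodeAlgHom k B)) (toConv (AlgHom.id k B)) f
    rw [AlgHom.antipode_id_cancel] at h
    have h' : toConv ((HopfAlgebra.antipodeAlgHom k B).comp (f : A →ₐ[k] B)) *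
        toConv (f : A →ₐ[k] B) =
        toConv (AlgHom.comp (1 : WithConv (B →ₐ[k] B)).ofConv (f : A →ₐ[k] B)) := by
      rw [h]; rfl
    rw [h']
    apply WithConv.ofConv_injective
    ext a
    change algebraMap k B (Coalgebra.counit (f a)) = algebraMap k B (Coalgebra.counit a)
    rw [CoalgHomClass.counit_comp_apply]
  have h2 : toConv ((HopfAlgebra.antipodeAlgHom k B).comp (f : A →ₐ[k] B)) =
      (toConv (f : A →ₐ[k] B))⁻¹ := eq_inv_of_mul_eq_one_left h1
  have h3 : (toConv (f : A →ₐ[k] B))⁻¹ =
      toConv ((f : A →ₐ[k] B).comp (HopfAlgebra.antipodeAlgHom k A)) := rfl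
  exact WithConv.toConv_injective (h2.trans h3)

theorem antipode_map (f : A →ₐc[k] B) (a : A) :
    HopfAlgebraStruct.antipode k (f a) = f (HopfAlgebraStruct.antipode k a) :=
  DFunLike.congr_fun (antipodeAlgHom_comp f) a

end antipode

variable {k : Type u} [Field k] {A : Type v} {B : Type w} [CommRing A] [CommRing B]
  [HopfAlgebra k A] [HopfAlgebra k B]

/-- The image of a bialgebra map is a Hopf subalgebra. -/
theorem isHopfSub_range (f : A →ₐc[k] B) : IsHopfSub k B (f : A →ₐ[k] B).range where
  comul_mem := by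
    rintro _ ⟨a, rfl⟩
    have h : CoalgebraStruct.comul (R := k) (A := B) (f a) =
        TensorProduct.map (f : A →ₗ[k] B) (f : A →ₗ[k] B) (CoalgebraStruct.comul (R := k) a) :=
      (CoalgHomClass.map_comp_comul_apply f a).symm
    change CoalgebraStruct.comul (R := k) (A := B) (f a) ∈ _
    rw [h]
    generalize CoalgebraStruct.comul (R := k) a = z
    induction z using TensorProduct.induction_on with
    | zero => simp
    | tmul x y =>
      refine ⟨(⟨f x, x, rfl⟩ : (f : A →ₐ[k] B).range) ⊗ₜ (⟨f y, y, rfl⟩ : (f : A →ₐ[k] B).range), ?_⟩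
      simp
    | add x y hx hy => rw [map_add]; exact Submodule.add_mem _ hx hy
  antipode_mem := by
    rintro _ ⟨a, rfl⟩
    exact ⟨HopfAlgebraStruct.antipode k a, (antipode_map f a).symm⟩

/-- The target of a bialgebra map of commutative Hopf algebras over a field is faithfully flat over
the image. -/
theorem faithfullyFlat_range (f : A →ₐc[k] B) :
    Module.FaithfullyFlat (f : A →ₐ[k] B).range B :=
  HopfFlat.faithfullyFlat (isHopfSub_range f)


/-- If the two inclusions `B → B ⊗[range f] B` agree, then `f` is surjective. -/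
theorem surjective_of_tmul_eq (f : A →ₐc[k] B)
    (h : ∀ b : B, (b ⊗ₜ[(f : A →ₐ[k] B).range] (1 : B) : B ⊗[(f : A →ₐ[k] B).range] B) =
      (1 : B) ⊗ₜ[(f : A →ₐ[k] B).range] b) : Function.Surjective f := by
  classical
  set K : Subalgebra k B := (f : A →ₐ[k] B).range with hK
  haveI hff : Module.FaithfullyFlat K B := faithfullyFlat_range f
  have hab : ∀ a b : B, (a ⊗ₜ[K] b : B ⊗[K] B) = (1 : B) ⊗ₜ[K] (a * b) := by
    intro a b
    calc (a ⊗ₜ[K] b : B ⊗[K] B) = (a ⊗ₜ[K] (1 : B)) * ((1 : B) ⊗ₜ[K] b) := by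
          rw [Algebra.TensorProduct.tmul_mul_tmul, mul_one, one_mul]
      _ = ((1 : B) ⊗ₜ[K] a) * ((1 : B) ⊗ₜ[K] b) := by rw [h a]
      _ = (1 : B) ⊗ₜ[K] (a * b) := by rw [Algebra.TensorProduct.tmul_mul_tmul, one_mul]
  let N : Submodule K B := LinearMap.range (Algebra.linearMap K B)
  have hsub : Subsingleton ((B ⧸ N) ⊗[K] B) := by
    have hsurj : Function.Surjective (LinearMap.rTensor B N.mkQ) :=
      LinearMap.rTensor_surjective B (Submodule.mkQ_surjective N)
    have hzero : ∀ z : B ⊗[K] B, LinearMap.rTensor B N.mkQ z = 0 := by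
      intro z
      induction z using TensorProduct.induction_on with
      | zero => simp
      | tmul a b =>
        rw [hab a b, LinearMap.rTensor_tmul]
        have : N.mkQ (1 : B) = 0 := by
          rw [Submodule.mkQ_apply, Submodule.Quotient.mk_eq_zero]
          exact ⟨1, by simp⟩
        rw [this, TensorProduct.zero_tmul]
      | add x y hx hy => rw [map_add, hx, hy, add_zero]
    refine ⟨fun x y => ?_⟩
    obtain ⟨x', rfl⟩ := hsurj x
    obtain ⟨y', rfl⟩ := hsurj y
    rw [hzero, hzero]
  have hQ : Subsingleton (B ⧸ N) :=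
    (Module.FaithfullyFlat.subsingleton_tensorProduct_iff_left K (B ⧸ N) (N := B)).mp hsub
  intro a
  have h0 : N.mkQ a = 0 := Subsingleton.elim _ _
  rw [Submodule.mkQ_apply, Submodule.Quotient.mk_eq_zero] at h0
  obtain ⟨⟨b, a', rfl⟩, hb⟩ := h0
  exact ⟨a', hb⟩

/-- A bialgebra map of commutative Hopf algebras over a field which is an epimorphism of
commutative rings is surjective. -/
theorem surjective_of_epi {A : Type v} {B : Type w} [CommRing A] [CommRing B]
    [HopfAlgebra k A] [HopfAlgebra k B] (f : A →ₐc[k] B)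
    (hepi : ∀ (R : Type w) [CommRing R] (g h : B →+* R),
      g.comp (f : A →+* B) = h.comp (f : A →+* B) → g = h) : Function.Surjective f := by
  apply surjective_of_tmul_eq
  set K : Subalgebra k B := (f : A →ₐ[k] B).range with hK
  have hincl : (Algebra.TensorProduct.includeLeft : B →ₐ[K] B ⊗[K] B).toRingHom =
      (Algebra.TensorProduct.includeRight : B →ₐ[K] B ⊗[K] B).toRingHom := by
    apply hepi
    ext a'
    have hmem : (f a' : B) ∈ K := ⟨a', rfl⟩
    change ((f a' : B) ⊗ₜ[K] (1 : B) : B ⊗[K] B) = (1 : B) ⊗ₜ[K] (f a' : B)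
    have h1 : (f a' : B) = (⟨f a', hmem⟩ : K) • (1 : B) := by
      rw [Algebra.smul_def, mul_one]; rfl
    conv_lhs => rw [h1, TensorProduct.smul_tmul]
    rw [← h1]
  intro b
  exact DFunLike.congr_fun hincl b

end Groth.Agent.Lib.Helper6.HopfRange
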