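import Mathlib

set_option autoImplicit false
universe u v

/-!
# The trace integral of a finite free commutative Hopf algebra

For a commutative Hopf algebra `A` which is finite free over `k`, the element `x ∈ A` with
`φ(x) = Tr(a ↦ Σ a₁ φ(a₂))` is an integral: `a x = ε(a) x`, and `ε(x) = rank A`.
-/

namespace Groth.Agent.Lib.Helper6.HopfIntegral

open TensorProduct Coalgebra

variable {k : Type u} [CommRing k] {A : Type v} [CommRing A] [HopfAlgebra k A]

/-- `u ⊗ v ↦ φ(v) u`. -/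
noncomputable def G (φ : Module.Dual k A) : A ⊗[k] A →ₗ[k] A :=
  (TensorProduct.rid k A).toLinearMap ∘ₗ LinearMap.lTensor A φ

theorem G_tmul (φ : Module.Dual k A) (u v : A) : G φ (u ⊗ₜ v) = φ v • u := by
  simp [G]

theorem G_mul_left (φ : Module.Dual k A) (c : A) (z : A ⊗[k] A) :
    G φ ((c ⊗ₜ 1) * z) = c * G φ z := by
  induction z using TensorProduct.induction_on with
  | zero => simp
  | tmul u v =>
    rw [Algebra.TensorProduct.tmul_mul_tmul, one_mul, G_tmul, G_tmul, mul_smul_comm]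
  | add x y hx hy => rw [mul_add, map_add, hx, hy, map_add, mul_add]

theorem G_comp_mulLeft (φ : Module.Dual k A) (a : A) (z : A ⊗[k] A) :
    G (φ ∘ₗ LinearMap.mulLeft k a) z = G φ ((1 ⊗ₜ a) * z) := by
  induction z using TensorProduct.induction_on with
  | zero => simp
  | tmul u v =>
    rw [Algebra.TensorProduct.tmul_mul_tmul, one_mul, G_tmul, G_tmul]
    rfl
  | add x y hx hy => rw [mul_add, map_add, hx, hy, map_add]

/-- `a ↦ Σ a₁ φ(a₂)`. -/
noncomputable def Q (φ : Module.Dual k A) : A →ₗ[k] A :=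
  G φ ∘ₗ CoalgebraStruct.comul (R := k)

theorem Q_counit : Q (counit (R := k) (A := A)) = LinearMap.id := by
  ext a
  simp [Q, G]

/-- `Q` as a linear map. -/
noncomputable def Qlin : Module.Dual k A →ₗ[k] (A →ₗ[k] A) where
  toFun φ := Q φ
  map_add' φ ψ := by
    ext a
    simp [Q, G, LinearMap.lTensor_add]
  map_smul' c φ := by
    ext a
    simp [Q, G, LinearMap.lTensor_smul]

/-- `u ⊗ v ↦ (S(u) ⊗ 1) Δ(v)`. -/
noncomputable def W : A ⊗[k] A →ₐ[k] A ⊗[k] A :=
  Algebra.TensorProduct.lift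
    ((Algebra.TensorProduct.includeLeft : A →ₐ[k] A ⊗[k] A).comp (HopfAlgebra.antipodeAlgHom k A))
    (Bialgebra.comulAlgHom k A) (fun _ _ => Commute.all _ _)

theorem W_tmul (u v : A) :
    W (k := k) (u ⊗ₜ v) = (HopfAlgebra.antipode k u ⊗ₜ 1) * CoalgebraStruct.comul (R := k) v := by
  simp [W]

/-- `Σ S(a₁) a₂ ⊗ a₃ = 1 ⊗ a`. -/
theorem W_comul (a : A) : W (CoalgebraStruct.comul (R := k) a) = (1 : A) ⊗ₜ[k] a := by
  let 𝓡 := Repr.arbitrary k a
  let a₁ := fun i => Repr.arbitrary k (𝓡.left i)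
  let a₂ := fun i => Repr.arbitrary k (𝓡.right i)
  have hco := sum_tmul_tmul_eq 𝓡 a₁ a₂
  let F : A ⊗[k] (A ⊗[k] A) →ₗ[k] A ⊗[k] A :=
    (TensorProduct.map ((LinearMap.mul' k A).comp
      (TensorProduct.map (HopfAlgebra.antipode k) LinearMap.id)) LinearMap.id).comp
      (TensorProduct.assoc k A A A).symm.toLinearMap
  have hF := congrArg F hco
  simp only [map_sum, F, LinearMap.comp_apply, LinearEquiv.coe_coe, TensorProduct.assoc_symm_tmul,
    TensorProduct.map_tmul, LinearMap.id_apply, LinearMap.mul'_apply] at hF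
  rw [← 𝓡.eq, map_sum]
  have h1 : ∀ i ∈ 𝓡.index, W (k := k) (𝓡.left i ⊗ₜ 𝓡.right i) =
      ∑ j ∈ (a₂ i).index, (HopfAlgebra.antipode k (𝓡.left i) * (a₂ i).left j) ⊗ₜ[k]
        (a₂ i).right j := by
    intro i _
    rw [W_tmul, ← (a₂ i).eq, Finset.mul_sum]
    refine Finset.sum_congr rfl fun j _ => ?_
    rw [Algebra.TensorProduct.tmul_mul_tmul, one_mul]
  rw [Finset.sum_congr rfl h1]
  -- the other side: apply `F' : u ⊗ (v ⊗ w) ↦ S(u) v ⊗ w`
  let F' : A ⊗[k] (A ⊗[k] A) →ₗ[k] A ⊗[k] A :=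
    (TensorProduct.map ((LinearMap.mul' k A).comp
      (TensorProduct.map (HopfAlgebra.antipode k) LinearMap.id)) LinearMap.id).comp
      (TensorProduct.assoc k A A A).symm.toLinearMap
  have hF' := congrArg F' hco
  simp only [map_sum, F', LinearMap.comp_apply, LinearEquiv.coe_coe, TensorProduct.assoc_symm_tmul,
    TensorProduct.map_tmul, LinearMap.id_apply, LinearMap.mul'_apply] at hF'
  rw [← hF']
  have h2 : ∀ i ∈ 𝓡.index, ∑ j ∈ (a₁ i).index,
      (HopfAlgebra.antipode k ((a₁ i).left j) * (a₁ i).right j) ⊗ₜ[k] 𝓡.right i =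
      (algebraMap k A (counit (𝓡.left i))) ⊗ₜ[k] 𝓡.right i := by
    intro i _
    rw [← TensorProduct.sum_tmul, HopfAlgebra.sum_antipode_mul_eq_algebraMap_counit]
  rw [Finset.sum_congr rfl h2]
  have h3 := sum_counit_tmul_eq 𝓡
  have h4 := congrArg (TensorProduct.map (Algebra.linearMap k A) (LinearMap.id : A →ₗ[k] A)) h3
  simp only [map_sum, TensorProduct.map_tmul, LinearMap.id_apply, Algebra.linearMap_apply,
    map_one] at h4
  exact h4

/-- `z ↦ (b ↦ G φ (W z * Δ b))`. -/
noncomputable def Xi (φ : Module.Dual k A) : A ⊗[k] A →ₗ[k] (A →ₗ[k] A) :=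
  (LinearMap.llcomp k A (A ⊗[k] A) A (G φ)) ∘ₗ
    (LinearMap.lcomp k (A ⊗[k] A) (CoalgebraStruct.comul (R := k) (A := A))) ∘ₗ
    (LinearMap.mul k (A ⊗[k] A)) ∘ₗ (W (k := k) (A := A)).toLinearMap

theorem Xi_apply (φ : Module.Dual k A) (z : A ⊗[k] A) (b : A) :
    Xi φ z b = G φ (W z * CoalgebraStruct.comul (R := k) b) := rfl

theorem Xi_tmul (φ : Module.Dual k A) (u v : A) :
    Xi φ (u ⊗ₜ v) = LinearMap.mulLeft k (HopfAlgebra.antipode k u) ∘ₗ Q φ ∘ₗ LinearMap.mulLeft k v := by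
  ext b
  rw [Xi_apply, W_tmul, mul_assoc, G_mul_left, ← Bialgebra.comul_mul]
  rfl

theorem Xi_comul (φ : Module.Dual k A) (a : A) :
    Xi φ (CoalgebraStruct.comul (R := k) a) = Q (φ ∘ₗ LinearMap.mulLeft k a) := by
  ext b
  rw [Xi_apply, W_comul]
  show _ = G (φ ∘ₗ LinearMap.mulLeft k a) (CoalgebraStruct.comul (R := k) b)
  rw [G_comp_mulLeft]

variable [Module.Free k A] [Module.Finite k A]

/-- `c ↦ Tr(L_c ∘ Q φ)`. -/
noncomputable def T (φ : Module.Dual k A) : A →ₗ[k] k :=
  LinearMap.trace k A ∘ₗ (LinearMap.lcomp k A (Q φ)) ∘ₗ (LinearMap.mul k A)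

theorem T_apply (φ : Module.Dual k A) (c : A) :
    T φ c = LinearMap.trace k A (LinearMap.mulLeft k c ∘ₗ Q φ) := rfl

theorem trace_Xi (φ : Module.Dual k A) (z : A ⊗[k] A) :
    LinearMap.trace k A (Xi φ z) =
      T φ (LinearMap.mul' k A (LinearMap.rTensor A (HopfAlgebra.antipode k) z)) := by
  induction z using TensorProduct.induction_on with
  | zero => simp
  | tmul u v =>
    rw [Xi_tmul, LinearMap.rTensor_tmul, LinearMap.mul'_apply, T_apply]
    have h1 : LinearMap.trace k A (LinearMap.mulLeft k (HopfAlgebra.antipode k u) ∘ₗ Q φ ∘ₗ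
        LinearMap.mulLeft k v) = LinearMap.trace k A (LinearMap.mulLeft k v ∘ₗ
        (LinearMap.mulLeft k (HopfAlgebra.antipode k u) ∘ₗ Q φ)) := by
      rw [← LinearMap.comp_assoc]
      exact LinearMap.trace_comp_comm' _ _
    rw [h1, ← LinearMap.comp_assoc]
    congr 2
    ext b
    simp [mul_comm, mul_assoc, mul_left_comm]
  | add x y hx hy => simp only [map_add, hx, hy]

theorem trace_Q_comp_mulLeft (φ : Module.Dual k A) (a : A) :
    LinearMap.trace k A (Q (φ ∘ₗ LinearMap.mulLeft k a)) =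
      counit (R := k) a * LinearMap.trace k A (Q φ) := by
  rw [← Xi_comul, trace_Xi, HopfAlgebra.mul_antipode_rTensor_comul_apply, T_apply]
  have : LinearMap.mulLeft k (algebraMap k A (counit (R := k) a)) ∘ₗ Q φ =
      (counit (R := k) a) • Q φ := by
    ext b
    simp [Algebra.smul_def]
  rw [this, map_smul, smul_eq_mul]

/-- The trace integral. -/
noncomputable def integral : A :=
  (Module.evalEquiv k A).symm (LinearMap.trace k A ∘ₗ Qlin)

theorem dual_apply_integral (φ : Module.Dual k A) :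
    φ (integral (k := k) (A := A)) = LinearMap.trace k A (Q φ) := by
  unfold integral
  rw [Module.apply_evalEquiv_symm_apply]
  rfl

theorem mul_integral (a : A) :
    a * integral (k := k) (A := A) = counit (R := k) a • integral (k := k) (A := A) := by
  rw [← sub_eq_zero, ← Module.forall_dual_apply_eq_zero_iff k]
  intro φ
  rw [map_sub, sub_eq_zero, map_smul, dual_apply_integral, smul_eq_mul, ← trace_Q_comp_mulLeft,
    ← dual_apply_integral]
  rfl

theorem counit_integral :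
    counit (R := k) (integral (k := k) (A := A)) = (Module.finrank k A : k) := by
  rw [dual_apply_integral, Q_counit]
  exact LinearMap.trace_id k A

end Groth.Agent.Lib.Helper6.HopfIntegral
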