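import Mathlib

set_option autoImplicit false
universe u v w

/-!
# A commutative Hopf algebra whose augmentation ideal is idempotent is formally unramified
-/

namespace Groth.Agent.Lib.Helper6.HopfUnram

open TensorProduct Coalgebra

variable {k : Type u} [CommRing k] {A : Type v} [CommRing A] [HopfAlgebra k A]

/-- `u ⊗ v ↦ S(u) v`. -/
noncomputable def mS : A ⊗[k] A →ₗ[k] A :=
  LinearMap.mul' k A ∘ₗ LinearMap.rTensor A (HopfAlgebra.antipode k)

theorem mS_tmul (u v : A) : mS (k := k) (u ⊗ₜ v) = HopfAlgebra.antipode k u * v := by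
  simp [mS]

theorem mS_comul (a : A) :
    mS (CoalgebraStruct.comul (R := k) a) = algebraMap k A (counit a) :=
  HopfAlgebra.mul_antipode_rTensor_comul_apply a

variable {M : Type w} [AddCommGroup M] [Module A M] [Module k M] [IsScalarTower k A M]

/-- the action map `A ⊗ M → M` -/
noncomputable def actM : A ⊗[k] M →ₗ[k] M :=
  TensorProduct.lift (Algebra.lsmul k k M).toLinearMap

theorem actM_tmul (a : A) (m : M) : actM (k := k) (a ⊗ₜ m) = a • m := rfl

/-- `u ⊗ v ↦ S(u) • D v`. -/
noncomputable def Phi (D : Derivation k A M) : A ⊗[k] A →ₗ[k] M :=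
  actM ∘ₗ TensorProduct.map (HopfAlgebra.antipode k) D.toLinearMap

theorem Phi_tmul (D : Derivation k A M) (u v : A) :
    Phi D (u ⊗ₜ v) = HopfAlgebra.antipode k u • D v := rfl

theorem Phi_mul (D : Derivation k A M) (z w : A ⊗[k] A) :
    Phi D (z * w) = mS z • Phi D w + mS w • Phi D z := by
  induction z using TensorProduct.induction_on with
  | zero => simp
  | add z₁ z₂ h₁ h₂ =>
    rw [add_mul, map_add, h₁, h₂, map_add, map_add, add_smul, smul_add]
    abel
  | tmul u v =>
    induction w using TensorProduct.induction_on with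
    | zero => simp
    | add w₁ w₂ h₁ h₂ =>
      rw [mul_add, map_add, h₁, h₂, map_add, map_add, add_smul, smul_add]
      abel
    | tmul u' v' =>
      rw [Algebra.TensorProduct.tmul_mul_tmul, Phi_tmul, Phi_tmul, Phi_tmul, mS_tmul, mS_tmul,
        HopfAlgebra.antipode_mul_distrib, Derivation.leibniz, smul_add, smul_smul, smul_smul,
        smul_smul, smul_smul]
      congr 1 <;> congr 1 <;> ring

/-- `θ(a) = Σ S(a₁) • D a₂`. -/
noncomputable def theta (D : Derivation k A M) : A →ₗ[k] M :=
  Phi D ∘ₗ CoalgebraStruct.comul (R := k)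

theorem theta_mul (D : Derivation k A M) (a b : A) :
    theta D (a * b) = (counit (R := k) a) • theta D b + (counit (R := k) b) • theta D a := by
  show Phi D (CoalgebraStruct.comul (R := k) (a * b)) = _
  rw [Bialgebra.comul_mul, Phi_mul, mS_comul, mS_comul, algebraMap_smul, algebraMap_smul]
  rfl

theorem theta_one (D : Derivation k A M) : theta D 1 = 0 := by
  show Phi D (CoalgebraStruct.comul (R := k) (1 : A)) = _
  rw [Bialgebra.comul_one, Algebra.TensorProduct.one_def, Phi_tmul, Derivation.map_one_eq_zero,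
    smul_zero]

/-- `D a = Σ a₁ • θ(a₂)`. -/
theorem D_eq (D : Derivation k A M) (a : A) :
    D a = actM (LinearMap.lTensor A (theta D) (CoalgebraStruct.comul (R := k) a)) := by
  let 𝓡 := Repr.arbitrary k a
  let a₁ := fun i => Repr.arbitrary k (𝓡.left i)
  let a₂ := fun i => Repr.arbitrary k (𝓡.right i)
  have hco := sum_tmul_tmul_eq 𝓡 a₁ a₂
  -- `u ⊗ (v ⊗ w) ↦ (u S(v)) • D w`
  let F : A ⊗[k] (A ⊗[k] A) →ₗ[k] M :=
    (actM (k := k) (A := A) (M := M)) ∘ₗ (TensorProduct.map ((LinearMap.mul' k A).comp
      (TensorProduct.map LinearMap.id (HopfAlgebra.antipode k))) D.toLinearMap) ∘ₗ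
      (TensorProduct.assoc k A A A).symm.toLinearMap
  have hF := congrArg F hco
  simp only [map_sum, F, LinearMap.comp_apply, LinearEquiv.coe_coe, TensorProduct.assoc_symm_tmul,
    TensorProduct.map_tmul, LinearMap.id_apply, LinearMap.mul'_apply, actM_tmul] at hF
  rw [← 𝓡.eq, map_sum, map_sum]
  have h1 : ∀ i ∈ 𝓡.index, actM (k := k) (LinearMap.lTensor A (theta D) (𝓡.left i ⊗ₜ 𝓡.right i)) =
      ∑ j ∈ (a₂ i).index, (𝓡.left i * HopfAlgebra.antipode k ((a₂ i).left j)) •
        D.toLinearMap ((a₂ i).right j) := by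
    intro i _
    rw [LinearMap.lTensor_tmul, actM_tmul]
    show 𝓡.left i • Phi D (CoalgebraStruct.comul (R := k) (𝓡.right i)) = _
    rw [← (a₂ i).eq, map_sum, Finset.smul_sum]
    refine Finset.sum_congr rfl fun j _ => ?_
    rw [Phi_tmul, smul_smul]
    rfl
  rw [Finset.sum_congr rfl h1, ← hF]
  have h2 : ∀ i ∈ 𝓡.index, ∑ j ∈ (a₁ i).index,
      ((a₁ i).left j * HopfAlgebra.antipode k ((a₁ i).right j)) • D.toLinearMap (𝓡.right i) =
      (counit (R := k) (𝓡.left i)) • D (𝓡.right i) := by
    intro i _
    rw [← Finset.sum_smul, HopfAlgebra.sum_mul_antipode_eq_algebraMap_counit, algebraMap_smul]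
    rfl
  rw [Finset.sum_congr rfl h2]
  have h3 := sum_counit_tmul_eq 𝓡
  have h4 := congrArg (TensorProduct.lift ((LinearMap.lsmul k M).flip.comp D.toLinearMap).flip) h3
  simp only [map_sum, TensorProduct.lift.tmul, LinearMap.flip_apply, LinearMap.comp_apply,
    LinearMap.lsmul_apply, one_smul] at h4
  exact h4.symm

/-- If the augmentation ideal is idempotent then every derivation vanishes. -/
theorem derivation_eq_zero
    (hI : RingHom.ker (Bialgebra.counitAlgHom k A) ^ 2 = RingHom.ker (Bialgebra.counitAlgHom k A))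
    (D : Derivation k A M) : D = 0 := by
  set I := RingHom.ker (Bialgebra.counitAlgHom k A) with hIdef
  have hθI : ∀ a ∈ I, theta D a = 0 := by
    intro a ha
    rw [← hI, pow_two] at ha
    refine Submodule.mul_induction_on ha ?_ ?_
    · intro x hx y hy
      rw [theta_mul]
      have hx' : counit (R := k) x = 0 := hx
      have hy' : counit (R := k) y = 0 := hy
      rw [hx', hy', zero_smul, zero_smul, add_zero]
    · intro x y hx hy
      rw [map_add, hx, hy, add_zero]
  have hθ : ∀ a : A, theta D a = 0 := by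
    intro a
    have h : a = (counit (R := k) a) • (1 : A) + (a - algebraMap k A (counit (R := k) a)) := by
      rw [Algebra.smul_def, mul_one]; ring
    rw [h, map_add, map_smul, theta_one, smul_zero, zero_add]
    apply hθI
    show Bialgebra.counitAlgHom k A _ = 0
    rw [map_sub, AlgHom.commutes, Algebra.algebraMap_self, RingHom.id_apply]
    exact sub_self _
  have hθ0 : theta D = 0 := LinearMap.ext hθ
  ext a
  rw [D_eq, hθ0, LinearMap.lTensor_zero, LinearMap.zero_apply, map_zero]
  rfl

/-- A commutative Hopf algebra with idempotent augmentation ideal is formally unramified. -/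
theorem formallyUnramified
    (hI : RingHom.ker (Bialgebra.counitAlgHom k A) ^ 2 = RingHom.ker (Bialgebra.counitAlgHom k A)) :
    Algebra.FormallyUnramified k A := by
  constructor
  have h0 := derivation_eq_zero hI (KaehlerDifferential.D k A)
  have htop := KaehlerDifferential.span_range_derivation k A
  rw [h0] at htop
  have hbot : (⊤ : Submodule A (Ω[A⁄k])) = ⊥ := by
    rw [← htop, Submodule.span_eq_bot]
    rintro _ ⟨a, rfl⟩
    rfl
  exact (Submodule.subsingleton_iff A).1 (subsingleton_of_bot_eq_top hbot.symm)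

end Groth.Agent.Lib.Helper6.HopfUnram
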