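import Mathlib
import Groth.Agent.Lib.Helper6.HopfUnram
import Groth.Agent.Lib.Helper6.HopfIntegral

set_option autoImplicit false
universe u v

/-!
# Étaleness criteria for finite commutative Hopf algebras
-/

namespace Groth.Agent.Lib.Helper6.HopfEtale

open TensorProduct Coalgebra

variable {k : Type u} [CommRing k] {A : Type v} [CommRing A] [HopfAlgebra k A]

/-- If the rank of a finite free commutative Hopf algebra is invertible, the augmentation ideal is
idempotent. -/
theorem augIdeal_sq_eq_of_isUnit_finrank [Module.Free k A] [Module.Finite k A]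
    (h : IsUnit (Module.finrank k A : k)) :
    RingHom.ker (Bialgebra.counitAlgHom k A) ^ 2 = RingHom.ker (Bialgebra.counitAlgHom k A) := by
  set I := RingHom.ker (Bialgebra.counitAlgHom k A) with hI
  apply le_antisymm (Ideal.pow_le_self (by norm_num))
  intro a ha
  obtain ⟨u, hu⟩ := h
  let x := HopfIntegral.integral (k := k) (A := A)
  let e : A := (↑u⁻¹ : k) • x
  have he : ∀ b : A, b * e = counit (R := k) b • e := by
    intro b
    show b * ((↑u⁻¹ : k) • x) = _
    rw [mul_smul_comm, HopfIntegral.mul_integral, smul_comm]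
  have hεe : counit (R := k) e = 1 := by
    show counit (R := k) ((↑u⁻¹ : k) • x) = 1
    rw [map_smul, HopfIntegral.counit_integral, ← hu, smul_eq_mul, Units.inv_mul]
  have h1e : (1 - e) ∈ I := by
    show Bialgebra.counitAlgHom k A (1 - e) = 0
    rw [map_sub, map_one]
    show 1 - counit (R := k) e = 0
    rw [hεe, sub_self]
  have ha0 : counit (R := k) a = 0 := ha
  have h2 : a = a * (1 - e) := by
    rw [mul_sub, mul_one, he, ha0, zero_smul, sub_zero]
  rw [h2, pow_two]
  exact Ideal.mul_mem_mul ha h1e

/-- A finite-dimensional commutative Hopf algebra over a field whose dimension is invertible in the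
field is étale. -/
theorem etale_of_finrank_ne_zero {K : Type u} [Field K] {B : Type v} [CommRing B] [HopfAlgebra K B]
    [Module.Finite K B] (h : (Module.finrank K B : K) ≠ 0) : Algebra.Etale K B := by
  have hI := augIdeal_sq_eq_of_isUnit_finrank (k := K) (A := B) (IsUnit.mk0 _ h)
  haveI : Algebra.FormallyUnramified K B := HopfUnram.formallyUnramified hI
  haveI : Algebra.FormallyEtale K B := Algebra.FormallyEtale.of_formallyUnramified_of_field K B
  haveI : Module.FinitePresentation K B := Module.finitePresentation_of_projective K B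
  exact ⟨inferInstance, inferInstance⟩

/-- A formally unramified commutative Hopf algebra has idempotent augmentation ideal. -/
theorem augIdeal_sq_eq_of_formallyUnramified [Algebra.FormallyUnramified k A] :
    RingHom.ker (Bialgebra.counitAlgHom k A) ^ 2 = RingHom.ker (Bialgebra.counitAlgHom k A) := by
  set I := RingHom.ker (Bialgebra.counitAlgHom k A) with hI
  apply le_antisymm (Ideal.pow_le_self (by norm_num))
  intro a ha
  have hle : I ^ 2 ≤ RingHom.ker (Bialgebra.counitAlgHom k A).toRingHom := Ideal.pow_le_self (by norm_num)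
  let f : A ⧸ I ^ 2 →+* k := Ideal.Quotient.lift (I ^ 2) (Bialgebra.counitAlgHom k A).toRingHom
    (fun x hx => hle hx)
  have hf : ∀ x : A, f (Ideal.Quotient.mk (I ^ 2) x) = Bialgebra.counitAlgHom k A x := fun x => rfl
  have hnil : IsNilpotent (RingHom.ker f) := by
    refine ⟨2, ?_⟩
    rw [Ideal.zero_eq_bot, eq_bot_iff, pow_two (RingHom.ker f), Ideal.mul_le]
    intro x hx y hy
    obtain ⟨x, rfl⟩ := Ideal.Quotient.mk_surjective x
    obtain ⟨y, rfl⟩ := Ideal.Quotient.mk_surjective y
    rw [RingHom.mem_ker, hf] at hx hy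
    rw [Ideal.mem_bot, ← map_mul, Ideal.Quotient.eq_zero_iff_mem, pow_two]
    exact Ideal.mul_mem_mul hx hy
  let g₁ : A →ₐ[k] A ⧸ I ^ 2 := Ideal.Quotient.mkₐ k (I ^ 2)
  let g₂ : A →ₐ[k] A ⧸ I ^ 2 := (Algebra.ofId k (A ⧸ I ^ 2)).comp (Bialgebra.counitAlgHom k A)
  have h12 : g₁ = g₂ := by
    apply Algebra.FormallyUnramified.ext' f hnil
    intro x
    show f (Ideal.Quotient.mk (I ^ 2) x) = f (algebraMap k (A ⧸ I ^ 2) (Bialgebra.counitAlgHom k A x))
    rw [hf]
    have : algebraMap k (A ⧸ I ^ 2) (Bialgebra.counitAlgHom k A x) =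
        Ideal.Quotient.mk (I ^ 2) (algebraMap k A (Bialgebra.counitAlgHom k A x)) := rfl
    rw [this, hf, AlgHom.commutes]
    rfl
  have h3 := DFunLike.congr_fun h12 a
  have h4 : g₂ a = 0 := by
    show algebraMap k (A ⧸ I ^ 2) (Bialgebra.counitAlgHom k A a) = 0
    have : Bialgebra.counitAlgHom k A a = 0 := ha
    rw [this, map_zero]
  rw [h4] at h3
  exact Ideal.Quotient.eq_zero_iff_mem.1 h3

/-- A finite projective commutative Hopf algebra is étale iff its augmentation ideal is
idempotent. -/
theorem etale_iff_augIdeal_sq [Module.Finite k A] [Module.Projective k A] :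
    Algebra.Etale k A ↔
      RingHom.ker (Bialgebra.counitAlgHom k A) ^ 2 = RingHom.ker (Bialgebra.counitAlgHom k A) := by
  constructor
  · intro h
    exact augIdeal_sq_eq_of_formallyUnramified
  · intro hI
    haveI : Algebra.FormallyUnramified k A := HopfUnram.formallyUnramified hI
    haveI : Module.FinitePresentation k A := Module.finitePresentation_of_projective k A
    exact Algebra.Etale.of_formallyUnramified_of_flat

end Groth.Agent.Lib.Helper6.HopfEtale
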