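import Groth.Agent.Lib.Helper22.SubComod
import Mathlib

/-!
# Coconnected bialgebras: the iterated reduced coproduct (helper6)

For a bialgebra `A` over a commutative ring `R` we define the iterated reduced coproducts
`D n : A → A^{⊗(n+1)}` (`D 0 a = a - ε(a)1`, `D (n+1) = (D n ⊗ D 0) ∘ Δ`) and say that `A` is
coconnected when every element is killed by some `D n`.  Over a field, this is equivalent to
unipotence.
-/

set_option autoImplicit false

namespace Groth.Agent.Helper6.CoConn

open TensorProduct

universe u v w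

section Defs

variable (R : Type u) [CommRing R] (A : Type v) [Ring A] [Bialgebra R A]

/-- projection onto the augmentation ideal: `a ↦ a - ε(a)1` -/
noncomputable def pr : A →ₗ[R] A :=
  LinearMap.id - (Algebra.linearMap R A) ∘ₗ (Coalgebra.counit (R := R) (A := A))

theorem pr_apply (a : A) : pr R A a = a - algebraMap R A (Coalgebra.counit (R := R) a) := rfl

@[simp] theorem pr_one : pr R A 1 = 0 := by
  rw [pr_apply, Bialgebra.counit_one, map_one, sub_self]

/-- left nested tensor powers `T n = A^{⊗(n+1)}` -/
noncomputable def T : ℕ → ModuleCat.{v} R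
  | 0 => ModuleCat.of R A
  | (n + 1) => ModuleCat.of R ((T n) ⊗[R] A)

/-- iterated reduced coproduct -/
noncomputable def D : (n : ℕ) → A →ₗ[R] T R A n
  | 0 => pr R A
  | (n + 1) => (TensorProduct.map (D n) (pr R A)) ∘ₗ (Coalgebra.comul (R := R) (A := A))

theorem D_zero : D R A 0 = pr R A := rfl

theorem D_succ (n : ℕ) :
    D R A (n + 1) = (TensorProduct.map (D R A n) (pr R A)) ∘ₗ
      (Coalgebra.comul (R := R) (A := A)) := rfl

theorem D_succ_apply (n : ℕ) (a : A) :
    D R A (n + 1) a =
      TensorProduct.map (D R A n) (pr R A) (Coalgebra.comul (R := R) a) := rfl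

theorem lTensor_D_succ (V : Type w) [AddCommGroup V] [Module R V] (n : ℕ) (x : V ⊗[R] A) :
    (D R A (n + 1)).lTensor V x =
      ((TensorProduct.map (D R A n) (pr R A)).lTensor V)
        ((Coalgebra.comul (R := R) (A := A)).lTensor V x) := by
  have h : (D R A (n + 1)).lTensor V =
      ((TensorProduct.map (D R A n) (pr R A)) ∘ₗ
        (Coalgebra.comul (R := R) (A := A))).lTensor V := rfl
  rw [h, LinearMap.lTensor_comp]
  rfl

/-- the maps `T n → T (n+1)` applying the reduced coproduct in the first factor -/
noncomputable def E : (n : ℕ) → T R A n →ₗ[R] T R A (n + 1)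
  | 0 => (TensorProduct.map (pr R A) (pr R A)) ∘ₗ (Coalgebra.comul (R := R) (A := A))
  | (n + 1) => (E n).rTensor A

theorem D_succ_eq_E_comp (n : ℕ) : D R A (n + 1) = E R A n ∘ₗ D R A n := by
  induction n with
  | zero =>
    apply LinearMap.ext
    intro a
    show TensorProduct.map (pr R A) (pr R A) (Coalgebra.comul (R := R) a) =
      TensorProduct.map (pr R A) (pr R A) (Coalgebra.comul (R := R) (pr R A a))
    rw [pr_apply, map_sub, map_sub, Algebra.algebraMap_eq_smul_one, map_smul, map_smul,
      Bialgebra.comul_one, Algebra.TensorProduct.one_def, TensorProduct.map_tmul, pr_one,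
      TensorProduct.zero_tmul, smul_zero, sub_zero]
  | succ n ih =>
    have key : (TensorProduct.map (D R A (n + 1)) (pr R A)) ∘ₗ
          (Coalgebra.comul (R := R) (A := A)) =
        ((E R A n).rTensor A) ∘ₗ ((TensorProduct.map (D R A n) (pr R A)) ∘ₗ
          (Coalgebra.comul (R := R) (A := A))) := by
      rw [ih, ← LinearMap.comp_assoc]
      congr 1
      apply TensorProduct.ext'
      intro x y
      simp
    exact key

theorem D_mono_succ {n : ℕ} {a : A} (h : D R A n a = 0) : D R A (n + 1) a = 0 := by
  rw [D_succ_eq_E_comp, LinearMap.comp_apply, h, map_zero]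

theorem D_mono {n m : ℕ} (hnm : n ≤ m) {a : A} (h : D R A n a = 0) : D R A m a = 0 := by
  induction m, hnm using Nat.le_induction with
  | base => exact h
  | succ m _ ih => exact D_mono_succ R A ih

/-- `A` is coconnected: every element is killed by an iterated reduced coproduct -/
def IsCoconn : Prop := ∀ a : A, ∃ n : ℕ, D R A n a = 0

end Defs

section Conv

variable {R : Type u} [CommRing R] {A : Type v} [Ring A] [Bialgebra R A]
variable {B : Type w} [Ring B] [Algebra R B]

/-- multiply out `f ⊗ … ⊗ f` on `T n` -/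
noncomputable def M (f : A →ₗ[R] B) : (n : ℕ) → T R A n →ₗ[R] B
  | 0 => f
  | (n + 1) => LinearMap.mul' R B ∘ₗ TensorProduct.map (M f n) f

theorem comp_pr_of_map_one {f : A →ₗ[R] B} (hf : f 1 = 0) : f ∘ₗ pr R A = f := by
  apply LinearMap.ext
  intro a
  rw [LinearMap.comp_apply, pr_apply, map_sub, Algebra.algebraMap_eq_smul_one, map_smul, hf,
    smul_zero, sub_zero]

theorem convPow_eq (f : WithConv (A →ₗ[R] B)) (hf : f.ofConv 1 = 0) (n : ℕ) :
    (f ^ (n + 1)).ofConv = M f.ofConv n ∘ₗ D R A n := by
  induction n with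
  | zero =>
    rw [zero_add, pow_one]
    exact (comp_pr_of_map_one hf).symm
  | succ n ih =>
    rw [pow_succ, LinearMap.convMul_def, WithConv.ofConv_toConv, ih]
    have h1 : M f.ofConv (n + 1) = LinearMap.mul' R B ∘ₗ TensorProduct.map (M f.ofConv n) f.ofConv :=
      rfl
    have h2 : TensorProduct.map (M f.ofConv n ∘ₗ D R A n) f.ofConv =
        TensorProduct.map (M f.ofConv n) f.ofConv ∘ₗ TensorProduct.map (D R A n) (pr R A) := by
      rw [← TensorProduct.map_comp, comp_pr_of_map_one hf]
    rw [h1, D_succ R A n, h2]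
    apply LinearMap.ext
    intro a
    rfl

theorem convPow_apply_eq_zero (f : WithConv (A →ₗ[R] B)) (hf : f.ofConv 1 = 0) {n : ℕ} {a : A}
    (ha : D R A n a = 0) : (f ^ (n + 1)).ofConv a = 0 := by
  rw [convPow_eq f hf n, LinearMap.comp_apply, ha, map_zero]

theorem convPow_apply_eq_zero_of_le (f : WithConv (A →ₗ[R] B)) (hf : f.ofConv 1 = 0) {n m : ℕ}
    (hnm : n < m) {a : A} (ha : D R A n a = 0) : (f ^ m).ofConv a = 0 := by
  obtain ⟨m', rfl⟩ : ∃ m', m = m' + 1 := ⟨m - 1, by omega⟩
  exact convPow_apply_eq_zero f hf (D_mono R A (by omega) ha)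

end Conv

section Field

variable (k : Type u) [Field k] (A : Type v) [CommRing A] [Bialgebra k A]

theorem isCoconn_of_isUnipotent (hU : HopfRep.IsUnipotent k A) : IsCoconn k A := by
  intro a
  set W : Submodule k A := Groth.Agent.Helper12.gen (k := k) (C := A) (V := A) a with hWdef
  have hWsub : HopfRep.IsSubcomod (k := k) (A := A) W := Groth.Agent.Helper12.gen_isSubcomod a
  haveI : Module.Finite k W := Groth.Agent.Helper12.gen_finite a
  letI : HopfRep.Comod k A W := Groth.Agent.Helper22.SubComod.subComod W hWsub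
  obtain ⟨m, F, hmono, h0, hm, hsub, htriv⟩ :=
    Groth.Agent.Helper12.hasTrivFlag_of_isUnipotent k A hU _ W rfl
  have key : ∀ i, ∀ w ∈ F i, D k A i ((w : W) : A) = 0 := by
    intro i
    induction i with
    | zero =>
      intro w hw
      rw [h0] at hw
      rw [(Submodule.mem_bot k).1 hw]
      simp
    | succ i ih =>
      intro w hw
      obtain ⟨z, hz⟩ := htriv i w hw
      have hL : (D k A i) ∘ₗ (W.subtype ∘ₗ (F i).subtype) = 0 := by
        apply LinearMap.ext
        intro x
        exact ih x.1 x.2
      have h1 := Groth.Agent.Helper22.SubComod.subComod_coact W hWsub w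
      have h2 : HopfRep.Comod.coact (k := k) (A := A) w =
          w ⊗ₜ[k] (1 : A) + (F i).subtype.rTensor A z := by
        rw [hz]; abel
      have hcomul : Coalgebra.comul (R := k) ((w : W) : A) =
          ((w : W) : A) ⊗ₜ[k] (1 : A) + (W.subtype ∘ₗ (F i).subtype).rTensor A z := by
        have h3 : HopfRep.Comod.coact (k := k) (A := A) ((w : W) : A) =
            Coalgebra.comul (R := k) ((w : W) : A) := rfl
        rw [← h3, ← h1, h2, map_add, LinearMap.rTensor_tmul, LinearMap.rTensor_comp,
          LinearMap.comp_apply]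
        rfl
      have h4 : TensorProduct.map (D k A i) (pr k A)
          ((W.subtype ∘ₗ (F i).subtype).rTensor A z) =
          TensorProduct.map (D k A i ∘ₗ (W.subtype ∘ₗ (F i).subtype)) (pr k A) z := by
        rw [LinearMap.rTensor, ← LinearMap.comp_apply, ← TensorProduct.map_comp,
          LinearMap.comp_id]
      rw [D_succ_apply, hcomul, map_add, TensorProduct.map_tmul, pr_one,
        TensorProduct.tmul_zero, zero_add, h4, hL, TensorProduct.map_zero_left]
      rfl
  have ha : (⟨a, Groth.Agent.Helper12.mem_gen a⟩ : W) ∈ F m := by rw [hm]; trivial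
  exact ⟨m, key m _ ha⟩

theorem isUnipotent_of_isCoconn (h : IsCoconn k A) : HopfRep.IsUnipotent k A := by
  classical
  intro V _ _ _ hfin hnt
  set ρ : V →ₗ[k] V ⊗[k] A := HopfRep.Comod.coact (k := k) (A := A) (V := V) with hρ
  have hfinite : ∀ x : V ⊗[k] A, ∃ n, ∀ m, n ≤ m → (D k A m).lTensor V x = 0 := by
    intro x
    induction x using TensorProduct.induction_on with
    | zero => exact ⟨0, fun m _ => map_zero _⟩
    | tmul v a =>
      obtain ⟨n, hn⟩ := h a
      exact ⟨n, fun m hm => by
        rw [LinearMap.lTensor_tmul, D_mono k A hm hn, TensorProduct.tmul_zero]⟩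
    | add x y hx hy =>
      obtain ⟨n1, h1⟩ := hx
      obtain ⟨n2, h2⟩ := hy
      exact ⟨max n1 n2, fun m hm => by
        rw [map_add, h1 m (le_trans (le_max_left _ _) hm),
          h2 m (le_trans (le_max_right _ _) hm), add_zero]⟩
  obtain ⟨v1, hv1⟩ := exists_ne (0 : V)
  have hex : ∃ n, ∃ v : V, v ≠ 0 ∧ (D k A n).lTensor V (ρ v) = 0 := by
    obtain ⟨n, hn⟩ := hfinite (ρ v1)
    exact ⟨n, v1, hv1, hn n le_rfl⟩
  obtain ⟨v₀, hv₀, hk⟩ := Nat.find_spec hex
  have hmin : ∀ n < Nat.find hex, ∀ v : V, (D k A n).lTensor V (ρ v) = 0 → v = 0 := by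
    intro n hn v hv
    by_contra hne
    exact Nat.find_min hex hn ⟨v, hne, hv⟩
  have hfix : (pr k A).lTensor V (ρ v₀) = 0 := by
    rcases Nat.eq_zero_or_pos (Nat.find hex) with h0 | hpos
    · rw [h0] at hk
      exact hk
    · obtain ⟨n, hn⟩ : ∃ n, Nat.find hex = n + 1 := ⟨Nat.find hex - 1, by omega⟩
      rw [hn] at hk
      let G : V →ₗ[k] V ⊗[k] (T k A n) := (D k A n).lTensor V ∘ₗ ρ
      have hG : Function.Injective G := by
        rw [← LinearMap.ker_eq_bot, LinearMap.ker_eq_bot']
        intro v hv
        exact hmin n (by omega) v hv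
      have hGi : Function.Injective (G.rTensor A) :=
        Module.Flat.rTensor_preserves_injective_linearMap _ hG
      apply hGi
      rw [map_zero]
      have e1 : (TensorProduct.assoc k V (T k A n) A).symm.toLinearMap ∘ₗ
          (TensorProduct.map (D k A n) (pr k A)).lTensor V ∘ₗ
          (TensorProduct.assoc k V A A).toLinearMap =
          TensorProduct.map ((D k A n).lTensor V) (pr k A) := by
        apply TensorProduct.ext_threefold
        intro v a b
        simp
      have hco := LinearMap.congr_fun (HopfRep.Comod.coassoc (k := k) (A := A) (V := V)) v₀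
      simp only [LinearMap.comp_apply] at hco
      have e2 : (D k A (n + 1)).lTensor V (ρ v₀) =
          (TensorProduct.map (D k A n) (pr k A)).lTensor V
            ((TensorProduct.assoc k V A A) (ρ.rTensor A (ρ v₀))) := by
        rw [lTensor_D_succ]
        congr 1
        exact hco.symm
      have e3 : G.rTensor A ((pr k A).lTensor V (ρ v₀)) =
          TensorProduct.map ((D k A n).lTensor V) (pr k A) (ρ.rTensor A (ρ v₀)) := by
        have e4 : G.rTensor A ∘ₗ (pr k A).lTensor V =
            TensorProduct.map ((D k A n).lTensor V) (pr k A) ∘ₗ ρ.rTensor A := by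
          apply TensorProduct.ext'
          intro v a
          simp [G]
        exact LinearMap.congr_fun e4 (ρ v₀)
      have e5 : (TensorProduct.map (D k A n) (pr k A)).lTensor V
            ((TensorProduct.assoc k V A A) (ρ.rTensor A (ρ v₀))) = 0 := e2.symm.trans hk
      rw [e3, ← e1]
      simp only [LinearMap.comp_apply, LinearEquiv.coe_coe]
      rw [e5, map_zero]
  have hρv : ρ v₀ = v₀ ⊗ₜ[k] (1 : A) := by
    have h1 : (pr k A).lTensor V (ρ v₀) = ρ v₀ -
        (Algebra.linearMap k A).lTensor V
          ((Coalgebra.counit (R := k) (A := A)).lTensor V (ρ v₀)) := by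
      unfold pr
      rw [LinearMap.lTensor_sub, LinearMap.sub_apply, LinearMap.lTensor_id, LinearMap.id_apply,
        LinearMap.lTensor_comp, LinearMap.comp_apply]
    have h2 := LinearMap.congr_fun (HopfRep.Comod.counit_comp (k := k) (A := A) (V := V)) v₀
    simp only [LinearMap.comp_apply, LinearMap.flip_apply, TensorProduct.mk_apply] at h2
    rw [hfix] at h1
    have h3 : ρ v₀ = (Algebra.linearMap k A).lTensor V
          ((Coalgebra.counit (R := k) (A := A)).lTensor V (ρ v₀)) := by
      exact sub_eq_zero.1 h1.symm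
    rw [h3, hρ, h2, LinearMap.lTensor_tmul, Algebra.linearMap_apply, map_one]
  intro hbot
  have hmem : v₀ ∈ HopfRep.fixedPts k A V := hρv
  rw [hbot] at hmem
  exact hv₀ ((Submodule.mem_bot k).1 hmem)

end Field

end Groth.Agent.Helper6.CoConn
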