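import Mathlib

set_option autoImplicit false
universe u v w

/-!
# Hopf ideals generated by a set; principal Hopf ideals from primitive and group-like elements
-/

namespace Groth.Agent.Lib.Helper6.HopfIdealSpan

open TensorProduct

variable {R : Type u} [CommRing R] {A : Type v} [CommRing A] [HopfAlgebra R A]

/-- `(π ⊗ π) ∘ Δ` -/
noncomputable def Psi (I : Ideal A) : A →ₐ[R] (A ⧸ I) ⊗[R] (A ⧸ I) :=
  (Algebra.TensorProduct.map (Ideal.Quotient.mkₐ R I) (Ideal.Quotient.mkₐ R I)).comp
    (Bialgebra.comulAlgHom R A)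

theorem Psi_apply (I : Ideal A) (a : A) :
    Psi (R := R) I a = Algebra.TensorProduct.map (Ideal.Quotient.mkₐ R I) (Ideal.Quotient.mkₐ R I)
      (CoalgebraStruct.comul (R := R) a) := rfl

theorem isHopfIdeal_of_le (I : Ideal A) (h1 : I ≤ RingHom.ker (Bialgebra.counitAlgHom R A))
    (h2 : I ≤ RingHom.ker (Psi (R := R) I))
    (h3 : I ≤ I.comap (HopfAlgebra.antipodeAlgHom R A)) : I.IsHopfIdeal R where
  counit_eq_zero := by
    intro x hx
    exact h1 hx
  map_mkQ_comul_eq_zero := by
    intro x hx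
    exact h2 hx
  antipode_mem := by
    intro x hx
    exact h3 hx

theorem isHopfIdeal_span (S : Set A) (h1 : ∀ s ∈ S, Bialgebra.counitAlgHom R A s = 0)
    (h2 : ∀ s ∈ S, Psi (R := R) (Ideal.span S) s = 0)
    (h3 : ∀ s ∈ S, HopfAlgebra.antipodeAlgHom R A s ∈ Ideal.span S) :
    (Ideal.span S).IsHopfIdeal R := by
  apply isHopfIdeal_of_le
  · rw [Ideal.span_le]
    intro s hs
    exact h1 s hs
  · rw [Ideal.span_le]
    intro s hs
    exact h2 s hs
  · rw [Ideal.span_le]
    intro s hs
    exact h3 s hs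

/-- a primitive element is killed by the counit -/
theorem counit_eq_zero_of_primitive (x : A)
    (hx : CoalgebraStruct.comul (R := R) x = x ⊗ₜ[R] (1 : A) + (1 : A) ⊗ₜ[R] x) :
    Coalgebra.counit (R := R) x = 0 := by
  have h := Coalgebra.rTensor_counit_comul (R := R) x
  rw [hx, map_add, LinearMap.rTensor_tmul, LinearMap.rTensor_tmul, Bialgebra.counit_one] at h
  have h2 : (Coalgebra.counit (R := R) x) ⊗ₜ[R] (1 : A) = 0 := by
    have := add_eq_right.1 h
    exact this
  have h3 := congrArg (TensorProduct.lid R A) h2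
  rw [TensorProduct.lid_tmul, map_zero] at h3
  have h4 := congrArg (Coalgebra.counit (R := R)) h3
  rw [map_smul, Bialgebra.counit_one, smul_eq_mul, mul_one, map_zero] at h4
  exact h4

/-- the antipode of a primitive element -/
theorem antipode_of_primitive (x : A)
    (hx : CoalgebraStruct.comul (R := R) x = x ⊗ₜ[R] (1 : A) + (1 : A) ⊗ₜ[R] x) :
    HopfAlgebraStruct.antipode R x = -x := by
  have h := HopfAlgebra.mul_antipode_rTensor_comul_apply (R := R) x
  rw [hx, map_add, LinearMap.rTensor_tmul, LinearMap.rTensor_tmul, map_add,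
    LinearMap.mul'_apply, LinearMap.mul'_apply, HopfAlgebra.antipode_one,
    counit_eq_zero_of_primitive x hx, map_zero, mul_one, one_mul] at h
  exact eq_neg_of_add_eq_zero_left h

theorem isHopfIdeal_span_primitive (x : A)
    (hx : CoalgebraStruct.comul (R := R) x = x ⊗ₜ[R] (1 : A) + (1 : A) ⊗ₜ[R] x) :
    (Ideal.span ({x} : Set A)).IsHopfIdeal R := by
  have hmk : Ideal.Quotient.mk (Ideal.span ({x} : Set A)) x = 0 :=
    Ideal.Quotient.eq_zero_iff_mem.2 (Ideal.subset_span rfl)
  apply isHopfIdeal_span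
  · rintro s rfl
    exact counit_eq_zero_of_primitive s hx
  · rintro s rfl
    rw [Psi_apply, hx, map_add, Algebra.TensorProduct.map_tmul, Algebra.TensorProduct.map_tmul]
    show (Ideal.Quotient.mk _ s) ⊗ₜ[R] _ + _ ⊗ₜ[R] (Ideal.Quotient.mk _ s) = 0
    rw [hmk, zero_tmul, tmul_zero, add_zero]
  · rintro s rfl
    show HopfAlgebraStruct.antipode R s ∈ _
    rw [antipode_of_primitive s hx]
    exact Ideal.neg_mem_iff _ |>.2 (Ideal.subset_span rfl)

theorem isHopfIdeal_span_groupLike_sub_one (g : A) (hg : IsGroupLikeElem R g) :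
    (Ideal.span ({g - 1} : Set A)).IsHopfIdeal R := by
  have hmk : Ideal.Quotient.mk (Ideal.span ({g - 1} : Set A)) g = 1 := by
    rw [← map_one (Ideal.Quotient.mk (Ideal.span ({g - 1} : Set A))), Ideal.Quotient.eq]
    exact Ideal.subset_span rfl
  apply isHopfIdeal_span
  · rintro s rfl
    rw [map_sub, map_one]
    show Coalgebra.counit (R := R) g - 1 = 0
    rw [hg.counit_eq_one, sub_self]
  · rintro s rfl
    rw [map_sub, map_one, Psi_apply, hg.comul_eq_tmul_self, Algebra.TensorProduct.map_tmul]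
    show (Ideal.Quotient.mk _ g) ⊗ₜ[R] (Ideal.Quotient.mk _ g) - 1 = 0
    rw [hmk, Algebra.TensorProduct.one_def, sub_self]
  · rintro s rfl
    rw [map_sub, map_one]
    show HopfAlgebraStruct.antipode R g - 1 ∈ _
    have h1 : HopfAlgebraStruct.antipode R g - 1 =
        -(HopfAlgebraStruct.antipode R g) * (g - 1) := by
      have := hg.antipode_mul_cancel
      linear_combination (1 : A) * this
    rw [h1]
    exact Ideal.mul_mem_left _ _ (Ideal.subset_span rfl)

end Groth.Agent.Lib.Helper6.HopfIdealSpan
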