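import Mathlib

set_option autoImplicit false
universe u v w

/-!
# Idempotents of `Q ⊗ P` congruent to `1` modulo the augmentation ideal of a local ring `Q`
-/

namespace Groth.Agent.Lib.Helper6.IdemLocal

open TensorProduct

section

variable {R : Type u} [CommRing R] [Nontrivial R] {Q : Type v} [CommRing Q] [Algebra R Q]
  [IsLocalRing Q] {P : Type w} [CommRing P] [Algebra R P] [Module.Finite R P]

/-- the extension of a proper ideal of the local ring `Q` lies in the Jacobson radical of
`Q ⊗ P` when `P` is finite. -/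
theorem map_le_jacobson (I : Ideal Q) (hI : I ≠ ⊤) :
    I.map (algebraMap Q (Q ⊗[R] P)) ≤ Ideal.jacobson ⊥ := by
  rw [Ideal.jacobson, le_sInf_iff]
  rintro M ⟨-, hM⟩
  haveI := hM
  have hc : (M.comap (algebraMap Q (Q ⊗[R] P))).IsMaximal :=
    Ideal.isMaximal_comap_of_isIntegral_of_isMaximal M
  have hc2 : M.comap (algebraMap Q (Q ⊗[R] P)) = IsLocalRing.maximalIdeal Q :=
    IsLocalRing.eq_maximalIdeal hc
  rw [Ideal.map_le_iff_le_comap, hc2]
  exact IsLocalRing.le_maximalIdeal hI

theorem sub_mem_map (ε : Q →ₐ[R] R) (t : Q ⊗[R] P) :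
    t - Algebra.TensorProduct.map ((Algebra.ofId R Q).comp ε) (AlgHom.id R P) t ∈
      (RingHom.ker ε).map (algebraMap Q (Q ⊗[R] P)) := by
  induction t using TensorProduct.induction_on with
  | zero => simp
  | tmul q p =>
    rw [Algebra.TensorProduct.map_tmul, AlgHom.id_apply, ← TensorProduct.sub_tmul]
    have h1 : (q - (Algebra.ofId R Q).comp ε q) ∈ RingHom.ker ε := by
      rw [RingHom.mem_ker, map_sub, AlgHom.comp_apply, Algebra.ofId_apply, AlgHom.commutes]
      exact sub_self _
    have h2 : ((q - (Algebra.ofId R Q).comp ε q) ⊗ₜ[R] p : Q ⊗[R] P) =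
        algebraMap Q (Q ⊗[R] P) (q - (Algebra.ofId R Q).comp ε q) * ((1 : Q) ⊗ₜ[R] p) := by
      rw [Algebra.TensorProduct.algebraMap_apply, Algebra.TensorProduct.tmul_mul_tmul, one_mul,
        Algebra.algebraMap_self, RingHom.id_apply, mul_one]
    rw [h2]
    exact Ideal.mul_mem_right _ _ (Ideal.mem_map_of_mem _ h1)
  | add x y hx hy =>
    have : x + y - Algebra.TensorProduct.map ((Algebra.ofId R Q).comp ε) (AlgHom.id R P) (x + y) =
        (x - Algebra.TensorProduct.map ((Algebra.ofId R Q).comp ε) (AlgHom.id R P) x) +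
        (y - Algebra.TensorProduct.map ((Algebra.ofId R Q).comp ε) (AlgHom.id R P) y) := by
      rw [map_add]; ring
    rw [this]
    exact Ideal.add_mem _ hx hy

theorem map_comp_eq (ε : Q →ₐ[R] R) (t : Q ⊗[R] P) :
    Algebra.TensorProduct.map ((Algebra.ofId R Q).comp ε) (AlgHom.id R P) t =
      Algebra.TensorProduct.map (Algebra.ofId R Q) (AlgHom.id R P)
        (Algebra.TensorProduct.map ε (AlgHom.id R P) t) := by
  induction t using TensorProduct.induction_on with
  | zero => simp
  | tmul q p => rfl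
  | add x y hx hy => simp only [map_add, hx, hy]

/-- an idempotent of `Q ⊗ P` which becomes `1` under `ε ⊗ id` is `1`. -/
theorem eq_one_of_isIdempotentElem (ε : Q →ₐ[R] R) (u : Q ⊗[R] P) (hu : IsIdempotentElem u)
    (h1 : Algebra.TensorProduct.map ε (AlgHom.id R P) u = 1) : u = 1 := by
  have hne : RingHom.ker ε ≠ ⊤ := by
    intro htop
    have h2 : (1 : Q) ∈ RingHom.ker ε := by rw [htop]; exact Submodule.mem_top
    rw [RingHom.mem_ker, map_one] at h2
    exact one_ne_zero h2
  have hmem : 1 - u ∈ Ideal.jacobson (⊥ : Ideal (Q ⊗[R] P)) := by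
    apply map_le_jacobson (RingHom.ker ε) hne
    have h3 := sub_mem_map ε (1 - u)
    rw [map_comp_eq, map_sub, map_one, h1, sub_self, map_zero, sub_zero] at h3
    exact h3
  rw [Ideal.mem_jacobson_bot] at hmem
  have h4 := hmem (-1)
  have h5 : (1 - u) * -1 + 1 = u := by ring
  rw [h5] at h4
  have h6 : u * (1 - u) = 0 := by
    have : u * (1 - u) = u - u * u := by ring
    rw [this, hu.eq, sub_self]
  have h7 : 1 - u = 0 := by
    rw [← h4.mul_right_eq_zero]
    exact h6
  exact (sub_eq_zero.1 h7).symm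

end

end Groth.Agent.Lib.Helper6.IdemLocal
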