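import Mathlib
import Groth.Agent.Lib.Helper6.IdemLocal

set_option autoImplicit false
universe u v w

/-!
# The unit component of a finite group scheme over a local base is a closed subgroup scheme
-/

namespace Groth.Agent.Lib.Helper6.UnitComp

open TensorProduct

theorem idem_eq_zero_or_one {Q : Type*} [CommRing Q] [IsLocalRing Q] (x : Q)
    (hx : IsIdempotentElem x) : x = 0 ∨ x = 1 := by
  have h0 : x * (1 - x) = 0 := by
    have : x * (1 - x) = x - x * x := by ring
    rw [this, hx.eq, sub_self]
  rcases IsLocalRing.isUnit_or_isUnit_one_sub_self x with h | h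
  · right
    have : 1 - x = 0 := by rw [← h.mul_right_eq_zero]; exact h0
    exact (sub_eq_zero.1 this).symm
  · left
    rw [← h.mul_left_eq_zero]; exact h0

section

variable {R : Type u} [CommRing R] [Nontrivial R] {A : Type v} [CommRing A] [HopfAlgebra R A]
  (e : A)

theorem span_le_ker (hε : Bialgebra.counitAlgHom R A e = 1) :
    Ideal.span ({1 - e} : Set A) ≤ RingHom.ker (Bialgebra.counitAlgHom R A) := by
  rw [Ideal.span_le, Set.singleton_subset_iff, SetLike.mem_coe, RingHom.mem_ker, map_sub, map_one,
    hε, sub_self]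

/-- the induced counit on the unit component -/
noncomputable def counitBar (hε : Bialgebra.counitAlgHom R A e = 1) :
    A ⧸ Ideal.span ({1 - e} : Set A) →ₐ[R] R :=
  Ideal.Quotient.liftₐ _ (Bialgebra.counitAlgHom R A) (fun a ha => span_le_ker e hε ha)

theorem counitBar_mk (hε : Bialgebra.counitAlgHom R A e = 1) (a : A) :
    counitBar e hε (Ideal.Quotient.mk _ a) = Bialgebra.counitAlgHom R A a := rfl

theorem mk_e : Ideal.Quotient.mk (Ideal.span ({1 - e} : Set A)) e = 1 := by
  rw [← map_one (Ideal.Quotient.mk (Ideal.span ({1 - e} : Set A))), eq_comm, Ideal.Quotient.eq]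
  exact Ideal.subset_span rfl

/-- `(π ⊗ π) ∘ Δ` -/
noncomputable def Psi : A →ₐ[R]
    (A ⧸ Ideal.span ({1 - e} : Set A)) ⊗[R] (A ⧸ Ideal.span ({1 - e} : Set A)) :=
  (Algebra.TensorProduct.map (Ideal.Quotient.mkₐ R (Ideal.span ({1 - e} : Set A)))
    (Ideal.Quotient.mkₐ R (Ideal.span ({1 - e} : Set A)))).comp (Bialgebra.comulAlgHom R A)

theorem map_counit_comul (a : A) :
    Algebra.TensorProduct.map (Bialgebra.counitAlgHom R A) (AlgHom.id R A)
      (CoalgebraStruct.comul (R := R) a) = (1 : R) ⊗ₜ[R] a := by
  have h : ∀ z : A ⊗[R] A,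
      Algebra.TensorProduct.map (Bialgebra.counitAlgHom R A) (AlgHom.id R A) z =
        LinearMap.rTensor A (CoalgebraStruct.counit (R := R) (A := A)) z := by
    intro z
    induction z using TensorProduct.induction_on with
    | zero => simp
    | tmul x y => rfl
    | add x y hx hy => simp only [map_add, hx, hy]
  rw [h, Coalgebra.rTensor_counit_comul]

theorem map_counitBar_Psi (hε : Bialgebra.counitAlgHom R A e = 1) (a : A) :
    Algebra.TensorProduct.map (counitBar e hε) (AlgHom.id R (A ⧸ Ideal.span ({1 - e} : Set A)))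
      (Psi (R := R) e a) = (1 : R) ⊗ₜ[R] Ideal.Quotient.mk _ a := by
  have h : ∀ z : A ⊗[R] A,
      Algebra.TensorProduct.map (counitBar e hε)
        (AlgHom.id R (A ⧸ Ideal.span ({1 - e} : Set A)))
        (Algebra.TensorProduct.map (Ideal.Quotient.mkₐ R (Ideal.span ({1 - e} : Set A)))
          (Ideal.Quotient.mkₐ R (Ideal.span ({1 - e} : Set A))) z) =
      Algebra.TensorProduct.map (AlgHom.id R R)
        (Ideal.Quotient.mkₐ R (Ideal.span ({1 - e} : Set A)))
        (Algebra.TensorProduct.map (Bialgebra.counitAlgHom R A) (AlgHom.id R A) z) := by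
    intro z
    induction z using TensorProduct.induction_on with
    | zero => simp
    | tmul x y => rfl
    | add x y hx hy => simp only [map_add, hx, hy]
  show Algebra.TensorProduct.map (counitBar e hε) _
    (Algebra.TensorProduct.map _ _ (CoalgebraStruct.comul (R := R) a)) = _
  rw [h, map_counit_comul, Algebra.TensorProduct.map_tmul]
  rfl

variable [Module.Finite R A] [IsLocalRing (A ⧸ Ideal.span ({1 - e} : Set A))]

theorem Psi_e (he : IsIdempotentElem e) (hε : Bialgebra.counitAlgHom R A e = 1) :
    Psi (R := R) e e = 1 := by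
  apply IdemLocal.eq_one_of_isIdempotentElem (counitBar e hε)
  · exact he.map (Psi (R := R) e)
  · rw [map_counitBar_Psi, mk_e, Algebra.TensorProduct.one_def]

/-- The ideal of the unit component is a Hopf ideal. -/
theorem isHopfIdeal (he : IsIdempotentElem e) (hε : Bialgebra.counitAlgHom R A e = 1) :
    (Ideal.span ({1 - e} : Set A)).IsHopfIdeal R where
  counit_eq_zero := by
    intro x hx
    exact span_le_ker e hε hx
  map_mkQ_comul_eq_zero := by
    intro x hx
    have hle : Ideal.span ({1 - e} : Set A) ≤ RingHom.ker (Psi (R := R) e) := by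
      rw [Ideal.span_le, Set.singleton_subset_iff, SetLike.mem_coe, RingHom.mem_ker, map_sub,
        map_one, Psi_e e he hε, sub_self]
    exact hle hx
  antipode_mem := by
    intro x hx
    have hle : Ideal.span ({1 - e} : Set A) ≤
        (Ideal.span ({1 - e} : Set A)).comap (HopfAlgebra.antipodeAlgHom R A) := by
      rw [Ideal.span_le, Set.singleton_subset_iff, SetLike.mem_coe, Ideal.mem_comap, map_sub,
        map_one, ← Ideal.Quotient.eq]
      have hid : IsIdempotentElem (Ideal.Quotient.mk (Ideal.span ({1 - e} : Set A))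
          (HopfAlgebra.antipodeAlgHom R A e)) :=
        (he.map (HopfAlgebra.antipodeAlgHom R A)).map (Ideal.Quotient.mk _)
      rcases idem_eq_zero_or_one _ hid with h0 | h1
      · exfalso
        have h2 := congrArg (counitBar e hε) h0
        rw [counitBar_mk, map_zero] at h2
        have h3 : Bialgebra.counitAlgHom R A (HopfAlgebra.antipodeAlgHom R A e) =
            Bialgebra.counitAlgHom R A e := HopfAlgebra.counit_antipode e
        rw [h3, hε] at h2
        exact one_ne_zero h2
      · rw [map_one]; exact h1.symm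
    exact hle hx

end

end Groth.Agent.Lib.Helper6.UnitComp
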