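import Groth.Agent.Lib.Helper6.MT1
import Mathlib

/-!
# Groups of multiplicative type over a field (helper6), part 2: closed subgroups of groups of
multiplicative type over a field are of multiplicative type.
-/

set_option autoImplicit false

namespace Groth.Agent.Helper6.MT

open TensorProduct

universe u

section Surj

variable {R : Type*} [CommRing R] {S : Type*} [CommRing S] [Algebra R S]
  {X Y : Type*} [CommRing X] [Bialgebra R X] [CommRing Y] [Bialgebra R Y]

theorem map_id_surjective (g : X →ₐc[R] Y) (hg : Function.Surjective g) :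
    Function.Surjective
      (Bialgebra.TensorProduct.map (BialgHom.id S S) g : S ⊗[R] X →ₐc[S] S ⊗[R] Y) := by
  intro y
  induction y using TensorProduct.induction_on with
  | zero => exact ⟨0, map_zero _⟩
  | tmul c q =>
    obtain ⟨x, rfl⟩ := hg q
    exact ⟨c ⊗ₜ[R] x, rfl⟩
  | add y z hy hz =>
    obtain ⟨y', rfl⟩ := hy
    obtain ⟨z', rfl⟩ := hz
    exact ⟨y' + z', map_add _ y' z'⟩

end Surj

section Field

variable {k : Type u} [Field k]

theorem exists_ne_zero_of_span_eq_top (s : Set k) (hs : Ideal.span s = ⊤) : ∃ f ∈ s, f ≠ 0 := by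
  by_contra hcon
  have h0 : ∀ f ∈ s, f = 0 := fun f hf => by
    by_contra hne
    exact hcon ⟨f, hf, hne⟩
  have hle : Ideal.span s ≤ ⊥ := by
    rw [Ideal.span_le]
    intro f hf
    rw [h0 f hf]
    exact Submodule.zero_mem _
  rw [hs] at hle
  exact absurd (le_bot_iff.1 hle) top_ne_bot

theorem isField_away {f : k} (hf : f ≠ 0) : IsField (Localization.Away f) :=
  MulEquiv.isField (Field.toIsField k)
    (IsLocalization.atUnit k (Localization.Away f) f (isUnit_iff_ne_zero.2 hf)).symm.toMulEquiv

theorem faithfullyFlat_of_isField {F : Type*} [CommRing F] (hF : IsField F) (V : Type*)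
    [AddCommGroup V] [Module F V] [Nontrivial V] : Module.FaithfullyFlat F V := by
  letI := hF.toField
  exact inferInstance

/-- the key transfer: diagonalizable after a base change `F → R'`, hence after `F → R' → K` for a
field `K`, and then so are quotients -/
theorem isDiagonalizable_of_equiv_of_surjective
    {F : Type*} [CommRing F] {R' : Type*} [CommRing R'] [Algebra F R']
    {K : Type*} [Field K] [Algebra R' K] [Algebra F K] [IsScalarTower F R' K]
    {Y Y' : Type*} [CommRing Y] [Bialgebra F Y] [CommRing Y'] [Bialgebra F Y']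
    {M : Type*} [CommGroup M] (e : R' ⊗[F] Y ≃ₐc[R'] MonoidAlgebra R' M)
    (g : Y →ₐc[F] Y') (hg : Function.Surjective g) :
    HopfRep.IsDiagonalizable K (K ⊗[F] Y') := by
  have h1 := span_groupLike_eq_top_of_surjective
      (e.symm : MonoidAlgebra R' M →ₐc[R'] R' ⊗[F] Y)
      e.symm.surjective MonoidAlgebra.span_isGroupLikeElem
  have h2 := span_groupLike_baseChange (R := R') K (X := R' ⊗[F] Y) h1
  have h3 := span_groupLike_eq_top_of_surjective
    (cancelBC F R' K Y : K ⊗[R'] (R' ⊗[F] Y) →ₐc[K] K ⊗[F] Y)
    (cancelBC_surjective F R' K Y) h2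
  have hπ := map_id_surjective (S := K) g hg
  exact span_groupLike_eq_top_of_surjective _ hπ h3

theorem isDiag_of_isDiagonalizable {K : Type u} [Field K] {D : Type u} [CommRing D]
    [HopfAlgebra K D] (h : HopfRep.IsDiagonalizable K D) : SGA3b.IsDiag K D :=
  ⟨GroupLike K D, inferInstance, ⟨Groth.Agent.Helper6.Uni.diagEquiv h⟩⟩

theorem isDiag_of_equiv_of_surjective
    {F : Type u} [CommRing F] {R' : Type u} [CommRing R'] [Algebra F R']
    {K : Type u} [Field K] [Algebra R' K] [Algebra F K] [IsScalarTower F R' K]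
    {Y Y' : Type u} [CommRing Y] [HopfAlgebra F Y] [CommRing Y'] [HopfAlgebra F Y']
    {M : Type u} [CommGroup M] (e : R' ⊗[F] Y ≃ₐc[R'] MonoidAlgebra R' M)
    (g : Y →ₐc[F] Y') (hg : Function.Surjective g) :
    SGA3b.IsDiag K (K ⊗[F] Y') :=
  isDiag_of_isDiagonalizable (isDiagonalizable_of_equiv_of_surjective e g hg)

/-- over a field, closed subgroups of groups of multiplicative type are of multiplicative type -/
theorem quotient_isMultType_of_field (A : Type u) [CommRing A] [HopfAlgebra k A]
    (h : SGA3b.IsMultType k A) (J : Ideal A) [J.IsHopfIdeal k] : SGA3b.IsMultType k (A ⧸ J) := by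
  obtain ⟨s, hs, hall⟩ := h
  obtain ⟨f, hfs, hf⟩ := exists_ne_zero_of_span_eq_top s hs
  obtain ⟨R', instR', instAlg, hff, M, instM, ⟨e⟩⟩ := hall f hfs
  have hfield : IsField (Localization.Away f) := isField_away hf
  haveI : Nontrivial (Localization.Away f) := hfield.nontrivial
  haveI : Nontrivial R' :=
    (FaithfulSMul.algebraMap_injective (Localization.Away f) R').nontrivial
  obtain ⟨m, hm⟩ := Ideal.exists_maximal R'
  haveI := hm
  refine ⟨{f}, Ideal.span_singleton_eq_top.2 (isUnit_iff_ne_zero.2 hf), ?_⟩
  intro f' hf'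
  rw [Set.mem_singleton_iff] at hf'
  subst hf'
  have hπ1 : Function.Surjective
      (Bialgebra.TensorProduct.map (BialgHom.id (Localization.Away f') (Localization.Away f'))
        (Bialgebra.Quotient.mkBialgHom J) :
        Localization.Away f' ⊗[k] A →ₐc[Localization.Away f'] Localization.Away f' ⊗[k] (A ⧸ J)) :=
    map_id_surjective _ Ideal.Quotient.mk_surjective
  have hff' : Module.FaithfullyFlat (Localization.Away f') m.ResidueField :=
    faithfullyFlat_of_isField hfield _
  refine ⟨m.ResidueField, inferInstance, inferInstance, hff', ?_⟩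
  exact isDiag_of_equiv_of_surjective e _ hπ1

end Field

end Groth.Agent.Helper6.MT
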