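import Groth.Agent.Lib.Helper6.CoConn
import Mathlib

/-!
# Base change of the iterated reduced coproduct (helper6)
-/

set_option autoImplicit false

namespace Groth.Agent.Helper6.CoConn

open TensorProduct

universe u u' v

section BC

variable (R : Type u) [CommRing R] (R' : Type u') [CommRing R'] [Algebra R R']
variable (A : Type v) [Ring A] [Bialgebra R A]

/-- comparison isomorphism `R' ⊗ T_n(A) ≃ T_n(R' ⊗ A)` -/
noncomputable def θ : (n : ℕ) → R' ⊗[R] (T R A n) ≃ₗ[R'] T R' (R' ⊗[R] A) n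
  | 0 => LinearEquiv.refl R' (R' ⊗[R] A)
  | (n + 1) => (AlgebraTensorModule.distribBaseChange R R' (T R A n) A) ≪≫ₗ
      (TensorProduct.congr (θ n) (LinearEquiv.refl R' (R' ⊗[R] A)))

theorem θ_succ_tmul (n : ℕ) (t : T R A n) (a : A) :
    θ R R' A (n + 1) ((1 : R') ⊗ₜ[R] (t ⊗ₜ[R] a : (T R A n) ⊗[R] A)) =
      ((θ R R' A n ((1 : R') ⊗ₜ[R] t)) ⊗ₜ[R'] ((1 : R') ⊗ₜ[R] a) :
        (T R' (R' ⊗[R] A) n) ⊗[R'] (R' ⊗[R] A)) := rfl

theorem pr_baseChange (a : A) :
    pr R' (R' ⊗[R] A) ((1 : R') ⊗ₜ[R] a) = (1 : R') ⊗ₜ[R] (pr R A a) := by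
  rw [pr_apply, pr_apply, TensorProduct.counit_tmul, TensorProduct.tmul_sub,
    Algebra.algebraMap_eq_smul_one (Coalgebra.counit (R := R) a), TensorProduct.tmul_smul,
    Algebra.algebraMap_eq_smul_one]
  congr 1
  rw [Algebra.TensorProduct.one_def, TensorProduct.smul_tmul', TensorProduct.smul_tmul']
  congr 1
  simp [Algebra.smul_def]

theorem comul_baseChange (a : A) :
    Coalgebra.comul (R := R') ((1 : R') ⊗ₜ[R] a : R' ⊗[R] A) =
      AlgebraTensorModule.distribBaseChange R R' A A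
        ((1 : R') ⊗ₜ[R] (Coalgebra.comul (R := R) a)) := by
  rw [TensorProduct.comul_tmul]
  have h1 : Coalgebra.comul (R := R') (1 : R') = (1 : R') ⊗ₜ[R'] (1 : R') := rfl
  rw [h1]
  generalize Coalgebra.comul (R := R) a = z
  induction z using TensorProduct.induction_on with
  | zero => simp
  | tmul x y => simp
  | add x y hx hy => rw [TensorProduct.tmul_add, map_add, hx, hy, TensorProduct.tmul_add, map_add]

/-- the successor step of `θ`, with explicit types -/
noncomputable def θs (n : ℕ) : R' ⊗[R] ((T R A n) ⊗[R] A) ≃ₗ[R']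
    (T R' (R' ⊗[R] A) n) ⊗[R'] (R' ⊗[R] A) :=
  (AlgebraTensorModule.distribBaseChange R R' (T R A n) A) ≪≫ₗ
      (TensorProduct.congr (θ R R' A n) (LinearEquiv.refl R' (R' ⊗[R] A)))

theorem θs_tmul (n : ℕ) (t : T R A n) (a : A) :
    θs R R' A n ((1 : R') ⊗ₜ[R] (t ⊗ₜ[R] a)) =
      (θ R R' A n ((1 : R') ⊗ₜ[R] t)) ⊗ₜ[R'] ((1 : R') ⊗ₜ[R] a) := rfl

theorem D_baseChange_aux (n : ℕ)
    (ih : ∀ a : A, D R' (R' ⊗[R] A) n ((1 : R') ⊗ₜ[R] a) =
      θ R R' A n ((1 : R') ⊗ₜ[R] (D R A n a)))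
    (z : A ⊗[R] A) :
    TensorProduct.map (D R' (R' ⊗[R] A) n) (pr R' (R' ⊗[R] A))
        (AlgebraTensorModule.distribBaseChange R R' A A ((1 : R') ⊗ₜ[R] z)) =
      θs R R' A n ((1 : R') ⊗ₜ[R] (TensorProduct.map (D R A n) (pr R A) z)) := by
  induction z using TensorProduct.induction_on with
  | zero => simp
  | tmul x y =>
    rw [AlgebraTensorModule.distribBaseChange_tmul, TensorProduct.map_tmul, ih, pr_baseChange,
      TensorProduct.map_tmul, θs_tmul]
  | add x y hx hy =>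
    rw [TensorProduct.tmul_add, map_add, map_add, hx, hy, map_add, TensorProduct.tmul_add,
      map_add]

theorem D_baseChange (n : ℕ) (a : A) :
    D R' (R' ⊗[R] A) n ((1 : R') ⊗ₜ[R] a) = θ R R' A n ((1 : R') ⊗ₜ[R] (D R A n a)) := by
  induction n generalizing a with
  | zero => exact pr_baseChange R R' A a
  | succ n ih =>
    rw [D_succ_apply, comul_baseChange]
    exact D_baseChange_aux R R' A n ih _

theorem D_baseChange_eq_zero {n : ℕ} {a : A} (h : D R A n a = 0) :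
    D R' (R' ⊗[R] A) n ((1 : R') ⊗ₜ[R] a) = 0 := by
  rw [D_baseChange, h, TensorProduct.tmul_zero, map_zero]

theorem isCoconn_baseChange (h : IsCoconn R A) : IsCoconn R' (R' ⊗[R] A) := by
  have key : ∀ x : R' ⊗[R] A, ∃ n, ∀ m, n ≤ m → D R' (R' ⊗[R] A) m x = 0 := by
    intro x
    induction x using TensorProduct.induction_on with
    | zero => exact ⟨0, fun m _ => map_zero _⟩
    | tmul r a =>
      obtain ⟨n, hn⟩ := h a
      refine ⟨n, fun m hm => ?_⟩
      have h1 : (r ⊗ₜ[R] a : R' ⊗[R] A) = r • ((1 : R') ⊗ₜ[R] a) := by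
        rw [TensorProduct.smul_tmul', smul_eq_mul, mul_one]
      rw [h1, map_smul, D_baseChange_eq_zero R R' A (D_mono R A hm hn), smul_zero]
    | add x y hx hy =>
      obtain ⟨n1, h1⟩ := hx
      obtain ⟨n2, h2⟩ := hy
      exact ⟨max n1 n2, fun m hm => by
        rw [map_add, h1 m (le_trans (le_max_left _ _) hm),
          h2 m (le_trans (le_max_right _ _) hm), add_zero]⟩
  intro x
  obtain ⟨n, hn⟩ := key x
  exact ⟨n, hn n le_rfl⟩

theorem D_eq_zero_of_baseChange {n : ℕ} {a : A}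
    (hinj : Function.Injective (fun t : T R A n => ((1 : R') ⊗ₜ[R] t : R' ⊗[R] (T R A n))))
    (h : D R' (R' ⊗[R] A) n ((1 : R') ⊗ₜ[R] a) = 0) : D R A n a = 0 := by
  rw [D_baseChange] at h
  have h2 : ((1 : R') ⊗ₜ[R] (D R A n a) : R' ⊗[R] (T R A n)) = 0 :=
    (θ R R' A n).injective (by rw [h, map_zero])
  apply hinj
  simpa using h2

instance flat_T [Module.Flat R A] (n : ℕ) : Module.Flat R (T R A n) := by
  induction n with
  | zero => exact (inferInstance : Module.Flat R A)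
  | succ n ih =>
    haveI := ih
    exact (inferInstance : Module.Flat R ((T R A n) ⊗[R] A))

theorem D_eq_zero_of_baseChange_of_flat [FaithfulSMul R R'] [Module.Flat R A] {n : ℕ} {a : A}
    (h : D R' (R' ⊗[R] A) n ((1 : R') ⊗ₜ[R] a) = 0) : D R A n a = 0 :=
  D_eq_zero_of_baseChange R R' A
    (Module.Flat.tensorProduct_mk_injective R (T R A n) R') h

theorem isCoconn_of_baseChange [FaithfulSMul R R'] [Module.Flat R A]
    (h : IsCoconn R' (R' ⊗[R] A)) : IsCoconn R A := by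
  intro a
  obtain ⟨n, hn⟩ := h ((1 : R') ⊗ₜ[R] a)
  exact ⟨n, D_eq_zero_of_baseChange_of_flat R R' A hn⟩

end BC

end Groth.Agent.Helper6.CoConn
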