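import Groth.Agent.Lib.Helper6.CoConnPow
import Mathlib

/-!
# Powers and roots in the group of points of a coconnected (unipotent) bialgebra (helper6)
-/

set_option autoImplicit false

namespace Groth.Agent.Helper6.CoConn

open Polynomial

universe u v

section

variable {k : Type u} [Field k] {A : Type v} [CommRing A] [Bialgebra k A]

/-- points viewed as linear functionals in the convolution algebra -/
noncomputable def lin (g : WithConv (A →ₐ[k] k)) : WithConv (A →ₗ[k] k) :=
  WithConv.toConv g.ofConv.toLinearMap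

theorem lin_pow (g : WithConv (A →ₐ[k] k)) (m : ℕ) : lin (g ^ m) = (lin g) ^ m :=
  AlgHom.toLinearMap_convPow g m

theorem lin_apply_one (g : WithConv (A →ₐ[k] k)) : (lin g).ofConv 1 = 1 := map_one g.ofConv

theorem pow_apply_eq (g : WithConv (A →ₐ[k] k)) {n : ℕ} {a : A} (ha : D k A n a = 0) (m : ℕ) :
    (g ^ m).ofConv a =
      ∑ j ∈ Finset.range (n + 1), (m.choose j) • ((lin g - 1) ^ j).ofConv a := by
  have h := pow_apply_eq_sum (lin g) (lin_apply_one g) ha m
  rw [← lin_pow] at h
  exact h

theorem pow_prime_pow_apply (p : ℕ) [Fact p.Prime] [CharP k p] (g : WithConv (A →ₐ[k] k))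
    {n : ℕ} {a : A} (ha : D k A n a = 0) {r : ℕ} (hr : n < p ^ r) :
    (g ^ (p ^ r)).ofConv a = (1 : WithConv (A →ₐ[k] k)).ofConv a := by
  rw [pow_apply_eq g ha, Finset.sum_eq_single 0]
  · rw [Nat.choose_zero_right, one_smul, pow_zero]
    rfl
  · intro j hj hj0
    rw [Finset.mem_range] at hj
    have hdvd : p ∣ (p ^ r).choose j :=
      (Fact.out : p.Prime).dvd_choose_pow hj0 (by omega)
    rw [nsmul_eq_mul, (CharP.cast_eq_zero_iff k p _).2 hdvd, zero_mul]
  · intro h
    exact absurd (Finset.mem_range.2 (Nat.succ_pos n)) h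

end

section CharZero

variable {k : Type u} [Field k] [CharZero k] {A : Type v} [CommRing A] [Bialgebra k A]

/-- the binomial polynomial `T(T-1)…(T-j+1)/j!` -/
noncomputable def binomPoly (k : Type u) [Field k] (j : ℕ) : k[X] :=
  C ((j.factorial : k)⁻¹) * descPochhammer k j

theorem eval_binomPoly (j m : ℕ) : (binomPoly k j).eval (m : k) = (m.choose j : k) := by
  rw [binomPoly, eval_mul, eval_C, descPochhammer_eval_eq_descFactorial,
    Nat.descFactorial_eq_factorial_mul_choose, Nat.cast_mul, ← mul_assoc,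
    inv_mul_cancel₀ (Nat.cast_ne_zero.2 (Nat.factorial_ne_zero j)), one_mul]

theorem poly_ext {p q : k[X]} (h : ∀ m : ℕ, p.eval (m : k) = q.eval (m : k)) : p = q := by
  rw [← sub_eq_zero]
  apply Polynomial.eq_zero_of_infinite_isRoot
  apply Set.Infinite.mono (s := Set.range (fun m : ℕ => (m : k)))
  · rintro _ ⟨m, rfl⟩
    show Polynomial.IsRoot _ _
    rw [Polynomial.IsRoot, eval_sub, h m, sub_self]
  · exact Set.infinite_range_of_injective Nat.cast_injective

theorem exists_poly (hC : IsCoconn k A) (g : WithConv (A →ₐ[k] k)) (a : A) :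
    ∃ p : k[X], ∀ m : ℕ, p.eval (m : k) = (g ^ m).ofConv a := by
  obtain ⟨n, hn⟩ := hC a
  refine ⟨∑ j ∈ Finset.range (n + 1), C (((lin g - 1) ^ j).ofConv a) * binomPoly k j, fun m => ?_⟩
  rw [pow_apply_eq g hn m, eval_finset_sum]
  apply Finset.sum_congr rfl
  intro j _
  rw [eval_mul, eval_C, eval_binomPoly, nsmul_eq_mul, mul_comm]

/-- the polynomial `m ↦ (g^m)(a)` -/
noncomputable def Pfun (hC : IsCoconn k A) (g : WithConv (A →ₐ[k] k)) (a : A) : k[X] :=
  Classical.choose (exists_poly hC g a)

theorem eval_Pfun (hC : IsCoconn k A) (g : WithConv (A →ₐ[k] k)) (a : A) (m : ℕ) :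
    (Pfun hC g a).eval (m : k) = (g ^ m).ofConv a :=
  Classical.choose_spec (exists_poly hC g a) m

/-- the one-parameter subgroup through `g`, as an algebra map `A → k[T]` -/
noncomputable def P (hC : IsCoconn k A) (g : WithConv (A →ₐ[k] k)) : A →ₐ[k] k[X] :=
  AlgHom.ofLinearMap
    { toFun := Pfun hC g
      map_add' := by
        intro a b
        apply poly_ext
        intro m
        rw [eval_add, eval_Pfun, eval_Pfun, eval_Pfun, map_add]
      map_smul' := by
        intro c a
        apply poly_ext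
        intro m
        rw [RingHom.id_apply, eval_smul, eval_Pfun, eval_Pfun, map_smul] }
    (by
      apply poly_ext
      intro m
      show (Pfun hC g 1).eval (m : k) = _
      rw [eval_Pfun, eval_one, map_one])
    (by
      intro a b
      apply poly_ext
      intro m
      show (Pfun hC g (a * b)).eval (m : k) = ((Pfun hC g a) * (Pfun hC g b)).eval (m : k)
      rw [eval_mul, eval_Pfun, eval_Pfun, eval_Pfun, map_mul])

theorem eval_P (hC : IsCoconn k A) (g : WithConv (A →ₐ[k] k)) (a : A) (m : ℕ) :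
    (P hC g a).eval (m : k) = (g ^ m).ofConv a := eval_Pfun hC g a m

theorem P_pow (hC : IsCoconn k A) (g : WithConv (A →ₐ[k] k)) (e : ℕ) (a : A) :
    P hC (g ^ e) a = (P hC g a).comp (C (e : k) * X) := by
  apply poly_ext
  intro m
  rw [eval_P, eval_comp, eval_mul, eval_C, eval_X, ← Nat.cast_mul, eval_P, ← pow_mul]

/-- real powers of a point -/
noncomputable def gpow (hC : IsCoconn k A) (g : WithConv (A →ₐ[k] k)) (t : k) :
    WithConv (A →ₐ[k] k) :=
  WithConv.toConv ((Polynomial.aeval t).comp (P hC g))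

theorem gpow_apply (hC : IsCoconn k A) (g : WithConv (A →ₐ[k] k)) (t : k) (a : A) :
    (gpow hC g t).ofConv a = (P hC g a).eval t := by
  show Polynomial.aeval t (P hC g a) = _
  rw [Polynomial.aeval_def, Polynomial.eval₂_eq_eval_map]
  simp

theorem gpow_one (hC : IsCoconn k A) (g : WithConv (A →ₐ[k] k)) : gpow hC g 1 = g := by
  apply WithConv.ofConv_injective
  apply AlgHom.ext
  intro a
  rw [gpow_apply]
  have := eval_P hC g a 1
  rw [Nat.cast_one, pow_one] at this
  exact this

theorem gpow_pow_eq (hC : IsCoconn k A) (g : WithConv (A →ₐ[k] k)) (e : ℕ) (t : k) :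
    gpow hC (g ^ e) t = gpow hC g ((e : k) * t) := by
  apply WithConv.ofConv_injective
  apply AlgHom.ext
  intro a
  rw [gpow_apply, gpow_apply, P_pow, eval_comp, eval_mul, eval_C, eval_X]

end CharZero

section CompPow

variable {k : Type u} [Field k] {A : Type v} [CommRing A] [Bialgebra k A]
variable {B : Type*} [CommRing B] [Algebra k B] {C' : Type*} [CommRing C'] [Algebra k C']

theorem comp_convPow (h : B →ₐ[k] C') (f : WithConv (A →ₐ[k] B)) (m : ℕ) :
    h.comp (f ^ m).ofConv = ((WithConv.toConv (h.comp f.ofConv)) ^ m).ofConv := by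
  induction m with
  | zero =>
    rw [pow_zero, pow_zero]
    apply AlgHom.ext
    intro a
    show h ((1 : WithConv (A →ₐ[k] B)).ofConv a) = (1 : WithConv (A →ₐ[k] C')).ofConv a
    rw [show (1 : WithConv (A →ₐ[k] B)).ofConv a = algebraMap k B (Coalgebra.counit (R := k) a)
      from rfl, show (1 : WithConv (A →ₐ[k] C')).ofConv a =
        algebraMap k C' (Coalgebra.counit (R := k) a) from rfl, AlgHom.commutes]
  | succ m ih =>
    rw [pow_succ, pow_succ, AlgHom.comp_convMul_distrib, ih]

end CompPow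

section CharZero2

variable {k : Type u} [Field k] [CharZero k] {A : Type v} [CommRing A] [Bialgebra k A]

theorem convPow_P_apply (hC : IsCoconn k A) (g : WithConv (A →ₐ[k] k)) (m : ℕ) (a : A) :
    ((WithConv.toConv (P hC g)) ^ m).ofConv a = (P hC g a).comp (C (m : k) * X) := by
  apply poly_ext
  intro l
  have h1 : (((WithConv.toConv (P hC g)) ^ m).ofConv a).eval (l : k) =
      ((Polynomial.aeval (l : k) : k[X] →ₐ[k] k).comp
        ((WithConv.toConv (P hC g)) ^ m).ofConv) a := by
    show _ = Polynomial.aeval (l : k) _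
    rw [Polynomial.aeval_def, Polynomial.eval₂_eq_eval_map]
    simp
  rw [h1, comp_convPow]
  have h2 : (Polynomial.aeval (l : k) : k[X] →ₐ[k] k).comp (WithConv.toConv (P hC g)).ofConv =
      (g ^ l).ofConv := by
    apply AlgHom.ext
    intro b
    show Polynomial.aeval (l : k) (P hC g b) = _
    rw [Polynomial.aeval_def, Polynomial.eval₂_eq_eval_map]
    simp only [Algebra.algebraMap_self, Polynomial.map_id]
    exact eval_P hC g b l
  rw [h2, WithConv.toConv_ofConv, ← pow_mul, eval_comp, eval_mul, eval_C, eval_X,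
    ← Nat.cast_mul, eval_P, mul_comm]

theorem gpow_pow (hC : IsCoconn k A) (g : WithConv (A →ₐ[k] k)) (t : k) (m : ℕ) :
    (gpow hC g t) ^ m = gpow hC g ((m : k) * t) := by
  apply WithConv.ofConv_injective
  apply AlgHom.ext
  intro a
  have h1 : ((gpow hC g t) ^ m).ofConv =
      (Polynomial.aeval t : k[X] →ₐ[k] k).comp ((WithConv.toConv (P hC g)) ^ m).ofConv := by
    rw [comp_convPow]
    rfl
  rw [h1, AlgHom.comp_apply, convPow_P_apply, gpow_apply]
  rw [Polynomial.aeval_def, Polynomial.eval₂_eq_eval_map]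
  simp only [Algebra.algebraMap_self, Polynomial.map_id]
  rw [eval_comp, eval_mul, eval_C, eval_X]

theorem pow_bijective (hC : IsCoconn k A) (e : ℕ) (he : e ≠ 0) :
    Function.Bijective fun g : WithConv (A →ₐ[k] k) => g ^ e := by
  have he' : (e : k) ≠ 0 := Nat.cast_ne_zero.2 he
  constructor
  · intro g h hgh
    have hgh' : g ^ e = h ^ e := hgh
    have h1 : gpow hC (g ^ e) (e : k)⁻¹ = g := by
      rw [gpow_pow_eq, mul_inv_cancel₀ he', gpow_one]
    have h2 : gpow hC (h ^ e) (e : k)⁻¹ = h := by
      rw [gpow_pow_eq, mul_inv_cancel₀ he', gpow_one]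
    rw [← h1, ← h2, hgh']
  · intro g
    refine ⟨gpow hC g (e : k)⁻¹, ?_⟩
    show (gpow hC g (e : k)⁻¹) ^ e = g
    rw [gpow_pow, mul_inv_cancel₀ he', gpow_one]

end CharZero2

end Groth.Agent.Helper6.CoConn
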