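import Groth.Agent.Lib.Helper6.CoConnBC
import Groth.Agent.Lib.Helper22.MultType1
import Mathlib

/-!
# Unipotent / coconnected parts (helper6), part 1: functoriality of the iterated reduced
coproduct, group-like elements, group algebras.
-/

set_option autoImplicit false

namespace Groth.Agent.Helper6.Uni

open TensorProduct Groth.Agent.Helper6.CoConn

universe u v w

section Tm

variable {R : Type u} [CommRing R] {A : Type v} [Ring A] [Bialgebra R A]
variable {B : Type w} [Ring B] [Bialgebra R B]

/-- functoriality of the tensor powers `T n` -/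
noncomputable def Tm (φ : A →ₗ[R] B) : (n : ℕ) → T R A n →ₗ[R] T R B n
  | 0 => φ
  | (n + 1) => TensorProduct.map (Tm φ n) φ

theorem Tm_succ (φ : A →ₗ[R] B) (n : ℕ) : Tm φ (n + 1) = TensorProduct.map (Tm φ n) φ := rfl

theorem pr_map (φ : A →ₗ[R] B) (h1 : φ 1 = 1)
    (hε : ∀ a, Coalgebra.counit (R := R) (φ a) = Coalgebra.counit (R := R) a) (a : A) :
    pr R B (φ a) = φ (pr R A a) := by
  rw [pr_apply, pr_apply, map_sub, hε, Algebra.algebraMap_eq_smul_one,
    Algebra.algebraMap_eq_smul_one, map_smul, h1]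

theorem D_map (φ : A →ₗ[R] B) (h1 : φ 1 = 1)
    (hε : ∀ a, Coalgebra.counit (R := R) (φ a) = Coalgebra.counit (R := R) a)
    (hΔ : ∀ a, Coalgebra.comul (R := R) (φ a) =
      TensorProduct.map φ φ (Coalgebra.comul (R := R) a))
    (n : ℕ) (a : A) : D R B n (φ a) = Tm φ n (D R A n a) := by
  induction n generalizing a with
  | zero => exact pr_map φ h1 hε a
  | succ n ih =>
    rw [D_succ_apply, D_succ_apply, hΔ]
    generalize Coalgebra.comul (R := R) a = z
    induction z using TensorProduct.induction_on with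
    | zero =>
      rw [map_zero, map_zero, map_zero]
      exact (map_zero (Tm φ (n + 1))).symm
    | tmul x y =>
      rw [TensorProduct.map_tmul, TensorProduct.map_tmul, TensorProduct.map_tmul, ih x,
        pr_map φ h1 hε y]
      rfl
    | add x y hx hy =>
      rw [map_add, map_add, map_add, hx, hy]
      exact (map_add (Tm φ (n + 1)) _ _).symm

theorem D_map_bialgHom (φ : A →ₐc[R] B) (n : ℕ) (a : A) :
    D R B n (φ a) = Tm (φ : A →ₗ[R] B) n (D R A n a) :=
  D_map (φ : A →ₗ[R] B) (map_one φ) (fun a => CoalgHomClass.counit_comp_apply φ a)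
    (fun a => (CoalgHomClass.map_comp_comul_apply φ a).symm) n a

theorem D_eq_zero_map (φ : A →ₐc[R] B) {n : ℕ} {a : A} (h : D R A n a = 0) :
    D R B n (φ a) = 0 := by
  rw [D_map_bialgHom, h, map_zero]

theorem Tm_injective {K : Type u} [Field K] {A : Type v} [Ring A] [Bialgebra K A]
    {B : Type w} [Ring B] [Bialgebra K B] (φ : A →ₗ[K] B) (hφ : Function.Injective φ) (n : ℕ) :
    Function.Injective (Tm φ n) := by
  induction n with
  | zero => exact hφ
  | succ n ih => exact TensorProduct.map_injective_of_flat_flat _ _ ih hφ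

theorem D_eq_zero_of_map_injective {K : Type u} [Field K] {A : Type v} [Ring A] [Bialgebra K A]
    {B : Type w} [Ring B] [Bialgebra K B] (φ : A →ₐc[K] B) (hφ : Function.Injective φ)
    {n : ℕ} {a : A} (h : D K B n (φ a) = 0) : D K A n a = 0 := by
  rw [D_map_bialgHom] at h
  exact Tm_injective (φ : A →ₗ[K] B) hφ n (by rw [h, map_zero])

end Tm

section GroupLike

variable {R : Type u} [CommRing R] {A : Type v} [Ring A] [Bialgebra R A]

theorem convMul_apply_groupLike {g : A} (hg : IsGroupLikeElem R g)
    (f f' : WithConv (A →ₗ[R] R)) :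
    (f * f').ofConv g = f.ofConv g * f'.ofConv g := by
  rw [LinearMap.convMul_def, WithConv.ofConv_toConv, LinearMap.comp_apply, LinearMap.comp_apply,
    hg.comul_eq_tmul_self, TensorProduct.map_tmul, LinearMap.mul'_apply]

theorem convPow_apply_groupLike {g : A} (hg : IsGroupLikeElem R g)
    (f : WithConv (A →ₗ[R] R)) (n : ℕ) :
    (f ^ n).ofConv g = (f.ofConv g) ^ n := by
  induction n with
  | zero =>
    rw [pow_zero, pow_zero]
    show algebraMap R R (Coalgebra.counit (R := R) g) = 1
    rw [hg.counit_eq_one, map_one]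
  | succ n ih => rw [pow_succ, pow_succ, convMul_apply_groupLike hg, ih]

theorem groupLike_eq_one {K : Type u} [Field K] {A : Type v} [Ring A] [Bialgebra K A] {g : A}
    (hg : IsGroupLikeElem K g) {n : ℕ} (h : D K A n g = 0) : g = 1 := by
  by_contra hne
  have hne' : g - 1 ≠ 0 := sub_ne_zero.2 hne
  obtain ⟨f', hf'⟩ : ∃ f' : Module.Dual K A, f' (g - 1) ≠ 0 := by
    by_contra hcon
    exact hne' ((Module.forall_dual_apply_eq_zero_iff K (g - 1)).1
      (fun φ => by by_contra hφ; exact hcon ⟨φ, hφ⟩))
  let f : WithConv (A →ₗ[K] K) :=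
    WithConv.toConv (f' - f' 1 • (Coalgebra.counit (R := K) (A := A)))
  have hf1 : f.ofConv 1 = 0 := by
    show f' 1 - f' 1 • Coalgebra.counit (R := K) (1 : A) = 0
    rw [Bialgebra.counit_one, smul_eq_mul, mul_one, sub_self]
  have h1 := convPow_apply_eq_zero f hf1 h
  rw [convPow_apply_groupLike hg] at h1
  have h2 : f.ofConv g = 0 := (pow_eq_zero_iff (by omega : n + 1 ≠ 0)).1 h1
  apply hf'
  have h3 : f.ofConv g = f' g - f' 1 • Coalgebra.counit (R := K) g := rfl
  rw [h3, hg.counit_eq_one, smul_eq_mul, mul_one] at h2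
  rw [map_sub]
  exact h2

end GroupLike

section MonAlg

variable {R : Type u} [CommRing R] {M : Type w} [Monoid M]

open Groth.Agent.Helper22.MultType in
theorem coeff_eq_zero_of_D_eq_zero {x : MonoidAlgebra R M} {n : ℕ}
    (h : D R (MonoidAlgebra R M) n x = 0) {m : M} (hm : m ≠ 1) : x.coeff m = 0 := by
  classical
  let f : WithConv (MonoidAlgebra R M →ₗ[R] R) := WithConv.toConv (pi m)
  have hidem : f * f = f := by
    apply WithConv.ofConv_injective
    apply LinearMap.ext
    intro y
    have := mul_pi_pi_comul (R := R) m m y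
    rw [if_pos rfl] at this
    exact this
  have hpow : ∀ k : ℕ, f ^ (k + 1) = f := by
    intro k
    induction k with
    | zero => rw [zero_add, pow_one]
    | succ k ih => rw [pow_succ, ih, hidem]
  have hf1 : f.ofConv 1 = 0 := by
    show pi (R := R) m (1 : MonoidAlgebra R M) = 0
    rw [MonoidAlgebra.one_def, pi_single, if_neg (Ne.symm hm)]
  have h1 := convPow_apply_eq_zero f hf1 h
  rw [hpow] at h1
  exact h1

theorem eq_algebraMap_of_D_eq_zero {x : MonoidAlgebra R M} {n : ℕ}
    (h : D R (MonoidAlgebra R M) n x = 0) :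
    x = algebraMap R (MonoidAlgebra R M) (x.coeff 1) := by
  classical
  apply MonoidAlgebra.ext
  apply Finsupp.ext
  intro m
  rw [MonoidAlgebra.coe_algebraMap, Function.comp_apply, MonoidAlgebra.coeff_single,
    Finsupp.single_apply]
  by_cases hm : m = 1
  · subst hm
    simp
  · rw [coeff_eq_zero_of_D_eq_zero h hm, if_neg (Ne.symm hm)]

end MonAlg

end Groth.Agent.Helper6.Uni
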