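import Groth.Agent.Lib.Helper6.QcohLocal

set_option autoImplicit false
universe u
open CategoryTheory CategoryTheory.Limits AlgebraicGeometry Opposite TopologicalSpace

namespace Groth.Agent.Helper6.QcohLocal

/-- generating sections of `M.over U` from generating sections of `M.restrict U.ι`. -/
noncomputable def generatingSectionsOver {X : Scheme.{u}} (M : X.Modules) (U : X.Opens)
    (P : (M.restrict U.ι).GeneratingSections) : (M.over U).GeneratingSections := by
  let e := Scheme.Modules.overEquiv U
  have : PreservesColimitsOfSize.{u, u} e.inverse := inferInstance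
  let iso : e.inverse.obj (M.restrict U.ι) ≅ M.over U :=
    e.inverse.mapIso ((Scheme.Modules.overFunctorEquiv U).app M).symm ≪≫ (e.unitIso.app _).symm
  exact (P.map e.inverse
    (TopologicalSpace.Opens.sheafOfModulesEquivOverInverseUnit U X.ringCatSheaf).symm).ofEpi iso.hom

instance {X : Scheme.{u}} (M : X.Modules) (U : X.Opens)
    (P : (M.restrict U.ι).GeneratingSections) [P.IsFiniteType] :
    (generatingSectionsOver M U P).IsFiniteType := by
  unfold generatingSectionsOver
  infer_instance

set_option backward.isDefEq.respectTransparency false in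
/-- transport generating sections of `M.restrict j` to `M.restrict j.opensRange.ι`. -/
noncomputable def generatingSectionsOpensRange {X Y : Scheme.{u}} (j : Y ⟶ X) [IsOpenImmersion j]
    (M : X.Modules) (P : (M.restrict j).GeneratingSections) :
    (M.restrict j.opensRange.ι).GeneratingSections := by
  let e := j.isoOpensRange
  have h : e.inv ≫ j = j.opensRange.ι := j.isoOpensRange_inv_comp
  let iso : Scheme.Modules.restrictFunctor j ⋙ Scheme.Modules.restrictFunctor e.inv ≅
      Scheme.Modules.restrictFunctor j.opensRange.ι :=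
    (Scheme.Modules.restrictFunctorComp _ _).symm ≪≫ Scheme.Modules.restrictFunctorCongr h
  have : PreservesColimitsOfSize.{u, u} (Scheme.Modules.restrictFunctor e.inv) := inferInstance
  exact (P.map (Scheme.Modules.restrictFunctor e.inv)
    (Scheme.Modules.restrictUnitIso _).symm).ofEpi (iso.app M).hom

instance {X Y : Scheme.{u}} (j : Y ⟶ X) [IsOpenImmersion j]
    (M : X.Modules) (P : (M.restrict j).GeneratingSections) [P.IsFiniteType] :
    (generatingSectionsOpensRange j M P).IsFiniteType := by
  unfold generatingSectionsOpensRange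
  infer_instance

end Groth.Agent.Helper6.QcohLocal

namespace Groth.Agent.Helper6.QcohLocal

set_option backward.isDefEq.respectTransparency false in
/-- finite generating sections on `Spec R` from a spanning family of global sections. -/
noncomputable def generatingSectionsSpec {R : CommRingCat.{u}} (N : (Spec R).Modules)
    (hN : IsIso N.fromTildeΓ)
    (ι : Type u) (v : ι → ((modulesSpecToSheaf.obj N).presheaf.obj (op ⊤) : ModuleCat R))
    (hv : Submodule.span R (Set.range v) = ⊤) : N.GeneratingSections := by
  have hsurj : Function.Surjective (Finsupp.linearCombination R v) := by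
    rw [← LinearMap.range_eq_top, Finsupp.range_linearCombination, hv]
  have hepi : Epi (ModuleCat.ofHom (Finsupp.linearCombination R v)) :=
    (ModuleCat.epi_iff_surjective _).2 hsurj
  have : Epi (tilde.map (ModuleCat.ofHom (Finsupp.linearCombination R v))) :=
    (tilde.functor R).map_epi _
  exact
    { I := ι
      s := N.freeHomEquiv ((tildeFinsupp ι).inv ≫
        tilde.map (ModuleCat.ofHom (Finsupp.linearCombination R v)) ≫ N.fromTildeΓ)
      epi := by
        rw [Equiv.symm_apply_apply]
        infer_instance }

end Groth.Agent.Helper6.QcohLocal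

namespace Groth.Agent.Helper6.QcohLocal

/-- restriction `Γ(M, U) → Γ(M.restrict fromSpec, ⊤)` as a `Γ(X,U)`-linear map. -/
noncomputable def toRestrictTop {X : Scheme.{u}} {U : X.Opens} (hU : IsAffineOpen U) (M : X.Modules) :
    Γ(M, U) →ₗ[Γ(X, U)] Γ(M.restrict hU.fromSpec, ⊤) where
  toFun s := M.presheaf.map (homOfLE (show hU.fromSpec ''ᵁ ⊤ ≤ U by
    rw [Scheme.Hom.image_top_eq_opensRange, hU.opensRange_fromSpec])).op s
  map_add' s t := map_add _ s t
  map_smul' c s := by
    have hle : hU.fromSpec ''ᵁ ⊤ ≤ U := by
      rw [Scheme.Hom.image_top_eq_opensRange, hU.opensRange_fromSpec]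
    have h1 := Scheme.Modules.map_smul M (homOfLE hle) c s
    have h2 := fromSpec_smul hU M ⊤ hle c (M.presheaf.map (homOfLE hle).op s)
    exact h1.trans h2.symm

theorem toRestrictTop_surjective {X : Scheme.{u}} {U : X.Opens} (hU : IsAffineOpen U)
    (M : X.Modules) : Function.Surjective (toRestrictTop hU M) := by
  have hle : hU.fromSpec ''ᵁ ⊤ ≤ U := by
    rw [Scheme.Hom.image_top_eq_opensRange, hU.opensRange_fromSpec]
  have hge : U ≤ hU.fromSpec ''ᵁ ⊤ := by
    rw [Scheme.Hom.image_top_eq_opensRange, hU.opensRange_fromSpec]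
  intro x
  refine ⟨M.presheaf.map (homOfLE hge).op x, ?_⟩
  change M.presheaf.map (homOfLE hle).op (M.presheaf.map (homOfLE hge).op x) = x
  rw [← ConcreteCategory.comp_apply, ← M.presheaf.map_comp, ← op_comp]
  have : homOfLE hle ≫ homOfLE hge = 𝟙 _ := Subsingleton.elim _ _
  rw [this, op_id, M.presheaf.map_id]
  rfl

end Groth.Agent.Helper6.QcohLocal

namespace Groth.Agent.Helper6.QcohLocal

/-- Finite type from an affine open cover on which `M` is `Γ~` of a finitely generated module. -/
theorem isFiniteType_of_affineOpens {X : Scheme.{u}} (M : X.Modules) {ι : Type u}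
    (U : ι → X.Opens) (hU : ∀ i, IsAffineOpen (U i)) (hcov : ∀ x : X, ∃ i, x ∈ U i)
    (hqc : ∀ i, IsIso (M.restrict (hU i).fromSpec).fromTildeΓ)
    (hfin : ∀ i, ∃ (k : ℕ) (t : Fin k → Γ(M, U i)),
      Submodule.span Γ(X, U i) (Set.range t) = ⊤) :
    SheafOfModules.IsFiniteType (R := X.ringCatSheaf) M := by
  choose k t ht using hfin
  have hv : ∀ i, Submodule.span Γ(X, U i)
      (Set.range (fun l : ULift.{u} (Fin (k i)) => toRestrictTop (hU i) M (t i l.down))) = ⊤ := by
    intro i
    have : Set.range (fun l : ULift.{u} (Fin (k i)) => toRestrictTop (hU i) M (t i l.down)) =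
        (toRestrictTop (hU i) M) '' Set.range (t i) := by
      ext x
      constructor
      · rintro ⟨l, rfl⟩
        exact ⟨_, ⟨l.down, rfl⟩, rfl⟩
      · rintro ⟨_, ⟨l, rfl⟩, rfl⟩
        exact ⟨⟨l⟩, rfl⟩
    rw [this, ← Submodule.map_span, ht i, Submodule.map_top, LinearMap.range_eq_top]
    exact toRestrictTop_surjective (hU i) M
  let q : SheafOfModules.LocalGeneratorsData.{u} M :=
    { I := ι
      X := fun i => (hU i).fromSpec.opensRange
      coversTop := (Opens.coversTop_iff _ _).2 (by
        rw [IsOpenCover, eq_top_iff]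
        intro x _
        obtain ⟨i, hi⟩ := hcov x
        exact Opens.mem_iSup.2 ⟨i, by rw [(hU i).opensRange_fromSpec]; exact hi⟩)
      generators := fun i => generatingSectionsOver M _
        (generatingSectionsOpensRange (hU i).fromSpec M
          (generatingSectionsSpec _ (hqc i) (ULift.{u} (Fin (k i))) _ (hv i))) }
  have hq : q.IsFiniteType := by
    refine SheafOfModules.LocalGeneratorsData.IsFiniteType.mk (p := q) (fun i => ?_)
    have : (generatingSectionsSpec (M.restrict (hU i).fromSpec) (hqc i) (ULift.{u} (Fin (k i))) _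
        (hv i)).IsFiniteType := ⟨inferInstanceAs (Finite (ULift.{u} (Fin (k i))))⟩
    exact inferInstanceAs (generatingSectionsOver M _
          (generatingSectionsOpensRange (hU i).fromSpec M
            (generatingSectionsSpec _ (hqc i) (ULift.{u} (Fin (k i))) _ (hv i)))).IsFiniteType
  exact SheafOfModules.IsFiniteType.mk (M := M) ⟨q, hq⟩

end Groth.Agent.Helper6.QcohLocal
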