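import Mathlib.AlgebraicGeometry.ProjectiveSpectrum.Basic
import Mathlib.RingTheory.GradedAlgebra.Homogeneous.Ideal
import Mathlib.AlgebraicGeometry.Properties

set_option autoImplicit false
universe u

namespace Groth.Agent.Helper6

open AlgebraicGeometry HomogeneousLocalization

variable {A σ : Type*} [CommRing A] [SetLike σ A] [AddSubgroupClass σ A]
  (𝒜 : ℕ → σ) [GradedRing 𝒜]

theorem away_mk_eq_zero_iff {f : A} {d : ℕ} (hf : f ∈ 𝒜 d) (n : ℕ) (a : A) (ha : a ∈ 𝒜 (n • d)) :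
    Away.mk 𝒜 hf n a ha = 0 ↔ ∃ k : ℕ, f ^ k * a = 0 := by
  rw [HomogeneousLocalization.ext_iff_val, Away.val_mk, HomogeneousLocalization.val_zero,
    Localization.mk_eq_mk', IsLocalization.mk'_eq_zero_iff]
  constructor
  · rintro ⟨⟨_, k, rfl⟩, hk⟩
    exact ⟨k, hk⟩
  · rintro ⟨k, hk⟩
    exact ⟨⟨_, k, rfl⟩, hk⟩

theorem isReduced_away
    (hred : ∀ f ∈ (HomogeneousIdeal.irrelevant 𝒜).toIdeal, IsNilpotent f → f = 0)
    {f : A} {d : ℕ} (hd : 0 < d) (hf : f ∈ 𝒜 d) :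
    IsReduced (Away 𝒜 f) := by
  constructor
  intro x hx
  obtain ⟨n, a, ha, rfl⟩ := Away.mk_surjective 𝒜 hf x
  obtain ⟨m, hm⟩ := hx
  have hm' : Away.mk 𝒜 hf (m * n) (a ^ m) (by
      rw [mul_smul]; exact SetLike.pow_mem_graded m ha) = 0 := by
    rw [← hm]
    rw [HomogeneousLocalization.ext_iff_val]
    rw [HomogeneousLocalization.val_pow, Away.val_mk, Away.val_mk, Localization.mk_pow]
    congr 1
    ext
    simp [pow_mul, mul_comm]
  rw [away_mk_eq_zero_iff] at hm' ⊢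
  obtain ⟨k, hk⟩ := hm'
  have hfa : f * a = 0 := by
    apply hred
    · exact Ideal.mul_mem_right _ _ (HomogeneousIdeal.mem_irrelevant_of_mem 𝒜 hd hf)
    · refine ⟨k + m, ?_⟩
      calc (f * a) ^ (k + m) = f ^ m * a ^ k * (f ^ k * a ^ m) := by ring
        _ = 0 := by rw [hk, mul_zero]
  exact ⟨1, by simpa using hfa⟩

theorem proj_isReduced
    (hred : ∀ f ∈ (HomogeneousIdeal.irrelevant 𝒜).toIdeal, IsNilpotent f → f = 0) :
    AlgebraicGeometry.IsReduced (Proj 𝒜) := by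
  have : ∀ i, AlgebraicGeometry.IsReduced ((Proj.affineOpenCover 𝒜).openCover.X i) := by
    intro i
    have := isReduced_away 𝒜 hred i.1.2 i.2.2
    change AlgebraicGeometry.IsReduced (Spec (CommRingCat.of (Away 𝒜 i.2.1)))
    infer_instance
  exact IsReduced.of_openCover _ (Proj.affineOpenCover 𝒜).openCover

end Groth.Agent.Helper6
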