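import Mathlib.AlgebraicGeometry.ProjectiveSpectrum.Functor
import Groth.Agent.Lib.Helper6.ProjRed

set_option autoImplicit false
namespace Groth.Agent.Helper6.ProjClosedAlg
universe u
open HomogeneousLocalization DirectSum

variable {R A : Type u} [CommRing R] [CommRing A] [Algebra R A] (𝒜 : ℕ → Submodule R A)
  [GradedAlgebra 𝒜]

omit [GradedAlgebra 𝒜] in
theorem mem_smul_one {n : ℕ} {a : A} (ha : a ∈ 𝒜 n) : a ∈ 𝒜 (n • 1) := by
  rwa [smul_eq_mul, mul_one]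

/-- `a_n / f^n` -/
noncomputable def θ {f : A} (hf : f ∈ 𝒜 1) (n : ℕ) (a : A) : Away 𝒜 f :=
  Away.mk 𝒜 hf n (decompose 𝒜 a n : A) (mem_smul_one 𝒜 (SetLike.coe_mem _))

variable {𝒜}
variable {f : A} (hf : f ∈ 𝒜 1)

theorem val_θ (n : ℕ) (a : A) :
    (θ 𝒜 hf n a).val = Localization.mk (decompose 𝒜 a n : A) ⟨f ^ n, by use n⟩ :=
  Away.val_mk ..

theorem θ_zero (n : ℕ) : θ 𝒜 hf n 0 = 0 := by
  apply HomogeneousLocalization.val_injective
  rw [val_θ, HomogeneousLocalization.val_zero, decompose_zero, DirectSum.zero_apply,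
    ZeroMemClass.coe_zero, Localization.mk_zero]

theorem θ_add (n : ℕ) (a b : A) : θ 𝒜 hf n (a + b) = θ 𝒜 hf n a + θ 𝒜 hf n b := by
  apply HomogeneousLocalization.val_injective
  rw [HomogeneousLocalization.val_add, val_θ, val_θ, val_θ, decompose_add, DirectSum.add_apply,
    AddMemClass.coe_add, Localization.add_mk_self]

theorem θ_of_mem {n : ℕ} {a : A} (ha : a ∈ 𝒜 n) :
    θ 𝒜 hf n a = Away.mk 𝒜 hf n a (mem_smul_one 𝒜 ha) := by
  apply HomogeneousLocalization.val_injective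
  rw [val_θ, Away.val_mk, decompose_of_mem_same 𝒜 ha]

theorem θ_of_mem_ne {m n : ℕ} {a : A} (ha : a ∈ 𝒜 m) (h : m ≠ n) : θ 𝒜 hf n a = 0 := by
  apply HomogeneousLocalization.val_injective
  rw [val_θ, HomogeneousLocalization.val_zero, decompose_of_mem_ne 𝒜 ha h, Localization.mk_zero]

theorem θ_mul_add {m : ℕ} {b : A} (hb : b ∈ 𝒜 m) (k : ℕ) (a : A) :
    θ 𝒜 hf (m + k) (b * a) = θ 𝒜 hf m b * θ 𝒜 hf k a := by
  apply HomogeneousLocalization.val_injective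
  rw [HomogeneousLocalization.val_mul, val_θ, val_θ, val_θ, Localization.mk_mul,
    coe_decompose_mul_add_of_left_mem 𝒜 hb, decompose_of_mem_same 𝒜 hb]
  congr 1
  exact Subtype.ext (pow_add f m k)

theorem θ_mul_lt {m n : ℕ} {b : A} (hb : b ∈ 𝒜 m) (h : n < m) (a : A) :
    θ 𝒜 hf n (b * a) = 0 := by
  apply HomogeneousLocalization.val_injective
  rw [val_θ, HomogeneousLocalization.val_zero,
    coe_decompose_mul_of_left_mem_of_not_le 𝒜 hb (not_le.mpr h), Localization.mk_zero]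


section idl
variable (𝒜)
variable (s : Finset A) (hs1 : ∀ f ∈ s, f ∈ 𝒜 1)
  (J : ∀ (f : A), f ∈ 𝒜 1 → Ideal (Away 𝒜 f))

/-- The (saturated) homogeneous ideal cut out by the local ideals `J f`. -/
def idl : Ideal A where
  carrier := {a | ∀ (f : A) (hfs : f ∈ s) (n : ℕ), θ 𝒜 (hs1 f hfs) n a ∈ J f (hs1 f hfs)}
  zero_mem' := by
    intro f hfs n
    rw [θ_zero]
    exact Ideal.zero_mem _
  add_mem' := by
    intro a b ha hb f hfs n
    rw [θ_add]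
    exact Ideal.add_mem _ (ha f hfs n) (hb f hfs n)
  smul_mem' := by
    intro c a ha
    rw [smul_eq_mul]
    induction c using DirectSum.Decomposition.inductionOn 𝒜 with
    | zero =>
      rw [zero_mul]
      intro f hfs n
      rw [θ_zero]
      exact Ideal.zero_mem _
    | @homogeneous m c =>
      intro f hfs n
      by_cases h : m ≤ n
      · obtain ⟨k, rfl⟩ := Nat.exists_eq_add_of_le h
        rw [θ_mul_add _ c.2]
        exact Ideal.mul_mem_left _ _ (ha f hfs k)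
      · rw [θ_mul_lt _ c.2 (not_le.mp h)]
        exact Ideal.zero_mem _
    | add c₁ c₂ h₁ h₂ =>
      intro f hfs n
      rw [add_mul, θ_add]
      exact Ideal.add_mem _ (h₁ f hfs n) (h₂ f hfs n)

variable {𝒜 s hs1 J}

theorem mem_idl {a : A} : a ∈ idl 𝒜 s hs1 J ↔
    ∀ (f : A) (hfs : f ∈ s) (n : ℕ), θ 𝒜 (hs1 f hfs) n a ∈ J f (hs1 f hfs) := Iff.rfl

theorem idl_isHomogeneous : (idl 𝒜 s hs1 J).IsHomogeneous 𝒜 := by
  intro m a ha
  rw [mem_idl] at ha ⊢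
  intro f hfs n
  by_cases h : m = n
  · subst h
    rw [θ_of_mem _ (SetLike.coe_mem _)]
    exact ha f hfs m
  · rw [θ_of_mem_ne _ (SetLike.coe_mem _) h]
    exact Ideal.zero_mem _

theorem mem_idl_of_mem {m : ℕ} {a : A} (ha : a ∈ 𝒜 m) : a ∈ idl 𝒜 s hs1 J ↔
    ∀ (f : A) (hfs : f ∈ s), Away.mk 𝒜 (hs1 f hfs) m a (mem_smul_one 𝒜 ha) ∈ J f (hs1 f hfs) := by
  rw [mem_idl]
  constructor
  · intro h f hfs
    rw [← θ_of_mem _ ha]
    exact h f hfs m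
  · intro h f hfs n
    by_cases hmn : m = n
    · subst hmn
      rw [θ_of_mem _ ha]
      exact h f hfs
    · rw [θ_of_mem_ne _ ha hmn]
      exact Ideal.zero_mem _

end idl


section key

theorem pow_mem_one {f : A} (hf : f ∈ 𝒜 1) (k : ℕ) : f ^ k ∈ 𝒜 k := by
  simpa using SetLike.pow_mem_graded k hf

theorem pow_mul_mem {f : A} (hf : f ∈ 𝒜 1) (k : ℕ) {n : ℕ} {a : A} (ha : a ∈ 𝒜 n) :
    f ^ k * a ∈ 𝒜 (k + n) :=
  SetLike.mul_mem_graded (pow_mem_one hf k) ha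

theorem mk_pow_mul_eq {f : A} (hf : f ∈ 𝒜 1) (k : ℕ) {n : ℕ} {a : A} (ha : a ∈ 𝒜 n) :
    Away.mk 𝒜 hf (k + n) (f ^ k * a) (mem_smul_one 𝒜 (pow_mul_mem hf k ha)) =
      Away.mk 𝒜 hf n a (mem_smul_one 𝒜 ha) := by
  ext
  simp only [Away.val_mk]
  rw [Localization.mk_eq_mk_iff, Localization.r_iff_exists]
  exact ⟨1, by simp; ring⟩

theorem exists_forall_mk_mem {f g : A} (hf : f ∈ 𝒜 1) (hg : g ∈ 𝒜 1)
    (Jf : Ideal (Away 𝒜 f)) (Jg : Ideal (Away 𝒜 g))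
    (hcompat : Jf.map (awayMap 𝒜 hg (mul_comm g f)) =
      Jg.map (awayMap 𝒜 hf (rfl : g * f = g * f)))
    {n : ℕ} {a : A} (ha : a ∈ 𝒜 n) (hx : Away.mk 𝒜 hf n a (mem_smul_one 𝒜 ha) ∈ Jf) :
    ∃ M, ∀ k, M ≤ k →
      Away.mk 𝒜 hg (k + n) (f ^ k * a) (mem_smul_one 𝒜 (pow_mul_mem hf k ha)) ∈ Jg := by
  let _ := (awayMap 𝒜 hf (rfl : g * f = g * f)).toAlgebra
  have hloc : IsLocalization.Away (Away.isLocalizationElem hg hf) (Away 𝒜 (g * f)) :=
    Away.isLocalization_mul hg hf rfl one_ne_zero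
  have hgf : g * f ∈ 𝒜 (1 + 1) := SetLike.mul_mem_graded hg hf
  have hu : f ^ (2 * n) ∈ 𝒜 (n • (1 + 1)) := by
    have := pow_mem_one hf (2 * n)
    rwa [smul_eq_mul, mul_comm n]
  have hy : algebraMap (Away 𝒜 g) (Away 𝒜 (g * f)) (Away.mk 𝒜 hg n a (mem_smul_one 𝒜 ha)) ∈
      Jg.map (algebraMap (Away 𝒜 g) (Away 𝒜 (g * f))) := by
    rw [RingHom.algebraMap_toAlgebra, ← hcompat]
    have : awayMap 𝒜 hf (rfl : g * f = g * f) (Away.mk 𝒜 hg n a (mem_smul_one 𝒜 ha)) =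
        Away.mk 𝒜 hgf n (f ^ (2 * n)) hu *
          awayMap 𝒜 hg (mul_comm g f) (Away.mk 𝒜 hf n a (mem_smul_one 𝒜 ha)) := by
      ext
      simp only [awayMap_mk, val_mul, Away.val_mk, Localization.mk_mul]
      rw [Localization.mk_eq_mk_iff, Localization.r_iff_exists]
      exact ⟨1, by simp; ring⟩
    rw [this]
    exact Ideal.mul_mem_left _ _ (Ideal.mem_map_of_mem _ hx)
  obtain ⟨m, ⟨M, rfl⟩, hm⟩ := (IsLocalization.algebraMap_mem_map_algebraMap_iff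
    (Submonoid.powers (Away.isLocalizationElem hg hf)) _ Jg _).mp hy
  refine ⟨M, fun k hk => ?_⟩
  have : Away.mk 𝒜 hg (k + n) (f ^ k * a) (mem_smul_one 𝒜 (pow_mul_mem hf k ha)) =
      (Away.isLocalizationElem hg hf) ^ (k - M) *
        ((Away.isLocalizationElem hg hf) ^ M * Away.mk 𝒜 hg n a (mem_smul_one 𝒜 ha)) := by
    rw [← mul_assoc, ← pow_add, Nat.sub_add_cancel hk]
    ext
    simp only [val_mul, val_pow, Away.val_mk, Localization.mk_pow, Localization.mk_mul]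
    rw [Localization.mk_eq_mk_iff, Localization.r_iff_exists]
    exact ⟨1, by simp; ring⟩
  rw [this]
  exact Ideal.mul_mem_left _ _ hm

end key


section main
variable {s : Finset A} {hs1 : ∀ f ∈ s, f ∈ 𝒜 1}
  {J : ∀ (f : A), f ∈ 𝒜 1 → Ideal (Away 𝒜 f)}

theorem mk_mem_iff_exists
    (hcompat : ∀ (f g : A) (hfs : f ∈ s) (hgs : g ∈ s),
      (J f (hs1 f hfs)).map (awayMap 𝒜 (hs1 g hgs) (mul_comm g f)) =
        (J g (hs1 g hgs)).map (awayMap 𝒜 (hs1 f hfs) (rfl : g * f = g * f)))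
    {f : A} (hfs : f ∈ s) {n : ℕ} {a : A} (ha : a ∈ 𝒜 n) :
    Away.mk 𝒜 (hs1 f hfs) n a (mem_smul_one 𝒜 ha) ∈ J f (hs1 f hfs) ↔
      ∃ k, f ^ k * a ∈ idl 𝒜 s hs1 J := by
  constructor
  · intro hx
    have h1 : ∀ g : s, ∃ M, ∀ k, M ≤ k →
        Away.mk 𝒜 (hs1 g.1 g.2) (k + n) (f ^ k * a)
          (mem_smul_one 𝒜 (pow_mul_mem (hs1 f hfs) k ha)) ∈ J g.1 (hs1 g.1 g.2) :=
      fun g => exists_forall_mk_mem (hs1 f hfs) (hs1 g.1 g.2) _ _ (hcompat f g.1 hfs g.2) ha hx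
    choose M hM using h1
    refine ⟨s.attach.sup M, ?_⟩
    rw [mem_idl_of_mem (pow_mul_mem (hs1 f hfs) _ ha)]
    intro g hgs
    exact hM ⟨g, hgs⟩ _ (Finset.le_sup (f := M) (Finset.mem_attach s ⟨g, hgs⟩))
  · rintro ⟨k, hk⟩
    rw [mem_idl_of_mem (pow_mul_mem (hs1 f hfs) _ ha)] at hk
    have := hk f hfs
    rwa [mk_pow_mul_eq _ _ ha] at this

variable {B : Type u} [CommRing B] [Algebra R B] {ℬ : ℕ → Submodule R B} [GradedAlgebra ℬ]

theorem mk_mem_ker_awayMap_iff (φ : 𝒜 →+*ᵍ ℬ) {f : A} {d : ℕ} (hf : f ∈ 𝒜 d) (n : ℕ) (a : A)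
    (ha : a ∈ 𝒜 (n • d)) :
    Away.map φ f (Away.mk 𝒜 hf n a ha) = 0 ↔ ∃ k, φ (f ^ k * a) = 0 := by
  rw [Away.map_mk, Groth.Agent.Helper6.away_mk_eq_zero_iff]
  simp only [map_mul, map_pow]

theorem ker_awayMap_eq
    (hcompat : ∀ (f g : A) (hfs : f ∈ s) (hgs : g ∈ s),
      (J f (hs1 f hfs)).map (awayMap 𝒜 (hs1 g hgs) (mul_comm g f)) =
        (J g (hs1 g hgs)).map (awayMap 𝒜 (hs1 f hfs) (rfl : g * f = g * f)))
    (φ : 𝒜 →+*ᵍ ℬ) (hφ : ∀ a, φ a = 0 ↔ a ∈ idl 𝒜 s hs1 J) {f : A} (hfs : f ∈ s) :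
    RingHom.ker (Away.map φ f) = J f (hs1 f hfs) := by
  ext x
  obtain ⟨n, a, ha, rfl⟩ := Away.mk_surjective 𝒜 (hs1 f hfs) x
  have ha' : a ∈ 𝒜 n := by simpa using ha
  rw [RingHom.mem_ker, mk_mem_ker_awayMap_iff]
  simp only [hφ]
  exact (mk_mem_iff_exists hcompat hfs ha').symm

end main


section irrel
variable {B : Type u} [CommRing B] [Algebra R B] {ℬ : ℕ → Submodule R B} [GradedAlgebra ℬ]

theorem irrelevant_le_map_of_surjective (φ : 𝒜 →+*ᵍ ℬ) (hsurj : Function.Surjective φ) :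
    HomogeneousIdeal.irrelevant ℬ ≤ (HomogeneousIdeal.irrelevant 𝒜).map φ := by
  intro b hb
  obtain ⟨a, rfl⟩ := hsurj b
  have h0 : (decompose ℬ (φ a) 0 : B) = 0 := (HomogeneousIdeal.mem_irrelevant_iff _ _).mp hb
  have h1 : φ a = φ (a - (decompose 𝒜 a 0 : A)) := by
    rw [map_sub, GradedRingHom.map_directSumDecompose, h0, sub_zero]
  rw [h1]
  apply Ideal.mem_map_of_mem
  change _ ∈ HomogeneousIdeal.irrelevant 𝒜
  rw [HomogeneousIdeal.mem_irrelevant_iff, GradedRing.proj_apply, decompose_sub, decompose_coe,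
    DirectSum.sub_apply, DirectSum.of_eq_same, AddSubgroupClass.coe_sub, sub_self]

end irrel

end Groth.Agent.Helper6.ProjClosedAlg
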