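import Groth.Agent.Lib.Helper6.FSchSpf
import Mathlib.RingTheory.AdicCompletion.RingHom
namespace Groth.Agent.Helper6.FSchLib
open AlgebraicGeometry CategoryTheory Limits Scheme.IdealSheafData
universe u

theorem idealSpec_injective (R : Type u) [CommRing R] : Function.Injective (FSch.idealSpec R) := by
  intro J₁ J₂ h
  have h1 := congrArg (fun K => Scheme.IdealSheafData.ideal K ⟨⊤, isAffineOpen_top _⟩) h
  simp only [IdealComap.idealSpec_ideal_top] at h1
  let e : Γ(Spec (CommRingCat.of R), ⊤) ≃+* R := (Scheme.ΓSpecIso (CommRingCat.of R)).commRingCatIsoToRingEquiv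
  have h2 : Ideal.comap e J₁ = Ideal.comap e J₂ := h1
  exact Ideal.comap_injective_of_surjective e e.surjective h2

section
variable {A B : Type u} [CommRing A] [CommRing B] (I : Ideal A) (K : Ideal B) (φ : B →+* A)
  (h : K ≤ I.comap φ)

theorem isAdicHom_spfMap_iff :
    FSch.IsAdicHom (FSch.spfMap I K φ h) ↔
      ∀ n : ℕ, Ideal.map ((Ideal.Quotient.mk (I ^ (n + 2))).comp φ) (K ^ (n + 1)) =
        Ideal.map (Ideal.Quotient.mk (I ^ (n + 2))) (I ^ (n + 1)) := by
  have key : ∀ n : ℕ, ((FSch.spf B K).ι n).ker.comap ((FSch.spfMap I K φ h : FSch.Hom _ _).app (n + 1)) =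
      FSch.idealSpec (A ⧸ I ^ (n + 2))
        (Ideal.map ((Ideal.Quotient.mk (I ^ (n + 2))).comp φ) (K ^ (n + 1))) := by
    intro n
    have e1 : (Ideal.map (Ideal.Quotient.mk (K ^ (n + 2))) (K ^ (n + 1))).map
        (FSch.quotPowMap I K φ h (n + 1)) =
        Ideal.map ((Ideal.Quotient.mk (I ^ (n + 2))).comp φ) (K ^ (n + 1)) := by
      rw [Ideal.map_map]
      congr 1
    exact (congrArg (fun J => Scheme.IdealSheafData.comap J
      ((FSch.spfMap I K φ h : FSch.Hom _ _).app (n + 1))) (spf_ker_ι B K n)).trans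
      ((IdealComap.comap_idealSpec _ _ (FSch.quotPowMap I K φ h (n + 1)) _).trans
        (congrArg (FSch.idealSpec (A ⧸ I ^ (n + 2))) e1))
  constructor
  · intro H n
    have := ((spf_isFormal B K) n).1
    have h1 := ker_of_isPullback (H n)
    rw [key n] at h1
    exact (idealSpec_injective _ ((spf_ker_ι A I n).symm.trans h1)).symm
  · intro H n
    have := ((spf_isFormal B K) n).1
    have := ((spf_isFormal A I) n).1
    refine isPullback_of_isClosedImmersion _ _ _ _ ((FSch.spfMap I K φ h : FSch.Hom _ _).comm n).symm ?_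
    rw [key n, H n]
    exact (spf_ker_ι A I n).symm

end

end Groth.Agent.Helper6.FSchLib
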