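import Mathlib.AlgebraicGeometry.ProjectiveSpectrum.Functor
import Mathlib.AlgebraicGeometry.Morphisms.ClosedImmersion

set_option autoImplicit false
universe u

namespace Groth.Agent.Helper6

open AlgebraicGeometry HomogeneousLocalization CategoryTheory CategoryTheory.Limits

section generic

theorem of_openCover_isPullback {P : MorphismProperty Scheme.{u}} [IsZariskiLocalAtTarget P]
    {X Y : Scheme.{u}} (f : X ⟶ Y) (𝒰 : Y.OpenCover) (W : 𝒰.I₀ → Scheme.{u})
    (g : ∀ i, W i ⟶ 𝒰.X i) (iU : ∀ i, W i ⟶ X)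
    (h : ∀ i, IsPullback (g i) (iU i) (𝒰.f i) f) (hg : ∀ i, P (g i)) : P f := by
  apply IsZariskiLocalAtTarget.of_openCover 𝒰
  intro i
  have h2 : (h i).flip.isoPullback.hom ≫ pullback.snd f (𝒰.f i) = g i :=
    (h i).flip.isoPullback_hom_snd
  have h3 : P ((h i).flip.isoPullback.hom ≫ pullback.snd f (𝒰.f i)) := by
    rw [h2]; exact hg i
  exact (P.cancel_left_of_respectsIso (h i).flip.isoPullback.hom _).mp h3

end generic

variable {A B σ τ : Type u} [CommRing A] [SetLike σ A] [AddSubgroupClass σ A]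
  [CommRing B] [SetLike τ B] [AddSubgroupClass τ B]
  {𝒜 : ℕ → σ} {ℬ : ℕ → τ} [GradedRing 𝒜] [GradedRing ℬ]
  (φ : 𝒜 →+*ᵍ ℬ) (hφ : HomogeneousIdeal.irrelevant ℬ ≤ (HomogeneousIdeal.irrelevant 𝒜).map φ)

theorem awayMap_surjective (hsurj : Function.Surjective φ) {s : A} {d : ℕ} (hs : s ∈ 𝒜 d) :
    Function.Surjective (Away.map φ s) := by
  classical
  intro x
  obtain ⟨n, b, hb, rfl⟩ := Away.mk_surjective ℬ (φ.2 hs) x
  obtain ⟨a', rfl⟩ := hsurj b
  refine ⟨Away.mk 𝒜 hs n (DirectSum.decompose 𝒜 a' (n • d)) (SetLike.coe_mem _), ?_⟩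
  rw [Away.map_mk]
  congr 1
  rw [GradedRingHom.map_directSumDecompose, DirectSum.decompose_of_mem_same ℬ hb]

theorem isPullback_awayι_map {i : ℕ} (hi : 0 < i) (s : A) (hs : s ∈ 𝒜 i) :
    IsPullback (Spec.map (CommRingCat.ofHom (Away.map φ s)))
      (Proj.awayι ℬ (φ s) (φ.2 hs) hi) (Proj.awayι 𝒜 s hs hi) (Proj.map φ hφ) := by
  apply IsOpenImmersion.isPullback
  · exact Proj.awayι_comp_map φ hφ hi s hs
  · rw [Proj.opensRange_awayι, Proj.opensRange_awayι, Proj.map_preimage_basicOpen]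

theorem proj_map_of_awayMap {P : MorphismProperty Scheme.{u}} [IsZariskiLocalAtTarget P]
    (h : ∀ (i : ℕ) (_ : 0 < i) (s : A) (_ : s ∈ 𝒜 i),
      P (Spec.map (CommRingCat.ofHom (Away.map φ s)))) :
    P (Proj.map φ hφ) := by
  refine of_openCover_isPullback (Proj.map φ hφ) (Proj.affineOpenCover 𝒜).openCover
    (fun i => Spec (CommRingCat.of (Away ℬ (φ i.2.1))))
    (fun i => Spec.map (CommRingCat.ofHom (Away.map φ i.2.1)))
    (fun i => Proj.awayι ℬ (φ i.2.1) (φ.2 i.2.2) i.1.2) ?_ ?_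
  · intro i
    exact isPullback_awayι_map φ hφ i.1.2 i.2.1 i.2.2
  · intro i
    exact h i.1 i.1.2 i.2.1 i.2.2

theorem proj_map_isClosedImmersion_of_surjective (hsurj : Function.Surjective φ) :
    IsClosedImmersion (Proj.map φ hφ) := by
  apply proj_map_of_awayMap (P := @IsClosedImmersion) φ hφ
  intro i hi s hs
  exact IsClosedImmersion.spec_of_surjective _ (awayMap_surjective φ hsurj hs)

end Groth.Agent.Helper6
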