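import Groth.Agent.Lib.Helper6.ProjClosedAlg
import Groth.Agent.Lib.Helper6.GradedQuot
import Groth.Agent.Lib.Helper6.ProjMap
import Groth.Agent.Lib.Helper6.FSchSpf2

set_option autoImplicit false
namespace Groth.Agent.Helper6.ProjClosed
universe u
open AlgebraicGeometry CategoryTheory Limits HomogeneousLocalization Scheme.IdealSheafData
open Groth.Agent.Helper6.IdealComap Groth.Agent.Helper6.FSchLib Groth.Agent.Helper6.ProjClosedAlg

section affine
variable (R : Type u) [CommRing R]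

/-- ideal of `R` corresponding to an ideal sheaf on `Spec R` -/
noncomputable def idealOf (K : (Spec (CommRingCat.of R)).IdealSheafData) : Ideal R :=
  (K.ideal ⟨⊤, isAffineOpen_top _⟩).comap (Scheme.ΓSpecIso (CommRingCat.of R)).inv.hom

theorem idealSpec_idealOf (K : (Spec (CommRingCat.of R)).IdealSheafData) :
    FSch.idealSpec R (idealOf R K) = K := by
  apply Scheme.IdealSheafData.ext_of_isAffine
  rw [idealSpec_ideal_top]
  unfold idealOf
  rw [Ideal.comap_comap]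
  have : ((Scheme.ΓSpecIso (CommRingCat.of R)).inv.hom).comp
      (Scheme.ΓSpecIso (CommRingCat.of R)).hom.hom = RingHom.id _ := by
    rw [← CommRingCat.hom_comp, Iso.hom_inv_id]; rfl
  rw [this, Ideal.comap_id]

end affine

theorem ext_of_openImmersions {X : Scheme.{u}} {I J : X.IdealSheafData} {ι : Type*}
    (U : ι → Scheme.{u}) [∀ i, IsAffine (U i)]
    (j : ∀ i, U i ⟶ X) [∀ i, IsOpenImmersion (j i)] (hj : ⨆ i, (j i).opensRange = ⊤)
    (h : ∀ i, I.comap (j i) = J.comap (j i)) : I = J := by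
  refine ext_of_iSup_eq_top
    (fun i => ⟨(j i) ''ᵁ ⊤, (isAffineOpen_top (U i)).image_of_isOpenImmersion (j i)⟩) ?_ ?_
  · simpa [Scheme.Hom.image_top_eq_opensRange] using hj
  · intro i
    have h1 := ideal_comap_of_isOpenImmersion I (j i) ⟨⊤, isAffineOpen_top _⟩
    have h2 := ideal_comap_of_isOpenImmersion J (j i) ⟨⊤, isAffineOpen_top _⟩
    rw [h i] at h1
    have h3 := h1.symm.trans h2
    refine Ideal.comap_injective_of_surjective _ ?_ h3
    exact (ConcreteCategory.bijective_of_isIso ((j i).appIso ⊤).inv).2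

section proj
variable {R A : Type u} [CommRing R] [CommRing A] [Algebra R A] (𝒜 : ℕ → Submodule R A)
  [GradedAlgebra 𝒜] (𝒥 : (Proj 𝒜).IdealSheafData)

/-- local ideals of an ideal sheaf on `Proj`. -/
noncomputable def Jloc (f : A) (hf : f ∈ 𝒜 1) : Ideal (Away 𝒜 f) :=
  idealOf _ (𝒥.comap (Proj.awayι 𝒜 f hf one_pos))

theorem idealSpec_Jloc (f : A) (hf : f ∈ 𝒜 1) :
    FSch.idealSpec _ (Jloc 𝒜 𝒥 f hf) = 𝒥.comap (Proj.awayι 𝒜 f hf one_pos) :=
  idealSpec_idealOf _ _

theorem Jloc_compat (f g : A) (hf : f ∈ 𝒜 1) (hg : g ∈ 𝒜 1) :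
    (Jloc 𝒜 𝒥 f hf).map (awayMap 𝒜 hg (mul_comm g f)) =
      (Jloc 𝒜 𝒥 g hg).map (awayMap 𝒜 hf (rfl : g * f = g * f)) := by
  apply idealSpec_injective
  rw [← comap_idealSpec, ← comap_idealSpec, idealSpec_Jloc, idealSpec_Jloc,
    ← Scheme.IdealSheafData.comap_comp, ← Scheme.IdealSheafData.comap_comp,
    Proj.SpecMap_awayMap_awayι, Proj.SpecMap_awayMap_awayι]

theorem exists_proj_quotient (s : Finset A) (hs1 : ∀ f ∈ s, f ∈ 𝒜 1)
    (hs : (HomogeneousIdeal.irrelevant 𝒜).toIdeal = Ideal.span (s : Set A))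
    {Z : Scheme.{u}} (i : Z ⟶ Proj 𝒜) [IsClosedImmersion i] :
    ∃ (B : Type u) (_ : CommRing B) (_ : Algebra R B) (ℬ : ℕ → Submodule R B) (_ : GradedAlgebra ℬ)
      (φ : 𝒜 →+*ᵍ ℬ) (_ : Function.Surjective φ)
      (hφ : HomogeneousIdeal.irrelevant ℬ ≤ (HomogeneousIdeal.irrelevant 𝒜).map φ)
      (e : Z ≅ Proj ℬ), e.hom ≫ Proj.map φ hφ = i := by
  let I := idl 𝒜 s hs1 (Jloc 𝒜 i.ker)
  have hI : I.IsHomogeneous 𝒜 := idl_isHomogeneous
  let _ : GradedAlgebra (GradedQuot.grading 𝒜 I) := GradedQuot.gradedAlgebra 𝒜 hI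
  let φ : 𝒜 →+*ᵍ GradedQuot.grading 𝒜 I := GradedQuot.mkHom 𝒜 I
  have hsurj : Function.Surjective φ := Ideal.Quotient.mk_surjective
  have hφ := irrelevant_le_map_of_surjective φ hsurj
  have hcl : IsClosedImmersion (Proj.map φ hφ) :=
    proj_map_isClosedImmersion_of_surjective φ hφ hsurj
  have hker : (Proj.map φ hφ).ker = i.ker := by
    refine ext_of_openImmersions (ι := s) (fun f => Spec (.of (Away 𝒜 f.1)))
      (fun f => Proj.awayι 𝒜 f.1 (hs1 f.1 f.2) one_pos) ?_ ?_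
    · simp_rw [Proj.opensRange_awayι]
      exact Proj.iSup_basicOpen_eq_top 𝒜 (fun f : s => f.1) (by rw [hs]; simp)
    · intro f
      rw [← ker_of_isPullback (isPullback_awayι_map φ hφ one_pos f.1 (hs1 f.1 f.2)),
        ker_specMap_of_surjective _ (awayMap_surjective φ hsurj (hs1 f.1 f.2)), ← idealSpec_Jloc]
      congr 1
      exact ker_awayMap_eq (fun f g hfs hgs => Jloc_compat 𝒜 i.ker f g _ _) φ
        (fun a => Ideal.Quotient.eq_zero_iff_mem) f.2
  have := IsClosedImmersion.isIso_lift (Proj.map φ hφ) i hker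
  exact ⟨A ⧸ I, inferInstance, inferInstance, GradedQuot.grading 𝒜 I, inferInstance, φ, hsurj, hφ,
    asIso (IsClosedImmersion.lift (Proj.map φ hφ) i hker.le), IsClosedImmersion.lift_fac _ _ _⟩

end proj

end Groth.Agent.Helper6.ProjClosed
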