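import Groth.Agent.Lib.Helper6.GrModFracA

set_option autoImplicit false
set_option linter.style.haveILetI false
set_option linter.unusedSectionVars false
universe u
open DirectSum CategoryTheory CategoryTheory.Limits AlgebraicGeometry Opposite TopologicalSpace

namespace Groth.Agent.Helper6.GrModFrac

variable {A σ : Type u} [CommRing A] [SetLike σ A] [AddSubgroupClass σ A] (𝒜 : ℕ → σ) [GradedRing 𝒜]
variable {M₁ τ₁ : Type u} [AddCommGroup M₁] [Module A M₁] [SetLike τ₁ M₁] [AddSubgroupClass τ₁ M₁]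
    (ℳ₁ : ℕ → τ₁) [SetLike.GradedSMul 𝒜 ℳ₁] [DirectSum.Decomposition ℳ₁]
    {M₂ τ₂ : Type u} [AddCommGroup M₂] [Module A M₂] [SetLike τ₂ M₂] [AddSubgroupClass τ₂ M₂]
    (ℳ₂ : ℕ → τ₂) [SetLike.GradedSMul 𝒜 ℳ₂] [DirectSum.Decomposition ℳ₂]
    {M₃ τ₃ : Type u} [AddCommGroup M₃] [Module A M₃] [SetLike τ₃ M₃] [AddSubgroupClass τ₃ M₃]
    (ℳ₃ : ℕ → τ₃) [SetLike.GradedSMul 𝒜 ℳ₃] [DirectSum.Decomposition ℳ₃]

/-- degree-preserving linear maps commute with the projections. -/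
theorem map_proj (u : M₁ →ₗ[A] M₂) (hu : ∀ (i : ℕ) (m : M₁), m ∈ ℳ₁ i → u m ∈ ℳ₂ i) (x : M₁)
    (Q : ℕ) : ((decompose ℳ₂ (u x) Q : ℳ₂ Q) : M₂) = u (decompose ℳ₁ x Q : M₁) := by
  classical
  conv_lhs => rw [← DirectSum.sum_support_decompose ℳ₁ x, map_sum, DirectSum.decompose_sum]
  rw [DirectSum.sum_apply, AddSubmonoidClass.coe_finsetSum]
  have key : ∀ i' ∈ DFinsupp.support (decompose ℳ₁ x),
      ((decompose ℳ₂ (u (decompose ℳ₁ x i' : M₁)) Q : ℳ₂ Q) : M₂) =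
        if i' = Q then u (decompose ℳ₁ x Q : M₁) else 0 := by
    intro i' _
    have hmem : u (decompose ℳ₁ x i' : M₁) ∈ ℳ₂ i' := hu i' _ (decompose ℳ₁ x i').2
    split_ifs with hi
    · subst hi
      exact DirectSum.decompose_of_mem_same ℳ₂ hmem
    · exact DirectSum.decompose_of_mem_ne ℳ₂ hmem hi
  rw [Finset.sum_congr rfl key, Finset.sum_ite_eq']
  split_ifs with hi
  · rfl
  · rw [DFinsupp.notMem_support_iff] at hi
    rw [hi, ZeroMemClass.coe_zero, map_zero]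

theorem locMap_comp_eq_zero (u : M₁ →ₗ[A] M₂) (v : M₂ →ₗ[A] M₃) (hex : Function.Exact u v)
    (y : ProjectiveSpectrum 𝒜) (z : GrMod.LocMod 𝒜 (M := M₁) y) :
    GrMod.locMap v y (GrMod.locMap u y z) = 0 := by
  induction z using LocalizedModule.induction_on with
  | h z w =>
    rw [GrMod.locMap_mk, GrMod.locMap_mk, hex.apply_apply_eq_zero, LocalizedModule.zero_mk]

set_option maxHeartbeats 800000 in
theorem exact_mapApp (u : M₁ →ₗ[A] M₂) (hu : ∀ (i : ℕ) (m : M₁), m ∈ ℳ₁ i → u m ∈ ℳ₂ i)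
    (v : M₂ →ₗ[A] M₃) (hv : ∀ (i : ℕ) (m : M₂), m ∈ ℳ₂ i → v m ∈ ℳ₃ i)
    (hex : Function.Exact u v) (n : ℤ) {d : ℕ} (hd : 0 < d) {f : A} (hf : f ∈ 𝒜 d) :
    Function.Exact (GrMod.mapApp (ℳ := ℳ₁) (𝒩 := ℳ₂) u hu n
        (op (ProjectiveSpectrum.basicOpen 𝒜 f)))
      (GrMod.mapApp (ℳ := ℳ₂) (𝒩 := ℳ₃) v hv n (op (ProjectiveSpectrum.basicOpen 𝒜 f))) := by
  intro s
  constructor
  · intro hs
    obtain ⟨L, q, m, hm, hq, hval⟩ := exists_global_frac 𝒜 ℳ₂ n hd hf s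
    have hkill : ∀ y : ProjectiveSpectrum 𝒜, f ∉ y.asHomogeneousIdeal →
        ∃ t : A, t ∉ y.asHomogeneousIdeal ∧ t • v m = 0 := by
      intro y hy
      have h1 : valAt 𝒜 ℳ₃ n (GrMod.mapApp (ℳ := ℳ₂) (𝒩 := ℳ₃) v hv n
          (op (ProjectiveSpectrum.basicOpen 𝒜 f)) s) y hy = 0 := by
        rw [hs]
        rfl
      have h2 : valAt 𝒜 ℳ₃ n (GrMod.mapApp (ℳ := ℳ₂) (𝒩 := ℳ₃) v hv n
          (op (ProjectiveSpectrum.basicOpen 𝒜 f)) s) y hy =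
          GrMod.locMap v y (valAt 𝒜 ℳ₂ n s y hy) := rfl
      rw [h2, hval y hy, GrMod.locMap_mk] at h1
      rw [← LocalizedModule.zero_mk 1, LocalizedModule.mk_eq] at h1
      obtain ⟨t, ht⟩ := h1
      refine ⟨t.1, t.2, ?_⟩
      rw [one_smul, smul_zero, smul_zero] at ht
      exact ht
    obtain ⟨N, hN⟩ := exists_pow_smul_eq_zero 𝒜 ℳ₃ hd hf (hv q m hm) hkill
    have h3 : v (f ^ N • m) = 0 := by rw [map_smul, hN]
    obtain ⟨m₁, hm₁⟩ := (hex (f ^ N • m)).1 h3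
    have hfm : f ^ N • m ∈ ℳ₂ (N • d + q) :=
      SetLike.GradedSMul.smul_mem (SetLike.pow_mem_graded N hf) hm
    have h4 : u (decompose ℳ₁ m₁ (N • d + q) : M₁) = f ^ N • m := by
      rw [← map_proj ℳ₁ ℳ₂ u hu m₁ (N • d + q), hm₁]
      exact DirectSum.decompose_of_mem_same ℳ₂ hfm
    have hij : ((N • d + q : ℕ) : ℤ) = (((N + L) • d : ℕ) : ℤ) + n := by
      simp only [smul_eq_mul]
      push_cast
      rw [hq]
      ring
    refine ⟨fracPow 𝒜 ℳ₁ n hf (N + L) (decompose ℳ₁ m₁ (N • d + q)) hij, ?_⟩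
    have key : ∀ (y : ProjectiveSpectrum 𝒜) (hy : f ∉ y.asHomogeneousIdeal),
        GrMod.locMap u y (valAt 𝒜 ℳ₁ n (fracPow 𝒜 ℳ₁ n hf (N + L)
          (decompose ℳ₁ m₁ (N • d + q)) hij) y hy) = valAt 𝒜 ℳ₂ n s y hy := by
      intro y hy
      rw [fracPow_apply, GrMod.locMap_mk, hval y hy, h4, LocalizedModule.mk_eq]
      refine ⟨1, ?_⟩
      rw [one_smul, one_smul]
      change f ^ L • (f ^ N • m) = f ^ (N + L) • m
      rw [smul_smul, pow_add, mul_comm]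
    refine Subtype.ext (funext fun x => Subtype.ext ?_)
    exact key x.1 ((ProjectiveSpectrum.mem_basicOpen 𝒜 f x.1).1 x.2)
  · rintro ⟨t, rfl⟩
    refine Subtype.ext (funext fun x => Subtype.ext ?_)
    exact locMap_comp_eq_zero 𝒜 u v hex x.1 (t.1 x).1

theorem exact_map_app (u : M₁ →ₗ[A] M₂) (hu : ∀ (i : ℕ) (m : M₁), m ∈ ℳ₁ i → u m ∈ ℳ₂ i)
    (v : M₂ →ₗ[A] M₃) (hv : ∀ (i : ℕ) (m : M₂), m ∈ ℳ₂ i → v m ∈ ℳ₃ i)
    (hex : Function.Exact u v) (n : ℤ) {d : ℕ} (hd : 0 < d) (f : A) (hf : f ∈ 𝒜 d) :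
    Function.Exact ((GrMod.map 𝒜 u hu n).app (Proj.basicOpen 𝒜 f))
      ((GrMod.map 𝒜 v hv n).app (Proj.basicOpen 𝒜 f)) :=
  exact_mapApp 𝒜 ℳ₁ ℳ₂ ℳ₃ u hu v hv hex n hd hf

end Groth.Agent.Helper6.GrModFrac
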