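import Mathlib

/-!
# Inverse limits of towers of rings: projections are surjective, completeness
-/

namespace Groth.Agent.Helper6.TowerLim
universe u

section Tower
variable (R : ℕ → Type u) [∀ n, CommRing (R n)] (φ : ∀ n, R (n + 1) →+* R n)

/-- The inverse limit of a tower of commutative rings. -/
def Lim : Subring (∀ n, R n) where
  carrier := {x | ∀ n, φ n (x (n + 1)) = x n}
  mul_mem' := by
    intro a b ha hb n
    rw [Pi.mul_apply, map_mul, ha n, hb n, Pi.mul_apply]
  one_mem' := by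
    intro n
    rw [Pi.one_apply, map_one, Pi.one_apply]
  add_mem' := by
    intro a b ha hb n
    rw [Pi.add_apply, map_add, ha n, hb n, Pi.add_apply]
  zero_mem' := by
    intro n
    rw [Pi.zero_apply, map_zero, Pi.zero_apply]
  neg_mem' := by
    intro a ha n
    rw [Pi.neg_apply, map_neg, ha n, Pi.neg_apply]

/-- The projection to level `n`. -/
def proj (n : ℕ) : Lim R φ →+* R n := (Pi.evalRingHom R n).comp (Lim R φ).subtype

theorem proj_apply (n : ℕ) (x : Lim R φ) : proj R φ n x = x.1 n := rfl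

theorem φ_proj (n : ℕ) (x : Lim R φ) : φ n (proj R φ (n + 1) x) = proj R φ n x := x.2 n

variable {R φ} in
theorem ext_proj {x y : Lim R φ} (h : ∀ n, proj R φ n x = proj R φ n y) : x = y :=
  Subtype.ext (funext h)

theorem exists_limit (s : ℕ → Lim R φ)
    (hs : ∀ k, proj R φ k (s (k + 1)) = proj R φ k (s k)) :
    ∃ x : Lim R φ, ∀ k, proj R φ k x = proj R φ k (s k) :=
  ⟨⟨fun k => proj R φ k (s k), fun k => by
      show φ k (proj R φ (k + 1) (s (k + 1))) = proj R φ k (s k)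
      rw [φ_proj, hs]⟩, fun _ => rfl⟩

variable {R}

/-- Push an element of level `n` down to all lower levels (junk above). -/
def down : (n : ℕ) → R n → (m : ℕ) → R m
  | 0, a, m => if h : m = 0 then h ▸ a else 0
  | n + 1, a, m => if h : m = n + 1 then h ▸ a else down n (φ n a) m

theorem down_self (n : ℕ) (a : R n) : down φ n a n = a := by
  cases n with
  | zero => simp [down]
  | succ n => simp [down]

theorem down_succ_of_ne (n : ℕ) (a : R (n + 1)) (m : ℕ) (h : m ≠ n + 1) :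
    down φ (n + 1) a m = down φ n (φ n a) m := by
  rw [down, dif_neg h]

theorem φ_down : ∀ (n : ℕ) (a : R n) (m : ℕ), m + 1 ≤ n →
    φ m (down φ n a (m + 1)) = down φ n a m
  | 0, a, m, h => by omega
  | n + 1, a, m, h => by
    by_cases hm : m = n
    · subst hm
      rw [down_self, down_succ_of_ne _ _ _ _ (by omega), down_self]
    · rw [down_succ_of_ne _ _ _ _ (by omega), down_succ_of_ne _ _ _ _ (by omega)]
      exact φ_down n (φ n a) m (by omega)

variable (hφ : ∀ n, Function.Surjective (φ n))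

/-- A compatible sequence through a given element of level `n`. -/
noncomputable def liftSeq (n : ℕ) (a : R n) : (m : ℕ) → R m
  | 0 => down φ n a 0
  | m + 1 => if m + 1 ≤ n then down φ n a (m + 1)
      else Function.surjInv (hφ m) (liftSeq n a m)

theorem liftSeq_of_le (n : ℕ) (a : R n) (m : ℕ) (h : m ≤ n) :
    liftSeq φ hφ n a m = down φ n a m := by
  cases m with
  | zero => rfl
  | succ m => rw [liftSeq, if_pos h]

theorem φ_liftSeq (n : ℕ) (a : R n) (m : ℕ) :
    φ m (liftSeq φ hφ n a (m + 1)) = liftSeq φ hφ n a m := by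
  by_cases h : m + 1 ≤ n
  · rw [liftSeq_of_le φ hφ n a (m + 1) h, liftSeq_of_le φ hφ n a m (by omega),
      φ_down φ n a m h]
  · rw [liftSeq, if_neg h, Function.surjInv_eq (hφ m)]

include hφ in
theorem proj_surjective (n : ℕ) : Function.Surjective (proj R φ n) := fun a =>
  ⟨⟨liftSeq φ hφ n a, fun m => φ_liftSeq φ hφ n a m⟩, by
    rw [proj_apply]
    exact (liftSeq_of_le φ hφ n a n le_rfl).trans (down_self φ n a)⟩

end Tower

section Filt
variable {A : Type u} [CommRing A]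

theorem le_of_le_sup_sq {J N : Ideal A} (h : J ≤ N ⊔ J ^ 2) (k : ℕ)
    (hk : J ^ k = ⊥) : J ≤ N := by
  have key : ∀ i : ℕ, J ≤ N ⊔ J ^ (i + 1) := by
    intro i
    induction i with
    | zero =>
      rw [zero_add, pow_one]
      exact le_sup_right
    | succ i ih =>
      have h2 : J ^ 2 ≤ N ⊔ J ^ (i + 1 + 1) := by
        calc J ^ 2 = J * J := pow_two J
          _ ≤ J * (N ⊔ J ^ (i + 1)) := Ideal.mul_mono_right ih
          _ = J * N ⊔ J * J ^ (i + 1) := Ideal.mul_sup _ _ _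
          _ ≤ N ⊔ J ^ (i + 1 + 1) :=
            sup_le_sup Ideal.mul_le_right (le_of_eq (pow_succ' J (i + 1)).symm)
      exact h.trans (sup_le le_sup_left h2)
  have h3 := key k
  rw [pow_succ, hk, Ideal.bot_mul, sup_bot_eq] at h3
  exact h3

theorem filt_le_pow (F : ℕ → Ideal A) (𝔞 : Ideal A)
    (hF_anti : ∀ n, F (n + 1) ≤ F n) (hsep : ∀ x, (∀ n, x ∈ F n) → x = 0)
    (hcompl : ∀ s : ℕ → A, (∀ k, s (k + 1) - s k ∈ F k) → ∃ x, ∀ k, x - s k ∈ F k)
    (hfg : 𝔞.FG) (hle : ∀ n, 𝔞 ^ (n + 1) ≤ F n)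
    (hstep : ∀ n, F n ≤ 𝔞 ^ (n + 1) ⊔ F (n + 1)) (n : ℕ) : F n ≤ 𝔞 ^ (n + 1) := by
  classical
  intro x hx
  have hanti : ∀ a b, a ≤ b → F b ≤ F a := fun a b hab => antitone_nat_of_succ_le hF_anti hab
  have hstep' : ∀ (m : ℕ) (z : A), ∃ y, z ∈ F m → y ∈ 𝔞 ^ (m + 1) ∧ z - y ∈ F (m + 1) := by
    intro m z
    by_cases hz : z ∈ F m
    · obtain ⟨y, hy, w, hw, hyw⟩ := Submodule.mem_sup.mp (hstep m hz)
      exact ⟨y, fun _ => ⟨hy, by rw [← hyw, add_sub_cancel_left]; exact hw⟩⟩
    · exact ⟨0, fun h => absurd h hz⟩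
  choose Y hY using hstep'
  obtain ⟨r, hr0, hrs⟩ : ∃ r : ℕ → A, r 0 = x ∧ ∀ k, r (k + 1) = r k - Y (n + k) (r k) :=
    ⟨fun k => Nat.rec x (fun k rk => rk - Y (n + k) rk) k, rfl, fun _ => rfl⟩
  have hr : ∀ k, r k ∈ F (n + k) := by
    intro k
    induction k with
    | zero => rw [hr0]; exact hx
    | succ k ih => rw [hrs]; exact (hY (n + k) (r k) ih).2
  obtain ⟨y, hydef⟩ : ∃ y : ℕ → A, ∀ k, y k = Y (n + k) (r k) :=
    ⟨fun k => Y (n + k) (r k), fun _ => rfl⟩
  have hy : ∀ k, y k ∈ 𝔞 ^ (n + k + 1) := fun k => by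
    rw [hydef]; exact (hY (n + k) (r k) (hr k)).1
  have hsum : ∀ k, x = (∑ i ∈ Finset.range k, y i) + r k := by
    intro k
    induction k with
    | zero => simp [hr0]
    | succ k ih =>
      rw [Finset.sum_range_succ, hrs, ← hydef]
      linear_combination ih
  obtain ⟨N, g, hg⟩ := Submodule.fg_iff_exists_fin_generating_family.mp
    (Ideal.FG.pow (n := n + 1) hfg)
  have hyk : ∀ k, ∃ c : Fin N → A, (∀ j, c j ∈ 𝔞 ^ k) ∧ ∑ j, c j * g j = y k := by
    intro k
    have h1 : y k ∈ 𝔞 ^ k * 𝔞 ^ (n + 1) := by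
      rw [← pow_add]
      have e : k + (n + 1) = n + k + 1 := by omega
      rw [e]
      exact hy k
    rw [← hg, ← smul_eq_mul] at h1
    obtain ⟨c, hc1, hc2⟩ := (Submodule.mem_ideal_smul_span_iff_exists_sum _ _ _).mp h1
    refine ⟨fun j => c j, hc1, ?_⟩
    rw [← hc2, Finsupp.sum_fintype]
    · rfl
    · intro i
      exact zero_smul _ _
  choose c hc1 hc2 using hyk
  have hC : ∀ j : Fin N, ∃ C : A, ∀ k, C - ∑ i ∈ Finset.range (k + 1), c i j ∈ F k := by
    intro j
    apply hcompl (fun k => ∑ i ∈ Finset.range (k + 1), c i j)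
    intro k
    show (∑ i ∈ Finset.range (k + 1 + 1), c i j) - ∑ i ∈ Finset.range (k + 1), c i j ∈ F k
    rw [Finset.sum_range_succ _ (k + 1), add_sub_cancel_left]
    exact hle k (hc1 (k + 1) j)
  choose C hC' using hC
  have hx_eq : x = ∑ j, C j * g j := by
    rw [← sub_eq_zero]
    apply hsep
    intro k
    have e1 : ∑ j, (∑ i ∈ Finset.range (k + 1), c i j) * g j =
        ∑ i ∈ Finset.range (k + 1), y i := by
      simp_rw [Finset.sum_mul]
      rw [Finset.sum_comm]
      exact Finset.sum_congr rfl fun i _ => hc2 i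
    have e2 := hsum (k + 1)
    have e : x - ∑ j, C j * g j =
        r (k + 1) - ∑ j, (C j - ∑ i ∈ Finset.range (k + 1), c i j) * g j := by
      simp_rw [sub_mul]
      rw [Finset.sum_sub_distrib, e1]
      linear_combination e2
    rw [e]
    exact Ideal.sub_mem _ (hanti k (n + (k + 1)) (by omega) (hr (k + 1)))
      (Ideal.sum_mem _ fun j _ => Ideal.mul_mem_right _ _ (hC' j k))
  rw [hx_eq, ← hg]
  exact Submodule.sum_mem _ fun j _ =>
    Submodule.smul_mem _ _ (Submodule.subset_span ⟨j, rfl⟩)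

theorem isAdicComplete_of_filt (F : ℕ → Ideal A) (𝔞 : Ideal A)
    (hFeq : ∀ n, F n = 𝔞 ^ (n + 1)) (hsep : ∀ x, (∀ n, x ∈ F n) → x = 0)
    (hcompl : ∀ s : ℕ → A, (∀ k, s (k + 1) - s k ∈ F k) → ∃ x, ∀ k, x - s k ∈ F k) :
    IsAdicComplete 𝔞 A := by
  have hsm : ∀ n : ℕ, (𝔞 ^ n • ⊤ : Submodule A A) = 𝔞 ^ n := fun n => by
    rw [smul_eq_mul, Ideal.mul_top]
  haveI : IsHausdorff 𝔞 A := ⟨fun x hx => hsep x fun n => by
    rw [hFeq]
    have := hx (n + 1)
    rwa [SModEq.zero, hsm] at this⟩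
  haveI : IsPrecomplete 𝔞 A := ⟨fun f hf => by
    obtain ⟨L, hL⟩ := hcompl (fun k => f (k + 1)) (fun k => by
      show f (k + 1 + 1) - f (k + 1) ∈ F k
      rw [hFeq]
      have := (hf (Nat.le_succ (k + 1))).symm
      rwa [SModEq.sub_mem, hsm] at this)
    refine ⟨L, fun n => ?_⟩
    cases n with
    | zero =>
      rw [SModEq.sub_mem, hsm, pow_zero, Ideal.one_eq_top]
      exact Submodule.mem_top
    | succ n =>
      have := hL n
      rw [hFeq] at this
      rw [SModEq.sub_mem, hsm]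
      have h2 : f (n + 1) - L = -(L - f (n + 1)) := by ring
      rw [h2]
      exact Ideal.neg_mem_iff _ |>.mpr this⟩
  exact {}

end Filt

end Groth.Agent.Helper6.TowerLim
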