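import Groth.Prelude.Def_FSch5
import Groth.Agent.Lib.Helper6.TowerLimA
import Groth.Agent.Lib.Helper6.ThickAffB

/-!
# Sections of `O_𝔛 = lim O_{X_n}` over an affine open surject onto the sections of each level
-/

open AlgebraicGeometry CategoryTheory CategoryTheory.Limits Opposite TopologicalSpace

namespace Groth.Agent.Helper6.OshSurj
universe u

open Groth.Agent.Helper6.TowerLim Groth.Agent.Helper6.ThickAff

theorem appLE_surjective_of_eq {X Y : Scheme.{u}} (f : X ⟶ Y) [IsClosedImmersion f]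
    {V : Y.Opens} (hV : IsAffineOpen V) {U' : X.Opens} (hU' : f ⁻¹ᵁ V = U')
    (e : U' ≤ f ⁻¹ᵁ V) : Function.Surjective (f.appLE V U' e) := by
  subst hU'
  rw [Scheme.Hom.appLE_eq_app]
  exact f.app_surjective V hV

variable (𝔛 : FSch.Sys.{u}) (h : 𝔛.IsFormal) (U : (𝔛.X 0).Opens)

theorem toX_preimage_lvU (n : ℕ) : (𝔛.toX n) ⁻¹ᵁ (𝔛.lvU h n U) = U := by
  change (Opens.map ((𝔛.toX n).base ≫ 𝔛.gInv h n)).obj U = U
  rw [FSch.Sys.toX_base_gInv]
  rfl

theorem isAffineOpen_lvU (hU : IsAffineOpen U) (n : ℕ) : IsAffineOpen (𝔛.lvU h n U) := by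
  haveI := FSch.Sys.toX_isClosedImmersion 𝔛 h n
  refine isAffineOpen_of_isAffineOpen_preimage (𝔛.toX n) (FSch.Sys.toX_surjective 𝔛 h n) _ ?_
  rw [toX_preimage_lvU]
  exact hU

/-- The tower of sections over `U`. -/
noncomputable abbrev secF : ℕᵒᵖ ⥤ CommRingCat.{u} :=
  𝔛.levelRing h ⋙ sheafToPresheaf _ _ ⋙ (evaluation _ _).obj (op U)

/-- The cone of sections of `O_𝔛` over `U`. -/
noncomputable abbrev secCone : Cone (secF 𝔛 h U) :=
  (sheafToPresheaf _ _ ⋙ (evaluation _ _).obj (op U)).mapCone (limit.cone (𝔛.levelRing h))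

/-- It is a limit cone. -/
noncomputable def secIsLimit : IsLimit (secCone 𝔛 h U) :=
  isLimitOfPreserves _ (limit.isLimit _)

/-- The rings of the tower. -/
abbrev Rs (n : ℕ) : Type u := (secF 𝔛 h U).obj (op n)

/-- The transition maps of the tower. -/
noncomputable def φs (n : ℕ) : Rs 𝔛 h U (n + 1) →+* Rs 𝔛 h U n :=
  ((secF 𝔛 h U).map (homOfLE (n.le_add_right 1)).op).hom

theorem φs_surjective (hU : IsAffineOpen U) (n : ℕ) : Function.Surjective (φs 𝔛 h U n) := by
  haveI := (h n).1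
  have e : (secF 𝔛 h U).map (homOfLE (n.le_add_right 1)).op =
      (𝔛.ι n).appLE (𝔛.lvU h (n + 1) U) (𝔛.lvU h n U) (𝔛.lvU_le h n U) := by
    show ((𝔛.levelRing h).map (homOfLE (n.le_add_right 1)).op).hom.app (op U) = _
    rw [FSch.Sys.levelRing_map_succ]
    rfl
  show Function.Surjective ((secF 𝔛 h U).map (homOfLE (n.le_add_right 1)).op)
  rw [e]
  exact appLE_surjective_of_eq (𝔛.ι n) (isAffineOpen_lvU 𝔛 h U hU (n + 1)) (𝔛.lvU_succ h n U) _

/-- The cone with point the explicit inverse limit. -/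
noncomputable def limCone : Cone (secF 𝔛 h U) where
  pt := CommRingCat.of (Lim (Rs 𝔛 h U) (φs 𝔛 h U))
  π := NatTrans.ofOpSequence
    (fun n => CommRingCat.ofHom (proj (Rs 𝔛 h U) (φs 𝔛 h U) n)) (fun n => by
      refine (Category.id_comp _).trans ?_
      apply CommRingCat.hom_ext
      apply RingHom.ext
      intro x
      exact (φ_proj (Rs 𝔛 h U) (φs 𝔛 h U) n x).symm)

theorem oshProj_surjective (hU : IsAffineOpen U) (i : ℕ) :
    Function.Surjective ((𝔛.OshProj h i).hom.app (op U)) := by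
  intro a
  obtain ⟨x, hx⟩ := proj_surjective (φs 𝔛 h U) (φs_surjective 𝔛 h U hU) i a
  refine ⟨(secIsLimit 𝔛 h U).lift (limCone 𝔛 h U) x, ?_⟩
  have hfac := (secIsLimit 𝔛 h U).fac (limCone 𝔛 h U) (op i)
  have h2 := ConcreteCategory.congr_hom hfac x
  exact h2.trans hx

end Groth.Agent.Helper6.OshSurj
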