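import Mathlib

/-!
# Absolutely integrally closed extensions, part 1: the one-step construction (helper6, for S12077)
-/

set_option autoImplicit false

namespace Groth.Agent.Helper6.AIC

open Polynomial

universe u

/-! ### adjoining one root -/

theorem adjoinRoot_of_injective {A : Type u} [CommRing A] (f : A[X]) (hf : f.Monic)
    (hd : 1 ≤ f.natDegree) : Function.Injective (AdjoinRoot.of f) := by
  rw [injective_iff_map_eq_zero]
  intro a ha
  have ha' : AdjoinRoot.mk f (C a) = 0 := ha
  rw [AdjoinRoot.mk_eq_zero] at ha'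
  obtain ⟨q, hq⟩ := ha'
  by_cases hq0 : q = 0
  · rw [hq0, mul_zero] at hq
    exact Polynomial.C_eq_zero.mp hq
  · exfalso
    have h1 := hf.natDegree_mul' hq0
    rw [← hq, natDegree_C] at h1
    omega

theorem split_one : ∀ (d : ℕ) (A : Type u) [CommRing A] (f : A[X]), f.Monic → f.natDegree = d →
    ∃ (A' : Type u) (_ : CommRing A') (φ : A →+* A'), Function.Injective φ ∧
      ∃ r : Fin d → A', f.map φ = ∏ i, (X - C (r i)) := by
  intro d
  induction d with
  | zero =>
    intro A _ f hf hd
    refine ⟨A, inferInstance, RingHom.id A, Function.injective_id, Fin.elim0, ?_⟩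
    rw [Polynomial.map_id, Finset.univ_eq_empty, Finset.prod_empty]
    exact Polynomial.eq_one_of_monic_natDegree_zero hf hd
  | succ d ih =>
    intro A _ f hf hd
    rcases subsingleton_or_nontrivial A with hA | hA
    · exfalso
      have : f = 0 := Subsingleton.elim _ _
      rw [this, natDegree_zero] at hd
      omega
    · have hinj := adjoinRoot_of_injective f hf (by omega)
      have hnt : Nontrivial (AdjoinRoot f) := hinj.nontrivial
      have hf1 : (f.map (AdjoinRoot.of f)).Monic := hf.map _
      have hroot : (f.map (AdjoinRoot.of f)).IsRoot (AdjoinRoot.root f) :=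
        AdjoinRoot.isRoot_root f
      obtain ⟨g, hg_def⟩ : ∃ g, g = (f.map (AdjoinRoot.of f)) /ₘ (X - C (AdjoinRoot.root f)) :=
        ⟨_, rfl⟩
      have hfg : (X - C (AdjoinRoot.root f)) * g = f.map (AdjoinRoot.of f) := by
        rw [hg_def]; exact mul_divByMonic_eq_iff_isRoot.mpr hroot
      have hg_monic : g.Monic := by
        have h1 : ((X - C (AdjoinRoot.root f)) * g).Monic := by rw [hfg]; exact hf1
        exact (monic_X_sub_C _).of_mul_monic_left h1
      have hg_deg : g.natDegree = d := by
        have h1 := (monic_X_sub_C (AdjoinRoot.root f)).natDegree_mul hg_monic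
        rw [hfg, hf.natDegree_map, hd, natDegree_X_sub_C] at h1
        omega
      obtain ⟨A₂, instA₂, ψ, hψ, r', hr'⟩ := ih (AdjoinRoot f) g hg_monic hg_deg
      refine ⟨A₂, instA₂, ψ.comp (AdjoinRoot.of f), hψ.comp hinj,
        Fin.cons (ψ (AdjoinRoot.root f)) r', ?_⟩
      rw [← Polynomial.map_map, ← hfg, Polynomial.map_mul, hr', Polynomial.map_sub,
        Polynomial.map_X, Polynomial.map_C, Fin.prod_univ_succ, Fin.cons_zero]
      simp only [Fin.cons_succ]

/-- monic polynomials -/
abbrev Monics (A : Type u) [CommRing A] : Type u := {f : A[X] // f.Monic}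

theorem split_finset {A : Type u} [CommRing A] (F : Finset (Monics A)) :
    ∃ (A' : Type u) (_ : CommRing A') (φ : A →+* A'), Function.Injective φ ∧
      ∀ fm ∈ F, ∃ r : Fin fm.1.natDegree → A', fm.1.map φ = ∏ i, (X - C (r i)) := by
  classical
  induction F using Finset.induction_on with
  | empty =>
    exact ⟨A, inferInstance, RingHom.id A, Function.injective_id,
      fun fm h => absurd h (Finset.notMem_empty _)⟩
  | insert fm F' hnot ih =>
    obtain ⟨A', instA', φ, hφ, hF'⟩ := ih
    have hmonic : (fm.1.map φ).Monic := fm.2.map φ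
    have hdeg : (fm.1.map φ).natDegree = fm.1.natDegree := natDegree_map_eq_of_injective hφ _
    obtain ⟨A'', instA'', ψ, hψ, r, hr⟩ := split_one fm.1.natDegree A' (fm.1.map φ) hmonic hdeg
    refine ⟨A'', instA'', ψ.comp φ, hψ.comp hφ, ?_⟩
    intro gm hgm
    rw [Finset.mem_insert] at hgm
    rcases hgm with rfl | hgm
    · exact ⟨r, by rw [← Polynomial.map_map, hr]⟩
    · obtain ⟨r', hr'⟩ := hF' gm hgm
      refine ⟨fun i => ψ (r' i), ?_⟩
      rw [← Polynomial.map_map, hr', Polynomial.map_prod]
      apply Finset.prod_congr rfl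
      intro i _
      rw [Polynomial.map_sub, Polynomial.map_X, Polynomial.map_C]

/-! ### the one-step ring -/

/-- the variables: one for each root of each monic polynomial -/
abbrev Vars (A : Type u) [CommRing A] : Type u := Σ f : Monics A, Fin f.1.natDegree

/-- the polynomial whose coefficients are the splitting relations for `fm` -/
noncomputable def relPoly (A : Type u) [CommRing A] (fm : Monics A) :
    (MvPolynomial (Vars A) A)[X] :=
  fm.1.map MvPolynomial.C - ∏ i : Fin fm.1.natDegree, (X - C (MvPolynomial.X ⟨fm, i⟩))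

/-- the ideal of splitting relations -/
noncomputable def relIdeal (A : Type u) [CommRing A] : Ideal (MvPolynomial (Vars A) A) :=
  Ideal.span {p | ∃ (fm : Monics A) (n : ℕ), p = (relPoly A fm).coeff n}

/-- the ring in which all monic polynomials over `A` split -/
abbrev Step (A : Type u) [CommRing A] : Type u := MvPolynomial (Vars A) A ⧸ relIdeal A

/-- the structure map -/
noncomputable def stepHom (A : Type u) [CommRing A] : A →+* Step A :=
  (Ideal.Quotient.mk (relIdeal A)).comp MvPolynomial.C

theorem step_splits (A : Type u) [CommRing A] (f : A[X]) (hf : f.Monic) :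
    ∃ r : Fin f.natDegree → Step A, f.map (stepHom A) = ∏ i, (X - C (r i)) := by
  refine ⟨fun i => Ideal.Quotient.mk (relIdeal A) (MvPolynomial.X ⟨⟨f, hf⟩, i⟩), ?_⟩
  have h0 : (relPoly A ⟨f, hf⟩).map (Ideal.Quotient.mk (relIdeal A)) = 0 := by
    ext n
    rw [coeff_map, coeff_zero, Ideal.Quotient.eq_zero_iff_mem]
    exact Ideal.subset_span ⟨⟨f, hf⟩, n, rfl⟩
  unfold relPoly at h0
  rw [Polynomial.map_sub, sub_eq_zero, Polynomial.map_map, Polynomial.map_prod] at h0
  unfold stepHom
  rw [h0]
  apply Finset.prod_congr rfl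
  intro i _
  rw [Polynomial.map_sub, Polynomial.map_X, Polynomial.map_C]

theorem stepHom_injective (A : Type u) [CommRing A] : Function.Injective (stepHom A) := by
  classical
  rw [injective_iff_map_eq_zero]
  intro a ha
  have ha' : MvPolynomial.C a ∈ relIdeal A := by
    rw [← Ideal.Quotient.eq_zero_iff_mem]; exact ha
  unfold relIdeal at ha'
  obtain ⟨T, hT, haT⟩ := Submodule.mem_span_finite_of_mem_span ha'
  have hT' : ∀ t ∈ T, ∃ (fm : Monics A) (n : ℕ), t = (relPoly A fm).coeff n := fun t ht => hT ht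
  choose fmOf nOf hfm using hT'
  obtain ⟨F, hF⟩ : ∃ F : Finset (Monics A), F = T.attach.image (fun t => fmOf t.1 t.2) :=
    ⟨_, rfl⟩
  have hmemF : ∀ t (ht : t ∈ T), fmOf t ht ∈ F := by
    intro t ht
    rw [hF]
    exact Finset.mem_image.mpr ⟨⟨t, ht⟩, Finset.mem_attach _ _, rfl⟩
  obtain ⟨A', instA', φ, hφ, hsplit⟩ := split_finset F
  choose r hr using hsplit
  obtain ⟨g, hg⟩ : ∃ g : Vars A → A', ∀ (fm : Monics A) (h : fm ∈ F) (i : Fin fm.1.natDegree),
      g ⟨fm, i⟩ = r fm h i :=
    ⟨fun v => if h : v.1 ∈ F then r v.1 h v.2 else 0, fun fm h i => dif_pos h⟩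
  obtain ⟨ev, hev⟩ : ∃ ev : MvPolynomial (Vars A) A →+* A', ev = MvPolynomial.eval₂Hom φ g :=
    ⟨_, rfl⟩
  have hevC : ∀ x, ev (MvPolynomial.C x) = φ x := by
    intro x; rw [hev, MvPolynomial.coe_eval₂Hom, MvPolynomial.eval₂_C]
  have hevX : ∀ v, ev (MvPolynomial.X v) = g v := by
    intro v; rw [hev, MvPolynomial.coe_eval₂Hom, MvPolynomial.eval₂_X]
  have hev_rel : ∀ fm ∈ F, (relPoly A fm).map ev = 0 := by
    intro fm hfmem
    unfold relPoly
    rw [Polynomial.map_sub, Polynomial.map_map, Polynomial.map_prod, sub_eq_zero]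
    have h1 : ev.comp MvPolynomial.C = φ := RingHom.ext hevC
    rw [h1, hr fm hfmem]
    apply Finset.prod_congr rfl
    intro i _
    rw [Polynomial.map_sub, Polynomial.map_X, Polynomial.map_C, hevX, hg fm hfmem]
  have hker : Ideal.span (T : Set (MvPolynomial (Vars A) A)) ≤ RingHom.ker ev := by
    rw [Ideal.span_le]
    intro t ht
    rw [SetLike.mem_coe, RingHom.mem_ker]
    have h1 := hfm t ht
    have h2 := hev_rel (fmOf t ht) (hmemF t ht)
    have h3 := congrArg (fun p => p.coeff (nOf t ht)) h2
    simp only [coeff_map, coeff_zero] at h3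
    rw [h1]; exact h3
  have h4 := hker haT
  rw [RingHom.mem_ker, hevC] at h4
  exact (injective_iff_map_eq_zero φ).mp hφ a h4

end Groth.Agent.Helper6.AIC
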