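import Mathlib
import Groth.Agent.Lib.Helper6.AICStep

/-!
# Absolutely integrally closed extensions, part 2: the ω-iteration (helper6, for S12077)
-/

set_option autoImplicit false

namespace Groth.Agent.Helper6.AIC

open Polynomial

universe u

section chain
variable (G : ℕ → Type u) [∀ n, CommRing (G n)] (t : ∀ n, G n →+* G (n + 1))

/-- transition maps of a chain -/
noncomputable def trans (i j : ℕ) (h : i ≤ j) : G i →+* G j :=
  Nat.leRecOn (C := fun k => G i →+* G k) h (fun {k} g => (t k).comp g) (RingHom.id (G i))

theorem trans_self (i : ℕ) : trans G t i i le_rfl = RingHom.id (G i) := by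
  unfold trans; exact Nat.leRecOn_self _

theorem trans_succ (i j : ℕ) (h : i ≤ j) :
    trans G t i (j + 1) (Nat.le_succ_of_le h) = (t j).comp (trans G t i j h) := by
  unfold trans; exact Nat.leRecOn_succ h _

theorem trans_trans (i j k : ℕ) (hij : i ≤ j) (hjk : j ≤ k) :
    (trans G t j k hjk).comp (trans G t i j hij) = trans G t i k (hij.trans hjk) := by
  induction k, hjk using Nat.le_induction with
  | base => rw [trans_self, RingHom.id_comp]
  | succ k hjk ih =>
    rw [trans_succ G t j k hjk, RingHom.comp_assoc, ih, ← trans_succ]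

theorem trans_injective (ht : ∀ n, Function.Injective (t n)) (i j : ℕ) (h : i ≤ j) :
    Function.Injective (trans G t i j h) := by
  induction j, h using Nat.le_induction with
  | base => rw [trans_self]; exact Function.injective_id
  | succ j h ih => rw [trans_succ G t i j h]; exact (ht j).comp ih

instance : DirectedSystem G (fun i j h => trans G t i j h) where
  map_self i x := by rw [trans_self]; rfl
  map_map k j i hij hjk x := RingHom.congr_fun (trans_trans G t i j k hij hjk) x

/-- the union of the chain -/
abbrev Lim : Type u := Ring.DirectLimit G (fun i j h => trans G t i j h)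

/-- the inclusion of a level -/
noncomputable def ofLim (n : ℕ) : G n →+* Lim G t :=
  Ring.DirectLimit.of G (fun i j h => trans G t i j h) n

theorem ofLim_succ (n : ℕ) (x : G n) : ofLim G t (n + 1) (t n x) = ofLim G t n x := by
  have h1 : trans G t n (n + 1) (Nat.le_succ n) = t n := by
    rw [trans_succ G t n n le_rfl, trans_self, RingHom.comp_id]
  have h2 : ofLim G t (n + 1) (trans G t n (n + 1) (Nat.le_succ n) x) = ofLim G t n x :=
    Ring.DirectLimit.of_f (Nat.le_succ n) x
  rw [h1] at h2
  exact h2

theorem ofLim_injective (ht : ∀ n, Function.Injective (t n)) (n : ℕ) :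
    Function.Injective (ofLim G t n) :=
  Ring.DirectLimit.of_injective (fun i j h => trans G t i j h)
    (fun i j h => trans_injective G t ht i j h) n

theorem lim_splits
    (hsplit : ∀ n (q : (G n)[X]), q.Monic →
      ∃ r : Fin q.natDegree → G (n + 1), q.map (t n) = ∏ i, (X - C (r i)))
    (f : (Lim G t)[X]) (hf : f.Monic) :
    ∃ s : Multiset (Lim G t), f = (s.map fun b => X - C b).prod := by
  obtain ⟨i, p, hp⟩ :=
    Ring.DirectLimit.Polynomial.exists_of (f' := fun i j h => trans G t i j h) f
  have hlift : f ∈ Polynomial.lifts (ofLim G t i) := (Polynomial.mem_lifts _).mpr ⟨p, hp⟩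
  obtain ⟨q, hq, -, hqm⟩ := Polynomial.lifts_and_natDegree_eq_and_monic hlift hf
  obtain ⟨r, hr⟩ := hsplit i q hqm
  refine ⟨Finset.univ.val.map (fun k => ofLim G t (i + 1) (r k)), ?_⟩
  rw [Multiset.map_map, ← Finset.prod_eq_multiset_prod]
  have h1 : q.map (ofLim G t i) = (q.map (t i)).map (ofLim G t (i + 1)) := by
    rw [Polynomial.map_map]
    congr 1
    ext x
    rw [RingHom.comp_apply, ofLim_succ]
  rw [← hq, h1, hr, Polynomial.map_prod]
  apply Finset.prod_congr rfl
  intro k _
  rw [Polynomial.map_sub, Polynomial.map_X, Polynomial.map_C]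
  rfl

end chain

/-- bundled commutative rings -/
structure Ob : Type (u + 1) where
  /-- the carrier -/
  carrier : Type u
  [ring : CommRing carrier]

attribute [instance] Ob.ring

/-- the next ring -/
noncomputable def next (X : Ob.{u}) : Ob.{u} := ⟨Step X.carrier⟩

/-- the chain of rings -/
noncomputable def L (A : Type u) [CommRing A] : ℕ → Ob.{u}
  | 0 => ⟨A⟩
  | (n + 1) => next (L A n)

/-- the carriers -/
abbrev GG (A : Type u) [CommRing A] (n : ℕ) : Type u := (L A n).carrier

/-- the transition maps -/
noncomputable def tt (A : Type u) [CommRing A] (n : ℕ) : GG A n →+* GG A (n + 1) :=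
  stepHom (L A n).carrier

theorem exists_aic (A : Type u) [CommRing A] :
    ∃ (B : Type u) (_ : CommRing B) (_ : Algebra A B), Function.Injective (algebraMap A B) ∧
      ∀ f : B[X], f.Monic → ∃ s : Multiset B, f = (s.map fun b => X - C b).prod := by
  have ht : ∀ n, Function.Injective (tt A n) := fun n => stepHom_injective _
  have hs : ∀ n (q : (GG A n)[X]), q.Monic →
      ∃ r : Fin q.natDegree → GG A (n + 1), q.map (tt A n) = ∏ i, (X - C (r i)) :=
    fun n q hq => step_splits _ q hq
  obtain ⟨φ, hφ⟩ : ∃ φ : A →+* Lim (GG A) (tt A), φ = ofLim (GG A) (tt A) 0 := ⟨_, rfl⟩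
  refine ⟨Lim (GG A) (tt A), inferInstance, φ.toAlgebra, ?_, ?_⟩
  · show Function.Injective φ
    rw [hφ]
    exact ofLim_injective (GG A) (tt A) ht 0
  · exact lim_splits (GG A) (tt A) hs

end Groth.Agent.Helper6.AIC
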