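import Groth.Agent.Lib.Helper6.ComplMapLib
import Mathlib

/-!
# Completion of a local homomorphism with finite closed fibre (helper6)

* `complMap_id_bijective`: two ideals `J ≤ K` with `K ^ t ≤ J` have the same completion.
* `exists_pow_le`: finite closed fibre forces `𝔫 ^ t ≤ 𝔪 S`.
* `complMap_map_finite`: `R^ → S^` (for the `𝔪 S`-adic completion) is finite if `S / 𝔪 S` is
  a finite `R`-module and `𝔪` is finitely generated (complete Nakayama).
-/

set_option autoImplicit false
universe u

namespace Groth.Agent.Helper6.AdicFin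

open FSch Groth.Agent.Lib.Helper6.ComplMapLib TensorProduct

section Cofinal

variable {S : Type u} [CommRing S] (J K : Ideal S)

theorem cauchy_sub_mem (a : AdicCompletion.AdicCauchySequence J S) {k l : ℕ} (hkl : k ≤ l) :
    a k - a l ∈ J ^ k := by
  have h0 := a.2 hkl
  rw [SModEq.sub_mem] at h0
  simpa only [smul_eq_mul, Ideal.mul_top] using h0

theorem complMap_id_bijective (t : ℕ) (ht : K ^ t ≤ J)
    (h' : J.map (RingHom.id S) ≤ K) :
    Function.Bijective (complMap J K (RingHom.id S) h') := by
  have hpow : ∀ k : ℕ, K ^ ((t + 1) * k) ≤ J ^ k := by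
    intro k
    rw [pow_mul]
    exact Ideal.pow_right_mono ((Ideal.pow_le_pow_right (Nat.le_succ t)).trans ht) k
  have hle : ∀ k : ℕ, k ≤ (t + 1) * k := fun k => Nat.le_mul_of_pos_left k (Nat.succ_pos t)
  constructor
  · rw [injective_iff_map_eq_zero]
    intro x hx
    apply AdicCompletion.ext_evalₐ
    intro k
    rw [map_zero]
    obtain ⟨a, rfl⟩ := AdicCompletion.mk_surjective J S x
    have h1 : AdicCompletion.evalₐ K ((t + 1) * k)
        (complMap J K (RingHom.id S) h' (AdicCompletion.mk J S a)) = 0 := by rw [hx, map_zero]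
    rw [evalₐ_complMap, AdicCompletion.evalₐ_mk, Ideal.quotientMap_mk, RingHom.id_apply,
      Ideal.Quotient.eq_zero_iff_mem] at h1
    rw [AdicCompletion.evalₐ_mk, Ideal.Quotient.eq_zero_iff_mem]
    have h2 : a ((t + 1) * k) ∈ J ^ k := hpow k h1
    have h3 : a k - a ((t + 1) * k) ∈ J ^ k := cauchy_sub_mem J a (hle k)
    have e : a k = (a k - a ((t + 1) * k)) + a ((t + 1) * k) := by ring
    rw [e]
    exact Ideal.add_mem _ h3 h2
  · intro y
    obtain ⟨b, rfl⟩ := AdicCompletion.mk_surjective K S y
    let a : AdicCompletion.AdicCauchySequence J S :=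
      AdicCompletion.AdicCauchySequence.mk J S (fun k => b ((t + 1) * k)) (by
        intro k
        rw [SModEq.sub_mem]
        simp only [smul_eq_mul, Ideal.mul_top]
        exact hpow k (cauchy_sub_mem K b (Nat.mul_le_mul_left (t + 1) (Nat.le_succ k))))
    refine ⟨AdicCompletion.mk J S a, ?_⟩
    apply AdicCompletion.ext_evalₐ
    intro k
    rw [evalₐ_complMap, AdicCompletion.evalₐ_mk, AdicCompletion.evalₐ_mk, Ideal.quotientMap_mk,
      Ideal.Quotient.eq]
    change b ((t + 1) * k) - b k ∈ K ^ k
    have h0 := cauchy_sub_mem K b (hle k)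
    rw [← neg_sub]
    exact (K ^ k).neg_mem h0

end Cofinal

section Nilp

variable {R S : Type u} [CommRing R] [CommRing S] [IsLocalRing R] [IsLocalRing S] [Algebra R S]

open IsLocalRing

theorem finite_quotient_of_fiber
    (hfib : Module.Finite (maximalIdeal R).ResidueField ((maximalIdeal R).Fiber S)) :
    Module.Finite R (S ⧸ (maximalIdeal R).map (algebraMap R S)) := by
  have hbij := (maximalIdeal R).bijective_algebraMap_quotient_residueField
  let e0 : (R ⧸ maximalIdeal R) ≃ₗ[R] (maximalIdeal R).ResidueField :=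
    (AlgEquiv.ofBijective
      (IsScalarTower.toAlgHom R (R ⧸ maximalIdeal R) (maximalIdeal R).ResidueField)
      hbij).toLinearEquiv
  let e1 : (S ⧸ (maximalIdeal R).map (algebraMap R S)) ≃ₗ[R] S ⊗[R] (R ⧸ maximalIdeal R) :=
    (Algebra.TensorProduct.quotIdealMapEquivTensorQuot S
      (maximalIdeal R)).toLinearEquiv.restrictScalars R
  let e2 : S ⊗[R] (R ⧸ maximalIdeal R) ≃ₗ[R] (R ⧸ maximalIdeal R) ⊗[R] S :=
    TensorProduct.comm R _ _
  let e3 : (R ⧸ maximalIdeal R) ⊗[R] S ≃ₗ[R] (maximalIdeal R).ResidueField ⊗[R] S :=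
    TensorProduct.congr e0 (LinearEquiv.refl R S)
  haveI := hfib
  have hfin : Module.Finite R ((maximalIdeal R).ResidueField ⊗[R] S) :=
    Module.Finite.trans (maximalIdeal R).ResidueField _
  exact Module.Finite.equiv ((e1.trans e2).trans e3).symm

theorem exists_pow_le
    (hJn : (maximalIdeal R).map (algebraMap R S) ≤ maximalIdeal S)
    (hfib : Module.Finite (maximalIdeal R).ResidueField ((maximalIdeal R).Fiber S)) :
    ∃ t : ℕ, maximalIdeal S ^ t ≤ (maximalIdeal R).map (algebraMap R S) := by
  have hJtop : (maximalIdeal R).map (algebraMap R S) ≠ ⊤ := fun h =>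
    (maximalIdeal.isMaximal S).ne_top (top_le_iff.mp (h ▸ hJn))
  haveI h1 : Module.Finite R (S ⧸ (maximalIdeal R).map (algebraMap R S)) :=
    finite_quotient_of_fiber hfib
  haveI h2 : Module.Finite (R ⧸ maximalIdeal R) (S ⧸ (maximalIdeal R).map (algebraMap R S)) :=
    Module.Finite.of_restrictScalars_finite R _ _
  letI : Field (R ⧸ maximalIdeal R) := Ideal.Quotient.field (maximalIdeal R)
  haveI h3 : IsArtinianRing (S ⧸ (maximalIdeal R).map (algebraMap R S)) :=
    IsArtinianRing.of_finite (R ⧸ maximalIdeal R) _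
  have h4 : IsNilpotent
      (Ideal.jacobson (⊥ : Ideal (S ⧸ (maximalIdeal R).map (algebraMap R S)))) :=
    IsArtinianRing.isNilpotent_jacobson_bot
  obtain ⟨t, ht⟩ := h4
  refine ⟨t, ?_⟩
  have h5 : Ideal.map (Ideal.Quotient.mk ((maximalIdeal R).map (algebraMap R S)))
      (maximalIdeal S) =
      Ideal.jacobson (⊥ : Ideal (S ⧸ (maximalIdeal R).map (algebraMap R S))) := by
    have h6 := Ideal.map_jacobson_of_surjective
      (f := Ideal.Quotient.mk ((maximalIdeal R).map (algebraMap R S)))
      Ideal.Quotient.mk_surjective (I := (maximalIdeal R).map (algebraMap R S))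
      (by rw [Ideal.mk_ker])
    rw [IsLocalRing.jacobson_eq_maximalIdeal _ hJtop] at h6
    rw [h6, Ideal.map_quotient_self]
  rw [← h5, ← Ideal.map_pow, Ideal.zero_eq_bot, Ideal.map_eq_bot_iff_le_ker, Ideal.mk_ker] at ht
  exact ht

end Nilp

section Pi

theorem mem_pow_smul_top_pi {A : Type u} [CommRing A] (I : Ideal A) (d k : ℕ) (v : Fin d → A) :
    v ∈ (I ^ k • ⊤ : Submodule A (Fin d → A)) ↔ ∀ i, v i ∈ I ^ k := by
  constructor
  · intro hv
    refine Submodule.smul_induction_on hv ?_ ?_
    · intro r hr w _ i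
      rw [Pi.smul_apply, smul_eq_mul]
      exact Ideal.mul_mem_right _ _ hr
    · intro x y hx hy i
      rw [Pi.add_apply]
      exact Ideal.add_mem _ (hx i) (hy i)
  · intro hv
    rw [pi_eq_sum_univ v]
    refine Submodule.sum_mem _ fun i _ => ?_
    exact Submodule.smul_mem_smul (hv i) Submodule.mem_top

theorem isPrecomplete_pi {A : Type u} [CommRing A] (I : Ideal A) [hI : IsPrecomplete I A]
    (d : ℕ) : IsPrecomplete I (Fin d → A) := by
  rw [isPrecomplete_iff]
  intro f hf
  have hc : ∀ i : Fin d, ∃ L : A, ∀ n, f n i ≡ L [SMOD (I ^ n • ⊤ : Submodule A A)] := by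
    intro i
    refine IsPrecomplete.prec hI (f := fun n => f n i) ?_
    intro m n hmn
    have h0 := hf hmn
    rw [SModEq.sub_mem, mem_pow_smul_top_pi] at h0
    rw [SModEq.sub_mem, smul_eq_mul, Ideal.mul_top]
    exact h0 i
  choose L hL using hc
  refine ⟨L, fun n => ?_⟩
  rw [SModEq.sub_mem, mem_pow_smul_top_pi]
  intro i
  have h0 := hL i n
  rw [SModEq.sub_mem, smul_eq_mul, Ideal.mul_top] at h0
  exact h0

end Pi

section Fin

variable {R S : Type u} [CommRing R] [CommRing S] [Algebra R S] (m : Ideal R)

theorem complMap_comm (r : R) :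
    complMap m (m.map (algebraMap R S)) (algebraMap R S) le_rfl
      (algebraMap R (AdicCompletion m R) r) =
    algebraMap S (AdicCompletion (m.map (algebraMap R S)) S) (algebraMap R S r) := by
  rw [AdicCompletion.algebraMap_apply, AdicCompletion.algebraMap_apply, complMap_of]
  rfl

theorem complMap_map_finite (hm : m.FG)
    (hfin : Module.Finite R (S ⧸ m.map (algebraMap R S))) :
    (complMap m (m.map (algebraMap R S)) (algebraMap R S) le_rfl).Finite := by
  have hJ : (m.map (algebraMap R S)).FG := hm.map _
  letI : Algebra (AdicCompletion m R) (AdicCompletion (m.map (algebraMap R S)) S) :=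
    (complMap m (m.map (algebraMap R S)) (algebraMap R S) le_rfl).toAlgebra
  show Module.Finite (AdicCompletion m R) (AdicCompletion (m.map (algebraMap R S)) S)
  have key : (m.map (algebraMap R (AdicCompletion m R))).map
      (algebraMap (AdicCompletion m R) (AdicCompletion (m.map (algebraMap R S)) S)) =
      (m.map (algebraMap R S)).map
        (algebraMap S (AdicCompletion (m.map (algebraMap R S)) S)) := by
    rw [RingHom.algebraMap_toAlgebra, Ideal.map_map, Ideal.map_map]
    congr 1
  have hT : IsAdicComplete ((m.map (algebraMap R S)).map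
      (algebraMap S (AdicCompletion (m.map (algebraMap R S)) S)))
      (AdicCompletion (m.map (algebraMap R S)) S) :=
    AdicCompletion.isAdicComplete_self _ hJ
  have hR : IsAdicComplete (m.map (algebraMap R (AdicCompletion m R))) (AdicCompletion m R) :=
    AdicCompletion.isAdicComplete_self m hm
  haveI : IsPrecomplete (m.map (algebraMap R (AdicCompletion m R))) (AdicCompletion m R) :=
    hR.toIsPrecomplete
  haveI : IsHausdorff ((m.map (algebraMap R S)).map
      (algebraMap S (AdicCompletion (m.map (algebraMap R S)) S)))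
      (AdicCompletion (m.map (algebraMap R S)) S) := hT.toIsHausdorff
  haveI : IsHausdorff (m.map (algebraMap R (AdicCompletion m R)))
      (AdicCompletion (m.map (algebraMap R S)) S) := IsHausdorff.of_map key.le
  obtain ⟨d, sbar, hs⟩ := Module.Finite.exists_fin (R := R) (M := S ⧸ m.map (algebraMap R S))
  haveI : IsPrecomplete (m.map (algebraMap R (AdicCompletion m R)))
      (Fin d → AdicCompletion m R) := isPrecomplete_pi _ d
  choose s hsb using fun i => Ideal.Quotient.mk_surjective (sbar i)
  let f : (Fin d → AdicCompletion m R) →ₗ[AdicCompletion m R]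
      AdicCompletion (m.map (algebraMap R S)) S :=
    Fintype.linearCombination (AdicCompletion m R)
      (fun i => algebraMap S (AdicCompletion (m.map (algebraMap R S)) S) (s i))
  have hsurj : Function.Surjective
      (((m.map (algebraMap R (AdicCompletion m R))) • ⊤ :
        Submodule (AdicCompletion m R) (AdicCompletion (m.map (algebraMap R S)) S)).mkQ ∘ₗ f) := by
    intro q
    obtain ⟨x, rfl⟩ := Submodule.mkQ_surjective _ q
    have hx : AdicCompletion.evalOneₐ (m.map (algebraMap R S)) x ∈
        Submodule.span R (Set.range sbar) := by rw [hs]; trivial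
    obtain ⟨c, hc⟩ := (Submodule.mem_span_range_iff_exists_fun R).mp hx
    refine ⟨fun i => algebraMap R (AdicCompletion m R) (c i), ?_⟩
    rw [LinearMap.comp_apply, Submodule.mkQ_apply, Submodule.mkQ_apply, Submodule.Quotient.eq]
    rw [Ideal.smul_top_eq_map, Submodule.restrictScalars_mem, key,
      ← AdicCompletion.ker_evalOneₐ_eq_map _ hJ, RingHom.mem_ker]
    have hf : f (fun i => algebraMap R (AdicCompletion m R) (c i)) =
        algebraMap S (AdicCompletion (m.map (algebraMap R S)) S)
          (∑ i, algebraMap R S (c i) * s i) := by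
      rw [Fintype.linearCombination_apply, map_sum]
      refine Finset.sum_congr rfl fun i _ => ?_
      rw [Algebra.smul_def, RingHom.algebraMap_toAlgebra, map_mul, complMap_comm]
    rw [hf]
    simp only [AlgHom.toRingHom_eq_coe, RingHom.coe_coe, map_sub, AlgHom.commutes,
      Ideal.Quotient.algebraMap_eq]
    rw [← hc, map_sum, sub_eq_zero]
    refine Finset.sum_congr rfl fun i _ => ?_
    rw [← hsb i, map_mul, Algebra.smul_def,
      IsScalarTower.algebraMap_apply R S (S ⧸ m.map (algebraMap R S)),
      Ideal.Quotient.algebraMap_eq]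
  have hfs : Function.Surjective f := surjective_of_mkQ_comp_surjective hsurj
  exact Module.Finite.of_surjective f hfs

end Fin

end Groth.Agent.Helper6.AdicFin
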