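import Mathlib
import Groth.Prelude.Def_FSch3

set_option autoImplicit false
universe u

namespace Groth.Agent.Helper6.AdicKer

theorem ker_evalₐ {R : Type u} [CommRing R] (I : Ideal R) (hI : I.FG) (n : ℕ) :
    RingHom.ker (AdicCompletion.evalₐ I n).toRingHom =
      (I.map (algebraMap R (AdicCompletion I R))) ^ n := by
  ext x
  rw [RingHom.mem_ker, ← Ideal.map_pow]
  change (AdicCompletion.evalₐ I n) x = 0 ↔ _
  have h1 : x ∈ (I ^ n).map (algebraMap R (AdicCompletion I R)) ↔
      x ∈ (I ^ n • ⊤ : Submodule R (AdicCompletion I R)) := by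
    rw [Ideal.smul_top_eq_map]; rfl
  rw [h1, AdicCompletion.pow_smul_top_eq_ker_eval hI, LinearMap.mem_ker]
  constructor
  · intro h
    have := AdicCompletion.factor_evalₐ_eq_eval I x (n := n) (le_of_eq (by simp))
    rw [← this]
    have h' : (AdicCompletion.evalₐ I n) x = 0 := h
    rw [h', map_zero]
  · intro h
    have := AdicCompletion.factor_eval_eq_evalₐ I x (n := n) (le_of_eq (by simp))
    change (AdicCompletion.evalₐ I n) x = 0
    rw [← this, h, map_zero]

section
variable (A : Type u) [CommRing A] [IsNoetherianRing A] (J : Ideal A) (f : A) (n : ℕ)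

theorem exists_equiv :
    ∃ e : Localization.Away (Ideal.Quotient.mk (J ^ (n + 1)) f) ≃+*
        FSch.cAway A J f ⧸ (J.map (algebraMap A (FSch.cAway A J f))) ^ (n + 1),
      ∀ a : A, e (algebraMap (A ⧸ J ^ (n + 1)) _ (Ideal.Quotient.mk (J ^ (n + 1)) a)) =
        Ideal.Quotient.mk _ (algebraMap A (FSch.cAway A J f) a) := by
  have hIfg : (J.map (algebraMap A (Localization.Away f))).FG :=
    Ideal.FG.map ((isNoetherianRing_iff_ideal_fg A).1 inferInstance J) _
  -- e₁
  have hloc : IsLocalization.Away (Ideal.Quotient.mk (J ^ (n + 1)) f)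
      (Localization.Away f ⧸ (J ^ (n + 1)).map (algebraMap A (Localization.Away f))) := by
    have h := (inferInstance : IsLocalization
      (Algebra.algebraMapSubmonoid (A ⧸ J ^ (n + 1)) (Submonoid.powers f))
      (Localization.Away f ⧸ (J ^ (n + 1)).map (algebraMap A (Localization.Away f))))
    have e : Algebra.algebraMapSubmonoid (A ⧸ J ^ (n + 1)) (Submonoid.powers f) =
        Submonoid.powers (Ideal.Quotient.mk (J ^ (n + 1)) f) := by
      rw [Algebra.algebraMapSubmonoid, Submonoid.map_powers]; rfl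
    rw [e] at h
    exact h
  let e₁ : Localization.Away (Ideal.Quotient.mk (J ^ (n + 1)) f) ≃ₐ[A ⧸ J ^ (n + 1)]
      (Localization.Away f ⧸ (J ^ (n + 1)).map (algebraMap A (Localization.Away f))) :=
    IsLocalization.algEquiv (Submonoid.powers (Ideal.Quotient.mk (J ^ (n + 1)) f)) _ _
  let e₂ : (Localization.Away f ⧸ (J ^ (n + 1)).map (algebraMap A (Localization.Away f))) ≃+*
      (Localization.Away f ⧸ (J.map (algebraMap A (Localization.Away f))) ^ (n + 1)) :=
    Ideal.quotEquivOfEq (Ideal.map_pow _ _ _)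
  let ev : FSch.cAway A J f →+*
      (Localization.Away f ⧸ (J.map (algebraMap A (Localization.Away f))) ^ (n + 1)) :=
    (AdicCompletion.evalₐ (J.map (algebraMap A (Localization.Away f))) (n + 1)).toRingHom
  have hev : Function.Surjective ev :=
    AdicCompletion.surjective_evalₐ (J.map (algebraMap A (Localization.Away f))) (n + 1)
  let e₃ := RingHom.quotientKerEquivOfSurjective hev
  have hker : RingHom.ker ev = (J.map (algebraMap A (FSch.cAway A J f))) ^ (n + 1) := by
    rw [ker_evalₐ _ hIfg, Ideal.map_map, ← IsScalarTower.algebraMap_eq]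
  let e₄ := Ideal.quotEquivOfEq hker
  refine ⟨e₁.toRingEquiv.trans (e₂.trans (e₃.symm.trans e₄)), fun a => ?_⟩
  have h1 : e₁ (algebraMap (A ⧸ J ^ (n + 1)) _ (Ideal.Quotient.mk (J ^ (n + 1)) a)) =
      Ideal.Quotient.mk _ (algebraMap A (Localization.Away f) a) := by
    rw [AlgEquiv.commutes]
    rfl
  have h3 : e₃.symm (Ideal.Quotient.mk _ (algebraMap A (Localization.Away f) a)) =
      Ideal.Quotient.mk _ (algebraMap A (FSch.cAway A J f) a) := by
    rw [RingEquiv.symm_apply_eq, RingHom.quotientKerEquivOfSurjective_apply_mk,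
      IsScalarTower.algebraMap_apply A (Localization.Away f) (FSch.cAway A J f)]
    change _ = (AdicCompletion.evalₐ (J.map (algebraMap A (Localization.Away f))) (n + 1))
      (algebraMap (Localization.Away f) (FSch.cAway A J f) (algebraMap A (Localization.Away f) a))
    rw [AlgHom.commutes]
    rfl
  change e₄ (e₃.symm (e₂ (e₁ _))) = _
  rw [h1]
  change e₄ (e₃.symm (Ideal.Quotient.mk _ (algebraMap A (Localization.Away f) a))) = _
  rw [h3]
  rfl
end

end Groth.Agent.Helper6.AdicKer
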