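import Groth.Agent.Lib.Helper6.AffWalk

/-!
# Genus-one numerical types: arms (simple chains with arithmetic multiplicities)
-/

set_option autoImplicit false

namespace Groth.Agent.Lib.Helper6.Aff

open Finset Models

variable {n : ℕ} (T : Models.NumericalType n)

theorem arm_step (hd : ∀ i, T.a i i = -2 * T.w i) {p t : Fin n} (hpt : p ≠ t)
    (hat : T.a t p = T.w t) (hm : T.m t < T.m p) :
    ((∀ y, y ≠ t → y ≠ p → T.a t y = 0) ∧ 2 * T.m t = T.m p) ∨
    (∃ u, u ≠ p ∧ u ≠ t ∧ T.a t u = T.w t ∧ T.w u = T.w t ∧ T.m u = 2 * T.m t - T.m p ∧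
        ∀ y, y ≠ t → y ≠ p → y ≠ u → T.a t y = 0) := by
  have hwt := T.w_pos t
  have hmt := T.m_pos t
  have htK : t ∉ ({p} : Finset (Fin n)) := by simpa using hpt.symm
  have hsum : ∑ j ∈ ({p} : Finset (Fin n)), T.a t j * T.m j = T.w t * T.m p := by
    rw [Finset.sum_singleton, hat]
  have hle := sumK_le T hd t {p} htK
  rw [hsum] at hle
  have hmp : T.m p ≤ 2 * T.m t := by
    have h' : T.w t * T.m p ≤ T.w t * (2 * T.m t) := by linarith
    exact le_of_mul_le_mul_left h' hwt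
  by_cases hfull : 2 * T.m t = T.m p
  · left
    refine ⟨?_, hfull⟩
    intro y hyt hyp
    refine zero_of_full T hd t {p} htK ?_ y (by simpa using hyp) hyt
    rw [hsum, ← hfull]; ring
  · right
    have hlt : T.m p < 2 * T.m t := lt_of_le_of_ne hmp (Ne.symm hfull)
    have hlt' : ∑ j ∈ ({p} : Finset (Fin n)), T.a t j * T.m j < 2 * T.w t * T.m t := by
      rw [hsum]; nlinarith
    obtain ⟨u, huK, hut, hau⟩ := exists_new T hd t {p} htK hlt'
    have hup : u ≠ p := by simpa using huK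
    obtain ⟨c, c', hc1, hc1', hc, hc', -, hcm'⟩ := edge T hd hut hau.ne'
    have hmu := T.m_pos u
    have hnl := new_le T hd t {p} htK u huK hut
    rw [hsum, hc] at hnl
    have hcm : c * T.m u ≤ 2 * T.m t - T.m p := by
      have h' : T.w t * (c * T.m u) ≤ T.w t * (2 * T.m t - T.m p) := by linarith
      exact le_of_mul_le_mul_left h' hwt
    have hc_eq : c = 1 := by
      by_contra hne
      have h2 : 2 ≤ c := by omega
      have h3 : 2 * T.m u ≤ c * T.m u := mul_le_mul_of_nonneg_right h2 hmu.le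
      have h4 : T.m t ≤ c' * T.m t := le_mul_of_one_le_left hmt.le hc1'
      linarith
    subst hc_eq
    have hc_eq' : c' = 1 := by
      by_contra hne
      have h2 : 2 ≤ c' := by omega
      have h3 : 2 * T.m t ≤ c' * T.m t := mul_le_mul_of_nonneg_right h2 hmt.le
      linarith
    subst hc_eq'
    have hatu : T.a t u = T.w t := by rw [hc, mul_one]
    have hwu : T.w u = T.w t := by linarith
    have hzu : t ∉ insert u ({p} : Finset (Fin n)) := notMem_insert_of (Ne.symm hut) htK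
    have hsum2 : ∑ j ∈ insert u ({p} : Finset (Fin n)), T.a t j * T.m j =
        T.w t * T.m u + T.w t * T.m p := by
      rw [Finset.sum_insert huK, hsum, hatu]
    have hcl : ∀ y, y ≠ t → y ≠ p → y ≠ u → T.a t y = 0 := by
      intro y hyt hyp hyu
      by_contra hay
      have hyK : y ∉ insert u ({p} : Finset (Fin n)) := by
        rw [Finset.mem_insert, Finset.mem_singleton]
        rintro (h | h)
        · exact hyu h
        · exact hyp h
      obtain ⟨e, e', he1, he1', he, he', -, hem'⟩ := edge T hd hyt hay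
      have hmy := T.m_pos y
      have hnl2 := new_le T hd t _ hzu y hyK hyt
      rw [hsum2, he] at hnl2
      have hem : T.m u + e * T.m y ≤ 2 * T.m t - T.m p := by
        have h' : T.w t * (T.m u + e * T.m y) ≤ T.w t * (2 * T.m t - T.m p) := by linarith
        exact le_of_mul_le_mul_left h' hwt
      have h4 : T.m t ≤ e' * T.m t := le_mul_of_one_le_left hmt.le he1'
      have h5 : T.m y ≤ e * T.m y := le_mul_of_one_le_left hmy.le he1
      linarith
    refine ⟨u, hup, hut, hatu, hwu, ?_, hcl⟩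
    have hfull2 : ∑ j ∈ insert u ({p} : Finset (Fin n)), T.a t j * T.m j =
        2 * T.w t * T.m t := by
      have h1 := rowK T hd t _ hzu
      have h0 : ∑ j ∈ (insert t (insert u ({p} : Finset (Fin n))))ᶜ, T.a t j * T.m j = 0 := by
        apply Finset.sum_eq_zero
        intro y hy
        have hy' := Finset.mem_compl.mp hy
        simp only [Finset.mem_insert, Finset.mem_singleton, not_or] at hy'
        rw [hcl y hy'.1 hy'.2.2 hy'.2.1, zero_mul]
      linarith
    rw [hsum2] at hfull2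
    have h6 : T.w t * (T.m u + T.m p) = T.w t * (2 * T.m t) := by linarith
    have h7 := mul_left_cancel₀ hwt.ne' h6
    linarith

/-- invariant of the arm walk -/
def ArmInv (x : ℕ → Fin n) (k : ℕ) : Prop :=
  x k ≠ x (k+1) ∧ T.a (x (k+1)) (x k) = T.w (x (k+1)) ∧ T.m (x (k+1)) < T.m (x k)

/-- continuation of the arm walk -/
def ArmCont (x : ℕ → Fin n) (k : ℕ) : Prop :=
  x (k+2) ≠ x k ∧ x (k+2) ≠ x (k+1) ∧ T.a (x (k+1)) (x (k+2)) = T.w (x (k+1)) ∧
    T.w (x (k+2)) = T.w (x (k+1)) ∧ T.m (x (k+2)) = 2 * T.m (x (k+1)) - T.m (x k) ∧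
    ∀ y, y ≠ x (k+1) → y ≠ x k → y ≠ x (k+2) → T.a (x (k+1)) y = 0

/-- end of the arm walk -/
def ArmLeaf (x : ℕ → Fin n) (k : ℕ) : Prop :=
  (∀ y, y ≠ x (k+1) → y ≠ x k → T.a (x (k+1)) y = 0) ∧ 2 * T.m (x (k+1)) = T.m (x k)

theorem arm_inv_step (hd : ∀ i, T.a i i = -2 * T.w i) (b t : Fin n) (k : ℕ)
    (h : ArmInv T (xs T b t) k) :
    ArmLeaf T (xs T b t) k ∨ (ArmCont T (xs T b t) k ∧ ArmInv T (xs T b t) (k+1)) := by
  obtain ⟨h1, h2, h3⟩ := h
  rcases arm_step T hd h1 h2 h3 with hl | ⟨u, hup, hut, hau, hwu, hmu, hcl⟩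
  · exact Or.inl hl
  · right
    have hx : xs T b t (k+2) = u := by
      rw [xs_succ_succ]
      exact nxt1_eq T hup hut (by rw [hau]; exact (T.w_pos _).ne') hcl
    refine ⟨?_, ?_⟩
    · rw [ArmCont, hx]
      exact ⟨hup, hut, hau, hwu, hmu, hcl⟩
    · show xs T b t (k+1) ≠ xs T b t (k+2) ∧
        T.a (xs T b t (k+2)) (xs T b t (k+1)) = T.w (xs T b t (k+2)) ∧
        T.m (xs T b t (k+2)) < T.m (xs T b t (k+1))
      rw [hx]
      refine ⟨Ne.symm hut, ?_, ?_⟩
      · rw [a_symm T u _, hau, hwu]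
      · rw [hmu]; linarith

/-- an arm attached to `b`: `x 0 = b`, `x 1, …, x k` a simple chain ending in a leaf, with
multiplicities `m b - j * d` -/
structure Arm (b : Fin n) (x : ℕ → Fin n) (k : ℕ) (d ω : ℤ) : Prop where
  x0 : x 0 = b
  dpos : 0 < d
  tot : T.m b = (k + 1) * d
  m_eq : ∀ j, j ≤ k → T.m (x j) = T.m b - j * d
  w_eq : ∀ j, 1 ≤ j → j ≤ k → T.w (x j) = ω
  adj : ∀ j, j < k → T.a (x j) (x (j+1)) = ω
  nbr : ∀ j, j < k → ∀ y, y ≠ x (j+1) → y ≠ x j → (j + 1 < k → y ≠ x (j+2)) →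
    T.a (x (j+1)) y = 0

theorem arm_exists (hd : ∀ i, T.a i i = -2 * T.w i) {b t : Fin n} (hbt : b ≠ t)
    (hat : T.a t b = T.w t) (hm : T.m t < T.m b) :
    ∃ k d, 1 ≤ k ∧ Arm T b (xs T b t) k d (T.w t) := by
  classical
  obtain ⟨x, hxdef⟩ : ∃ x : ℕ → Fin n, x = xs T b t := ⟨_, rfl⟩
  have hx0 : x 0 = b := by rw [hxdef]; rfl
  have hx1 : x 1 = t := by rw [hxdef]; rfl
  have hstep : ∀ k, ArmInv T x k → ArmLeaf T x k ∨ (ArmCont T x k ∧ ArmInv T x (k+1)) := by
    rw [hxdef]; exact fun k h => arm_inv_step T hd b t k h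
  have hinv0 : ArmInv T x 0 := by
    refine ⟨?_, ?_, ?_⟩
    · rw [hx0, hx1]; exact hbt
    · rw [hx0, hx1]; exact hat
    · rw [hx0, hx1]; exact hm
  have hex : ∃ k, ¬ (ArmCont T x k ∧ ArmInv T x (k+1)) := by
    by_contra hall
    push Not at hall
    have hinv : ∀ k, ArmInv T x k := by
      intro k
      rcases Nat.eq_zero_or_pos k with h | h
      · rw [h]; exact hinv0
      · obtain ⟨k', rfl⟩ : ∃ k', k = k' + 1 := ⟨k - 1, by omega⟩
        exact (hall k').2
    have hdec : ∀ k : ℕ, T.m (x k) + k ≤ T.m (x 0) := by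
      intro k
      induction k with
      | zero => simp
      | succ k ih =>
        have := (hinv k).2.2
        push_cast
        linarith
    have h1 := hdec ((T.m (x 0)).toNat + 1)
    have h2 := T.m_pos (x ((T.m (x 0)).toNat + 1))
    have h3 := Int.toNat_of_nonneg (T.m_pos (x 0)).le
    push_cast at h1
    linarith
  obtain ⟨K, hK, hKmin⟩ : ∃ K, ¬ (ArmCont T x K ∧ ArmInv T x (K+1)) ∧
      ∀ j, j < K → (ArmCont T x j ∧ ArmInv T x (j+1)) := by
    refine ⟨Nat.find hex, Nat.find_spec hex, fun j hj => ?_⟩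
    have := Nat.find_min hex hj
    push Not at this
    exact ⟨this.1, this.2⟩
  have hinv : ∀ j, j ≤ K → ArmInv T x j := by
    intro j hj
    rcases Nat.eq_zero_or_pos j with h | h
    · rw [h]; exact hinv0
    · obtain ⟨j', rfl⟩ : ∃ j', j = j' + 1 := ⟨j - 1, by omega⟩
      exact (hKmin j' (by omega)).2
  have hleaf : ArmLeaf T x K := by
    rcases hstep K (hinv K le_rfl) with h | h
    · exact h
    · exact absurd h hK
  have hcont : ∀ j, j < K → ArmCont T x j := fun j hj => (hKmin j hj).1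
  obtain ⟨d, hddef⟩ : ∃ d, d = T.m (x 0) - T.m (x 1) := ⟨_, rfl⟩
  have hdpos : 0 < d := by
    have := (hinv 0 (by omega)).2.2
    rw [hddef]; linarith
  have hmform : ∀ j, j + 1 ≤ K + 1 →
      (T.m (x j) = T.m (x 0) - j * d ∧ T.m (x (j+1)) = T.m (x 0) - ((j+1 : ℕ) : ℤ) * d) := by
    intro j
    induction j with
    | zero =>
      intro _
      refine ⟨by simp, ?_⟩
      rw [hddef]; push_cast; ring
    | succ j ih =>
      intro hj
      obtain ⟨h1, h2⟩ := ih (by omega)
      refine ⟨h2, ?_⟩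
      have hc := (hcont j (by omega)).2.2.2.2.1
      rw [hc, h1, h2]; push_cast; ring
  have hm_eq : ∀ j, j ≤ K + 1 → T.m (x j) = T.m (x 0) - j * d := by
    intro j hj
    rcases Nat.eq_zero_or_pos j with h | h
    · rw [h]; simp
    · obtain ⟨j', rfl⟩ : ∃ j', j = j' + 1 := ⟨j - 1, by omega⟩
      exact (hmform j' (by omega)).2
  have htot : T.m (x 0) = ((K + 1 : ℕ) + 1) * d := by
    have h1 := hm_eq K (by omega)
    have h2 := hm_eq (K+1) le_rfl
    have h3 := hleaf.2
    rw [h1, h2] at h3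
    push_cast at h3 ⊢
    linarith
  have hw_eq : ∀ j, j ≤ K → T.w (x (j+1)) = T.w (x 1) := by
    intro j
    induction j with
    | zero => intro _; rfl
    | succ j ih =>
      intro hj
      show T.w (x (j+2)) = T.w (x 1)
      rw [(hcont j (by omega)).2.2.2.1]; exact ih (by omega)
  refine ⟨K+1, d, by omega, ?_⟩
  rw [← hxdef]
  refine ⟨hx0, hdpos, ?_, ?_, ?_, ?_, ?_⟩
  · rw [← hx0]; exact htot
  · rw [← hx0]; exact hm_eq
  · intro j h1 hj
    obtain ⟨j', rfl⟩ : ∃ j', j = j' + 1 := ⟨j - 1, by omega⟩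
    rw [hw_eq j' (by omega), hx1]
  · intro j hj
    rcases Nat.eq_zero_or_pos j with h | h
    · subst h
      rw [a_symm T (x 0) (x (0+1))]
      have := hinv0.2.1
      rw [this, hx1]
    · obtain ⟨j', rfl⟩ : ∃ j', j = j' + 1 := ⟨j - 1, by omega⟩
      have h2 := (hcont j' (by omega)).2.2.1
      show T.a (x (j'+1)) (x (j'+2)) = T.w t
      rw [h2, hw_eq j' (by omega), hx1]
  · intro j hj y h1 h2 h3
    rcases Nat.lt_or_ge j K with h | h
    · exact (hcont j h).2.2.2.2.2 y h1 h2 (h3 (by omega))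
    · have : j = K := by omega
      subst this
      exact hleaf.1 y h1 h2

end Groth.Agent.Lib.Helper6.Aff
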