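import Groth.Agent.Lib.Helper11.NumQuad

/-!
# Genus-one numerical types: basic row arithmetic

Helper library (helper6) for the classification of minimal numerical types of genus one.
All results assume `hd : ∀ i, T.a i i = -2 * T.w i`.
-/

set_option autoImplicit false

namespace Groth.Agent.Lib.Helper6.Aff

open Finset Models

variable {n : ℕ} (T : Models.NumericalType n)

theorem a_symm (i j : Fin n) : T.a i j = T.a j i := (T.symm.apply i j).symm

theorem term_nonneg (z j : Fin n) (h : j ≠ z) : 0 ≤ T.a z j * T.m j :=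
  mul_nonneg (T.offDiag_nonneg z j (Ne.symm h)) (T.m_pos j).le

theorem rowK (hd : ∀ i, T.a i i = -2 * T.w i) (z : Fin n) (K : Finset (Fin n)) (hz : z ∉ K) :
    ∑ j ∈ K, T.a z j * T.m j + ∑ j ∈ (insert z K)ᶜ, T.a z j * T.m j = 2 * T.w z * T.m z := by
  have h := Groth.Agent.Helper4.NT_row_sum T z
  rw [← Finset.sum_add_sum_compl (insert z K), Finset.sum_insert hz, hd z] at h
  linarith

theorem compl_nonneg (z : Fin n) (K : Finset (Fin n)) :
    0 ≤ ∑ j ∈ (insert z K)ᶜ, T.a z j * T.m j := by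
  apply Finset.sum_nonneg
  intro j hj
  have hj' := Finset.mem_compl.mp hj
  have : j ≠ z := fun h => hj' (by rw [h]; exact Finset.mem_insert_self _ _)
  exact term_nonneg T z j this

theorem sumK_le (hd : ∀ i, T.a i i = -2 * T.w i) (z : Fin n) (K : Finset (Fin n)) (hz : z ∉ K) :
    ∑ j ∈ K, T.a z j * T.m j ≤ 2 * T.w z * T.m z := by
  have h1 := rowK T hd z K hz
  have h2 := compl_nonneg T z K
  linarith

theorem zero_of_full (hd : ∀ i, T.a i i = -2 * T.w i) (z : Fin n) (K : Finset (Fin n))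
    (hz : z ∉ K) (hfull : ∑ j ∈ K, T.a z j * T.m j = 2 * T.w z * T.m z) :
    ∀ y, y ∉ K → y ≠ z → T.a z y = 0 := by
  intro y hyK hyz
  have h1 := rowK T hd z K hz
  have h0 : ∑ j ∈ (insert z K)ᶜ, T.a z j * T.m j = 0 := by linarith
  have hnn : ∀ j ∈ (insert z K)ᶜ, 0 ≤ T.a z j * T.m j := by
    intro j hj
    have hj' := Finset.mem_compl.mp hj
    have : j ≠ z := fun h => hj' (by rw [h]; exact Finset.mem_insert_self _ _)
    exact term_nonneg T z j this
  have hy : y ∈ (insert z K)ᶜ := by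
    rw [Finset.mem_compl, Finset.mem_insert]
    rintro (h | h)
    · exact hyz h
    · exact hyK h
  have h2 := (Finset.sum_eq_zero_iff_of_nonneg hnn).1 h0 y hy
  rcases mul_eq_zero.mp h2 with h | h
  · exact h
  · exact absurd h (T.m_pos y).ne'

theorem exists_new (hd : ∀ i, T.a i i = -2 * T.w i) (z : Fin n) (K : Finset (Fin n))
    (hz : z ∉ K) (hlt : ∑ j ∈ K, T.a z j * T.m j < 2 * T.w z * T.m z) :
    ∃ y, y ∉ K ∧ y ≠ z ∧ 0 < T.a z y := by
  by_contra hcon
  push Not at hcon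
  have h1 := rowK T hd z K hz
  have h0 : ∑ j ∈ (insert z K)ᶜ, T.a z j * T.m j ≤ 0 := by
    apply Finset.sum_nonpos
    intro j hj
    have hj' := Finset.mem_compl.mp hj
    have hjz : j ≠ z := fun h => hj' (by rw [h]; exact Finset.mem_insert_self _ _)
    have hjK : j ∉ K := fun h => hj' (Finset.mem_insert_of_mem h)
    have h3 := hcon j hjK hjz
    have h4 := mul_nonneg (neg_nonneg.mpr h3) (T.m_pos j).le
    linarith
  linarith

theorem new_le (hd : ∀ i, T.a i i = -2 * T.w i) (z : Fin n) (K : Finset (Fin n)) (hz : z ∉ K)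
    (y : Fin n) (hyK : y ∉ K) (hyz : y ≠ z) :
    ∑ j ∈ K, T.a z j * T.m j + T.a z y * T.m y ≤ 2 * T.w z * T.m z := by
  have hz' : z ∉ insert y K := by
    rw [Finset.mem_insert]
    rintro (h | h)
    · exact hyz h.symm
    · exact hz h
  have h := sumK_le T hd z (insert y K) hz'
  rw [Finset.sum_insert hyK] at h
  linarith

/-- single neighbour bound -/
theorem one_le (hd : ∀ i, T.a i i = -2 * T.w i) (z y : Fin n) (hyz : y ≠ z) :
    T.a z y * T.m y ≤ 2 * T.w z * T.m z := by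
  have h := new_le T hd z ∅ (Finset.notMem_empty z) y (Finset.notMem_empty y) hyz
  simpa using h

/-- Edge lemma. -/
theorem edge (hd : ∀ i, T.a i i = -2 * T.w i) {z t : Fin n} (htz : t ≠ z) (ha : T.a z t ≠ 0) :
    ∃ c c' : ℤ, 1 ≤ c ∧ 1 ≤ c' ∧ T.a z t = T.w z * c ∧ T.a z t = T.w t * c' ∧
      c * T.m t ≤ 2 * T.m z ∧ c' * T.m z ≤ 2 * T.m t := by
  have hpos : 0 < T.a z t := lt_of_le_of_ne (T.offDiag_nonneg z t (Ne.symm htz)) (Ne.symm ha)
  obtain ⟨c, hc⟩ := T.w_dvd z t
  obtain ⟨c', hc'⟩ := T.w_dvd t z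
  rw [← a_symm T z t] at hc'
  have hwz := T.w_pos z
  have hwt := T.w_pos t
  have hc1 : 1 ≤ c := by
    by_contra h
    push Not at h
    have : c ≤ 0 := by omega
    nlinarith
  have hc1' : 1 ≤ c' := by
    by_contra h
    push Not at h
    have : c' ≤ 0 := by omega
    nlinarith
  refine ⟨c, c', hc1, hc1', hc, hc', ?_, ?_⟩
  · have h := one_le T hd z t htz
    rw [hc] at h
    have h' : T.w z * (c * T.m t) ≤ T.w z * (2 * T.m z) := by linarith
    exact le_of_mul_le_mul_left h' hwz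
  · have h := one_le T hd t z (Ne.symm htz)
    rw [← a_symm T z t, hc'] at h
    have h' : T.w t * (c' * T.m z) ≤ T.w t * (2 * T.m t) := by linarith
    exact le_of_mul_le_mul_left h' hwt

theorem eq_univ_of_closed (S : Finset (Fin n)) (hne : S.Nonempty)
    (hcl : ∀ i ∈ S, ∀ j, j ≠ i → T.a i j ≠ 0 → j ∈ S) : S = univ := by
  by_contra h
  obtain ⟨i, hi, j, hj, ha⟩ := T.connected S hne h
  exact hj (hcl i hi j (fun e => hj (e ▸ hi)) ha)

end Groth.Agent.Lib.Helper6.Aff
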