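import Groth.Agent.Lib.Helper6.AffWalk

/-!
# Genus-one numerical types: caterpillars and cycles from half-supplied vertices
-/

set_option autoImplicit false

namespace Groth.Agent.Lib.Helper6.Aff

open Finset Models

variable {n : ℕ} (T : Models.NumericalType n)

theorem Kind.ell_pos (κ : Kind) : 0 < κ.ell := by cases κ <;> simp

theorem term_half {z : Fin n} {κ : Kind} {lf : ℕ → Fin n} {μ ω α : ℤ}
    (ht : Term T z κ lf μ ω α) :
    ∃ K : Finset (Fin n), z ∉ K ∧ (∀ y, y ∉ K ↔ ∀ i, i < κ.ell → y ≠ lf i) ∧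
      ∑ j ∈ K, T.a z j * T.m j = T.w z * T.m z := by
  cases κ with
  | e1 =>
    refine ⟨{lf 0}, ?_, ?_, ?_⟩
    · simpa using (ht.ne 0 (by simp)).symm
    · intro y
      simp only [Finset.mem_singleton, Kind.ell_e1]
      constructor
      · intro h i hi
        have : i = 0 := by omega
        subst this; exact h
      · intro h; exact h 0 (by omega)
    · rw [Finset.sum_singleton, ht.a_eq 0 (by simp), ht.m_eq 0 (by simp)]
      obtain ⟨h1, h2, h3⟩ := ht.rel
      rw [h1, h3]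
  | e2 =>
    refine ⟨{lf 0}, ?_, ?_, ?_⟩
    · simpa using (ht.ne 0 (by simp)).symm
    · intro y
      simp only [Finset.mem_singleton, Kind.ell_e2]
      constructor
      · intro h i hi
        have : i = 0 := by omega
        subst this; exact h
      · intro h; exact h 0 (by omega)
    · rw [Finset.sum_singleton, ht.a_eq 0 (by simp), ht.m_eq 0 (by simp)]
      obtain ⟨h1, h2, h3⟩ := ht.rel
      rw [h3, h1]; ring
  | e3 =>
    have h01 : lf 0 ≠ lf 1 := ht.inj 0 1 (by omega) (by simp)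
    refine ⟨{lf 0, lf 1}, ?_, ?_, ?_⟩
    · simp only [Finset.mem_insert, Finset.mem_singleton]
      rintro (h | h)
      · exact ht.ne 0 (by simp) h.symm
      · exact ht.ne 1 (by simp) h.symm
    · intro y
      simp only [Finset.mem_insert, Finset.mem_singleton, Kind.ell_e3, not_or]
      constructor
      · rintro ⟨h0, h1⟩ i hi
        rcases (by omega : i = 0 ∨ i = 1) with rfl | rfl
        · exact h0
        · exact h1
      · intro h; exact ⟨h 0 (by omega), h 1 (by omega)⟩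
    · rw [Finset.sum_pair h01, ht.a_eq 0 (by simp), ht.m_eq 0 (by simp), ht.a_eq 1 (by simp),
        ht.m_eq 1 (by simp)]
      obtain ⟨h1, h2, h3⟩ := ht.rel
      rw [h3, h1]; ring

/-- caterpillar data -/
structure Cat (κ₀ κ₁ : Kind) (x : ℕ → Fin n) (r : ℕ) (lf₀ lf₁ : ℕ → Fin n)
    (μ₀ ω₀ α₀ μ₁ ω₁ α₁ : ℤ) : Prop where
  t0 : Term T (x 0) κ₀ lf₀ μ₀ ω₀ α₀
  t1 : Term T (x r) κ₁ lf₁ μ₁ ω₁ α₁
  step : ∀ k, k < r → Step T (x k) (x (k+1))
  inj : ∀ i j, i < j → j ≤ r → x i ≠ x j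
  l0x : ∀ i, i < κ₀.ell → ∀ k, k ≤ r → lf₀ i ≠ x k
  l1x : ∀ i, i < κ₁.ell → ∀ k, k ≤ r → lf₁ i ≠ x k
  l01 : ∀ i, i < κ₀.ell → ∀ j, j < κ₁.ell → lf₀ i ≠ lf₁ j
  nbr : ∀ k, k ≤ r → ∀ y, y ≠ x k → (k = 0 → ∀ i, i < κ₀.ell → y ≠ lf₀ i) →
      (k = r → ∀ j, j < κ₁.ell → y ≠ lf₁ j) → (∀ k', k' + 1 = k → y ≠ x k') →
      (k < r → y ≠ x (k+1)) → T.a (x k) y = 0

theorem step_half {p z : Fin n} (h : Step T p z) :
    z ∉ ({p} : Finset (Fin n)) ∧
      ∑ j ∈ ({p} : Finset (Fin n)), T.a z j * T.m j = T.w z * T.m z := by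
  constructor
  · simpa using h.1.symm
  · rw [Finset.sum_singleton]
    have hs := Step.symm T h
    rw [hs.2.1, hs.2.2.2]

theorem cat_of_term (hd : ∀ i, T.a i i = -2 * T.w i) {z₀ : Fin n} {κ₀ : Kind}
    {lf₀ : ℕ → Fin n} {μ₀ ω₀ α₀ : ℤ} (ht : Term T z₀ κ₀ lf₀ μ₀ ω₀ α₀) :
    ∃ κ₁ x r lf₁ μ₁ ω₁ α₁, x 0 = z₀ ∧ Cat T κ₀ κ₁ x r lf₀ lf₁ μ₀ ω₀ α₀ μ₁ ω₁ α₁ := by
  classical
  obtain ⟨K, hzK, hKiff, hKsum⟩ := term_half T ht
  rcases half_lemma' T hd z₀ K hzK hKsum with ⟨u, huK, huz, hstep0, hcl0⟩ |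
    ⟨κ₁, lf₁, μ₁, ω₁, α₁, ht₁, hlK, hcl⟩
  · -- walk
    obtain ⟨x, hxdef⟩ : ∃ x : ℕ → Fin n, x = xs T z₀ u := ⟨_, rfl⟩
    have hx0 : x 0 = z₀ := by rw [hxdef]; rfl
    have hx1 : x 1 = u := by rw [hxdef]; rfl
    have ht' : Term T (x 0) κ₀ lf₀ μ₀ ω₀ α₀ := by rw [hx0]; exact ht
    have hu_leaf : ∀ i, i < κ₀.ell → x 1 ≠ lf₀ i := by rw [hx1]; exact (hKiff u).1 huK
    have hnb0 : ∀ y, y ≠ x 0 → (∀ i, i < κ₀.ell → y ≠ lf₀ i) → y ≠ x 1 → T.a (x 0) y = 0 := by
      rw [hx0, hx1]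
      exact fun y hy0 hyl hy1 => hcl0 y ((hKiff y).2 hyl) hy0 hy1
    have hchain : ∀ k, (∀ j, j < k → ∃ v, Cont T (x j) (x (j+1)) v) → Chain T x (k+1) := by
      rw [hxdef]; exact fun k hc => chain_of_cont T z₀ u hstep0 k hc
    have hstop : ∃ k, ¬ ∃ v, Cont T (x k) (x (k+1)) v := by
      by_contra hall
      push Not at hall
      have hC := hchain n (fun j _ => hall j)
      obtain ⟨j, hjn, hrep⟩ := pigeon x
      obtain ⟨j', hj1, hjR, hxj, hinj⟩ := first_repeat T hC ⟨j, by omega, hrep⟩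
      exact no_return T hC hj1 hjR hxj hinj ht' hu_leaf hnb0
    obtain ⟨k₀, hk₀, hk₀min⟩ : ∃ k, (¬ ∃ v, Cont T (x k) (x (k+1)) v) ∧
        ∀ j, j < k → ∃ v, Cont T (x j) (x (j+1)) v := by
      refine ⟨Nat.find hstop, Nat.find_spec hstop, fun j hj => ?_⟩
      have := Nat.find_min hstop hj
      push Not at this
      exact this
    have hC := hchain k₀ hk₀min
    have hstepr := hC.step k₀ (by omega)
    obtain ⟨hnotin, hsum⟩ := step_half T hstepr
    rcases half_lemma' T hd (x (k₀+1)) {x k₀} hnotin hsum with ⟨v, hvK, hvz, hstepv, hclv⟩ |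
      ⟨κ₁, lf₁, μ₁, ω₁, α₁, ht₁, hlK, hcl⟩
    · exfalso
      apply hk₀
      refine ⟨v, by simpa using hvK, hvz, hstepv, ?_⟩
      intro y hyz hyp hyv
      exact hclv y (by simpa using hyp) hyz hyv
    · have hinj : ∀ i j, i < j → j ≤ k₀ + 1 → x i ≠ x j := by
        intro i j hij hj he
        obtain ⟨j', hj1, hjR, hxj, hinj'⟩ := first_repeat T hC ⟨j, hj, i, hij, he⟩
        exact no_return T hC hj1 hjR hxj hinj' ht' hu_leaf hnb0
      have hl0x : ∀ i, i < κ₀.ell → ∀ k, k ≤ k₀ + 1 → lf₀ i ≠ x k := by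
        intro i hi k hk he
        rcases Nat.lt_trichotomy k 1 with h | h | h
        · have : k = 0 := by omega
          subst this
          exact ht'.ne i hi he
        · subst h
          exact hu_leaf i hi he.symm
        · obtain ⟨k', rfl⟩ : ∃ k', k = k' + 2 := ⟨k - 2, by omega⟩
          have hst : Step T (x (k'+1)) (x (k'+2)) := hC.step (k'+1) (by omega)
          have hne' : T.a (lf₀ i) (x (k'+1)) ≠ 0 := by rw [he]; exact Step.a_ne' T hst
          have h1 : x (k'+1) ≠ lf₀ i := by rw [he]; exact hst.1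
          have h0 : x (k'+1) = x 0 := by
            by_contra hcon
            exact hne' (ht'.leaf i hi _ h1 hcon)
          exact hinj 0 (k'+1) (by omega) (by omega) h0.symm
      have hl1x : ∀ j, j < κ₁.ell → ∀ k, k ≤ k₀ + 1 → lf₁ j ≠ x k := by
        intro j hj k hk he
        rcases Nat.lt_or_ge k (k₀+1) with hlt | hge
        · have hst := hC.step k hlt
          have hne' : T.a (lf₁ j) (x (k+1)) ≠ 0 := by rw [he]; exact Step.a_ne T hst
          have h1 : x (k+1) ≠ lf₁ j := by rw [he]; exact hst.1.symm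
          have hr : x (k+1) = x (k₀+1) := by
            by_contra hcon
            exact hne' (ht₁.leaf j hj _ h1 hcon)
          have hk1 : k + 1 = k₀ + 1 := by
            by_contra hcon
            exact hinj (k+1) (k₀+1) (by omega) (by omega) hr
          obtain rfl : k = k₀ := by omega
          rcases Nat.eq_zero_or_pos k with h0 | hpos
          · subst h0
            have hell : 0 < κ₀.ell := Kind.ell_pos κ₀
            have ha0 : T.a (x 0) (lf₀ 0) = α₀ := ht'.a_eq 0 hell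
            have hne0 : T.a (lf₁ j) (lf₀ 0) ≠ 0 := by
              rw [he, ha0]; exact (Term.a_pos T ht').ne'
            have h2 : lf₀ 0 ≠ lf₁ j := by rw [he]; exact ht'.ne 0 hell
            have h3 : lf₀ 0 = x (0+1) := by
              by_contra hcon
              exact hne0 (ht₁.leaf j hj _ h2 hcon)
            exact hu_leaf 0 hell h3.symm
          · obtain ⟨k', rfl⟩ : ∃ k', k = k' + 1 := ⟨k - 1, by omega⟩
            have hst' := hC.step k' (by omega)
            have hne'' : T.a (lf₁ j) (x k') ≠ 0 := by rw [he]; exact Step.a_ne' T hst'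
            have h1' : x k' ≠ lf₁ j := by rw [he]; exact hst'.1
            have hr' : x k' = x (k'+1+1) := by
              by_contra hcon
              exact hne'' (ht₁.leaf j hj _ h1' hcon)
            exact hinj k' (k'+1+1) (by omega) (by omega) hr'
        · have : k = k₀ + 1 := by omega
          subst this
          exact ht₁.ne j hj he
      have hl01 : ∀ i, i < κ₀.ell → ∀ j, j < κ₁.ell → lf₀ i ≠ lf₁ j := by
        intro i hi j hj he
        have ha0 : T.a (x 0) (lf₀ i) = α₀ := ht'.a_eq i hi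
        have hne0 : T.a (lf₁ j) (x 0) ≠ 0 := by
          rw [← he, a_symm T (lf₀ i) (x 0), ha0]; exact (Term.a_pos T ht').ne'
        have h2 : x 0 ≠ lf₁ j := by rw [← he]; exact (ht'.ne i hi).symm
        have h3 : x 0 = x (k₀+1) := by
          by_contra hcon
          exact hne0 (ht₁.leaf j hj _ h2 hcon)
        exact hinj 0 (k₀+1) (by omega) (by omega) h3
      have hnbr : ∀ k, k ≤ k₀+1 → ∀ y, y ≠ x k → (k = 0 → ∀ i, i < κ₀.ell → y ≠ lf₀ i) →
          (k = k₀+1 → ∀ j, j < κ₁.ell → y ≠ lf₁ j) → (∀ k', k' + 1 = k → y ≠ x k') →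
          (k < k₀+1 → y ≠ x (k+1)) → T.a (x k) y = 0 := by
        intro k hk y hyk h0 hr hp hs
        rcases Nat.eq_zero_or_pos k with hk0 | hkpos
        · subst hk0
          exact hnb0 y hyk (h0 rfl) (hs (by omega))
        · obtain ⟨k', rfl⟩ : ∃ k', k = k' + 1 := ⟨k - 1, by omega⟩
          rcases Nat.lt_or_ge (k'+1) (k₀+1) with hlt | hge
          · exact (hC.inner k' (by omega)).2 y hyk (hp k' rfl) (hs hlt)
          · have : k' = k₀ := by omega
            subst this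
            exact hcl y (by simpa using hp k' rfl) hyk (hr rfl)
      exact ⟨κ₁, x, k₀+1, lf₁, μ₁, ω₁, α₁, hx0, ⟨ht', ht₁, hC.step, hinj, hl0x, hl1x, hl01, hnbr⟩⟩
  · -- both terminals at z₀
    refine ⟨κ₁, fun _ => z₀, 0, lf₁, μ₁, ω₁, α₁, rfl, ⟨ht, ht₁, ?_, ?_, ?_, ?_, ?_, ?_⟩⟩
    · intro k hk; omega
    · intro i j hij hj; omega
    · exact fun i hi k _ => ht.ne i hi
    · exact fun j hj k _ => ht₁.ne j hj
    · intro i hi j hj he
      exact (hKiff (lf₁ j)).1 (hlK j hj) i hi he.symm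
    · intro k hk y hyk h0 hr hp hs
      have hk0 : k = 0 := by omega
      exact hcl y ((hKiff y).2 (h0 hk0)) hyk (hr hk0)

end Groth.Agent.Lib.Helper6.Aff
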