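import Groth.Agent.Lib.Helper6.AffCyc

/-!
# Genus-one numerical types: positional description of a caterpillar
-/

set_option autoImplicit false

namespace Groth.Agent.Lib.Helper6.Aff

open Finset Models

variable {n : ℕ} (T : Models.NumericalType n)

/-- positions of a caterpillar: first the leaves of the first terminal, then the spine, then
the leaves of the second terminal -/
def catPos (ℓ₀ r : ℕ) (x lf₀ lf₁ : ℕ → Fin n) (i : ℕ) : Fin n :=
  if i < ℓ₀ then lf₀ i else if i ≤ ℓ₀ + r then x (i - ℓ₀) else lf₁ (i - ℓ₀ - r - 1)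

theorem catPos_z0 {ℓ₀ r : ℕ} {x lf₀ lf₁ : ℕ → Fin n} {i : ℕ} (h : i < ℓ₀) :
    catPos ℓ₀ r x lf₀ lf₁ i = lf₀ i := by
  unfold catPos; rw [if_pos h]

theorem catPos_z1 {ℓ₀ r : ℕ} {x lf₀ lf₁ : ℕ → Fin n} {k : ℕ} (h : k ≤ r) :
    catPos ℓ₀ r x lf₀ lf₁ (ℓ₀ + k) = x k := by
  unfold catPos
  rw [if_neg (by omega), if_pos (by omega)]
  congr 1; omega

theorem catPos_z2 {ℓ₀ r : ℕ} {x lf₀ lf₁ : ℕ → Fin n} (j : ℕ) :
    catPos ℓ₀ r x lf₀ lf₁ (ℓ₀ + r + 1 + j) = lf₁ j := by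
  unfold catPos
  rw [if_neg (by omega), if_neg (by omega)]
  congr 1; omega

theorem cat_pos {κ₀ κ₁ : Kind} {x : ℕ → Fin n} {r : ℕ} {lf₀ lf₁ : ℕ → Fin n}
    {μ₀ ω₀ α₀ μ₁ ω₁ α₁ : ℤ} (hC : Cat T κ₀ κ₁ x r lf₀ lf₁ μ₀ ω₀ α₀ μ₁ ω₁ α₁) :
    n = κ₀.ell + r + 1 + κ₁.ell ∧
    (∀ i j, i < j → j < n → catPos κ₀.ell r x lf₀ lf₁ i ≠ catPos κ₀.ell r x lf₀ lf₁ j) ∧
    (∀ i, i < n → T.m (catPos κ₀.ell r x lf₀ lf₁ i) =
        if i < κ₀.ell then μ₀ else if i ≤ κ₀.ell + r then T.m (x 0) else μ₁) ∧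
    (∀ i, i < n → T.w (catPos κ₀.ell r x lf₀ lf₁ i) =
        if i < κ₀.ell then ω₀ else if i ≤ κ₀.ell + r then T.w (x 0) else ω₁) ∧
    (∀ i j, i < j → j < n →
        T.a (catPos κ₀.ell r x lf₀ lf₁ i) (catPos κ₀.ell r x lf₀ lf₁ j) =
        if j < κ₀.ell then 0 else if i < κ₀.ell then (if j = κ₀.ell then α₀ else 0)
        else if j ≤ κ₀.ell + r then (if j = i + 1 then T.w (x 0) else 0)
        else if i = κ₀.ell + r then α₁ else 0) := by
  classical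
  obtain ⟨ℓ₀, hℓ₀⟩ : ∃ ℓ₀, ℓ₀ = κ₀.ell := ⟨_, rfl⟩
  obtain ⟨ℓ₁, hℓ₁⟩ : ∃ ℓ₁, ℓ₁ = κ₁.ell := ⟨_, rfl⟩
  rw [← hℓ₀, ← hℓ₁]
  have t0 := hC.t0
  have t1 := hC.t1
  have l0x := hC.l0x
  have l1x := hC.l1x
  have l01 := hC.l01
  rw [← hℓ₀] at l0x l01
  rw [← hℓ₁] at l1x l01
  have t0ne : ∀ i, i < ℓ₀ → lf₀ i ≠ x 0 := by rw [hℓ₀]; exact t0.ne
  have t0leaf : ∀ i, i < ℓ₀ → LeafAt T (lf₀ i) (x 0) := by rw [hℓ₀]; exact t0.leaf
  have t0m : ∀ i, i < ℓ₀ → T.m (lf₀ i) = μ₀ := by rw [hℓ₀]; exact t0.m_eq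
  have t0w : ∀ i, i < ℓ₀ → T.w (lf₀ i) = ω₀ := by rw [hℓ₀]; exact t0.w_eq
  have t0a : ∀ i, i < ℓ₀ → T.a (x 0) (lf₀ i) = α₀ := by rw [hℓ₀]; exact t0.a_eq
  have t0inj : ∀ i j, i < j → j < ℓ₀ → lf₀ i ≠ lf₀ j := by rw [hℓ₀]; exact t0.inj
  have t1ne : ∀ i, i < ℓ₁ → lf₁ i ≠ x r := by rw [hℓ₁]; exact t1.ne
  have t1leaf : ∀ i, i < ℓ₁ → LeafAt T (lf₁ i) (x r) := by rw [hℓ₁]; exact t1.leaf
  have t1m : ∀ i, i < ℓ₁ → T.m (lf₁ i) = μ₁ := by rw [hℓ₁]; exact t1.m_eq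
  have t1w : ∀ i, i < ℓ₁ → T.w (lf₁ i) = ω₁ := by rw [hℓ₁]; exact t1.w_eq
  have t1a : ∀ i, i < ℓ₁ → T.a (x r) (lf₁ i) = α₁ := by rw [hℓ₁]; exact t1.a_eq
  have t1inj : ∀ i j, i < j → j < ℓ₁ → lf₁ i ≠ lf₁ j := by rw [hℓ₁]; exact t1.inj
  have nbr : ∀ k, k ≤ r → ∀ y, y ≠ x k → (k = 0 → ∀ i, i < ℓ₀ → y ≠ lf₀ i) →
      (k = r → ∀ j, j < ℓ₁ → y ≠ lf₁ j) → (∀ k', k' + 1 = k → y ≠ x k') →
      (k < r → y ≠ x (k+1)) → T.a (x k) y = 0 := by
    rw [hℓ₀, hℓ₁]; exact hC.nbr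
  have spine_m : ∀ k, k ≤ r → T.m (x k) = T.m (x 0) := by
    intro k
    induction k with
    | zero => intro _; rfl
    | succ k ih => intro hk; rw [(hC.step k (by omega)).2.2.2, ih (by omega)]
  have spine_w : ∀ k, k ≤ r → T.w (x k) = T.w (x 0) := by
    intro k
    induction k with
    | zero => intro _; rfl
    | succ k ih => intro hk; rw [(hC.step k (by omega)).2.2.1, ih (by omega)]
  obtain ⟨f, hf⟩ : ∃ f, f = catPos ℓ₀ r x lf₀ lf₁ := ⟨_, rfl⟩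
  rw [← hf]
  have fz0 : ∀ i, i < ℓ₀ → f i = lf₀ i := fun i h => by rw [hf]; exact catPos_z0 h
  have fz1 : ∀ k, k ≤ r → f (ℓ₀ + k) = x k := fun k h => by rw [hf]; exact catPos_z1 h
  have fz2 : ∀ j, f (ℓ₀ + r + 1 + j) = lf₁ j := fun j => by rw [hf]; exact catPos_z2 j
  have zones : ∀ i, i < ℓ₀ + r + 1 + ℓ₁ → i < ℓ₀ ∨ (∃ k, k ≤ r ∧ i = ℓ₀ + k) ∨
      (∃ j, j < ℓ₁ ∧ i = ℓ₀ + r + 1 + j) := by
    intro i hi
    rcases Nat.lt_or_ge i ℓ₀ with h | h
    · exact Or.inl h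
    · rcases Nat.lt_or_ge i (ℓ₀ + r + 1) with h' | h'
      · exact Or.inr (Or.inl ⟨i - ℓ₀, by omega, by omega⟩)
      · exact Or.inr (Or.inr ⟨i - ℓ₀ - r - 1, by omega, by omega⟩)
  have pair : ∀ i j, i < j → j < ℓ₀ + r + 1 + ℓ₁ → f i ≠ f j ∧ T.a (f i) (f j) =
        (if j < ℓ₀ then 0 else if i < ℓ₀ then (if j = ℓ₀ then α₀ else 0)
        else if j ≤ ℓ₀ + r then (if j = i + 1 then T.w (x 0) else 0)
        else if i = ℓ₀ + r then α₁ else 0) := by
    intro i j hij hj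
    rcases zones i (by omega) with hi | ⟨k, hk, rfl⟩ | ⟨i', hi', rfl⟩ <;>
      rcases zones j hj with hj' | ⟨k', hk', rfl⟩ | ⟨j', hj'', rfl⟩
    · -- (0,0)
      rw [fz0 i hi, fz0 j hj']
      refine ⟨t0inj i j hij hj', ?_⟩
      rw [if_pos hj']
      exact t0leaf i hi (lf₀ j) (t0inj i j hij hj').symm (l0x j hj' 0 (by omega))
    · -- (0,1)
      rw [fz0 i hi, fz1 k' hk']
      refine ⟨l0x i hi k' hk', ?_⟩
      rw [if_neg (by omega), if_pos hi]
      rcases Nat.eq_zero_or_pos k' with h0 | hpos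
      · subst h0
        rw [if_pos (by omega), a_symm T (lf₀ i) (x 0)]
        exact t0a i hi
      · rw [if_neg (by omega)]
        exact t0leaf i hi (x k') (l0x i hi k' hk').symm (hC.inj 0 k' hpos hk').symm
    · -- (0,2)
      rw [fz0 i hi, fz2 j']
      refine ⟨l01 i hi j' hj'', ?_⟩
      rw [if_neg (by omega), if_pos hi, if_neg (by omega)]
      exact t0leaf i hi (lf₁ j') (l01 i hi j' hj'').symm (l1x j' hj'' 0 (by omega))
    · exfalso; omega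
    · -- (1,1)
      have hkk : k < k' := by omega
      rw [fz1 k hk, fz1 k' hk']
      refine ⟨hC.inj k k' hkk hk', ?_⟩
      rw [if_neg (by omega), if_neg (by omega), if_pos (by omega)]
      by_cases h1 : k' = k + 1
      · subst h1
        rw [if_pos (by omega), (hC.step k (by omega)).2.1]
        exact spine_w k hk
      · rw [if_neg (by omega)]
        apply nbr k hk (x k') (hC.inj k k' hkk hk').symm
        · intro _ i' hi'; exact (l0x i' hi' k' hk').symm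
        · intro hkr; omega
        · intro k'' hk''; exact (hC.inj k'' k' (by omega) hk').symm
        · intro _; exact (hC.inj (k+1) k' (by omega) hk').symm
    · -- (1,2)
      rw [fz1 k hk, fz2 j']
      refine ⟨(l1x j' hj'' k hk).symm, ?_⟩
      rw [if_neg (by omega), if_neg (by omega), if_neg (by omega)]
      by_cases h1 : k = r
      · subst h1
        rw [if_pos rfl]
        exact t1a j' hj''
      · rw [if_neg (by omega), a_symm T (x k) (lf₁ j')]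
        exact t1leaf j' hj'' (x k) (l1x j' hj'' k hk).symm (hC.inj k r (by omega) le_rfl)
    · exfalso; omega
    · exfalso; omega
    · -- (2,2)
      rw [fz2 i', fz2 j']
      refine ⟨t1inj i' j' (by omega) hj'', ?_⟩
      rw [if_neg (by omega), if_neg (by omega), if_neg (by omega), if_neg (by omega)]
      exact t1leaf i' hi' (lf₁ j') (t1inj i' j' (by omega) hj'').symm (l1x j' hj'' r le_rfl)
  have hmv : ∀ i, i < ℓ₀ + r + 1 + ℓ₁ → T.m (f i) =
      if i < ℓ₀ then μ₀ else if i ≤ ℓ₀ + r then T.m (x 0) else μ₁ := by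
    intro i hi
    rcases zones i hi with h | ⟨k, hk, rfl⟩ | ⟨j, hj, rfl⟩
    · rw [fz0 i h, if_pos h]; exact t0m i h
    · rw [fz1 k hk, if_neg (by omega), if_pos (by omega)]; exact spine_m k hk
    · rw [fz2 j, if_neg (by omega), if_neg (by omega)]; exact t1m j hj
  have hwv : ∀ i, i < ℓ₀ + r + 1 + ℓ₁ → T.w (f i) =
      if i < ℓ₀ then ω₀ else if i ≤ ℓ₀ + r then T.w (x 0) else ω₁ := by
    intro i hi
    rcases zones i hi with h | ⟨k, hk, rfl⟩ | ⟨j, hj, rfl⟩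
    · rw [fz0 i h, if_pos h]; exact t0w i h
    · rw [fz1 k hk, if_neg (by omega), if_pos (by omega)]; exact spine_w k hk
    · rw [fz2 j, if_neg (by omega), if_neg (by omega)]; exact t1w j hj
  -- closure
  let S : Finset (Fin n) := (Finset.range (ℓ₀ + r + 1 + ℓ₁)).image f
  have hmem : ∀ k, k < ℓ₀ + r + 1 + ℓ₁ → f k ∈ S :=
    fun k hk => Finset.mem_image.2 ⟨k, Finset.mem_range.2 hk, rfl⟩
  have hx_mem : ∀ k, k ≤ r → x k ∈ S := by
    intro k hk
    rw [← fz1 k hk]; exact hmem _ (by omega)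
  have hl0_mem : ∀ i, i < ℓ₀ → lf₀ i ∈ S := by
    intro i hi
    rw [← fz0 i hi]; exact hmem _ (by omega)
  have hl1_mem : ∀ j, j < ℓ₁ → lf₁ j ∈ S := by
    intro j hj
    rw [← fz2 j]; exact hmem _ (by omega)
  have hclosed : ∀ i ∈ S, ∀ y, y ≠ i → T.a i y ≠ 0 → y ∈ S := by
    intro i hi y hyi hay
    obtain ⟨p, hp, rfl⟩ := Finset.mem_image.1 hi
    have hp' := Finset.mem_range.1 hp
    rcases zones p hp' with h | ⟨k, hk, rfl⟩ | ⟨j, hj, rfl⟩
    · rw [fz0 p h] at hyi hay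
      have : y = x 0 := by
        by_contra hcon
        exact hay (t0leaf p h y hyi hcon)
      rw [this]; exact hx_mem 0 (by omega)
    · rw [fz1 k hk] at hyi hay
      by_contra hyS
      apply hay
      apply nbr k hk y hyi
      · intro _ i' hi' he; exact hyS (he ▸ hl0_mem i' hi')
      · intro _ j' hj' he; exact hyS (he ▸ hl1_mem j' hj')
      · intro k' hk' he; exact hyS (he ▸ hx_mem k' (by omega))
      · intro hkr he; exact hyS (he ▸ hx_mem (k+1) (by omega))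
    · rw [fz2 j] at hyi hay
      have : y = x r := by
        by_contra hcon
        exact hay (t1leaf j hj y hyi hcon)
      rw [this]; exact hx_mem r le_rfl
  have hSu : S = univ := eq_univ_of_closed T S ⟨x 0, hx_mem 0 (by omega)⟩ hclosed
  have hcard : S.card = ℓ₀ + r + 1 + ℓ₁ := by
    rw [Finset.card_image_of_injOn, Finset.card_range]
    intro a ha b hb hab
    have ha' : a < ℓ₀ + r + 1 + ℓ₁ := by simpa using ha
    have hb' : b < ℓ₀ + r + 1 + ℓ₁ := by simpa using hb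
    rcases Nat.lt_trichotomy a b with h | h | h
    · exact absurd hab (pair a b h hb').1
    · exact h
    · exact absurd hab.symm (pair b a h ha').1
  have hn : n = ℓ₀ + r + 1 + ℓ₁ := by
    have h3 := congrArg Finset.card hSu
    rw [hcard, Finset.card_univ, Fintype.card_fin] at h3
    omega
  exact ⟨hn, fun i j hij hj => (pair i j hij (by omega)).1, fun i hi => hmv i (by omega),
    fun i hi => hwv i (by omega), fun i j hij hj => (pair i j hij (by omega)).2⟩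

end Groth.Agent.Lib.Helper6.Aff
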