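import Groth.Agent.Lib.Helper6.AffCat

/-!
# Genus-one numerical types: a half-supplied vertex gives a cycle or a terminal
-/

set_option autoImplicit false

namespace Groth.Agent.Lib.Helper6.Aff

open Finset Models

variable {n : ℕ} (T : Models.NumericalType n)

/-- cycle data -/
structure Cyc (x : ℕ → Fin n) : Prop where
  inj : ∀ i j, i < j → j < n → x i ≠ x j
  m_eq : ∀ i, i < n → T.m (x i) = T.m (x 0)
  w_eq : ∀ i, i < n → T.w (x i) = T.w (x 0)
  adj : ∀ i, i + 1 < n → T.a (x i) (x (i+1)) = T.w (x 0)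
  close : ∀ l, l + 1 = n → T.a (x 0) (x l) = T.w (x 0)
  zero : ∀ i j, i < j → j < n → j ≠ i + 1 → ¬ (i = 0 ∧ j + 1 = n) → T.a (x i) (x j) = 0

theorem cyc_or_term (hd : ∀ i, T.a i i = -2 * T.w i) (z : Fin n) (K : Finset (Fin n))
    (hz : z ∉ K) (hK : ∑ j ∈ K, T.a z j * T.m j = T.w z * T.m z) :
    (∃ x, Cyc T x) ∨ (∃ z' κ lf μ ω α, Term T z' κ lf μ ω α) := by
  classical
  rcases half_lemma' T hd z K hz hK with ⟨u, huK, huz, hstep0, hcl0⟩ |
    ⟨κ₁, lf₁, μ₁, ω₁, α₁, ht₁, -, -⟩
  swap
  · exact Or.inr ⟨z, κ₁, lf₁, μ₁, ω₁, α₁, ht₁⟩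
  obtain ⟨x, hxdef⟩ : ∃ x : ℕ → Fin n, x = xs T z u := ⟨_, rfl⟩
  have hchain : ∀ k, (∀ j, j < k → ∃ v, Cont T (x j) (x (j+1)) v) → Chain T x (k+1) := by
    rw [hxdef]; exact fun k hc => chain_of_cont T z u hstep0 k hc
  by_cases hall : ∀ k, ∃ v, Cont T (x k) (x (k+1)) v
  · left
    have hCR : ∀ R, Chain T x (R+1) := fun R => hchain R (fun j _ => hall j)
    have hS : ∀ k, Step T (x k) (x (k+1)) := fun k => (hCR k).step k (by omega)
    have hI : ∀ k, x (k+2) ≠ x k ∧
        ∀ y, y ≠ x (k+1) → y ≠ x k → y ≠ x (k+2) → T.a (x (k+1)) y = 0 :=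
      fun k => (hCR (k+1)).inner k (by omega)
    obtain ⟨j₀, hj₀n, hrep⟩ := pigeon x
    obtain ⟨j, hj1, -, hxj, hinj⟩ := first_repeat T (hCR n) ⟨j₀, by omega, hrep⟩
    obtain ⟨l, rfl⟩ : ∃ l, j = l + 1 := ⟨j - 1, by omega⟩
    have hl1 : 1 ≤ l := by
      rcases Nat.eq_zero_or_pos l with h | h
      · subst h; exact absurd hxj (hS 0).1.symm
      · exact h
    have hl2 : 2 ≤ l := by
      rcases Nat.lt_or_ge l 2 with h | h
      · have : l = 1 := by omega
        subst this
        exact absurd hxj (hI 0).1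
      · exact h
    have hx1 : x (l+2) = x 1 := by
      by_contra hcon
      have h1 : x 1 ≠ x (l+1) := by rw [hxj]; exact (hS 0).1.symm
      have h2 : x 1 ≠ x l := hinj 1 l (by omega) (by omega)
      have h3 := (hI l).2 (x 1) h1 h2 (fun h => hcon h.symm)
      rw [hxj] at h3
      exact Step.a_ne T (hS 0) h3
    have hnb0 : ∀ y, y ≠ x 0 → y ≠ x l → y ≠ x 1 → T.a (x 0) y = 0 := by
      intro y h0 hl h1
      have h3 := (hI l).2 y (by rw [hxj]; exact h0) hl (by rw [hx1]; exact h1)
      rwa [hxj] at h3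
    let S : Finset (Fin n) := (Finset.range (l+1)).image x
    have hmem : ∀ k, k < l + 1 → x k ∈ S :=
      fun k hk => Finset.mem_image.2 ⟨k, Finset.mem_range.2 hk, rfl⟩
    have hclosed : ∀ i ∈ S, ∀ y, y ≠ i → T.a i y ≠ 0 → y ∈ S := by
      intro i hi y hyi hay
      obtain ⟨k, hk, rfl⟩ := Finset.mem_image.1 hi
      have hk' := Finset.mem_range.1 hk
      rcases Nat.eq_zero_or_pos k with h0 | hpos
      · subst h0
        by_cases h1 : y = x l
        · rw [h1]; exact hmem l (by omega)
        · by_cases h2 : y = x 1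
          · rw [h2]; exact hmem 1 (by omega)
          · exact absurd (hnb0 y hyi h1 h2) hay
      · obtain ⟨k', rfl⟩ : ∃ k', k = k' + 1 := ⟨k - 1, by omega⟩
        by_cases h1 : y = x k'
        · rw [h1]; exact hmem k' (by omega)
        · by_cases h2 : y = x (k'+2)
          · rw [h2]
            rcases Nat.lt_or_ge (k'+2) (l+1) with h | h
            · exact hmem _ h
            · have : k' + 2 = l + 1 := by omega
              rw [this, hxj]; exact hmem 0 (by omega)
          · exact absurd ((hI k').2 y hyi h1 h2) hay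
    have hSu : S = univ := eq_univ_of_closed T S ⟨x 0, hmem 0 (by omega)⟩ hclosed
    have hcard : S.card = l + 1 := by
      rw [Finset.card_image_of_injOn, Finset.card_range]
      intro a ha b hb hab
      have ha' : a < l + 1 := by simpa using ha
      have hb' : b < l + 1 := by simpa using hb
      rcases Nat.lt_trichotomy a b with h | h | h
      · exact absurd hab (hinj a b h hb')
      · exact h
      · exact absurd hab.symm (hinj b a h ha')
    have hn : n = l + 1 := by
      have h3 := congrArg Finset.card hSu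
      rw [hcard, Finset.card_univ, Fintype.card_fin] at h3
      omega
    have hm : ∀ k, T.m (x k) = T.m (x 0) := by
      intro k
      induction k with
      | zero => rfl
      | succ k ih => rw [(hS k).2.2.2, ih]
    have hw : ∀ k, T.w (x k) = T.w (x 0) := by
      intro k
      induction k with
      | zero => rfl
      | succ k ih => rw [(hS k).2.2.1, ih]
    refine ⟨x, ⟨?_, fun i _ => hm i, fun i _ => hw i, ?_, ?_, ?_⟩⟩
    · intro i j hij hj
      rw [hn] at hj
      exact hinj i j hij hj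
    · intro i _
      rw [(hS i).2.1, hw i]
    · intro l' hl'
      have : l' = l := by omega
      subst this
      have h3 : T.a (x 0) (x l') = T.a (x (l'+1)) (x l') := by rw [hxj]
      rw [h3, a_symm T (x (l'+1)) (x l'), (hS l').2.1, hw l']
    · intro i j' hij hj hne1 hne2
      rw [hn] at hj hne2
      rcases Nat.eq_zero_or_pos i with h0 | hpos
      · subst h0
        have hjl : j' < l := by
          rcases Nat.lt_or_ge j' l with h | h
          · exact h
          · exfalso; exact hne2 ⟨rfl, by omega⟩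
        exact hnb0 (x j') (hinj 0 j' hij hj).symm (hinj j' l hjl (by omega))
          (hinj 1 j' (by omega) hj).symm
      · obtain ⟨k, rfl⟩ : ∃ k, i = k + 1 := ⟨i - 1, by omega⟩
        exact (hI k).2 (x j') (hinj (k+1) j' hij hj).symm (hinj k j' (by omega) hj).symm
          (hinj (k+2) j' (by omega) hj).symm
  · right
    have hstop : ∃ k, ¬ ∃ v, Cont T (x k) (x (k+1)) v := by
      by_contra h
      push Not at h
      exact hall h
    obtain ⟨k₀, hk₀, hk₀min⟩ : ∃ k, (¬ ∃ v, Cont T (x k) (x (k+1)) v) ∧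
        ∀ j, j < k → ∃ v, Cont T (x j) (x (j+1)) v := by
      refine ⟨Nat.find hstop, Nat.find_spec hstop, fun j hj => ?_⟩
      have := Nat.find_min hstop hj
      push Not at this
      exact this
    have hC := hchain k₀ hk₀min
    have hstepr := hC.step k₀ (by omega)
    obtain ⟨hnotin, hsum⟩ := step_half T hstepr
    rcases half_lemma' T hd (x (k₀+1)) {x k₀} hnotin hsum with ⟨v, hvK, hvz, hstepv, hclv⟩ |
      ⟨κ₁, lf₁, μ₁, ω₁, α₁, ht₁, -, -⟩
    · exfalso
      apply hk₀
      refine ⟨v, by simpa using hvK, hvz, hstepv, ?_⟩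
      intro y hyz hyp hyv
      exact hclv y (by simpa using hyp) hyz hyv
    · exact ⟨x (k₀+1), κ₁, lf₁, μ₁, ω₁, α₁, ht₁⟩

end Groth.Agent.Lib.Helper6.Aff
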