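import Groth.Agent.Lib.Helper6.AffCatPos

/-!
# Genus-one numerical types: the seven infinite families
-/

set_option autoImplicit false

namespace Groth.Agent.Lib.Helper6.Aff

open Finset Models

variable {n : ℕ} (T : Models.NumericalType n)

/-- family 1: cycle -/
def Fam1 (σ : Equiv.Perm (Fin n)) (m w : ℤ) : Prop :=
  (∀ i : Fin n, T.m (σ i) = m) ∧
        (∀ i : Fin n, T.w (σ i) = w) ∧
        (∀ i j : Fin n, i.val < j.val → j.val = i.val + 1 → T.a (σ i) (σ j) = w) ∧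
        (∀ i j : Fin n, i.val < j.val → i.val = 0 ∧ j.val + 1 = n → T.a (σ i) (σ j) = w) ∧
        (∀ i j : Fin n, i.val < j.val → ¬ (j.val = i.val + 1) → ¬ (i.val = 0 ∧ j.val + 1 = n) → T.a (σ i) (σ j) = 0)

/-- family 2: chain E1-E2 -/
def Fam2 (σ : Equiv.Perm (Fin n)) (m w : ℤ) : Prop :=
  (∀ i : Fin n, i.val + 1 < n → T.m (σ i) = 2 * m) ∧
        (∀ i : Fin n, i.val + 1 = n → T.m (σ i) = m) ∧
        (∀ i : Fin n, i.val = 0 → T.w (σ i) = w) ∧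
        (∀ i : Fin n, 0 < i.val ∧ i.val + 1 < n → T.w (σ i) = 2 * w) ∧
        (∀ i : Fin n, i.val + 1 = n → T.w (σ i) = 4 * w) ∧
        (∀ i j : Fin n, i.val < j.val → j.val = i.val + 1 ∧ j.val + 1 < n → T.a (σ i) (σ j) = 2 * w) ∧
        (∀ i j : Fin n, i.val < j.val → j.val = i.val + 1 ∧ j.val + 1 = n → T.a (σ i) (σ j) = 4 * w) ∧
        (∀ i j : Fin n, i.val < j.val → ¬ (j.val = i.val + 1 ∧ j.val + 1 < n) → ¬ (j.val = i.val + 1 ∧ j.val + 1 = n) → T.a (σ i) (σ j) = 0)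

/-- family 3: chain E1-E1 -/
def Fam3 (σ : Equiv.Perm (Fin n)) (m w : ℤ) : Prop :=
  (∀ i : Fin n, T.m (σ i) = m) ∧
        (∀ i : Fin n, i.val = 0 → T.w (σ i) = w) ∧
        (∀ i : Fin n, 0 < i.val ∧ i.val + 1 < n → T.w (σ i) = 2 * w) ∧
        (∀ i : Fin n, i.val + 1 = n → T.w (σ i) = w) ∧
        (∀ i j : Fin n, i.val < j.val → j.val = i.val + 1 → T.a (σ i) (σ j) = 2 * w) ∧
        (∀ i j : Fin n, i.val < j.val → ¬ (j.val = i.val + 1) → T.a (σ i) (σ j) = 0)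

/-- family 4: chain E2-E2 -/
def Fam4 (σ : Equiv.Perm (Fin n)) (m w : ℤ) : Prop :=
  (∀ i : Fin n, i.val = 0 → T.m (σ i) = m) ∧
        (∀ i : Fin n, 0 < i.val ∧ i.val + 1 < n → T.m (σ i) = 2 * m) ∧
        (∀ i : Fin n, i.val + 1 = n → T.m (σ i) = m) ∧
        (∀ i : Fin n, i.val = 0 → T.w (σ i) = 2 * w) ∧
        (∀ i : Fin n, 0 < i.val ∧ i.val + 1 < n → T.w (σ i) = w) ∧
        (∀ i : Fin n, i.val + 1 = n → T.w (σ i) = 2 * w) ∧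
        (∀ i j : Fin n, i.val < j.val → i.val = 0 ∧ j.val = 1 → T.a (σ i) (σ j) = 2 * w) ∧
        (∀ i j : Fin n, i.val < j.val → j.val = i.val + 1 ∧ 1 ≤ i.val ∧ j.val + 2 ≤ n → T.a (σ i) (σ j) = w) ∧
        (∀ i j : Fin n, i.val < j.val → j.val = i.val + 1 ∧ j.val + 1 = n → T.a (σ i) (σ j) = 2 * w) ∧
        (∀ i j : Fin n, i.val < j.val → ¬ (i.val = 0 ∧ j.val = 1) → ¬ (j.val = i.val + 1 ∧ 1 ≤ i.val ∧ j.val + 2 ≤ n) → ¬ (j.val = i.val + 1 ∧ j.val + 1 = n) → T.a (σ i) (σ j) = 0)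

/-- family 5: fork E2-E3 -/
def Fam5 (σ : Equiv.Perm (Fin n)) (m w : ℤ) : Prop :=
  (∀ i : Fin n, i.val = 0 → T.m (σ i) = m) ∧
        (∀ i : Fin n, 1 ≤ i.val ∧ i.val + 2 < n → T.m (σ i) = 2 * m) ∧
        (∀ i : Fin n, n ≤ i.val + 2 → T.m (σ i) = m) ∧
        (∀ i : Fin n, i.val = 0 → T.w (σ i) = 2 * w) ∧
        (∀ i : Fin n, 0 < i.val → T.w (σ i) = w) ∧
        (∀ i j : Fin n, i.val < j.val → i.val = 0 ∧ j.val = 1 → T.a (σ i) (σ j) = 2 * w) ∧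
        (∀ i j : Fin n, i.val < j.val → j.val = i.val + 1 ∧ 1 ≤ i.val ∧ j.val + 2 ≤ n → T.a (σ i) (σ j) = w) ∧
        (∀ i j : Fin n, i.val < j.val → i.val + 3 = n ∧ j.val + 1 = n → T.a (σ i) (σ j) = w) ∧
        (∀ i j : Fin n, i.val < j.val → ¬ (i.val = 0 ∧ j.val = 1) → ¬ (j.val = i.val + 1 ∧ 1 ≤ i.val ∧ j.val + 2 ≤ n) → ¬ (i.val + 3 = n ∧ j.val + 1 = n) → T.a (σ i) (σ j) = 0)

/-- family 6: fork E1-E3 -/
def Fam6 (σ : Equiv.Perm (Fin n)) (m w : ℤ) : Prop :=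
  (∀ i : Fin n, i.val + 2 < n → T.m (σ i) = 2 * m) ∧
        (∀ i : Fin n, n ≤ i.val + 2 → T.m (σ i) = m) ∧
        (∀ i : Fin n, i.val = 0 → T.w (σ i) = w) ∧
        (∀ i : Fin n, 0 < i.val → T.w (σ i) = 2 * w) ∧
        (∀ i j : Fin n, i.val < j.val → j.val = i.val + 1 ∧ j.val + 2 ≤ n → T.a (σ i) (σ j) = 2 * w) ∧
        (∀ i j : Fin n, i.val < j.val → i.val + 3 = n ∧ j.val + 1 = n → T.a (σ i) (σ j) = 2 * w) ∧
        (∀ i j : Fin n, i.val < j.val → ¬ (j.val = i.val + 1 ∧ j.val + 2 ≤ n) → ¬ (i.val + 3 = n ∧ j.val + 1 = n) → T.a (σ i) (σ j) = 0)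

/-- family 7: double fork E3-E3 -/
def Fam7 (σ : Equiv.Perm (Fin n)) (m w : ℤ) : Prop :=
  (∀ i : Fin n, i.val ≤ 1 → T.m (σ i) = m) ∧
        (∀ i : Fin n, 2 ≤ i.val ∧ i.val + 2 < n → T.m (σ i) = 2 * m) ∧
        (∀ i : Fin n, n ≤ i.val + 2 → T.m (σ i) = m) ∧
        (∀ i : Fin n, T.w (σ i) = w) ∧
        (∀ i j : Fin n, i.val < j.val → i.val = 0 ∧ j.val = 2 → T.a (σ i) (σ j) = w) ∧
        (∀ i j : Fin n, i.val < j.val → i.val = 1 ∧ j.val = 2 → T.a (σ i) (σ j) = w) ∧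
        (∀ i j : Fin n, i.val < j.val → j.val = i.val + 1 ∧ 2 ≤ i.val ∧ j.val + 2 ≤ n → T.a (σ i) (σ j) = w) ∧
        (∀ i j : Fin n, i.val < j.val → i.val + 3 = n ∧ j.val + 1 = n → T.a (σ i) (σ j) = w) ∧
        (∀ i j : Fin n, i.val < j.val → ¬ (i.val = 0 ∧ j.val = 2) → ¬ (i.val = 1 ∧ j.val = 2) → ¬ (j.val = i.val + 1 ∧ 2 ≤ i.val ∧ j.val + 2 ≤ n) → ¬ (i.val + 3 = n ∧ j.val + 1 = n) → T.a (σ i) (σ j) = 0)

theorem perm_of_inj (f : ℕ → Fin n) (hinj : ∀ i j, i < j → j < n → f i ≠ f j) :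
    ∃ σ : Equiv.Perm (Fin n), ∀ i : Fin n, σ i = f i.val := by
  have hi : Function.Injective (fun i : Fin n => f i.val) := by
    intro a b hab
    by_contra hne
    have hne' : a.val ≠ b.val := fun h => hne (Fin.ext h)
    rcases lt_or_gt_of_ne hne' with h | h
    · exact hinj a.val b.val h b.isLt hab
    · exact hinj b.val a.val h a.isLt hab.symm
  exact ⟨Equiv.ofBijective _ (Finite.injective_iff_bijective.mp hi), fun i => rfl⟩

theorem Cat.spine_m {κ₀ κ₁ : Kind} {x : ℕ → Fin n} {r : ℕ} {lf₀ lf₁ : ℕ → Fin n}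
    {μ₀ ω₀ α₀ μ₁ ω₁ α₁ : ℤ} (hC : Cat T κ₀ κ₁ x r lf₀ lf₁ μ₀ ω₀ α₀ μ₁ ω₁ α₁) :
    ∀ k, k ≤ r → T.m (x k) = T.m (x 0) := by
  intro k
  induction k with
  | zero => intro _; rfl
  | succ k ih => intro hk; rw [(hC.step k (by omega)).2.2.2, ih (by omega)]

theorem Cat.spine_w {κ₀ κ₁ : Kind} {x : ℕ → Fin n} {r : ℕ} {lf₀ lf₁ : ℕ → Fin n}
    {μ₀ ω₀ α₀ μ₁ ω₁ α₁ : ℤ} (hC : Cat T κ₀ κ₁ x r lf₀ lf₁ μ₀ ω₀ α₀ μ₁ ω₁ α₁) :
    ∀ k, k ≤ r → T.w (x k) = T.w (x 0) := by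
  intro k
  induction k with
  | zero => intro _; rfl
  | succ k ih => intro hk; rw [(hC.step k (by omega)).2.2.1, ih (by omega)]

theorem fam1_of_cyc {x : ℕ → Fin n} (hC : Cyc T x) : ∃ σ m w, Fam1 T σ m w := by
  obtain ⟨σ, hσ⟩ := perm_of_inj x hC.inj
  refine ⟨σ, T.m (x 0), T.w (x 0), ?_, ?_, ?_, ?_, ?_⟩
  · intro i; rw [hσ i]; exact hC.m_eq i.val i.isLt
  · intro i; rw [hσ i]; exact hC.w_eq i.val i.isLt
  · intro i j hij h
    rw [hσ i, hσ j, h]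
    exact hC.adj i.val (by omega)
  · intro i j hij h
    rw [hσ i, hσ j, h.1]
    exact hC.close j.val h.2
  · intro i j hij h1 h2
    rw [hσ i, hσ j]
    exact hC.zero i.val j.val hij j.isLt h1 h2

theorem fam2_of_cat {x : ℕ → Fin n} {r : ℕ} {lf₀ lf₁ : ℕ → Fin n}
    {μ₀ ω₀ α₀ μ₁ ω₁ α₁ : ℤ} (hC : Cat T .e1 .e2 x r lf₀ lf₁ μ₀ ω₀ α₀ μ₁ ω₁ α₁) :
    ∃ σ m w, Fam2 T σ m w := by
  obtain ⟨hn, hinj, hm, hw, ha⟩ := cat_pos T hC
  obtain ⟨r1, r2, r3⟩ := hC.t0.rel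
  obtain ⟨s1, s2, s3⟩ := hC.t1.rel
  have e1 := hC.spine_m T r le_rfl
  have e2 := hC.spine_w T r le_rfl
  simp only [Kind.ell_e1, Kind.ell_e2, Kind.ell_e3] at hn hinj hm hw ha
  obtain ⟨σ, hσ⟩ := perm_of_inj _ hinj
  refine ⟨σ, μ₁, ω₀, ?_, ?_, ?_, ?_, ?_, ?_, ?_, ?_⟩
  · intro i; intros; rw [hσ i]; first | rw [hm i.val i.isLt] | rw [hw i.val i.isLt]
    split_ifs <;> omega
  · intro i; intros; rw [hσ i]; first | rw [hm i.val i.isLt] | rw [hw i.val i.isLt]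
    split_ifs <;> omega
  · intro i; intros; rw [hσ i]; first | rw [hm i.val i.isLt] | rw [hw i.val i.isLt]
    split_ifs <;> omega
  · intro i; intros; rw [hσ i]; first | rw [hm i.val i.isLt] | rw [hw i.val i.isLt]
    split_ifs <;> omega
  · intro i; intros; rw [hσ i]; first | rw [hm i.val i.isLt] | rw [hw i.val i.isLt]
    split_ifs <;> omega
  · intro i j hij; rw [hσ i, hσ j, ha i.val j.val hij j.isLt]; intros
    split_ifs <;> omega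
  · intro i j hij; rw [hσ i, hσ j, ha i.val j.val hij j.isLt]; intros
    split_ifs <;> omega
  · intro i j hij; rw [hσ i, hσ j, ha i.val j.val hij j.isLt]; intros
    split_ifs <;> omega

theorem fam3_of_cat {x : ℕ → Fin n} {r : ℕ} {lf₀ lf₁ : ℕ → Fin n}
    {μ₀ ω₀ α₀ μ₁ ω₁ α₁ : ℤ} (hC : Cat T .e1 .e1 x r lf₀ lf₁ μ₀ ω₀ α₀ μ₁ ω₁ α₁) :
    ∃ σ m w, Fam3 T σ m w := by
  obtain ⟨hn, hinj, hm, hw, ha⟩ := cat_pos T hC
  obtain ⟨r1, r2, r3⟩ := hC.t0.rel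
  obtain ⟨s1, s2, s3⟩ := hC.t1.rel
  have e1 := hC.spine_m T r le_rfl
  have e2 := hC.spine_w T r le_rfl
  simp only [Kind.ell_e1, Kind.ell_e2, Kind.ell_e3] at hn hinj hm hw ha
  obtain ⟨σ, hσ⟩ := perm_of_inj _ hinj
  refine ⟨σ, T.m (x 0), ω₀, ?_, ?_, ?_, ?_, ?_, ?_⟩
  · intro i; intros; rw [hσ i]; first | rw [hm i.val i.isLt] | rw [hw i.val i.isLt]
    split_ifs <;> omega
  · intro i; intros; rw [hσ i]; first | rw [hm i.val i.isLt] | rw [hw i.val i.isLt]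
    split_ifs <;> omega
  · intro i; intros; rw [hσ i]; first | rw [hm i.val i.isLt] | rw [hw i.val i.isLt]
    split_ifs <;> omega
  · intro i; intros; rw [hσ i]; first | rw [hm i.val i.isLt] | rw [hw i.val i.isLt]
    split_ifs <;> omega
  · intro i j hij; rw [hσ i, hσ j, ha i.val j.val hij j.isLt]; intros
    split_ifs <;> omega
  · intro i j hij; rw [hσ i, hσ j, ha i.val j.val hij j.isLt]; intros
    split_ifs <;> omega

theorem fam4_of_cat {x : ℕ → Fin n} {r : ℕ} {lf₀ lf₁ : ℕ → Fin n}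
    {μ₀ ω₀ α₀ μ₁ ω₁ α₁ : ℤ} (hC : Cat T .e2 .e2 x r lf₀ lf₁ μ₀ ω₀ α₀ μ₁ ω₁ α₁) :
    ∃ σ m w, Fam4 T σ m w := by
  obtain ⟨hn, hinj, hm, hw, ha⟩ := cat_pos T hC
  obtain ⟨r1, r2, r3⟩ := hC.t0.rel
  obtain ⟨s1, s2, s3⟩ := hC.t1.rel
  have e1 := hC.spine_m T r le_rfl
  have e2 := hC.spine_w T r le_rfl
  simp only [Kind.ell_e1, Kind.ell_e2, Kind.ell_e3] at hn hinj hm hw ha
  obtain ⟨σ, hσ⟩ := perm_of_inj _ hinj
  refine ⟨σ, μ₀, T.w (x 0), ?_, ?_, ?_, ?_, ?_, ?_, ?_, ?_, ?_, ?_⟩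
  · intro i; intros; rw [hσ i]; first | rw [hm i.val i.isLt] | rw [hw i.val i.isLt]
    split_ifs <;> omega
  · intro i; intros; rw [hσ i]; first | rw [hm i.val i.isLt] | rw [hw i.val i.isLt]
    split_ifs <;> omega
  · intro i; intros; rw [hσ i]; first | rw [hm i.val i.isLt] | rw [hw i.val i.isLt]
    split_ifs <;> omega
  · intro i; intros; rw [hσ i]; first | rw [hm i.val i.isLt] | rw [hw i.val i.isLt]
    split_ifs <;> omega
  · intro i; intros; rw [hσ i]; first | rw [hm i.val i.isLt] | rw [hw i.val i.isLt]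
    split_ifs <;> omega
  · intro i; intros; rw [hσ i]; first | rw [hm i.val i.isLt] | rw [hw i.val i.isLt]
    split_ifs <;> omega
  · intro i j hij; rw [hσ i, hσ j, ha i.val j.val hij j.isLt]; intros
    split_ifs <;> omega
  · intro i j hij; rw [hσ i, hσ j, ha i.val j.val hij j.isLt]; intros
    split_ifs <;> omega
  · intro i j hij; rw [hσ i, hσ j, ha i.val j.val hij j.isLt]; intros
    split_ifs <;> omega
  · intro i j hij; rw [hσ i, hσ j, ha i.val j.val hij j.isLt]; intros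
    split_ifs <;> omega

theorem fam5_of_cat {x : ℕ → Fin n} {r : ℕ} {lf₀ lf₁ : ℕ → Fin n}
    {μ₀ ω₀ α₀ μ₁ ω₁ α₁ : ℤ} (hC : Cat T .e2 .e3 x r lf₀ lf₁ μ₀ ω₀ α₀ μ₁ ω₁ α₁) :
    ∃ σ m w, Fam5 T σ m w := by
  obtain ⟨hn, hinj, hm, hw, ha⟩ := cat_pos T hC
  obtain ⟨r1, r2, r3⟩ := hC.t0.rel
  obtain ⟨s1, s2, s3⟩ := hC.t1.rel
  have e1 := hC.spine_m T r le_rfl
  have e2 := hC.spine_w T r le_rfl
  simp only [Kind.ell_e1, Kind.ell_e2, Kind.ell_e3] at hn hinj hm hw ha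
  obtain ⟨σ, hσ⟩ := perm_of_inj _ hinj
  refine ⟨σ, μ₀, T.w (x 0), ?_, ?_, ?_, ?_, ?_, ?_, ?_, ?_, ?_⟩
  · intro i; intros; rw [hσ i]; first | rw [hm i.val i.isLt] | rw [hw i.val i.isLt]
    split_ifs <;> omega
  · intro i; intros; rw [hσ i]; first | rw [hm i.val i.isLt] | rw [hw i.val i.isLt]
    split_ifs <;> omega
  · intro i; intros; rw [hσ i]; first | rw [hm i.val i.isLt] | rw [hw i.val i.isLt]
    split_ifs <;> omega
  · intro i; intros; rw [hσ i]; first | rw [hm i.val i.isLt] | rw [hw i.val i.isLt]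
    split_ifs <;> omega
  · intro i; intros; rw [hσ i]; first | rw [hm i.val i.isLt] | rw [hw i.val i.isLt]
    split_ifs <;> omega
  · intro i j hij; rw [hσ i, hσ j, ha i.val j.val hij j.isLt]; intros
    split_ifs <;> omega
  · intro i j hij; rw [hσ i, hσ j, ha i.val j.val hij j.isLt]; intros
    split_ifs <;> omega
  · intro i j hij; rw [hσ i, hσ j, ha i.val j.val hij j.isLt]; intros
    split_ifs <;> omega
  · intro i j hij; rw [hσ i, hσ j, ha i.val j.val hij j.isLt]; intros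
    split_ifs <;> omega

theorem fam6_of_cat {x : ℕ → Fin n} {r : ℕ} {lf₀ lf₁ : ℕ → Fin n}
    {μ₀ ω₀ α₀ μ₁ ω₁ α₁ : ℤ} (hC : Cat T .e1 .e3 x r lf₀ lf₁ μ₀ ω₀ α₀ μ₁ ω₁ α₁) :
    ∃ σ m w, Fam6 T σ m w := by
  obtain ⟨hn, hinj, hm, hw, ha⟩ := cat_pos T hC
  obtain ⟨r1, r2, r3⟩ := hC.t0.rel
  obtain ⟨s1, s2, s3⟩ := hC.t1.rel
  have e1 := hC.spine_m T r le_rfl
  have e2 := hC.spine_w T r le_rfl
  simp only [Kind.ell_e1, Kind.ell_e2, Kind.ell_e3] at hn hinj hm hw ha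
  obtain ⟨σ, hσ⟩ := perm_of_inj _ hinj
  refine ⟨σ, μ₁, ω₀, ?_, ?_, ?_, ?_, ?_, ?_, ?_⟩
  · intro i; intros; rw [hσ i]; first | rw [hm i.val i.isLt] | rw [hw i.val i.isLt]
    split_ifs <;> omega
  · intro i; intros; rw [hσ i]; first | rw [hm i.val i.isLt] | rw [hw i.val i.isLt]
    split_ifs <;> omega
  · intro i; intros; rw [hσ i]; first | rw [hm i.val i.isLt] | rw [hw i.val i.isLt]
    split_ifs <;> omega
  · intro i; intros; rw [hσ i]; first | rw [hm i.val i.isLt] | rw [hw i.val i.isLt]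
    split_ifs <;> omega
  · intro i j hij; rw [hσ i, hσ j, ha i.val j.val hij j.isLt]; intros
    split_ifs <;> omega
  · intro i j hij; rw [hσ i, hσ j, ha i.val j.val hij j.isLt]; intros
    split_ifs <;> omega
  · intro i j hij; rw [hσ i, hσ j, ha i.val j.val hij j.isLt]; intros
    split_ifs <;> omega

theorem fam7_of_cat {x : ℕ → Fin n} {r : ℕ} {lf₀ lf₁ : ℕ → Fin n}
    {μ₀ ω₀ α₀ μ₁ ω₁ α₁ : ℤ} (hC : Cat T .e3 .e3 x r lf₀ lf₁ μ₀ ω₀ α₀ μ₁ ω₁ α₁) :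
    ∃ σ m w, Fam7 T σ m w := by
  obtain ⟨hn, hinj, hm, hw, ha⟩ := cat_pos T hC
  obtain ⟨r1, r2, r3⟩ := hC.t0.rel
  obtain ⟨s1, s2, s3⟩ := hC.t1.rel
  have e1 := hC.spine_m T r le_rfl
  have e2 := hC.spine_w T r le_rfl
  simp only [Kind.ell_e1, Kind.ell_e2, Kind.ell_e3] at hn hinj hm hw ha
  obtain ⟨σ, hσ⟩ := perm_of_inj _ hinj
  refine ⟨σ, μ₀, T.w (x 0), ?_, ?_, ?_, ?_, ?_, ?_, ?_, ?_, ?_⟩
  · intro i; intros; rw [hσ i]; first | rw [hm i.val i.isLt] | rw [hw i.val i.isLt]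
    split_ifs <;> omega
  · intro i; intros; rw [hσ i]; first | rw [hm i.val i.isLt] | rw [hw i.val i.isLt]
    split_ifs <;> omega
  · intro i; intros; rw [hσ i]; first | rw [hm i.val i.isLt] | rw [hw i.val i.isLt]
    split_ifs <;> omega
  · intro i; intros; rw [hσ i]; first | rw [hm i.val i.isLt] | rw [hw i.val i.isLt]
    split_ifs <;> omega
  · intro i j hij; rw [hσ i, hσ j, ha i.val j.val hij j.isLt]; intros
    split_ifs <;> omega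
  · intro i j hij; rw [hσ i, hσ j, ha i.val j.val hij j.isLt]; intros
    split_ifs <;> omega
  · intro i j hij; rw [hσ i, hσ j, ha i.val j.val hij j.isLt]; intros
    split_ifs <;> omega
  · intro i j hij; rw [hσ i, hσ j, ha i.val j.val hij j.isLt]; intros
    split_ifs <;> omega
  · intro i j hij; rw [hσ i, hσ j, ha i.val j.val hij j.isLt]; intros
    split_ifs <;> omega

end Groth.Agent.Lib.Helper6.Aff
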