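import Groth.Agent.Lib.Helper6.AffMain

/-!
# Genus-one numerical types: helper for the fixed-size statements
-/

set_option autoImplicit false

namespace Groth.Agent.Lib.Helper6.Aff

open Finset Models

variable {n : ℕ}

theorem perm_of_inj_reindex (f : ℕ → Fin n) (hinj : ∀ i j, i < j → j < n → f i ≠ f j)
    (π : ℕ → ℕ) (hπ : ∀ i, i < n → π i < n) (hπinj : ∀ j, j < n → ∀ i, i < j → π i ≠ π j) :
    ∃ σ : Equiv.Perm (Fin n), ∀ i : Fin n, σ i = f (π i.val) := by
  apply perm_of_inj (fun i => f (π i))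
  intro i j hij hj
  have h1 := hπ i (by omega)
  have h2 := hπ j hj
  have h3 := hπinj j hj i hij
  rcases lt_or_gt_of_ne h3 with h | h
  · exact hinj _ _ h h2
  · exact (hinj _ _ h h1).symm

end Groth.Agent.Lib.Helper6.Aff
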