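import Groth.Agent.Lib.Helper6.AffBase

/-!
# Genus-one numerical types: the half lemma
-/

set_option autoImplicit false

namespace Groth.Agent.Lib.Helper6.Aff

open Finset Models

variable {n : ℕ} (T : Models.NumericalType n)

/-- `t` is a leaf attached to `z`. -/
def LeafAt (t z : Fin n) : Prop := ∀ y, y ≠ t → y ≠ z → T.a t y = 0

theorem leaf_of_full (hd : ∀ i, T.a i i = -2 * T.w i) {t z : Fin n} (htz : t ≠ z)
    (h : T.a t z * T.m z = 2 * T.w t * T.m t) : LeafAt T t z := by
  intro y hyt hyz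
  have h1 := zero_of_full T hd t {z} (by simpa using htz) (by simpa using h)
  exact h1 y (by simpa using hyz) hyt

theorem notMem_insert_of {z t : Fin n} {K : Finset (Fin n)} (hzt : z ≠ t) (hz : z ∉ K) :
    z ∉ insert t K := by
  rw [Finset.mem_insert]
  rintro (h | h)
  · exact hzt h
  · exact hz h

theorem half_lemma (hd : ∀ i, T.a i i = -2 * T.w i) (z : Fin n) (K : Finset (Fin n))
    (hz : z ∉ K) (hK : ∑ j ∈ K, T.a z j * T.m j = T.w z * T.m z) :
    (∃ t, t ∉ K ∧ t ≠ z ∧ T.a z t = T.w z ∧ T.w t = T.w z ∧ T.m t = T.m z ∧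
        ∀ y, y ∉ K → y ≠ z → y ≠ t → T.a z y = 0) ∨
    (∃ t, t ∉ K ∧ t ≠ z ∧ T.a z t = T.w z ∧ T.w z = 2 * T.w t ∧ T.m t = T.m z ∧
        (∀ y, y ∉ K → y ≠ z → y ≠ t → T.a z y = 0) ∧ LeafAt T t z) ∨
    (∃ t, t ∉ K ∧ t ≠ z ∧ T.a z t = 2 * T.w z ∧ T.w t = 2 * T.w z ∧ 2 * T.m t = T.m z ∧
        (∀ y, y ∉ K → y ≠ z → y ≠ t → T.a z y = 0) ∧ LeafAt T t z) ∨
    (∃ t t', t ∉ K ∧ t' ∉ K ∧ t ≠ z ∧ t' ≠ z ∧ t ≠ t' ∧ T.a z t = T.w z ∧ T.a z t' = T.w z ∧
        T.w t = T.w z ∧ T.w t' = T.w z ∧ 2 * T.m t = T.m z ∧ 2 * T.m t' = T.m z ∧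
        (∀ y, y ∉ K → y ≠ z → y ≠ t → y ≠ t' → T.a z y = 0) ∧ LeafAt T t z ∧ LeafAt T t' z) := by
  have hwz := T.w_pos z
  have hmz := T.m_pos z
  have hwm : 0 < T.w z * T.m z := mul_pos hwz hmz
  obtain ⟨t, htK, htz, hat⟩ := exists_new T hd z K hz (by linarith)
  obtain ⟨c, c', hc1, hc1', hc, hc', -, hcm'⟩ := edge T hd htz hat.ne'
  have hmt := T.m_pos t
  have hwt := T.w_pos t
  have hnl := new_le T hd z K hz t htK htz
  have hcm : c * T.m t ≤ T.m z := by
    rw [hK, hc] at hnl
    have h' : T.w z * (c * T.m t) ≤ T.w z * T.m z := by linarith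
    exact le_of_mul_le_mul_left h' hwz
  have hcc : c * c' ≤ 2 := by
    have h1 : c * (c' * T.m z) ≤ c * (2 * T.m t) :=
      mul_le_mul_of_nonneg_left hcm' (by linarith)
    have h2 : c * c' * T.m z ≤ 2 * T.m z := by linarith
    exact le_of_mul_le_mul_right h2 hmz
  have hc2 : c ≤ 2 := by nlinarith
  have hc2' : c' ≤ 2 := by nlinarith
  have hz' : z ∉ insert t K := notMem_insert_of (Ne.symm htz) hz
  have hins : ∀ y, y ∉ K → y ≠ t → y ∉ insert t K := by
    intro y hyK hyt
    rw [Finset.mem_insert]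
    rintro (h | h)
    · exact hyt h
    · exact hyK h
  interval_cases c <;> interval_cases c'
  · -- (1,1)
    have hazt : T.a z t = T.w z := by rw [hc, mul_one]
    have hwteq : T.w t = T.w z := by linarith
    by_cases hmeq : T.m t = T.m z
    · refine Or.inl ⟨t, htK, htz, hazt, hwteq, hmeq, ?_⟩
      have hsum : ∑ j ∈ insert t K, T.a z j * T.m j = 2 * T.w z * T.m z := by
        rw [Finset.sum_insert htK, hK, hazt, hmeq]; ring
      intro y hyK hyz hyt
      exact zero_of_full T hd z (insert t K) hz' hsum y (hins y hyK hyt) hyz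
    · have hlt : T.m t < T.m z := lt_of_le_of_ne (by linarith) hmeq
      have hsum : ∑ j ∈ insert t K, T.a z j * T.m j = T.w z * T.m t + T.w z * T.m z := by
        rw [Finset.sum_insert htK, hK, hazt]
      have hlt2 : ∑ j ∈ insert t K, T.a z j * T.m j < 2 * T.w z * T.m z := by
        rw [hsum]; nlinarith
      obtain ⟨t', ht'K, ht'z, hat'⟩ := exists_new T hd z (insert t K) hz' hlt2
      have ht't : t' ≠ t := fun h => ht'K (by rw [h]; exact Finset.mem_insert_self _ _)
      have ht'K' : t' ∉ K := fun h => ht'K (Finset.mem_insert_of_mem h)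
      obtain ⟨e, e', he1, he1', he, he', -, hem'⟩ := edge T hd ht'z hat'.ne'
      have hmt' := T.m_pos t'
      have hnl' := new_le T hd z (insert t K) hz' t' ht'K ht'z
      have hem : e * T.m t' ≤ T.m z - T.m t := by
        rw [hsum, he] at hnl'
        have h' : T.w z * (e * T.m t') ≤ T.w z * (T.m z - T.m t) := by linarith
        exact le_of_mul_le_mul_left h' hwz
      have hmz_le : T.m z ≤ e' * T.m z := le_mul_of_one_le_left hmz.le he1'
      have hmt'_le : T.m t' ≤ e * T.m t' := le_mul_of_one_le_left hmt'.le he1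
      have he_eq : e = 1 := by
        by_contra hne
        have he2 : 2 ≤ e := by omega
        have h3 : 2 * T.m t' ≤ e * T.m t' := mul_le_mul_of_nonneg_right he2 hmt'.le
        linarith
      have he_eq' : e' = 1 := by
        by_contra hne
        have he2 : 2 ≤ e' := by omega
        have h3 : 2 * T.m z ≤ e' * T.m z := mul_le_mul_of_nonneg_right he2 hmz.le
        linarith
      subst he_eq
      subst he_eq'
      have hazt' : T.a z t' = T.w z := by rw [he, mul_one]
      have hwt'eq : T.w t' = T.w z := by linarith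
      have hm1 : 2 * T.m t = T.m z := by linarith
      have hm2 : 2 * T.m t' = T.m z := by linarith
      have hz'' : z ∉ insert t' (insert t K) := notMem_insert_of (Ne.symm ht'z) hz'
      have hsum2 : ∑ j ∈ insert t' (insert t K), T.a z j * T.m j = 2 * T.w z * T.m z := by
        rw [Finset.sum_insert ht'K, hsum, hazt']
        have : T.m t + T.m t' = T.m z := by linarith
        rw [← this]; ring
      refine Or.inr (Or.inr (Or.inr ⟨t, t', htK, ht'K', htz, ht'z, Ne.symm ht't, hazt, hazt',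
        hwteq, hwt'eq, hm1, hm2, ?_, ?_, ?_⟩))
      · intro y hyK hyz hyt hyt'
        refine zero_of_full T hd z _ hz'' hsum2 y ?_ hyz
        rw [Finset.mem_insert]
        rintro (h | h)
        · exact hyt' h
        · exact hins y hyK hyt h
      · apply leaf_of_full T hd htz
        rw [← a_symm T z t, hazt, hwteq, ← hm1]; ring
      · apply leaf_of_full T hd ht'z
        rw [← a_symm T z t', hazt', hwt'eq, ← hm2]; ring
  · -- (1,2)
    have hazt : T.a z t = T.w z := by rw [hc, mul_one]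
    have hwzt : T.w z = 2 * T.w t := by linarith
    have hmeq : T.m t = T.m z := by linarith
    refine Or.inr (Or.inl ⟨t, htK, htz, hazt, hwzt, hmeq, ?_, ?_⟩)
    · have hsum : ∑ j ∈ insert t K, T.a z j * T.m j = 2 * T.w z * T.m z := by
        rw [Finset.sum_insert htK, hK, hazt, hmeq]; ring
      intro y hyK hyz hyt
      exact zero_of_full T hd z (insert t K) hz' hsum y (hins y hyK hyt) hyz
    · apply leaf_of_full T hd htz
      rw [← a_symm T z t, hazt, hmeq, hwzt]
  · -- (2,1)
    have hazt : T.a z t = 2 * T.w z := by linarith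
    have hwteq : T.w t = 2 * T.w z := by linarith
    have hmeq : 2 * T.m t = T.m z := by linarith
    refine Or.inr (Or.inr (Or.inl ⟨t, htK, htz, hazt, hwteq, hmeq, ?_, ?_⟩))
    · have hsum : ∑ j ∈ insert t K, T.a z j * T.m j = 2 * T.w z * T.m z := by
        rw [Finset.sum_insert htK, hK, hazt, ← hmeq]; ring
      intro y hyK hyz hyt
      exact zero_of_full T hd z (insert t K) hz' hsum y (hins y hyK hyt) hyz
    · apply leaf_of_full T hd htz
      rw [← a_symm T z t, hazt, hwteq, ← hmeq]; ring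
  · -- (2,2)
    exfalso
    norm_num at hcc

end Groth.Agent.Lib.Helper6.Aff
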