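import Groth.Agent.Lib.Helper6.AffNH

/-!
# Genus-one numerical types: no half-supplied vertex gives an exceptional star (main step)
-/

set_option autoImplicit false

namespace Groth.Agent.Lib.Helper6.Aff

open Finset Models

variable {n : ℕ} (T : Models.NumericalType n)

theorem emptyArm (b : Fin n) (ω : ℤ) : Arm T b (fun _ => b) 0 (T.m b) ω := by
  refine ⟨rfl, T.m_pos b, by push_cast; ring, ?_, ?_, ?_, ?_⟩
  · intro j hj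
    have : j = 0 := by omega
    subst this; simp
  · intro j h1 h2; omega
  · intro j hj; omega
  · intro j hj; omega

theorem mkStar3 {b t₁ t₂ t₃ : Fin n} {k₁ k₂ k₃ : ℕ} {d₁ d₂ d₃ ω₁ ω₂ ω₃ : ℤ}
    (A₁ : Arm T b (xs T b t₁) k₁ d₁ ω₁) (A₂ : Arm T b (xs T b t₂) k₂ d₂ ω₂)
    (A₃ : Arm T b (xs T b t₃) k₃ d₃ ω₃) (h1 : 1 ≤ k₁) (h2 : 1 ≤ k₂) (h3 : 1 ≤ k₃)
    (h12 : t₁ ≠ t₂) (h13 : t₁ ≠ t₃) (h23 : t₂ ≠ t₃)
    (hnb : ∀ y, y ≠ b → y ≠ t₁ → y ≠ t₂ → y ≠ t₃ → T.a b y = 0) :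
    Star T b (xs T b t₁) (xs T b t₂) (xs T b t₃) k₁ k₂ k₃ d₁ d₂ d₃ ω₁ ω₂ ω₃ :=
  ⟨A₁, A₂, A₃, h1, h2, h12, fun _ => h13, fun _ => h23,
    fun y hb e1 e2 e3 => hnb y hb e1 e2 (e3 h3)⟩

theorem mkStar2 {b t₁ t₂ : Fin n} {k₁ k₂ : ℕ} {d₁ d₂ ω₁ ω₂ : ℤ}
    (A₁ : Arm T b (xs T b t₁) k₁ d₁ ω₁) (A₂ : Arm T b (xs T b t₂) k₂ d₂ ω₂)
    (h1 : 1 ≤ k₁) (h2 : 1 ≤ k₂) (h12 : t₁ ≠ t₂)
    (hnb : ∀ y, y ≠ b → y ≠ t₁ → y ≠ t₂ → T.a b y = 0) :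
    Star T b (xs T b t₁) (xs T b t₂) (fun _ => b) k₁ k₂ 0 d₁ d₂ (T.m b) ω₁ ω₂ 0 :=
  ⟨A₁, A₂, emptyArm T b 0, h1, h2, h12, fun h => absurd h (by omega),
    fun h => absurd h (by omega), fun y hb e1 e2 _ => hnb y hb e1 e2⟩

theorem star_of_noHalf (hd : ∀ i, T.a i i = -2 * T.w i) (hn : 4 ≤ n)
    (hNH : ∀ z K, z ∉ K → ∑ j ∈ K, T.a z j * T.m j ≠ T.w z * T.m z) :
    ∃ b x₁ x₂ x₃ k₁ k₂ k₃ d₁ d₂ d₃ ω₁ ω₂ ω₃,
      Star T b x₁ x₂ x₃ k₁ k₂ k₃ d₁ d₂ d₃ ω₁ ω₂ ω₃ ∧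
      ((ω₁ = T.w b ∧ ω₂ = T.w b ∧ ω₃ = T.w b ∧
          ((k₁ = 2 ∧ k₂ = 2 ∧ k₃ = 2) ∨ (k₁ = 1 ∧ k₂ = 3 ∧ k₃ = 3) ∨
            (k₁ = 1 ∧ k₂ = 2 ∧ k₃ = 5))) ∨
       (ω₁ = 2 * T.w b ∧ ω₂ = T.w b ∧ k₃ = 0 ∧ ((k₁ = 2 ∧ k₂ = 2) ∨ (k₁ = 3 ∧ k₂ = 1)))) := by
  classical
  obtain ⟨b, -, hbmax'⟩ := Finset.exists_max_image (univ : Finset (Fin n)) T.m
    ⟨⟨0, T.pos⟩, mem_univ _⟩
  have hbmax : ∀ y, T.m y ≤ T.m b := fun y => hbmax' y (mem_univ y)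
  have hB := T.m_pos b
  have hW := T.w_pos b
  have hWB : 0 < T.w b * T.m b := mul_pos hW hB
  have hsm := fun t (h1 : t ≠ b) (h2 : T.a b t ≠ 0) => nbr_summary T hd hn hNH hbmax h1 h2
  obtain ⟨t₁, -, ht₁b, hat₁⟩ := exists_new T hd b ∅ (Finset.notMem_empty b)
    (by rw [Finset.sum_empty]; linarith)
  obtain ⟨c₁, k₁, d₁, s₁, hc₁, hw₁, hk₁, A₁, hs₁, hs₁ge, hs₁a, hs₁b⟩ := hsm t₁ ht₁b hat₁.ne'
  have hd₁ := A₁.dpos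
  have htot₁ := A₁.tot
  have hs₁lt : s₁ < 2 * T.m b := by
    rcases hc₁ with h | h
    · rw [hs₁a h]; linarith
    · rw [(hs₁b h).1]; linarith
  have hK1 : b ∉ ({t₁} : Finset (Fin n)) := by simpa using ht₁b.symm
  have hsum1 : ∑ j ∈ ({t₁} : Finset (Fin n)), T.a b j * T.m j = T.w b * s₁ := by
    rw [Finset.sum_singleton, hs₁]
  have hlt1 : ∑ j ∈ ({t₁} : Finset (Fin n)), T.a b j * T.m j < 2 * T.w b * T.m b := by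
    rw [hsum1]; nlinarith
  obtain ⟨t₂, ht₂K, ht₂b, hat₂⟩ := exists_new T hd b {t₁} hK1 hlt1
  have ht₂₁ : t₂ ≠ t₁ := by simpa using ht₂K
  obtain ⟨c₂, k₂, d₂, s₂, hc₂, hw₂, hk₂, A₂, hs₂, hs₂ge, hs₂a, hs₂b⟩ := hsm t₂ ht₂b hat₂.ne'
  have hd₂ := A₂.dpos
  have htot₂ := A₂.tot
  have hK2 : b ∉ insert t₂ ({t₁} : Finset (Fin n)) := notMem_insert_of (Ne.symm ht₂b) hK1
  have hsum2 : ∑ j ∈ insert t₂ ({t₁} : Finset (Fin n)), T.a b j * T.m j =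
      T.w b * s₂ + T.w b * s₁ := by
    rw [Finset.sum_insert ht₂K, hsum1, hs₂]
  have hpair_ne : s₂ + s₁ ≠ T.m b := by
    intro h
    apply hNH b _ hK2
    rw [hsum2, ← h]; ring
  have hle2 := sumK_le T hd b _ hK2
  rw [hsum2] at hle2
  have hle2' : s₂ + s₁ ≤ 2 * T.m b := by
    have h' : T.w b * (s₂ + s₁) ≤ T.w b * (2 * T.m b) := by linarith
    exact le_of_mul_le_mul_left h' hW
  by_cases hfull2 : s₂ + s₁ = 2 * T.m b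
  · have hfull : ∑ j ∈ insert t₂ ({t₁} : Finset (Fin n)), T.a b j * T.m j =
        2 * T.w b * T.m b := by
      rw [hsum2]
      have h' : T.w b * (s₂ + s₁) = T.w b * (2 * T.m b) := by rw [hfull2]
      linarith
    have hnb0 := zero_of_full T hd b _ hK2 hfull
    have hnb : ∀ y, y ≠ b → y ≠ t₁ → y ≠ t₂ → T.a b y = 0 := by
      intro y hb h1 h2
      apply hnb0 y _ hb
      rw [Finset.mem_insert, Finset.mem_singleton]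
      rintro (h | h)
      · exact h2 h
      · exact h1 h
    rcases hc₁ with h₁ | h₁ <;> rcases hc₂ with h₂ | h₂
    · exfalso
      rw [hs₁a h₁, hs₂a h₂] at hfull2
      linarith
    · obtain ⟨e₂, -, hk₂2⟩ := hs₂b h₂
      have e₁ := hs₁a h₁
      rw [e₁, e₂] at hfull2
      have hBeq : T.m b = 2 * d₂ + d₁ := by linarith
      have hω₂ : T.w t₂ = 2 * T.w b := by rw [hw₂, h₂]
      have hω₁ : T.w t₁ = T.w b := by rw [hw₁, h₁]; ring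
      rcases dioph2 hk₂2 hk₁ hd₂ hd₁ htot₂ htot₁ hBeq with ⟨rfl, rfl⟩ | ⟨rfl, rfl⟩
      · exact ⟨b, xs T b t₂, xs T b t₁, fun _ => b, 2, 2, 0, d₂, d₁, T.m b, T.w t₂, T.w t₁, 0,
          mkStar2 T A₂ A₁ (by omega) (by omega) ht₂₁ (fun y hb h2 h1 => hnb y hb h1 h2),
          Or.inr ⟨hω₂, hω₁, rfl, Or.inl ⟨rfl, rfl⟩⟩⟩
      · exact ⟨b, xs T b t₂, xs T b t₁, fun _ => b, 3, 1, 0, d₂, d₁, T.m b, T.w t₂, T.w t₁, 0,
          mkStar2 T A₂ A₁ (by omega) (by omega) ht₂₁ (fun y hb h2 h1 => hnb y hb h1 h2),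
          Or.inr ⟨hω₂, hω₁, rfl, Or.inr ⟨rfl, rfl⟩⟩⟩
    · obtain ⟨e₁, -, hk₁2⟩ := hs₁b h₁
      have e₂ := hs₂a h₂
      rw [e₁, e₂] at hfull2
      have hBeq : T.m b = 2 * d₁ + d₂ := by linarith
      have hω₁ : T.w t₁ = 2 * T.w b := by rw [hw₁, h₁]
      have hω₂ : T.w t₂ = T.w b := by rw [hw₂, h₂]; ring
      rcases dioph2 hk₁2 hk₂ hd₁ hd₂ htot₁ htot₂ hBeq with ⟨rfl, rfl⟩ | ⟨rfl, rfl⟩
      · exact ⟨b, xs T b t₁, xs T b t₂, fun _ => b, 2, 2, 0, d₁, d₂, T.m b, T.w t₁, T.w t₂, 0,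
          mkStar2 T A₁ A₂ (by omega) (by omega) ht₂₁.symm hnb,
          Or.inr ⟨hω₁, hω₂, rfl, Or.inl ⟨rfl, rfl⟩⟩⟩
      · exact ⟨b, xs T b t₁, xs T b t₂, fun _ => b, 3, 1, 0, d₁, d₂, T.m b, T.w t₁, T.w t₂, 0,
          mkStar2 T A₁ A₂ (by omega) (by omega) ht₂₁.symm hnb,
          Or.inr ⟨hω₁, hω₂, rfl, Or.inr ⟨rfl, rfl⟩⟩⟩
    · exfalso
      obtain ⟨-, f₁, -⟩ := hs₁b h₁
      obtain ⟨-, f₂, -⟩ := hs₂b h₂
      linarith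
  · have hlt2 : ∑ j ∈ insert t₂ ({t₁} : Finset (Fin n)), T.a b j * T.m j <
        2 * T.w b * T.m b := by
      rw [hsum2]
      have h' : s₂ + s₁ < 2 * T.m b := lt_of_le_of_ne hle2' hfull2
      nlinarith
    obtain ⟨t₃, ht₃K, ht₃b, hat₃⟩ := exists_new T hd b _ hK2 hlt2
    have ht₃₂ : t₃ ≠ t₂ := fun h => ht₃K (by rw [h]; exact Finset.mem_insert_self _ _)
    have ht₃₁ : t₃ ≠ t₁ := fun h => ht₃K (by
      rw [h]; exact Finset.mem_insert_of_mem (Finset.mem_singleton_self _))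
    obtain ⟨c₃, k₃, d₃, s₃, hc₃, hw₃, hk₃, A₃, hs₃, hs₃ge, hs₃a, hs₃b⟩ := hsm t₃ ht₃b hat₃.ne'
    have hd₃ := A₃.dpos
    have htot₃ := A₃.tot
    have hK3 : b ∉ insert t₃ (insert t₂ ({t₁} : Finset (Fin n))) :=
      notMem_insert_of (Ne.symm ht₃b) hK2
    have hsum3 : ∑ j ∈ insert t₃ (insert t₂ ({t₁} : Finset (Fin n))), T.a b j * T.m j =
        T.w b * s₃ + (T.w b * s₂ + T.w b * s₁) := by
      rw [Finset.sum_insert ht₃K, hsum2, hs₃]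
    have hle3 := sumK_le T hd b _ hK3
    rw [hsum3] at hle3
    have hle3' : s₃ + s₂ + s₁ ≤ 2 * T.m b := by
      have h' : T.w b * (s₃ + s₂ + s₁) ≤ T.w b * (2 * T.m b) := by linarith
      exact le_of_mul_le_mul_left h' hW
    by_cases hfull3 : s₃ + s₂ + s₁ = 2 * T.m b
    · have hfull : ∑ j ∈ insert t₃ (insert t₂ ({t₁} : Finset (Fin n))), T.a b j * T.m j =
          2 * T.w b * T.m b := by
        rw [hsum3]
        have h' : T.w b * (s₃ + s₂ + s₁) = T.w b * (2 * T.m b) := by rw [hfull3]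
        linarith
      have hnb0 := zero_of_full T hd b _ hK3 hfull
      have hnb : ∀ y, y ≠ b → y ≠ t₁ → y ≠ t₂ → y ≠ t₃ → T.a b y = 0 := by
        intro y hb h1 h2 h3
        apply hnb0 y _ hb
        simp only [Finset.mem_insert, Finset.mem_singleton, not_or]
        exact ⟨h3, h2, h1⟩
      have hc₁' : c₁ = 1 := by
        rcases hc₁ with h | h
        · exact h
        · exfalso
          obtain ⟨-, f, -⟩ := hs₁b h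
          linarith
      have hc₂' : c₂ = 1 := by
        rcases hc₂ with h | h
        · exact h
        · exfalso
          obtain ⟨-, f, -⟩ := hs₂b h
          linarith
      have hc₃' : c₃ = 1 := by
        rcases hc₃ with h | h
        · exact h
        · exfalso
          obtain ⟨-, f, -⟩ := hs₃b h
          linarith
      have e₁ := hs₁a hc₁'
      have e₂ := hs₂a hc₂'
      have e₃ := hs₃a hc₃'
      rw [e₁, e₂, e₃] at hfull3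
      have hBeq : T.m b = d₁ + d₂ + d₃ := by linarith
      have hω₁ : T.w t₁ = T.w b := by rw [hw₁, hc₁']; ring
      have hω₂ : T.w t₂ = T.w b := by rw [hw₂, hc₂']; ring
      have hω₃ : T.w t₃ = T.w b := by rw [hw₃, hc₃']; ring
      rcases dioph3 hk₁ hk₂ hk₃ hd₁ hd₂ hd₃ htot₁ htot₂ htot₃ hBeq with
        ⟨rfl, rfl, rfl⟩ | ⟨rfl, rfl, rfl⟩ | ⟨rfl, rfl, rfl⟩ | ⟨rfl, rfl, rfl⟩ | ⟨rfl, rfl, rfl⟩ |
        ⟨rfl, rfl, rfl⟩ | ⟨rfl, rfl, rfl⟩ | ⟨rfl, rfl, rfl⟩ | ⟨rfl, rfl, rfl⟩ | ⟨rfl, rfl, rfl⟩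
      · exact ⟨b, xs T b t₁, xs T b t₂, xs T b t₃, 2, 2, 2, d₁, d₂, d₃, T.w t₁, T.w t₂, T.w t₃,
          mkStar3 T A₁ A₂ A₃ (by omega) (by omega) (by omega) ht₂₁.symm ht₃₁.symm ht₃₂.symm
            (fun y hb ea eb ec => hnb y hb ea eb ec),
          Or.inl ⟨hω₁, hω₂, hω₃, Or.inl ⟨rfl, rfl, rfl⟩⟩⟩
      · exact ⟨b, xs T b t₁, xs T b t₂, xs T b t₃, 1, 3, 3, d₁, d₂, d₃, T.w t₁, T.w t₂, T.w t₃,
          mkStar3 T A₁ A₂ A₃ (by omega) (by omega) (by omega) ht₂₁.symm ht₃₁.symm ht₃₂.symm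
            (fun y hb ea eb ec => hnb y hb ea eb ec),
          Or.inl ⟨hω₁, hω₂, hω₃, Or.inr (Or.inl ⟨rfl, rfl, rfl⟩)⟩⟩
      · exact ⟨b, xs T b t₂, xs T b t₁, xs T b t₃, 1, 3, 3, d₂, d₁, d₃, T.w t₂, T.w t₁, T.w t₃,
          mkStar3 T A₂ A₁ A₃ (by omega) (by omega) (by omega) ht₂₁ ht₃₂.symm ht₃₁.symm
            (fun y hb ea eb ec => hnb y hb eb ea ec),
          Or.inl ⟨hω₂, hω₁, hω₃, Or.inr (Or.inl ⟨rfl, rfl, rfl⟩)⟩⟩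
      · exact ⟨b, xs T b t₃, xs T b t₁, xs T b t₂, 1, 3, 3, d₃, d₁, d₂, T.w t₃, T.w t₁, T.w t₂,
          mkStar3 T A₃ A₁ A₂ (by omega) (by omega) (by omega) ht₃₁ ht₃₂ ht₂₁.symm
            (fun y hb ea eb ec => hnb y hb eb ec ea),
          Or.inl ⟨hω₃, hω₁, hω₂, Or.inr (Or.inl ⟨rfl, rfl, rfl⟩)⟩⟩
      · exact ⟨b, xs T b t₁, xs T b t₂, xs T b t₃, 1, 2, 5, d₁, d₂, d₃, T.w t₁, T.w t₂, T.w t₃,
          mkStar3 T A₁ A₂ A₃ (by omega) (by omega) (by omega) ht₂₁.symm ht₃₁.symm ht₃₂.symm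
            (fun y hb ea eb ec => hnb y hb ea eb ec),
          Or.inl ⟨hω₁, hω₂, hω₃, Or.inr (Or.inr ⟨rfl, rfl, rfl⟩)⟩⟩
      · exact ⟨b, xs T b t₁, xs T b t₃, xs T b t₂, 1, 2, 5, d₁, d₃, d₂, T.w t₁, T.w t₃, T.w t₂,
          mkStar3 T A₁ A₃ A₂ (by omega) (by omega) (by omega) ht₃₁.symm ht₂₁.symm ht₃₂
            (fun y hb ea eb ec => hnb y hb ea ec eb),
          Or.inl ⟨hω₁, hω₃, hω₂, Or.inr (Or.inr ⟨rfl, rfl, rfl⟩)⟩⟩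
      · exact ⟨b, xs T b t₂, xs T b t₁, xs T b t₃, 1, 2, 5, d₂, d₁, d₃, T.w t₂, T.w t₁, T.w t₃,
          mkStar3 T A₂ A₁ A₃ (by omega) (by omega) (by omega) ht₂₁ ht₃₂.symm ht₃₁.symm
            (fun y hb ea eb ec => hnb y hb eb ea ec),
          Or.inl ⟨hω₂, hω₁, hω₃, Or.inr (Or.inr ⟨rfl, rfl, rfl⟩)⟩⟩
      · exact ⟨b, xs T b t₃, xs T b t₁, xs T b t₂, 1, 2, 5, d₃, d₁, d₂, T.w t₃, T.w t₁, T.w t₂,
          mkStar3 T A₃ A₁ A₂ (by omega) (by omega) (by omega) ht₃₁ ht₃₂ ht₂₁.symm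
            (fun y hb ea eb ec => hnb y hb eb ec ea),
          Or.inl ⟨hω₃, hω₁, hω₂, Or.inr (Or.inr ⟨rfl, rfl, rfl⟩)⟩⟩
      · exact ⟨b, xs T b t₂, xs T b t₃, xs T b t₁, 1, 2, 5, d₂, d₃, d₁, T.w t₂, T.w t₃, T.w t₁,
          mkStar3 T A₂ A₃ A₁ (by omega) (by omega) (by omega) ht₃₂.symm ht₂₁ ht₃₁
            (fun y hb ea eb ec => hnb y hb ec ea eb),
          Or.inl ⟨hω₂, hω₃, hω₁, Or.inr (Or.inr ⟨rfl, rfl, rfl⟩)⟩⟩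
      · exact ⟨b, xs T b t₃, xs T b t₂, xs T b t₁, 1, 2, 5, d₃, d₂, d₁, T.w t₃, T.w t₂, T.w t₁,
          mkStar3 T A₃ A₂ A₁ (by omega) (by omega) (by omega) ht₃₂ ht₃₁ ht₂₁
            (fun y hb ea eb ec => hnb y hb ec eb ea),
          Or.inl ⟨hω₃, hω₂, hω₁, Or.inr (Or.inr ⟨rfl, rfl, rfl⟩)⟩⟩
    · exfalso
      have hlt3 : ∑ j ∈ insert t₃ (insert t₂ ({t₁} : Finset (Fin n))), T.a b j * T.m j <
          2 * T.w b * T.m b := by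
        rw [hsum3]
        have h' : s₃ + s₂ + s₁ < 2 * T.m b := lt_of_le_of_ne hle3' hfull3
        nlinarith
      obtain ⟨t₄, ht₄K, ht₄b, hat₄⟩ := exists_new T hd b _ hK3 hlt3
      obtain ⟨c₄, k₄, d₄, s₄, -, -, -, -, hs₄, hs₄ge, -, -⟩ := hsm t₄ ht₄b hat₄.ne'
      have hnl := new_le T hd b _ hK3 t₄ ht₄K ht₄b
      rw [hsum3, hs₄] at hnl
      have h4 : s₃ + s₂ + s₁ + s₄ ≤ 2 * T.m b := by
        have h' : T.w b * (s₃ + s₂ + s₁ + s₄) ≤ T.w b * (2 * T.m b) := by linarith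
        exact le_of_mul_le_mul_left h' hW
      apply hpair_ne
      linarith

end Groth.Agent.Lib.Helper6.Aff
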