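import Groth.Agent.Lib.Helper6.AffFam
import Groth.Agent.Lib.Helper6.AffNH2

/-!
# Genus-one numerical types: the classification

`classify`: a numerical type with all `a i i = -2 w i` on at least four indices is a cycle, one of
the six caterpillar families, or an exceptional star.
-/

set_option autoImplicit false

namespace Groth.Agent.Lib.Helper6.Aff

open Finset Models

variable {n : ℕ} (T : Models.NumericalType n)

/-- the six caterpillar families -/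
def FamCat : Prop :=
  (∃ σ m w, Fam2 T σ m w) ∨ (∃ σ m w, Fam3 T σ m w) ∨ (∃ σ m w, Fam4 T σ m w) ∨
  (∃ σ m w, Fam5 T σ m w) ∨ (∃ σ m w, Fam6 T σ m w) ∨ (∃ σ m w, Fam7 T σ m w)

/-- the exceptional stars -/
def ExcStar : Prop :=
  ∃ b x₁ x₂ x₃ k₁ k₂ k₃ d₁ d₂ d₃ ω₁ ω₂ ω₃,
    Star T b x₁ x₂ x₃ k₁ k₂ k₃ d₁ d₂ d₃ ω₁ ω₂ ω₃ ∧
    ((ω₁ = T.w b ∧ ω₂ = T.w b ∧ ω₃ = T.w b ∧
        ((k₁ = 2 ∧ k₂ = 2 ∧ k₃ = 2) ∨ (k₁ = 1 ∧ k₂ = 3 ∧ k₃ = 3) ∨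
          (k₁ = 1 ∧ k₂ = 2 ∧ k₃ = 5))) ∨
     (ω₁ = 2 * T.w b ∧ ω₂ = T.w b ∧ k₃ = 0 ∧ ((k₁ = 2 ∧ k₂ = 2) ∨ (k₁ = 3 ∧ k₂ = 1))))

theorem fam_of_term_e1 (hd : ∀ i, T.a i i = -2 * T.w i) {z : Fin n} {lf : ℕ → Fin n}
    {μ ω α : ℤ} (ht : Term T z .e1 lf μ ω α) : FamCat T := by
  obtain ⟨κ₁, x, r, lf₁, μ₁, ω₁, α₁, -, hC⟩ := cat_of_term T hd ht
  cases κ₁ with
  | e1 => exact Or.inr (Or.inl (fam3_of_cat T hC))
  | e2 => exact Or.inl (fam2_of_cat T hC)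
  | e3 => exact Or.inr (Or.inr (Or.inr (Or.inr (Or.inl (fam6_of_cat T hC)))))

theorem fam_of_term_e2 (hd : ∀ i, T.a i i = -2 * T.w i) {z : Fin n} {lf : ℕ → Fin n}
    {μ ω α : ℤ} (ht : Term T z .e2 lf μ ω α) : FamCat T := by
  obtain ⟨κ₁, x, r, lf₁, μ₁, ω₁, α₁, -, hC⟩ := cat_of_term T hd ht
  cases κ₁ with
  | e1 => exact fam_of_term_e1 T hd hC.t1
  | e2 => exact Or.inr (Or.inr (Or.inl (fam4_of_cat T hC)))
  | e3 => exact Or.inr (Or.inr (Or.inr (Or.inl (fam5_of_cat T hC))))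

theorem fam_of_term_e3 (hd : ∀ i, T.a i i = -2 * T.w i) {z : Fin n} {lf : ℕ → Fin n}
    {μ ω α : ℤ} (ht : Term T z .e3 lf μ ω α) : FamCat T := by
  obtain ⟨κ₁, x, r, lf₁, μ₁, ω₁, α₁, -, hC⟩ := cat_of_term T hd ht
  cases κ₁ with
  | e1 => exact fam_of_term_e1 T hd hC.t1
  | e2 => exact fam_of_term_e2 T hd hC.t1
  | e3 => exact Or.inr (Or.inr (Or.inr (Or.inr (Or.inr (fam7_of_cat T hC)))))

theorem fam_of_term (hd : ∀ i, T.a i i = -2 * T.w i) {z : Fin n} {κ : Kind} {lf : ℕ → Fin n}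
    {μ ω α : ℤ} (ht : Term T z κ lf μ ω α) : FamCat T := by
  cases κ with
  | e1 => exact fam_of_term_e1 T hd ht
  | e2 => exact fam_of_term_e2 T hd ht
  | e3 => exact fam_of_term_e3 T hd ht

/-- The classification. -/
theorem classify (hd : ∀ i, T.a i i = -2 * T.w i) (hn : 4 ≤ n) :
    (∃ σ m w, Fam1 T σ m w) ∨ FamCat T ∨ ExcStar T := by
  by_cases hH : ∃ z K, z ∉ K ∧ ∑ j ∈ K, T.a z j * T.m j = T.w z * T.m z
  · obtain ⟨z, K, hz, hK⟩ := hH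
    rcases cyc_or_term T hd z K hz hK with ⟨x, hx⟩ | ⟨z', κ, lf, μ, ω, α, ht⟩
    · exact Or.inl (fam1_of_cyc T hx)
    · exact Or.inr (Or.inl (fam_of_term T hd ht))
  · right; right
    push Not at hH
    exact star_of_noHalf T hd hn hH

/-- an exceptional star has at most nine vertices -/
theorem excStar_card (h : ExcStar T) : n = 5 ∨ n = 7 ∨ n = 8 ∨ n = 9 := by
  obtain ⟨b, x₁, x₂, x₃, k₁, k₂, k₃, d₁, d₂, d₃, ω₁, ω₂, ω₃, hS, htype⟩ := h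
  have h1 := (star_pos T hS).1
  rcases htype with ⟨-, -, -, h | h | h⟩ | ⟨-, -, h3, h | h⟩ <;> omega

end Groth.Agent.Lib.Helper6.Aff
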