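import Groth.Agent.Lib.Helper6.AffStar

/-!
# Genus-one numerical types: no half-supplied vertex gives an exceptional star
-/

set_option autoImplicit false

namespace Groth.Agent.Lib.Helper6.Aff

open Finset Models

variable {n : ℕ} (T : Models.NumericalType n)

theorem closed_pair (hd : ∀ i, T.a i i = -2 * T.w i) (hn : 3 ≤ n) {b t : Fin n} (hbt : b ≠ t)
    (h1 : T.a b t * T.m t = 2 * T.w b * T.m b) (h2 : T.a t b * T.m b = 2 * T.w t * T.m t) :
    False := by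
  have hb := zero_of_full T hd b {t} (by simpa using hbt) (by simpa using h1)
  have ht := zero_of_full T hd t {b} (by simpa using hbt.symm) (by simpa using h2)
  have hcl : ∀ i ∈ ({b, t} : Finset (Fin n)), ∀ j, j ≠ i → T.a i j ≠ 0 →
      j ∈ ({b, t} : Finset (Fin n)) := by
    intro i hi j hji haij
    simp only [Finset.mem_insert, Finset.mem_singleton] at hi ⊢
    rcases hi with hi | hi
    · right
      by_contra hjt
      rw [hi] at hji haij
      exact haij (hb j (by simpa using hjt) hji)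
    · left
      by_contra hjb
      rw [hi] at hji haij
      exact haij (ht j (by simpa using hjb) hji)
  have hu := eq_univ_of_closed T {b, t} ⟨b, by simp⟩ hcl
  have hc := congrArg Finset.card hu
  rw [Finset.card_pair hbt, Finset.card_univ, Fintype.card_fin] at hc
  omega

theorem no_triple_A (hn : 3 < n) (v : Fin 3 ↪ Fin n) (hd : ∀ i, T.a i i = -2 * T.w i)
    (h01 : T.a (v 0) (v 1) ≠ 0) (h1 : T.a (v 1) (v 2) = T.w (v 1))
    (h2 : T.a (v 1) (v 2) = 3 * T.w (v 2)) : False := by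
  apply Groth.Agent.Helper11.NT_rows_test T hn v ![1, 2, 3] (by intro j; fin_cases j <;> simp)
    (by intro h; simpa using congrFun h 0)
  intro j hj
  have s01 := a_symm T (v 0) (v 1)
  have s02 := a_symm T (v 0) (v 2)
  have s12 := a_symm T (v 1) (v 2)
  have g1 := Groth.Agent.Helper11.NT_ge1 T (v.injective.ne (by decide : (0 : Fin 3) ≠ 1)) h01
  have g2 := Groth.Agent.Helper11.NT_ge2 T (v.injective.ne (by decide : (0 : Fin 3) ≠ 1)) h01
  have n02 := T.offDiag_nonneg (v 0) (v 2) (v.injective.ne (by decide))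
  have d0 := hd (v 0)
  have d1 := hd (v 1)
  have d2 := hd (v 2)
  fin_cases j
  · simp [Fin.sum_univ_succ]
    linarith
  · simp [Fin.sum_univ_succ]
    linarith
  · simp [Fin.sum_univ_succ]
    linarith

theorem no_triple_B (hn : 3 < n) (v : Fin 3 ↪ Fin n) (hd : ∀ i, T.a i i = -2 * T.w i)
    (h01 : T.a (v 0) (v 1) ≠ 0) (h1 : T.a (v 1) (v 2) = 3 * T.w (v 1))
    (h2 : T.a (v 1) (v 2) = T.w (v 2)) : False := by
  apply Groth.Agent.Helper11.NT_rows_test T hn v ![1, 2, 1] (by intro j; fin_cases j <;> simp)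
    (by intro h; simpa using congrFun h 0)
  intro j hj
  have s01 := a_symm T (v 0) (v 1)
  have s02 := a_symm T (v 0) (v 2)
  have s12 := a_symm T (v 1) (v 2)
  have g1 := Groth.Agent.Helper11.NT_ge1 T (v.injective.ne (by decide : (0 : Fin 3) ≠ 1)) h01
  have g2 := Groth.Agent.Helper11.NT_ge2 T (v.injective.ne (by decide : (0 : Fin 3) ≠ 1)) h01
  have n02 := T.offDiag_nonneg (v 0) (v 2) (v.injective.ne (by decide))
  have d0 := hd (v 0)
  have d1 := hd (v 1)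
  have d2 := hd (v 2)
  fin_cases j
  · simp [Fin.sum_univ_succ]
    linarith
  · simp [Fin.sum_univ_succ]
    linarith
  · simp [Fin.sum_univ_succ]
    linarith

theorem emb3 {u t z : Fin n} (hut : u ≠ t) (huz : u ≠ z) (htz : t ≠ z) :
    ∃ v : Fin 3 ↪ Fin n, v 0 = u ∧ v 1 = t ∧ v 2 = z := by
  have hinj : Function.Injective ![u, t, z] := by
    intro a b hab
    fin_cases a <;> fin_cases b <;> first | rfl | (exfalso; simp at hab; first | exact hut hab | exact huz hab | exact htz hab | exact hut hab.symm | exact huz hab.symm | exact htz hab.symm)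
  exact ⟨⟨![u, t, z], hinj⟩, rfl, rfl, rfl⟩

theorem nbr_of_max (hd : ∀ i, T.a i i = -2 * T.w i) (hn : 4 ≤ n)
    (hNH : ∀ z K, z ∉ K → ∑ j ∈ K, T.a z j * T.m j ≠ T.w z * T.m z)
    {b : Fin n} (hmax : ∀ y, T.m y ≤ T.m b) {t : Fin n} (htb : t ≠ b) (ha : T.a b t ≠ 0) :
    T.a t b = T.w t ∧ T.m t < T.m b ∧ T.m b ≤ 2 * T.m t ∧
      ((T.a b t = T.w b ∧ T.w t = T.w b) ∨
       (T.a b t = 2 * T.w b ∧ T.w t = 2 * T.w b ∧ T.m b < 2 * T.m t)) := by
  obtain ⟨c, c', hc1, hc1', hc, hc', hcm, hcm'⟩ := edge T hd htb ha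
  have hmt_le := hmax t
  have hmb := T.m_pos b
  have hmt := T.m_pos t
  have hwb := T.w_pos b
  have hwt := T.w_pos t
  have hNH1 : ∀ z y, y ≠ z → T.a z y * T.m y ≠ T.w z * T.m z := by
    intro z y hyz h
    exact hNH z {y} (by simpa using hyz.symm) (by simpa using h)
  have hsymm := a_symm T t b
  have hc'_eq : c' = 1 := by
    by_contra hne
    have h2 : 2 ≤ c' := by omega
    have h3 : 2 * T.m b ≤ c' * T.m b := mul_le_mul_of_nonneg_right h2 hmb.le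
    have hmeq : T.m t = T.m b := by linarith
    have hc'2 : c' * T.m b = 2 * T.m b := by linarith
    rw [hmeq] at hcm
    have hcle : c ≤ 2 := le_of_mul_le_mul_right hcm hmb
    interval_cases c
    · apply hNH1 b t htb
      rw [hc, hmeq]; ring
    · apply closed_pair T hd (by omega) (Ne.symm htb)
      · rw [hc, hmeq]; ring
      · rw [hsymm, hc', hmeq]
        have : T.w t * c' * T.m b = T.w t * (c' * T.m b) := by ring
        rw [this, hc'2]; ring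
  subst hc'_eq
  have hat : T.a t b = T.w t := by rw [hsymm, hc', mul_one]
  have hmlt : T.m t < T.m b := by
    rcases lt_or_eq_of_le hmt_le with h | h
    · exact h
    · exfalso
      apply hNH1 t b (Ne.symm htb)
      rw [hat, h]
  have hmle : T.m b ≤ 2 * T.m t := by linarith
  refine ⟨hat, hmlt, hmle, ?_⟩
  have hcle : c ≤ 4 := by
    have h1 : c * T.m b ≤ c * (2 * T.m t) := mul_le_mul_of_nonneg_left hmle (by linarith)
    have h2 : c * T.m b ≤ 4 * T.m b := by linarith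
    exact le_of_mul_le_mul_right h2 hmb
  have hwt_eq : T.w t = T.w b * c := by linarith
  interval_cases c
  · left
    exact ⟨by rw [hc, mul_one], by rw [hwt_eq, mul_one]⟩
  · right
    refine ⟨by rw [hc]; ring, by rw [hwt_eq]; ring, ?_⟩
    rcases lt_or_eq_of_le hmle with h | h
    · exact h
    · exfalso
      apply hNH1 b t htb
      rw [hc, h]; ring
  · exfalso
    -- triple edge: find a third vertex
    have hI : ({b, t} : Finset (Fin n)) ≠ univ := by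
      intro h
      have hc2 := congrArg Finset.card h
      rw [Finset.card_pair (Ne.symm htb), Finset.card_univ, Fintype.card_fin] at hc2
      omega
    obtain ⟨i, hi, j, hj, haij⟩ := T.connected {b, t} ⟨b, by simp⟩ hI
    simp only [Finset.mem_insert, Finset.mem_singleton, not_or] at hi hj
    have h3a : T.a b t = 3 * T.w b := by rw [hc]; ring
    have h3b : T.a b t = T.w t := by rw [hwt_eq]; rw [hc]
    rcases hi with rfl | rfl
    · -- j adjacent to b = i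
      obtain ⟨v, hv0, hv1, hv2⟩ := emb3 hj.1 hj.2 (Ne.symm htb)
      apply no_triple_B T (by omega) v hd
      · rw [hv0, hv1, a_symm T j i]; exact haij
      · rw [hv1, hv2]; exact h3a
      · rw [hv1, hv2]; exact h3b
    · -- j adjacent to t = i
      obtain ⟨v, hv0, hv1, hv2⟩ := emb3 hj.2 hj.1 htb
      apply no_triple_A T (by omega) v hd
      · rw [hv0, hv1, a_symm T j i]; exact haij
      · rw [hv1, hv2]; exact hat
      · rw [hv1, hv2, hsymm]; exact h3a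
  · exfalso
    apply closed_pair T hd (by omega) (Ne.symm htb)
    · rw [hc]
      have : T.m b = 2 * T.m t := by linarith
      rw [this]; ring
    · rw [hat]
      have : T.m b = 2 * T.m t := by linarith
      rw [this]; ring

theorem nbr_summary (hd : ∀ i, T.a i i = -2 * T.w i) (hn : 4 ≤ n)
    (hNH : ∀ z K, z ∉ K → ∑ j ∈ K, T.a z j * T.m j ≠ T.w z * T.m z)
    {b : Fin n} (hmax : ∀ y, T.m y ≤ T.m b) {t : Fin n} (htb : t ≠ b) (ha : T.a b t ≠ 0) :
    ∃ (c : ℤ) (k : ℕ) (d s : ℤ), (c = 1 ∨ c = 2) ∧ T.w t = c * T.w b ∧ 1 ≤ k ∧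
      Arm T b (xs T b t) k d (T.w t) ∧ T.a b t * T.m t = T.w b * s ∧ T.m b ≤ 2 * s ∧
      (c = 1 → s = T.m b - d) ∧
      (c = 2 → s = 2 * (T.m b - d) ∧ 4 * T.m b ≤ 3 * s ∧ 2 ≤ k) := by
  obtain ⟨hat, hmlt, hmle, hcases⟩ := nbr_of_max T hd hn hNH hmax htb ha
  obtain ⟨k, d, hk, hA⟩ := arm_exists T hd (Ne.symm htb) hat hmlt
  have hm1 : T.m t = T.m b - d := by
    have h := hA.m_eq 1 hk
    simpa [xs_one] using h
  rcases hcases with ⟨h1, h2⟩ | ⟨h1, h2, h3⟩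
  · refine ⟨1, k, d, T.m b - d, Or.inl rfl, by rw [h2]; ring, hk, hA, ?_, ?_, fun _ => rfl, ?_⟩
    · rw [h1, hm1]
    · linarith
    · intro h; norm_num at h
  · refine ⟨2, k, d, 2 * (T.m b - d), Or.inr rfl, by rw [h2], hk, hA, ?_, ?_, ?_, ?_⟩
    · rw [h1, hm1]; ring
    · linarith [hA.dpos]
    · intro h; norm_num at h
    · intro _
      have hk2 : 2 ≤ k := by
        by_contra hlt
        have hk1 : k = 1 := by omega
        have htot := hA.tot
        rw [hk1] at htot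
        push_cast at htot
        linarith
      refine ⟨rfl, ?_, hk2⟩
      have h3d : 3 * d ≤ T.m b := by
        rw [hA.tot]
        have h4 : (3 : ℤ) ≤ (k : ℤ) + 1 := by exact_mod_cast (by omega : 3 ≤ k + 1)
        exact mul_le_mul_of_nonneg_right h4 hA.dpos.le
      linarith

theorem tot_le {B d : ℤ} {k : ℕ} (c : ℕ) (hc : c ≤ k + 1) (hd : 0 < d) (hB : B = (k + 1) * d) :
    (c : ℤ) * d ≤ B := by
  rw [hB]
  have h4 : (c : ℤ) ≤ (k : ℤ) + 1 := by exact_mod_cast hc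
  exact mul_le_mul_of_nonneg_right h4 hd.le

theorem dioph_bound {B d₁ d₂ d₃ : ℤ} {k₁ k₂ k₃ : ℕ} (hk₂ : 1 ≤ k₂) (hk₃ : 1 ≤ k₃)
    (hd₁ : 0 < d₁) (hd₂ : 0 < d₂) (hd₃ : 0 < d₃)
    (hB₁ : B = (k₁ + 1) * d₁) (hB₂ : B = (k₂ + 1) * d₂) (hB₃ : B = (k₃ + 1) * d₃)
    (hs : B = d₁ + d₂ + d₃) : k₁ ≤ 5 := by
  by_contra h
  have h7 := tot_le 7 (by omega) hd₁ hB₁
  have h22 := tot_le 2 (by omega) hd₂ hB₂
  have h23 := tot_le 2 (by omega) hd₃ hB₃
  push_cast at h7 h22 h23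
  rcases Nat.lt_or_ge k₂ 2 with hk | hk
  · rcases Nat.lt_or_ge k₃ 2 with hk' | hk'
    · have e2 : k₂ = 1 := by omega
      have e3 : k₃ = 1 := by omega
      rw [e2] at hB₂
      rw [e3] at hB₃
      push_cast at hB₂ hB₃
      linarith
    · have h33 := tot_le 3 (by omega) hd₃ hB₃
      push_cast at h33
      linarith
  · have h32 := tot_le 3 (by omega) hd₂ hB₂
    push_cast at h32
    linarith

theorem dioph3 {B d₁ d₂ d₃ : ℤ} {k₁ k₂ k₃ : ℕ} (hk₁ : 1 ≤ k₁) (hk₂ : 1 ≤ k₂) (hk₃ : 1 ≤ k₃)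
    (hd₁ : 0 < d₁) (hd₂ : 0 < d₂) (hd₃ : 0 < d₃)
    (hB₁ : B = (k₁ + 1) * d₁) (hB₂ : B = (k₂ + 1) * d₂) (hB₃ : B = (k₃ + 1) * d₃)
    (hs : B = d₁ + d₂ + d₃) :
    (k₁ = 2 ∧ k₂ = 2 ∧ k₃ = 2) ∨ (k₁ = 1 ∧ k₂ = 3 ∧ k₃ = 3) ∨ (k₁ = 3 ∧ k₂ = 1 ∧ k₃ = 3) ∨
    (k₁ = 3 ∧ k₂ = 3 ∧ k₃ = 1) ∨ (k₁ = 1 ∧ k₂ = 2 ∧ k₃ = 5) ∨ (k₁ = 1 ∧ k₂ = 5 ∧ k₃ = 2) ∨
    (k₁ = 2 ∧ k₂ = 1 ∧ k₃ = 5) ∨ (k₁ = 2 ∧ k₂ = 5 ∧ k₃ = 1) ∨ (k₁ = 5 ∧ k₂ = 1 ∧ k₃ = 2) ∨
    (k₁ = 5 ∧ k₂ = 2 ∧ k₃ = 1) := by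
  have b1 : k₁ ≤ 5 := dioph_bound hk₂ hk₃ hd₁ hd₂ hd₃ hB₁ hB₂ hB₃ hs
  have b2 : k₂ ≤ 5 := dioph_bound hk₁ hk₃ hd₂ hd₁ hd₃ hB₂ hB₁ hB₃ (by linarith)
  have b3 : k₃ ≤ 5 := dioph_bound hk₁ hk₂ hd₃ hd₁ hd₂ hB₃ hB₁ hB₂ (by linarith)
  interval_cases k₁ <;> interval_cases k₂ <;> interval_cases k₃ <;> push_cast at hB₁ hB₂ hB₃ <;>
    omega

theorem dioph2 {B d₁ d₂ : ℤ} {k₁ k₂ : ℕ} (hk₁ : 2 ≤ k₁) (hk₂ : 1 ≤ k₂)
    (hd₁ : 0 < d₁) (hd₂ : 0 < d₂)
    (hB₁ : B = (k₁ + 1) * d₁) (hB₂ : B = (k₂ + 1) * d₂) (hs : B = 2 * d₁ + d₂) :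
    (k₁ = 2 ∧ k₂ = 2) ∨ (k₁ = 3 ∧ k₂ = 1) := by
  have h31 := tot_le 3 (by omega) hd₁ hB₁
  have h22 := tot_le 2 (by omega) hd₂ hB₂
  push_cast at h31 h22
  have b1 : k₁ ≤ 3 := by
    by_contra h
    have h5 := tot_le 5 (by omega) hd₁ hB₁
    push_cast at h5
    linarith
  have b2 : k₂ ≤ 2 := by
    by_contra h
    have h4 := tot_le 4 (by omega) hd₂ hB₂
    push_cast at h4
    linarith
  interval_cases k₁ <;> interval_cases k₂ <;> push_cast at hB₁ hB₂ <;> omega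

end Groth.Agent.Lib.Helper6.Aff
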