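import Groth.Agent.Lib.Helper6.AffArm

/-!
# Genus-one numerical types: stars (a centre with up to three arms)
-/

set_option autoImplicit false

namespace Groth.Agent.Lib.Helper6.Aff

open Finset Models

variable {n : ℕ} (T : Models.NumericalType n)

theorem Arm.m_lt {b : Fin n} {x : ℕ → Fin n} {k : ℕ} {d ω : ℤ} (hA : Arm T b x k d ω)
    {i j : ℕ} (hij : i < j) (hj : j ≤ k) : T.m (x j) < T.m (x i) := by
  rw [hA.m_eq j hj, hA.m_eq i (by omega)]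
  have h1 : (i : ℤ) < j := by exact_mod_cast hij
  have h2 : (i : ℤ) * d < j * d := mul_lt_mul_of_pos_right h1 hA.dpos
  linarith

theorem Arm.inj {b : Fin n} {x : ℕ → Fin n} {k : ℕ} {d ω : ℤ} (hA : Arm T b x k d ω)
    {i j : ℕ} (hij : i < j) (hj : j ≤ k) : x i ≠ x j := by
  intro h
  have h1 := hA.m_lt T hij hj
  rw [h] at h1
  exact lt_irrefl _ h1

theorem Arm.ne_center {b : Fin n} {x : ℕ → Fin n} {k : ℕ} {d ω : ℤ} (hA : Arm T b x k d ω)
    {j : ℕ} (h1 : 1 ≤ j) (hj : j ≤ k) : x j ≠ b := by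
  rw [← hA.x0]; exact (hA.inj T (by omega) hj).symm

theorem Arm.ω_pos {b : Fin n} {x : ℕ → Fin n} {k : ℕ} {d ω : ℤ} (hA : Arm T b x k d ω)
    (hk : 1 ≤ k) : 0 < ω := by
  rw [← hA.w_eq 1 le_rfl hk]; exact T.w_pos _

theorem Arm.far {b : Fin n} {x : ℕ → Fin n} {k : ℕ} {d ω : ℤ} (hA : Arm T b x k d ω)
    {i j : ℕ} (hij : i + 2 ≤ j) (hj : j ≤ k) : T.a (x i) (x j) = 0 := by
  obtain ⟨j', rfl⟩ : ∃ j', j = j' + 1 := ⟨j - 1, by omega⟩
  rw [a_symm T (x i) (x (j'+1))]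
  apply hA.nbr j' (by omega) (x i)
  · exact hA.inj T (by omega) hj
  · exact hA.inj T (by omega) (by omega)
  · intro h; exact hA.inj T (by omega) h

theorem Arm.pair {b : Fin n} {x : ℕ → Fin n} {k : ℕ} {d ω : ℤ} (hA : Arm T b x k d ω)
    {p q : ℕ} (hp : p < q) (hq : q ≤ k) :
    x p ≠ x q ∧ T.a (x p) (x q) = if q = p + 1 then ω else 0 := by
  refine ⟨hA.inj T hp hq, ?_⟩
  by_cases h : q = p + 1
  · subst h
    rw [if_pos rfl]
    exact hA.adj p (by omega)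
  · rw [if_neg h]
    exact hA.far T (by omega) hq

theorem Arm.cross_ne {b : Fin n} {x y : ℕ → Fin n} {k k' : ℕ} {d d' ω ω' : ℤ}
    (hA : Arm T b x k d ω) (hB : Arm T b y k' d' ω') (hroot : x 1 ≠ y 1) :
    ∀ i j, 1 ≤ i → i ≤ k → 1 ≤ j → j ≤ k' → x i ≠ y j := by
  intro i
  induction i with
  | zero => intro j h; omega
  | succ i ih =>
    intro j _ hi hj1 hj he
    obtain ⟨j', rfl⟩ : ∃ j', j = j' + 1 := ⟨j - 1, by omega⟩
    have hω : 0 < ω := hA.ω_pos T (by omega)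
    have hne : T.a (y (j'+1)) (x i) ≠ 0 := by
      rw [← he, a_symm T (x (i+1)) (x i), hA.adj i (by omega)]; exact hω.ne'
    have h1 : x i ≠ y (j'+1) := by rw [← he]; exact hA.inj T (by omega) hi
    have hmlt : T.m (y (j'+1)) < T.m (x i) := by rw [← he]; exact hA.m_lt T (by omega) hi
    have h2 : x i = y j' := by
      by_contra hcon
      apply hne
      apply hB.nbr j' (by omega) (x i) h1 hcon
      intro hlt h3
      have h4 := hB.m_lt T (show j'+1 < j'+2 by omega) (by omega)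
      rw [← h3] at h4
      linarith
    rcases Nat.eq_zero_or_pos i with hi0 | hipos
    · subst hi0
      rcases Nat.eq_zero_or_pos j' with hj0 | hjpos
      · subst hj0
        exact hroot he
      · have h5 := hB.ne_center T hjpos (by omega)
        rw [← h2, hA.x0] at h5
        exact h5 rfl
    · rcases Nat.eq_zero_or_pos j' with hj0 | hjpos
      · subst hj0
        have h5 := hA.ne_center T hipos (by omega)
        rw [h2, hB.x0] at h5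
        exact h5 rfl
      · exact ih j' hipos (by omega) hjpos (by omega) h2

theorem Arm.cross {b : Fin n} {x y : ℕ → Fin n} {k k' : ℕ} {d d' ω ω' : ℤ}
    (hA : Arm T b x k d ω) (hB : Arm T b y k' d' ω') (hroot : x 1 ≠ y 1)
    {i j : ℕ} (hi1 : 1 ≤ i) (hi : i ≤ k) (hj1 : 1 ≤ j) (hj : j ≤ k') :
    x i ≠ y j ∧ T.a (x i) (y j) = 0 := by
  refine ⟨hA.cross_ne T hB hroot i j hi1 hi hj1 hj, ?_⟩
  obtain ⟨i', rfl⟩ : ∃ i', i = i' + 1 := ⟨i - 1, by omega⟩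
  apply hA.nbr i' (by omega) (y j)
  · exact (hA.cross_ne T hB hroot (i'+1) j hi1 hi hj1 hj).symm
  · rcases Nat.eq_zero_or_pos i' with h | h
    · subst h; rw [hA.x0]; exact hB.ne_center T hj1 hj
    · exact (hA.cross_ne T hB hroot i' j h (by omega) hj1 hj).symm
  · intro hlt; exact (hA.cross_ne T hB hroot (i'+2) j (by omega) (by omega) hj1 hj).symm

/-- a star: centre `b` with arms (the third possibly empty) -/
structure Star (b : Fin n) (x₁ x₂ x₃ : ℕ → Fin n) (k₁ k₂ k₃ : ℕ)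
    (d₁ d₂ d₃ ω₁ ω₂ ω₃ : ℤ) : Prop where
  a1 : Arm T b x₁ k₁ d₁ ω₁
  a2 : Arm T b x₂ k₂ d₂ ω₂
  a3 : Arm T b x₃ k₃ d₃ ω₃
  k1 : 1 ≤ k₁
  k2 : 1 ≤ k₂
  r12 : x₁ 1 ≠ x₂ 1
  r13 : 1 ≤ k₃ → x₁ 1 ≠ x₃ 1
  r23 : 1 ≤ k₃ → x₂ 1 ≠ x₃ 1
  nbr : ∀ y, y ≠ b → y ≠ x₁ 1 → y ≠ x₂ 1 → (1 ≤ k₃ → y ≠ x₃ 1) → T.a b y = 0

/-- positions of a star: the centre, then the three arms -/
def starPos (b : Fin n) (x₁ x₂ x₃ : ℕ → Fin n) (k₁ k₂ : ℕ) (i : ℕ) : Fin n :=
  if i = 0 then b else if i ≤ k₁ then x₁ i else if i ≤ k₁ + k₂ then x₂ (i - k₁)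
  else x₃ (i - k₁ - k₂)

theorem star_pos {b : Fin n} {x₁ x₂ x₃ : ℕ → Fin n} {k₁ k₂ k₃ : ℕ} {d₁ d₂ d₃ ω₁ ω₂ ω₃ : ℤ}
    (hS : Star T b x₁ x₂ x₃ k₁ k₂ k₃ d₁ d₂ d₃ ω₁ ω₂ ω₃) :
    n = 1 + k₁ + k₂ + k₃ ∧
    (∀ i j, i < j → j < n → starPos b x₁ x₂ x₃ k₁ k₂ i ≠ starPos b x₁ x₂ x₃ k₁ k₂ j) ∧
    (∀ i, i < n → T.m (starPos b x₁ x₂ x₃ k₁ k₂ i) =
      if i = 0 then T.m b else if i ≤ k₁ then T.m b - i * d₁
      else if i ≤ k₁ + k₂ then T.m b - ((i - k₁ : ℕ) : ℤ) * d₂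
      else T.m b - ((i - k₁ - k₂ : ℕ) : ℤ) * d₃) ∧
    (∀ i, i < n → T.w (starPos b x₁ x₂ x₃ k₁ k₂ i) =
      if i = 0 then T.w b else if i ≤ k₁ then ω₁ else if i ≤ k₁ + k₂ then ω₂ else ω₃) ∧
    (∀ i j, i < j → j < n →
      T.a (starPos b x₁ x₂ x₃ k₁ k₂ i) (starPos b x₁ x₂ x₃ k₁ k₂ j) =
      if i = 0 then (if j = 1 then ω₁ else if j = k₁ + 1 then ω₂
        else if j = k₁ + k₂ + 1 then ω₃ else 0)
      else if j = i + 1 ∧ j ≠ k₁ + 1 ∧ j ≠ k₁ + k₂ + 1 then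
        (if i ≤ k₁ then ω₁ else if i ≤ k₁ + k₂ then ω₂ else ω₃) else 0) := by
  classical
  have hk1 := hS.k1
  have hk2 := hS.k2
  have A1 := hS.a1
  have A2 := hS.a2
  have A3 := hS.a3
  obtain ⟨g, hg⟩ : ∃ g, g = starPos b x₁ x₂ x₃ k₁ k₂ := ⟨_, rfl⟩
  rw [← hg]
  have gz0 : g 0 = b := by rw [hg]; unfold starPos; rw [if_pos rfl]
  have gz1 : ∀ p, 1 ≤ p → p ≤ k₁ → g p = x₁ p := by
    intro p h1 h2
    rw [hg]; unfold starPos
    rw [if_neg (by omega), if_pos h2]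
  have gz2 : ∀ p, 1 ≤ p → p ≤ k₂ → g (k₁ + p) = x₂ p := by
    intro p h1 h2
    rw [hg]; unfold starPos
    rw [if_neg (by omega), if_neg (by omega), if_pos (by omega)]
    congr 1; omega
  have gz3 : ∀ p, 1 ≤ p → g (k₁ + k₂ + p) = x₃ p := by
    intro p h1
    rw [hg]; unfold starPos
    rw [if_neg (by omega), if_neg (by omega), if_neg (by omega)]
    congr 1; omega
  have zones : ∀ i, i < 1 + k₁ + k₂ + k₃ → i = 0 ∨ (1 ≤ i ∧ i ≤ k₁) ∨
      (∃ p, 1 ≤ p ∧ p ≤ k₂ ∧ i = k₁ + p) ∨ (∃ p, 1 ≤ p ∧ p ≤ k₃ ∧ i = k₁ + k₂ + p) := by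
    intro i hi
    rcases Nat.eq_zero_or_pos i with h | h
    · exact Or.inl h
    · rcases Nat.lt_or_ge k₁ i with h1 | h1
      · rcases Nat.lt_or_ge (k₁ + k₂) i with h2 | h2
        · exact Or.inr (Or.inr (Or.inr ⟨i - k₁ - k₂, by omega, by omega, by omega⟩))
        · exact Or.inr (Or.inr (Or.inl ⟨i - k₁, by omega, by omega, by omega⟩))
      · exact Or.inr (Or.inl ⟨h, h1⟩)
  have hx10 : x₁ 0 = b := A1.x0
  have hx20 : x₂ 0 = b := A2.x0
  have hx30 : x₃ 0 = b := A3.x0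
  have pair : ∀ i j, i < j → j < 1 + k₁ + k₂ + k₃ → g i ≠ g j ∧ T.a (g i) (g j) =
      (if i = 0 then (if j = 1 then ω₁ else if j = k₁ + 1 then ω₂
        else if j = k₁ + k₂ + 1 then ω₃ else 0)
      else if j = i + 1 ∧ j ≠ k₁ + 1 ∧ j ≠ k₁ + k₂ + 1 then
        (if i ≤ k₁ then ω₁ else if i ≤ k₁ + k₂ then ω₂ else ω₃) else 0) := by
    intro i j hij hj
    rcases zones i (by omega) with rfl | ⟨hp1, hp⟩ | ⟨p, hp1, hp, rfl⟩ | ⟨p, hp1, hp, rfl⟩ <;>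
      rcases zones j hj with rfl | ⟨hq1, hq⟩ | ⟨q, hq1, hq, rfl⟩ | ⟨q, hq1, hq, rfl⟩
    · exfalso; omega
    · -- (0,1)
      rw [gz0, gz1 j hq1 hq, if_pos rfl]
      have h := A1.pair T (show 0 < j by omega) hq
      rw [hx10] at h
      refine ⟨h.1, ?_⟩
      rw [h.2]
      by_cases hq' : j = 1
      · rw [if_pos (show j = 0 + 1 by omega), if_pos hq']
      · rw [if_neg (show ¬ (j = 0 + 1) by omega), if_neg hq',
          if_neg (show ¬ (j = k₁ + 1) by omega), if_neg (show ¬ (j = k₁ + k₂ + 1) by omega)]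
    · -- (0,2)
      rw [gz0, gz2 q hq1 hq, if_pos rfl]
      have h := A2.pair T (show 0 < q by omega) hq
      rw [hx20] at h
      refine ⟨h.1, ?_⟩
      rw [h.2, if_neg (show ¬ (k₁ + q = 1) by omega)]
      by_cases hq' : q = 1
      · rw [if_pos (show q = 0 + 1 by omega), if_pos (show k₁ + q = k₁ + 1 by omega)]
      · rw [if_neg (show ¬ (q = 0 + 1) by omega), if_neg (show ¬ (k₁ + q = k₁ + 1) by omega),
          if_neg (show ¬ (k₁ + q = k₁ + k₂ + 1) by omega)]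
    · -- (0,3)
      rw [gz0, gz3 q hq1, if_pos rfl]
      have h := A3.pair T (show 0 < q by omega) hq
      rw [hx30] at h
      refine ⟨h.1, ?_⟩
      rw [h.2, if_neg (show ¬ (k₁ + k₂ + q = 1) by omega),
        if_neg (show ¬ (k₁ + k₂ + q = k₁ + 1) by omega)]
      by_cases hq' : q = 1
      · rw [if_pos (show q = 0 + 1 by omega), if_pos (show k₁ + k₂ + q = k₁ + k₂ + 1 by omega)]
      · rw [if_neg (show ¬ (q = 0 + 1) by omega),
          if_neg (show ¬ (k₁ + k₂ + q = k₁ + k₂ + 1) by omega)]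
    · exfalso; omega
    · -- (1,1)
      rw [gz1 i hp1 hp, gz1 j hq1 hq, if_neg (show ¬ (i = 0) by omega)]
      have h := A1.pair T hij hq
      refine ⟨h.1, ?_⟩
      rw [h.2]
      by_cases hq' : j = i + 1
      · rw [if_pos hq', if_pos (show j = i + 1 ∧ j ≠ k₁ + 1 ∧ j ≠ k₁ + k₂ + 1 by omega), if_pos hp]
      · rw [if_neg hq', if_neg (show ¬ (j = i + 1 ∧ j ≠ k₁ + 1 ∧ j ≠ k₁ + k₂ + 1) by omega)]
    · -- (1,2)
      rw [gz1 i hp1 hp, gz2 q hq1 hq, if_neg (show ¬ (i = 0) by omega),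
        if_neg (show ¬ (k₁ + q = i + 1 ∧ k₁ + q ≠ k₁ + 1 ∧ k₁ + q ≠ k₁ + k₂ + 1) by omega)]
      exact A1.cross T A2 hS.r12 hp1 hp hq1 hq
    · -- (1,3)
      rw [gz1 i hp1 hp, gz3 q hq1, if_neg (show ¬ (i = 0) by omega),
        if_neg (show ¬ (k₁ + k₂ + q = i + 1 ∧ k₁ + k₂ + q ≠ k₁ + 1 ∧
          k₁ + k₂ + q ≠ k₁ + k₂ + 1) by omega)]
      exact A1.cross T A3 (hS.r13 (by omega)) hp1 hp hq1 hq
    · exfalso; omega
    · exfalso; omega
    · -- (2,2)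
      rw [gz2 p hp1 hp, gz2 q hq1 hq, if_neg (show ¬ (k₁ + p = 0) by omega)]
      have h := A2.pair T (show p < q by omega) hq
      refine ⟨h.1, ?_⟩
      rw [h.2]
      by_cases hq' : q = p + 1
      · rw [if_pos hq', if_pos (show k₁ + q = k₁ + p + 1 ∧ k₁ + q ≠ k₁ + 1 ∧
          k₁ + q ≠ k₁ + k₂ + 1 by omega), if_neg (show ¬ (k₁ + p ≤ k₁) by omega),
          if_pos (show k₁ + p ≤ k₁ + k₂ by omega)]
      · rw [if_neg hq', if_neg (show ¬ (k₁ + q = k₁ + p + 1 ∧ k₁ + q ≠ k₁ + 1 ∧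
          k₁ + q ≠ k₁ + k₂ + 1) by omega)]
    · -- (2,3)
      rw [gz2 p hp1 hp, gz3 q hq1, if_neg (show ¬ (k₁ + p = 0) by omega),
        if_neg (show ¬ (k₁ + k₂ + q = k₁ + p + 1 ∧ k₁ + k₂ + q ≠ k₁ + 1 ∧
          k₁ + k₂ + q ≠ k₁ + k₂ + 1) by omega)]
      exact A2.cross T A3 (hS.r23 (by omega)) hp1 hp hq1 hq
    · exfalso; omega
    · exfalso; omega
    · exfalso; omega
    · -- (3,3)
      rw [gz3 p hp1, gz3 q hq1, if_neg (show ¬ (k₁ + k₂ + p = 0) by omega)]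
      have h := A3.pair T (show p < q by omega) hq
      refine ⟨h.1, ?_⟩
      rw [h.2]
      by_cases hq' : q = p + 1
      · rw [if_pos hq', if_pos (show k₁ + k₂ + q = k₁ + k₂ + p + 1 ∧ k₁ + k₂ + q ≠ k₁ + 1 ∧
          k₁ + k₂ + q ≠ k₁ + k₂ + 1 by omega), if_neg (show ¬ (k₁ + k₂ + p ≤ k₁) by omega),
          if_neg (show ¬ (k₁ + k₂ + p ≤ k₁ + k₂) by omega)]
      · rw [if_neg hq', if_neg (show ¬ (k₁ + k₂ + q = k₁ + k₂ + p + 1 ∧ k₁ + k₂ + q ≠ k₁ + 1 ∧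
          k₁ + k₂ + q ≠ k₁ + k₂ + 1) by omega)]
  have hmv : ∀ i, i < 1 + k₁ + k₂ + k₃ → T.m (g i) =
      if i = 0 then T.m b else if i ≤ k₁ then T.m b - i * d₁
      else if i ≤ k₁ + k₂ then T.m b - ((i - k₁ : ℕ) : ℤ) * d₂
      else T.m b - ((i - k₁ - k₂ : ℕ) : ℤ) * d₃ := by
    intro i hi
    rcases zones i hi with rfl | ⟨hp1, hp⟩ | ⟨p, hp1, hp, rfl⟩ | ⟨p, hp1, hp, rfl⟩
    · rw [gz0, if_pos rfl]
    · rw [gz1 i hp1 hp, if_neg (show ¬ (i = 0) by omega), if_pos hp]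
      exact A1.m_eq i hp
    · rw [gz2 p hp1 hp, if_neg (show ¬ (k₁ + p = 0) by omega),
        if_neg (show ¬ (k₁ + p ≤ k₁) by omega), if_pos (show k₁ + p ≤ k₁ + k₂ by omega)]
      have : k₁ + p - k₁ = p := by omega
      rw [this]
      exact A2.m_eq p hp
    · rw [gz3 p hp1, if_neg (show ¬ (k₁ + k₂ + p = 0) by omega),
        if_neg (show ¬ (k₁ + k₂ + p ≤ k₁) by omega),
        if_neg (show ¬ (k₁ + k₂ + p ≤ k₁ + k₂) by omega)]
      have : k₁ + k₂ + p - k₁ - k₂ = p := by omega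
      rw [this]
      exact A3.m_eq p hp
  have hwv : ∀ i, i < 1 + k₁ + k₂ + k₃ → T.w (g i) =
      if i = 0 then T.w b else if i ≤ k₁ then ω₁ else if i ≤ k₁ + k₂ then ω₂ else ω₃ := by
    intro i hi
    rcases zones i hi with rfl | ⟨hp1, hp⟩ | ⟨p, hp1, hp, rfl⟩ | ⟨p, hp1, hp, rfl⟩
    · rw [gz0, if_pos rfl]
    · rw [gz1 i hp1 hp, if_neg (show ¬ (i = 0) by omega), if_pos hp]
      exact A1.w_eq i hp1 hp
    · rw [gz2 p hp1 hp, if_neg (show ¬ (k₁ + p = 0) by omega),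
        if_neg (show ¬ (k₁ + p ≤ k₁) by omega), if_pos (show k₁ + p ≤ k₁ + k₂ by omega)]
      exact A2.w_eq p hp1 hp
    · rw [gz3 p hp1, if_neg (show ¬ (k₁ + k₂ + p = 0) by omega),
        if_neg (show ¬ (k₁ + k₂ + p ≤ k₁) by omega),
        if_neg (show ¬ (k₁ + k₂ + p ≤ k₁ + k₂) by omega)]
      exact A3.w_eq p hp1 hp
  -- closure
  let S : Finset (Fin n) := (Finset.range (1 + k₁ + k₂ + k₃)).image g
  have hmem : ∀ k, k < 1 + k₁ + k₂ + k₃ → g k ∈ S :=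
    fun k hk => Finset.mem_image.2 ⟨k, Finset.mem_range.2 hk, rfl⟩
  have hb_mem : b ∈ S := by rw [← gz0]; exact hmem 0 (by omega)
  have h1_mem : ∀ p, p ≤ k₁ → x₁ p ∈ S := by
    intro p hp
    rcases Nat.eq_zero_or_pos p with h | h
    · rw [h, hx10]; exact hb_mem
    · rw [← gz1 p h hp]; exact hmem _ (by omega)
  have h2_mem : ∀ p, p ≤ k₂ → x₂ p ∈ S := by
    intro p hp
    rcases Nat.eq_zero_or_pos p with h | h
    · rw [h, hx20]; exact hb_mem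
    · rw [← gz2 p h hp]; exact hmem _ (by omega)
  have h3_mem : ∀ p, p ≤ k₃ → x₃ p ∈ S := by
    intro p hp
    rcases Nat.eq_zero_or_pos p with h | h
    · rw [h, hx30]; exact hb_mem
    · rw [← gz3 p h]; exact hmem _ (by omega)
  have arm_closed : ∀ {x : ℕ → Fin n} {k : ℕ} {d ω : ℤ}, Arm T b x k d ω →
      (∀ p, p ≤ k → x p ∈ S) → ∀ p, 1 ≤ p → p ≤ k → ∀ y, y ≠ x p → T.a (x p) y ≠ 0 → y ∈ S := by
    intro x k d ω hA hmemx p hp1 hp y hy hay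
    obtain ⟨p', rfl⟩ : ∃ p', p = p' + 1 := ⟨p - 1, by omega⟩
    by_contra hyS
    apply hay
    apply hA.nbr p' (by omega) y hy
    · intro he; exact hyS (he ▸ hmemx p' (by omega))
    · intro hlt he; exact hyS (he ▸ hmemx (p'+2) (by omega))
  have hclosed : ∀ i ∈ S, ∀ y, y ≠ i → T.a i y ≠ 0 → y ∈ S := by
    intro i hi y hyi hay
    obtain ⟨q, hq, rfl⟩ := Finset.mem_image.1 hi
    have hq' := Finset.mem_range.1 hq
    rcases zones q hq' with rfl | ⟨hp1, hp⟩ | ⟨p, hp1, hp, rfl⟩ | ⟨p, hp1, hp, rfl⟩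
    · rw [gz0] at hyi hay
      by_contra hyS
      apply hay
      apply hS.nbr y hyi
      · intro he; exact hyS (he ▸ h1_mem 1 hk1)
      · intro he; exact hyS (he ▸ h2_mem 1 hk2)
      · intro hk3 he; exact hyS (he ▸ h3_mem 1 hk3)
    · rw [gz1 q hp1 hp] at hyi hay
      exact arm_closed A1 h1_mem q hp1 hp y hyi hay
    · rw [gz2 p hp1 hp] at hyi hay
      exact arm_closed A2 h2_mem p hp1 hp y hyi hay
    · rw [gz3 p hp1] at hyi hay
      exact arm_closed A3 h3_mem p hp1 hp y hyi hay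
  have hSu : S = univ := eq_univ_of_closed T S ⟨b, hb_mem⟩ hclosed
  have hcard : S.card = 1 + k₁ + k₂ + k₃ := by
    rw [Finset.card_image_of_injOn, Finset.card_range]
    intro a ha c hc hac
    have ha' : a < 1 + k₁ + k₂ + k₃ := by simpa using ha
    have hc' : c < 1 + k₁ + k₂ + k₃ := by simpa using hc
    rcases Nat.lt_trichotomy a c with h | h | h
    · exact absurd hac (pair a c h hc').1
    · exact h
    · exact absurd hac.symm (pair c a h ha').1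
  have hn : n = 1 + k₁ + k₂ + k₃ := by
    have h3 := congrArg Finset.card hSu
    rw [hcard, Finset.card_univ, Fintype.card_fin] at h3
    omega
  exact ⟨hn, fun i j hij hj => (pair i j hij (by omega)).1, fun i hi => hmv i (by omega),
    fun i hi => hwv i (by omega), fun i j hij hj => (pair i j hij (by omega)).2⟩

end Groth.Agent.Lib.Helper6.Aff
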