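import Groth.Agent.Lib.Helper6.AffHalf

/-!
# Genus-one numerical types: spine steps, terminals, walks
-/

set_option autoImplicit false

namespace Groth.Agent.Lib.Helper6.Aff

open Finset Models

variable {n : ℕ} (T : Models.NumericalType n)

/-- a spine step: simple edge between two vertices of equal weight and multiplicity -/
def Step (u v : Fin n) : Prop := u ≠ v ∧ T.a u v = T.w u ∧ T.w v = T.w u ∧ T.m v = T.m u

theorem Step.symm {u v : Fin n} (h : Step T u v) : Step T v u :=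
  ⟨h.1.symm, by rw [a_symm T v u, h.2.1, h.2.2.1], h.2.2.1.symm, h.2.2.2.symm⟩

theorem Step.a_ne {u v : Fin n} (h : Step T u v) : T.a u v ≠ 0 := by
  rw [h.2.1]; exact (T.w_pos u).ne'

theorem Step.a_ne' {u v : Fin n} (h : Step T u v) : T.a v u ≠ 0 := by
  rw [a_symm T v u]; exact Step.a_ne T h

/-- kinds of terminals -/
inductive Kind
  | e1 | e2 | e3
  deriving DecidableEq

/-- number of leaves -/
def Kind.ell : Kind → ℕ
  | .e1 => 1
  | .e2 => 1
  | .e3 => 2

@[simp] theorem Kind.ell_e1 : Kind.e1.ell = 1 := rfl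
@[simp] theorem Kind.ell_e2 : Kind.e2.ell = 1 := rfl
@[simp] theorem Kind.ell_e3 : Kind.e3.ell = 2 := rfl

/-- relation between the spine values `(M, W)` and the leaf values `(μ, ω, α)` -/
def Kind.Rel : Kind → ℤ → ℤ → ℤ → ℤ → ℤ → Prop
  | .e1, M, W, μ, ω, α => μ = M ∧ W = 2 * ω ∧ α = W
  | .e2, M, W, μ, ω, α => M = 2 * μ ∧ ω = 2 * W ∧ α = 2 * W
  | .e3, M, W, μ, ω, α => M = 2 * μ ∧ ω = W ∧ α = W

/-- a terminal at `z` -/
structure Term (z : Fin n) (κ : Kind) (lf : ℕ → Fin n) (μ ω α : ℤ) : Prop where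
  ne : ∀ i, i < κ.ell → lf i ≠ z
  leaf : ∀ i, i < κ.ell → LeafAt T (lf i) z
  m_eq : ∀ i, i < κ.ell → T.m (lf i) = μ
  w_eq : ∀ i, i < κ.ell → T.w (lf i) = ω
  a_eq : ∀ i, i < κ.ell → T.a z (lf i) = α
  inj : ∀ i j, i < j → j < κ.ell → lf i ≠ lf j
  rel : κ.Rel (T.m z) (T.w z) μ ω α

theorem Term.a_pos {z : Fin n} {κ : Kind} {lf : ℕ → Fin n} {μ ω α : ℤ}
    (h : Term T z κ lf μ ω α) : 0 < α := by
  have hw := T.w_pos z
  have hr := h.rel
  cases κ
  · obtain ⟨-, -, h3⟩ := hr; rw [h3]; exact hw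
  · obtain ⟨-, -, h3⟩ := hr; rw [h3]; linarith
  · obtain ⟨-, -, h3⟩ := hr; rw [h3]; exact hw

theorem half_lemma' (hd : ∀ i, T.a i i = -2 * T.w i) (z : Fin n) (K : Finset (Fin n))
    (hz : z ∉ K) (hK : ∑ j ∈ K, T.a z j * T.m j = T.w z * T.m z) :
    (∃ u, u ∉ K ∧ u ≠ z ∧ Step T z u ∧ ∀ y, y ∉ K → y ≠ z → y ≠ u → T.a z y = 0) ∨
    (∃ κ lf μ ω α, Term T z κ lf μ ω α ∧ (∀ i, i < κ.ell → lf i ∉ K) ∧
        ∀ y, y ∉ K → y ≠ z → (∀ i, i < κ.ell → y ≠ lf i) → T.a z y = 0) := by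
  rcases half_lemma T hd z K hz hK with ⟨t, htK, htz, ha, hw, hm, hcl⟩ |
    ⟨t, htK, htz, ha, hw, hm, hcl, hlf⟩ | ⟨t, htK, htz, ha, hw, hm, hcl, hlf⟩ |
    ⟨t, t', htK, ht'K, htz, ht'z, htt', ha, ha', hw, hw', hm, hm', hcl, hlf, hlf'⟩
  · exact Or.inl ⟨t, htK, htz, ⟨Ne.symm htz, ha, hw, hm⟩, hcl⟩
  · refine Or.inr ⟨.e1, fun _ => t, T.m t, T.w t, T.a z t, ⟨fun _ _ => htz, fun _ _ => hlf,
      fun _ _ => rfl, fun _ _ => rfl, fun _ _ => rfl, ?_, ⟨hm, hw, ha⟩⟩, fun _ _ => htK, ?_⟩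
    · intro i j hij hj
      simp only [Kind.ell_e1] at hj
      omega
    · intro y hyK hyz hy
      exact hcl y hyK hyz (hy 0 (by simp))
  · refine Or.inr ⟨.e2, fun _ => t, T.m t, T.w t, T.a z t, ⟨fun _ _ => htz, fun _ _ => hlf,
      fun _ _ => rfl, fun _ _ => rfl, fun _ _ => rfl, ?_, ⟨hm.symm, hw, ha⟩⟩, fun _ _ => htK, ?_⟩
    · intro i j hij hj
      simp only [Kind.ell_e2] at hj
      omega
    · intro y hyK hyz hy
      exact hcl y hyK hyz (hy 0 (by simp))
  · refine Or.inr ⟨.e3, fun i => if i = 0 then t else t', T.m t, T.w z, T.w z, ⟨?_, ?_, ?_, ?_, ?_,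
      ?_, ⟨hm.symm, rfl, rfl⟩⟩, ?_, ?_⟩
    · intro i _
      split_ifs
      · exact htz
      · exact ht'z
    · intro i _
      split_ifs
      · exact hlf
      · exact hlf'
    · intro i _
      split_ifs
      · rfl
      · linarith
    · intro i _
      split_ifs
      · exact hw
      · exact hw'
    · intro i _
      split_ifs
      · exact ha
      · exact ha'
    · intro i j hij hj
      simp only [Kind.ell_e3] at hj
      have hi0 : i = 0 := by omega
      have hj1 : j = 1 := by omega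
      subst hi0 hj1
      simpa using htt'
    · intro i _
      show (if i = 0 then t else t') ∉ K
      split_ifs
      · exact htK
      · exact ht'K
    · intro y hyK hyz hy
      refine hcl y hyK hyz ?_ ?_
      · simpa using hy 0 (by simp)
      · simpa using hy 1 (by simp)

/-! ### The walk -/

open Classical in
/-- some neighbour of `z` other than `p` (junk value `z` if there is none) -/
noncomputable def nxt1 (p z : Fin n) : Fin n :=
  if h : ∃ t, t ≠ p ∧ t ≠ z ∧ T.a z t ≠ 0 then h.choose else z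

theorem nxt1_eq {p z u : Fin n} (hup : u ≠ p) (huz : u ≠ z) (ha : T.a z u ≠ 0)
    (hnb : ∀ y, y ≠ z → y ≠ p → y ≠ u → T.a z y = 0) : nxt1 T p z = u := by
  have h : ∃ t, t ≠ p ∧ t ≠ z ∧ T.a z t ≠ 0 := ⟨u, hup, huz, ha⟩
  unfold nxt1
  rw [dif_pos h]
  obtain ⟨h1, h2, h3⟩ := h.choose_spec
  by_contra hne
  exact h3 (hnb _ h2 h1 hne)

/-- the walk as a sequence of (previous, current) pairs -/
noncomputable def sq (p t : Fin n) : ℕ → Fin n × Fin n
  | 0 => (p, t)
  | k+1 => ((sq p t k).2, nxt1 T (sq p t k).1 (sq p t k).2)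

/-- the walk -/
noncomputable def xs (p t : Fin n) (k : ℕ) : Fin n := (sq T p t k).1

theorem xs_zero (p t : Fin n) : xs T p t 0 = p := rfl
theorem xs_one (p t : Fin n) : xs T p t 1 = t := rfl
theorem xs_succ_succ (p t : Fin n) (k : ℕ) :
    xs T p t (k+2) = nxt1 T (xs T p t k) (xs T p t (k+1)) := rfl

/-- continuation at `z` coming from `p` -/
def Cont (p z u : Fin n) : Prop :=
  u ≠ p ∧ u ≠ z ∧ Step T z u ∧ ∀ y, y ≠ z → y ≠ p → y ≠ u → T.a z y = 0

/-- `x 0, …, x R` is a chain of spine steps whose interior vertices have no other neighbours -/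
structure Chain (x : ℕ → Fin n) (R : ℕ) : Prop where
  step : ∀ k, k < R → Step T (x k) (x (k+1))
  inner : ∀ k, k + 2 ≤ R → x (k+2) ≠ x k ∧
    ∀ y, y ≠ x (k+1) → y ≠ x k → y ≠ x (k+2) → T.a (x (k+1)) y = 0

theorem chain_of_cont (p t : Fin n) (h0 : Step T p t) (k : ℕ)
    (hc : ∀ j, j < k → ∃ v, Cont T (xs T p t j) (xs T p t (j+1)) v) :
    Chain T (xs T p t) (k+1) := by
  induction k with
  | zero =>
    refine ⟨?_, ?_⟩
    · intro k hk
      have : k = 0 := by omega
      subst this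
      exact h0
    · intro k hk; omega
  | succ k ih =>
    have ihC := ih (fun j hj => hc j (by omega))
    obtain ⟨v, hvp, hvz, hstep, hcl⟩ := hc k (by omega)
    have hx : xs T p t (k+2) = v := by
      rw [xs_succ_succ]
      exact nxt1_eq T hvp hvz (Step.a_ne T hstep) hcl
    refine ⟨?_, ?_⟩
    · intro k' hk'
      rcases Nat.lt_or_ge k' (k+1) with h | h
      · exact ihC.step k' h
      · have : k' = k + 1 := by omega
        subst this
        show Step T (xs T p t (k+1)) (xs T p t (k+2))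
        rw [hx]
        exact hstep
    · intro k' hk'
      rcases Nat.lt_or_ge (k'+2) (k+2) with h | h
      · exact ihC.inner k' (by omega)
      · have : k' = k := by omega
        subst this
        rw [hx]
        exact ⟨hvp, hcl⟩

theorem pigeon (x : ℕ → Fin n) : ∃ j, j ≤ n ∧ ∃ i, i < j ∧ x i = x j := by
  have h := Fintype.exists_ne_map_eq_of_card_lt (fun i : Fin (n+1) => x i.val) (by simp)
  obtain ⟨a, b, hab, he⟩ := h
  have hne : a.val ≠ b.val := fun h => hab (Fin.ext h)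
  rcases lt_or_gt_of_ne hne with h | h
  · exact ⟨b.val, by omega, a.val, h, he⟩
  · exact ⟨a.val, by omega, b.val, h, he.symm⟩

theorem first_repeat {x : ℕ → Fin n} {R : ℕ} (hC : Chain T x R)
    (hrep : ∃ j, j ≤ R ∧ ∃ i, i < j ∧ x i = x j) :
    ∃ j, 1 ≤ j ∧ j ≤ R ∧ x j = x 0 ∧ ∀ i i', i < i' → i' < j → x i ≠ x i' := by
  classical
  obtain ⟨j, ⟨hjR, i, hij, hxij⟩, hminj⟩ :
      ∃ j, (j ≤ R ∧ ∃ i, i < j ∧ x i = x j) ∧ ∀ j', j' < j → ¬ (j' ≤ R ∧ ∃ i, i < j' ∧ x i = x j') :=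
    ⟨Nat.find hrep, Nat.find_spec hrep, fun j' h => Nat.find_min hrep h⟩
  have hmin : ∀ i i', i < i' → i' < j → x i ≠ x i' := by
    intro i i' h1 h2 he
    exact hminj i' h2 ⟨by omega, i, h1, he⟩
  refine ⟨j, by omega, hjR, ?_, hmin⟩
  rcases Nat.eq_zero_or_pos i with h0 | hpos
  · rw [← hxij, h0]
  · exfalso
    obtain ⟨k, rfl⟩ : ∃ k, i = k + 1 := ⟨i - 1, by omega⟩
    obtain ⟨l, rfl⟩ : ∃ l, j = l + 1 := ⟨j - 1, by omega⟩
    have hstep_i := hC.step (k+1) (by omega)
    have hi1 : k + 1 < l := by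
      rcases Nat.lt_or_ge (k+1) l with h | h
      · exact h
      · exfalso
        have : l = k + 1 := by omega
        subst this
        exact hstep_i.1 hxij
    have hstep_j := hC.step l (by omega)
    obtain ⟨hskip, hin⟩ := hC.inner k (by omega)
    have hne : T.a (x (k+1)) (x l) ≠ 0 := by
      rw [hxij]; exact Step.a_ne' T hstep_j
    have h1 : x l ≠ x (k+1) := by rw [hxij]; exact hstep_j.1
    by_cases hA : x l = x k
    · exact hmin k l (by omega) (by omega) hA.symm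
    · by_cases hB : x l = x (k+2)
      · rcases Nat.lt_or_ge (k+2) l with h | h
        · exact hmin (k+2) l h (by omega) hB.symm
        · have : l = k + 2 := by omega
          subst this
          have h3 := (hC.inner (k+1) (by omega)).1
          exact h3 hxij.symm
      · exact hne (hin _ h1 hA hB)

theorem no_return {x : ℕ → Fin n} {R j : ℕ} (hC : Chain T x R) (hj1 : 1 ≤ j) (hjR : j ≤ R)
    (hx : x j = x 0) (hinj : ∀ i i', i < i' → i' < j → x i ≠ x i')
    {κ : Kind} {lf : ℕ → Fin n} {μ ω α : ℤ} (ht : Term T (x 0) κ lf μ ω α)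
    (h1 : ∀ i, i < κ.ell → x 1 ≠ lf i)
    (hnb : ∀ y, y ≠ x 0 → (∀ i, i < κ.ell → y ≠ lf i) → y ≠ x 1 → T.a (x 0) y = 0) : False := by
  obtain ⟨l, rfl⟩ : ∃ l, j = l + 1 := ⟨j - 1, by omega⟩
  have hstep := hC.step l (by omega)
  have hne : T.a (x 0) (x l) ≠ 0 := by rw [← hx]; exact Step.a_ne' T hstep
  have hl0 : x l ≠ x 0 := by rw [← hx]; exact hstep.1
  by_cases hA : x l = x 1
  · rcases Nat.lt_trichotomy l 1 with h | h | h
    · have : l = 0 := by omega
      subst this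
      exact (hC.step 0 (by omega)).1 hA
    · subst h
      exact (hC.inner 0 (by omega)).1 hx
    · exact hinj 1 l h (by omega) hA.symm
  · by_cases hB : ∃ i, i < κ.ell ∧ x l = lf i
    · obtain ⟨i, hi, hxl⟩ := hB
      rcases Nat.eq_zero_or_pos l with h0 | hpos
      · subst h0
        exact ht.ne i hi hxl.symm
      · obtain ⟨l', rfl⟩ : ∃ l', l = l' + 1 := ⟨l - 1, by omega⟩
        have hstep' := hC.step l' (by omega)
        have hne' : T.a (lf i) (x l') ≠ 0 := by rw [← hxl]; exact Step.a_ne' T hstep'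
        have hl' : x l' ≠ lf i := by rw [← hxl]; exact hstep'.1
        have hx0 : x l' = x 0 := by
          by_contra hcon
          exact hne' (ht.leaf i hi (x l') hl' hcon)
        rcases Nat.eq_zero_or_pos l' with h0 | hpos'
        · subst h0
          exact h1 i hi hxl
        · exact hinj 0 l' hpos' (by omega) hx0.symm
    · push Not at hB
      exact hne (hnb (x l) hl0 (fun i hi => hB i hi) hA)

end Groth.Agent.Lib.Helper6.Aff
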