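import Mathlib
import Groth.Prelude.Def_RelProj3
import Groth.Agent.Lib.Helper6.GrModFracA

/-!
# Bijectivity of `α_n : M_n → Γ(Proj A, M(n)~)` in algebraic terms; localization (helper6)

For a graded ring `𝒜` and a graded module `ℳ`:
* `AInj 𝒜 ℳ n`: a homogeneous element of degree `n` killed by powers of all elements of the
  irrelevant ideal vanishes  (`⟺ α_n` injective);
* `IsCov 𝒜 f d`: a finite family of homogeneous elements of positive degrees generating the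
  irrelevant ideal up to radical;
* `ASurjC ℳ f d n`: every compatible family of fractions `μ i / f i ^ L i` of degree `n` comes
  from an element of `ℳ n` (`⟺ α_n` surjective).
Both properties pass to the localization at an element of degree zero (`ainj_loc`, `asurj_loc`).
-/

set_option autoImplicit false
set_option linter.style.haveILetI false
set_option linter.unusedSectionVars false
set_option linter.unusedVariables false
universe u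
open DirectSum CategoryTheory CategoryTheory.Limits AlgebraicGeometry Opposite TopologicalSpace
open scoped HomogeneousIdeal

namespace Groth.Agent.Helper6.AlphaLoc

open Groth.Agent.Helper6.GrModFrac

section OneRing

variable {A σ : Type u} [CommRing A] [SetLike σ A] [AddSubgroupClass σ A] (𝒜 : ℕ → σ)
  [GradedRing 𝒜]
variable {M τ : Type u} [AddCommGroup M] [Module A M] [SetLike τ M] [AddSubgroupClass τ M]
  (ℳ : ℕ → τ) [DirectSum.Decomposition ℳ] [SetLike.GradedSMul 𝒜 ℳ]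

/-- the radical of the annihilator of an element. -/
def rann (m : M) : Ideal A := (ann (A := A) m).radical

theorem mem_rann {m : M} {a : A} : a ∈ rann (A := A) m ↔ ∃ K : ℕ, a ^ K • m = 0 := by
  constructor
  · rintro ⟨K, hK⟩
    exact ⟨K, mem_ann.1 hK⟩
  · rintro ⟨K, hK⟩
    exact ⟨K, mem_ann.2 hK⟩

/-- homogeneous elements of degree `n` killed by powers of the irrelevant ideal vanish. -/
def AInj (n : ℕ) : Prop :=
  ∀ m : M, m ∈ ℳ n → (HomogeneousIdeal.irrelevant 𝒜).toIdeal ≤ rann (A := A) m → m = 0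

/-- a family of homogeneous elements of positive degrees covering `Proj`. -/
structure IsCov {ι : Type} (f : ι → A) (d : ι → ℕ) : Prop where
  pos : ∀ i, 0 < d i
  mem : ∀ i, f i ∈ 𝒜 (d i)
  le : (HomogeneousIdeal.irrelevant 𝒜).toIdeal ≤ (Ideal.span (Set.range f)).radical

/-- compatible families of fractions of degree `n` come from elements of degree `n`. -/
def ASurjC {ι : Type} (f : ι → A) (d : ι → ℕ) (n : ℕ) : Prop :=
  ∀ (L : ι → ℕ) (μ : ι → M), (∀ i, μ i ∈ ℳ (n + L i * d i)) →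
    (∀ i k, ∃ E : ℕ, (f i * f k) ^ E • (f k ^ L k • μ i - f i ^ L i • μ k) = 0) →
    ∃ m : M, m ∈ ℳ n ∧ ∀ i, ∃ E : ℕ, f i ^ E • (f i ^ L i • m - μ i) = 0

variable {𝒜} in
theorem IsCov.exists_notMem {ι : Type} {f : ι → A} {d : ι → ℕ} (h : IsCov 𝒜 f d)
    (x : ProjectiveSpectrum 𝒜) : ∃ i, f i ∉ x.asHomogeneousIdeal := by
  by_contra hcon
  push Not at hcon
  refine x.not_irrelevant_le (SetLike.le_def.2 fun a ha => ?_)
  have h1 : a ∈ (Ideal.span (Set.range f)).radical :=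
    h.le (show a ∈ (HomogeneousIdeal.irrelevant 𝒜).toIdeal from ha)
  have h2 : (Ideal.span (Set.range f)).radical ≤ x.asHomogeneousIdeal.toIdeal := by
    rw [x.isPrime.radical_le_iff, Ideal.span_le]
    rintro _ ⟨i, rfl⟩
    exact hcon i
  exact h2 h1

theorem exists_isCov [IsNoetherianRing A] :
    ∃ (r : ℕ) (f : Fin r → A) (d : Fin r → ℕ), IsCov 𝒜 f d := by
  classical
  have hfg : ((HomogeneousIdeal.irrelevant 𝒜).toIdeal).FG := IsNoetherian.noetherian _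
  rw [HomogeneousIdeal.irrelevant_eq_span] at hfg
  obtain ⟨s, hs, hspan⟩ := (Submodule.fg_span_iff_fg_span_finset_subset _).1 hfg
  have hdeg : ∀ a : s, ∃ e : ℕ, 0 < e ∧ (a : A) ∈ 𝒜 e := by
    intro a
    have := hs a.2
    simp only [Set.mem_iUnion, SetLike.mem_coe, exists_prop] at this
    exact this
  choose e he hae using hdeg
  refine ⟨s.card, fun i => ((s.equivFin.symm i : s) : A), fun i => e (s.equivFin.symm i),
    ⟨fun i => he _, fun i => hae _, ?_⟩⟩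
  have h1 : (HomogeneousIdeal.irrelevant 𝒜).toIdeal ≤ Ideal.span (s : Set A) := by
    rw [HomogeneousIdeal.irrelevant_eq_span]
    exact hspan.le
  refine h1.trans ((Ideal.span_mono ?_).trans Ideal.le_radical)
  intro a ha
  exact ⟨s.equivFin ⟨a, ha⟩, by simp⟩

/-- a homogeneous element whose germs all vanish is killed by a power of every homogeneous
element of positive degree. -/
theorem kill {n : ℕ} {m : M} (hm : m ∈ ℳ n)
    (h0 : ∀ y : ProjectiveSpectrum 𝒜,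
      (LocalizedModule.mk m 1 : GrMod.LocMod 𝒜 (M := M) y) = 0)
    {e : ℕ} (he : 0 < e) {g : A} (hg : g ∈ 𝒜 e) : ∃ K : ℕ, g ^ K • m = 0 := by
  refine exists_pow_smul_eq_zero 𝒜 ℳ he hg hm (fun y _ => ?_)
  have h1 := h0 y
  rw [← LocalizedModule.zero_mk 1, LocalizedModule.mk_eq] at h1
  obtain ⟨t, ht⟩ := h1
  refine ⟨t.1, t.2, ?_⟩
  rw [one_smul, smul_zero, smul_zero] at ht
  exact ht

theorem smul_mem_deg {a : A} {x : M} {i j k : ℕ} (ha : a ∈ 𝒜 i) (hx : x ∈ ℳ j)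
    (e : i + j = k) : a • x ∈ ℳ k := by
  subst e
  exact SetLike.GradedSMul.smul_mem ha hx

theorem pow_smul_mem_deg {a : A} {x : M} {i j k : ℕ} (L : ℕ) (ha : a ∈ 𝒜 i) (hx : x ∈ ℳ j)
    (e : L * i + j = k) : a ^ L • x ∈ ℳ k := by
  refine smul_mem_deg 𝒜 ℳ (SetLike.pow_mem_graded L ha) hx ?_
  rw [smul_eq_mul]
  exact e

theorem gpow_smul_mem {g : A} (hg : g ∈ 𝒜 0) (j : ℕ) {i : ℕ} {m : M} (hm : m ∈ ℳ i) :
    g ^ j • m ∈ ℳ i :=
  pow_smul_mem_deg 𝒜 ℳ j hg hm (by rw [Nat.mul_zero, Nat.zero_add])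

theorem ainj_of_injective (n : ℕ) (h : Function.Injective (GrMod.alpha 𝒜 ℳ n)) :
    AInj 𝒜 ℳ n := by
  intro m hm hle
  have h0' : (GrMod.globalOf 𝒜 ℳ (⟨m, hm⟩ : ℳ n) : GrMod.sect 𝒜 ℳ (n : ℤ) (op ⊤)) = 0 := by
    refine Subtype.ext (funext fun y => Subtype.ext ?_)
    change (LocalizedModule.mk m 1 : GrMod.LocMod 𝒜 (M := M) y.1) = 0
    obtain ⟨p, hp, hpy⟩ := SetLike.not_le_iff_exists.1 y.1.not_irrelevant_le
    obtain ⟨K, hK⟩ := mem_rann.1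
      (hle (show p ∈ (HomogeneousIdeal.irrelevant 𝒜).toIdeal from hp))
    rw [← LocalizedModule.zero_mk 1, LocalizedModule.mk_eq]
    refine ⟨⟨p ^ K, pow_mem_primeCompl 𝒜 y.1 hpy K⟩, ?_⟩
    rw [one_smul, smul_zero, smul_zero]
    exact hK
  have h0 : GrMod.alpha 𝒜 ℳ n ⟨m, hm⟩ = 0 := h0'
  have h1 := h (h0.trans (map_zero _).symm)
  exact (congrArg Subtype.val h1).trans (ZeroMemClass.coe_zero _)

theorem injective_of_ainj (n : ℕ) (h : AInj 𝒜 ℳ n) :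
    Function.Injective (GrMod.alpha 𝒜 ℳ n) := by
  rw [injective_iff_map_eq_zero]
  intro m hm0
  have hm0' : (GrMod.globalOf 𝒜 ℳ m : GrMod.sect 𝒜 ℳ (n : ℤ) (op ⊤)) = 0 := hm0
  have h0 : ∀ y : ProjectiveSpectrum 𝒜,
      (LocalizedModule.mk (m : M) 1 : GrMod.LocMod 𝒜 (M := M) y) = 0 := by
    intro y
    exact congrArg (fun s : GrMod.sect 𝒜 ℳ (n : ℤ) (op ⊤) =>
      ((s.1 ⟨y, trivial⟩ : GrMod.tildeAt 𝒜 ℳ (n : ℤ) y) : GrMod.LocMod 𝒜 (M := M) y)) hm0'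
  have h1 : (m : M) = 0 := by
    refine h m m.2 ?_
    rw [HomogeneousIdeal.toIdeal_irrelevant_le]
    intro e he p hp
    obtain ⟨K, hK⟩ := kill 𝒜 ℳ m.2 h0 he (show p ∈ 𝒜 e from hp)
    exact (mem_rann.2 ⟨K, hK⟩ : p ∈ rann (A := A) (m : M))
  exact Subtype.ext (h1.trans (ZeroMemClass.coe_zero _).symm)

theorem surjective_of_asurj {ι : Type} {f : ι → A} {d : ι → ℕ} (hc : IsCov 𝒜 f d) (n : ℕ)
    (h : ASurjC ℳ f d n) : Function.Surjective (GrMod.alpha 𝒜 ℳ n) := by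
  intro t
  obtain ⟨t₁, ht₁⟩ : ∃ t₁ : GrMod.sect 𝒜 ℳ (n : ℤ) (op ⊤), t₁ = t := ⟨t, rfl⟩
  have H := fun i => exists_global_frac 𝒜 ℳ (n : ℤ) (hc.pos i) (hc.mem i)
    (GrMod.res 𝒜 ℳ (n : ℤ)
      (homOfLE (le_top : ProjectiveSpectrum.basicOpen 𝒜 (f i) ≤ ⊤)).op t₁)
  choose L q μ hμ hq hval using H
  have hq' : ∀ i, q i = n + L i * d i := fun i => by
    have := hq i
    zify
    linarith
  have hμ' : ∀ i, μ i ∈ ℳ (n + L i * d i) := fun i => hq' i ▸ hμ i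
  have hval' : ∀ (i : ι) (y : ProjectiveSpectrum 𝒜) (hy : f i ∉ y.asHomogeneousIdeal),
      ((t₁.1 ⟨y, trivial⟩ : GrMod.tildeAt 𝒜 ℳ (n : ℤ) y) : GrMod.LocMod 𝒜 (M := M) y) =
        LocalizedModule.mk (μ i) ⟨f i ^ L i, pow_mem_primeCompl 𝒜 y hy (L i)⟩ :=
    fun i y hy => hval i y hy
  have hcompat : ∀ i k, ∃ E : ℕ,
      (f i * f k) ^ E • (f k ^ L k • μ i - f i ^ L i • μ k) = 0 := by
    intro i k
    have hmem : f k ^ L k • μ i - f i ^ L i • μ k ∈ ℳ (L k * d k + L i * d i + n) := by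
      refine sub_mem ?_ ?_
      · exact pow_smul_mem_deg 𝒜 ℳ (L k) (hc.mem k) (hμ' i) (by ring)
      · exact pow_smul_mem_deg 𝒜 ℳ (L i) (hc.mem i) (hμ' k) (by ring)
    refine exists_pow_smul_eq_zero 𝒜 ℳ (Nat.add_pos_left (hc.pos i) _)
      (SetLike.mul_mem_graded (hc.mem i) (hc.mem k)) hmem (fun y hy => ?_)
    have hyi : f i ∉ y.asHomogeneousIdeal := fun h' =>
      hy (y.asHomogeneousIdeal.toIdeal.mul_mem_right (f k) h')
    have hyk : f k ∉ y.asHomogeneousIdeal := fun h' =>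
      hy (y.asHomogeneousIdeal.toIdeal.mul_mem_left (f i) h')
    have e1 := (hval' i y hyi).symm.trans (hval' k y hyk)
    rw [LocalizedModule.mk_eq] at e1
    obtain ⟨u, hu⟩ := e1
    refine ⟨u.1, u.2, ?_⟩
    rw [smul_sub]
    exact sub_eq_zero.2 hu
  obtain ⟨m, hm, hmE⟩ := h L μ hμ' hcompat
  refine ⟨⟨m, hm⟩, ?_⟩
  refine Eq.trans ?_ ht₁
  refine Subtype.ext (funext fun y => Subtype.ext ?_)
  obtain ⟨i, hi⟩ := hc.exists_notMem y.1
  obtain ⟨E, hE⟩ := hmE i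
  refine Eq.trans ?_ (hval' i y.1 hi).symm
  change (LocalizedModule.mk m 1 : GrMod.LocMod 𝒜 (M := M) y.1) = _
  rw [LocalizedModule.mk_eq]
  refine ⟨⟨f i ^ E, pow_mem_primeCompl 𝒜 y.1 hi E⟩, ?_⟩
  rw [one_smul]
  rw [smul_sub] at hE
  exact sub_eq_zero.1 hE

theorem asurj_of_surjective {ι : Type} {f : ι → A} {d : ι → ℕ} (hc : IsCov 𝒜 f d) (n : ℕ)
    (h : Function.Surjective (GrMod.alpha 𝒜 ℳ n)) : ASurjC ℳ f d n := by
  intro L μ hμ hcompat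
  choose ix hix using hc.exists_notMem
  have hij : ∀ i, ((n + L i * d i : ℕ) : ℤ) = ((L i • d i : ℕ) : ℤ) + (n : ℤ) := by
    intro i
    simp only [smul_eq_mul]
    push_cast
    ring
  let s : ∀ y : (⊤ : Opens (ProjectiveSpectrum.top 𝒜)), GrMod.tildeAt 𝒜 ℳ (n : ℤ) y.1 :=
    fun y => fracAt 𝒜 ℳ (n : ℤ) (hc.mem (ix y.1)) (L (ix y.1)) ⟨μ (ix y.1), hμ (ix y.1)⟩
      (hij _) y.1 (hix y.1)
  have key : ∀ (i : ι) (y : ProjectiveSpectrum 𝒜) (hy : f i ∉ y.asHomogeneousIdeal),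
      ((s ⟨y, trivial⟩ : GrMod.tildeAt 𝒜 ℳ (n : ℤ) y) : GrMod.LocMod 𝒜 (M := M) y) =
        LocalizedModule.mk (μ i) ⟨f i ^ L i, pow_mem_primeCompl 𝒜 y hy (L i)⟩ := by
    intro i y hy
    change LocalizedModule.mk (μ (ix y))
      ⟨f (ix y) ^ L (ix y), pow_mem_primeCompl 𝒜 y (hix y) (L (ix y))⟩ = _
    rw [LocalizedModule.mk_eq]
    obtain ⟨E, hE⟩ := hcompat (ix y) i
    refine ⟨⟨(f (ix y) * f i) ^ E, ?_⟩, ?_⟩
    · exact pow_mem_primeCompl 𝒜 y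
        (fun hmem => (y.isPrime.mem_or_mem hmem).elim (hix y) hy) E
    · rw [smul_sub] at hE
      exact sub_eq_zero.1 hE
  have hs : (GrMod.isLocFrac 𝒜 ℳ (n : ℤ)).pred s := by
    intro y
    refine ⟨ProjectiveSpectrum.basicOpen 𝒜 (f (ix y.1)),
      (ProjectiveSpectrum.mem_basicOpen 𝒜 _ y.1).2 (hix y.1), homOfLE le_top,
      n + L (ix y.1) * d (ix y.1), L (ix y.1) • d (ix y.1), ⟨μ (ix y.1), hμ _⟩,
      ⟨f (ix y.1) ^ L (ix y.1), SetLike.pow_mem_graded _ (hc.mem _)⟩,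
      fun z => pow_mem_primeCompl 𝒜 z.1 ((ProjectiveSpectrum.mem_basicOpen 𝒜 _ z.1).1 z.2) _,
      Or.inl (hij _), fun z => ?_⟩
    exact key (ix y.1) z.1 ((ProjectiveSpectrum.mem_basicOpen 𝒜 _ z.1).1 z.2)
  obtain ⟨m, hm⟩ := h (⟨s, hs⟩ : GrMod.sect 𝒜 ℳ (n : ℤ) (op ⊤))
  have hm' : (GrMod.globalOf 𝒜 ℳ m : GrMod.sect 𝒜 ℳ (n : ℤ) (op ⊤)) = ⟨s, hs⟩ := hm
  refine ⟨m, m.2, fun i => ?_⟩
  have hmem : f i ^ L i • (m : M) - μ i ∈ ℳ (n + L i * d i) := by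
    refine sub_mem ?_ (hμ i)
    exact pow_smul_mem_deg 𝒜 ℳ (L i) (hc.mem i) m.2 (by ring)
  refine exists_pow_smul_eq_zero 𝒜 ℳ (hc.pos i) (hc.mem i) hmem (fun y hy => ?_)
  have e1 : (LocalizedModule.mk (m : M) 1 : GrMod.LocMod 𝒜 (M := M) y) =
      LocalizedModule.mk (μ i) ⟨f i ^ L i, pow_mem_primeCompl 𝒜 y hy (L i)⟩ := by
    refine Eq.trans ?_ (key i y hy)
    exact congrArg (fun t : GrMod.sect 𝒜 ℳ (n : ℤ) (op ⊤) =>
      ((t.1 ⟨y, trivial⟩ : GrMod.tildeAt 𝒜 ℳ (n : ℤ) y) : GrMod.LocMod 𝒜 (M := M) y)) hm'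
  rw [LocalizedModule.mk_eq] at e1
  obtain ⟨u, hu⟩ := e1
  refine ⟨u.1, u.2, ?_⟩
  rw [one_smul] at hu
  rw [smul_sub]
  exact sub_eq_zero.2 hu

theorem diff_kill {a : A} {x y w : M} {E E' L : ℕ} (h1 : a ^ E • (a ^ L • x - w) = 0)
    (h2 : a ^ E' • (a ^ L • y - w) = 0) : a ^ (E + E' + L) • (x - y) = 0 := by
  have e : a ^ (E + E' + L) • (x - y) =
      a ^ E' • (a ^ E • (a ^ L • x - w)) - a ^ E • (a ^ E' • (a ^ L • y - w)) := by
    simp only [smul_sub, smul_smul, ← pow_add]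
    rw [show E' + (E + L) = E + E' + L by ring, show E + (E' + L) = E + E' + L by ring,
      show E' + E = E + E' by ring]
    abel
  rw [e, h1, h2, smul_zero, smul_zero, sub_zero]

end OneRing

section TwoRings

variable {A σ : Type u} [CommRing A] [SetLike σ A] [AddSubgroupClass σ A] {𝒜 : ℕ → σ}
  [GradedRing 𝒜]
variable {M τ : Type u} [AddCommGroup M] [Module A M] [SetLike τ M] [AddSubgroupClass τ M]
  (ℳ : ℕ → τ) [DirectSum.Decomposition ℳ] [SetLike.GradedSMul 𝒜 ℳ]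
variable {B σ' : Type u} [CommRing B] [SetLike σ' B] [AddSubgroupClass σ' B] {ℬ : ℕ → σ'}
  [GradedRing ℬ]
variable {N τ' : Type u} [AddCommGroup N] [Module B N] [SetLike τ' N] [AddSubgroupClass τ' N]
  (𝒩 : ℕ → τ') [DirectSum.Decomposition 𝒩] [SetLike.GradedSMul ℬ 𝒩]

theorem IsCov.map {ι : Type} {f : ι → A} {d : ι → ℕ} (hc : IsCov 𝒜 f d) (ψ : 𝒜 →+*ᵍ ℬ)
    (hψ : ℬ₊ ≤ (𝒜₊).map ψ) : IsCov ℬ (fun i => ψ (f i)) d where
  pos := hc.pos
  mem i := ψ.map_mem (hc.mem i)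
  le := by
    have h1 : (HomogeneousIdeal.irrelevant ℬ).toIdeal ≤
        Ideal.map ψ (HomogeneousIdeal.irrelevant 𝒜).toIdeal := fun a ha => hψ ha
    refine h1.trans ?_
    rw [Ideal.map_le_iff_le_comap]
    intro a ha
    obtain ⟨K, hK⟩ := hc.le ha
    rw [Ideal.mem_comap]
    refine Ideal.mem_radical_iff.2 ⟨K, ?_⟩
    rw [← map_pow]
    have h2 : Ideal.span (Set.range f) ≤
        Ideal.comap ψ (Ideal.span (Set.range fun i => ψ (f i))) := by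
      rw [Ideal.span_le]
      rintro _ ⟨i, rfl⟩
      exact Ideal.subset_span ⟨i, rfl⟩
    exact h2 hK

theorem le_rann_map (ψ : 𝒜 →+*ᵍ ℬ) (hψ : ℬ₊ ≤ (𝒜₊).map ψ) (v : M →ₛₗ[ψ.toRingHom] N) {m : M}
    (h : (HomogeneousIdeal.irrelevant 𝒜).toIdeal ≤ rann (A := A) m) :
    (HomogeneousIdeal.irrelevant ℬ).toIdeal ≤ rann (A := B) (v m) := by
  have h1 : (HomogeneousIdeal.irrelevant ℬ).toIdeal ≤
      Ideal.map ψ (HomogeneousIdeal.irrelevant 𝒜).toIdeal := fun a ha => hψ ha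
  refine h1.trans ?_
  rw [Ideal.map_le_iff_le_comap]
  intro a ha
  obtain ⟨K, hK⟩ := mem_rann.1 (h ha)
  rw [Ideal.mem_comap]
  refine mem_rann.2 ⟨K, ?_⟩
  have h3 := congrArg v hK
  rw [v.map_smulₛₗ, map_zero, map_pow] at h3
  exact h3

theorem map_pow_rel (ψ : 𝒜 →+*ᵍ ℬ) (v : M →ₛₗ[ψ.toRingHom] N) (a : A) (E L : ℕ) (x y : M) :
    v (a ^ E • (a ^ L • x - y)) = ψ a ^ E • (ψ a ^ L • v x - v y) := by
  have hvs : ∀ (b : A) (z : M), v (b • z) = ψ b • v z := fun b z => v.map_smulₛₗ b z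
  rw [hvs, map_sub, hvs, map_pow, map_pow]

theorem map_rel1 (ψ : 𝒜 →+*ᵍ ℬ) (v : M →ₛₗ[ψ.toRingHom] N) {a : A} {E L : ℕ} {x y : M}
    (h : a ^ E • (a ^ L • x - y) = 0) : ψ a ^ E • (ψ a ^ L • v x - v y) = 0 := by
  rw [← map_pow_rel, h, map_zero]

theorem map_compat_rel (ψ : 𝒜 →+*ᵍ ℬ) (v : M →ₛₗ[ψ.toRingHom] N) {a b : A} {E L L' : ℕ}
    {x y : M} (h : (a * b) ^ E • (b ^ L' • x - a ^ L • y) = 0) :
    (ψ a * ψ b) ^ E • (ψ b ^ L' • v x - ψ a ^ L • v y) = 0 := by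
  have hvs : ∀ (c : A) (z : M), v (c • z) = ψ c • v z := fun c z => v.map_smulₛₗ c z
  have h3 := congrArg v h
  rw [map_zero, hvs, map_sub, hvs, hvs] at h3
  simp only [map_pow, map_mul] at h3
  exact h3

/-- injectivity passes to the localization at an element of degree zero. -/
theorem ainj_loc (ψ : 𝒜 →+*ᵍ ℬ) (v : M →ₛₗ[ψ.toRingHom] N) {g : A} (hg : g ∈ 𝒜 0)
    (hkerM : ∀ i, ∀ m ∈ ℳ i, v m = 0 → ∃ j : ℕ, g ^ j • m = 0)
    (hliftM : ∀ i, ∀ y ∈ 𝒩 i, ∃ k : ℕ, ∃ m ∈ ℳ i, ψ g ^ k • y = v m)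
    (hu : ∃ u ∈ ℬ 0, ψ g * u = 1)
    {ι : Type} [Finite ι] {f : ι → A} {d : ι → ℕ} (hc : IsCov 𝒜 f d) (n : ℕ)
    (h : AInj 𝒜 ℳ n) : AInj ℬ 𝒩 n := by
  classical
  haveI := Fintype.ofFinite ι
  obtain ⟨u, hu0, hgu⟩ := hu
  intro m' hm' hle
  obtain ⟨k, m, hm, hkm⟩ := hliftM n m' hm'
  have hvs : ∀ (a : A) (x : M), v (a • x) = ψ a • v x := fun a x => v.map_smulₛₗ a x
  have H : ∀ i, ∃ j K : ℕ, g ^ j • (f i ^ K • m) = 0 := by
    intro i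
    have hfi : ψ (f i) ∈ (HomogeneousIdeal.irrelevant ℬ).toIdeal :=
      HomogeneousIdeal.mem_irrelevant_of_mem ℬ (hc.pos i) (ψ.map_mem (hc.mem i))
    obtain ⟨K, hK⟩ := mem_rann.1 (hle hfi)
    have h1 : v (f i ^ K • m) = 0 := by
      rw [hvs, map_pow, ← hkm, smul_comm, hK, smul_zero]
    obtain ⟨j, hj⟩ := hkerM _ _ (pow_smul_mem_deg 𝒜 ℳ K (hc.mem i) hm rfl) h1
    exact ⟨j, K, hj⟩
  choose j K hjK using H
  obtain ⟨J, hJ⟩ : ∃ J, ∀ i, j i ≤ J :=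
    ⟨Finset.univ.sup j, fun i => Finset.le_sup (Finset.mem_univ i)⟩
  have hgJ : g ^ J • m = 0 := by
    refine h _ (gpow_smul_mem 𝒜 ℳ hg J hm) ?_
    refine hc.le.trans (Ideal.radical_le_radical_iff.2 (Ideal.span_le.2 ?_))
    rintro _ ⟨i, rfl⟩
    refine (mem_rann.2 ⟨K i, ?_⟩ : f i ∈ rann (A := A) (g ^ J • m))
    obtain ⟨c, hc'⟩ := Nat.exists_eq_add_of_le (hJ i)
    rw [smul_comm, hc', pow_add, mul_comm (g ^ j i) (g ^ c), mul_smul, hjK i, smul_zero]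
  have h2 : ψ g ^ (J + k) • m' = 0 := by
    rw [pow_add, mul_smul, hkm, ← map_pow, ← hvs, hgJ, map_zero]
  calc m' = u ^ (J + k) • (ψ g ^ (J + k) • m') := by
        rw [smul_smul, ← mul_pow, mul_comm, hgu, one_pow, one_smul]
    _ = 0 := by rw [h2, smul_zero]

/-- surjectivity passes to the localization at an element of degree zero. -/
theorem asurj_loc (ψ : 𝒜 →+*ᵍ ℬ) (v : M →ₛₗ[ψ.toRingHom] N)
    (hv : ∀ (i : ℕ) (m : M), m ∈ ℳ i → v m ∈ 𝒩 i) {g : A} (hg : g ∈ 𝒜 0)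
    (hkerM : ∀ i, ∀ m ∈ ℳ i, v m = 0 → ∃ j : ℕ, g ^ j • m = 0)
    (hliftM : ∀ i, ∀ y ∈ 𝒩 i, ∃ k : ℕ, ∃ m ∈ ℳ i, ψ g ^ k • y = v m)
    (hu : ∃ u ∈ ℬ 0, ψ g * u = 1)
    {ι : Type} [Finite ι] {f : ι → A} {d : ι → ℕ} (hc : IsCov 𝒜 f d) (n : ℕ)
    (h : ASurjC ℳ f d n) : ASurjC 𝒩 (fun i => ψ (f i)) d n := by
  classical
  haveI := Fintype.ofFinite ι
  obtain ⟨u, hu0, hgu⟩ := hu
  have hvs : ∀ (a : A) (x : M), v (a • x) = ψ a • v x := fun a x => v.map_smulₛₗ a x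
  have hunit : ∀ (e : ℕ) (y : N), u ^ e • (ψ g ^ e • y) = y := fun e y => by
    rw [smul_smul, ← mul_pow, mul_comm, hgu, one_pow, one_smul]
  intro L μ' hμ' hcompat
  have H := fun i => hliftM _ (μ' i) (hμ' i)
  choose k μ hμ hkμ using H
  obtain ⟨K, hK⟩ : ∃ K, ∀ i, k i ≤ K :=
    ⟨Finset.univ.sup k, fun i => Finset.le_sup (Finset.mem_univ i)⟩
  have H1 : ∀ i, ∃ μ₁ : M, μ₁ ∈ ℳ (n + L i * d i) ∧ v μ₁ = ψ g ^ K • μ' i := by
    intro i
    refine ⟨g ^ (K - k i) • μ i, gpow_smul_mem 𝒜 ℳ hg _ (hμ i), ?_⟩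
    rw [hvs, map_pow, ← hkμ, smul_smul, ← pow_add, Nat.sub_add_cancel (hK i)]
  choose μ₁ hμ₁ hv₁ using H1
  have H2 : ∀ i l, ∃ (E j : ℕ),
      g ^ j • ((f i * f l) ^ E • (f l ^ L l • μ₁ i - f i ^ L i • μ₁ l)) = 0 := by
    intro i l
    obtain ⟨E, hE⟩ := hcompat i l
    have hE' : (ψ (f i) * ψ (f l)) ^ E • (ψ (f l) ^ L l • μ' i - ψ (f i) ^ L i • μ' l) = 0 :=
      hE
    have hmem : (f i * f l) ^ E • (f l ^ L l • μ₁ i - f i ^ L i • μ₁ l) ∈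
        ℳ (E * (d i + d l) + (L l * d l + L i * d i + n)) := by
      refine pow_smul_mem_deg 𝒜 ℳ E (SetLike.mul_mem_graded (hc.mem i) (hc.mem l))
        (sub_mem ?_ ?_) rfl
      · exact pow_smul_mem_deg 𝒜 ℳ (L l) (hc.mem l) (hμ₁ i) (by ring)
      · exact pow_smul_mem_deg 𝒜 ℳ (L i) (hc.mem i) (hμ₁ l) (by ring)
    have h0 : v ((f i * f l) ^ E • (f l ^ L l • μ₁ i - f i ^ L i • μ₁ l)) = 0 := by
      rw [hvs, map_sub, hvs, hvs, hv₁, hv₁]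
      simp only [map_pow, map_mul]
      have e3 : ψ (f l) ^ L l • ψ g ^ K • μ' i - ψ (f i) ^ L i • ψ g ^ K • μ' l =
          ψ g ^ K • (ψ (f l) ^ L l • μ' i - ψ (f i) ^ L i • μ' l) := by
        rw [smul_sub, smul_comm (ψ g ^ K), smul_comm (ψ g ^ K)]
      rw [e3, smul_comm, hE', smul_zero]
    obtain ⟨j, hj⟩ := hkerM _ _ hmem h0
    exact ⟨E, j, hj⟩
  choose E j hEj using H2
  obtain ⟨J, hJ⟩ : ∃ J, ∀ i l, j i l ≤ J :=
    ⟨Finset.univ.sup (fun i => Finset.univ.sup (j i)), fun i l =>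
      (Finset.le_sup (f := j i) (Finset.mem_univ l)).trans
        (Finset.le_sup (f := fun i => Finset.univ.sup (j i)) (Finset.mem_univ i))⟩
  obtain ⟨m, hm, hmE⟩ := h L (fun i => g ^ J • μ₁ i)
    (fun i => gpow_smul_mem 𝒜 ℳ hg J (hμ₁ i)) (fun i l => ⟨E i l, by
      show (f i * f l) ^ E i l • (f l ^ L l • (g ^ J • μ₁ i) - f i ^ L i • (g ^ J • μ₁ l)) = 0
      obtain ⟨c, hc'⟩ := Nat.exists_eq_add_of_le (hJ i l)
      have e4 : f l ^ L l • (g ^ J • μ₁ i) - f i ^ L i • (g ^ J • μ₁ l) =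
          g ^ J • (f l ^ L l • μ₁ i - f i ^ L i • μ₁ l) := by
        rw [smul_sub, smul_comm (g ^ J), smul_comm (g ^ J)]
      rw [e4, smul_comm, hc', pow_add, mul_comm (g ^ j i l) (g ^ c), mul_smul, hEj i l,
        smul_zero]⟩)
  refine ⟨u ^ (J + K) • v m, gpow_smul_mem ℬ 𝒩 hu0 (J + K) (hv n m hm), fun i => ?_⟩
  obtain ⟨E', hE'⟩ := hmE i
  have hE'' : f i ^ E' • (f i ^ L i • m - g ^ J • μ₁ i) = 0 := hE'
  have h5 : ψ (f i) ^ E' • (ψ (f i) ^ L i • v m - ψ g ^ (J + K) • μ' i) = 0 := by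
    have h6 := congrArg v hE''
    rw [map_zero, hvs, map_sub, hvs, hvs, hv₁] at h6
    simp only [map_pow] at h6
    rw [pow_add, mul_smul]
    exact h6
  refine ⟨E', ?_⟩
  show ψ (f i) ^ E' • (ψ (f i) ^ L i • (u ^ (J + K) • v m) - μ' i) = 0
  have e6 : ψ (f i) ^ L i • (u ^ (J + K) • v m) - μ' i =
      u ^ (J + K) • (ψ (f i) ^ L i • v m - ψ g ^ (J + K) • μ' i) := by
    rw [smul_sub, hunit, smul_comm]
  rw [e6, smul_comm, h5, smul_zero]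

end TwoRings

end Groth.Agent.Helper6.AlphaLoc
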