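import Groth.Agent.Lib.Helper6.VeroTFA
import Groth.Agent.Lib.Helper7.Graded3

/-!
# The Veronese subring and Veronese modules of a graded ring / module (helper6)

For `𝒜 : ℕ → σ` a graded ring and `d > 0`: the subring `vsub 𝒜 d = ⊕_q 𝒜 (q d)` with its grading
`vgr 𝒜 d`; for a graded module `ℳ` and an offset `ro`: the `vsub`-submodule
`vmod 𝒜 ℳ d ro = ⊕_q ℳ (q d + ro)` with its grading `vmgr`.  Noetherianity and finiteness.
`main`: for `A` Noetherian and `ℳ` satisfying (TF), `M_n → Γ(Proj A, M(n)~)` is bijective for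
large `n`.
-/

set_option autoImplicit false
set_option linter.style.haveILetI false
set_option linter.unusedSectionVars false
set_option linter.unusedVariables false
universe u
open DirectSum CategoryTheory CategoryTheory.Limits AlgebraicGeometry Opposite TopologicalSpace
open scoped HomogeneousIdeal

namespace Groth.Agent.Helper6.VeroTF

open Groth.Agent.Helper6.SigmaGr Groth.Agent.Helper6.Veronese

attribute [local instance] ULift.algebra'

section Generic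

variable {M τ : Type*} [AddCommGroup M] [SetLike τ M] [AddSubgroupClass τ M]
  (ℳ : ℕ → τ)

/-- the additive subgroup generated by the pieces `ℳ (f q)`. -/
def vsup (f : ℕ → ℕ) : AddSubgroup M := ⨆ q, AddSubgroup.ofClass (ℳ (f q))

theorem mem_vsup_of_mem (f : ℕ → ℕ) {q : ℕ} {x : M} (hx : x ∈ ℳ (f q)) : x ∈ vsup ℳ f :=
  AddSubgroup.mem_iSup_of_mem (S := fun q => AddSubgroup.ofClass (ℳ (f q))) q hx

theorem vsup_induction (f : ℕ → ℕ) {C : M → Prop} {x : M} (hx : x ∈ vsup ℳ f)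
    (mem : ∀ q, ∀ y ∈ ℳ (f q), C y) (zero : C 0) (add : ∀ y z, C y → C z → C (y + z)) : C x :=
  AddSubgroup.iSup_induction (fun q => AddSubgroup.ofClass (ℳ (f q))) (C := C) hx
    (fun q y hy => mem q y hy) zero add

variable [DirectSum.Decomposition ℳ]

theorem vsup_proj_zero (f : ℕ → ℕ) {x : M} (hx : x ∈ vsup ℳ f) (i : ℕ) (hi : ∀ q, f q ≠ i) :
    ((decompose ℳ x i : ℳ i) : M) = 0 := by
  refine vsup_induction ℳ f (C := fun x => ((decompose ℳ x i : ℳ i) : M) = 0) hx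
    (fun q y hy => DirectSum.decompose_of_mem_ne ℳ hy (hi q)) ?_ (fun y z hy hz => ?_)
  · rw [DirectSum.decompose_zero, DirectSum.zero_apply, ZeroMemClass.coe_zero]
  · rw [DirectSum.decompose_add, DirectSum.add_apply, AddMemClass.coe_add, hy, hz, add_zero]

variable {P : Type*} [AddCommGroup P] (e : P →+ M) (f : ℕ → ℕ) (𝒩 : ℕ → AddSubgroup P)

theorem decompose_coe_eq (hf : Function.Injective f) (h1 : ∀ q x, x ∈ 𝒩 q → e x ∈ ℳ (f q))
    (y : ⨁ q, 𝒩 q) (q : ℕ) :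
    ((decompose ℳ (e (DirectSum.coeAddMonoidHom 𝒩 y)) (f q) : ℳ (f q)) : M) =
      e ((y q : 𝒩 q) : P) := by
  induction y using DirectSum.induction_on with
  | zero =>
    rw [map_zero, map_zero, DirectSum.decompose_zero, DirectSum.zero_apply,
      DirectSum.zero_apply, ZeroMemClass.coe_zero, ZeroMemClass.coe_zero, map_zero]
  | of q' x =>
    rw [DirectSum.coeAddMonoidHom_of]
    by_cases hq : q' = q
    · subst hq
      rw [DirectSum.decompose_of_mem_same ℳ (h1 _ _ x.2), DirectSum.of_eq_same]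
    · rw [DirectSum.decompose_of_mem_ne ℳ (h1 _ _ x.2) (fun h => hq (hf h)),
        DirectSum.of_eq_of_ne _ _ _ (Ne.symm hq), ZeroMemClass.coe_zero, map_zero]
  | add y y' hy hy' =>
    rw [map_add, map_add, DirectSum.decompose_add, DirectSum.add_apply, DirectSum.add_apply,
      AddMemClass.coe_add, AddMemClass.coe_add, map_add, hy, hy']

theorem isInternal_of_embed (he : Function.Injective e) (hf : Function.Injective f)
    (h1 : ∀ q x, x ∈ 𝒩 q → e x ∈ ℳ (f q))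
    (h2 : ∀ (x : P) (i : ℕ), ∃ q, ∃ z ∈ 𝒩 q, e z = ((decompose ℳ (e x) i : ℳ i) : M)) :
    DirectSum.IsInternal 𝒩 := by
  classical
  constructor
  · intro y y' hyy'
    refine DFinsupp.ext (fun q => Subtype.ext (he ?_))
    rw [← decompose_coe_eq ℳ e f 𝒩 hf h1 y q, ← decompose_coe_eq ℳ e f 𝒩 hf h1 y' q, hyy']
  · intro x
    have hmem : e x ∈ (AddMonoidHom.mrange (DirectSum.coeAddMonoidHom 𝒩)).map e := by
      rw [← DirectSum.sum_support_decompose ℳ (e x)]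
      refine sum_mem (fun i _ => ?_)
      obtain ⟨q, z, hz, hez⟩ := h2 x i
      rw [← hez]
      exact ⟨z, ⟨DirectSum.of (fun q => 𝒩 q) q ⟨z, hz⟩, DirectSum.coeAddMonoidHom_of _ _ _⟩, rfl⟩
    obtain ⟨w, ⟨y, hy⟩, hw⟩ := hmem
    exact ⟨y, he (by rw [hy, hw])⟩

end Generic

section Ring

variable {A σ : Type u} [CommRing A] [SetLike σ A] [AddSubgroupClass σ A] (𝒜 : ℕ → σ)
  [GradedRing 𝒜] (d : ℕ)

/-- the Veronese subring `⊕_q 𝒜 (q d)`. -/
def vsub : Subring A where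
  carrier := (vsup 𝒜 (fun q => q * d) : Set A)
  mul_mem' := by
    intro a b ha hb
    refine vsup_induction 𝒜 (fun q => q * d) (C := fun a => a * b ∈ vsup 𝒜 (fun q => q * d)) ha
      (fun q x hx => ?_) (by rw [zero_mul]; exact zero_mem _)
      (fun x y hx hy => by rw [add_mul]; exact add_mem hx hy)
    refine vsup_induction 𝒜 (fun q => q * d) (C := fun b => x * b ∈ vsup 𝒜 (fun q => q * d)) hb
      (fun q' y hy => ?_) (by rw [mul_zero]; exact zero_mem _)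
      (fun y z hy hz => by rw [mul_add]; exact add_mem hy hz)
    have h := SetLike.mul_mem_graded (A := 𝒜) hx hy
    rw [← add_mul] at h
    exact mem_vsup_of_mem 𝒜 (fun q => q * d) (q := q + q') h
  one_mem' := by
    have h : (1 : A) ∈ 𝒜 (0 * d) := by
      rw [zero_mul]
      exact SetLike.one_mem_graded 𝒜
    exact mem_vsup_of_mem 𝒜 (fun q => q * d) (q := 0) h
  add_mem' := fun ha hb => add_mem ha hb
  zero_mem' := zero_mem _
  neg_mem' := fun ha => neg_mem ha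

theorem mem_vsub_of_mem {q : ℕ} {a : A} (ha : a ∈ 𝒜 (q * d)) : a ∈ vsub 𝒜 d :=
  mem_vsup_of_mem 𝒜 (fun q => q * d) (q := q) ha

/-- the grading of the Veronese subring. -/
def vgr (q : ℕ) : AddSubgroup (vsub 𝒜 d) where
  carrier := {b | (b : A) ∈ 𝒜 (q * d)}
  add_mem' := fun {a b} ha hb => (add_mem ha hb : (a : A) + (b : A) ∈ 𝒜 (q * d))
  zero_mem' := zero_mem (𝒜 (q * d))
  neg_mem' := fun {a} ha => (neg_mem ha : -(a : A) ∈ 𝒜 (q * d))

instance vgrGradedMonoid : SetLike.GradedMonoid (vgr 𝒜 d) where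
  one_mem := by
    show ((1 : vsub 𝒜 d) : A) ∈ 𝒜 (0 * d)
    rw [zero_mul]
    exact SetLike.one_mem_graded 𝒜
  mul_mem := by
    intro i j a b ha hb
    show ((a : A) * (b : A)) ∈ 𝒜 ((i + j) * d)
    rw [add_mul]
    exact SetLike.mul_mem_graded (A := 𝒜) ha hb

theorem vgr_isInternal [NeZero d] : DirectSum.IsInternal (vgr 𝒜 d) := by
  refine isInternal_of_embed 𝒜 (vsub 𝒜 d).subtype.toAddMonoidHom (fun q => q * d) (vgr 𝒜 d)
    Subtype.val_injective
    (fun a b h => Nat.eq_of_mul_eq_mul_right (Nat.pos_of_neZero d) h)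
    (fun q x hx => hx) (fun x i => ?_)
  by_cases hi : ∃ q, q * d = i
  · obtain ⟨q, rfl⟩ := hi
    exact ⟨q, ⟨((decompose 𝒜 (x : A) (q * d) : 𝒜 (q * d)) : A),
      mem_vsub_of_mem 𝒜 d (decompose 𝒜 (x : A) (q * d)).2⟩, (decompose 𝒜 (x : A) (q * d)).2, rfl⟩
  · refine ⟨0, 0, zero_mem _, ?_⟩
    rw [map_zero]
    exact (vsup_proj_zero 𝒜 (fun q => q * d) x.2 i (fun q hq => hi ⟨q, hq⟩)).symm

noncomputable instance vgrDecomposition [NeZero d] : DirectSum.Decomposition (vgr 𝒜 d) :=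
  (vgr_isInternal 𝒜 d).chooseDecomposition

noncomputable instance vgrGradedRing [NeZero d] : GradedRing (vgr 𝒜 d) :=
  { vgrGradedMonoid 𝒜 d, vgrDecomposition 𝒜 d with }

/-- the inclusion of the Veronese subring, as a `ULift ℤ`-algebra map. -/
def vincl : (vsub 𝒜 d) →ₐ[ULift.{u} ℤ] A :=
  { (vsub 𝒜 d).subtype with
    commutes' := fun z => by
      change ((algebraMap ℤ (vsub 𝒜 d) z.down : vsub 𝒜 d) : A) = algebraMap ℤ A z.down
      simp }

theorem vsub_isNoetherianRing [NeZero d] [IsNoetherianRing A] : IsNoetherianRing (vsub 𝒜 d) := by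
  refine Groth.Agent.Helper7.Graded.veronese_isNoetherianRing (zgr 𝒜) (zgr (vgr 𝒜 d)) d
    (Nat.pos_of_neZero d) (vincl 𝒜 d) Subtype.val_injective (fun n => ?_)
  ext a
  constructor
  · rintro ⟨b, hb, rfl⟩
    exact hb
  · intro ha
    exact ⟨⟨a, mem_vsub_of_mem 𝒜 d ha⟩, ha, rfl⟩

theorem vsub_finite [NeZero d] [IsNoetherianRing A] : Module.Finite (vsub 𝒜 d) A := by
  classical
  have hft0 : Algebra.FiniteType (zgr 𝒜 0) A :=
    ((Groth.Agent.Helper7.Graded.isNoetherianRing_iff (zgr 𝒜)).mp inferInstance).2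
  haveI : Algebra.FiniteType (vsub 𝒜 d) A := by
    obtain ⟨s, hs⟩ := hft0.out
    refine ⟨⟨s, ?_⟩⟩
    have key : ∀ x, x ∈ Algebra.adjoin (zgr 𝒜 0) (s : Set A) →
        x ∈ Algebra.adjoin (vsub 𝒜 d) (s : Set A) := by
      intro x hx
      induction hx using Algebra.adjoin_induction with
      | mem y hy => exact Algebra.subset_adjoin hy
      | algebraMap a =>
        have ha : (a : A) ∈ 𝒜 (0 * d) := by
          rw [zero_mul]
          exact a.2
        exact Subalgebra.algebraMap_mem (Algebra.adjoin (vsub 𝒜 d) (s : Set A))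
          (⟨(a : A), mem_vsub_of_mem 𝒜 d ha⟩ : vsub 𝒜 d)
      | add y z _ _ hy hz => exact add_mem hy hz
      | mul y z _ _ hy hz => exact mul_mem hy hz
    rw [eq_top_iff]
    intro x _
    exact key x (by rw [hs]; trivial)
  haveI : Algebra.IsIntegral (vsub 𝒜 d) A := by
    refine ⟨fun a => ?_⟩
    rw [← DirectSum.sum_support_decompose 𝒜 a]
    refine IsIntegral.sum _ (fun i _ => ?_)
    refine IsIntegral.of_pow (Nat.pos_of_neZero d) ?_
    have hmem : ((decompose 𝒜 a i : 𝒜 i) : A) ^ d ∈ 𝒜 (i * d) := by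
      have h := SetLike.pow_mem_graded d (decompose 𝒜 a i).2
      rwa [smul_eq_mul, mul_comm] at h
    exact isIntegral_algebraMap (R := vsub 𝒜 d) (A := A)
      (x := (⟨_, mem_vsub_of_mem 𝒜 d hmem⟩ : vsub 𝒜 d))
  exact Algebra.IsIntegral.finite

set_option maxHeartbeats 800000 in
theorem vgr_irrelevant_eq [NeZero d]
    (hpow : ∀ m : ℕ, 0 < m →
      zgr 𝒜 (m * d) = (zgr 𝒜 d : Submodule (ULift.{u} ℤ) A) ^ m) :
    (HomogeneousIdeal.irrelevant (vgr 𝒜 d)).toIdeal =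
      Ideal.span ((vgr 𝒜 d 1 : AddSubgroup (vsub 𝒜 d)) : Set (vsub 𝒜 d)) := by
  classical
  have hstep : ∀ m : ℕ, ∀ a : A, a ∈ 𝒜 ((m + 1) * d) → ∃ ha : a ∈ vsub 𝒜 d,
      (⟨a, ha⟩ : vsub 𝒜 d) ∈
        Ideal.span ((vgr 𝒜 d 1 : AddSubgroup (vsub 𝒜 d)) : Set (vsub 𝒜 d)) := by
    intro m a ha
    rcases Nat.eq_zero_or_pos m with rfl | hm
    · exact ⟨mem_vsub_of_mem 𝒜 d ha, Ideal.subset_span ha⟩
    · have h1 : a ∈ (zgr 𝒜 d : Submodule (ULift.{u} ℤ) A) * zgr 𝒜 (m * d) := by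
        rw [hpow m hm, ← pow_succ', ← hpow (m + 1) (Nat.succ_pos m)]
        exact ha
      refine Submodule.mul_induction_on
        (C := fun a => ∃ ha : a ∈ vsub 𝒜 d, (⟨a, ha⟩ : vsub 𝒜 d) ∈
          Ideal.span ((vgr 𝒜 d 1 : AddSubgroup (vsub 𝒜 d)) : Set (vsub 𝒜 d))) h1
        (fun x hx y hy => ?_) (fun x y hx hy => ?_)
      · have hx1 : x ∈ 𝒜 (1 * d) := by
          rw [one_mul]
          exact hx
        have hxB : x ∈ vsub 𝒜 d := mem_vsub_of_mem 𝒜 d hx1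
        have hyB : y ∈ vsub 𝒜 d := mem_vsub_of_mem 𝒜 d (show y ∈ 𝒜 (m * d) from hy)
        refine ⟨mul_mem hxB hyB, ?_⟩
        have e : (⟨x * y, mul_mem hxB hyB⟩ : vsub 𝒜 d) = ⟨y, hyB⟩ * ⟨x, hxB⟩ :=
          Subtype.ext (mul_comm x y)
        rw [e]
        exact Ideal.mul_mem_left _ _ (Ideal.subset_span hx1)
      · obtain ⟨hxB, hx'⟩ := hx
        obtain ⟨hyB, hy'⟩ := hy
        refine ⟨add_mem hxB hyB, ?_⟩
        have e : (⟨x + y, add_mem hxB hyB⟩ : vsub 𝒜 d) = ⟨x, hxB⟩ + ⟨y, hyB⟩ := rfl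
        rw [e]
        exact Ideal.add_mem _ hx' hy'
  apply le_antisymm
  · intro b hb
    rw [← DirectSum.sum_support_decompose (vgr 𝒜 d) b]
    refine Ideal.sum_mem _ (fun i _ => ?_)
    rcases Nat.eq_zero_or_pos i with rfl | hi
    · have h0 := (HomogeneousIdeal.mem_irrelevant_iff (vgr 𝒜 d) b).mp hb
      rw [GradedRing.proj_apply] at h0
      rw [h0]
      exact zero_mem _
    · obtain ⟨m, rfl⟩ : ∃ m, i = m + 1 := ⟨i - 1, by omega⟩
      obtain ⟨ha, hmem⟩ := hstep m _ ((decompose (vgr 𝒜 d) b (m + 1)).2)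
      exact hmem
  · rw [Ideal.span_le]
    intro b hb
    exact HomogeneousIdeal.mem_irrelevant_of_mem (vgr 𝒜 d) Nat.one_pos hb

end Ring

section Mod

variable {A σ : Type u} [CommRing A] [SetLike σ A] [AddSubgroupClass σ A] (𝒜 : ℕ → σ)
  [GradedRing 𝒜]
variable {M τ : Type u} [AddCommGroup M] [Module A M] [SetLike τ M] [AddSubgroupClass τ M]
  (ℳ : ℕ → τ) [SetLike.GradedSMul 𝒜 ℳ] [DirectSum.Decomposition ℳ] (d ro : ℕ)

/-- the Veronese module `⊕_q ℳ (q d + ro)` over the Veronese subring. -/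
def vmod : Submodule (vsub 𝒜 d) M where
  carrier := (vsup ℳ (fun q => q * d + ro) : Set M)
  add_mem' := fun ha hb => add_mem ha hb
  zero_mem' := zero_mem _
  smul_mem' := by
    intro b x hx
    have hb : (b : A) ∈ vsup 𝒜 (fun q => q * d) := b.2
    show (b : A) • x ∈ vsup ℳ (fun q => q * d + ro)
    refine vsup_induction 𝒜 (fun q => q * d)
      (C := fun a => a • x ∈ vsup ℳ (fun q => q * d + ro)) hb
      (fun q a ha => ?_) (by rw [zero_smul]; exact zero_mem _)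
      (fun a a' ha ha' => by rw [add_smul]; exact add_mem ha ha')
    refine vsup_induction ℳ (fun q => q * d + ro)
      (C := fun x => a • x ∈ vsup ℳ (fun q => q * d + ro)) hx
      (fun q' y hy => ?_) (by rw [smul_zero]; exact zero_mem _)
      (fun y z hy hz => by rw [smul_add]; exact add_mem hy hz)
    have h := SetLike.GradedSMul.smul_mem (A := 𝒜) (B := ℳ) ha hy
    have e : q * d +ᵥ (q' * d + ro) = (q + q') * d + ro := by
      simp only [vadd_eq_add]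
      ring
    rw [e] at h
    exact mem_vsup_of_mem ℳ (fun q => q * d + ro) (q := q + q') h

theorem mem_vmod_of_mem {q : ℕ} {x : M} (hx : x ∈ ℳ (q * d + ro)) : x ∈ vmod 𝒜 ℳ d ro :=
  mem_vsup_of_mem ℳ (fun q => q * d + ro) (q := q) hx

/-- the grading of the Veronese module. -/
def vmgr (q : ℕ) : AddSubgroup (vmod 𝒜 ℳ d ro) where
  carrier := {x | (x : M) ∈ ℳ (q * d + ro)}
  add_mem' := fun {a b} ha hb => (add_mem ha hb : (a : M) + (b : M) ∈ ℳ (q * d + ro))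
  zero_mem' := zero_mem (ℳ (q * d + ro))
  neg_mem' := fun {a} ha => (neg_mem ha : -(a : M) ∈ ℳ (q * d + ro))

instance vmgrGradedSMul : SetLike.GradedSMul (vgr 𝒜 d) (vmgr 𝒜 ℳ d ro) :=
  ⟨by
    intro i j a x ha hx
    show (a : A) • (x : M) ∈ ℳ ((i + j) * d + ro)
    have h := SetLike.GradedSMul.smul_mem (A := 𝒜) (B := ℳ) (show (a : A) ∈ 𝒜 (i * d) from ha)
      (show (x : M) ∈ ℳ (j * d + ro) from hx)
    have e : i * d +ᵥ (j * d + ro) = (i + j) * d + ro := by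
      simp only [vadd_eq_add]
      ring
    rw [e] at h
    exact h⟩

theorem vmgr_isInternal [NeZero d] : DirectSum.IsInternal (vmgr 𝒜 ℳ d ro) := by
  refine isInternal_of_embed ℳ (vmod 𝒜 ℳ d ro).subtype.toAddMonoidHom (fun q => q * d + ro)
    (vmgr 𝒜 ℳ d ro) Subtype.val_injective
    (fun a b h => Nat.eq_of_mul_eq_mul_right (Nat.pos_of_neZero d) (Nat.add_right_cancel h))
    (fun q x hx => hx) (fun x i => ?_)
  by_cases hi : ∃ q, q * d + ro = i
  · obtain ⟨q, rfl⟩ := hi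
    exact ⟨q, ⟨((decompose ℳ (x : M) (q * d + ro) : ℳ (q * d + ro)) : M),
      mem_vmod_of_mem 𝒜 ℳ d ro (decompose ℳ (x : M) (q * d + ro)).2⟩,
      (decompose ℳ (x : M) (q * d + ro)).2, rfl⟩
  · refine ⟨0, 0, zero_mem _, ?_⟩
    rw [map_zero]
    exact (vsup_proj_zero ℳ (fun q => q * d + ro) x.2 i (fun q hq => hi ⟨q, hq⟩)).symm

noncomputable instance vmgrDecomposition [NeZero d] :
    DirectSum.Decomposition (vmgr 𝒜 ℳ d ro) :=
  (vmgr_isInternal 𝒜 ℳ d ro).chooseDecomposition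

/-- the inclusion of the Veronese module, semilinear over the inclusion of the subring. -/
def vinclM : vmod 𝒜 ℳ d ro →ₛₗ[(vsub 𝒜 d).subtype] M where
  toFun x := (x : M)
  map_add' _ _ := rfl
  map_smul' _ _ := rfl

theorem coe_mem_trunc [NeZero d] (k : ℕ) {x : vmod 𝒜 ℳ d ro}
    (hx : x ∈ trunc (vsub 𝒜 d) (vmgr 𝒜 ℳ d ro) k) : (x : M) ∈ trunc A ℳ k := by
  induction hx using Submodule.span_induction with
  | mem x h =>
    obtain ⟨j, hj, hxj⟩ := Set.mem_iUnion₂.1 h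
    have hkj : k ≤ j := hj
    have hjd : j ≤ j * d := Nat.le_mul_of_pos_right j (Nat.pos_of_neZero d)
    exact mem_trunc_of_ge A ℳ (by omega : k ≤ j * d + ro) hxj
  | zero => exact zero_mem _
  | add x y _ _ hx hy => exact add_mem hx hy
  | smul b x _ hx => exact Submodule.smul_mem _ (b : A) hx

/-- the inclusion `N_{≥ k} → M_{≥ k}`. -/
def truncIncl [NeZero d] (k : ℕ) :
    trunc (vsub 𝒜 d) (vmgr 𝒜 ℳ d ro) k →ₗ[vsub 𝒜 d] trunc A ℳ k where
  toFun x := ⟨((x : vmod 𝒜 ℳ d ro) : M), coe_mem_trunc 𝒜 ℳ d ro k x.2⟩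
  map_add' _ _ := rfl
  map_smul' _ _ := rfl

theorem vmod_trunc_finite [NeZero d] [IsNoetherianRing A] (k : ℕ) (hk : (trunc A ℳ k).FG) :
    Module.Finite (vsub 𝒜 d) (trunc (vsub 𝒜 d) (vmgr 𝒜 ℳ d ro) k) := by
  haveI := vsub_isNoetherianRing 𝒜 d
  haveI := vsub_finite 𝒜 d
  haveI : Module.Finite A (trunc A ℳ k) := Module.Finite.iff_fg.2 hk
  haveI : Module.Finite (vsub 𝒜 d) (trunc A ℳ k) := Module.Finite.trans A (trunc A ℳ k)
  haveI : IsNoetherian (vsub 𝒜 d) (trunc A ℳ k) := isNoetherian_of_isNoetherianRing_of_finite _ _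
  refine Module.Finite.of_injective (truncIncl 𝒜 ℳ d ro k) (fun x y hxy => ?_)
  have h1 : ((x : vmod 𝒜 ℳ d ro) : M) = ((y : vmod 𝒜 ℳ d ro) : M) :=
    congrArg (fun z : trunc A ℳ k => (z : M)) hxy
  exact Subtype.ext (Subtype.ext h1)

end Mod

section Main

set_option maxHeartbeats 1600000 in
/-- `M_n → Γ(Proj A, M(n)~)` is bijective for large `n`: `A` Noetherian graded by additive
subgroups, `M` a graded module satisfying (TF). -/
theorem main {A σ : Type u} [CommRing A] [IsNoetherianRing A]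
    [SetLike σ A] [AddSubgroupClass σ A] (𝒜 : ℕ → σ) [GradedRing 𝒜]
    {M τ : Type u} [AddCommGroup M] [Module A M] [SetLike τ M] [AddSubgroupClass τ M] (ℳ : ℕ → τ)
    [SetLike.GradedSMul 𝒜 ℳ] [DirectSum.Decomposition ℳ]
    (hTF : ∃ k : ℕ, (Submodule.span A (⋃ i ∈ Set.Ici k, (ℳ i : Set M))).FG) :
    ∃ N : ℕ, ∀ n : ℕ, N ≤ n → Function.Bijective (GrMod.alpha 𝒜 ℳ n) := by
  classical
  obtain ⟨k, hk⟩ := hTF
  haveI hft : Algebra.FiniteType (zgr 𝒜 0) A :=
    ((Groth.Agent.Helper7.Graded.isNoetherianRing_iff (zgr 𝒜)).mp inferInstance).2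
  obtain ⟨d, hd, hpow⟩ := Groth.Agent.Helper7.Graded.exists_pow_eq (zgr 𝒜)
  haveI : NeZero d := ⟨hd.ne'⟩
  haveI := vsub_isNoetherianRing 𝒜 d
  have hgenB := vgr_irrelevant_eq 𝒜 d hpow
  have hφd : ∀ n b, b ∈ vgr 𝒜 d n → (vsub 𝒜 d).subtype b ∈ 𝒜 (n * d) := fun n b hb => hb
  have hsurj : ∀ n a, a ∈ 𝒜 (n * d) → ∃ b ∈ vgr 𝒜 d n, (vsub 𝒜 d).subtype b = a :=
    fun n a ha => ⟨⟨a, mem_vsub_of_mem 𝒜 d ha⟩, ha, rfl⟩
  have hstep : ∀ ro : ℕ, ∃ Q : ℕ, ro < d → ∀ q : ℕ, Q ≤ q →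
      Function.Bijective (GrMod.alpha 𝒜 ℳ (q * d + ro)) := by
    intro ro
    by_cases hr : ro < d
    · haveI := vmod_trunc_finite 𝒜 ℳ d ro k hk
      obtain ⟨Q, hQ⟩ := exists_bij_residue 𝒜 (vgr 𝒜 d) d (vsub 𝒜 d).subtype hd hφd
        (Veronese.hom 𝒜 (vgr 𝒜 d) d (vsub 𝒜 d).subtype hd hφd hsurj)
        (fun n g hn hg => Veronese.awayι_hom 𝒜 (vgr 𝒜 d) d (vsub 𝒜 d).subtype hd hφd hsurj hn hg)
        (fun y => Veronese.hom_base_toIdeal 𝒜 (vgr 𝒜 d) d (vsub 𝒜 d).subtype hd hφd hsurj y)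
        ℳ (vmgr 𝒜 ℳ d ro) ro (vinclM 𝒜 ℳ d ro) (fun i x hx => hx) hgenB k hr
        (fun a b hab => Subtype.ext hab)
        (fun i m hm => ⟨⟨m, mem_vmod_of_mem 𝒜 ℳ d ro hm⟩, hm, rfl⟩)
      exact ⟨Q, fun _ => hQ⟩
    · exact ⟨0, fun h => absurd h hr⟩
  choose Qf hQf using hstep
  refine ⟨((Finset.range d).sup Qf) * d, fun n hn => ?_⟩
  have hq : (Finset.range d).sup Qf ≤ n / d := (Nat.le_div_iff_mul_le hd).2 hn
  have hr : n % d < d := Nat.mod_lt n hd
  have e : n / d * d + n % d = n := Nat.div_add_mod' n d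
  have hb := hQf (n % d) hr (n / d)
    (le_trans (Finset.le_sup (f := Qf) (Finset.mem_range.2 hr)) hq)
  rw [e] at hb
  exact hb

end Main

end Groth.Agent.Helper6.VeroTF
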