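import Mathlib
import Groth.Agent.Lib.Helper6.AlphaLocA
import Groth.Agent.Lib.Helper6.VeroTFB
import Groth.Agent.Lib.Helper28.RelTN

/-!
# `α_n : ℳ(U)_n → Γ(Proj 𝒮(U), ℳ(U)(n)~)` is bijective for `n ≥ N`, uniformly in the affine open
`U` of a Noetherian base (helper6)

`good_basicOpen`: bijectivity passes from an affine open to its basic opens; `good_of_cover`:
bijectivity over a finite cover of an affine open by basic opens gives bijectivity over the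
affine open (gluing); `main`: the uniform bound.
-/

set_option autoImplicit false
set_option linter.style.haveILetI false
set_option linter.unusedSectionVars false
set_option linter.unusedVariables false
universe u
open DirectSum CategoryTheory CategoryTheory.Limits AlgebraicGeometry Opposite TopologicalSpace
open scoped HomogeneousIdeal

noncomputable section

namespace Groth.Agent.Helper6.AlphaLoc

open Groth.Agent.Helper28 Groth.Agent.Helper28.RelSys Groth.Agent.Helper28.ChartGlue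

variable {Y : Scheme.{u}} {𝒮 : RelProj.QCGrAlg Y}

theorem ring_res_res {U V W : Y.Opens} (hU : IsAffineOpen U) (hV : IsAffineOpen V)
    (hW : IsAffineOpen W) (i : V ≤ U) (j : W ≤ V) (a : 𝒮.presheaf.obj (op U)) :
    𝒮.res hV hW j (𝒮.res hU hV i a) = 𝒮.res hU hW (j.trans i) a := by
  have c : 𝒮.presheaf.map (homOfLE i).op ≫ 𝒮.presheaf.map (homOfLE j).op =
      𝒮.presheaf.map (homOfLE (j.trans i)).op := by
    rw [← 𝒮.presheaf.map_comp]; rfl
  exact congrArg (fun φ => φ.hom a) c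

variable (ℳ : RelProj.GrModule 𝒮)

theorem mod_res_res {U V W : Y.Opens} (hU : IsAffineOpen U) (hV : IsAffineOpen V)
    (hW : IsAffineOpen W) (i : V ≤ U) (j : W ≤ V) (x : ℳ.mod.val.obj (op U)) :
    ℳ.res hV hW j (ℳ.res hU hV i x) = ℳ.res hU hW (j.trans i) x :=
  rs_rs (osMod ℳ) i j (toSec ℳ x)

/-- the localization data of the restriction to a basic open. -/
theorem loc_data (hℳ : Coh.IsQCoh (osMod ℳ)) {U : Y.Opens} (hU : IsAffineOpen U) (r : Γ(Y, U))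
    (W : Y.Opens) (hW : IsAffineOpen W) (hWr : W = Y.basicOpen r) (hWU : W ≤ U) :
    ((HomogeneousIdeal.irrelevant (𝒮.deg W hW)) ≤
        (HomogeneousIdeal.irrelevant (𝒮.deg U hU)).map (𝒮.res hU hW hWU)) ∧
      (∀ i, ∀ m ∈ ℳ.deg U hU i, ℳ.res hU hW hWU m = 0 →
        ∃ j : ℕ, ((𝒮.str.app (op U)).hom r) ^ j • m = 0) ∧
      (∀ i, ∀ y ∈ ℳ.deg W hW i, ∃ k : ℕ, ∃ m ∈ ℳ.deg U hU i,
        (𝒮.res hU hW hWU ((𝒮.str.app (op U)).hom r)) ^ k • y = ℳ.res hU hW hWU m) ∧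
      (∃ u ∈ 𝒮.deg W hW 0, 𝒮.res hU hW hWU ((𝒮.str.app (op U)).hom r) * u = 1) := by
  subst hWr
  haveI : (osMod ℳ).IsQuasicoherent := hℳ
  let u : Γ(Y, Y.basicOpen r) := Y.presheaf.map (homOfLE (Y.basicOpen_le r)).op r
  have hu : IsUnit u := RingedSpace.isUnit_res_basicOpen _ r
  have hnat : 𝒮.res hU hW hWU ((𝒮.str.app (op U)).hom r) =
      (𝒮.str.app (op (Y.basicOpen r))).hom u := by
    have h1 := 𝒮.str.naturality (homOfLE (Y.basicOpen_le r)).op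
    exact (congrArg (fun φ => φ.hom r) h1).symm
  refine ⟨𝒮.irrelevant_le_map U hU r, ?_, ?_, ?_⟩
  · intro i m hm h0
    obtain ⟨j, hj⟩ := Groth.Agent.Helper13.QCoh.exists_pow_smul_eq_zero (osMod ℳ) hU r
      (toSec ℳ m) (show rs (osMod ℳ) (Y.basicOpen_le r) (toSec ℳ m) = 0 from h0)
    refine ⟨j, ?_⟩
    have h2 : toSec ℳ (((𝒮.str.app (op U)).hom (r ^ j)) • m) = 0 := hj
    rw [map_pow] at h2
    exact h2
  · intro i y hy
    obtain ⟨l, t, ht⟩ := Groth.Agent.Helper13.QCoh.exists_pow_smul_eq_res (osMod ℳ) hU r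
      (toSec ℳ y)
    let t' : ℳ.mod.val.obj (op U) := t
    have ht' : resM ℳ (Y.basicOpen_le r) t' =
        ((𝒮.str.app (op (Y.basicOpen r))).hom (u ^ l)) • y := ht
    have hmem : ((𝒮.str.app (op (Y.basicOpen r))).hom (u ^ l)) • y ∈
        ℳ.deg (Y.basicOpen r) hW i := by
      have := SetLike.GradedSMul.smul_mem (A := 𝒮.deg (Y.basicOpen r) hW)
        (B := ℳ.deg (Y.basicOpen r) hW) (𝒮.str_mem (Y.basicOpen r) hW (u ^ l)) hy
      rwa [vadd_eq_add, zero_add] at this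
    have hdm := GrModTN.decompose_map (ℳ.deg U hU) (ℳ.deg (Y.basicOpen r) hW)
      (ℳ.res hU hW hWU).toAddMonoidHom
      (fun j x hx => ℳ.res_mem hU hW hWU j x hx) t' i
    have hdm' : ((DirectSum.decompose (ℳ.deg (Y.basicOpen r) hW)
        (resM ℳ (Y.basicOpen_le r) t') i : ℳ.deg (Y.basicOpen r) hW i) :
          ℳ.mod.val.obj (op (Y.basicOpen r))) =
        ℳ.res hU hW hWU ((DirectSum.decompose (ℳ.deg U hU) t' i : ℳ.deg U hU i) :
          ℳ.mod.val.obj (op U)) := hdm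
    rw [ht', DirectSum.decompose_of_mem_same _ hmem] at hdm'
    refine ⟨l, _, (DirectSum.decompose (ℳ.deg U hU) t' i).2, ?_⟩
    rw [hnat, ← map_pow]
    exact hdm'
  · obtain ⟨w, hw⟩ := hu.exists_right_inv
    refine ⟨(𝒮.str.app (op (Y.basicOpen r))).hom w, 𝒮.str_mem (Y.basicOpen r) hW w, ?_⟩
    rw [hnat, ← map_mul, hw, map_one]

/-- bijectivity of `α_n` passes from an affine open to a basic open. -/
theorem good_basicOpen (hℳ : Coh.IsQCoh (osMod ℳ))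
    (hN : ∀ (U : Y.Opens) (hU : IsAffineOpen U), IsNoetherianRing (𝒮.presheaf.obj (op U)))
    {U : Y.Opens} (hU : IsAffineOpen U) (r : Γ(Y, U))
    (W : Y.Opens) (hW : IsAffineOpen W) (hWr : W = Y.basicOpen r) (n : ℕ)
    (h : Function.Bijective (GrMod.alpha (𝒮.deg U hU) (ℳ.deg U hU) n)) :
    Function.Bijective (GrMod.alpha (𝒮.deg W hW) (ℳ.deg W hW) n) := by
  have hWU : W ≤ U := hWr ▸ Y.basicOpen_le r
  obtain ⟨hψ, hker, hlift, hu⟩ := loc_data ℳ hℳ hU r W hW hWr hWU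
  haveI := hN U hU
  obtain ⟨s, f, d, hc⟩ := exists_isCov (𝒮.deg U hU)
  have hg := 𝒮.str_mem U hU r
  exact ⟨injective_of_ainj _ _ n (ainj_loc (ℳ.deg U hU) (ℳ.deg W hW) (𝒮.res hU hW hWU)
      (ℳ.res hU hW hWU) hg hker hlift hu hc n (ainj_of_injective _ _ n h.1)),
    surjective_of_asurj _ _ (hc.map _ hψ) n (asurj_loc (ℳ.deg U hU) (ℳ.deg W hW)
      (𝒮.res hU hW hWU) (ℳ.res hU hW hWU) (ℳ.res_mem hU hW hWU) hg hker hlift hu hc n
      (asurj_of_surjective _ _ hc n h.2))⟩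

/-- two local solutions agree on the overlap. -/
theorem overlap_eq (hℳ : Coh.IsQCoh (osMod ℳ)) {V : Y.Opens} (hV : IsAffineOpen V)
    {s : ℕ} {f : Fin s → 𝒮.presheaf.obj (op V)} {d : Fin s → ℕ}
    (hc : IsCov (𝒮.deg V hV) f d) (n : ℕ) (L : Fin s → ℕ) (μ : Fin s → ℳ.mod.val.obj (op V))
    (g g' : Γ(Y, V))
    (hAI : AInj (𝒮.deg _ (hV.basicOpen g)) (ℳ.deg _ (hV.basicOpen g)) n)
    (m₁ : ℳ.mod.val.obj (op (Y.basicOpen g))) (hm₁ : m₁ ∈ ℳ.deg _ (hV.basicOpen g) n)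
    (h₁ : ∀ i, ∃ E : ℕ, (𝒮.res hV (hV.basicOpen g) (Y.basicOpen_le g) (f i)) ^ E •
      ((𝒮.res hV (hV.basicOpen g) (Y.basicOpen_le g) (f i)) ^ L i • m₁ -
        ℳ.res hV (hV.basicOpen g) (Y.basicOpen_le g) (μ i)) = 0)
    (m₂ : ℳ.mod.val.obj (op (Y.basicOpen g'))) (hm₂ : m₂ ∈ ℳ.deg _ (hV.basicOpen g') n)
    (h₂ : ∀ i, ∃ E : ℕ, (𝒮.res hV (hV.basicOpen g') (Y.basicOpen_le g') (f i)) ^ E •
      ((𝒮.res hV (hV.basicOpen g') (Y.basicOpen_le g') (f i)) ^ L i • m₂ -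
        ℳ.res hV (hV.basicOpen g') (Y.basicOpen_le g') (μ i)) = 0)
    (W : Y.Opens) (hW : IsAffineOpen W)
    (hWr : W = Y.basicOpen (Y.presheaf.map (homOfLE (Y.basicOpen_le g)).op g'))
    (i1 : W ≤ Y.basicOpen g) (i2 : W ≤ Y.basicOpen g') :
    rs (osMod ℳ) i1 (toSec ℳ m₁) = rs (osMod ℳ) i2 (toSec ℳ m₂) := by
  classical
  have hD := hV.basicOpen g
  have hD' := hV.basicOpen g'
  have i0 : W ≤ V := i1.trans (Y.basicOpen_le g)
  obtain ⟨hψg, -, -, -⟩ := loc_data ℳ hℳ hV g (Y.basicOpen g) hD rfl (Y.basicOpen_le g)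
  obtain ⟨hψW, hkerW, hliftW, huW⟩ := loc_data ℳ hℳ hD _ W hW hWr i1
  have hcg := hc.map (𝒮.res hV hD (Y.basicOpen_le g)) hψg
  have hAIW : AInj (𝒮.deg W hW) (ℳ.deg W hW) n :=
    ainj_loc (ℳ.deg _ hD) (ℳ.deg W hW) (𝒮.res hD hW i1) (ℳ.res hD hW i1)
      (𝒮.str_mem _ hD _) hkerW hliftW huW hcg n hAI
  have hcW := hcg.map (𝒮.res hD hW i1) hψW
  have hringf : ∀ a : 𝒮.presheaf.obj (op V),
      𝒮.res hD hW i1 (𝒮.res hV hD (Y.basicOpen_le g) a) = 𝒮.res hV hW i0 a :=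
    fun a => ring_res_res hV hD hW _ _ a
  have hringf' : ∀ a : 𝒮.presheaf.obj (op V),
      𝒮.res hD' hW i2 (𝒮.res hV hD' (Y.basicOpen_le g') a) = 𝒮.res hV hW i0 a :=
    fun a => ring_res_res hV hD' hW _ _ a
  have hmodf : ∀ x : ℳ.mod.val.obj (op V),
      ℳ.res hD hW i1 (ℳ.res hV hD (Y.basicOpen_le g) x) = ℳ.res hV hW i0 x :=
    fun x => mod_res_res ℳ hV hD hW _ _ x
  have hmodf' : ∀ x : ℳ.mod.val.obj (op V),
      ℳ.res hD' hW i2 (ℳ.res hV hD' (Y.basicOpen_le g') x) = ℳ.res hV hW i0 x :=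
    fun x => mod_res_res ℳ hV hD' hW _ _ x
  have hδ : ℳ.res hD hW i1 m₁ - ℳ.res hD' hW i2 m₂ = 0 := by
    refine hAIW _ (sub_mem (ℳ.res_mem hD hW i1 n _ hm₁) (ℳ.res_mem hD' hW i2 n _ hm₂)) ?_
    refine hcW.le.trans (Ideal.radical_le_radical_iff.2 (Ideal.span_le.2 ?_))
    rintro _ ⟨i, rfl⟩
    obtain ⟨E, hE⟩ := h₁ i
    obtain ⟨E', hE'⟩ := h₂ i
    have r1 := map_rel1 (𝒮.res hD hW i1) (ℳ.res hD hW i1) hE
    have r2 := map_rel1 (𝒮.res hD' hW i2) (ℳ.res hD' hW i2) hE'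
    rw [hringf, hmodf] at r1
    rw [hringf', hmodf'] at r2
    refine (mem_rann.2 ⟨E + E' + L i, ?_⟩ :
      𝒮.res hD hW i1 (𝒮.res hV hD (Y.basicOpen_le g) (f i)) ∈
        rann (A := 𝒮.presheaf.obj (op W)) (ℳ.res hD hW i1 m₁ - ℳ.res hD' hW i2 m₂))
    rw [hringf]
    exact diff_kill r1 r2
  exact sub_eq_zero.1 hδ

/-- bijectivity of `α_n` over a finite cover of an affine open by basic opens implies
bijectivity over the affine open. -/
theorem good_of_cover (hℳ : Coh.IsQCoh (osMod ℳ))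
    (hN : ∀ (U : Y.Opens) (hU : IsAffineOpen U), IsNoetherianRing (𝒮.presheaf.obj (op U)))
    {V : Y.Opens} (hV : IsAffineOpen V) (T : Finset Γ(Y, V))
    (hT : ∀ x ∈ V, ∃ g ∈ T, x ∈ Y.basicOpen g) (n : ℕ)
    (hgood : ∀ g ∈ T, Function.Bijective (GrMod.alpha (𝒮.deg (Y.basicOpen g) (hV.basicOpen g))
      (ℳ.deg (Y.basicOpen g) (hV.basicOpen g)) n)) :
    Function.Bijective (GrMod.alpha (𝒮.deg V hV) (ℳ.deg V hV) n) := by
  classical
  haveI := hN V hV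
  obtain ⟨s, f, d, hc⟩ := exists_isCov (𝒮.deg V hV)
  have hD : ∀ g : Γ(Y, V), IsAffineOpen (Y.basicOpen g) := fun g => hV.basicOpen g
  have hle : ∀ g : Γ(Y, V), Y.basicOpen g ≤ V := fun g => Y.basicOpen_le g
  have LD := fun g : Γ(Y, V) => loc_data ℳ hℳ hV g (Y.basicOpen g) (hD g) rfl (hle g)
  have hAI : ∀ g ∈ T, AInj (𝒮.deg _ (hD g)) (ℳ.deg _ (hD g)) n :=
    fun g hg => ainj_of_injective _ _ n (hgood g hg).1
  refine ⟨injective_of_ainj _ _ n ?_, surjective_of_asurj _ _ hc n ?_⟩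
  · intro m hm hle'
    apply toSec_eq_zero ℳ
    apply sec_ext
    intro x hx
    obtain ⟨g, hgT, hxg⟩ := hT x hx
    refine ⟨Y.basicOpen g, hle g, hxg, ?_⟩
    have h2 := hAI g hgT (ℳ.res hV (hD g) (hle g) m) (ℳ.res_mem hV (hD g) (hle g) n m hm)
      (le_rann_map (𝒮.res hV (hD g) (hle g)) (LD g).1 (ℳ.res hV (hD g) (hle g)) hle')
    have e0 : rs (osMod ℳ) (hle g) (0 : Γ(osMod ℳ, V)) = 0 := map_zero _
    exact (show rs (osMod ℳ) (hle g) (toSec ℳ m) = 0 from h2).trans e0.symm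
  · intro L μ hμ hcompat
    have H : ∀ g : Γ(Y, V), g ∈ T → ∃ mg : ℳ.mod.val.obj (op (Y.basicOpen g)),
        mg ∈ ℳ.deg _ (hD g) n ∧ ∀ i, ∃ E : ℕ,
          (𝒮.res hV (hD g) (hle g) (f i)) ^ E •
            ((𝒮.res hV (hD g) (hle g) (f i)) ^ L i • mg -
              ℳ.res hV (hD g) (hle g) (μ i)) = 0 := by
      intro g hgT
      have h2 : ASurjC (ℳ.deg _ (hD g)) (fun i => 𝒮.res hV (hD g) (hle g) (f i)) d n :=
        asurj_of_surjective _ _ (hc.map _ (LD g).1) n (hgood g hgT).2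
      exact h2 L (fun i => ℳ.res hV (hD g) (hle g) (μ i))
        (fun i => ℳ.res_mem _ _ _ _ _ (hμ i))
        (fun i k => by
          obtain ⟨E, hE⟩ := hcompat i k
          exact ⟨E, map_compat_rel (𝒮.res hV (hD g) (hle g)) (ℳ.res hV (hD g) (hle g)) hE⟩)
    choose mg hmg hmgE using H
    let Uf : {g // g ∈ T} → Y.Opens := fun j => Y.basicOpen j.1
    let sf : ∀ j : {g // g ∈ T}, Γ(osMod ℳ, Uf j) := fun j => toSec ℳ (mg j.1 j.2)
    have hcompatS : TopCat.Presheaf.IsCompatible (osMod ℳ).presheaf Uf sf := by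
      rintro ⟨g, hgT⟩ ⟨g', hgT'⟩
      have hWr : Y.basicOpen g ⊓ Y.basicOpen g' =
          Y.basicOpen (Y.presheaf.map (homOfLE (Y.basicOpen_le g)).op g') :=
        (Y.basicOpen_res g' (homOfLE (Y.basicOpen_le g)).op).symm
      exact overlap_eq ℳ hℳ hV hc n L μ g g' (hAI g hgT) (mg g hgT) (hmg g hgT)
        (hmgE g hgT) (mg g' hgT') (hmg g' hgT') (hmgE g' hgT') _
        (hWr ▸ (hD g).basicOpen _) hWr inf_le_left inf_le_right
    have hcov : V ≤ iSup Uf := fun x hx => by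
      obtain ⟨g, hgT, hxg⟩ := hT x hx
      exact Opens.mem_iSup.2 ⟨⟨g, hgT⟩, hxg⟩
    obtain ⟨t, ht, -⟩ := TopCat.Sheaf.existsUnique_gluing'
      ⟨(osMod ℳ).presheaf, (osMod ℳ).isSheaf⟩ Uf V (fun j => homOfLE (hle j.1)) hcov sf
      hcompatS
    let t' : ℳ.mod.val.obj (op V) := t
    have ht' : ∀ g (hgT : g ∈ T), ℳ.res hV (hD g) (hle g) t' = mg g hgT :=
      fun g hgT => ht ⟨g, hgT⟩
    have hres : ∀ g (hgT : g ∈ T), ℳ.res hV (hD g) (hle g)
        ((DirectSum.decompose (ℳ.deg V hV) t' n : ℳ.deg V hV n) : ℳ.mod.val.obj (op V)) =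
          mg g hgT := by
      intro g hgT
      have hdm := GrModTN.decompose_map (ℳ.deg V hV) (ℳ.deg _ (hD g))
        (ℳ.res hV (hD g) (hle g)).toAddMonoidHom
        (fun j x hx => ℳ.res_mem hV (hD g) (hle g) j x hx) t' n
      have hdm' : ((DirectSum.decompose (ℳ.deg _ (hD g)) (ℳ.res hV (hD g) (hle g) t') n :
          ℳ.deg _ (hD g) n) : ℳ.mod.val.obj (op (Y.basicOpen g))) =
          ℳ.res hV (hD g) (hle g)
            ((DirectSum.decompose (ℳ.deg V hV) t' n : ℳ.deg V hV n) :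
              ℳ.mod.val.obj (op V)) := hdm
      rw [ht' g hgT, DirectSum.decompose_of_mem_same _ (hmg g hgT)] at hdm'
      exact hdm'.symm
    have hm0 : ((DirectSum.decompose (ℳ.deg V hV) t' n : ℳ.deg V hV n) :
        ℳ.mod.val.obj (op V)) ∈ ℳ.deg V hV n := (DirectSum.decompose (ℳ.deg V hV) t' n).2
    generalize ((DirectSum.decompose (ℳ.deg V hV) t' n : ℳ.deg V hV n) :
        ℳ.mod.val.obj (op V)) = m at hres hm0
    refine ⟨m, hm0, fun i => ?_⟩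
    have HE := fun g (hgT : g ∈ T) => hmgE g hgT i
    choose Eg hEg using HE
    obtain ⟨E, hE⟩ : ∃ E, ∀ g (hgT : g ∈ T), Eg g hgT ≤ E :=
      ⟨T.attach.sup (fun j => Eg j.1 j.2), fun g hgT =>
        Finset.le_sup (f := fun j : {g // g ∈ T} => Eg j.1 j.2) (Finset.mem_attach T ⟨g, hgT⟩)⟩
    refine ⟨E, ?_⟩
    apply toSec_eq_zero ℳ
    apply sec_ext
    intro x hx
    obtain ⟨g, hgT, hxg⟩ := hT x hx
    refine ⟨Y.basicOpen g, hle g, hxg, ?_⟩
    have e0 : rs (osMod ℳ) (hle g) (0 : Γ(osMod ℳ, V)) = 0 := map_zero _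
    refine Eq.trans ?_ e0.symm
    show ℳ.res hV (hD g) (hle g) (f i ^ E • (f i ^ L i • m - μ i)) = 0
    rw [map_pow_rel, hres g hgT]
    obtain ⟨c, hc'⟩ := Nat.exists_eq_add_of_le (hE g hgT)
    rw [hc', pow_add, mul_comm, mul_smul, hEg g hgT, smul_zero]

/-- the sections of a finite type algebra over a Noetherian scheme are Noetherian rings. -/
theorem noeth [IsLocallyNoetherian Y]
    (hft : ∀ (U : Y.Opens) (hU : IsAffineOpen U), (𝒮.str.app (op U)).hom.FiniteType)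
    (U : Y.Opens) (hU : IsAffineOpen U) : IsNoetherianRing (𝒮.presheaf.obj (op U)) := by
  haveI : IsNoetherianRing Γ(Y, U) := IsLocallyNoetherian.component_noetherian ⟨U, hU⟩
  letI := (𝒮.str.app (op U)).hom.toAlgebra
  haveI : Algebra.FiniteType Γ(Y, U) (𝒮.presheaf.obj (op U)) := hft U hU
  exact Algebra.FiniteType.isNoetherianRing Γ(Y, U) _

/-- **uniform bijectivity of `α_n`** over a Noetherian base. -/
theorem main [AlgebraicGeometry.IsNoetherian Y]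
    (hft : ∀ (U : Y.Opens) (hU : IsAffineOpen U), (𝒮.str.app (op U)).hom.FiniteType)
    (hℳ : Coh.IsQCoh (osMod ℳ)) (hTF : ℳ.IsTF) :
    ∃ N : ℕ, ∀ n : ℕ, N ≤ n → ∀ (U : Y.Opens) (hU : IsAffineOpen U),
      Function.Bijective (GrMod.alpha (𝒮.deg U hU) (ℳ.deg U hU) n) := by
  classical
  have hN := noeth (𝒮 := 𝒮) hft
  obtain ⟨k, hk⟩ := hTF
  have hloc : ∀ (U : Y.Opens) (hU : IsAffineOpen U), ∃ N : ℕ, ∀ n, N ≤ n →
      Function.Bijective (GrMod.alpha (𝒮.deg U hU) (ℳ.deg U hU) n) := by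
    intro U hU
    haveI := hN U hU
    exact Groth.Agent.Helper6.VeroTF.main (𝒮.deg U hU) (ℳ.deg U hU) ⟨k, hk U hU⟩
  choose Nf hNf using hloc
  have hcov : ∀ x : Y, ∃ U : Y.affineOpens, x ∈ (U.1 : Y.Opens) := by
    intro x
    obtain ⟨_, ⟨V, hV, rfl⟩, hxV, -⟩ := Y.isBasis_affineOpens.exists_subset_of_mem_open
      (Set.mem_univ x) isOpen_univ
    exact ⟨⟨V, hV⟩, hxV⟩
  obtain ⟨T, hT⟩ := isCompact_univ.elim_finite_subcover
    (fun U : Y.affineOpens => ((U.1 : Y.Opens) : Set Y)) (fun U => U.1.2)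
    (fun x _ => by
      obtain ⟨U, hU⟩ := hcov x
      exact Set.mem_iUnion.2 ⟨U, hU⟩)
  refine ⟨T.sup (fun U => Nf U.1 U.2), fun n hn V hV => ?_⟩
  have H : ∀ x : V, ∃ g : Γ(Y, V), (x : Y) ∈ Y.basicOpen g ∧
      Function.Bijective (GrMod.alpha (𝒮.deg (Y.basicOpen g) (hV.basicOpen g))
        (ℳ.deg (Y.basicOpen g) (hV.basicOpen g)) n) := by
    intro x
    have hx := hT (Set.mem_univ x.1)
    simp only [Set.mem_iUnion, exists_prop] at hx
    obtain ⟨U, hUT, hxU⟩ := hx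
    obtain ⟨f, g, hfg, hxf⟩ := exists_basicOpen_le_affine_inter U.2 hV x.1 ⟨hxU, x.2⟩
    refine ⟨g, hfg ▸ hxf, ?_⟩
    have hNU : Nf U.1 U.2 ≤ n :=
      le_trans (Finset.le_sup (f := fun U : Y.affineOpens => Nf U.1 U.2) hUT) hn
    exact good_basicOpen ℳ hℳ hN U.2 f (Y.basicOpen g) (hV.basicOpen g) hfg.symm n
      (hNf U.1 U.2 n hNU)
  choose gx hgx hgood using H
  obtain ⟨T', hT'⟩ := hV.isCompact.elim_finite_subcover
    (fun x : V => ((Y.basicOpen (gx x) : Y.Opens) : Set Y)) (fun x => (Y.basicOpen (gx x)).2)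
    (fun y hy => Set.mem_iUnion.2 ⟨⟨y, hy⟩, hgx ⟨y, hy⟩⟩)
  refine good_of_cover ℳ hℳ hN hV (T'.image gx) ?_ n ?_
  · intro x hx
    have h1 := hT' hx
    simp only [Set.mem_iUnion, exists_prop] at h1
    obtain ⟨z, hzT, hxz⟩ := h1
    exact ⟨gx z, Finset.mem_image_of_mem gx hzT, hxz⟩
  · intro g hg
    obtain ⟨z, -, rfl⟩ := Finset.mem_image.1 hg
    exact hgood z

end Groth.Agent.Helper6.AlphaLoc

end
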