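import Mathlib
import Groth.Agent.Lib.Helper15.Wt1
import Groth.Agent.Lib.Helper16.Sch.NilLift2

/-!
# Formal versality at a point: from trivial residue field extensions to finite ones

Ring-level: for a local Artinian ring `D` and a local hom `φ : O → D` with finite residue
extension, the subring `sub φ = {d | d mod m ∈ image of κ(O)}` is local Artinian with the same
maximal ideal and residue field `= image of κ(O)`.  Scheme-level: `core` (S18018 without the
affine / finite type hypotheses) and `etale_versal` (S18017).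
-/

set_option autoImplicit false
set_option linter.style.haveILetI false
universe u
open CategoryTheory AlgebraicGeometry IsLocalRing

namespace Groth.Agent.Helper6.ArtinVersal

section Ring

variable {D : Type u} [CommRing D] [IsLocalRing D]

/-- A subring of a local ring containing the maximal ideal, closed under inverses, over which
the ring is finite. -/
structure Good (D₀ : Subring D) : Prop where
  max_le : ∀ d : D, d ∈ maximalIdeal D → d ∈ D₀
  inv_mem : ∀ a b : D, a ∈ D₀ → a * b = 1 → b ∈ D₀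
  fin : ∃ (ι : Type u) (_ : Fintype ι) (e : ι → D), ∀ d : D, ∃ c : ι → D,
    (∀ i, c i ∈ D₀) ∧ d = ∑ i, c i * e i

variable {D₀ : Subring D}

theorem Good.isUnit_iff (h : Good D₀) (a : D₀) : IsUnit a ↔ IsUnit (a : D) := by
  constructor
  · intro ha
    exact ha.map D₀.subtype
  · intro ha
    obtain ⟨b, hb⟩ := isUnit_iff_exists_inv.mp ha
    exact isUnit_iff_exists_inv.mpr ⟨⟨b, h.inv_mem _ _ a.2 hb⟩, Subtype.ext hb⟩

theorem Good.isLocalRing (h : Good D₀) : IsLocalRing D₀ := by
  refine IsLocalRing.of_isUnit_or_isUnit_one_sub_self fun a => ?_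
  rcases IsLocalRing.isUnit_or_isUnit_one_sub_self (a : D) with h1 | h1
  · exact Or.inl ((h.isUnit_iff a).mpr h1)
  · exact Or.inr ((h.isUnit_iff (1 - a)).mpr h1)

theorem Good.mem_maximalIdeal_iff (h : Good D₀) [IsLocalRing D₀] (a : D₀) :
    a ∈ maximalIdeal D₀ ↔ (a : D) ∈ maximalIdeal D := by
  rw [mem_maximalIdeal, mem_maximalIdeal, mem_nonunits_iff, mem_nonunits_iff, h.isUnit_iff]

theorem Good.isArtinianRing (h : Good D₀) [IsArtinianRing D] : IsArtinianRing D₀ := by
  haveI := h.isLocalRing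
  have hnil : ∀ a : D₀, a ∈ maximalIdeal D₀ → IsNilpotent a := by
    intro a ha
    have h1 : (a : D) ∈ maximalIdeal D := (h.mem_maximalIdeal_iff a).mp ha
    obtain ⟨n, hn⟩ := (Ring.KrullDimLE.isNilpotent_iff_mem_maximalIdeal).mpr h1
    exact ⟨n, Subtype.ext (by simpa using hn)⟩
  have hprime : ∀ P : Ideal D₀, P.IsPrime → P = maximalIdeal D₀ := by
    intro P hP
    refine le_antisymm (IsLocalRing.le_maximalIdeal hP.ne_top) fun a ha => ?_
    obtain ⟨n, hn⟩ := hnil a ha
    exact hP.mem_of_pow_mem n (by rw [hn]; exact P.zero_mem)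
  have hfg : (maximalIdeal D₀).FG := by
    obtain ⟨ι, _, e, he⟩ := h.fin
    obtain ⟨s, hs⟩ := (isNoetherianRing_iff_ideal_fg D).mp inferInstance (maximalIdeal D)
    have hsm : ∀ x : s, (x : D) ∈ maximalIdeal D := fun x => by
      rw [← hs]; exact Ideal.subset_span x.2
    have hmem : ∀ (i : ι) (x : s), e i * (x : D) ∈ D₀ :=
      fun i x => h.max_le _ (Ideal.mul_mem_left _ _ (hsm x))
    let gen : ι × s → D₀ := fun p => ⟨e p.1 * (p.2 : D), hmem p.1 p.2⟩
    have hspan : maximalIdeal D₀ = Ideal.span (Set.range gen) := by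
      refine le_antisymm (fun a ha => ?_) ?_
      · have h1 : (a : D) ∈ Ideal.span (Set.range (Subtype.val : s → D)) := by
          rw [Subtype.range_coe]
          exact hs ▸ (h.mem_maximalIdeal_iff a).mp ha
        obtain ⟨c, hc⟩ := (Ideal.mem_span_range_iff_exists_fun).mp h1
        choose cc hcc hcc' using fun x => he (c x)
        have hsum : a = ∑ x : s, ∑ i : ι, (⟨cc x i, hcc x i⟩ : D₀) * gen (i, x) := by
          apply Subtype.ext
          rw [← hc]
          push_cast
          refine Finset.sum_congr rfl fun x _ => ?_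
          rw [hcc' x, Finset.sum_mul]
          refine Finset.sum_congr rfl fun i _ => ?_
          simp only [gen, mul_assoc]
        rw [hsum]
        exact Ideal.sum_mem _ fun x _ => Ideal.sum_mem _ fun i _ =>
          Ideal.mul_mem_left _ _ (Ideal.subset_span ⟨(i, x), rfl⟩)
      · rw [Ideal.span_le]
        rintro _ ⟨p, rfl⟩
        exact (h.mem_maximalIdeal_iff _).mpr (Ideal.mul_mem_left _ _ (hsm p.2))
    rw [hspan]
    exact Submodule.fg_span (Set.finite_range gen)
  haveI : IsNoetherianRing D₀ := IsNoetherianRing.of_prime fun P hP => by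
    rw [hprime P hP]; exact hfg
  haveI : Ring.KrullDimLE 0 D₀ := Ring.KrullDimLE.mk₀ fun P hP => by
    rw [hprime P hP]; infer_instance
  exact IsNoetherianRing.isArtinianRing_of_krullDimLE_zero

variable {O : Type u} [CommRing O]

/-- The residue field of `D` is finite over the image of `O` (elementwise form). -/
def ResFin (φ : O →+* D) : Prop :=
  ∃ (ι : Type u) (_ : Fintype ι) (e : ι → D), ∀ d : D, ∃ x : ι → O,
    d - ∑ i, φ (x i) * e i ∈ maximalIdeal D

/-- `O → D` is surjective on residue fields (elementwise form). -/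
def ResSurj (φ : O →+* D) : Prop := ∀ d : D, ∃ x : O, d - φ x ∈ maximalIdeal D

theorem resFin_of_finite [IsLocalRing O] (φ : O →+* D) [IsLocalHom φ]
    (hfin : (ResidueField.map φ).Finite) : ResFin φ := by
  letI := (ResidueField.map φ).toAlgebra
  have hfin' : Module.Finite (ResidueField O) (ResidueField D) := hfin
  obtain ⟨s, hs⟩ := hfin'.fg_top
  obtain ⟨liftO, hliftO⟩ : ∃ l : ResidueField O → O, ∀ z, residue O (l z) = z :=
    ⟨Function.surjInv residue_surjective, Function.surjInv_eq residue_surjective⟩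
  obtain ⟨liftD, hliftD⟩ : ∃ l : ResidueField D → D, ∀ z, residue D (l z) = z :=
    ⟨Function.surjInv residue_surjective, Function.surjInv_eq residue_surjective⟩
  refine ⟨s, inferInstance, fun z => liftD (z : ResidueField D), fun d => ?_⟩
  have h1 : residue D d ∈
      Submodule.span (ResidueField O) (Set.range (Subtype.val : s → ResidueField D)) := by
    rw [Subtype.range_coe, hs]; trivial
  obtain ⟨l, hl⟩ := (Submodule.mem_span_range_iff_exists_fun _).mp h1
  refine ⟨fun z => liftO (l z), ?_⟩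
  rw [← residue_eq_zero_iff, map_sub, map_sum, ← hl, sub_eq_zero]
  refine Finset.sum_congr rfl fun z _ => ?_
  rw [map_mul, ← ResidueField.map_residue, hliftO, hliftD, Algebra.smul_def]
  rfl

theorem ResFin.comp_surj {φ : O →+* D} (h : ResFin φ) {E : Type u} [CommRing E] [IsLocalRing E]
    (σ : D →+* E) (hσ : Function.Surjective σ) : ResFin (σ.comp φ) := by
  haveI := IsLocalHom.of_surjective σ hσ
  obtain ⟨ι, _, e, he⟩ := h
  refine ⟨ι, inferInstance, fun i => σ (e i), fun d' => ?_⟩
  obtain ⟨d, rfl⟩ := hσ d'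
  obtain ⟨x, hx⟩ := he d
  refine ⟨x, ?_⟩
  have := map_nonunit σ _ hx
  simpa [map_sub, map_sum, map_mul] using this

theorem ResSurj.comp_right {φ : O →+* D} (h : ResSurj φ) {O' : Type u} [CommRing O']
    (τ : O' →+* O) (hτ : Function.Surjective τ) : ResSurj (φ.comp τ) := by
  intro d
  obtain ⟨x, hx⟩ := h d
  obtain ⟨x', rfl⟩ := hτ x
  exact ⟨x', hx⟩

theorem ResSurj.of_comp {φ : O →+* D} {E : Type u} [CommRing E] [IsLocalRing E]
    (σ : D →+* E) (h : ResSurj (σ.comp φ)) : ResSurj φ := by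
  intro d
  obtain ⟨x, hx⟩ := h (σ d)
  refine ⟨x, ?_⟩
  rw [mem_maximalIdeal, mem_nonunits_iff] at hx ⊢
  intro hu
  apply hx
  have := hu.map σ
  simpa [map_sub] using this

theorem surjective_map_of_resSurj [IsLocalRing O] (φ : O →+* D) [IsLocalHom φ]
    (h : ResSurj φ) : Function.Surjective (ResidueField.map φ) := by
  intro z
  obtain ⟨d, rfl⟩ := residue_surjective z
  obtain ⟨x, hx⟩ := h d
  refine ⟨residue O x, ?_⟩
  rw [ResidueField.map_residue]
  symm
  rw [← sub_eq_zero, ← map_sub, residue_eq_zero_iff]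
  exact hx

variable [IsLocalRing O]

/-- The preimage in `D` of the image of `κ(O)` in `κ(D)`. -/
noncomputable def sub (φ : O →+* D) [IsLocalHom φ] : Subring D :=
  (ResidueField.map φ).range.comap (residue D)

theorem mem_sub_iff (φ : O →+* D) [IsLocalHom φ] (d : D) :
    d ∈ sub φ ↔ ∃ x : O, d - φ x ∈ maximalIdeal D := by
  rw [sub, Subring.mem_comap, RingHom.mem_range]
  constructor
  · rintro ⟨z, hz⟩
    obtain ⟨x, rfl⟩ := residue_surjective z
    refine ⟨x, ?_⟩
    rw [← residue_eq_zero_iff, map_sub, ← hz, ResidueField.map_residue, sub_self]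
  · rintro ⟨x, hx⟩
    refine ⟨residue O x, ?_⟩
    rw [ResidueField.map_residue]
    rw [← residue_eq_zero_iff, map_sub, sub_eq_zero] at hx
    exact hx.symm

theorem map_mem_sub (φ : O →+* D) [IsLocalHom φ] (x : O) : φ x ∈ sub φ :=
  (mem_sub_iff φ _).mpr ⟨x, by rw [sub_self]; exact Ideal.zero_mem _⟩

theorem good_sub (φ : O →+* D) [IsLocalHom φ] (h : ResFin φ) : Good (sub φ) where
  max_le d hd := (mem_sub_iff φ d).mpr ⟨0, by rw [map_zero, sub_zero]; exact hd⟩
  inv_mem a b ha hab := by
    rw [sub, Subring.mem_comap, RingHom.mem_range] at ha ⊢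
    obtain ⟨z, hz⟩ := ha
    refine ⟨z⁻¹, ?_⟩
    have h1 : residue D a * residue D b = 1 := by rw [← map_mul, hab, map_one]
    rw [map_inv₀, hz]
    exact inv_eq_of_mul_eq_one_right h1
  fin := by
    obtain ⟨ι, _, e, he⟩ := h
    refine ⟨Option ι, inferInstance, fun i => i.elim 1 e, fun d => ?_⟩
    obtain ⟨x, hx⟩ := he d
    refine ⟨fun i => i.elim (d - ∑ i, φ (x i) * e i) (fun i => φ (x i)), ?_, ?_⟩
    · rintro (_ | i)
      · exact (mem_sub_iff φ _).mpr ⟨0, by rw [map_zero, sub_zero]; exact hx⟩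
      · exact map_mem_sub φ (x i)
    · rw [Fintype.sum_option]
      simp

theorem good_comap {D' : Type u} [CommRing D'] [IsLocalRing D'] (π : D' →+* D)
    (hπ : Function.Surjective π) {D₀ : Subring D} (h : Good D₀) : Good (D₀.comap π) where
  max_le d hd := by
    haveI := IsLocalHom.of_surjective π hπ
    rw [Subring.mem_comap]
    exact h.max_le _ (map_nonunit π d hd)
  inv_mem a b ha hab := by
    rw [Subring.mem_comap] at ha ⊢
    exact h.inv_mem (π a) (π b) ha (by rw [← map_mul, hab, map_one])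
  fin := by
    obtain ⟨ι, _, e, he⟩ := h.fin
    obtain ⟨lift, hlift⟩ : ∃ lift : D → D', ∀ y, π (lift y) = y :=
      ⟨Function.surjInv hπ, Function.surjInv_eq hπ⟩
    refine ⟨Option ι, inferInstance, fun i => i.elim 1 (fun j => lift (e j)), fun d => ?_⟩
    obtain ⟨c, hc, hd⟩ := he (π d)
    refine ⟨fun i => i.elim (d - ∑ j, lift (c j) * lift (e j)) (fun j => lift (c j)), ?_, ?_⟩
    · rintro (_ | j)
      · show (d - ∑ j, lift (c j) * lift (e j)) ∈ D₀.comap π
        rw [Subring.mem_comap]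
        have : π (d - ∑ j, lift (c j) * lift (e j)) = 0 := by
          rw [map_sub, map_sum, sub_eq_zero, hd]
          refine Finset.sum_congr rfl fun j _ => ?_
          rw [map_mul, hlift, hlift]
        rw [this]; exact D₀.zero_mem
      · show lift (c j) ∈ D₀.comap π
        rw [Subring.mem_comap, hlift]
        exact hc j
    · rw [Fintype.sum_option]
      simp

end Ring

section Sch

theorem iso_hom_surjective {A B : CommRingCat.{u}} (i : A ≅ B) :
    Function.Surjective i.hom.hom := fun y =>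
  ⟨i.inv.hom y, by simp⟩

theorem SpecMap_fromSpecStalk_congr {X : Scheme.{u}} {R : CommRingCat.{u}} {x y : X} (h₁ : x = y)
    (f : X.presheaf.stalk x ⟶ R) (f' : X.presheaf.stalk y ⟶ R)
    (h : f = (X.presheaf.stalkCongr (Inseparable.of_eq h₁)).hom ≫ f') :
    Spec.map f ≫ X.fromSpecStalk x = Spec.map f' ≫ X.fromSpecStalk y := by
  subst h₁
  have : f = f' := by rw [h]; simp
  rw [this]

theorem SpecMap_fromSpecStalk_eq {X : Scheme.{u}} {R : CommRingCat.{u}} [IsLocalRing R] {x y : X}
    (f : X.presheaf.stalk x ⟶ R) [IsLocalHom f.hom] (f' : X.presheaf.stalk y ⟶ R)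
    [IsLocalHom f'.hom]
    (h : Spec.map f ≫ X.fromSpecStalk x = Spec.map f' ≫ X.fromSpecStalk y) :
    ∃ h₁ : x = y, f = (X.presheaf.stalkCongr (Inseparable.of_eq h₁)).hom ≫ f' := by
  have h2 : (⟨x, f, inferInstance⟩ :
      Σ x, { f : X.presheaf.stalk x ⟶ R // IsLocalHom f.hom }) = ⟨y, f', inferInstance⟩ :=
    (SpecToEquivOfLocalRing X R).symm.injective h
  exact SpecToEquivOfLocalRing_eq_iff.mp h2

theorem stalkClosedPointTo_SpecMap_fromSpecStalk {X : Scheme.{u}} {R : CommRingCat.{u}}
    [IsLocalRing R] {x : X} (f : X.presheaf.stalk x ⟶ R) [IsLocalHom f.hom] :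
    ∃ h₁ : (Spec.map f ≫ X.fromSpecStalk x) (closedPoint R) = x,
      Scheme.stalkClosedPointTo (Spec.map f ≫ X.fromSpecStalk x) =
        (X.presheaf.stalkCongr (Inseparable.of_eq h₁)).hom ≫ f :=
  SpecMap_fromSpecStalk_eq _ _
    (Scheme.Spec_stalkClosedPointTo_fromSpecStalk (Spec.map f ≫ X.fromSpecStalk x))

theorem surjective_residueFieldMap_of_resSurj {X : Scheme.{u}} {R : CommRingCat.{u}}
    [IsLocalRing R] {x : X} (f : X.presheaf.stalk x ⟶ R) [IsLocalHom f.hom]
    (hf : ResSurj f.hom) :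
    Function.Surjective
      ((Spec.map f ≫ X.fromSpecStalk x).residueFieldMap (closedPoint R)).hom := by
  obtain ⟨h₁, h₂⟩ := stalkClosedPointTo_SpecMap_fromSpecStalk f
  have h3 : ResSurj (f.hom.comp (X.presheaf.stalkCongr (Inseparable.of_eq h₁)).hom.hom) :=
    hf.comp_right _ (iso_hom_surjective _)
  have h4 : ResSurj (((stalkClosedPointIso R).hom.hom).comp
      ((Spec.map f ≫ X.fromSpecStalk x).stalkMap (closedPoint R)).hom) := by
    have h5 := congrArg CommRingCat.Hom.hom h₂
    have h6 : (((stalkClosedPointIso R).hom.hom).comp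
      ((Spec.map f ≫ X.fromSpecStalk x).stalkMap (closedPoint R)).hom) =
        (Scheme.stalkClosedPointTo (Spec.map f ≫ X.fromSpecStalk x)).hom := rfl
    rw [h6, h5]
    exact h3
  exact surjective_map_of_resSurj _ (ResSurj.of_comp _ h4)

theorem resFin_stalkClosedPointTo {X : Scheme.{u}} {R : CommRingCat.{u}} [IsLocalRing R]
    (a : Spec R ⟶ X) (hfin : (a.residueFieldMap (closedPoint R)).hom.Finite) :
    ResFin (Scheme.stalkClosedPointTo a).hom := by
  have h1 : ResFin (a.stalkMap (closedPoint R)).hom := resFin_of_finite _ hfin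
  exact h1.comp_surj (stalkClosedPointIso R).hom.hom (iso_hom_surjective _)

/-- Formal versality with trivial residue field extension implies the lifting property for all
finite residue field extensions (S18018 without its affineness / finite type hypotheses). -/
theorem core {S T : Scheme.{u}} (g : T ⟶ S) (t : T)
    (hT : ∀ (C C' : Type u) [CommRing C] [CommRing C'] [IsLocalRing C] [IsLocalRing C']
        [IsArtinianRing C] [IsArtinianRing C'] (π : C' →+* C), Function.Surjective π →
        ∀ (a : Spec (CommRingCat.of C) ⟶ T) (b : Spec (CommRingCat.of C') ⟶ S),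
          a (IsLocalRing.closedPoint C) = t →
          Function.Surjective (a.residueFieldMap (IsLocalRing.closedPoint C)).hom →
          Spec.map (CommRingCat.ofHom π) ≫ b = a ≫ g →
          ∃ c : Spec (CommRingCat.of C') ⟶ T,
            Spec.map (CommRingCat.ofHom π) ≫ c = a ∧ c ≫ g = b)
    (C C' : Type u) [CommRing C] [CommRing C'] [IsLocalRing C] [IsLocalRing C']
    [IsArtinianRing C] [IsArtinianRing C'] (π : C' →+* C) (hπ : Function.Surjective π)
    (a : Spec (CommRingCat.of C) ⟶ T) (b : Spec (CommRingCat.of C') ⟶ S)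
    (ha : a (IsLocalRing.closedPoint C) = t)
    (hfin : (a.residueFieldMap (IsLocalRing.closedPoint C)).hom.Finite)
    (hcomm : Spec.map (CommRingCat.ofHom π) ≫ b = a ≫ g) :
    ∃ c : Spec (CommRingCat.of C') ⟶ T,
      Spec.map (CommRingCat.ofHom π) ≫ c = a ∧ c ≫ g = b := by
  obtain ⟨α, hα_loc, hαfin, haα⟩ :
      ∃ α : T.presheaf.stalk (a (closedPoint C)) ⟶ CommRingCat.of C, ∃ _ : IsLocalHom α.hom,
        ResFin α.hom ∧ Spec.map α ≫ T.fromSpecStalk _ = a :=
    ⟨Scheme.stalkClosedPointTo a, inferInstance, resFin_stalkClosedPointTo a hfin,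
      Scheme.Spec_stalkClosedPointTo_fromSpecStalk a⟩
  obtain ⟨β, hβ_loc, hbβ⟩ :
      ∃ β : S.presheaf.stalk (b (closedPoint C')) ⟶ CommRingCat.of C', ∃ _ : IsLocalHom β.hom,
        Spec.map β ≫ S.fromSpecStalk _ = b :=
    ⟨Scheme.stalkClosedPointTo b, inferInstance, Scheme.Spec_stalkClosedPointTo_fromSpecStalk b⟩
  haveI : IsLocalHom (CommRingCat.ofHom π).hom := IsLocalHom.of_surjective π hπ
  haveI : IsLocalHom β.hom := hβ_loc
  haveI : IsLocalHom α.hom := hα_loc
  haveI : IsLocalHom (β ≫ CommRingCat.ofHom π).hom := CommRingCat.isLocalHom_comp _ _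
  haveI : IsLocalHom (g.stalkMap (a (closedPoint C)) ≫ α).hom := CommRingCat.isLocalHom_comp _ _
  have hK : ∃ h₁ : b (closedPoint C') = g (a (closedPoint C)),
      β ≫ CommRingCat.ofHom π = (S.presheaf.stalkCongr (Inseparable.of_eq h₁)).hom ≫
        g.stalkMap (a (closedPoint C)) ≫ α := by
    refine SpecMap_fromSpecStalk_eq (β ≫ CommRingCat.ofHom π)
      (g.stalkMap (a (closedPoint C)) ≫ α) ?_
    have e1 : a ≫ g = Spec.map α ≫ T.fromSpecStalk _ ≫ g := by
      rw [← Category.assoc, haα]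
    rw [Spec.map_comp, Spec.map_comp, Category.assoc, Category.assoc, hbβ,
      Scheme.SpecMap_stalkMap_fromSpecStalk, ← e1]
    exact hcomm
  obtain ⟨h₁, hK⟩ := hK
  let C₀ : Subring C := sub α.hom
  have hG : Good C₀ := good_sub α.hom hαfin
  let C'₀ : Subring C' := C₀.comap π
  have hG' : Good C'₀ := good_comap π hπ hG
  haveI : IsLocalRing C₀ := hG.isLocalRing
  haveI : IsLocalRing C'₀ := hG'.isLocalRing
  haveI : IsArtinianRing C₀ := hG.isArtinianRing
  haveI : IsArtinianRing C'₀ := hG'.isArtinianRing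
  let π₀ : C'₀ →+* C₀ := (π.comp C'₀.subtype).codRestrict C₀ (fun x => x.2)
  have hπ₀ : Function.Surjective π₀ := by
    rintro ⟨d, hd⟩
    obtain ⟨d', rfl⟩ := hπ d
    exact ⟨⟨d', hd⟩, rfl⟩
  have hKy : ∀ y, π (β.hom y) = α.hom ((g.stalkMap (a (closedPoint C))).hom
      ((S.presheaf.stalkCongr (Inseparable.of_eq h₁)).hom.hom y)) :=
    fun y => congrArg (fun f => f.hom y) hK
  let α₀ : T.presheaf.stalk (a (closedPoint C)) ⟶ CommRingCat.of C₀ :=
    CommRingCat.ofHom (α.hom.codRestrict C₀ (map_mem_sub α.hom))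
  let β₀ : S.presheaf.stalk (b (closedPoint C')) ⟶ CommRingCat.of C'₀ :=
    CommRingCat.ofHom (β.hom.codRestrict C'₀ (fun y => by
      show π (β.hom y) ∈ C₀
      rw [hKy y]; exact map_mem_sub α.hom _))
  haveI : IsLocalHom α₀.hom := by
    constructor
    intro x hx
    have h' : IsUnit (α.hom x) := hx.map C₀.subtype
    exact IsLocalHom.map_nonunit x h'
  let a₀ : Spec (CommRingCat.of C₀) ⟶ T := Spec.map α₀ ≫ T.fromSpecStalk _
  let b₀ : Spec (CommRingCat.of C'₀) ⟶ S := Spec.map β₀ ≫ S.fromSpecStalk _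
  have e1 : β₀ ≫ CommRingCat.ofHom C'₀.subtype = β :=
    CommRingCat.hom_ext (RingHom.ext fun _ => rfl)
  have e2 : α₀ ≫ CommRingCat.ofHom C₀.subtype = α :=
    CommRingCat.hom_ext (RingHom.ext fun _ => rfl)
  have e3 : CommRingCat.ofHom C'₀.subtype ≫ CommRingCat.ofHom π =
      CommRingCat.ofHom π₀ ≫ CommRingCat.ofHom C₀.subtype :=
    CommRingCat.hom_ext (RingHom.ext fun _ => rfl)
  have hK₀ : β₀ ≫ CommRingCat.ofHom π₀ = (S.presheaf.stalkCongr (Inseparable.of_eq h₁)).hom ≫
      g.stalkMap (a (closedPoint C)) ≫ α₀ :=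
    CommRingCat.hom_ext (RingHom.ext fun y => Subtype.ext (hKy y))
  have h1 : a₀ (closedPoint C₀) = t := by
    show (Spec.map α₀ ≫ T.fromSpecStalk _) (closedPoint C₀) = t
    rw [Scheme.Hom.comp_apply, Spec_closedPoint, Scheme.fromSpecStalk_closedPoint]
    exact ha
  have h2 : Function.Surjective (a₀.residueFieldMap (closedPoint C₀)).hom := by
    apply surjective_residueFieldMap_of_resSurj α₀
    intro d
    obtain ⟨x, hx⟩ := (mem_sub_iff α.hom d.1).mp d.2
    exact ⟨x, (hG.mem_maximalIdeal_iff _).mpr hx⟩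
  have h3 : Spec.map (CommRingCat.ofHom π₀) ≫ b₀ = a₀ ≫ g := by
    show Spec.map (CommRingCat.ofHom π₀) ≫ Spec.map β₀ ≫ S.fromSpecStalk _ =
      (Spec.map α₀ ≫ T.fromSpecStalk _) ≫ g
    rw [Category.assoc, ← Scheme.SpecMap_stalkMap_fromSpecStalk, ← Category.assoc,
      ← Category.assoc, ← Spec.map_comp, ← Spec.map_comp]
    exact SpecMap_fromSpecStalk_congr h₁ _ _ hK₀
  obtain ⟨c₀, hc1, hc2⟩ := hT C₀ C'₀ π₀ hπ₀ a₀ b₀ h1 h2 h3
  refine ⟨Spec.map (CommRingCat.ofHom C'₀.subtype) ≫ c₀, ?_, ?_⟩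
  · rw [← Category.assoc, ← Spec.map_comp, e3, Spec.map_comp, Category.assoc, hc1]
    show Spec.map (CommRingCat.ofHom C₀.subtype) ≫ Spec.map α₀ ≫ T.fromSpecStalk _ = a
    rw [← Category.assoc, ← Spec.map_comp, e2, haα]
  · rw [Category.assoc, hc2]
    show Spec.map (CommRingCat.ofHom C'₀.subtype) ≫ Spec.map β₀ ≫ S.fromSpecStalk _ = b
    rw [← Category.assoc, ← Spec.map_comp, e1, hbβ]

/-- étale morphisms are locally quasi-finite. -/
theorem locallyQuasiFinite_of_etale {X Y : Scheme.{u}} (f : X ⟶ Y) [Etale f] :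
    LocallyQuasiFinite f := by
  rw [HasRingHomProperty.iff_appLE (P := @LocallyQuasiFinite)]
  intro U V e
  have h := HasRingHomProperty.appLE (P := @Etale) f inferInstance U V e
  algebraize [(f.appLE U V e).hom]
  show Algebra.QuasiFinite _ _
  infer_instance

/-- Formal versality passes to étale neighbourhoods (S18017). -/
theorem etale_versal {S T U : Scheme.{u}} (g : T ⟶ S) (e : U ⟶ T) [Etale e] (u : U)
    (hT : ∀ (C C' : Type u) [CommRing C] [CommRing C'] [IsLocalRing C] [IsLocalRing C']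
        [IsArtinianRing C] [IsArtinianRing C'] (π : C' →+* C), Function.Surjective π →
        ∀ (a : Spec (CommRingCat.of C) ⟶ T) (b : Spec (CommRingCat.of C') ⟶ S),
          a (IsLocalRing.closedPoint C) = e u →
          Function.Surjective (a.residueFieldMap (IsLocalRing.closedPoint C)).hom →
          Spec.map (CommRingCat.ofHom π) ≫ b = a ≫ g →
          ∃ c : Spec (CommRingCat.of C') ⟶ T,
            Spec.map (CommRingCat.ofHom π) ≫ c = a ∧ c ≫ g = b)
    (C C' : Type u) [CommRing C] [CommRing C'] [IsLocalRing C] [IsLocalRing C']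
    [IsArtinianRing C] [IsArtinianRing C'] (π : C' →+* C) (hπ : Function.Surjective π)
    (a : Spec (CommRingCat.of C) ⟶ U) (b : Spec (CommRingCat.of C') ⟶ S)
    (ha : a (IsLocalRing.closedPoint C) = u)
    (hsurj : Function.Surjective (a.residueFieldMap (IsLocalRing.closedPoint C)).hom)
    (hcomm : Spec.map (CommRingCat.ofHom π) ≫ b = a ≫ (e ≫ g)) :
    ∃ c : Spec (CommRingCat.of C') ⟶ U,
      Spec.map (CommRingCat.ofHom π) ≫ c = a ∧ c ≫ (e ≫ g) = b := by
  haveI := locallyQuasiFinite_of_etale e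
  have hfin : ((a ≫ e).residueFieldMap (closedPoint C)).hom.Finite := by
    rw [Scheme.residueFieldMap_comp]
    exact RingHom.Finite.comp (g := (a.residueFieldMap (closedPoint C)).hom)
      (f := (e.residueFieldMap (a (closedPoint C))).hom)
      (RingHom.Finite.of_surjective _ hsurj)
      (Groth.Agent.Helper15.Wt.finite_residueFieldMap e (a (closedPoint C)))
  obtain ⟨c', hc1, hc2⟩ := core g (e u) hT C C' π hπ (a ≫ e) b
    (by show e (a (closedPoint C)) = e u; rw [ha]) hfin (by rw [hcomm, Category.assoc])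
  haveI : IsClosedImmersion (Spec.map (CommRingCat.ofHom π)) :=
    IsClosedImmersion.spec_of_surjective _ hπ
  have hker : RingHom.ker (CommRingCat.ofHom π).hom ≤ nilradical C' := by
    rw [Ring.KrullDimLE.nilradical_eq_maximalIdeal]
    exact IsLocalRing.le_maximalIdeal (RingHom.ker_ne_top π)
  haveI : Surjective (Spec.map (CommRingCat.ofHom π)) :=
    ⟨Groth.Agent.Helper16.NilLift.specMap_surjective_of_ker_nil _ hπ hker⟩
  obtain ⟨l, ⟨hl1, hl2⟩, -⟩ := Groth.Agent.Helper16.NilLift.exists_unique_lift_nil e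
    (Spec.map (CommRingCat.ofHom π)) a c' hc1
  exact ⟨l, hl1, by rw [← Category.assoc, hl2, hc2]⟩

end Sch

end Groth.Agent.Helper6.ArtinVersal
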