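import Mathlib

/-!
# Comparing two base changes of a scheme over a field through a common field extension

Let `X` be a scheme over a field `k`, `k'` and `K` two extension fields, `x'` a point of `X_{k'}` and `y` a
point of `X_K` with the same image in `X`.  Then there are an extension field `L` of `k'`, a point `x''`
of `(X_{k'})_L` above `x'` and a flat morphism `(X_{k'})_L ⟶ X_K` sending `x''` to `y`.  Consequently the local
ring of `X_K` at `y` admits a faithfully flat local homomorphism to the local ring of `(X_{k'})_L` at `x''`.
-/

set_option autoImplicit false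
universe u
open CategoryTheory CategoryTheory.Limits AlgebraicGeometry

namespace Groth.Agent.Helper6.BCFlatPt

theorem exists_flat_point {k : Type u} [Field k] {X : Scheme.{u}} (f : X ⟶ Spec (CommRingCat.of k))
    (k' : Type u) [Field k'] [Algebra k k'] (K : Type u) [Field K] [Algebra k K]
    (x' : ↥(pullback f (Spec.map (CommRingCat.ofHom (algebraMap k k')))))
    (y : ↥(pullback f (Spec.map (CommRingCat.ofHom (algebraMap k K)))))
    (hxy : (pullback.fst f (Spec.map (CommRingCat.ofHom (algebraMap k K)))) y =
      (pullback.fst f (Spec.map (CommRingCat.ofHom (algebraMap k k')))) x') :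
    ∃ (L : Type u) (_ : Field L) (_ : Algebra k' L)
      (x'' : ↥(pullback (pullback.snd f (Spec.map (CommRingCat.ofHom (algebraMap k k'))))
        (Spec.map (CommRingCat.ofHom (algebraMap k' L)))))
      (q : pullback (pullback.snd f (Spec.map (CommRingCat.ofHom (algebraMap k k'))))
        (Spec.map (CommRingCat.ofHom (algebraMap k' L))) ⟶
          pullback f (Spec.map (CommRingCat.ofHom (algebraMap k K)))),
      Flat q ∧ (pullback.fst (pullback.snd f (Spec.map (CommRingCat.ofHom (algebraMap k k'))))
        (Spec.map (CommRingCat.ofHom (algebraMap k' L)))) x'' = x' ∧ q x'' = y := by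
  -- notation
  let a : Spec (CommRingCat.of k') ⟶ Spec (CommRingCat.of k) :=
    Spec.map (CommRingCat.ofHom (algebraMap k k'))
  let b : Spec (CommRingCat.of K) ⟶ Spec (CommRingCat.of k) :=
    Spec.map (CommRingCat.ofHom (algebraMap k K))
  obtain ⟨z, hz1, hz2⟩ := Scheme.Pullback.exists_preimage_pullback
    (f := pullback.fst f b) (g := pullback.fst f a) y x' hxy
  let Z := pullback (pullback.fst f b) (pullback.fst f a)
  let ζ : Spec (Z.residueField z) ⟶ Z := Z.fromSpecResidueField z
  let φ' : CommRingCat.of k' ⟶ Z.residueField z :=
    Spec.preimage (ζ ≫ pullback.snd (pullback.fst f b) (pullback.fst f a) ≫ pullback.snd f a)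
  let φK : CommRingCat.of K ⟶ Z.residueField z :=
    Spec.preimage (ζ ≫ pullback.fst (pullback.fst f b) (pullback.fst f a) ≫ pullback.snd f b)
  have hφ' : Spec.map φ' =
      ζ ≫ pullback.snd (pullback.fst f b) (pullback.fst f a) ≫ pullback.snd f a :=
    Spec.map_preimage _
  have hφK : Spec.map φK =
      ζ ≫ pullback.fst (pullback.fst f b) (pullback.fst f a) ≫ pullback.snd f b :=
    Spec.map_preimage _
  have hab : Spec.map φ' ≫ a = Spec.map φK ≫ b := by
    rw [hφ', hφK]
    simp only [Category.assoc]
    rw [← pullback.condition (f := f) (g := a), ← pullback.condition (f := f) (g := b),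
      ← Category.assoc (pullback.snd (pullback.fst f b) (pullback.fst f a)),
      ← pullback.condition (f := pullback.fst f b) (g := pullback.fst f a), Category.assoc]
  letI algL : Algebra k' (Z.residueField z) := φ'.hom.toAlgebra
  refine ⟨Z.residueField z, inferInstance, algL, ?_⟩
  have hmap : Spec.map (CommRingCat.ofHom (algebraMap k' (Z.residueField z))) = Spec.map φ' := rfl
  -- the point
  let t : Spec (Z.residueField z) ⟶ pullback (pullback.snd f a)
      (Spec.map (CommRingCat.ofHom (algebraMap k' (Z.residueField z)))) :=
    pullback.lift (ζ ≫ pullback.snd (pullback.fst f b) (pullback.fst f a)) (𝟙 _) (by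
      rw [Category.id_comp, hmap, hφ', Category.assoc])
  -- the morphism
  let q : pullback (pullback.snd f a)
      (Spec.map (CommRingCat.ofHom (algebraMap k' (Z.residueField z)))) ⟶ pullback f b :=
    pullback.lift (pullback.fst _ _ ≫ pullback.fst f a) (pullback.snd _ _ ≫ Spec.map φK) (by
      rw [Category.assoc, Category.assoc, ← hab, pullback.condition (f := f) (g := a),
        ← Category.assoc, pullback.condition, hmap, Category.assoc])
  have hq1 : q ≫ pullback.fst f b = pullback.fst _ _ ≫ pullback.fst f a := pullback.lift_fst _ _ _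
  have hq2 : q ≫ pullback.snd f b = pullback.snd _ _ ≫ Spec.map φK := pullback.lift_snd _ _ _
  have ht1 : t ≫ pullback.fst _ _ = ζ ≫ pullback.snd (pullback.fst f b) (pullback.fst f a) :=
    pullback.lift_fst _ _ _
  have ht2 : t ≫ pullback.snd _ _ = 𝟙 _ := pullback.lift_snd _ _ _
  have htq : t ≫ q = ζ ≫ pullback.fst (pullback.fst f b) (pullback.fst f a) := by
    apply pullback.hom_ext
    · rw [Category.assoc, hq1, ← Category.assoc, ht1, Category.assoc, Category.assoc,
        pullback.condition]
    · rw [Category.assoc, hq2, ← Category.assoc, ht2, Category.id_comp, hφK, Category.assoc]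
  -- flatness of q
  have hsq : IsPullback q (pullback.snd _ _) (pullback.snd f b) (Spec.map φK) := by
    refine IsPullback.of_right ?_ hq2 (IsPullback.of_hasPullback f b)
    rw [hq1, ← hab]
    have h1 := IsPullback.of_hasPullback (pullback.snd f a)
      (Spec.map (CommRingCat.ofHom (algebraMap k' (Z.residueField z))))
    rw [hmap] at h1
    exact h1.paste_horiz (IsPullback.of_hasPullback f a)
  have hflatK : Flat (Spec.map φK) := by
    rw [Flat.SpecMap_iff]
    letI : Algebra K (Z.residueField z) := φK.hom.toAlgebra
    show (algebraMap K (Z.residueField z)).Flat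
    rw [RingHom.flat_algebraMap_iff]
    infer_instance
  have hflat : Flat q := MorphismProperty.of_isPullback (P := @Flat) hsq.flip hflatK
  obtain ⟨s⟩ : Nonempty (Spec (Z.residueField z)) := inferInstance
  refine ⟨t s, q, hflat, ?_, ?_⟩
  · rw [← Scheme.Hom.comp_apply, ht1, Scheme.Hom.comp_apply, Scheme.fromSpecResidueField_apply]
    exact hz2
  · rw [← Scheme.Hom.comp_apply, htq, Scheme.Hom.comp_apply, Scheme.fromSpecResidueField_apply]
    exact hz1

/-- The local ring at `f x` embeds faithfully flatly into the local ring at `x`, for `f` flat. -/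
theorem faithfullyFlat_stalkMap {X Y : Scheme.{u}} (f : X ⟶ Y) [Flat f] (x : X) :
    (f.stalkMap x).hom.FaithfullyFlat := by
  algebraize [(f.stalkMap x).hom]
  exact @Module.FaithfullyFlat.of_flat_of_isLocalHom _ _ _ _ _ _ _
    (Flat.stalkMap f x) (f.toLRSHom.prop x)

end Groth.Agent.Helper6.BCFlatPt
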