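import Mathlib
import Groth.Agent.Lib.Helper6.BCFlatPtA

/-!
# Comparing two base changes through a finitely generated common field extension

Refinement of `BCFlatPtA`: the common extension field `L` of `k'` may be taken to be any subfield of the residue
field of a point of `X_K ×_X X_{k'}` containing the image of `K`; in particular, it can be taken finitely
generated over `k'` when `K` is finitely generated over `k`.
-/

set_option autoImplicit false
universe u
open CategoryTheory CategoryTheory.Limits AlgebraicGeometry

namespace Groth.Agent.Helper6.BCFlatPt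

theorem exists_flat_point_of_le {k : Type u} [Field k] {X : Scheme.{u}}
    (f : X ⟶ Spec (CommRingCat.of k))
    (k' : Type u) [Field k'] [Algebra k k'] (K : Type u) [Field K] [Algebra k K]
    (x' : ↥(pullback f (Spec.map (CommRingCat.ofHom (algebraMap k k')))))
    (y : ↥(pullback f (Spec.map (CommRingCat.ofHom (algebraMap k K)))))
    (hxy : (pullback.fst f (Spec.map (CommRingCat.ofHom (algebraMap k K)))) y =
      (pullback.fst f (Spec.map (CommRingCat.ofHom (algebraMap k k')))) x') :
    ∃ (E : Type u) (_ : Field E) (_ : Algebra k' E) (ψ : K →+* E),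
      (∀ c : k, ψ (algebraMap k K c) = algebraMap k' E (algebraMap k k' c)) ∧
      ∀ (F : IntermediateField k' E), (∀ c : K, ψ c ∈ F) →
        ∃ (x'' : ↥(pullback (pullback.snd f (Spec.map (CommRingCat.ofHom (algebraMap k k'))))
            (Spec.map (CommRingCat.ofHom (algebraMap k' F)))))
          (q : pullback (pullback.snd f (Spec.map (CommRingCat.ofHom (algebraMap k k'))))
            (Spec.map (CommRingCat.ofHom (algebraMap k' F))) ⟶
              pullback f (Spec.map (CommRingCat.ofHom (algebraMap k K)))),
          Flat q ∧ (pullback.fst (pullback.snd f (Spec.map (CommRingCat.ofHom (algebraMap k k'))))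
            (Spec.map (CommRingCat.ofHom (algebraMap k' F)))) x'' = x' ∧ q x'' = y := by
  let a : Spec (CommRingCat.of k') ⟶ Spec (CommRingCat.of k) :=
    Spec.map (CommRingCat.ofHom (algebraMap k k'))
  let b : Spec (CommRingCat.of K) ⟶ Spec (CommRingCat.of k) :=
    Spec.map (CommRingCat.ofHom (algebraMap k K))
  obtain ⟨z, hz1, hz2⟩ := Scheme.Pullback.exists_preimage_pullback
    (f := pullback.fst f b) (g := pullback.fst f a) y x' hxy
  let Z := pullback (pullback.fst f b) (pullback.fst f a)
  let ζ : Spec (Z.residueField z) ⟶ Z := Z.fromSpecResidueField z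
  let φ' : CommRingCat.of k' ⟶ Z.residueField z :=
    Spec.preimage (ζ ≫ pullback.snd (pullback.fst f b) (pullback.fst f a) ≫ pullback.snd f a)
  let φK : CommRingCat.of K ⟶ Z.residueField z :=
    Spec.preimage (ζ ≫ pullback.fst (pullback.fst f b) (pullback.fst f a) ≫ pullback.snd f b)
  have hφ' : Spec.map φ' =
      ζ ≫ pullback.snd (pullback.fst f b) (pullback.fst f a) ≫ pullback.snd f a :=
    Spec.map_preimage _
  have hφK : Spec.map φK =
      ζ ≫ pullback.fst (pullback.fst f b) (pullback.fst f a) ≫ pullback.snd f b :=
    Spec.map_preimage _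
  have hab : Spec.map φ' ≫ a = Spec.map φK ≫ b := by
    rw [hφ', hφK]
    simp only [Category.assoc]
    rw [← pullback.condition (f := f) (g := a), ← pullback.condition (f := f) (g := b),
      ← Category.assoc (pullback.snd (pullback.fst f b) (pullback.fst f a)),
      ← pullback.condition (f := pullback.fst f b) (g := pullback.fst f a), Category.assoc]
  have hring : CommRingCat.ofHom (algebraMap k K) ≫ φK = CommRingCat.ofHom (algebraMap k k') ≫ φ' := by
    apply Spec.map_injective
    rw [Spec.map_comp, Spec.map_comp]
    exact hab.symm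
  letI algE : Algebra k' (Z.residueField z) := φ'.hom.toAlgebra
  refine ⟨Z.residueField z, inferInstance, algE, φK.hom, ?_, ?_⟩
  · intro c
    exact congrArg (fun g => g.hom c) hring
  intro F hF
  -- ring maps attached to F
  let ψF : K →+* F := RingHom.codRestrict φK.hom F hF
  have hιK : CommRingCat.ofHom ψF ≫ CommRingCat.ofHom (algebraMap F (Z.residueField z)) = φK := by
    ext c
    rfl
  have hι' : CommRingCat.ofHom (algebraMap k' F) ≫
      CommRingCat.ofHom (algebraMap F (Z.residueField z)) = φ' := by
    ext c
    rfl
  let ιF : Spec (Z.residueField z) ⟶ Spec (CommRingCat.of F) :=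
    Spec.map (CommRingCat.ofHom (algebraMap F (Z.residueField z)))
  have hmapF : ιF ≫ Spec.map (CommRingCat.ofHom (algebraMap k' F)) = Spec.map φ' :=
    (Spec.map_comp _ _).symm.trans (congrArg Spec.map hι')
  have hKF : ιF ≫ Spec.map (CommRingCat.ofHom ψF) = Spec.map φK :=
    (Spec.map_comp _ _).symm.trans (congrArg Spec.map hιK)
  have habF : Spec.map (CommRingCat.ofHom (algebraMap k' F)) ≫ a =
      Spec.map (CommRingCat.ofHom ψF) ≫ b := by
    rw [← Spec.map_comp, ← Spec.map_comp]
    congr 1
    ext c
    exact (congrArg (fun g => g.hom c) hring).symm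
  let t : Spec (Z.residueField z) ⟶ pullback (pullback.snd f a)
      (Spec.map (CommRingCat.ofHom (algebraMap k' F))) :=
    pullback.lift (ζ ≫ pullback.snd (pullback.fst f b) (pullback.fst f a)) ιF (by
      rw [hmapF, hφ', Category.assoc])
  let q : pullback (pullback.snd f a)
      (Spec.map (CommRingCat.ofHom (algebraMap k' F))) ⟶ pullback f b :=
    pullback.lift (pullback.fst _ _ ≫ pullback.fst f a)
      (pullback.snd _ _ ≫ Spec.map (CommRingCat.ofHom ψF)) (by
      rw [Category.assoc, Category.assoc, ← habF, pullback.condition (f := f) (g := a),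
        ← Category.assoc, pullback.condition, Category.assoc])
  have hq1 : q ≫ pullback.fst f b = pullback.fst _ _ ≫ pullback.fst f a := pullback.lift_fst _ _ _
  have hq2 : q ≫ pullback.snd f b = pullback.snd _ _ ≫ Spec.map (CommRingCat.ofHom ψF) :=
    pullback.lift_snd _ _ _
  have ht1 : t ≫ pullback.fst _ _ = ζ ≫ pullback.snd (pullback.fst f b) (pullback.fst f a) :=
    pullback.lift_fst _ _ _
  have ht2 : t ≫ pullback.snd _ _ = ιF := pullback.lift_snd _ _ _
  have htq : t ≫ q = ζ ≫ pullback.fst (pullback.fst f b) (pullback.fst f a) := by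
    apply pullback.hom_ext
    · rw [Category.assoc, hq1, ← Category.assoc, ht1, Category.assoc, Category.assoc,
        pullback.condition]
    · rw [Category.assoc, hq2, ← Category.assoc, ht2, hKF, hφK, Category.assoc]
  have hsq : IsPullback q (pullback.snd _ _) (pullback.snd f b)
      (Spec.map (CommRingCat.ofHom ψF)) := by
    refine IsPullback.of_right ?_ hq2 (IsPullback.of_hasPullback f b)
    rw [hq1, ← habF]
    exact (IsPullback.of_hasPullback (pullback.snd f a)
      (Spec.map (CommRingCat.ofHom (algebraMap k' F)))).paste_horiz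
        (IsPullback.of_hasPullback f a)
  have hflatK : Flat (Spec.map (CommRingCat.ofHom ψF)) := by
    rw [Flat.SpecMap_iff]
    letI : Algebra K F := ψF.toAlgebra
    show (algebraMap K F).Flat
    rw [RingHom.flat_algebraMap_iff]
    infer_instance
  have hflat : Flat q := MorphismProperty.of_isPullback (P := @Flat) hsq.flip hflatK
  obtain ⟨s⟩ : Nonempty (Spec (Z.residueField z)) := inferInstance
  refine ⟨t s, q, hflat, ?_, ?_⟩
  · rw [← Scheme.Hom.comp_apply, ht1, Scheme.Hom.comp_apply, Scheme.fromSpecResidueField_apply]
    exact hz2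
  · rw [← Scheme.Hom.comp_apply, htq, Scheme.Hom.comp_apply, Scheme.fromSpecResidueField_apply]
    exact hz1

theorem exists_flat_point_fg {k : Type u} [Field k] {X : Scheme.{u}}
    (f : X ⟶ Spec (CommRingCat.of k))
    (k' : Type u) [Field k'] [Algebra k k'] (K : Type u) [Field K] [Algebra k K]
    (hK : (⊤ : IntermediateField k K).FG)
    (x' : ↥(pullback f (Spec.map (CommRingCat.ofHom (algebraMap k k')))))
    (y : ↥(pullback f (Spec.map (CommRingCat.ofHom (algebraMap k K)))))
    (hxy : (pullback.fst f (Spec.map (CommRingCat.ofHom (algebraMap k K)))) y =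
      (pullback.fst f (Spec.map (CommRingCat.ofHom (algebraMap k k')))) x') :
    ∃ (L : Type u) (_ : Field L) (_ : Algebra k' L) (_ : (⊤ : IntermediateField k' L).FG)
      (x'' : ↥(pullback (pullback.snd f (Spec.map (CommRingCat.ofHom (algebraMap k k'))))
        (Spec.map (CommRingCat.ofHom (algebraMap k' L)))))
      (q : pullback (pullback.snd f (Spec.map (CommRingCat.ofHom (algebraMap k k'))))
        (Spec.map (CommRingCat.ofHom (algebraMap k' L))) ⟶
          pullback f (Spec.map (CommRingCat.ofHom (algebraMap k K)))),
      Flat q ∧ (pullback.fst (pullback.snd f (Spec.map (CommRingCat.ofHom (algebraMap k k'))))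
        (Spec.map (CommRingCat.ofHom (algebraMap k' L)))) x'' = x' ∧ q x'' = y := by
  obtain ⟨E, _, _, ψ, hψ, H⟩ := exists_flat_point_of_le f k' K x' y hxy
  obtain ⟨S, hS⟩ := hK
  letI algkE : Algebra k E := ((algebraMap k' E).comp (algebraMap k k')).toAlgebra
  haveI : IsScalarTower k k' E := IsScalarTower.of_algebraMap_eq (fun _ => rfl)
  let ψa : K →ₐ[k] E := { ψ with commutes' := fun c => hψ c }
  let F : IntermediateField k' E := IntermediateField.adjoin k' (ψ '' (S : Set K))
  have hF : ∀ c : K, ψ c ∈ F := by
    intro c
    have h1 : ψa c ∈ (IntermediateField.adjoin k (S : Set K)).map ψa :=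
      ⟨c, by rw [hS]; trivial, rfl⟩
    rw [IntermediateField.adjoin_map] at h1
    have h2 : IntermediateField.adjoin k (ψa '' (S : Set K)) ≤ F.restrictScalars k := by
      rw [IntermediateField.adjoin_le_iff]
      intro e he
      exact IntermediateField.subset_adjoin k' _ he
    exact h2 h1
  obtain ⟨x'', q, hflat, hx'', hq⟩ := H F hF
  have hfg : (⊤ : IntermediateField k' F).FG := by
    rw [IntermediateField.fg_top_iff, IntermediateField.essFiniteType_iff]
    exact IntermediateField.fg_adjoin_of_finite (S.finite_toSet.image _)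
  exact ⟨F, inferInstance, inferInstance, hfg, x'', q, hflat, hx'', hq⟩

end Groth.Agent.Helper6.BCFlatPt
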