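import Mathlib
import Groth.Agent.Lib.Helper13.TwistSES
import Groth.Agent.Lib.Helper13.GlobGen2
import Groth.Agent.Lib.Helper13.GlobGen4
import Groth.Agent.Lib.Helper13.AmpleBasis
import Groth.Agent.Lib.Helper13.AmpleUnit
import Groth.Agent.Lib.Helper13.TensorPow
import Groth.Agent.Lib.Helper13.TensorFunctor

/-!
# Sections of tensor powers nonvanishing at a point (big invertible modules have exponent one)
-/

set_option autoImplicit false
set_option maxHeartbeats 400000
universe u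
open CategoryTheory CategoryTheory.Limits AlgebraicGeometry Opposite TopologicalSpace TensorProduct
open Groth.Agent.Helper13.QCoh Groth.Agent.Helper13.FinType Groth.Agent.Helper13.Inv
open Groth.Agent.Helper13.Tensor Groth.Agent.Helper13.GenLoc Groth.Agent.Helper13
open Groth.Agent.Helper13.GlobGen

namespace Groth.Agent.Helper6.BigSec

variable {X : Scheme.{u}}

/-- `M` has a global section with nonzero germ at `y`. -/
def HasSec (M : X.Modules) (y : X) : Prop :=
  ∃ t : Γ(M, ⊤), M.presheaf.germ ⊤ y trivial t ≠ 0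

lemma hasSec_of_isGen (M : X.Modules) (y : X) (t : Γ(M, ⊤)) (h : IsGen M t y trivial) :
    HasSec M y := by
  refine ⟨t, fun h0 => ?_⟩
  have h1 : (1 : X.presheaf.stalk y) = 0 := by
    apply h.1
    show (1 : X.presheaf.stalk y) • M.presheaf.germ ⊤ y trivial t =
      (0 : X.presheaf.stalk y) • M.presheaf.germ ⊤ y trivial t
    rw [h0, smul_zero, smul_zero]
  exact one_ne_zero h1

lemma hasSec_of_gg (M : X.Modules) (hM : PicF.IsInvertible M)
    (hg : Curv2.IsGloballyGenerated M) (y : X) : HasSec M y := by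
  rw [isGloballyGenerated_iff] at hg
  obtain ⟨t, ht⟩ := exists_isGen_of_ggAt M hM y (hg y)
  exact hasSec_of_isGen M y t ht

lemma hasSec_of_injective {M N : X.Modules} (φ : M ⟶ N) (y : X)
    (hφ : Function.Injective (stalkMap φ y)) (h : HasSec M y) : HasSec N y := by
  obtain ⟨t, ht⟩ := h
  refine ⟨φ.app ⊤ t, ?_⟩
  rw [← stalkMap_germ]
  intro h0
  exact ht (hφ (by rw [h0, map_zero]))

lemma hasSec_of_mono {M N : X.Modules} (φ : M ⟶ N) [Mono φ] (y : X) (h : HasSec M y) :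
    HasSec N y :=
  hasSec_of_injective φ y ((mono_iff_stalk_injective φ).1 inferInstance y) h

lemma hasSec_of_iso {M N : X.Modules} (e : M ≅ N) (y : X) (h : HasSec M y) : HasSec N y :=
  hasSec_of_mono e.hom y h

lemma hasSec_tmul (M N : X.Modules) (hM : PicF.IsInvertible M) (hN : PicF.IsInvertible N)
    (y : X) [IsDomain (X.presheaf.stalk y)] (h : HasSec M y) (h' : HasSec N y) :
    HasSec (CohB1.tensorMod M N) y := by
  obtain ⟨s, hs⟩ := h
  obtain ⟨t, ht⟩ := h'
  refine ⟨tmul M N s t, ?_⟩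
  rw [← stalkTensorEquiv_germ]
  obtain ⟨U, hyU, e, he⟩ := (isInvertible_iff_exists_isGen M).1 hM y
  obtain ⟨U', hyU', e', he'⟩ := (isInvertible_iff_exists_isGen N).1 hN y
  obtain ⟨α, hα⟩ := (he y hyU).2 (M.presheaf.germ ⊤ y trivial s)
  obtain ⟨β, hβ⟩ := (he' y hyU').2 (N.presheaf.germ ⊤ y trivial t)
  simp only at hα hβ
  have hα0 : α ≠ 0 := by
    rintro rfl
    rw [zero_smul] at hα
    exact hs hα.symm
  have hβ0 : β ≠ 0 := by
    rintro rfl
    rw [zero_smul] at hβ
    exact ht hβ.symm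
  rw [← hα, ← hβ, TensorProduct.smul_tmul_smul]
  intro h0
  have hb := bijective_smul_tmul (M.presheaf.germ U y hyU e) (N.presheaf.germ U' y hyU' e')
    (he y hyU) (he' y hyU')
  have h1 : α * β = 0 := by
    apply hb.1
    show (α * β) • (M.presheaf.germ U y hyU e ⊗ₜ[X.presheaf.stalk y] N.presheaf.germ U' y hyU' e') =
      (0 : X.presheaf.stalk y) • (M.presheaf.germ U y hyU e ⊗ₜ[X.presheaf.stalk y]
        N.presheaf.germ U' y hyU' e')
    rw [zero_smul]
    apply (stalkTensorEquiv M N y).injective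
    rw [h0, map_zero]
  exact mul_ne_zero hα0 hβ0 h1

lemma hasSec_pow_zero (L : X.Modules) (y : X) : HasSec (CohB1.tensorPow L 0) y :=
  hasSec_of_isGen (Coh.structureModule X) y (LocFree.toO ⊤ 1) (Ample.isGen_one ⊤ y trivial)

lemma hasSec_pow_add (L : X.Modules) (hL : PicF.IsInvertible L) (y : X)
    [IsDomain (X.presheaf.stalk y)] (a b : ℕ) (ha : HasSec (CohB1.tensorPow L a) y)
    (hb : HasSec (CohB1.tensorPow L b) y) : HasSec (CohB1.tensorPow L (a + b)) y :=
  hasSec_of_iso (powAdd L a b).symm y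
    (hasSec_tmul _ _ (isInvertible_tensorPow L hL a) (isInvertible_tensorPow L hL b) y ha hb)

lemma hasSec_pow_mul (L : X.Modules) (hL : PicF.IsInvertible L) (y : X)
    [IsDomain (X.presheaf.stalk y)] (m : ℕ) (hm : HasSec (CohB1.tensorPow L m) y) :
    ∀ a : ℕ, HasSec (CohB1.tensorPow L (a * m)) y
  | 0 => by
    rw [Nat.zero_mul]
    exact hasSec_pow_zero L y
  | a + 1 => by
    rw [Nat.succ_mul]
    exact hasSec_pow_add L hL y _ _ (hasSec_pow_mul L hL y m hm a) hm

lemma nontrivial_HH_zero (M : X.Modules) (y : X) (h : HasSec M y) :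
    Nontrivial (Coh.HH X M 0) := by
  obtain ⟨t, ht⟩ := h
  have ht0 : t ≠ 0 := by
    rintro rfl
    exact ht (map_zero _)
  let e := Sheaf.H.equiv₀ (Coh.toAb M) (isTerminalTop : IsTerminal (⊤ : Opens X))
  refine ⟨⟨e.symm t, 0, fun h => ht0 ?_⟩⟩
  have h2 := congrArg e h
  rw [e.apply_symm_apply, map_zero] at h2
  exact h2

/-- big ⇒ exponent one. -/
theorem sections_eventually (X : Scheme.{u}) [IsIntegral X]
    (H : X.Modules) (hH : CohB1.IsAmple H)
    (L : X.Modules) (hL : PicF.IsInvertible L)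
    (hbig : ∀ A : X.Modules, CohB1.IsAmple A →
      ∃ (m : ℕ) (φ : A ⟶ CohB1.tensorPow L m), 0 < m ∧ Mono φ) :
    ∃ m₁ : ℕ, ∀ m : ℕ, m₁ ≤ m → Nontrivial (Coh.HH X (CohB1.tensorPow L m) 0) := by
  haveI : CompactSpace X := hH.2.1
  haveI : QuasiSeparatedSpace X := Ample.quasiSeparatedSpace_of_isAmple H hH
  obtain ⟨n₁, -, hn₁⟩ := exists_isAmple_and_isGloballyGenerated H (Coh.structureModule X) hH
    isInvertible_structureModule
  obtain ⟨n₂, -, hn₂⟩ := exists_isAmple_and_isGloballyGenerated H L hH hL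
  obtain ⟨hA, hAg⟩ := hn₁ (max n₁ n₂) (le_max_left _ _)
  obtain ⟨hB, hBg⟩ := hn₂ (max n₁ n₂) (le_max_right _ _)
  obtain ⟨Hn, hHn⟩ : ∃ Hn : X.Modules, Hn = CohB1.tensorPow H (max n₁ n₂) := ⟨_, rfl⟩
  rw [← hHn] at hA hAg hB hBg
  obtain ⟨m, φ, hm, hφ⟩ := hbig _ hA
  haveI := hφ
  obtain ⟨y, hy⟩ : ∃ y : X, y = genericPoint X := ⟨_, rfl⟩
  have Pm : HasSec (CohB1.tensorPow L m) y := hasSec_of_mono φ y (hasSec_of_gg _ hA.1 hAg y)
  have hflat : ∀ x : X, Module.Flat (X.presheaf.stalk x) (L.presheaf.stalk x) :=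
    Groth.Agent.Helper13.TwistSES.flat_stalk_of_isInvertible L hL
  haveI := Groth.Agent.Helper13.TensorFunctor.mono_map_of_flat L hflat φ
  have Pm1 : HasSec (CohB1.tensorPow L (m + 1)) y := by
    have h1 : HasSec (CohB1.tensorMod Hn L) y := hasSec_of_gg _ hB.1 hBg y
    have h2 : HasSec (CohB1.tensorMod (CohB1.tensorMod Hn (Coh.structureModule X)) L) y :=
      hasSec_of_iso (mapIso (rid Hn) (Iso.refl L)).symm y h1
    exact hasSec_of_mono (Tensor.map φ (𝟙 L)) y h2
  refine ⟨m * m, fun N hN => ?_⟩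
  have h1 := Nat.div_add_mod N m
  have h2 : N % m < m := Nat.mod_lt _ hm
  have h3 : m ≤ N / m := (Nat.le_div_iff_mul_le hm).2 hN
  obtain ⟨r, hr⟩ : ∃ r, r = N % m := ⟨_, rfl⟩
  obtain ⟨d, hd⟩ : ∃ d, N / m = r + d := ⟨N / m - r, by omega⟩
  have hN' : N = d * m + r * (m + 1) := by
    calc N = m * (N / m) + N % m := h1.symm
      _ = d * m + r * (m + 1) := by rw [hd, ← hr]; ring
  rw [hN']
  exact nontrivial_HH_zero _ y (hasSec_pow_add L hL y _ _ (hasSec_pow_mul L hL y m Pm d)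
    (hasSec_pow_mul L hL y (m + 1) Pm1 r))

end Groth.Agent.Helper6.BigSec
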