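import Mathlib
import Groth.Agent.Lib.Helper12.Subcoalg

set_option autoImplicit false
set_option linter.unusedSectionVars false
universe u v w

open scoped TensorProduct

namespace Groth.Agent.Helper6.CMM

section Tensor
variable {k : Type u} [Field k] {V : Type v} [AddCommGroup V] [Module k V]
  {W : Type w} [AddCommGroup W] [Module k W]

/-- right slice: apply a functional to the right factor -/
noncomputable def rsl (g : W →ₗ[k] k) : V ⊗[k] W →ₗ[k] V :=
  (TensorProduct.rid k V).toLinearMap ∘ₗ g.lTensor V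

@[simp] theorem rsl_tmul (g : W →ₗ[k] k) (v : V) (w : W) : rsl g (v ⊗ₜ[k] w) = g w • v := by
  simp [rsl]

/-- left slice: apply a functional to the left factor -/
noncomputable def lsl (f : V →ₗ[k] k) : V ⊗[k] W →ₗ[k] W :=
  (TensorProduct.lid k W).toLinearMap ∘ₗ f.rTensor W

@[simp] theorem lsl_tmul (f : V →ₗ[k] k) (v : V) (w : W) : lsl f (v ⊗ₜ[k] w) = f v • w := by
  simp [lsl]

theorem lsl_comm (f : W →ₗ[k] k) (t : V ⊗[k] W) :
    lsl f (TensorProduct.comm k V W t) = rsl f t := by
  induction t using TensorProduct.induction_on with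
  | zero => simp
  | tmul a b => simp
  | add a b ha hb => simp only [map_add, ha, hb]

theorem lsl_rTensor {V' : Type*} [AddCommGroup V'] [Module k V'] (g : V' →ₗ[k] V)
    (f : V →ₗ[k] k) (y : V' ⊗[k] W) : lsl f (g.rTensor W y) = lsl (f ∘ₗ g) y := by
  induction y using TensorProduct.induction_on with
  | zero => simp
  | tmul a b => simp
  | add a b ha hb => simp only [map_add, ha, hb]

theorem lsl_lTensor {W' : Type*} [AddCommGroup W'] [Module k W'] (T : W' →ₗ[k] W)
    (f : V →ₗ[k] k) (z : V ⊗[k] W') : lsl f (T.lTensor V z) = T (lsl f z) := by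
  induction z using TensorProduct.induction_on with
  | zero => simp
  | tmul a b => simp
  | add a b ha hb => simp only [map_add, ha, hb]

theorem mem_range_rTensor_of_rsl (V' : Submodule k V) (t : V ⊗[k] W)
    (h : ∀ g : W →ₗ[k] k, rsl g t ∈ V') :
    t ∈ LinearMap.range (V'.subtype.rTensor W) := by
  classical
  let ℬ := Module.Basis.ofVectorSpace k W
  have ht : t = (TensorProduct.equivFinsuppOfBasisRight ℬ).symm
      (TensorProduct.equivFinsuppOfBasisRight ℬ t) := by simp
  rw [ht, TensorProduct.equivFinsuppOfBasisRight_symm_apply]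
  refine Submodule.sum_mem _ fun i _ => ?_
  have hi : (TensorProduct.equivFinsuppOfBasisRight ℬ t) i ∈ V' := by
    rw [TensorProduct.equivFinsuppOfBasisRight_apply]
    exact h (ℬ.coord i)
  exact ⟨(⟨_, hi⟩ : V') ⊗ₜ[k] ℬ i, by simp⟩

theorem mem_range_lTensor_of_lsl (W' : Submodule k W) (t : V ⊗[k] W)
    (h : ∀ f : V →ₗ[k] k, lsl f t ∈ W') :
    t ∈ LinearMap.range (W'.subtype.lTensor V) := by
  classical
  let ℬ := Module.Basis.ofVectorSpace k V
  have ht : t = (TensorProduct.equivFinsuppOfBasisLeft ℬ).symm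
      (TensorProduct.equivFinsuppOfBasisLeft ℬ t) := by simp
  rw [ht, TensorProduct.equivFinsuppOfBasisLeft_symm_apply]
  refine Submodule.sum_mem _ fun i _ => ?_
  have hi : (TensorProduct.equivFinsuppOfBasisLeft ℬ t) i ∈ W' := by
    rw [TensorProduct.equivFinsuppOfBasisLeft_apply]
    exact h (ℬ.coord i)
  exact ⟨ℬ i ⊗ₜ[k] (⟨_, hi⟩ : W'), by simp⟩

/-- `(V' ⊗ W) ∩ (V ⊗ W') = V' ⊗ W'` -/
theorem mem_range_map_of_mem_of_mem (V' : Submodule k V) (W' : Submodule k W) (t : V ⊗[k] W)
    (h1 : t ∈ LinearMap.range (V'.subtype.rTensor W))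
    (h2 : t ∈ LinearMap.range (W'.subtype.lTensor V)) :
    t ∈ LinearMap.range (TensorProduct.map V'.subtype W'.subtype) := by
  obtain ⟨y, rfl⟩ := h1
  have hy : y ∈ LinearMap.range (W'.subtype.lTensor V') := by
    apply mem_range_lTensor_of_lsl
    intro f
    obtain ⟨f', hf'⟩ := LinearMap.exists_extend f
    rw [← hf', ← lsl_rTensor]
    obtain ⟨z, hz⟩ := h2
    rw [← hz, lsl_lTensor]
    exact (lsl f' z).2
  obtain ⟨z, rfl⟩ := hy
  refine ⟨z, ?_⟩
  rw [← LinearMap.comp_apply, LinearMap.rTensor_comp_lTensor]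

end Tensor

section Interp
variable {k : Type u} [Field k] [CharZero k] {V : Type v} [AddCommGroup V] [Module k V]

/-- uniqueness of coefficients of vector valued polynomial functions on `ℕ` -/
theorem coeff_principle {ι κ : Type*} (s : Finset ι) (t : Finset κ)
    (p : ι → Polynomial k) (q : κ → Polynomial k) (v : ι → V) (w : κ → V)
    (h : ∀ m : ℕ, ∑ i ∈ s, (p i).eval (m : k) • v i = ∑ j ∈ t, (q j).eval (m : k) • w j)
    (c : ℕ) :
    ∑ i ∈ s, (p i).coeff c • v i = ∑ j ∈ t, (q j).coeff c • w j := by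
  rw [← sub_eq_zero, ← Module.forall_dual_apply_eq_zero_iff k]
  intro φ
  have hP0 : (∑ i ∈ s, Polynomial.C (φ (v i)) * p i -
      ∑ j ∈ t, Polynomial.C (φ (w j)) * q j : Polynomial k) = 0 := by
    apply Polynomial.eq_zero_of_infinite_isRoot
    refine Set.Infinite.mono ?_ (Set.infinite_range_of_injective (Nat.cast_injective (R := k)))
    rintro _ ⟨m, rfl⟩
    simp only [Set.mem_ofPred_eq, Polynomial.IsRoot.def, Polynomial.eval_sub,
      Polynomial.eval_finsetSum, Polynomial.eval_mul, Polynomial.eval_C]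
    have := congrArg φ (h m)
    simp only [map_sum, map_smul, smul_eq_mul] at this
    rw [sub_eq_zero]
    simp only [mul_comm (φ _)]
    exact this
  have := congrArg (fun P => P.coeff c) hP0
  simp only [Polynomial.coeff_sub, Polynomial.finsetSum_coeff, Polynomial.coeff_C_mul,
    Polynomial.coeff_zero] at this
  simp only [map_sub, map_sum, map_smul, smul_eq_mul]
  rw [← this]
  congr 1 <;> (apply Finset.sum_congr rfl; intros; ring)

variable (k)

/-- binomial polynomial `X(X-1)⋯(X-j+1)/j!` -/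
noncomputable def bp (j : ℕ) : Polynomial k :=
  Polynomial.C ((j.factorial : k)⁻¹) * descPochhammer k j

theorem bp_eval (j m : ℕ) : (bp k j).eval (m : k) = (m.choose j : k) := by
  have hj : (j.factorial : k) ≠ 0 := Nat.cast_ne_zero.mpr (Nat.factorial_ne_zero j)
  rw [bp, Polynomial.eval_mul, Polynomial.eval_C, descPochhammer_eval_eq_descFactorial,
    Nat.descFactorial_eq_factorial_mul_choose]
  push_cast
  field_simp

theorem bp_zero : bp k 0 = 1 := by simp [bp]

theorem bp_one : bp k 1 = Polynomial.X := by simp [bp]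

theorem X_dvd_bp_succ (j : ℕ) : Polynomial.X ∣ bp k (j + 1) := by
  rw [bp, descPochhammer_succ_left]
  exact Dvd.dvd.mul_left (Dvd.intro _ rfl) _

/-- the coefficient of `X` in the binomial polynomial -/
noncomputable def ell (j : ℕ) : k := (bp k j).coeff 1

theorem ell_zero : ell k 0 = 0 := by simp [ell, bp_zero, Polynomial.coeff_one]

theorem ell_one : ell k 1 = 1 := by simp [ell, bp_one]

theorem coeff_one_bp_mul (i j : ℕ) :
    (bp k i * bp k j).coeff 1 = (if i = 0 then ell k j else 0) + (if j = 0 then ell k i else 0) := by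
  rcases Nat.eq_zero_or_pos i with rfl | hi
  · rcases Nat.eq_zero_or_pos j with rfl | hj
    · simp [bp_zero, ell_zero, Polynomial.coeff_one]
    · simp [bp_zero, ell, hj.ne']
  · rcases Nat.eq_zero_or_pos j with rfl | hj
    · simp [bp_zero, ell, hi.ne']
    · obtain ⟨i', rfl⟩ := Nat.exists_eq_succ_of_ne_zero hi.ne'
      obtain ⟨j', rfl⟩ := Nat.exists_eq_succ_of_ne_zero hj.ne'
      obtain ⟨a, ha⟩ := X_dvd_bp_succ k i'
      obtain ⟨b, hb⟩ := X_dvd_bp_succ k j'
      have : bp k (i' + 1) * bp k (j' + 1) = Polynomial.X ^ 2 * (a * b) := by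
        rw [ha, hb]; ring
      rw [this, Polynomial.coeff_X_pow_mul']
      simp

variable {k}

theorem exists_comp_sub_dvd (L : Polynomial k) (h0 : L.coeff 0 = 0) (h1 : L.coeff 1 = 1) (N : ℕ) :
    ∃ Q : Polynomial k, Polynomial.X ^ N ∣ Polynomial.X - Q.comp L := by
  obtain ⟨u, hu⟩ : Polynomial.X ∣ L := Polynomial.X_dvd_iff.mpr h0
  have hu0 : u.coeff 0 = 1 := by
    have := h1
    rw [hu, Polynomial.coeff_X_mul] at this
    exact this
  induction N with
  | zero => exact ⟨0, by simp⟩
  | succ N ih =>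
    obtain ⟨Q, r, hr⟩ := ih
    refine ⟨Q + Polynomial.C (r.coeff 0) * Polynomial.X ^ N, ?_⟩
    have h2 : Polynomial.X - (Q + Polynomial.C (r.coeff 0) * Polynomial.X ^ N).comp L =
        Polynomial.X ^ N * (r - Polynomial.C (r.coeff 0) * u ^ N) := by
      rw [Polynomial.add_comp, Polynomial.mul_comp, Polynomial.C_comp, Polynomial.X_pow_comp,
        ← sub_sub, hr, hu, mul_pow]
      ring
    rw [h2, pow_succ]
    apply mul_dvd_mul_left
    rw [Polynomial.X_dvd_iff, Polynomial.coeff_sub, Polynomial.coeff_C_mul,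
      Polynomial.coeff_zero_eq_eval_zero (u ^ N), Polynomial.eval_pow,
      ← Polynomial.coeff_zero_eq_eval_zero, hu0, one_pow, mul_one, sub_self]

end Interp

end Groth.Agent.Helper6.CMM
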