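import Groth.Agent.Lib.Helper6.CMM1
import Groth.Prelude.Def_SGA3y

set_option autoImplicit false
set_option linter.unusedSectionVars false
universe u v w

open scoped TensorProduct
open WithConv

namespace Groth.Agent.Helper6.CMM

open Groth.Agent.Helper12 (IsSubcoalg)

section ConvHom
variable {k : Type u} [Field k]
variable {C : Type*} [AddCommGroup C] [Module k C] [Coalgebra k C]
variable {C' : Type*} [AddCommGroup C'] [Module k C'] [Coalgebra k C']
variable {A : Type*} [Ring A] [Algebra k A] {B : Type*} [Ring B] [Algebra k B]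

/-- post-composition with an algebra hom, as an algebra hom of convolution algebras -/
noncomputable def postc (h : A →ₐ[k] B) : WithConv (C →ₗ[k] A) →ₐ[k] WithConv (C →ₗ[k] B) where
  toFun f := toConv (h.toLinearMap ∘ₗ f.ofConv)
  map_one' := by
    apply WithConv.ext; ext c
    simp [LinearMap.convOne_def]
  map_mul' f g := by
    apply WithConv.ext
    exact LinearMap.algHom_comp_convMul_distrib h f g
  map_zero' := by apply WithConv.ext; ext c; simp
  map_add' f g := by apply WithConv.ext; ext c; simp
  commutes' r := by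
    apply WithConv.ext; ext c
    simp

@[simp] theorem postc_apply (h : A →ₐ[k] B) (f : WithConv (C →ₗ[k] A)) (c : C) :
    postc h f c = h (f c) := rfl

/-- pre-composition with a coalgebra hom, as an algebra hom of convolution algebras -/
noncomputable def prec (g : C' →ₗc[k] C) : WithConv (C →ₗ[k] A) →ₐ[k] WithConv (C' →ₗ[k] A) where
  toFun f := toConv (f.ofConv ∘ₗ g.toLinearMap)
  map_one' := by
    apply WithConv.ext; ext c
    simp [LinearMap.convOne_def]
  map_mul' f f' := by
    apply WithConv.ext
    exact LinearMap.convMul_comp_coalgHom_distrib f f' g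
  map_zero' := by apply WithConv.ext; ext c; simp
  map_add' f f' := by apply WithConv.ext; ext c; simp
  commutes' r := by
    apply WithConv.ext; ext c
    simp

@[simp] theorem prec_apply (g : C' →ₗc[k] C) (f : WithConv (C →ₗ[k] A)) (c : C') :
    prec g f c = f (g c) := rfl

end ConvHom

section Restrict
variable {k : Type u} [Field k]
variable {C : Type*} [AddCommGroup C] [Module k C] [Coalgebra k C]
variable {A : Type*} [Ring A] [Algebra k A]

theorem conv_congr_on {D : Submodule k C} (hD : IsSubcoalg D)
    {f f' g g' : WithConv (C →ₗ[k] A)} (hf : ∀ d ∈ D, f d = f' d) (hg : ∀ d ∈ D, g d = g' d) :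
    ∀ d ∈ D, (f * g) d = (f' * g') d := by
  intro d hd
  obtain ⟨y, hy⟩ := hD d hd
  have h1 : f.ofConv ∘ₗ D.subtype = f'.ofConv ∘ₗ D.subtype := LinearMap.ext fun d => hf d d.2
  have h2 : g.ofConv ∘ₗ D.subtype = g'.ofConv ∘ₗ D.subtype := LinearMap.ext fun d => hg d d.2
  rw [LinearMap.convMul_apply, LinearMap.convMul_apply, ← hy,
    ← LinearMap.comp_apply (TensorProduct.map f.ofConv g.ofConv), ← TensorProduct.map_comp,
    ← LinearMap.comp_apply (TensorProduct.map f'.ofConv g'.ofConv), ← TensorProduct.map_comp,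
    h1, h2]

theorem conv_pow_congr_on {D : Submodule k C} (hD : IsSubcoalg D)
    {f f' : WithConv (C →ₗ[k] A)} (hf : ∀ d ∈ D, f d = f' d) (n : ℕ) :
    ∀ d ∈ D, (f ^ n) d = (f' ^ n) d := by
  induction n with
  | zero => intro d _; simp
  | succ n ih => rw [pow_succ, pow_succ]; exact conv_congr_on hD ih hf

theorem conv_mul_eq_zero_left {D : Submodule k C} (hD : IsSubcoalg D)
    {f g : WithConv (C →ₗ[k] A)} (hf : ∀ d ∈ D, f d = 0) : ∀ d ∈ D, (f * g) d = 0 := by
  intro d hd
  have := conv_congr_on hD (f := f) (f' := 0) (g := g) (g' := g)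
    (fun d hd => by simpa using hf d hd) (fun _ _ => rfl) d hd
  simpa using this

theorem conv_mul_eq_zero_right {D : Submodule k C} (hD : IsSubcoalg D)
    {f g : WithConv (C →ₗ[k] A)} (hg : ∀ d ∈ D, g d = 0) : ∀ d ∈ D, (f * g) d = 0 := by
  intro d hd
  have := conv_congr_on hD (f := f) (f' := f) (g := g) (g' := 0)
    (fun _ _ => rfl) (fun d hd => by simpa using hg d hd) d hd
  simpa using this

theorem conv_mem_on {D : Submodule k C} (hD : IsSubcoalg D) (S : Subalgebra k A)
    {f g : WithConv (C →ₗ[k] A)} (hf : ∀ d ∈ D, f d ∈ S) (hg : ∀ d ∈ D, g d ∈ S) :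
    ∀ d ∈ D, (f * g) d ∈ S := by
  intro d hd
  obtain ⟨y, hy⟩ := hD d hd
  rw [LinearMap.convMul_apply, ← hy]
  clear hy
  induction y using TensorProduct.induction_on with
  | zero => simp
  | tmul a b =>
    simp only [TensorProduct.map_tmul, Submodule.subtype_apply, LinearMap.mul'_apply]
    exact S.mul_mem (hf a a.2) (hg b b.2)
  | add a b ha hb => simp only [map_add]; exact S.add_mem ha hb

theorem conv_pow_mem_on {D : Submodule k C} (hD : IsSubcoalg D) (S : Subalgebra k A)
    {f : WithConv (C →ₗ[k] A)} (hf : ∀ d ∈ D, f d ∈ S) (n : ℕ) :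
    ∀ d ∈ D, (f ^ n) d ∈ S := by
  induction n with
  | zero => intro d _; simp only [pow_zero, LinearMap.convOne_apply]; exact S.algebraMap_mem _
  | succ n ih => rw [pow_succ]; exact conv_mem_on hD S ih hf

end Restrict

section Bialg
variable (k : Type u) [Field k] (H : Type v) [Ring H] [Bialgebra k H]

/-- the identity, as an element of the convolution algebra -/
noncomputable def idc : WithConv (H →ₗ[k] H) := toConv LinearMap.id

/-- `id - uε` -/
noncomputable def piC : WithConv (H →ₗ[k] H) := idc k H - 1

variable {k H}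

@[simp] theorem idc_apply (x : H) : idc k H x = x := rfl

theorem piC_apply (x : H) : piC k H x = x - algebraMap k H (Coalgebra.counit x) := rfl

theorem piC_one : piC k H 1 = 0 := by
  rw [piC_apply, Bialgebra.counit_one, map_one, sub_self]

theorem idc_pow (m : ℕ) :
    (idc k H) ^ m = ∑ j ∈ Finset.range (m + 1), (m.choose j : k) • (piC k H) ^ j := by
  have h : idc k H = piC k H + 1 := by simp [piC]
  rw [h, (Commute.one_right _).add_pow]
  apply Finset.sum_congr rfl
  intro j _
  rw [one_pow, mul_one, ← nsmul_eq_mul', Nat.cast_smul_eq_nsmul]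

theorem piC_pow_eq_zero_of_le {D : Submodule k H} (hD : IsSubcoalg D) {N : ℕ}
    (hN : ∀ d ∈ D, ((piC k H) ^ N) d = 0) {j : ℕ} (hj : N ≤ j) :
    ∀ d ∈ D, ((piC k H) ^ j) d = 0 := by
  obtain ⟨i, rfl⟩ := Nat.exists_eq_add_of_le hj
  rw [pow_add]; exact conv_mul_eq_zero_left hD hN

theorem sum_range_choose_eq {V : Type*} [AddCommGroup V] [Module k V] (m N : ℕ) (v : ℕ → V)
    (hv : ∀ j, N ≤ j → v j = 0) :
    ∑ j ∈ Finset.range (m + 1), (m.choose j : k) • v j =
      ∑ j ∈ Finset.range N, (m.choose j : k) • v j := by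
  have h1 : ∑ j ∈ Finset.range (m + 1), (m.choose j : k) • v j =
      ∑ j ∈ Finset.range (max (m + 1) N), (m.choose j : k) • v j := by
    apply Finset.sum_subset (Finset.range_subset_range.mpr (le_max_left _ _))
    intro j _ hj
    rw [Finset.mem_range, not_lt] at hj
    rw [Nat.choose_eq_zero_of_lt (by omega)]; simp
  have h2 : ∑ j ∈ Finset.range N, (m.choose j : k) • v j =
      ∑ j ∈ Finset.range (max (m + 1) N), (m.choose j : k) • v j := by
    apply Finset.sum_subset (Finset.range_subset_range.mpr (le_max_right _ _))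
    intro j _ hj
    rw [Finset.mem_range, not_lt] at hj
    rw [hv j hj, smul_zero]
  rw [h1, h2]

theorem idc_pow_apply {D : Submodule k H} (hD : IsSubcoalg D) {N : ℕ}
    (hN : ∀ d ∈ D, ((piC k H) ^ N) d = 0) (m : ℕ) :
    ∀ d ∈ D, ((idc k H) ^ m) d =
      ∑ j ∈ Finset.range N, (m.choose j : k) • ((piC k H) ^ j) d := by
  intro d hd
  rw [idc_pow]
  rw [← sum_range_choose_eq m N (fun j => ((piC k H) ^ j) d)
    (fun j hj => piC_pow_eq_zero_of_le hD hN hj d hd)]
  simp

/-- `h ↦ h ⊗ 1` -/
noncomputable abbrev incL : H →ₐ[k] H ⊗[k] H := Algebra.TensorProduct.includeLeft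
/-- `h ↦ 1 ⊗ h` -/
noncomputable abbrev incR : H →ₐ[k] H ⊗[k] H := Algebra.TensorProduct.includeRight

theorem incL_mul_incR (f g : WithConv (H →ₗ[k] H)) (x : H) :
    (postc (incL (k := k) (H := H)) f * postc (incR (k := k) (H := H)) g) x =
      TensorProduct.map f.ofConv g.ofConv (Coalgebra.comul (R := k) x) := by
  rw [LinearMap.convMul_apply]
  generalize Coalgebra.comul (R := k) x = t
  induction t using TensorProduct.induction_on with
  | zero => simp
  | tmul a b => simp [postc]
  | add a b ha hb => simp only [map_add, ha, hb]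

theorem incR_mul_incL (f g : WithConv (H →ₗ[k] H)) (x : H) :
    (postc (incR (k := k) (H := H)) g * postc (incL (k := k) (H := H)) f) x =
      TensorProduct.map f.ofConv g.ofConv
        (TensorProduct.comm k H H (Coalgebra.comul (R := k) x)) := by
  rw [LinearMap.convMul_apply]
  generalize Coalgebra.comul (R := k) x = t
  induction t using TensorProduct.induction_on with
  | zero => simp
  | tmul a b => simp [postc]
  | add a b ha hb => simp only [map_add, ha, hb]

theorem commute_incL_incR [Coalgebra.IsCocomm k H] (f g : WithConv (H →ₗ[k] H)) :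
    Commute (postc (incL (k := k) (H := H)) f) (postc (incR (k := k) (H := H)) g) := by
  apply WithConv.ext; ext x
  change (postc incL f * postc incR g) x = (postc incR g * postc incL f) x
  rw [incL_mul_incR, incR_mul_incL, Coalgebra.comm_comul]

theorem comul_idc :
    postc (Bialgebra.comulAlgHom k H) (idc k H) =
      postc (incL (k := k) (H := H)) (idc k H) * postc (incR (k := k) (H := H)) (idc k H) := by
  apply WithConv.ext; ext x
  change Coalgebra.comul (R := k) x = (postc incL (idc k H) * postc incR (idc k H)) x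
  rw [incL_mul_incR]
  simp [idc]

theorem comul_idc_pow [Coalgebra.IsCocomm k H] (m : ℕ) (x : H) :
    Coalgebra.comul (R := k) (((idc k H) ^ m) x) =
      TensorProduct.map ((idc k H) ^ m).ofConv ((idc k H) ^ m).ofConv
        (Coalgebra.comul (R := k) x) := by
  have h1 : postc (Bialgebra.comulAlgHom k H) ((idc k H) ^ m) =
      postc (incL (k := k) (H := H)) ((idc k H) ^ m) *
        postc (incR (k := k) (H := H)) ((idc k H) ^ m) := by
    rw [map_pow, comul_idc, (commute_incL_incR _ _).mul_pow, map_pow, map_pow]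
  have h2 := congrArg (fun F : WithConv (H →ₗ[k] H ⊗[k] H) => F x) h1
  simp only [incL_mul_incR] at h2
  exact h2

end Bialg

end Groth.Agent.Helper6.CMM
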