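import Groth.Agent.Lib.Helper6.CMM2

set_option autoImplicit false
set_option linter.unusedSectionVars false
universe u v w

open scoped TensorProduct
open WithConv

namespace Groth.Agent.Helper6.CMM

open Groth.Agent.Helper12 (IsSubcoalg)

section Euler
variable {k : Type u} [Field k] [CharZero k] {H : Type v} [Ring H] [Bialgebra k H]

variable (k H) in
/-- truncated Eulerian idempotent (the logarithm of the identity) -/
noncomputable def eN (N : ℕ) : WithConv (H →ₗ[k] H) :=
  ∑ j ∈ Finset.range N, ell k j • (piC k H) ^ j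

theorem eN_apply (N : ℕ) (x : H) :
    eN k H N x = ∑ j ∈ Finset.range N, ell k j • ((piC k H) ^ j) x := by
  simp [eN]

theorem mem_primLie_iff (x : H) :
    x ∈ SGA3y.primLie k H ↔ Coalgebra.comul (R := k) x = x ⊗ₜ[k] 1 + 1 ⊗ₜ[k] x := Iff.rfl

theorem map_one_comul (g : H →ₗ[k] H) (x : H) :
    TensorProduct.map (1 : WithConv (H →ₗ[k] H)).ofConv g (Coalgebra.comul (R := k) x) =
      1 ⊗ₜ[k] g x := by
  rw [LinearMap.convOne_def, WithConv.ofConv_toConv, ← LinearMap.map_rTensor,
    Coalgebra.rTensor_counit_comul]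
  simp

theorem map_comul_one (g : H →ₗ[k] H) (x : H) :
    TensorProduct.map g (1 : WithConv (H →ₗ[k] H)).ofConv (Coalgebra.comul (R := k) x) =
      g x ⊗ₜ[k] 1 := by
  rw [LinearMap.convOne_def, WithConv.ofConv_toConv, ← LinearMap.map_lTensor,
    Coalgebra.lTensor_counit_comul]
  simp

theorem eN_mem_primLie [Coalgebra.IsCocomm k H] {D : Submodule k H} (hD : IsSubcoalg D)
    {N : ℕ} (hN2 : 2 ≤ N) (hN : ∀ d ∈ D, ((piC k H) ^ N) d = 0) :
    ∀ d ∈ D, eN k H N d ∈ SGA3y.primLie k H := by
  intro x hx
  obtain ⟨y, hy⟩ := hD x hx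
  have key : ∀ m : ℕ,
      ∑ j ∈ Finset.range N, (bp k j).eval (m : k) • Coalgebra.comul (R := k) (((piC k H) ^ j) x) =
      ∑ p ∈ Finset.range N ×ˢ Finset.range N, (bp k p.1 * bp k p.2).eval (m : k) •
        TensorProduct.map ((piC k H) ^ p.1).ofConv ((piC k H) ^ p.2).ofConv
          (Coalgebra.comul (R := k) x) := by
    intro m
    have hL : ∑ j ∈ Finset.range N,
        (bp k j).eval (m : k) • Coalgebra.comul (R := k) (((piC k H) ^ j) x) =
        Coalgebra.comul (R := k) (((idc k H) ^ m) x) := by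
      rw [idc_pow_apply hD hN m x hx, map_sum]
      apply Finset.sum_congr rfl
      intro j _
      rw [map_smul, bp_eval]
    rw [hL, comul_idc_pow, ← hy]
    clear hy
    induction y using TensorProduct.induction_on with
    | zero => simp
    | tmul a b =>
      simp only [TensorProduct.map_tmul, Submodule.subtype_apply]
      have ha := idc_pow_apply hD hN m a a.2
      have hb := idc_pow_apply hD hN m b b.2
      change ((idc k H) ^ m) (a : H) ⊗ₜ[k] ((idc k H) ^ m) (b : H) = _
      rw [ha, hb, TensorProduct.sum_tmul, Finset.sum_product]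
      apply Finset.sum_congr rfl
      intro i _
      rw [TensorProduct.tmul_sum]
      apply Finset.sum_congr rfl
      intro j _
      rw [Polynomial.eval_mul, bp_eval, bp_eval, TensorProduct.smul_tmul_smul]
    | add a b ha hb =>
      simp only [map_add, ha, hb, smul_add, Finset.sum_add_distrib]
  have h1 := coeff_principle _ _ _ _ _ _ key 1
  rw [mem_primLie_iff]
  have hL : Coalgebra.comul (R := k) (eN k H N x) =
      ∑ j ∈ Finset.range N, (bp k j).coeff 1 • Coalgebra.comul (R := k) (((piC k H) ^ j) x) := by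
    rw [eN_apply, map_sum]
    apply Finset.sum_congr rfl
    intro j _
    rw [map_smul]; rfl
  rw [hL, h1]
  have h0N : 0 ∈ Finset.range N := Finset.mem_range.mpr (by omega)
  simp only [coeff_one_bp_mul, add_smul, Finset.sum_add_distrib]
  rw [add_comm]
  congr 1
  · rw [Finset.sum_product_right]
    rw [Finset.sum_eq_single_of_mem 0 h0N]
    · simp only [if_true, pow_zero, map_comul_one]
      rw [eN_apply, TensorProduct.sum_tmul]
      apply Finset.sum_congr rfl
      intro i _
      rw [TensorProduct.smul_tmul']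
    · intro j _ hj
      simp [hj]
  · rw [Finset.sum_product]
    rw [Finset.sum_eq_single_of_mem 0 h0N]
    · simp only [if_true, pow_zero, map_one_comul]
      rw [eN_apply, TensorProduct.tmul_sum]
      apply Finset.sum_congr rfl
      intro i _
      rw [TensorProduct.tmul_smul]
    · intro j _ hj
      simp [hj]

variable (k) in
/-- the polynomial `log(1+X)` truncated -/
noncomputable def LN (N : ℕ) : Polynomial k :=
  ∑ j ∈ Finset.range N, Polynomial.C (ell k j) * Polynomial.X ^ j

theorem LN_coeff_zero (N : ℕ) : (LN k N).coeff 0 = 0 := by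
  simp only [LN, Polynomial.finsetSum_coeff, Polynomial.coeff_C_mul, Polynomial.coeff_X_pow]
  apply Finset.sum_eq_zero
  intro j _
  by_cases hj : j = 0
  · subst hj; simp [ell_zero]
  · simp [Ne.symm hj]

theorem LN_coeff_one {N : ℕ} (hN2 : 2 ≤ N) : (LN k N).coeff 1 = 1 := by
  simp only [LN, Polynomial.finsetSum_coeff, Polynomial.coeff_C_mul, Polynomial.coeff_X_pow]
  rw [Finset.sum_eq_single_of_mem 1 (Finset.mem_range.mpr (by omega))]
  · simp [ell_one]
  · intro j _ hj
    simp [Ne.symm hj]

theorem aeval_piC_LN (N : ℕ) : Polynomial.aeval (piC k H) (LN k N) = eN k H N := by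
  simp only [LN, eN, map_sum, map_mul, Polynomial.aeval_C, map_pow, Polynomial.aeval_X,
    Algebra.smul_def]

variable (k) in
/-- a polynomial inverse to `LN` modulo `X ^ N` -/
noncomputable def QN (N : ℕ) : Polynomial k :=
  if h : 2 ≤ N then
    Classical.choose (exists_comp_sub_dvd (LN k N) (LN_coeff_zero N) (LN_coeff_one h) N)
  else 0

theorem QN_spec {N : ℕ} (hN2 : 2 ≤ N) :
    Polynomial.X ^ N ∣ Polynomial.X - (QN k N).comp (LN k N) := by
  rw [QN, dif_pos hN2]
  exact Classical.choose_spec (exists_comp_sub_dvd (LN k N) (LN_coeff_zero N) (LN_coeff_one hN2) N)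

theorem piC_eq_aeval_eN {D : Submodule k H} (hD : IsSubcoalg D)
    {N : ℕ} (hN2 : 2 ≤ N) (hN : ∀ d ∈ D, ((piC k H) ^ N) d = 0) :
    ∀ d ∈ D, piC k H d = (Polynomial.aeval (eN k H N) (QN k N)) d := by
  intro d hd
  obtain ⟨r, hr⟩ := QN_spec (k := k) hN2
  have h1 := congrArg (Polynomial.aeval (piC k H)) hr
  rw [map_sub, Polynomial.aeval_X, Polynomial.aeval_comp, aeval_piC_LN, map_mul, map_pow,
    Polynomial.aeval_X] at h1
  have h2 := congrArg (fun F : WithConv (H →ₗ[k] H) => F d) h1
  simp only [WithConv.ofConv_sub, LinearMap.sub_apply] at h2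
  rw [conv_mul_eq_zero_left hD hN d hd, sub_eq_zero] at h2
  exact h2

theorem aeval_apply (f : WithConv (H →ₗ[k] H)) (Q : Polynomial k) (x : H) :
    (Polynomial.aeval f Q) x = ∑ i ∈ Finset.range (Q.natDegree + 1), Q.coeff i • (f ^ i) x := by
  rw [Polynomial.aeval_eq_sum_range]
  simp

end Euler

end Groth.Agent.Helper6.CMM
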