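import Groth.Agent.Lib.Helper6.CMM3

set_option autoImplicit false
set_option linter.unusedSectionVars false
universe u v w

open scoped TensorProduct
open WithConv

namespace Groth.Agent.Helper6.CMM

open Groth.Agent.Helper12 (IsSubcoalg)

section Slices
variable {k : Type u} [Field k] {V : Type v} [AddCommGroup V] [Module k V]
  {W : Type w} [AddCommGroup W] [Module k W]

theorem rsl_lTensor {W' : Type*} [AddCommGroup W'] [Module k W'] (φ : W →ₗ[k] k)
    (T : W' →ₗ[k] W) (t : V ⊗[k] W') : rsl φ (T.lTensor V t) = rsl (φ ∘ₗ T) t := by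
  induction t using TensorProduct.induction_on with
  | zero => simp
  | tmul a b => simp
  | add a b ha hb => simp only [map_add, ha, hb]

theorem rsl_rTensor {V' : Type*} [AddCommGroup V'] [Module k V'] (φ : W →ₗ[k] k)
    (T : V →ₗ[k] V') (t : V ⊗[k] W) : rsl φ (T.rTensor W t) = T (rsl φ t) := by
  induction t using TensorProduct.induction_on with
  | zero => simp
  | tmul a b => simp
  | add a b ha hb => simp only [map_add, ha, hb]

theorem rsl_rsl {X : Type*} [AddCommGroup X] [Module k X] (g : W →ₗ[k] k) (h : X →ₗ[k] k)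
    (s : (V ⊗[k] W) ⊗[k] X) :
    rsl g (rsl h s) =
      rsl (LinearMap.mul' k k ∘ₗ TensorProduct.map g h) (TensorProduct.assoc k V W X s) := by
  induction s using TensorProduct.induction_on with
  | zero => simp
  | tmul y c =>
    induction y using TensorProduct.induction_on with
    | zero => simp
    | tmul a b => simp [smul_smul, mul_comm]
    | add a b ha hb => simp only [TensorProduct.add_tmul, map_add, ha, hb]
  | add a b ha hb => simp only [map_add, ha, hb]

end Slices

section Conil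
variable {k : Type u} [Field k] {H : Type v} [Ring H] [Bialgebra k H]

/-- right translation by a functional -/
noncomputable def rtr (g : WithConv (H →ₗ[k] k)) : H →ₗ[k] H :=
  rsl g.ofConv ∘ₗ Coalgebra.comul

theorem rtr_apply (g : WithConv (H →ₗ[k] k)) (x : H) :
    rtr g x = rsl g.ofConv (Coalgebra.comul (R := k) x) := rfl

theorem rtr_rtr (g h : WithConv (H →ₗ[k] k)) (x : H) : rtr g (rtr h x) = rtr (g * h) x := by
  rw [rtr_apply, rtr_apply h, rtr_apply]
  have ha : Coalgebra.comul (R := k) (rsl h.ofConv (Coalgebra.comul (R := k) x)) =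
      rsl h.ofConv ((Coalgebra.comul (R := k)).rTensor H (Coalgebra.comul (R := k) x)) := by
    rw [rsl_rTensor]
  rw [ha, rsl_rsl, Coalgebra.coassoc_apply, rsl_lTensor, LinearMap.convMul_def]
  rfl

theorem rtr_comm [Coalgebra.IsCocomm k H] (g h : WithConv (H →ₗ[k] k)) (x : H) :
    rtr g (rtr h x) = rtr h (rtr g x) := by
  rw [rtr_rtr, rtr_rtr, mul_comm]

theorem rtr_one : rtr (1 : WithConv (H →ₗ[k] k)) = (LinearMap.id : H →ₗ[k] H) := by
  ext x
  rw [rtr_apply, LinearMap.convOne_def]
  have h : (Algebra.linearMap k k ∘ₗ Coalgebra.counit : H →ₗ[k] k) = Coalgebra.counit := by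
    ext y; simp
  rw [WithConv.ofConv_toConv, h, rsl, LinearMap.comp_apply, Coalgebra.lTensor_counit_comul]
  simp

theorem rtr_apply_one (g : WithConv (H →ₗ[k] k)) : rtr g (1 : H) = g 1 • (1 : H) := by
  rw [rtr_apply, Bialgebra.comul_one]
  exact rsl_tmul _ _ _

theorem counit_rtr (g : WithConv (H →ₗ[k] k)) (x : H) :
    Coalgebra.counit (R := k) (rtr g x) = g x := by
  have h : ∀ t : H ⊗[k] H, Coalgebra.counit (R := k) (rsl g.ofConv t) =
      g (lsl (Coalgebra.counit (R := k)) t) := by
    intro t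
    induction t using TensorProduct.induction_on with
    | zero => simp
    | tmul a b => simp [mul_comm]
    | add a b ha hb => simp only [map_add, ha, hb]
  rw [rtr_apply, h, lsl, LinearMap.comp_apply, Coalgebra.rTensor_counit_comul]
  simp

theorem rtr_pow (g : WithConv (H →ₗ[k] k)) (n : ℕ) : rtr (g ^ n) = (rtr g) ^ n := by
  induction n with
  | zero => rw [pow_zero, pow_zero, rtr_one]; rfl
  | succ n ih =>
    ext x
    rw [pow_succ, pow_succ, Module.End.mul_apply, ← ih, rtr_rtr]

theorem rtr_mem {D : Submodule k H} (hD : IsSubcoalg D) (g : WithConv (H →ₗ[k] k)) :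
    ∀ d ∈ D, rtr g d ∈ D := by
  intro d hd
  obtain ⟨y, hy⟩ := hD d hd
  rw [rtr_apply, ← hy]
  clear hy
  induction y using TensorProduct.induction_on with
  | zero => simp
  | tmul a b => simp only [TensorProduct.map_tmul, Submodule.subtype_apply, rsl_tmul]
                exact D.smul_mem _ a.2
  | add a b ha hb => simp only [map_add]; exact D.add_mem ha hb

theorem rtr_eq_zero_of_vanish {D : Submodule k H} (hD : IsSubcoalg D)
    (g : WithConv (H →ₗ[k] k)) (hg : ∀ d ∈ D, g d = 0) : ∀ d ∈ D, rtr g d = 0 := by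
  intro d hd
  obtain ⟨y, hy⟩ := hD d hd
  rw [rtr_apply, ← hy]
  clear hy
  induction y using TensorProduct.induction_on with
  | zero => simp
  | tmul a b => simp only [TensorProduct.map_tmul, Submodule.subtype_apply, rsl_tmul]
                rw [hg b b.2, zero_smul]
  | add a b ha hb => simp only [map_add, ha, hb, add_zero]

theorem isSubcoalg_of_rtr_stable [Coalgebra.IsCocomm k H] (W : Submodule k H)
    (h : ∀ g : WithConv (H →ₗ[k] k), ∀ w ∈ W, rtr g w ∈ W) : IsSubcoalg W := by
  intro w hw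
  apply mem_range_map_of_mem_of_mem
  · apply mem_range_rTensor_of_rsl
    intro g
    exact h (toConv g) w hw
  · apply mem_range_lTensor_of_lsl
    intro f
    have : lsl f (Coalgebra.comul (R := k) w) = rsl f (Coalgebra.comul (R := k) w) := by
      rw [← lsl_comm, Coalgebra.comm_comul]
    rw [this]
    exact h (toConv f) w hw

theorem exists_rtr_pow_eq_zero [Coalgebra.IsCocomm k H] (hconn : SGA3y.IsConnectedCoalg k H)
    {D : Submodule k H} [FiniteDimensional k D] (hD : IsSubcoalg D)
    (g : WithConv (H →ₗ[k] k)) (hg : g 1 = 0) :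
    ∃ n : ℕ, ∀ d ∈ D, ((rtr g) ^ n) d = 0 := by
  set f : Module.End k D := (rtr g).restrict (fun d hd => rtr_mem hD g d hd) with hf
  obtain ⟨n, -, hn⟩ := Module.End.exists_ker_pow_eq_ker_pow_succ f
  refine ⟨n, ?_⟩
  set W : Submodule k H := (LinearMap.range (f ^ n)).map D.subtype with hW
  have hWstab : ∀ h : WithConv (H →ₗ[k] k), ∀ w ∈ W, rtr h w ∈ W := by
    intro h w hw
    obtain ⟨_, ⟨d, rfl⟩, rfl⟩ := hw
    set fh : Module.End k D := (rtr h).restrict (fun d hd => rtr_mem hD h d hd) with hfh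
    have hcomm : Commute fh f := by
      apply LinearMap.ext
      intro d
      apply Subtype.ext
      exact rtr_comm h g d
    have h1 := (hcomm.pow_right n).eq
    refine ⟨(f ^ n) (fh d), ⟨fh d, rfl⟩, ?_⟩
    have h2 := congrArg (fun F : Module.End k D => ((F d : D) : H)) h1
    simp only [Module.End.mul_apply] at h2
    rw [Submodule.subtype_apply, ← h2]
    rfl
  have hWsub : IsSubcoalg W := isSubcoalg_of_rtr_stable W hWstab
  have hWbot : W = ⊥ := by
    by_contra hne
    have h1 : (1 : H) ∈ W := hconn W hWsub hne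
    obtain ⟨_, ⟨d, rfl⟩, hd1⟩ := h1
    have h3 : (f ^ (n + 1)) d = 0 := by
      apply Subtype.ext
      rw [pow_succ', Module.End.mul_apply]
      change rtr g (((f ^ n) d : D) : H) = 0
      rw [show (((f ^ n) d : D) : H) = 1 from hd1, rtr_apply_one, hg, zero_smul]
    have h4 : d ∈ LinearMap.ker (f ^ n) := by rw [hn]; exact h3
    have h5 : (f ^ n) d = 0 := h4
    rw [h5] at hd1
    have h6 := congrArg (Coalgebra.counit (R := k)) hd1
    rw [Bialgebra.counit_one, map_zero, map_zero] at h6
    exact one_ne_zero h6.symm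
  intro d hd
  have h7 : (f ^ n) ⟨d, hd⟩ = 0 := by
    have : D.subtype ((f ^ n) ⟨d, hd⟩) ∈ W := ⟨_, ⟨_, rfl⟩, rfl⟩
    rw [hWbot, Submodule.mem_bot] at this
    exact Subtype.ext this
  have h8 : (((f ^ n) ⟨d, hd⟩ : D) : H) = ((rtr g) ^ n) d := by
    rw [hf, Module.End.pow_restrict n]; rfl
  rw [← h8, h7]; rfl

theorem conv_mul_rank_one (f : WithConv (H →ₗ[k] H)) (g : WithConv (H →ₗ[k] k)) (a x : H) :
    (f * toConv (LinearMap.toSpanSingleton k H a ∘ₗ g.ofConv)) x = f (rtr g x) * a := by
  rw [LinearMap.convMul_apply, rtr_apply]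
  generalize Coalgebra.comul (R := k) x = t
  induction t using TensorProduct.induction_on with
  | zero => simp
  | tmul u v => simp
  | add u v hu hv => simp only [map_add, hu, hv, add_mul]

theorem exists_pow_family {R : Type*} [CommRing R] (I : Set R) (hI0 : (0 : R) ∈ I)
    (hIadd : ∀ a b, a ∈ I → b ∈ I → a + b ∈ I) (hImul : ∀ c a, a ∈ I → c * a ∈ I)
    {ι : Type*} [Finite ι] (a : ι → R) (h : ∀ i, ∃ n, a i ^ n ∈ I) :
    ∃ S : ℕ → Set R, (1 : R) ∈ S 0 ∧ (∀ M g i, g ∈ S M → g * a i ∈ S (M + 1)) ∧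
      ∃ M, S M ⊆ I := by
  let J : Ideal R :=
    { carrier := I
      add_mem' := fun ha hb => hIadd _ _ ha hb
      zero_mem' := hI0
      smul_mem' := fun c x hx => hImul c x hx }
  let 𝔞 : Ideal R := Ideal.span (Set.range a)
  have h_rad : 𝔞 ≤ J.radical := Ideal.span_le.mpr (by rintro _ ⟨i, rfl⟩; exact h i)
  obtain ⟨M, hM⟩ := Ideal.exists_pow_le_of_le_radical_of_fg h_rad
    (Submodule.fg_span (Set.finite_range a))
  refine ⟨fun M => ((𝔞 ^ M : Ideal R) : Set R), ?_, ?_, M, hM⟩
  · simp
  · intro M g i hg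
    change g * a i ∈ 𝔞 ^ (M + 1)
    rw [pow_succ]
    exact Ideal.mul_mem_mul hg (Ideal.subset_span ⟨i, rfl⟩)

theorem exists_piC_pow_eq_zero [Coalgebra.IsCocomm k H] (hconn : SGA3y.IsConnectedCoalg k H)
    {D : Submodule k H} [FiniteDimensional k D] (hD : IsSubcoalg D) (h1 : (1 : H) ∈ D) :
    ∃ M : ℕ, ∀ d ∈ D, ((piC k H) ^ M) d = 0 := by
  classical
  let b := Module.finBasis k D
  have hext : ∀ i, ∃ δ : H →ₗ[k] k, δ ∘ₗ D.subtype = b.coord i :=
    fun i => LinearMap.exists_extend (b.coord i)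
  choose δ hδ using hext
  let δ' : Fin (Module.finrank k D) → WithConv (H →ₗ[k] k) :=
    fun i => toConv (δ i) - (δ i 1) • 1
  have hδ'1 : ∀ i, δ' i 1 = 0 := by
    intro i
    simp [δ']
  have hδD : ∀ i (y : D), δ i (y : H) = b.repr y i := by
    intro i y
    have := LinearMap.congr_fun (hδ i) y
    simpa using this
  have hpi : ∀ y ∈ D, piC k H y = ∑ i, (δ' i y) • ((b i : D) : H) := by
    intro y hy
    have hy' := congrArg (Subtype.val) (b.sum_repr ⟨y, hy⟩)
    have h1' := congrArg (Subtype.val) (b.sum_repr ⟨1, h1⟩)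
    simp only [Submodule.coe_sum, Submodule.coe_smul] at hy' h1'
    have key : y - (Coalgebra.counit (R := k) y) • (1 : H) =
        ∑ i, (b.repr ⟨y, hy⟩ i - b.repr ⟨1, h1⟩ i * Coalgebra.counit (R := k) y) •
          ((b i : D) : H) := by
      generalize Coalgebra.counit (R := k) y = c
      simp only [sub_smul, Finset.sum_sub_distrib, mul_comm _ c, mul_smul, ← Finset.smul_sum]
      rw [hy', h1']
    rw [piC_apply, Algebra.algebraMap_eq_smul_one, key]
    apply Finset.sum_congr rfl
    intro i _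
    have e1 := hδD i ⟨y, hy⟩
    have e2 := hδD i ⟨1, h1⟩
    simp only at e1 e2
    simp only [δ', WithConv.ofConv_sub, WithConv.ofConv_smul,
      LinearMap.sub_apply, LinearMap.smul_apply, LinearMap.convOne_apply, smul_eq_mul,
      Algebra.algebraMap_self_apply]
    rw [e1, e2]
  obtain ⟨S, hS0, hSmul, M, hM⟩ := exists_pow_family (R := WithConv (H →ₗ[k] k))
    {g | ∀ d ∈ D, g d = 0}
    (by intro d _; simp)
    (by
      intro a c ha hc d hd
      have h1 := ha d hd
      have h2 := hc d hd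
      simp only [WithConv.ofConv_add, LinearMap.add_apply, h1, h2, add_zero])
    (by
      intro c g hg
      exact conv_mul_eq_zero_right hD hg)
    δ'
    (by
      intro i
      obtain ⟨n, hn⟩ := exists_rtr_pow_eq_zero hconn hD (δ' i) (hδ'1 i)
      refine ⟨n, ?_⟩
      intro d hd
      rw [← counit_rtr, rtr_pow, hn d hd, map_zero])
  have claim : ∀ M : ℕ, ∀ x ∈ D, (∀ g ∈ S M, rtr g x = 0) → ((piC k H) ^ M) x = 0 := by
    intro M
    induction M with
    | zero =>
      intro x _ hg
      have := hg 1 hS0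
      rw [rtr_one] at this
      rw [show x = 0 from this, map_zero]
    | succ M ih =>
      intro x hx hg
      rw [pow_succ]
      have hcongr := conv_congr_on hD (f := (piC k H) ^ M) (f' := (piC k H) ^ M)
        (g := piC k H)
        (g' := ∑ i, toConv (LinearMap.toSpanSingleton k H ((b i : D) : H) ∘ₗ (δ' i).ofConv))
        (fun _ _ => rfl)
        (fun y hy => by
          rw [hpi y hy]
          simp) x hx
      rw [hcongr, Finset.mul_sum]
      simp only [WithConv.ofConv_sum, LinearMap.sum_apply, conv_mul_rank_one]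
      apply Finset.sum_eq_zero
      intro i _
      rw [ih (rtr (δ' i) x) (rtr_mem hD _ x hx), zero_mul]
      intro g hgM
      rw [rtr_rtr]
      exact hg _ (hSmul M g i hgM)
  refine ⟨M, fun x hx => claim M x hx ?_⟩
  intro g hgM
  exact rtr_eq_zero_of_vanish hD g (hM hgM) x hx

theorem isSubcoalg_span_one : IsSubcoalg (k ∙ (1 : H)) := by
  intro b hb
  obtain ⟨c, rfl⟩ := Submodule.mem_span_singleton.mp hb
  refine ⟨c • ((⟨1, Submodule.mem_span_singleton_self 1⟩ : (k ∙ (1 : H))) ⊗ₜ[k]
    (⟨1, Submodule.mem_span_singleton_self 1⟩ : (k ∙ (1 : H)))), ?_⟩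
  rw [map_smul, map_smul, TensorProduct.map_tmul, Bialgebra.comul_one]
  rfl

theorem exists_nil [Coalgebra.IsCocomm k H] (hconn : SGA3y.IsConnectedCoalg k H) (x : H) :
    ∃ (D : Submodule k H) (N : ℕ), IsSubcoalg D ∧ x ∈ D ∧ 2 ≤ N ∧
      ∀ d ∈ D, ((piC k H) ^ N) d = 0 := by
  obtain ⟨B, hBfin, hxB, hBsub⟩ := Groth.Agent.Helper12.exists_finite_subcoalg_mem (k := k) x
  have hDsub : IsSubcoalg (B ⊔ (k ∙ (1 : H))) :=
    Groth.Agent.Helper12.isSubcoalg_sup hBsub isSubcoalg_span_one
  have : FiniteDimensional k (B ⊔ (k ∙ (1 : H)) : Submodule k H) := inferInstance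
  obtain ⟨M, hM⟩ := exists_piC_pow_eq_zero hconn hDsub
    (Submodule.mem_sup_right (Submodule.mem_span_singleton_self 1))
  exact ⟨B ⊔ (k ∙ (1 : H)), M + 2, hDsub, Submodule.mem_sup_left hxB, by omega,
    piC_pow_eq_zero_of_le hDsub hM (by omega)⟩

end Conil

end Groth.Agent.Helper6.CMM
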