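import Groth.Agent.Lib.Helper6.CMM4

set_option autoImplicit false
set_option linter.unusedSectionVars false
universe u v w

open scoped TensorProduct
open WithConv

attribute [local instance] LieRing.ofAssociativeRing

namespace Groth.Agent.Helper6.CMM

open Groth.Agent.Helper12 (IsSubcoalg)

section UEA
variable (k : Type u) [Field k] (L : Type v) [LieRing L] [LieAlgebra k L]

local notation "𝒰" => UniversalEnvelopingAlgebra k L
local notation "ιU" => UniversalEnvelopingAlgebra.ι k (L := L)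

/-- the Lie hom `x ↦ ι x ⊗ 1 + 1 ⊗ ι x` -/
noncomputable def comulLie : L →ₗ⁅k⁆ (𝒰 ⊗[k] 𝒰) :=
  { toLinearMap := (TensorProduct.mk k 𝒰 𝒰).flip 1 ∘ₗ (ιU : L →ₗ[k] 𝒰) +
      TensorProduct.mk k 𝒰 𝒰 1 ∘ₗ (ιU : L →ₗ[k] 𝒰)
    map_lie' := by
      intro x y
      simp only [AddHom.toFun_eq_coe, LinearMap.coe_toAddHom, LinearMap.add_apply,
        LinearMap.comp_apply, LinearMap.flip_apply, TensorProduct.mk_apply,
        LieHom.coe_toLinearMap, LieHom.map_lie, LieRing.of_associative_ring_bracket]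
      simp only [TensorProduct.sub_tmul, TensorProduct.tmul_sub, add_mul, mul_add,
        Algebra.TensorProduct.tmul_mul_tmul, one_mul, mul_one]
      abel }

theorem comulLie_apply (x : L) : comulLie k L x = ιU x ⊗ₜ[k] 1 + 1 ⊗ₜ[k] ιU x := rfl

/-- comultiplication of the universal enveloping algebra -/
noncomputable def comulU : 𝒰 →ₐ[k] 𝒰 ⊗[k] 𝒰 := UniversalEnvelopingAlgebra.lift k (comulLie k L)

/-- counit of the universal enveloping algebra -/
noncomputable def counitU : 𝒰 →ₐ[k] k := UniversalEnvelopingAlgebra.lift k (0 : L →ₗ⁅k⁆ k)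

@[simp] theorem comulU_ι (x : L) : comulU k L (ιU x) = ιU x ⊗ₜ[k] 1 + 1 ⊗ₜ[k] ιU x := by
  rw [comulU, UniversalEnvelopingAlgebra.lift_ι_apply, comulLie_apply]

@[simp] theorem counitU_ι (x : L) : counitU k L (ιU x) = 0 := by
  rw [counitU, UniversalEnvelopingAlgebra.lift_ι_apply]; rfl

variable {k L} in
theorem algHom_ext' {A : Type*} [Ring A] [Algebra k A] {f g : 𝒰 →ₐ[k] A}
    (h : ∀ x : L, f (ιU x) = g (ιU x)) : f = g := by
  apply UniversalEnvelopingAlgebra.hom_ext
  apply LieHom.ext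
  intro x
  exact h x

noncomputable instance instBialgebraUEA : Bialgebra k 𝒰 :=
  Bialgebra.ofAlgHom (comulU k L) (counitU k L)
    (by
      apply algHom_ext'
      intro x
      simp [-UniversalEnvelopingAlgebra.ι_apply, Algebra.TensorProduct.one_def,
        TensorProduct.add_tmul, TensorProduct.tmul_add]
      abel)
    (by
      apply algHom_ext'
      intro x
      simp [-UniversalEnvelopingAlgebra.ι_apply])
    (by
      apply algHom_ext'
      intro x
      simp [-UniversalEnvelopingAlgebra.ι_apply])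

@[simp] theorem comul_ι (x : L) :
    Coalgebra.comul (R := k) (ιU x) = ιU x ⊗ₜ[k] 1 + 1 ⊗ₜ[k] ιU x := comulU_ι k L x

@[simp] theorem counit_ι (x : L) : Coalgebra.counit (R := k) (ιU x) = 0 := counitU_ι k L x

instance instIsCocommUEA : Coalgebra.IsCocomm k 𝒰 where
  comm_comp_comul := by
    have h : (Algebra.TensorProduct.comm k 𝒰 𝒰).toAlgHom.comp (Bialgebra.comulAlgHom k 𝒰) =
        Bialgebra.comulAlgHom k 𝒰 := by
      apply algHom_ext'
      intro x
      simp [-UniversalEnvelopingAlgebra.ι_apply]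
      abel
    exact congr(($h).toLinearMap)

variable {k L}

/-- span of the powers `ι p ^ i`, `i ≤ N` -/
def Mn (N : ℕ) : Submodule k 𝒰 := Submodule.span k {u | ∃ p : L, ∃ i ≤ N, u = ιU p ^ i}

theorem pow_mem_Mn (p : L) {i N : ℕ} (h : i ≤ N) : ιU p ^ i ∈ Mn (k := k) (L := L) N :=
  Submodule.subset_span ⟨p, i, h, rfl⟩

theorem Mn_mono {N N' : ℕ} (h : N ≤ N') : Mn (k := k) (L := L) N ≤ Mn N' :=
  Submodule.span_mono (fun _ ⟨p, i, hi, hu⟩ => ⟨p, i, hi.trans h, hu⟩)

theorem comul_ι_pow (p : L) (j : ℕ) :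
    Coalgebra.comul (R := k) (ιU p ^ j) =
      ∑ i ∈ Finset.range (j + 1), (j.choose i : k) • (((ιU p) ^ i) ⊗ₜ[k] ((ιU p) ^ (j - i))) := by
  have hc : Commute (ιU p ⊗ₜ[k] (1 : 𝒰)) ((1 : 𝒰) ⊗ₜ[k] ιU p) := by
    change _ * _ = _ * _
    rw [Algebra.TensorProduct.tmul_mul_tmul, Algebra.TensorProduct.tmul_mul_tmul, mul_one,
      one_mul]
  rw [Bialgebra.comul_pow, comul_ι, hc.add_pow]
  apply Finset.sum_congr rfl
  intro i _
  rw [Algebra.TensorProduct.tmul_pow, Algebra.TensorProduct.tmul_pow, one_pow, one_pow,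
    Algebra.TensorProduct.tmul_mul_tmul, mul_one, one_mul, ← nsmul_eq_mul',
    Nat.cast_smul_eq_nsmul]

theorem isSubcoalg_Mn (N : ℕ) : IsSubcoalg (Mn (k := k) (L := L) N) := by
  intro b hb
  refine Submodule.span_induction (p := fun b _ => Coalgebra.comul (R := k) b ∈
    LinearMap.range (TensorProduct.map (Mn (k := k) (L := L) N).subtype (Mn (k := k) (L := L) N).subtype))
    ?_ ?_ ?_ ?_ hb
  · rintro _ ⟨p, i, hi, rfl⟩
    rw [comul_ι_pow]
    refine Submodule.sum_mem _ fun a ha => Submodule.smul_mem _ _ ?_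
    rw [Finset.mem_range] at ha
    exact ⟨(⟨_, pow_mem_Mn p (by omega : a ≤ N)⟩ : Mn (k := k) (L := L) N) ⊗ₜ[k]
      (⟨_, pow_mem_Mn p (by omega : i - a ≤ N)⟩ : Mn (k := k) (L := L) N), by simp⟩
  · simp
  · intro a b _ _ ha hb; rw [map_add]; exact Submodule.add_mem _ ha hb
  · intro c a _ ha; rw [map_smul]; exact Submodule.smul_mem _ c ha

theorem piC_pow_ι_pow (p : L) : ∀ m i : ℕ, i < m → ((piC k 𝒰) ^ m) (ιU p ^ i) = 0 := by
  intro m
  induction m with
  | zero => intro i hi; omega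
  | succ m ih =>
    intro i hi
    rw [pow_succ', LinearMap.convMul_apply, comul_ι_pow, map_sum, map_sum]
    apply Finset.sum_eq_zero
    intro a ha
    rw [Finset.mem_range] at ha
    rw [map_smul, map_smul, TensorProduct.map_tmul, LinearMap.mul'_apply]
    rcases Nat.eq_zero_or_pos a with rfl | hapos
    · rw [pow_zero]
      change _ • (piC k 𝒰 1 * _) = 0
      rw [piC_one, zero_mul, smul_zero]
    · have h0 : ((piC k 𝒰) ^ m) (ιU p ^ (i - a)) = 0 := ih (i - a) (by omega)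
      change _ • (_ * ((piC k 𝒰) ^ m) (ιU p ^ (i - a))) = 0
      rw [h0, mul_zero, smul_zero]

theorem piC_pow_Mn (N : ℕ) : ∀ u ∈ Mn (k := k) (L := L) N, ((piC k 𝒰) ^ (N + 1)) u = 0 := by
  intro u hu
  refine Submodule.span_induction (p := fun u _ => ((piC k 𝒰) ^ (N + 1)) u = 0) ?_ ?_ ?_ ?_ hu
  · rintro _ ⟨p, i, hi, rfl⟩
    exact piC_pow_ι_pow p (N + 1) i (by omega)
  · simp
  · intro a b _ _ ha hb; rw [map_add, ha, hb, add_zero]
  · intro c a _ ha; rw [map_smul, ha, smul_zero]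

theorem idc_pow_ι_pow (p : L) (m j : ℕ) :
    ((idc k 𝒰) ^ m) (ιU p ^ j) = ((m : k) ^ j) • ιU p ^ j := by
  induction m generalizing j with
  | zero =>
    rw [pow_zero, LinearMap.convOne_apply, Bialgebra.counit_pow, counit_ι, Nat.cast_zero]
    rcases Nat.eq_zero_or_pos j with rfl | hj
    · simp
    · rw [zero_pow hj.ne', map_zero, zero_smul]
  | succ m ih =>
    rw [pow_succ, LinearMap.convMul_apply, comul_ι_pow, map_sum, map_sum]
    have h1 : ∀ i ∈ Finset.range (j + 1),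
        (LinearMap.mul' k 𝒰) ((TensorProduct.map ((idc k 𝒰) ^ m).ofConv (idc k 𝒰).ofConv)
          ((j.choose i : k) • ((ιU p ^ i) ⊗ₜ[k] (ιU p ^ (j - i))))) =
        ((m : k) ^ i * 1 ^ (j - i) * (j.choose i : k)) • ιU p ^ j := by
      intro i hi
      rw [Finset.mem_range] at hi
      rw [map_smul, map_smul, TensorProduct.map_tmul, LinearMap.mul'_apply]
      change _ • (((idc k 𝒰) ^ m) (ιU p ^ i) * ιU p ^ (j - i)) = _
      rw [ih i, smul_mul_assoc, ← pow_add, show i + (j - i) = j by omega, smul_smul, one_pow,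
        mul_one, mul_comm]
    rw [Finset.sum_congr rfl h1, ← Finset.sum_smul]
    congr 1
    push_cast
    rw [add_pow]

theorem eN_ι_pow [CharZero k] (p : L) {N j : ℕ} (hj : j ≤ N) :
    eN k 𝒰 (N + 1) (ιU p ^ j) = if j = 1 then ιU p else 0 := by
  have key : ∀ m : ℕ,
      ∑ i ∈ Finset.range (N + 1), (bp k i).eval (m : k) • ((piC k 𝒰) ^ i) (ιU p ^ j) =
      ∑ _u ∈ (Finset.univ : Finset Unit), (Polynomial.X ^ j : Polynomial k).eval (m : k) •
        ιU p ^ j := by
    intro m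
    have h1 := idc_pow_apply (isSubcoalg_Mn (k := k) (L := L) N) (piC_pow_Mn N) m
      (ιU p ^ j) (pow_mem_Mn p hj)
    rw [idc_pow_ι_pow] at h1
    simp only [Finset.univ_unique, Finset.sum_singleton, Polynomial.eval_pow, Polynomial.eval_X]
    rw [h1]
    apply Finset.sum_congr rfl
    intro i _
    rw [bp_eval]
  have h2 := coeff_principle _ _ _ _ _ _ key 1
  rw [eN_apply]
  simp only [Finset.univ_unique, Finset.sum_singleton, Polynomial.coeff_X_pow] at h2
  change ∑ i ∈ Finset.range (N + 1), ell k i • _ = _ at h2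
  rw [h2]
  by_cases h : j = 1
  · subst h; simp
  · rw [if_neg h, if_neg (Ne.symm h), zero_smul]

theorem eN_mem_range_ι [CharZero k] (N : ℕ) :
    ∀ u ∈ Mn (k := k) (L := L) N,
      eN k 𝒰 (N + 1) u ∈ LinearMap.range (ιU : L →ₗ[k] 𝒰) := by
  intro u hu
  refine Submodule.span_induction
    (p := fun u _ => eN k 𝒰 (N + 1) u ∈ LinearMap.range (ιU : L →ₗ[k] 𝒰)) ?_ ?_ ?_ ?_ hu
  · rintro _ ⟨p, i, hi, rfl⟩
    rw [eN_ι_pow p hi]
    split_ifs
    · exact ⟨p, rfl⟩
    · exact Submodule.zero_mem _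
  · rw [map_zero]; exact Submodule.zero_mem _
  · intro a b _ _ ha hb; rw [map_add]; exact Submodule.add_mem _ ha hb
  · intro c a _ ha; rw [map_smul]; exact Submodule.smul_mem _ c ha

end UEA

end Groth.Agent.Helper6.CMM
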