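import Groth.Agent.Lib.Helper6.CMM5

set_option autoImplicit false
set_option linter.unusedSectionVars false
universe u v w

open scoped TensorProduct
open WithConv

attribute [local instance] LieRing.ofAssociativeRing

namespace Groth.Agent.Helper6.CMM

open Groth.Agent.Helper12 (IsSubcoalg)

section Expansion
variable {k : Type u} [Field k] {A : Type v} [Ring A] [Algebra k A]

theorem exists_expansion (a b : A) (n : ℕ) :
    ∃ W : ℕ → A, W 0 = a ^ n ∧ (∀ i, n < i → W i = 0) ∧
      W 1 = ∑ i ∈ Finset.range n, a ^ i * b * a ^ (n - 1 - i) ∧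
      ∀ t : k, (a + t • b) ^ n = ∑ i ∈ Finset.range (n + 1), t ^ i • W i := by
  induction n with
  | zero =>
    refine ⟨fun i => if i = 0 then 1 else 0, by simp, ?_, by simp, ?_⟩
    · intro i hi
      simp [Nat.pos_iff_ne_zero.mp hi]
    · intro t
      simp
  | succ n ih =>
    obtain ⟨W, hW0, hWn, hW1, hW⟩ := ih
    refine ⟨fun i => W i * a + (if i = 0 then 0 else W (i - 1) * b), ?_, ?_, ?_, ?_⟩
    · simp [hW0, pow_succ]
    · intro i hi
      have h1 : W i = 0 := hWn i (by omega)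
      have h2 : W (i - 1) = 0 := hWn (i - 1) (by omega)
      simp [h1, h2]
    · simp only [one_ne_zero, if_false, Nat.sub_self, hW0, hW1]
      rw [Finset.sum_range_succ, Finset.sum_mul]
      congr 1
      · apply Finset.sum_congr rfl
        intro i hi
        rw [Finset.mem_range] at hi
        rw [mul_assoc, ← pow_succ]
        congr 2
        omega
      · simp
    · intro t
      rw [pow_succ, hW t, Finset.sum_mul]
      have hsplit : ∑ i ∈ Finset.range (n + 1 + 1),
          t ^ i • (W i * a + (if i = 0 then 0 else W (i - 1) * b)) =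
          ∑ i ∈ Finset.range (n + 1 + 1), t ^ i • (W i * a) +
          ∑ i ∈ Finset.range (n + 1 + 1), t ^ i • (if i = 0 then 0 else W (i - 1) * b) := by
        rw [← Finset.sum_add_distrib]
        apply Finset.sum_congr rfl
        intro i _
        rw [smul_add]
      rw [hsplit, Finset.sum_range_succ (fun i => t ^ i • (W i * a)), hWn (n + 1) (by omega),
        zero_mul, smul_zero, add_zero,
        Finset.sum_range_succ' (fun i => t ^ i • (if i = 0 then 0 else W (i - 1) * b))]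
      simp only [Nat.add_eq_zero_iff, one_ne_zero, and_false, if_false, Nat.add_sub_cancel,
        if_true, smul_zero, add_zero]
      rw [← Finset.sum_add_distrib]
      apply Finset.sum_congr rfl
      intro i _
      rw [mul_add, smul_mul_assoc, mul_smul_comm, smul_mul_assoc, smul_smul, ← pow_succ']

theorem W1_mem [CharZero k] (M : Submodule k A) (a b : A) (n : ℕ)
    (h : ∀ t : k, (a + t • b) ^ n ∈ M) :
    ∑ i ∈ Finset.range n, a ^ i * b * a ^ (n - 1 - i) ∈ M := by
  obtain ⟨W, -, -, hW1, hW⟩ := exists_expansion (k := k) a b n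
  rw [← hW1]
  rcases Nat.eq_zero_or_pos n with rfl | hn
  · rw [hW1]; simp
  have key : ∀ m : ℕ,
      ∑ i ∈ Finset.range (n + 1), (Polynomial.X ^ i : Polynomial k).eval (m : k) • M.mkQ (W i) =
      ∑ _j ∈ (∅ : Finset Unit), (0 : Polynomial k).eval (m : k) • (0 : A ⧸ M) := by
    intro m
    rw [Finset.sum_empty]
    have h1 := h (m : k)
    rw [hW] at h1
    have h2 := (Submodule.Quotient.mk_eq_zero M).mpr h1
    rw [← h2, ← Submodule.mkQ_apply, map_sum]
    apply Finset.sum_congr rfl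
    intro i _
    rw [map_smul, Polynomial.eval_pow, Polynomial.eval_X]
  have h3 := coeff_principle _ _ _ _ _ _ key 1
  simp only [Polynomial.coeff_X_pow, Finset.sum_empty] at h3
  have h4 : ∑ x ∈ Finset.range (n + 1), (if 1 = x then (1 : k) else 0) • M.mkQ (W x) =
      M.mkQ (W 1) := by
    rw [Finset.sum_eq_single_of_mem 1 (Finset.mem_range.mpr (by omega))]
    · simp
    · intro j _ hj
      rw [if_neg (Ne.symm hj), zero_smul]
  rw [h4] at h3
  exact (Submodule.Quotient.mk_eq_zero M).mp h3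

end Expansion

section Span
variable {k : Type u} [Field k] {L : Type v} [LieRing L] [LieAlgebra k L]

local notation "𝒰" => UniversalEnvelopingAlgebra k L
local notation "ιU" => UniversalEnvelopingAlgebra.ι k (L := L)

variable (k L) in
/-- `k ⊕ L` inside the enveloping algebra -/
def V1 : Submodule k 𝒰 := 1 ⊔ LinearMap.range (ιU : L →ₗ[k] 𝒰)

theorem one_mem_V1 : (1 : 𝒰) ∈ V1 k L :=
  Submodule.mem_sup_left (Submodule.one_le.mp le_rfl)

theorem ι_mem_V1 (p : L) : ιU p ∈ V1 k L :=
  Submodule.mem_sup_right ⟨p, rfl⟩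

theorem V1_pow_mono {n m : ℕ} (h : n ≤ m) : (V1 k L) ^ n ≤ (V1 k L) ^ m := by
  obtain ⟨d, rfl⟩ := Nat.exists_eq_add_of_le h
  intro x hx
  rw [pow_add]
  have : x = x * 1 := (mul_one x).symm
  rw [this]
  exact Submodule.mul_mem_mul hx (by
    have := Submodule.pow_mem_pow (V1 k L) (one_mem_V1 (k := k) (L := L)) d
    rwa [one_pow] at this)

theorem adjoin_range_ι : Algebra.adjoin k (Set.range ιU) = ⊤ := by
  have hs : Function.Surjective (UniversalEnvelopingAlgebra.mkAlgHom k L) :=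
    RingCon.mkₐ_surjective _
  have h1 : Set.range ιU = (UniversalEnvelopingAlgebra.mkAlgHom k L) ''
      Set.range (TensorAlgebra.ι k (M := L)) := by
    ext x
    constructor
    · rintro ⟨p, rfl⟩
      exact ⟨_, ⟨p, rfl⟩, rfl⟩
    · rintro ⟨_, ⟨p, rfl⟩, rfl⟩
      exact ⟨p, rfl⟩
  rw [h1, ← AlgHom.map_adjoin, TensorAlgebra.adjoin_range_ι, Algebra.map_top,
    (AlgHom.range_eq_top _).mpr hs]

theorem exists_mem_V1_pow (u : 𝒰) : ∃ n, u ∈ (V1 k L) ^ n := by
  have hu : u ∈ Algebra.adjoin k (Set.range ιU) := by rw [adjoin_range_ι]; trivial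
  induction hu using Algebra.adjoin_induction with
  | mem x hx =>
    obtain ⟨p, rfl⟩ := hx
    exact ⟨1, by rw [pow_one]; exact ι_mem_V1 p⟩
  | algebraMap r =>
    exact ⟨0, by rw [pow_zero, Submodule.one_eq_range]; exact ⟨r, rfl⟩⟩
  | add x y _ _ hx hy =>
    obtain ⟨n, hn⟩ := hx
    obtain ⟨m, hm⟩ := hy
    exact ⟨max n m, Submodule.add_mem _ (V1_pow_mono (le_max_left _ _) hn)
      (V1_pow_mono (le_max_right _ _) hm)⟩
  | mul x y _ _ hx hy =>
    obtain ⟨n, hn⟩ := hx
    obtain ⟨m, hm⟩ := hy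
    exact ⟨n + m, by rw [pow_add]; exact Submodule.mul_mem_mul hn hm⟩

theorem comm_pow_mem (p q : L) (i : ℕ) :
    ιU p ^ i * ιU q - ιU q * ιU p ^ i ∈ (V1 k L) ^ i := by
  induction i with
  | zero => simp
  | succ i ih =>
    have h1 : ιU p ^ (i + 1) * ιU q - ιU q * ιU p ^ (i + 1) =
        ιU p * (ιU p ^ i * ιU q - ιU q * ιU p ^ i) +
          (ιU p * ιU q - ιU q * ιU p) * ιU p ^ i := by
      rw [pow_succ']; noncomm_ring
    have hbr : ιU p * ιU q - ιU q * ιU p = ιU ⁅p, q⁆ := by
      rw [LieHom.map_lie, LieRing.of_associative_ring_bracket]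
    rw [h1, pow_succ', hbr]
    exact Submodule.add_mem _ (Submodule.mul_mem_mul (ι_mem_V1 p) ih)
      (Submodule.mul_mem_mul (ι_mem_V1 _) (Submodule.pow_mem_pow _ (ι_mem_V1 p) i))

theorem ι_mul_pow_mem [CharZero k] {n : ℕ} (ih : (V1 k L) ^ n ≤ Mn n) (p q : L) {j : ℕ}
    (hj : j ≤ n) : ιU q * ιU p ^ j ∈ Mn (k := k) (L := L) (n + 1) := by
  have hW1 : ∑ i ∈ Finset.range (j + 1), ιU p ^ i * ιU q * ιU p ^ (j + 1 - 1 - i) ∈
      Mn (k := k) (L := L) (n + 1) := by
    apply W1_mem
    intro t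
    have : ιU p + t • ιU q = ιU (p + t • q) := by rw [map_add, map_smul]
    rw [this]
    exact pow_mem_Mn _ (by omega)
  have hterm : ∀ i ∈ Finset.range (j + 1), ιU p ^ i * ιU q * ιU p ^ (j + 1 - 1 - i) =
      ιU q * ιU p ^ j + (ιU p ^ i * ιU q - ιU q * ιU p ^ i) * ιU p ^ (j - i) := by
    intro i hi
    rw [Finset.mem_range] at hi
    have e1 : j + 1 - 1 - i = j - i := by omega
    have e2 : ιU p ^ j = ιU p ^ i * ιU p ^ (j - i) := by
      rw [← pow_add]; congr 1; omega
    rw [e1, e2]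
    noncomm_ring
  rw [Finset.sum_congr rfl hterm, Finset.sum_add_distrib, Finset.sum_const, Finset.card_range,
    ← Nat.cast_smul_eq_nsmul k] at hW1
  have hcomm : ∑ i ∈ Finset.range (j + 1),
      (ιU p ^ i * ιU q - ιU q * ιU p ^ i) * ιU p ^ (j - i) ∈ Mn (k := k) (L := L) (n + 1) := by
    refine Submodule.sum_mem _ fun i hi => ?_
    rw [Finset.mem_range] at hi
    apply Mn_mono (Nat.le_succ n)
    apply ih
    apply V1_pow_mono hj
    have : j = i + (j - i) := by omega
    rw [this, pow_add, ← this]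
    exact Submodule.mul_mem_mul (comm_pow_mem p q i) (Submodule.pow_mem_pow _ (ι_mem_V1 p) _)
  have h5 := Submodule.sub_mem _ hW1 hcomm
  rw [add_sub_cancel_right] at h5
  have hne : ((j + 1 : ℕ) : k) ≠ 0 := Nat.cast_ne_zero.mpr (Nat.succ_ne_zero j)
  have h6 := Submodule.smul_mem _ (((j + 1 : ℕ) : k)⁻¹) h5
  rwa [smul_smul, inv_mul_cancel₀ hne, one_smul] at h6

theorem V1_pow_le_Mn [CharZero k] (n : ℕ) : (V1 k L) ^ n ≤ Mn n := by
  induction n with
  | zero =>
    rw [pow_zero, Submodule.one_le]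
    have := pow_mem_Mn (k := k) (0 : L) (le_refl 0)
    rwa [pow_zero] at this
  | succ n ih =>
    rw [pow_succ', Submodule.mul_le]
    intro v hv w hw
    have hw' := ih hw
    obtain ⟨v1, hv1, v2, hv2, rfl⟩ := Submodule.mem_sup.mp hv
    obtain ⟨c, rfl⟩ := Submodule.mem_one.mp hv1
    obtain ⟨q, rfl⟩ := hv2
    rw [add_mul]
    refine Submodule.add_mem _ ?_ ?_
    · rw [← Algebra.smul_def]
      exact Submodule.smul_mem _ _ (Mn_mono (Nat.le_succ n) hw')
    · refine Submodule.span_induction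
        (p := fun w _ => (ιU : L →ₗ[k] 𝒰) q * w ∈ Mn (k := k) (L := L) (n + 1)) ?_ ?_ ?_ ?_ hw'
      · rintro _ ⟨p, j, hj, rfl⟩
        exact ι_mul_pow_mem ih p q hj
      · simp
      · intro x y _ _ hx hy; rw [mul_add]; exact Submodule.add_mem _ hx hy
      · intro c x _ hx; rw [mul_smul_comm]; exact Submodule.smul_mem _ c hx

theorem exists_mem_Mn [CharZero k] (u : 𝒰) : ∃ N, u ∈ Mn (k := k) (L := L) N := by
  obtain ⟨n, hn⟩ := exists_mem_V1_pow u
  exact ⟨n, V1_pow_le_Mn n hn⟩

end Span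

end Groth.Agent.Helper6.CMM
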