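import Groth.Agent.Lib.Helper6.CMM6

set_option autoImplicit false
set_option linter.unusedSectionVars false
universe u v w

open scoped TensorProduct
open WithConv

attribute [local instance] LieRing.ofAssociativeRing

namespace Groth.Agent.Helper6.CMM

open Groth.Agent.Helper12 (IsSubcoalg)

section Main
variable {k : Type u} [Field k] [CharZero k] {H : Type v} [Ring H] [Bialgebra k H]

theorem counit_of_mem_primLie {y : H} (hy : y ∈ SGA3y.primLie k H) :
    Coalgebra.counit (R := k) y = 0 := by
  have h1 := Coalgebra.rTensor_counit_comul (R := k) y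
  rw [(mem_primLie_iff y).mp hy, map_add, LinearMap.rTensor_tmul, LinearMap.rTensor_tmul,
    Bialgebra.counit_one, add_eq_right] at h1
  have h2 := congrArg (TensorProduct.lid k H) h1
  rw [TensorProduct.lid_tmul, map_zero] at h2
  have h3 := congrArg (Coalgebra.counit (R := k)) h2
  rwa [map_smul, Bialgebra.counit_one, smul_eq_mul, mul_one, map_zero] at h3

variable (k H) in
/-- the canonical map `U(P(H)) → H` -/
noncomputable def phi : UniversalEnvelopingAlgebra k (SGA3y.primLie k H) →ₐ[k] H :=
  UniversalEnvelopingAlgebra.lift k (SGA3y.primLie k H).incl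

@[simp] theorem phi_ι (p : SGA3y.primLie k H) :
    phi k H (UniversalEnvelopingAlgebra.ι k p) = (p : H) := by
  rw [phi, UniversalEnvelopingAlgebra.lift_ι_apply]; rfl

variable (k H) in
/-- the canonical map `U(P(H)) → H` as a coalgebra hom -/
noncomputable def phiC : UniversalEnvelopingAlgebra k (SGA3y.primLie k H) →ₗc[k] H :=
  { (phi k H).toLinearMap with
    counit_comp := by
      have h : (Bialgebra.counitAlgHom k H).comp (phi k H) =
          Bialgebra.counitAlgHom k (UniversalEnvelopingAlgebra k (SGA3y.primLie k H)) := by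
        apply algHom_ext'
        intro x
        rw [AlgHom.comp_apply, phi_ι, Bialgebra.counitAlgHom_apply, Bialgebra.counitAlgHom_apply,
          counit_ι, counit_of_mem_primLie x.2]
      exact congr(($h).toLinearMap)
    map_comp_comul := by
      have h : (Algebra.TensorProduct.map (phi k H) (phi k H)).comp
          (Bialgebra.comulAlgHom k (UniversalEnvelopingAlgebra k (SGA3y.primLie k H))) =
          (Bialgebra.comulAlgHom k H).comp (phi k H) := by
        apply algHom_ext'
        intro x
        rw [AlgHom.comp_apply, AlgHom.comp_apply, phi_ι, Bialgebra.comulAlgHom_apply,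
          Bialgebra.comulAlgHom_apply, comul_ι, map_add, Algebra.TensorProduct.map_tmul,
          Algebra.TensorProduct.map_tmul, phi_ι, map_one, (mem_primLie_iff (x : H)).mp x.2]
      exact congr(($h).toLinearMap) }

@[simp] theorem phiC_apply (u : UniversalEnvelopingAlgebra k (SGA3y.primLie k H)) :
    phiC k H u = phi k H u := rfl

theorem postc_phi_piC :
    postc (phi k H) (piC k (UniversalEnvelopingAlgebra k (SGA3y.primLie k H))) =
      prec (phiC k H) (piC k H) := by
  apply WithConv.ext
  ext u
  change phi k H (piC k _ u) = piC k H (phi k H u)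
  rw [piC_apply, piC_apply, map_sub, AlgHom.commutes]
  congr 2
  exact (CoalgHomClass.counit_comp_apply (phiC k H) u).symm

theorem phi_eN (N : ℕ) (u : UniversalEnvelopingAlgebra k (SGA3y.primLie k H)) :
    phi k H (eN k _ N u) = eN k H N (phi k H u) := by
  have h : postc (phi k H) (eN k (UniversalEnvelopingAlgebra k (SGA3y.primLie k H)) N) =
      prec (phiC k H) (eN k H N) := by
    simp only [eN, map_sum, map_smul, map_pow, postc_phi_piC]
  exact congrArg (fun F : WithConv (_ →ₗ[k] H) => F u) h

variable [Coalgebra.IsCocomm k H]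

theorem phi_surjective (hconn : SGA3y.IsConnectedCoalg k H) :
    Function.Surjective (phi k H) := by
  have hP : ∀ y ∈ SGA3y.primLie k H, y ∈ (phi k H).range :=
    fun y hy => ⟨UniversalEnvelopingAlgebra.ι k ⟨y, hy⟩, phi_ι _⟩
  intro x
  obtain ⟨D, N, hD, hxD, hN2, hN⟩ := exists_nil hconn x
  have he : ∀ d ∈ D, eN k H N d ∈ (phi k H).range :=
    fun d hd => hP _ (eN_mem_primLie hD hN2 hN d hd)
  have hpi : piC k H x ∈ (phi k H).range := by
    rw [piC_eq_aeval_eN hD hN2 hN x hxD, aeval_apply]
    exact Subalgebra.sum_mem _ fun i _ =>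
      Subalgebra.smul_mem _ (conv_pow_mem_on hD (phi k H).range he i x hxD) _
  have hx : x = piC k H x + algebraMap k H (Coalgebra.counit x) := by rw [piC_apply]; abel
  have : x ∈ (phi k H).range := by
    rw [hx]; exact Subalgebra.add_mem _ hpi (Subalgebra.algebraMap_mem _ _)
  exact this

theorem phi_injective : Function.Injective (phi k H) := by
  rw [injective_iff_map_eq_zero]
  intro u hu
  obtain ⟨N, huN⟩ := exists_mem_Mn (k := k) u
  have huD := Mn_mono (Nat.le_succ N) huN
  have hD := isSubcoalg_Mn (k := k) (L := SGA3y.primLie k H) (N + 1)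
  have hNil := piC_pow_Mn (k := k) (L := SGA3y.primLie k H) (N + 1)
  have hN2 : 2 ≤ N + 1 + 1 := by omega
  obtain ⟨ρ, hρ⟩ := LinearMap.exists_leftInverse_of_injective
    ((SGA3y.primLie k H).incl : SGA3y.primLie k H →ₗ[k] H)
    (LinearMap.ker_eq_bot.mpr Subtype.val_injective)
  let et : WithConv (H →ₗ[k] UniversalEnvelopingAlgebra k (SGA3y.primLie k H)) :=
    toConv (((UniversalEnvelopingAlgebra.ι k : SGA3y.primLie k H →ₗ⁅k⁆ _) :
      SGA3y.primLie k H →ₗ[k] _) ∘ₗ ρ ∘ₗ (eN k H (N + 1 + 1)).ofConv)
  have hclaim : ∀ d ∈ Mn (k := k) (L := SGA3y.primLie k H) (N + 1),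
      (prec (phiC k H) et) d = eN k _ (N + 1 + 1) d := by
    intro d hd
    obtain ⟨p, hp⟩ := eN_mem_range_ι (N + 1) d hd
    change (UniversalEnvelopingAlgebra.ι k) (ρ (eN k H (N + 1 + 1) (phi k H d))) = _
    rw [← phi_eN]
    have hp' : (UniversalEnvelopingAlgebra.ι k) p = eN k _ (N + 1 + 1) d := hp
    rw [← hp', phi_ι]
    have := LinearMap.congr_fun hρ p
    simp only [LinearMap.comp_apply, LinearMap.id_apply] at this
    rw [show ((p : SGA3y.primLie k H) : H) =
      ((SGA3y.primLie k H).incl : SGA3y.primLie k H →ₗ[k] H) p from rfl, this]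
  have hpow : ∀ i : ℕ, ((eN k (UniversalEnvelopingAlgebra k (SGA3y.primLie k H))
      (N + 1 + 1)) ^ i) u = 0 := by
    intro i
    rw [← conv_pow_congr_on hD hclaim i u huD, ← map_pow]
    change (et ^ i) (phi k H u) = 0
    rw [hu, map_zero]
  have h1 : piC k _ u = 0 := by
    rw [piC_eq_aeval_eN hD hN2 hNil u huD, aeval_apply]
    exact Finset.sum_eq_zero fun i _ => by rw [hpow i, smul_zero]
  have h2 := hpow 0
  rw [pow_zero, LinearMap.convOne_apply] at h2
  rw [piC_apply, h2, sub_zero] at h1
  exact h1

theorem phi_bijective (hconn : SGA3y.IsConnectedCoalg k H) : Function.Bijective (phi k H) :=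
  ⟨phi_injective, phi_surjective hconn⟩

end Main

end Groth.Agent.Helper6.CMM
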