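import Groth.Agent.Lib.Helper6.Deligne2
import Groth.Agent.Lib.Helper6.FinKill4
import Mathlib

/-!
# Deligne's theorem (helper6), part 3: arbitrary points (base change) and localization
-/

set_option autoImplicit false

namespace Groth.Agent.Helper6.Deligne

open TensorProduct

universe u v w w'

section Res

variable (R : Type u) [CommRing R] (R' : Type w') [CommRing R'] [Algebra R R']
variable (A : Type v) [CommRing A] [Bialgebra R A]

/-- restriction of an `R'`-linear form on `R' ⊗ A` to `A` -/
noncomputable def res (f : WithConv ((R' ⊗[R] A) →ₗ[R'] R')) : WithConv (A →ₗ[R] R') :=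
  WithConv.toConv ((f.ofConv.restrictScalars R) ∘ₗ (TensorProduct.mk R R' A 1))

theorem res_apply (f : WithConv ((R' ⊗[R] A) →ₗ[R'] R')) (a : A) :
    (res R R' A f).ofConv a = f.ofConv ((1 : R') ⊗ₜ[R] a) := rfl

theorem res_mul_aux (f₁ f₂ : (R' ⊗[R] A) →ₗ[R'] R') (z : A ⊗[R] A) :
    LinearMap.mul' R' R' (TensorProduct.map f₁ f₂
        (AlgebraTensorModule.distribBaseChange R R' A A ((1 : R') ⊗ₜ[R] z))) =
      LinearMap.mul' R R' (TensorProduct.map
        ((f₁.restrictScalars R) ∘ₗ (TensorProduct.mk R R' A 1))
        ((f₂.restrictScalars R) ∘ₗ (TensorProduct.mk R R' A 1)) z) := by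
  induction z using TensorProduct.induction_on with
  | zero => simp
  | tmul x y =>
    rw [AlgebraTensorModule.distribBaseChange_tmul, TensorProduct.map_tmul,
      LinearMap.mul'_apply, TensorProduct.map_tmul, LinearMap.mul'_apply]
    rfl
  | add x y hx hy =>
    rw [TensorProduct.tmul_add, map_add, map_add, map_add, hx, hy, map_add, map_add]

theorem res_mul (f₁ f₂ : WithConv ((R' ⊗[R] A) →ₗ[R'] R')) :
    res R R' A (f₁ * f₂) = res R R' A f₁ * res R R' A f₂ := by
  apply WithConv.ofConv_injective
  ext a
  rw [res_apply]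
  have h2 : (f₁ * f₂).ofConv ((1 : R') ⊗ₜ[R] a) =
      LinearMap.mul' R' R' (TensorProduct.map f₁.ofConv f₂.ofConv
        (Coalgebra.comul (R := R') ((1 : R') ⊗ₜ[R] a : R' ⊗[R] A))) := rfl
  rw [h2, Groth.Agent.Helper6.CoConn.comul_baseChange, res_mul_aux]
  rfl

theorem res_one : res R R' A 1 = 1 := by
  apply WithConv.ofConv_injective
  ext a
  rw [res_apply]
  have h2 : (1 : WithConv ((R' ⊗[R] A) →ₗ[R'] R')).ofConv ((1 : R') ⊗ₜ[R] a) =
      algebraMap R' R' (Coalgebra.counit (R := R') ((1 : R') ⊗ₜ[R] a : R' ⊗[R] A)) := rfl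
  have h3 : (1 : WithConv (A →ₗ[R] R')).ofConv a =
      algebraMap R R' (Coalgebra.counit (R := R) a) := rfl
  rw [h2, h3, TensorProduct.counit_tmul]
  simp [Algebra.algebraMap_eq_smul_one]

theorem res_pow (f : WithConv ((R' ⊗[R] A) →ₗ[R'] R')) (n : ℕ) :
    res R R' A (f ^ n) = (res R R' A f) ^ n := by
  induction n with
  | zero => rw [pow_zero, pow_zero, res_one]
  | succ n ih => rw [pow_succ, pow_succ, res_mul, ih]

end Res

section Points

variable (R : Type u) [CommRing R] (A : Type v) [CommRing A] [HopfAlgebra R A]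
  [Coalgebra.IsCocomm R A]
variable {ι : Type w} [Fintype ι] [DecidableEq ι]

/-- **Deligne's theorem**, free case, for points with values in any algebra -/
theorem pow_card_eq_one' (b : Module.Basis ι R A) (R' : Type w') [CommRing R'] [Algebra R R']
    (h : A →ₐ[R] R') : (WithConv.toConv h) ^ Fintype.card ι = 1 := by
  set g : (R' ⊗[R] A) →ₐ[R'] R' :=
    Algebra.TensorProduct.lift (Algebra.ofId R' R') h (fun _ _ => Commute.all _ _) with hg
  have h1 := pow_card_eq_one_lin R' (R' ⊗[R] A) (b.baseChange R') (WithConv.toConv g)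
  have h2 := congrArg (res R R' A) h1
  rw [res_pow, res_one] at h2
  have h3 : res R R' A (WithConv.toConv (WithConv.toConv g).ofConv.toLinearMap) =
      WithConv.toConv h.toLinearMap := by
    apply WithConv.ofConv_injective
    ext a
    rw [res_apply]
    show g ((1 : R') ⊗ₜ[R] a) = h a
    rw [hg, Algebra.TensorProduct.lift_tmul, map_one, one_mul]
  rw [h3] at h2
  apply WithConv.ofConv_injective
  apply AlgHom.toLinearMap_injective
  apply WithConv.toConv_injective
  rw [AlgHom.toLinearMap_convPow, AlgHom.toLinearMap_convOne]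
  exact h2

end Points

section Local

open Groth.Agent.Helper6.FinKill

/-- **Deligne's theorem**: a commutative finite locally free group scheme of constant rank `n`
is killed by `n` -/
theorem convPow_rank_eq_one (R : Type u) [CommRing R] (A : Type v) [CommRing A] [HopfAlgebra R A]
    [Coalgebra.IsCocomm R A] [Module.Finite R A] [Module.Projective R A] (n : ℕ)
    (hn : ∀ p : PrimeSpectrum R, Module.rankAtStalk A p = n) :
    (WithConv.toConv (AlgHom.id R A)) ^ n = 1 := by
  classical
  apply WithConv.ofConv_injective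
  apply AlgHom.toLinearMap_injective
  apply WithConv.toConv_injective
  rw [AlgHom.toLinearMap_convPow, AlgHom.toLinearMap_convOne, WithConv.ofConv_toConv]
  apply WithConv.ofConv_injective
  ext a
  apply Module.eq_of_localization_maximal
    (fun P _ => Localization.AtPrime P ⊗[R] A)
    (fun P _ => TensorProduct.mk R (Localization.AtPrime P) A 1)
  intro P hP
  haveI : Module.Free (Localization.AtPrime P) (Localization.AtPrime P ⊗[R] A) :=
    Module.free_of_flat_of_isLocalRing
  have hfr : Module.finrank (Localization.AtPrime P) (Localization.AtPrime P ⊗[R] A) = n := by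
    rw [← hn ⟨P, hP.isPrime⟩, Module.rankAtStalk_eq_finrank_tensorProduct]
  have h1 := pow_card_eq_one' (Localization.AtPrime P) (Localization.AtPrime P ⊗[R] A)
    (Module.Free.chooseBasis (Localization.AtPrime P) (Localization.AtPrime P ⊗[R] A))
    (Localization.AtPrime P ⊗[R] A) (AlgHom.id _ _)
  rw [← Module.finrank_eq_card_chooseBasisIndex, hfr] at h1
  have h2 := congrArg (fun F : WithConv ((Localization.AtPrime P ⊗[R] A) →ₐ[Localization.AtPrime P]
      (Localization.AtPrime P ⊗[R] A)) =>
    WithConv.toConv F.ofConv.toLinearMap) h1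
  simp only [AlgHom.toLinearMap_convPow, AlgHom.toLinearMap_convOne] at h2
  rw [← bc_id R (Localization.AtPrime P) A, ← bc_pow, ← bc_one R (Localization.AtPrime P) A] at h2
  have h3 := congrArg (fun H => H.ofConv ((1 : Localization.AtPrime P) ⊗ₜ[R] a)) h2
  exact h3

end Local

end Groth.Agent.Helper6.Deligne
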