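import Mathlib

set_option autoImplicit false
universe u v

/-!
# Algebras with a basis of restricted monomials are truncated polynomial algebras
-/

namespace Groth.Agent.Lib.Helper6.TruncPoly

open MvPolynomial

variable {R : Type u} [CommRing R] {A : Type v} [CommRing A] [Algebra R A] {n p : ℕ}

/-- restricted exponent as a finsupp -/
noncomputable def tf (β : Fin n → Fin p) : Fin n →₀ ℕ :=
  Finsupp.equivFunOnFinite.symm (fun i => (β i : ℕ))

theorem tf_apply (β : Fin n → Fin p) (i : Fin n) : tf β i = (β i : ℕ) := rfl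

theorem tf_injective : Function.Injective (tf (n := n) (p := p)) := by
  intro β γ h
  funext i
  have := DFunLike.congr_fun h i
  rw [tf_apply, tf_apply] at this
  exact Fin.ext this

theorem exists_tf_of_restr (γ : Fin n →₀ ℕ) (h : ∀ i, γ i < p) : ∃ β : Fin n → Fin p, tf β = γ :=
  ⟨fun i => ⟨γ i, h i⟩, by ext i; rfl⟩

theorem aeval_monomial_tf (x : Fin n → A) (β : Fin n → Fin p) (c : R) :
    aeval x (monomial (tf β) c) = c • ∏ i, x i ^ (β i : ℕ) := by
  rw [aeval_monomial, ← Algebra.smul_def, Finsupp.prod_fintype _ _ (fun i => by simp)]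
  rfl

theorem monomial_mem_of_le (γ : Fin n →₀ ℕ) (c : R) (i : Fin n) (hi : p ≤ γ i) :
    monomial γ c ∈ Ideal.span (Set.range fun i : Fin n => (X i : MvPolynomial (Fin n) R) ^ p) := by
  have h1 : γ = (γ - Finsupp.single i p) + Finsupp.single i p := by
    ext j
    by_cases hj : j = i
    · subst hj
      simp only [Finsupp.coe_add, Finsupp.coe_tsub, Pi.add_apply, Pi.sub_apply,
        Finsupp.single_eq_same]
      omega
    · simp [Finsupp.single_apply, Ne.symm hj]
  have h2 : monomial γ c = monomial (γ - Finsupp.single i p) c * (X i) ^ p := by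
    rw [X_pow_eq_monomial, monomial_mul, mul_one, ← h1]
  rw [h2]
  exact Ideal.mul_mem_left _ _ (Ideal.subset_span ⟨i, rfl⟩)

theorem ker_aeval (x : Fin n → A) (hx : ∀ i, x i ^ p = 0)
    (hli : LinearIndependent R (fun β : Fin n → Fin p => ∏ i, x i ^ (β i : ℕ))) :
    RingHom.ker (aeval x : MvPolynomial (Fin n) R →ₐ[R] A) =
      Ideal.span (Set.range fun i : Fin n => (X i : MvPolynomial (Fin n) R) ^ p) := by
  classical
  apply le_antisymm
  · intro F hF
    rw [RingHom.mem_ker] at hF
    set J := Ideal.span (Set.range fun i : Fin n => (X i : MvPolynomial (Fin n) R) ^ p) with hJ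
    have hJker : ∀ G ∈ J, aeval x G = 0 := by
      have : J ≤ RingHom.ker (aeval x : MvPolynomial (Fin n) R →ₐ[R] A) := by
        rw [hJ, Ideal.span_le]
        rintro _ ⟨i, rfl⟩
        show aeval x ((X i : MvPolynomial (Fin n) R) ^ p) = 0
        rw [map_pow, aeval_X, hx]
      exact fun G hG => this hG
    let G : MvPolynomial (Fin n) R := ∑ β : Fin n → Fin p, monomial (tf β) (coeff (tf β) F)
    have hcoeffG : ∀ β : Fin n → Fin p, coeff (tf β) G = coeff (tf β) F := by
      intro β
      simp only [G, coeff_sum, coeff_monomial]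
      rw [Finset.sum_eq_single β]
      · simp
      · intro γ _ hγ
        rw [if_neg (fun h => hγ (tf_injective h))]
      · intro h; exact absurd (Finset.mem_univ β) h
    have hcoeffG' : ∀ γ : Fin n →₀ ℕ, (∃ i, p ≤ γ i) → coeff γ G = 0 := by
      intro γ ⟨i, hi⟩
      simp only [G, coeff_sum, coeff_monomial]
      refine Finset.sum_eq_zero (fun β _ => ?_)
      rw [if_neg]
      intro h
      have := DFunLike.congr_fun h i
      rw [tf_apply] at this
      have := (β i).2
      omega
    -- `F - G ∈ J`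
    have hFG : F - G ∈ J := by
      rw [(F - G).as_sum]
      refine Ideal.sum_mem _ (fun γ hγ => ?_)
      by_cases hr : ∀ i, γ i < p
      · obtain ⟨β, rfl⟩ := exists_tf_of_restr γ hr
        rw [mem_support_iff, coeff_sub, hcoeffG, sub_self] at hγ
        exact absurd rfl hγ
      · push Not at hr
        obtain ⟨i, hi⟩ := hr
        exact monomial_mem_of_le γ _ i hi
    have hG0 : aeval x G = 0 := by
      have h1 := hJker _ hFG
      rw [map_sub, hF, zero_sub, neg_eq_zero] at h1
      exact h1
    have hG0' : ∑ β : Fin n → Fin p, coeff (tf β) F • ∏ i, x i ^ (β i : ℕ) = 0 := by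
      rw [← hG0]
      simp only [G, map_sum, aeval_monomial_tf]
    have hc : ∀ β : Fin n → Fin p, coeff (tf β) F = 0 :=
      (Fintype.linearIndependent_iff.1 hli) _ hG0'
    have hGz : G = 0 := by
      simp only [G]
      refine Finset.sum_eq_zero (fun β _ => ?_)
      rw [hc, monomial_zero]
    rw [hGz, sub_zero] at hFG
    exact hFG
  · rw [Ideal.span_le]
    rintro _ ⟨i, rfl⟩
    show aeval x ((X i : MvPolynomial (Fin n) R) ^ p) = 0
    rw [map_pow, aeval_X, hx]

theorem aeval_surjective (x : Fin n → A)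
    (hsp : ⊤ ≤ Submodule.span R (Set.range (fun β : Fin n → Fin p => ∏ i, x i ^ (β i : ℕ)))) :
    Function.Surjective (aeval x : MvPolynomial (Fin n) R →ₐ[R] A) := by
  intro a
  have ha : a ∈ Submodule.span R (Set.range (fun β : Fin n → Fin p => ∏ i, x i ^ (β i : ℕ))) :=
    hsp Submodule.mem_top
  have hle : Submodule.span R (Set.range (fun β : Fin n → Fin p => ∏ i, x i ^ (β i : ℕ))) ≤
      LinearMap.range (aeval x : MvPolynomial (Fin n) R →ₐ[R] A).toLinearMap := by
    rw [Submodule.span_le]
    rintro _ ⟨β, rfl⟩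
    refine ⟨monomial (tf β) 1, ?_⟩
    show aeval x (monomial (tf β) (1 : R)) = _
    rw [aeval_monomial_tf, one_smul]
  obtain ⟨F, hF⟩ := hle ha
  exact ⟨F, hF⟩

/-- An algebra with nilpotent generators whose restricted monomials form a basis is a truncated
polynomial algebra. -/
theorem nonempty_algEquiv (x : Fin n → A) (hx : ∀ i, x i ^ p = 0)
    (hli : LinearIndependent R (fun β : Fin n → Fin p => ∏ i, x i ^ (β i : ℕ)))
    (hsp : ⊤ ≤ Submodule.span R (Set.range (fun β : Fin n → Fin p => ∏ i, x i ^ (β i : ℕ)))) :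
    Nonempty (A ≃ₐ[R] (MvPolynomial (Fin n) R ⧸
      Ideal.span (Set.range fun i : Fin n => (X i : MvPolynomial (Fin n) R) ^ p))) := by
  have e1 := Ideal.quotientKerAlgEquivOfSurjective (aeval_surjective x hsp)
  have e2 : (MvPolynomial (Fin n) R ⧸ RingHom.ker (aeval x : MvPolynomial (Fin n) R →ₐ[R] A)) ≃ₐ[R]
      (MvPolynomial (Fin n) R ⧸
        Ideal.span (Set.range fun i : Fin n => (X i : MvPolynomial (Fin n) R) ^ p)) :=
    Ideal.quotientEquivAlgOfEq R (ker_aeval x hx hli)
  exact ⟨e1.symm.trans e2⟩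

end Groth.Agent.Lib.Helper6.TruncPoly
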