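import Mathlib
import Groth.Agent.Lib.Helper6.HtOneField
import Groth.Agent.Lib.Helper6.TruncPoly

set_option autoImplicit false
universe u v

/-!
# The Frobenius kernel of a finite connected group scheme is a truncated polynomial algebra
-/

namespace Groth.Agent.Lib.Helper6.FrobKer

open TensorProduct Coalgebra MvPolynomial

section general

variable {k : Type u} [Field k] (p : ℕ) [Fact p.Prime] [CharP k p]

theorem add_pow_eq_zero {T : Type v} [CommRing T] [Algebra k T] (x y : T) (hx : x ^ p = 0)
    (hy : y ^ p = 0) : (x + y) ^ p = 0 := by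
  rcases subsingleton_or_nontrivial T with h | h
  · exact Subsingleton.elim _ _
  · haveI : CharP T p := charP_of_injective_algebraMap (algebraMap k T).injective p
    rw [add_pow_char, hx, hy, add_zero]

variable (k) (A : Type v) [CommRing A] [HopfAlgebra k A]

/-- the ideal generated by `p`-th powers of elements of the augmentation ideal -/
def frobIdeal : Ideal A :=
  Ideal.span ((fun a : A => a ^ p) ''
    (RingHom.ker (Bialgebra.counitAlgHom k A).toRingHom : Set A))

variable {A}

theorem pow_mem_frobIdeal (a : A) (ha : Bialgebra.counitAlgHom k A a = 0) :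
    a ^ p ∈ frobIdeal k p A :=
  Ideal.subset_span ⟨a, ha, rfl⟩

theorem frobIdeal_le_ker : frobIdeal k p A ≤ RingHom.ker (Bialgebra.counitAlgHom k A).toRingHom := by
  unfold frobIdeal
  rw [Ideal.span_le]
  rintro _ ⟨a, ha, rfl⟩
  exact Ideal.pow_mem_of_mem _ ha p (Fact.out : p.Prime).pos

theorem frobIdeal_le_sq :
    frobIdeal k p A ≤ (RingHom.ker (Bialgebra.counitAlgHom k A).toRingHom) ^ 2 := by
  unfold frobIdeal
  rw [Ideal.span_le]
  rintro _ ⟨a, ha, rfl⟩
  have h2 : 2 ≤ p := (Fact.out : p.Prime).two_le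
  exact Ideal.pow_le_pow_right h2 (Ideal.pow_mem_pow ha p)

/-- `Δ a - a ⊗ 1 ∈ A ⊗ I`. -/
theorem comul_sub_mem (x : A) :
    CoalgebraStruct.comul (R := k) (A := A) x - x ⊗ₜ[k] (1 : A) ∈
      LinearMap.range (LinearMap.lTensor A
        ((RingHom.ker (Bialgebra.counitAlgHom k A).toRingHom).restrictScalars k).subtype) := by
  set J := RingHom.ker (Bialgebra.counitAlgHom k A).toRingHom with hJ
  have key : ∀ z : A ⊗[k] A, z - LinearMap.lTensor A
      ((Algebra.linearMap k A).comp (counit (R := k) (A := A))) z ∈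
      LinearMap.range (LinearMap.lTensor A (J.restrictScalars k).subtype) := by
    intro z
    induction z using TensorProduct.induction_on with
    | zero => simp
    | tmul u v =>
      have hv : v - algebraMap k A (counit (R := k) v) ∈ J := by
        show Bialgebra.counitAlgHom k A _ = 0
        rw [map_sub, AlgHom.commutes, Algebra.algebraMap_self, RingHom.id_apply]
        exact sub_self _
      refine ⟨u ⊗ₜ ⟨_, hv⟩, ?_⟩
      rw [LinearMap.lTensor_tmul, LinearMap.lTensor_tmul, ← TensorProduct.tmul_sub]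
      rfl
    | add a b ha hb =>
      rw [map_add, add_sub_add_comm]
      exact Submodule.add_mem _ ha hb
  have h1 := key (CoalgebraStruct.comul (R := k) (A := A) x)
  have h2 : LinearMap.lTensor A ((Algebra.linearMap k A).comp (counit (R := k) (A := A)))
      (CoalgebraStruct.comul (R := k) (A := A) x) = x ⊗ₜ[k] (1 : A) := by
    rw [LinearMap.lTensor_comp, LinearMap.comp_apply, Coalgebra.lTensor_counit_comul,
      LinearMap.lTensor_tmul, Algebra.linearMap_apply, map_one]
  rwa [h2] at h1

/-- the comultiplication followed by the projection to `(A/J) ⊗ (A/J)` -/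
noncomputable def Psi : A →ₐ[k] (A ⧸ frobIdeal k p A) ⊗[k] (A ⧸ frobIdeal k p A) :=
  (Algebra.TensorProduct.map (Ideal.Quotient.mkₐ k (frobIdeal k p A))
    (Ideal.Quotient.mkₐ k (frobIdeal k p A))).comp (Bialgebra.comulAlgHom k A)

theorem Psi_pow_eq_zero (a : A) (ha : Bialgebra.counitAlgHom k A a = 0) :
    (Psi k p a) ^ p = 0 := by
  set J := frobIdeal k p A with hJ
  set I := RingHom.ker (Bialgebra.counitAlgHom k A).toRingHom with hI
  let PiM := Algebra.TensorProduct.map (Ideal.Quotient.mkₐ k J) (Ideal.Quotient.mkₐ k J)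
  have key : ∀ w : A ⊗[k] (I.restrictScalars k),
      (PiM (LinearMap.lTensor A (I.restrictScalars k).subtype w)) ^ p = 0 := by
    intro w
    induction w using TensorProduct.induction_on with
    | zero => simp [(Fact.out : p.Prime).ne_zero]
    | tmul u v =>
      rw [LinearMap.lTensor_tmul, ← map_pow, Algebra.TensorProduct.tmul_pow]
      show _ ⊗ₜ[k] (Ideal.Quotient.mk J ((v : A) ^ p)) = 0
      rw [Ideal.Quotient.eq_zero_iff_mem.2 (pow_mem_frobIdeal k p (v : A) v.2),
        TensorProduct.tmul_zero]
    | add x y hx hy =>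
      rw [map_add, map_add]
      exact add_pow_eq_zero (k := k) p _ _ hx hy
  obtain ⟨w, hw⟩ := comul_sub_mem k a
  have h1 : Psi k p a = PiM (a ⊗ₜ[k] (1 : A)) +
      PiM (LinearMap.lTensor A (I.restrictScalars k).subtype w) := by
    rw [hw, ← map_add]
    show PiM (CoalgebraStruct.comul (R := k) a) = _
    congr 1
    abel
  rw [h1]
  apply add_pow_eq_zero (k := k) p
  · show (PiM (a ⊗ₜ[k] (1 : A))) ^ p = 0
    rw [← map_pow, Algebra.TensorProduct.tmul_pow, one_pow]
    show (Ideal.Quotient.mk J (a ^ p)) ⊗ₜ[k] _ = 0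
    rw [Ideal.Quotient.eq_zero_iff_mem.2 (pow_mem_frobIdeal k p a ha), TensorProduct.zero_tmul]
  · exact key w

theorem frobIdeal_le_ker_Psi : frobIdeal k p A ≤ RingHom.ker (Psi k p (A := A)).toRingHom := by
  conv_lhs => unfold frobIdeal
  rw [Ideal.span_le]
  rintro _ ⟨a, ha, rfl⟩
  show Psi k p (a ^ p) = 0
  rw [map_pow]
  exact Psi_pow_eq_zero k p a ha

instance isHopfIdeal_frobIdeal : (frobIdeal k p A).IsHopfIdeal k where
  counit_eq_zero := by
    intro x hx
    exact frobIdeal_le_ker k p hx
  map_mkQ_comul_eq_zero := by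
    intro x hx
    exact frobIdeal_le_ker_Psi k p hx
  antipode_mem := by
    intro x hx
    have hle : frobIdeal k p A ≤ (frobIdeal k p A).comap (HopfAlgebra.antipodeAlgHom k A) := by
      conv_lhs => unfold frobIdeal
      rw [Ideal.span_le]
      rintro _ ⟨a, ha, rfl⟩
      rw [SetLike.mem_coe, Ideal.mem_comap, map_pow]
      apply pow_mem_frobIdeal
      show Coalgebra.counit (R := k) (HopfAlgebraStruct.antipode k a) = 0
      rw [HopfAlgebra.counit_antipode]
      exact ha
    exact hle hx

end general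

section main

variable (k : Type u) [Field k] (p : ℕ) [Fact p.Prime] [CharP k p]
  (A : Type v) [CommRing A] [HopfAlgebra k A] [Module.Finite k A]

theorem counit_mk (a : A) : Bialgebra.counitAlgHom k (A ⧸ frobIdeal k p A)
    (Ideal.Quotient.mk (frobIdeal k p A) a) = Bialgebra.counitAlgHom k A a := rfl

theorem height_one (f : A ⧸ frobIdeal k p A)
    (hf : Bialgebra.counitAlgHom k (A ⧸ frobIdeal k p A) f = 0) : f ^ p = 0 := by
  obtain ⟨a, rfl⟩ := Ideal.Quotient.mk_surjective f
  rw [counit_mk] at hf
  rw [← map_pow]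
  exact Ideal.Quotient.eq_zero_iff_mem.2 (pow_mem_frobIdeal k p a hf)

/-- the cotangent spaces of `A` and of its Frobenius kernel have the same dimension -/
theorem finrank_cotangent :
    Module.finrank k
      (RingHom.ker (Bialgebra.counitAlgHom k (A ⧸ frobIdeal k p A))).Cotangent =
    Module.finrank k (RingHom.ker (Bialgebra.counitAlgHom k A).toRingHom).Cotangent := by
  set J := frobIdeal k p A with hJ
  set I := RingHom.ker (Bialgebra.counitAlgHom k A).toRingHom with hI
  set Ibar := RingHom.ker (Bialgebra.counitAlgHom k (A ⧸ J)) with hIbar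
  have hle : I ≤ Ibar.comap (Ideal.Quotient.mkₐ k J) := by
    intro a ha
    show Bialgebra.counitAlgHom k (A ⧸ J) (Ideal.Quotient.mk J a) = 0
    rw [counit_mk]
    exact ha
  let f : I.Cotangent →ₗ[k] Ibar.Cotangent := Ideal.mapCotangent I Ibar (Ideal.Quotient.mkₐ k J) hle
  have hIbar_map : Ibar = Ideal.map (Ideal.Quotient.mk J) I := by
    apply le_antisymm
    · intro y hy
      obtain ⟨a, rfl⟩ := Ideal.Quotient.mk_surjective y
      have : Bialgebra.counitAlgHom k (A ⧸ J) (Ideal.Quotient.mk J a) = 0 := hy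
      rw [counit_mk] at this
      exact Ideal.mem_map_of_mem _ this
    · rw [Ideal.map_le_iff_le_comap]
      exact hle
  have hbij : Function.Bijective f := by
    constructor
    · rw [injective_iff_map_eq_zero]
      intro z hz
      obtain ⟨⟨a, ha⟩, rfl⟩ := I.toCotangent_surjective z
      rw [Ideal.mapCotangent_toCotangent, Ideal.toCotangent_eq_zero] at hz
      rw [Ideal.toCotangent_eq_zero]
      have hz' : Ideal.Quotient.mk J a ∈ Ibar ^ 2 := hz
      rw [hIbar_map, ← Ideal.map_pow, Ideal.mem_map_iff_of_surjective _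
        Ideal.Quotient.mk_surjective] at hz'
      obtain ⟨b, hb, hab⟩ := hz'
      have h1 : a - b ∈ J := by
        rw [← Ideal.Quotient.eq_zero_iff_mem, map_sub, hab, sub_self]
      have h2 : a - b ∈ I ^ 2 := frobIdeal_le_sq k p h1
      have : a = (a - b) + b := by ring
      show a ∈ I ^ 2
      rw [this]
      exact Ideal.add_mem _ h2 hb
    · intro z
      obtain ⟨⟨y, hy⟩, rfl⟩ := Ibar.toCotangent_surjective z
      obtain ⟨a, rfl⟩ := Ideal.Quotient.mk_surjective y
      have ha : a ∈ I := by
        have : Bialgebra.counitAlgHom k (A ⧸ J) (Ideal.Quotient.mk J a) = 0 := hy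
        rw [counit_mk] at this
        exact this
      refine ⟨I.toCotangent ⟨a, ha⟩, ?_⟩
      rw [Ideal.mapCotangent_toCotangent]
      rfl
  exact (LinearEquiv.ofBijective f hbij).finrank_eq.symm

theorem nonempty_algEquiv (d : ℕ)
    (hd : Module.finrank k (RingHom.ker (Bialgebra.counitAlgHom k A).toRingHom).Cotangent = d) :
    Nonempty ((A ⧸ frobIdeal k p A) ≃ₐ[k]
      (MvPolynomial (Fin d) k ⧸ Ideal.span (Set.range fun i : Fin d =>
        (MvPolynomial.X i : MvPolynomial (Fin d) k) ^ p))) := by
  obtain ⟨x, hx, hli, hsp⟩ := HtOneField.exists_gens (k := k) p (A := A ⧸ frobIdeal k p A)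
    (height_one k p A)
  have hn := finrank_cotangent k p A
  rw [hd] at hn
  revert x
  rw [hn]
  intro x hx hli hsp
  exact TruncPoly.nonempty_algEquiv x (fun i => height_one k p A _ (hx i)) hli hsp

end main

end Groth.Agent.Lib.Helper6.FrobKer
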