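import Groth.Agent.Lib.Helper6.CartPts1
import Groth.Agent.Lib.Helper6.Deligne3
import Groth.Agent.Lib.Helper6.FrobImage
import Groth.Agent.Lib.Helper6.DualPrim
import Mathlib

/-!
# Points of the Cartier dual (helper6), part 2: the dual of an étale `p`-group in
characteristic `p` is infinitesimal
-/

set_option autoImplicit false

namespace Groth.Agent.Helper6.CartPts

open TensorProduct

universe u v w

theorem sub_pow_char_pow_alg (p : ℕ) [Fact p.Prime] (k : Type u) [Field k] [CharP k p]
    {T : Type v} [CommRing T] [Algebra k T] (x y : T) (n : ℕ) :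
    (x - y) ^ (p ^ n) = x ^ (p ^ n) - y ^ (p ^ n) := by
  induction n with
  | zero => simp
  | succ n ih =>
    rw [pow_succ, pow_mul, ih, Groth.Agent.Lib.Helper6.FrobImage.sub_pow_alg (k := k) p,
      ← pow_mul, ← pow_mul]

theorem Φ_injective (k : Type u) [Field k] (A : Type v) [CommRing A] [Bialgebra k A]
    [Module.Finite k A] (R : Type w) [CommRing R] [Algebra k R] :
    Function.Injective (Φ k A R) := by
  classical
  intro g h hgh
  apply Φ₀_injective k A R (Module.finBasis k A)
  exact congrArg WithConv.ofConv hgh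

theorem isLocalRing_dual (p : ℕ) [Fact p.Prime] (k : Type u) [Field k] [CharP k p]
    (A : Type u) [CommRing A] [HopfAlgebra k A] [Coalgebra.IsCocomm k A]
    [Module.Finite k A] [Algebra.Etale k A] (n : ℕ) (hA : Module.finrank k A = p ^ n) :
    IsLocalRing (CartDual.D k A) := by
  classical
  set εD := Bialgebra.counitAlgHom k (CartDual.D k A) with hεD
  set I := RingHom.ker εD with hI
  have hImax : I.IsMaximal := RingHom.ker_isMaximal_of_surjective εD
    (fun c => ⟨algebraMap k (CartDual.D k A) c, by rw [AlgHom.commutes]; rfl⟩)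
  have key : ∀ J : Ideal (CartDual.D k A), J.IsMaximal → J = I := by
    intro J hJ
    letI : Field (CartDual.D k A ⧸ J) := Ideal.Quotient.field J
    set χ : CartDual.D k A →ₐ[k] (CartDual.D k A ⧸ J) := Ideal.Quotient.mkₐ k J with hχ
    have h1 := Deligne.pow_card_eq_one' k (CartDual.D k A) (Module.finBasis k (CartDual.D k A))
      (CartDual.D k A ⧸ J) χ
    have hfr : Module.finrank k (CartDual.D k A) = p ^ n := by
      rw [Groth.Agent.Lib.Helper6.DualPrim.finrank_dual, hA]
    rw [Fintype.card_fin, hfr] at h1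
    have h2 := congrArg (fun F : WithConv (CartDual.D k A →ₐ[k] (CartDual.D k A ⧸ J)) =>
      WithConv.toConv F.ofConv.toLinearMap) h1
    simp only [AlgHom.toLinearMap_convPow, AlgHom.toLinearMap_convOne] at h2
    obtain ⟨g, hg⟩ := Φ₀_surjective k A (CartDual.D k A ⧸ J) (Module.finBasis k A) χ.toLinearMap
    have hg' : Φ k A (CartDual.D k A ⧸ J) g = WithConv.toConv χ.toLinearMap := by
      apply WithConv.ofConv_injective
      exact hg
    rw [← hg', ← map_pow, ← map_one (Φ k A (CartDual.D k A ⧸ J))] at h2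
    have h3 : g ^ (p ^ n) = 1 := Φ_injective k A (CartDual.D k A ⧸ J) h2
    have h4 : (g - 1) ^ (p ^ n) = 0 := by
      rw [sub_pow_char_pow_alg p k, h3, one_pow, sub_self]
    haveI : IsReduced ((CartDual.D k A ⧸ J) ⊗[k] A) :=
      Algebra.FormallyUnramified.isReduced_of_field (CartDual.D k A ⧸ J)
        ((CartDual.D k A ⧸ J) ⊗[k] A)
    have h5 : g = 1 := by
      have h6 : g - 1 = 0 := IsReduced.eq_zero _ ⟨_, h4⟩
      exact sub_eq_zero.1 h6
    have hle : I ≤ J := by
      intro x hx
      have h6 : χ x = Φ₀ k A (CartDual.D k A ⧸ J) g x := by rw [hg]; rfl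
      rw [h5, Algebra.TensorProduct.one_def, Φ₀_tmul] at h6
      have h7 : x.ofConv 1 = 0 := by
        have h8 : εD x = 0 := (RingHom.mem_ker).1 hx
        exact h8
      rw [h7, zero_smul] at h6
      exact Ideal.Quotient.eq_zero_iff_mem.1 h6
    exact (hImax.eq_of_le hJ.ne_top hle).symm
  exact IsLocalRing.of_unique_max_ideal ⟨I, hImax, fun J hJ => key J hJ⟩

end Groth.Agent.Helper6.CartPts
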