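import Mathlib

/-!
# Positive-definite symmetrisable Cartan data: existence of a "good leaf" and
solvability of the system `p i j * c i - p j i * c j = d i j - d j i`.

(helper6)  Pure integer combinatorics; used for S19008.
-/

set_option autoImplicit false

namespace Groth.Agent.Lib.Helper6.CartanLeaf

open Finset

variable {ι : Type*} [DecidableEq ι]

theorem sum_le_one (s : Finset ι) (f : ι → ℤ) {a : ι} (ha : a ∈ s)
    (hf : ∀ x ∈ s, x ≠ a → f x ≤ 0) : ∑ x ∈ s, f x ≤ f a := by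
  rw [← Finset.add_sum_erase s f ha]
  have h : ∑ x ∈ s.erase a, f x ≤ 0 :=
    Finset.sum_nonpos (fun x hx => hf x (Finset.mem_of_mem_erase hx) (Finset.ne_of_mem_erase hx))
  linarith

theorem sum_le_two (s : Finset ι) (f : ι → ℤ) {a b : ι} (ha : a ∈ s) (hb : b ∈ s) (hab : b ≠ a)
    (hf : ∀ x ∈ s, x ≠ a → x ≠ b → f x ≤ 0) : ∑ x ∈ s, f x ≤ f a + f b := by
  rw [← Finset.add_sum_erase s f ha]
  have h : ∑ x ∈ s.erase a, f x ≤ f b :=
    sum_le_one (s.erase a) f (Finset.mem_erase.mpr ⟨hab, hb⟩)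
      (fun x hx hxb => hf x (Finset.mem_of_mem_erase hx) (Finset.ne_of_mem_erase hx) hxb)
  linarith

theorem sum_le_three (s : Finset ι) (f : ι → ℤ) {a b c : ι} (ha : a ∈ s) (hb : b ∈ s)
    (hc : c ∈ s) (hab : b ≠ a) (hac : c ≠ a) (hbc : c ≠ b)
    (hf : ∀ x ∈ s, x ≠ a → x ≠ b → x ≠ c → f x ≤ 0) : ∑ x ∈ s, f x ≤ f a + f b + f c := by
  rw [← Finset.add_sum_erase s f ha]
  have h : ∑ x ∈ s.erase a, f x ≤ f b + f c :=
    sum_le_two (s.erase a) f (Finset.mem_erase.mpr ⟨hab, hb⟩) (Finset.mem_erase.mpr ⟨hac, hc⟩) hbc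
      (fun x hx hxb hxc => hf x (Finset.mem_of_mem_erase hx) (Finset.ne_of_mem_erase hx) hxb hxc)
  linarith

/-- positive-definiteness of the symmetrised matrix `p i j * ε j` on the finite set `s`. -/
def PD (p : ι → ι → ℤ) (ε : ι → ℤ) (s : Finset ι) : Prop :=
  ∀ t : ι → ℤ, (∑ j ∈ s, t j * ε j * ∑ i ∈ s, t i * p i j) ≤ 0 → ∀ i ∈ s, t i = 0

theorem PD.mono {p : ι → ι → ℤ} {ε : ι → ℤ} {s s' : Finset ι} (h : s' ⊆ s) (hs : PD p ε s) :
    PD p ε s' := by
  intro t ht i hi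
  obtain ⟨t', ht'⟩ : ∃ t' : ι → ℤ, t' = fun x => if x ∈ s' then t x else 0 := ⟨_, rfl⟩
  have hin : ∀ x ∈ s', t' x = t x := fun x hx => by rw [ht']; exact if_pos hx
  have hout : ∀ x, x ∉ s' → t' x = 0 := fun x hx => by rw [ht']; exact if_neg hx
  have inner : ∀ j, ∑ i ∈ s, t' i * p i j = ∑ i ∈ s', t i * p i j := by
    intro j
    have e1 : ∑ i ∈ s', t' i * p i j = ∑ i ∈ s, t' i * p i j :=
      Finset.sum_subset h (fun x _ hx => by rw [hout x hx, zero_mul])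
    rw [← e1]
    exact Finset.sum_congr rfl (fun x hx => by rw [hin x hx])
  have outer : ∑ j ∈ s, t' j * ε j * ∑ i ∈ s, t' i * p i j
      = ∑ j ∈ s', t j * ε j * ∑ i ∈ s', t i * p i j := by
    have e1 : ∑ j ∈ s', t' j * ε j * ∑ i ∈ s, t' i * p i j
        = ∑ j ∈ s, t' j * ε j * ∑ i ∈ s, t' i * p i j :=
      Finset.sum_subset h (fun x _ hx => by rw [hout x hx, zero_mul, zero_mul])
    rw [← e1]
    exact Finset.sum_congr rfl (fun x hx => by rw [hin x hx, inner x])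
  have h0 := hs t' (by rw [outer]; exact ht) i (h hi)
  rw [hin i hi] at h0
  exact h0

/-- basic hypotheses on the Cartan data. -/
structure Hyp (p : ι → ι → ℤ) (ε : ι → ℤ) : Prop where
  diag : ∀ i, p i i = 2
  pos : ∀ i, 0 < ε i
  sym : ∀ i j, p i j * ε j = p j i * ε i

theorem Hyp.zero_symm {p : ι → ι → ℤ} {ε : ι → ℤ} (H : Hyp p ε) {i j : ι} (h : p i j = 0) :
    p j i = 0 := by
  have h1 := H.sym i j
  rw [h, zero_mul] at h1
  have h2 : p j i * ε i = 0 := h1.symm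
  rcases mul_eq_zero.mp h2 with h3 | h3
  · exact h3
  · exact absurd h3 (ne_of_gt (H.pos i))

/-- a vertex which is isolated in `s`, or a leaf whose edge has `p i j = -1`. -/
def Good (p : ι → ι → ℤ) (s : Finset ι) (i : ι) : Prop :=
  (∀ j ∈ s, j ≠ i → p i j = 0) ∨
  (∃ j ∈ s, j ≠ i ∧ p i j = -1 ∧ ∀ k ∈ s, k ≠ i → k ≠ j → p i k = 0)

def Deg2 (p : ι → ι → ℤ) (s : Finset ι) (j : ι) : Prop :=
  ∃ i ∈ s, ∃ k ∈ s, i ≠ j ∧ k ≠ j ∧ i ≠ k ∧ p i j ≠ 0 ∧ p k j ≠ 0

open Classical in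
/-- the test vector: weight `2` on vertices with at least two neighbours, else `1`. -/
noncomputable def tw (p : ι → ι → ℤ) (s : Finset ι) (j : ι) : ℤ := if Deg2 p s j then 2 else 1

theorem tw_pos (p : ι → ι → ℤ) (s : Finset ι) (j : ι) : 0 < tw p s j := by
  unfold tw; split_ifs <;> norm_num

theorem tw_of_deg2 {p : ι → ι → ℤ} {s : Finset ι} {j : ι} (h : Deg2 p s j) : tw p s j = 2 := by
  unfold tw; exact if_pos h

theorem tw_of_not {p : ι → ι → ℤ} {s : Finset ι} {j : ι} (h : ¬ Deg2 p s j) : tw p s j = 1 := by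
  unfold tw; exact if_neg h

theorem nbr_contrib {p : ι → ι → ℤ} {ε : ι → ℤ} (H : Hyp p ε) {s : Finset ι}
    (hnp : ∀ i ∈ s, ∀ j ∈ s, i ≠ j → p i j ≤ 0)
    (hbad : ∀ i ∈ s, ¬ Good p s i) {i j : ι} (hi : i ∈ s) (hj : j ∈ s) (hij : i ≠ j)
    (hne : p i j ≠ 0) : tw p s i * p i j ≤ -2 := by
  have hle : p i j ≤ -1 := by
    have := hnp i hi j hj hij
    omega
  by_cases hdeg : Deg2 p s i
  · rw [tw_of_deg2 hdeg]; linarith
  · rw [tw_of_not hdeg, one_mul]
    by_contra hcon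
    have hpij : p i j = -1 := by omega
    apply hbad i hi
    right
    refine ⟨j, hj, hij.symm, hpij, ?_⟩
    intro k hk hki hkj
    by_contra hpik
    apply hdeg
    exact ⟨j, hj, k, hk, hij.symm, hki, hkj.symm, fun h0 => hne (H.zero_symm h0),
      fun h0 => hpik (H.zero_symm h0)⟩

theorem col_nonpos {p : ι → ι → ℤ} {ε : ι → ℤ} (H : Hyp p ε) {s : Finset ι}
    (hnp : ∀ i ∈ s, ∀ j ∈ s, i ≠ j → p i j ≤ 0)
    (hbad : ∀ i ∈ s, ¬ Good p s i) {j : ι} (hj : j ∈ s) :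
    ∑ i ∈ s, tw p s i * p i j ≤ 0 := by
  have hother : ∀ x ∈ s, x ≠ j → tw p s x * p x j ≤ 0 := fun x hx hxj =>
    mul_nonpos_iff.mpr (Or.inl ⟨le_of_lt (tw_pos p s x), hnp x hx j hj hxj⟩)
  by_cases hdeg : Deg2 p s j
  · have hd2 := hdeg
    obtain ⟨i, hi, k, hk, hij, hkj, hik, hpi, hpk⟩ := hdeg
    have h1 := nbr_contrib H hnp hbad hi hj hij hpi
    have h2 := nbr_contrib H hnp hbad hk hj hkj hpk
    have h3 : tw p s j * p j j = 4 := by
      rw [tw_of_deg2 hd2, H.diag]; norm_num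
    have h4 : ∑ x ∈ s, tw p s x * p x j
        ≤ tw p s j * p j j + tw p s i * p i j + tw p s k * p k j :=
      sum_le_three s (fun x => tw p s x * p x j) hj hi hk hij hkj hik.symm
        (fun x hx hxj _ _ => hother x hx hxj)
    linarith
  · have hnotiso : ¬ (∀ i ∈ s, i ≠ j → p j i = 0) := fun h => hbad j hj (Or.inl h)
    push Not at hnotiso
    obtain ⟨i, hi, hij, hpji⟩ := hnotiso
    have hpij : p i j ≠ 0 := fun h0 => hpji (H.zero_symm h0)
    have h1 := nbr_contrib H hnp hbad hi hj hij hpij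
    have h3 : tw p s j * p j j = 2 := by rw [tw_of_not hdeg, H.diag]; norm_num
    have h4 : ∑ x ∈ s, tw p s x * p x j ≤ tw p s j * p j j + tw p s i * p i j :=
      sum_le_two s (fun x => tw p s x * p x j) hj hi hij (fun x hx hxj _ => hother x hx hxj)
    linarith

theorem exists_good {p : ι → ι → ℤ} {ε : ι → ℤ} (H : Hyp p ε) {s : Finset ι}
    (hnp : ∀ i ∈ s, ∀ j ∈ s, i ≠ j → p i j ≤ 0) (hpd : PD p ε s) (hne : s.Nonempty) :
    ∃ i ∈ s, Good p s i := by
  by_contra hcon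
  have hbad : ∀ i ∈ s, ¬ Good p s i := fun i hi hg => hcon ⟨i, hi, hg⟩
  have hsum : ∑ j ∈ s, tw p s j * ε j * ∑ i ∈ s, tw p s i * p i j ≤ 0 :=
    Finset.sum_nonpos (fun j hj => mul_nonpos_iff.mpr (Or.inl
      ⟨le_of_lt (mul_pos (tw_pos p s j) (H.pos j)), col_nonpos H hnp hbad hj⟩))
  obtain ⟨i, hi⟩ := hne
  have h0 := hpd (tw p s) hsum i hi
  have h1 := tw_pos p s i
  omega

theorem solve_c {p : ι → ι → ℤ} {ε : ι → ℤ} (H : Hyp p ε) (d : ι → ι → ℤ) :
    ∀ (n : ℕ) (s : Finset ι), s.card = n → PD p ε s →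
      (∀ i ∈ s, ∀ j ∈ s, i ≠ j → p i j ≤ 0) →
      (∀ i ∈ s, ∀ j ∈ s, i ≠ j → p i j = 0 → d i j = d j i) →
      ∃ c : ι → ℤ, ∀ i ∈ s, ∀ j ∈ s, i ≠ j → p i j * c i - p j i * c j = d i j - d j i := by
  intro n
  induction n with
  | zero =>
    intro s hs _ _ _
    rw [Finset.card_eq_zero] at hs
    subst hs
    exact ⟨fun _ => 0, fun i hi => absurd hi (Finset.notMem_empty i)⟩
  | succ n ih =>
    intro s hs hpd hnp hd
    have hne : s.Nonempty := Finset.card_pos.mp (by omega)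
    obtain ⟨i, hi, hgood⟩ := exists_good H hnp hpd hne
    have hcard : (s.erase i).card = n := by rw [Finset.card_erase_of_mem hi]; omega
    have hsub : s.erase i ⊆ s := Finset.erase_subset i s
    obtain ⟨c', hc'⟩ := ih (s.erase i) hcard (hpd.mono hsub)
      (fun a ha b hb => hnp a (hsub ha) b (hsub hb))
      (fun a ha b hb => hd a (hsub ha) b (hsub hb))
    have ext : ∀ v : ℤ, (∀ k ∈ s, k ≠ i → p i k * v - p k i * c' k = d i k - d k i) →
        ∃ c : ι → ℤ, ∀ a ∈ s, ∀ b ∈ s, a ≠ b → p a b * c a - p b a * c b = d a b - d b a := by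
      intro v hv
      refine ⟨Function.update c' i v, ?_⟩
      intro a ha b hb hab
      by_cases hai : a = i
      · have hbi : b ≠ i := fun h => hab (hai.trans h.symm)
        rw [hai, Function.update_self, Function.update_of_ne hbi]
        exact hv b hb hbi
      · by_cases hbi : b = i
        · rw [hbi, Function.update_self, Function.update_of_ne hai]
          have h5 := hv a ha hai
          linarith
        · rw [Function.update_of_ne hai, Function.update_of_ne hbi]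
          exact hc' a (Finset.mem_erase.mpr ⟨hai, ha⟩) b (Finset.mem_erase.mpr ⟨hbi, hb⟩) hab
    rcases hgood with hiso | ⟨j, hj, hji, hpij, hrest⟩
    · apply ext 0
      intro k hk hki
      have h1 := hiso k hk hki
      have h2 := H.zero_symm h1
      have h3 := hd i hi k hk (fun h => hki h.symm) h1
      rw [h1, h2, h3]; ring
    · apply ext (-(d i j - d j i) - p j i * c' j)
      intro k hk hki
      by_cases hkj : k = j
      · rw [hkj, hpij]; ring
      · have h1 := hrest k hk hki hkj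
        have h2 := H.zero_symm h1
        have h3 := hd i hi k hk (fun h => hki h.symm) h1
        rw [h1, h2, h3]; ring

theorem solve_C [Finite ι] {p : ι → ι → ℤ} {ε : ι → ℤ} (H : Hyp p ε) (s : Finset ι)
    (hpd : PD p ε s) (hnp : ∀ i ∈ s, ∀ j ∈ s, i ≠ j → p i j ≤ 0) (d : ι → ι → ℤ)
    (hd : ∀ i ∈ s, ∀ j ∈ s, i ≠ j → p i j = 0 → d i j = d j i) :
    ∃ C : ι → ι → ℤ, ∀ i ∈ s, ∀ j ∈ s, i ≠ j → C i j + C j i - p j i * C j j = d i j := by
  obtain ⟨c, hc⟩ := solve_c H d s.card s rfl hpd hnp hd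
  obtain ⟨n, ⟨φ⟩⟩ := Finite.exists_equiv_fin ι
  refine ⟨fun i j => if i = j then c i else if φ i < φ j then d i j + p j i * c j else 0, ?_⟩
  intro i hi j hj hij
  have hji : j ≠ i := fun h => hij h.symm
  have hφ : φ i ≠ φ j := fun h => hij (φ.injective h)
  dsimp only
  rw [if_neg hij, if_neg hji, if_pos (rfl : j = j)]
  rcases lt_or_gt_of_ne hφ with h | h
  · rw [if_pos h, if_neg (not_lt.mpr (le_of_lt h))]; ring
  · rw [if_neg (not_lt.mpr (le_of_lt h)), if_pos h]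
    have h5 := hc i hi j hj hij
    linarith

theorem quad_identity [Fintype ι] (p : ι → ι → ℤ) (ε : ι → ℤ) (S : Finset ι) (t : ι → ℤ)
    (h3 : ∀ i j, 2 * ∑ k, p i k * p j k = p i j * ε j) :
    2 * ∑ k, (∑ i ∈ S, t i * p i k) * (∑ j ∈ S, t j * p j k)
      = ∑ j ∈ S, t j * ε j * ∑ i ∈ S, t i * p i j := by
  have e1 : ∀ k, (∑ i ∈ S, t i * p i k) * (∑ j ∈ S, t j * p j k)
      = ∑ j ∈ S, ∑ i ∈ S, (t i * p i k) * (t j * p j k) := by
    intro k
    rw [Finset.sum_mul_sum]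
    exact Finset.sum_comm
  have e2 : ∑ k, (∑ i ∈ S, t i * p i k) * (∑ j ∈ S, t j * p j k)
      = ∑ j ∈ S, ∑ i ∈ S, ∑ k, (t i * p i k) * (t j * p j k) := by
    simp only [e1]
    rw [Finset.sum_comm]
    refine Finset.sum_congr rfl (fun j _ => ?_)
    exact Finset.sum_comm
  rw [e2, Finset.mul_sum]
  refine Finset.sum_congr rfl (fun j _ => ?_)
  have e3 : t j * ε j * ∑ i ∈ S, t i * p i j = ∑ i ∈ S, t j * ε j * (t i * p i j) :=
    Finset.mul_sum _ _ _
  rw [e3, Finset.mul_sum]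
  refine Finset.sum_congr rfl (fun i _ => ?_)
  have e4 : ∑ k, (t i * p i k) * (t j * p j k) = t i * t j * ∑ k, p i k * p j k := by
    rw [Finset.mul_sum]
    exact Finset.sum_congr rfl (fun k _ => by ring)
  rw [e4]
  have h5 := h3 i j
  linear_combination (t i * t j) * h5

theorem pd_of_forms [Fintype ι] (p : ι → ι → ℤ) (ε : ι → ℤ) (S : Finset ι)
    (h3 : ∀ i j, 2 * ∑ k, p i k * p j k = p i j * ε j)
    (h4 : ∀ t : ι → ℤ, (∀ k, ∑ i ∈ S, t i * p i k = 0) → ∀ i ∈ S, t i = 0) :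
    PD p ε S := by
  intro t ht
  have key := quad_identity p ε S t h3
  have hsq : ∑ k, (∑ i ∈ S, t i * p i k) * (∑ j ∈ S, t j * p j k) ≤ 0 := by linarith
  have hnn : ∀ k ∈ (Finset.univ : Finset ι),
      0 ≤ (∑ i ∈ S, t i * p i k) * (∑ j ∈ S, t j * p j k) :=
    fun k _ => mul_self_nonneg _
  have hz : ∑ k, (∑ i ∈ S, t i * p i k) * (∑ j ∈ S, t j * p j k) = 0 :=
    le_antisymm hsq (Finset.sum_nonneg hnn)
  have hall := (Finset.sum_eq_zero_iff_of_nonneg hnn).mp hz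
  apply h4 t
  intro k
  exact mul_self_eq_zero.mp (hall k (Finset.mem_univ k))

/-- Main combinatorial theorem. -/
theorem cartan_solve [Fintype ι] (p : ι → ι → ℤ) (ε : ι → ℤ) (S : Finset ι)
    (h1 : ∀ i, p i i = 2)
    (h2 : ∀ i ∈ S, ∀ j ∈ S, i ≠ j → p i j ≤ 0)
    (h3 : ∀ i j, 2 * ∑ k, p i k * p j k = p i j * ε j)
    (h4 : ∀ t : ι → ℤ, (∀ k, ∑ i ∈ S, t i * p i k = 0) → ∀ i ∈ S, t i = 0)
    (d : ι → ι → ℤ) (hd : ∀ i ∈ S, ∀ j ∈ S, i ≠ j → p i j = 0 → d i j = d j i) :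
    ∃ C : ι → ι → ℤ, ∀ i ∈ S, ∀ j ∈ S, i ≠ j → C i j + C j i - p j i * C j j = d i j := by
  have hεeq : ∀ j, ε j = ∑ k, p j k * p j k := by
    intro j
    have h5 := h3 j j
    rw [h1 j] at h5
    linarith
  have hpos : ∀ j, 0 < ε j := by
    intro j
    rw [hεeq j]
    have hle : p j j * p j j ≤ ∑ k, p j k * p j k :=
      Finset.single_le_sum (f := fun k => p j k * p j k) (fun k _ => mul_self_nonneg _)
        (Finset.mem_univ j)
    rw [h1 j] at hle
    linarith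
  have hsym : ∀ i j, p i j * ε j = p j i * ε i := by
    intro i j
    have e1 := h3 i j
    have e2 := h3 j i
    have e3 : ∑ k, p i k * p j k = ∑ k, p j k * p i k :=
      Finset.sum_congr rfl (fun k _ => mul_comm _ _)
    rw [e3] at e1
    linarith
  exact solve_C ⟨h1, hpos, hsym⟩ S (pd_of_forms p ε S h3 h4) h2 d hd

end Groth.Agent.Lib.Helper6.CartanLeaf
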