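import Mathlib
import Groth.Agent.Lib.Helper21.GQuot6

/-!
# Sections over the range of an affine chart, and a chart criterion for Helper21's `QProp` (helper6)
-/

set_option autoImplicit false

namespace Groth.Agent.Helper6.ChartSec

open AlgebraicGeometry CategoryTheory Limits
open Groth.Agent.Helper21.GQuot Groth.Agent.Helper21.GQuot3 Groth.Agent.Helper21.GQuot6

universe u

theorem isIso_appLE_top {X : Scheme.{u}} {R : CommRingCat.{u}} (j : Spec R ⟶ X)
    [IsOpenImmersion j] (W : X.Opens) (hW : j.opensRange = W)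
    (e : (⊤ : (Spec R).Opens) ≤ j ⁻¹ᵁ W) : IsIso (j.appLE W ⊤ e) := by
  subst hW
  have h2 : IsIso (j.appLE (j ''ᵁ ⊤) ⊤ (j.preimage_image_eq ⊤).ge) := by
    rw [← Scheme.Hom.appIso_hom']; infer_instance
  exact (Scheme.Hom.appLE_congr j _ j.image_top_eq_opensRange rfl (fun f => IsIso f)).mp h2

theorem top_le_preimage {X : Scheme.{u}} {R : CommRingCat.{u}} (j : Spec R ⟶ X)
    [IsOpenImmersion j] (W : X.Opens) (hW : j.opensRange = W) :
    (⊤ : (Spec R).Opens) ≤ j ⁻¹ᵁ W := by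
  subst hW
  intro x _
  exact Set.mem_range_self x

/-- `Γ(X, W) ⟶ R` for a chart `j : Spec R ⟶ X` with range `W`. -/
noncomputable def secMap {X : Scheme.{u}} {R : CommRingCat.{u}} (j : Spec R ⟶ X)
    [IsOpenImmersion j] (W : X.Opens) (hW : j.opensRange = W) : Γ(X, W) ⟶ R :=
  j.appLE W ⊤ (top_le_preimage j W hW) ≫ (Scheme.ΓSpecIso R).hom

theorem isIso_secMap {X : Scheme.{u}} {R : CommRingCat.{u}} (j : Spec R ⟶ X)
    [IsOpenImmersion j] (W : X.Opens) (hW : j.opensRange = W) : IsIso (secMap j W hW) := by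
  haveI := isIso_appLE_top j W hW (top_le_preimage j W hW)
  unfold secMap
  infer_instance

theorem appLE_top_top {R S : CommRingCat.{u}} (θ : R ⟶ S)
    (e : (⊤ : (Spec S).Opens) ≤ (Spec.map θ) ⁻¹ᵁ ⊤) :
    (Spec.map θ).appLE ⊤ ⊤ e = (Spec.map θ).appTop :=
  Scheme.Hom.appLE_eq_app (Spec.map θ) (U := ⊤)

theorem secMap_square {X Y : Scheme.{u}} {RX RY : CommRingCat.{u}} (f : X ⟶ Y)
    (jX : Spec RX ⟶ X) [IsOpenImmersion jX] (jY : Spec RY ⟶ Y) [IsOpenImmersion jY]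
    (θ : RY ⟶ RX) (sq : jX ≫ f = Spec.map θ ≫ jY)
    (U : Y.Opens) (hY : jY.opensRange = U) (V : X.Opens) (hX : jX.opensRange = V)
    (e : V ≤ f ⁻¹ᵁ U) :
    f.appLE U V e ≫ secMap jX V hX = secMap jY U hY ≫ θ := by
  have eY : (⊤ : (Spec RY).Opens) ≤ jY ⁻¹ᵁ U := top_le_preimage jY U hY
  have eX : (⊤ : (Spec RX).Opens) ≤ jX ⁻¹ᵁ V := top_le_preimage jX V hX
  have eθ : (⊤ : (Spec RX).Opens) ≤ (Spec.map θ) ⁻¹ᵁ ⊤ := fun _ _ => trivial
  have h1 : f.appLE U V e ≫ jX.appLE V ⊤ eX =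
      jY.appLE U ⊤ eY ≫ (Spec.map θ).appLE ⊤ ⊤ eθ := by
    rw [Scheme.Hom.appLE_comp_appLE, Scheme.Hom.appLE_comp_appLE]
    exact appLE_congr_hom sq U ⊤ _
  rw [secMap, secMap, ← Category.assoc, h1, appLE_top_top, Category.assoc, Category.assoc,
    Scheme.ΓSpecIso_naturality]

/-- Chart criterion for the quotient property over an open `U` whose preimage and itself are
ranges of affine charts. The action is given through `(ρ g).inv`. -/
theorem qprop_of_chart {X Y : Scheme.{u}} {G : Type u} [Group G] (ρ : G →* Aut X) (p : X ⟶ Y)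
    (hinv : ∀ g : G, (ρ g).hom ≫ p = p) (U : Y.Opens)
    {RX RY : CommRingCat.{u}} (jX : Spec RX ⟶ X) [IsOpenImmersion jX]
    (jY : Spec RY ⟶ Y) [IsOpenImmersion jY]
    (hY : jY.opensRange = U) (hX : jX.opensRange = p ⁻¹ᵁ U)
    (θ : RY ⟶ RX) (sq : jX ≫ p = Spec.map θ ≫ jY)
    (τ : G → (RX ⟶ RX)) (hτ : ∀ g, jX ≫ (ρ g).inv = Spec.map (τ g) ≫ jX)
    (hinj : Function.Injective θ.hom)
    (hfix : ∀ a : RX, (∀ g, (τ g).hom a = a) → a ∈ Set.range θ.hom) :
    QProp ρ p hinv U := by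
  have hsq := secMap_square p jX jY θ sq U hY (p ⁻¹ᵁ U) hX le_rfl
  rw [Scheme.Hom.appLE_eq_app] at hsq
  haveI := isIso_secMap jX (p ⁻¹ᵁ U) hX
  haveI := isIso_secMap jY U hY
  have hbX : Function.Bijective (secMap jX (p ⁻¹ᵁ U) hX).hom :=
    ConcreteCategory.bijective_of_isIso (C := CommRingCat) _
  have hbY : Function.Bijective (secMap jY U hY).hom :=
    ConcreteCategory.bijective_of_isIso (C := CommRingCat) _
  have hsq' : ∀ t, (secMap jX _ hX).hom ((p.app U).hom t) = θ.hom ((secMap jY U hY).hom t) :=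
    fun t => congrArg (fun m => m.hom t) hsq
  constructor
  · intro t t' h
    apply hbY.1
    apply hinj
    rw [← hsq', ← hsq', h]
  · intro s hs
    have hact : ∀ g, (τ g).hom ((secMap jX _ hX).hom s) = (secMap jX _ hX).hom s := by
      intro g
      have hg : (ρ g).inv = (ρ g⁻¹).hom := by rw [map_inv]; rfl
      have sq' : jX ≫ (ρ g⁻¹).hom = Spec.map (τ g) ≫ jX := by rw [← hg]; exact hτ g
      have h1 := secMap_square (ρ g⁻¹).hom jX jX (τ g) sq' (p ⁻¹ᵁ U) hX (p ⁻¹ᵁ U) hX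
        (SGA1.preimage_le_of_inv ρ p hinv g⁻¹ U)
      have h2 : (secMap jX _ hX).hom (σ ρ p hinv U g⁻¹ s) =
          (τ g).hom ((secMap jX _ hX).hom s) := congrArg (fun m => m.hom s) h1
      rw [← h2, hs g⁻¹]
    obtain ⟨b, hb⟩ := hfix _ hact
    obtain ⟨t, ht⟩ := hbY.2 b
    refine ⟨t, hbX.1 ?_⟩
    rw [hsq', ht, hb]

end Groth.Agent.Helper6.ChartSec
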