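import Groth.Agent.Lib.Helper6.CoConn
import Mathlib

/-!
# Convolution powers on coconnected elements are polynomial in the exponent (helper6)
-/

set_option autoImplicit false

namespace Groth.Agent.Helper6.CoConn

open TensorProduct

universe u v w

section Pow

variable {R : Type u} [CommRing R] {A : Type v} [Ring A] [Bialgebra R A]
variable {B : Type w} [Ring B] [Algebra R B]

theorem sub_one_apply_one (g : WithConv (A →ₗ[R] B)) (hg : g.ofConv 1 = 1) :
    (g - 1).ofConv 1 = 0 := by
  rw [WithConv.ofConv_sub, LinearMap.sub_apply, hg]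
  have : (1 : WithConv (A →ₗ[R] B)).ofConv (1 : A) =
      algebraMap R B (Coalgebra.counit (R := R) (1 : A)) := rfl
  rw [this, Bialgebra.counit_one, map_one, sub_self]

theorem pow_apply_eq_sum (g : WithConv (A →ₗ[R] B)) (hg : g.ofConv 1 = 1) {n : ℕ} {a : A}
    (ha : D R A n a = 0) (m : ℕ) :
    (g ^ m).ofConv a = ∑ j ∈ Finset.range (n + 1), (m.choose j) • ((g - 1) ^ j).ofConv a := by
  set N : WithConv (A →ₗ[R] B) := g - 1 with hN
  have hN1 : N.ofConv 1 = 0 := sub_one_apply_one g hg
  have hgN : g = N + 1 := by rw [hN]; abel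
  have h1 : g ^ m = ∑ j ∈ Finset.range (m + 1), (m.choose j) • N ^ j := by
    rw [hgN, (Commute.one_right N).add_pow]
    apply Finset.sum_congr rfl
    intro j _
    rw [one_pow, mul_one, nsmul_eq_mul, (Nat.cast_commute _ _).eq]
  have h2 : (g ^ m).ofConv a = ∑ j ∈ Finset.range (m + 1), (m.choose j) • (N ^ j).ofConv a := by
    rw [h1, WithConv.ofConv_sum, LinearMap.sum_apply]
    apply Finset.sum_congr rfl
    intro j _
    rw [WithConv.ofConv_smul, LinearMap.smul_apply]
  rw [h2]
  have hzero : ∀ j, (j ∉ Finset.range (m + 1) ∨ j ∉ Finset.range (n + 1)) →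
      (m.choose j) • (N ^ j).ofConv a = 0 := by
    intro j hj
    rcases hj with hj | hj
    · rw [Finset.mem_range, not_lt] at hj
      rw [Nat.choose_eq_zero_of_lt (by omega), zero_smul]
    · rw [Finset.mem_range, not_lt] at hj
      rw [convPow_apply_eq_zero_of_le N hN1 (by omega) ha, smul_zero]
  have e1 : ∑ j ∈ Finset.range (m + 1), (m.choose j) • (N ^ j).ofConv a =
      ∑ j ∈ Finset.range (max m n + 1), (m.choose j) • (N ^ j).ofConv a := by
    apply Finset.sum_subset
    · intro j hj
      rw [Finset.mem_range] at hj ⊢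
      have := le_max_left m n
      omega
    · intro j _ hj
      exact hzero j (Or.inl hj)
  have e2 : ∑ j ∈ Finset.range (n + 1), (m.choose j) • (N ^ j).ofConv a =
      ∑ j ∈ Finset.range (max m n + 1), (m.choose j) • (N ^ j).ofConv a := by
    apply Finset.sum_subset
    · intro j hj
      rw [Finset.mem_range] at hj ⊢
      have := le_max_right m n
      omega
    · intro j _ hj
      exact hzero j (Or.inr hj)
  rw [e1, e2]

end Pow

section Poly

open Polynomial

/-- a "binomial polynomial" function with values in `{0,1}` in a domain of characteristic zero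
is constant -/
theorem const_of_binom_sum {k : Type u} {D : Type v} [Field k] [CharZero k] [CommRing D]
    [IsDomain D] [Algebra k D] (n : ℕ) (c : ℕ → D)
    (h : ∀ m : ℕ, (∑ j ∈ Finset.range (n + 1), (m.choose j) • c j) = 0 ∨
      (∑ j ∈ Finset.range (n + 1), (m.choose j) • c j) = 1) :
    (∑ j ∈ Finset.range (n + 1), (Nat.choose 0 j) • c j) =
      ∑ j ∈ Finset.range (n + 1), (Nat.choose 1 j) • c j := by
  haveI : CharZero D := charZero_of_injective_algebraMap (algebraMap k D).injective
  let b : ℕ → Polynomial D := fun j =>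
    Polynomial.map (algebraMap k D) (Polynomial.C ((j.factorial : k)⁻¹) * descPochhammer k j)
  have hb : ∀ j m : ℕ, (b j).eval (m : D) = (m.choose j : D) := by
    intro j m
    have h1 : (b j).eval (m : D) = algebraMap k D
        ((Polynomial.C ((j.factorial : k)⁻¹) * descPochhammer k j).eval (m : k)) := by
      rw [← map_natCast (algebraMap k D) m]
      exact Polynomial.eval_map_apply _ _
    rw [h1, Polynomial.eval_mul, Polynomial.eval_C, descPochhammer_eval_eq_descFactorial,
      Nat.descFactorial_eq_factorial_mul_choose, Nat.cast_mul, ← mul_assoc,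
      inv_mul_cancel₀ (Nat.cast_ne_zero.2 (Nat.factorial_ne_zero j)), one_mul, map_natCast]
  let P : Polynomial D := ∑ j ∈ Finset.range (n + 1), Polynomial.C (c j) * b j
  have hP : ∀ m : ℕ, P.eval (m : D) = ∑ j ∈ Finset.range (n + 1), (m.choose j) • c j := by
    intro m
    rw [Polynomial.eval_finset_sum]
    apply Finset.sum_congr rfl
    intro j _
    rw [Polynomial.eval_mul, Polynomial.eval_C, hb, nsmul_eq_mul, mul_comm]
  have hQ : P * (P - 1) = 0 := by
    apply Polynomial.eq_zero_of_infinite_isRoot
    apply Set.Infinite.mono (s := Set.range (fun m : ℕ => (m : D)))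
    · rintro _ ⟨m, rfl⟩
      show Polynomial.IsRoot _ _
      rw [Polynomial.IsRoot, Polynomial.eval_mul, Polynomial.eval_sub, Polynomial.eval_one, hP]
      rcases h m with h0 | h1
      · rw [h0, zero_mul]
      · rw [h1, sub_self, mul_zero]
    · exact Set.infinite_range_of_injective Nat.cast_injective
  have h01 : P.eval ((0 : ℕ) : D) = P.eval ((1 : ℕ) : D) := by
    rcases mul_eq_zero.1 hQ with h0 | h1
    · rw [h0, Polynomial.eval_zero, Polynomial.eval_zero]
    · rw [sub_eq_zero.1 h1, Polynomial.eval_one, Polynomial.eval_one]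
  rw [hP, hP] at h01
  exact h01

end Poly

end Groth.Agent.Helper6.CoConn
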