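import Mathlib
import Groth.Prelude.Def_Hyper2

set_option autoImplicit false
universe u v u' v'
open CategoryTheory CategoryTheory.Limits Opposite Simplicial AlgebraicTopology

namespace Groth.Agent.Helper6.CoHomotopy

variable {D : Type u} [Category.{v} D] {A : Type u'} [Category.{v'} A] [Preadditive A]
  (G : Dᵒᵖ ⥤ A) {K L : SimplicialObject D} {a b : L ⟶ K} (H : SimplicialObject.Homotopy a b)

/-- the cosimplicial object -/
abbrev coObj (K : SimplicialObject D) : CosimplicialObject A := K.rightOp ⋙ G

/-- the induced map of cosimplicial objects -/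
abbrev coMap (a : L ⟶ K) : coObj G K ⟶ coObj G L :=
  Functor.whiskerRight (NatTrans.rightOp a) G

/-- the chain homotopy in the opposite category -/
noncomputable abbrev opHomotopy :=
  (H.whiskerRight G.rightOp).toChainHomotopy

/-- components of the cochain homotopy -/
noncomputable def coHom (i j : ℕ) :
    ((alternatingCofaceMapComplex A).obj (coObj G K)).X i ⟶
      ((alternatingCofaceMapComplex A).obj (coObj G L)).X j :=
  ((opHomotopy G H).hom j i).unop

theorem coMap_f (a : L ⟶ K) (n : ℕ) :
    ((alternatingCofaceMapComplex A).map (coMap G a)).f n =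
      (((alternatingFaceMapComplex Aᵒᵖ).map
        (((SimplicialObject.whiskering D Aᵒᵖ).obj G.rightOp).map a)).f n).unop := rfl

theorem co_d (K : SimplicialObject D) (n : ℕ) :
    ((alternatingCofaceMapComplex A).obj (coObj G K)).d n (n + 1) =
      (((alternatingFaceMapComplex Aᵒᵖ).obj
        (((SimplicialObject.whiskering D Aᵒᵖ).obj G.rightOp).obj K)).d (n + 1) n).unop := by
  refine (CochainComplex.of_d _ (AlternatingCofaceMapComplex.objD (coObj G K)) n).trans ?_
  rw [alternatingFaceMapComplex_obj_d,
    AlternatingFaceMapComplex.objD, AlternatingCofaceMapComplex.objD, unop_sum]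
  refine Finset.sum_congr rfl (fun x _ => ?_)
  rw [unop_zsmul]
  rfl

/-- A simplicial homotopy induces a cochain homotopy on alternating coface map complexes of a
contravariant functor. -/
noncomputable def coHomotopy :
    Homotopy ((alternatingCofaceMapComplex A).map (coMap G a))
      ((alternatingCofaceMapComplex A).map (coMap G b)) where
  hom := coHom G H
  zero i j hij := by
    have h1 : ¬ (ComplexShape.down ℕ).Rel i j := by
      simpa using hij
    unfold coHom
    rw [(opHomotopy G H).zero j i h1]
    rfl
  comm n := by
    cases n with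
    | zero =>
      rw [dNext_eq (i' := 1) (w := by simp), prevD_eq_zero _ _ (by simp), add_zero]
      have h1 := (opHomotopy G H).comm 0
      rw [prevD_eq (j' := 1) (w := by simp), dNext_eq_zero _ _ (by simp), zero_add] at h1
      rw [coMap_f, coMap_f, h1, co_d]
      rfl
    | succ n =>
      rw [dNext_eq (i' := n + 2) (w := by simp), prevD_eq (j' := n) (w := by simp)]
      have h1 := (opHomotopy G H).comm (n + 1)
      rw [dNext_eq (i' := n) (w := by simp), prevD_eq (j' := n + 2) (w := by simp)] at h1
      rw [coMap_f, coMap_f, h1, co_d, co_d]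
      simp only [unop_add, unop_comp]
      rw [add_comm (_ ≫ _) (_ ≫ _)]
      rfl

end Groth.Agent.Helper6.CoHomotopy
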