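import Mathlib

set_option autoImplicit false
universe u v w w' w''

/-!
# Characteristic polynomial of multiplication on `R ⊗ A` for a finite free `k`-algebra `A`
-/

namespace Groth.Agent.Lib.Helper6.CoactChi

open TensorProduct Polynomial

variable {k : Type u} [CommRing k] {A : Type v} [CommRing A] [Algebra k A]
  {ι : Type w'} [Fintype ι] [DecidableEq ι] (e : Module.Basis ι k A)

/-- the matrix of multiplication by `x` on `R ⊗ A` in the basis `1 ⊗ e i` -/
noncomputable def mulMat (R : Type w) [CommRing R] [Algebra k R] (x : R ⊗[k] A) : Matrix ι ι R :=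
  Algebra.leftMulMatrix (Algebra.TensorProduct.basis R e) x

/-- the characteristic polynomial of multiplication by `x` on `R ⊗ A` -/
noncomputable def chi (R : Type w) [CommRing R] [Algebra k R] (x : R ⊗[k] A) : R[X] :=
  (mulMat e R x).charpoly

theorem mulMat_tmul (R : Type w) [CommRing R] [Algebra k R] (r : R) (a : A) (i j : ι) :
    mulMat e R (r ⊗ₜ a) i j = r * algebraMap k R (e.repr (a * e j) i) := by
  unfold mulMat
  rw [Algebra.leftMulMatrix_eq_repr_mul, Algebra.TensorProduct.basis_apply,
    Algebra.TensorProduct.tmul_mul_tmul, mul_one, Algebra.TensorProduct.basis_repr_tmul,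
    Finsupp.smul_apply, Finsupp.mapRange_apply, smul_eq_mul]

theorem mulMat_add (R : Type w) [CommRing R] [Algebra k R] (x y : R ⊗[k] A) :
    mulMat e R (x + y) = mulMat e R x + mulMat e R y := by
  unfold mulMat
  rw [map_add]

theorem mulMat_zero (R : Type w) [CommRing R] [Algebra k R] :
    mulMat e R (0 : R ⊗[k] A) = 0 := by
  unfold mulMat
  rw [map_zero]

theorem mulMat_map {R : Type w} [CommRing R] [Algebra k R] {S : Type w''} [CommRing S] [Algebra k S]
    (f : R →ₐ[k] S) (x : R ⊗[k] A) :
    mulMat e S (Algebra.TensorProduct.map f (AlgHom.id k A) x) = (mulMat e R x).map f := by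
  induction x using TensorProduct.induction_on with
  | zero =>
    rw [map_zero, mulMat_zero, mulMat_zero]
    ext i j
    simp
  | tmul r a =>
    ext i j
    rw [Algebra.TensorProduct.map_tmul, AlgHom.id_apply, mulMat_tmul, Matrix.map_apply, mulMat_tmul,
      map_mul f, AlgHom.commutes]
  | add x y hx hy =>
    rw [map_add, mulMat_add, mulMat_add, hx, hy]
    ext i j
    simp

theorem chi_map {R : Type w} [CommRing R] [Algebra k R] {S : Type w''} [CommRing S] [Algebra k S]
    (f : R →ₐ[k] S) (x : R ⊗[k] A) :
    chi e S (Algebra.TensorProduct.map f (AlgHom.id k A) x) = (chi e R x).map (f : R →+* S) := by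
  unfold chi
  rw [mulMat_map]
  exact Matrix.charpoly_map (mulMat e R x) (f : R →+* S)

theorem chi_monic (R : Type w) [CommRing R] [Algebra k R] (x : R ⊗[k] A) : (chi e R x).Monic :=
  Matrix.charpoly_monic _

theorem aeval_chi (R : Type w) [CommRing R] [Algebra k R] (x : R ⊗[k] A) :
    aeval x (chi e R x) = 0 := by
  have h1 := Matrix.aeval_self_charpoly (mulMat e R x)
  have h2 : aeval (mulMat e R x) (chi e R x) =
      Algebra.leftMulMatrix (Algebra.TensorProduct.basis R e) (aeval x (chi e R x)) := by
    unfold mulMat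
    rw [Polynomial.aeval_algHom_apply]
  have h3 : Algebra.leftMulMatrix (Algebra.TensorProduct.basis R e) (aeval x (chi e R x)) = 0 := by
    rw [← h2]
    exact h1
  apply Algebra.leftMulMatrix_injective (Algebra.TensorProduct.basis R e)
  rw [h3, map_zero]

theorem chi_algEquiv (R : Type w) [CommRing R] [Algebra k R]
    (Φ : (R ⊗[k] A) ≃ₐ[R] (R ⊗[k] A)) (x : R ⊗[k] A) :
    chi e R (Φ x) = chi e R x := by
  haveI : Module.Free R (R ⊗[k] A) := Module.Free.of_basis (Algebra.TensorProduct.basis R e)
  haveI : Module.Finite R (R ⊗[k] A) := Module.Finite.of_basis (Algebra.TensorProduct.basis R e)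
  unfold chi mulMat
  rw [Algebra.leftMulMatrix_apply, Algebra.leftMulMatrix_apply, LinearMap.charpoly_toMatrix,
    LinearMap.charpoly_toMatrix]
  have h : Algebra.lmul R (R ⊗[k] A) (Φ x) =
      Φ.toLinearEquiv.conj (Algebra.lmul R (R ⊗[k] A) x) := by
    ext y
    simp [LinearEquiv.conj_apply]
  rw [h, LinearEquiv.charpoly_conj]

end Groth.Agent.Lib.Helper6.CoactChi
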