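import Mathlib
import Groth.Agent.Lib.Helper6.HopfIntegral
import Groth.Agent.Lib.Helper6.HopfDescent

set_option autoImplicit false
universe u v w

/-!
# The translation automorphism of `T ⊗ A` attached to a `T`-point of a Hopf algebra `A`
-/

namespace Groth.Agent.Lib.Helper6.CoactPhi

open TensorProduct Coalgebra

variable {k : Type u} [CommRing k] {A : Type v} [CommRing A] [HopfAlgebra k A]
  {T : Type w} [CommRing T] [Algebra k T]

/-- `t ⊗ a ↦ (t ⊗ 1) · Σ j(a₁) ⊗ a₂`. -/
noncomputable def PhiHom (j : A →ₐ[k] T) : T ⊗[k] A →ₐ[T] T ⊗[k] A :=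
  Algebra.TensorProduct.lift (Algebra.TensorProduct.includeLeft)
    ((Algebra.TensorProduct.map j (AlgHom.id k A)).comp (Bialgebra.comulAlgHom k A))
    (fun _ _ => Commute.all _ _)

theorem PhiHom_tmul (j : A →ₐ[k] T) (t : T) (a : A) :
    PhiHom j (t ⊗ₜ a) = (t ⊗ₜ 1) *
      Algebra.TensorProduct.map j (AlgHom.id k A) (CoalgebraStruct.comul (R := k) a) := by
  simp [PhiHom]

theorem PhiHom_map_S (j : A →ₐ[k] T) (z : A ⊗[k] A) :
    PhiHom j (Algebra.TensorProduct.map (j.comp (HopfAlgebra.antipodeAlgHom k A)) (AlgHom.id k A) z) =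
      Algebra.TensorProduct.map j (AlgHom.id k A) (HopfIntegral.W z) := by
  induction z using TensorProduct.induction_on with
  | zero => simp
  | tmul u v =>
    rw [Algebra.TensorProduct.map_tmul, PhiHom_tmul, HopfIntegral.W_tmul, map_mul,
      Algebra.TensorProduct.map_tmul, map_one]
    rfl
  | add x y hx hy => simp only [map_add, hx, hy]

theorem PhiHom_S_map (j : A →ₐ[k] T) (z : A ⊗[k] A) :
    PhiHom (j.comp (HopfAlgebra.antipodeAlgHom k A)) (Algebra.TensorProduct.map j (AlgHom.id k A) z) =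
      Algebra.TensorProduct.map j (AlgHom.id k A) (HopfDescent.gamma0 k A z) := by
  induction z using TensorProduct.induction_on with
  | zero => simp
  | tmul u v =>
    rw [Algebra.TensorProduct.map_tmul, PhiHom_tmul, HopfDescent.gamma0_tmul, map_mul,
      Algebra.TensorProduct.map_tmul, map_one, AlgHom.id_apply]
    congr 1
    unfold HopfDescent.Scomul
    rw [AlgHom.comp_apply, Bialgebra.comulAlgHom_apply]
    generalize CoalgebraStruct.comul (R := k) v = y
    induction y using TensorProduct.induction_on with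
    | zero => simp
    | tmul a b => simp
    | add a b ha hb => simp only [map_add, ha, hb]
  | add x y hx hy => simp only [map_add, hx, hy]

theorem PhiHom_comp_S (j : A →ₐ[k] T) :
    (PhiHom j).comp (PhiHom (j.comp (HopfAlgebra.antipodeAlgHom k A))) = AlgHom.id T _ := by
  apply Algebra.TensorProduct.ext
  · ext
  · ext a
    show PhiHom j (PhiHom (j.comp (HopfAlgebra.antipodeAlgHom k A)) ((1 : T) ⊗ₜ a)) = (1 : T) ⊗ₜ a
    rw [PhiHom_tmul, ← Algebra.TensorProduct.one_def, one_mul, PhiHom_map_S, HopfIntegral.W_comul,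
      Algebra.TensorProduct.map_tmul, map_one, AlgHom.id_apply]

theorem PhiHom_S_comp (j : A →ₐ[k] T) :
    (PhiHom (j.comp (HopfAlgebra.antipodeAlgHom k A))).comp (PhiHom j) = AlgHom.id T _ := by
  apply Algebra.TensorProduct.ext
  · ext
  · ext a
    show PhiHom (j.comp (HopfAlgebra.antipodeAlgHom k A)) (PhiHom j ((1 : T) ⊗ₜ a)) = (1 : T) ⊗ₜ a
    rw [PhiHom_tmul, ← Algebra.TensorProduct.one_def, one_mul, PhiHom_S_map,
      HopfDescent.gamma0_comul, Algebra.TensorProduct.map_tmul, map_one, AlgHom.id_apply]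

/-- the translation automorphism -/
noncomputable def PhiEquiv (j : A →ₐ[k] T) : (T ⊗[k] A) ≃ₐ[T] (T ⊗[k] A) :=
  AlgEquiv.ofAlgHom (PhiHom j) (PhiHom (j.comp (HopfAlgebra.antipodeAlgHom k A)))
    (PhiHom_comp_S j) (PhiHom_S_comp j)

theorem PhiEquiv_apply (j : A →ₐ[k] T) (z : T ⊗[k] A) : PhiEquiv j z = PhiHom j z := rfl

end Groth.Agent.Lib.Helper6.CoactPhi
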