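import Mathlib
import Groth.Prelude.Def_GLin
import Groth.Agent.Lib.Helper6.CoactChi
import Groth.Agent.Lib.Helper6.CoactPhi

set_option autoImplicit false
universe u v w w'

/-!
# A comodule algebra over a finite free commutative Hopf algebra is integral over its invariants
-/

namespace Groth.Agent.Lib.Helper6.CoactInt

open TensorProduct Polynomial

variable {k : Type u} [CommRing k] {A : Type v} [CommRing A] [HopfAlgebra k A]
  {R : Type w} [CommRing R] [Algebra k R] [HopfRep.Comod k A R] [GLin.IsCoactAlg k A R]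

/-- `((r ⊗ 1) ⊗ 1) · Σ (1 ⊗ u) ⊗ v = (r ⊗ u) ⊗ v`. -/
theorem aux_assoc (r : R) (z : A ⊗[k] A) :
    (((r ⊗ₜ[k] (1 : A)) ⊗ₜ[k] (1 : A)) : (R ⊗[k] A) ⊗[k] A) *
      Algebra.TensorProduct.map (Algebra.TensorProduct.includeRight : A →ₐ[k] R ⊗[k] A)
        (AlgHom.id k A) z = (TensorProduct.assoc k R A A).symm (r ⊗ₜ z) := by
  induction z using TensorProduct.induction_on with
  | zero => simp
  | tmul u v =>
    rw [Algebra.TensorProduct.map_tmul, TensorProduct.assoc_symm_tmul,
      Algebra.TensorProduct.includeRight_apply, Algebra.TensorProduct.tmul_mul_tmul,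
      Algebra.TensorProduct.tmul_mul_tmul, mul_one, one_mul, AlgHom.id_apply, one_mul]
  | add x y hx hy => rw [map_add, mul_add, hx, hy, TensorProduct.tmul_add, map_add]

theorem PhiHom_map_includeLeft (b : R ⊗[k] A) :
    CoactPhi.PhiHom (Algebra.TensorProduct.includeRight : A →ₐ[k] R ⊗[k] A)
      (Algebra.TensorProduct.map (Algebra.TensorProduct.includeLeft : R →ₐ[k] R ⊗[k] A)
        (AlgHom.id k A) b) =
      (TensorProduct.assoc k R A A).symm
        (LinearMap.lTensor R (CoalgebraStruct.comul (R := k) (A := A)) b) := by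
  induction b using TensorProduct.induction_on with
  | zero => simp
  | tmul r a =>
    rw [Algebra.TensorProduct.map_tmul, AlgHom.id_apply, CoactPhi.PhiHom_tmul,
      Algebra.TensorProduct.includeLeft_apply, LinearMap.lTensor_tmul, aux_assoc]
  | add x y hx hy => simp only [map_add, hx, hy]

theorem map_coact_eq_rTensor (b : R ⊗[k] A) :
    Algebra.TensorProduct.map (GLin.coactAlgHom k A R) (AlgHom.id k A) b =
      LinearMap.rTensor A (HopfRep.Comod.coact (k := k) (A := A) (V := R)) b := by
  induction b using TensorProduct.induction_on with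
  | zero => simp
  | tmul r a => rfl
  | add x y hx hy => simp only [map_add, hx, hy]

/-- coassociativity in algebra form -/
theorem map_coact_coact (r : R) :
    Algebra.TensorProduct.map (GLin.coactAlgHom k A R) (AlgHom.id k A) (GLin.coactAlgHom k A R r) =
      CoactPhi.PhiEquiv (Algebra.TensorProduct.includeRight : A →ₐ[k] R ⊗[k] A)
        (Algebra.TensorProduct.map (Algebra.TensorProduct.includeLeft : R →ₐ[k] R ⊗[k] A)
          (AlgHom.id k A) (GLin.coactAlgHom k A R r)) := by
  rw [CoactPhi.PhiEquiv_apply, PhiHom_map_includeLeft, map_coact_eq_rTensor]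
  have h := LinearMap.congr_fun (HopfRep.Comod.coassoc (k := k) (A := A) (V := R)) r
  simp only [LinearMap.comp_apply, LinearEquiv.coe_coe] at h
  rw [GLin.coactAlgHom_apply, ← h, LinearEquiv.symm_apply_apply]

variable {ι : Type w'} [Fintype ι] [DecidableEq ι] (e : Module.Basis ι k A)

theorem chi_coeff_mem (r : R) (n : ℕ) :
    (CoactChi.chi e R (GLin.coactAlgHom k A R r)).coeff n ∈ GLin.invariants k A R := by
  set p := CoactChi.chi e R (GLin.coactAlgHom k A R r) with hp
  have h1 : p.map ((GLin.coactAlgHom k A R : R →ₐ[k] R ⊗[k] A) : R →+* R ⊗[k] A) =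
      p.map ((Algebra.TensorProduct.includeLeft : R →ₐ[k] R ⊗[k] A) : R →+* R ⊗[k] A) := by
    rw [hp, ← CoactChi.chi_map, ← CoactChi.chi_map, map_coact_coact, CoactChi.chi_algEquiv]
  have h2 := congrArg (fun q => q.coeff n) h1
  simp only [Polynomial.coeff_map] at h2
  rw [GLin.mem_invariants_iff]
  exact h2

/-- `r' ⊗ a ↦ ε(a) r'`. -/
noncomputable def epsR : R ⊗[k] A →ₐ[R] R :=
  Algebra.TensorProduct.lift (AlgHom.id R R)
    ((Algebra.ofId k R).comp (Bialgebra.counitAlgHom k A)) (fun _ _ => Commute.all _ _)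

theorem epsR_eq (z : R ⊗[k] A) :
    epsR (k := k) (A := A) (R := R) z = TensorProduct.rid k R
      (LinearMap.lTensor R (CoalgebraStruct.counit (R := k) (A := A)) z) := by
  induction z using TensorProduct.induction_on with
  | zero => simp
  | tmul r a =>
    simp [epsR, Algebra.ofId_apply, Algebra.smul_def, mul_comm]
  | add x y hx hy => simp only [map_add, hx, hy]

theorem epsR_coact (r : R) : epsR (k := k) (A := A) (GLin.coactAlgHom k A R r) = r := by
  rw [epsR_eq]
  have h := LinearMap.congr_fun (HopfRep.Comod.counit_comp (k := k) (A := A) (V := R)) r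
  simp only [LinearMap.comp_apply] at h
  rw [GLin.coactAlgHom_apply, h]
  simp

theorem aeval_chi_coact (r : R) : aeval r (CoactChi.chi e R (GLin.coactAlgHom k A R r)) = 0 := by
  have h := CoactChi.aeval_chi e R (GLin.coactAlgHom k A R r)
  have h2 := congrArg (epsR (k := k) (A := A) (R := R)) h
  rw [← Polynomial.aeval_algHom_apply, epsR_coact, map_zero] at h2
  exact h2

include e in
theorem isIntegral (r : R) : IsIntegral (GLin.invariants k A R) r := by
  set p := CoactChi.chi e R (GLin.coactAlgHom k A R r) with hp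
  have hl : p ∈ Polynomial.lifts (algebraMap (GLin.invariants k A R) R) := by
    rw [Polynomial.lifts_iff_coeff_lifts]
    intro n
    exact ⟨⟨p.coeff n, chi_coeff_mem e r n⟩, rfl⟩
  obtain ⟨q, hq, -, hqm⟩ := Polynomial.lifts_and_natDegree_eq_and_monic hl (CoactChi.chi_monic e R _)
  refine ⟨q, hqm, ?_⟩
  rw [← Polynomial.eval_map, hq]
  have := aeval_chi_coact e r
  rwa [Polynomial.aeval_def, Polynomial.eval₂_eq_eval_map, Algebra.algebraMap_self,
    Polynomial.map_id] at this

include e in
theorem finiteType_and_finite [IsNoetherianRing k] [Algebra.FiniteType k R] :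
    Algebra.FiniteType k (GLin.invariants k A R) ∧ Module.Finite (GLin.invariants k A R) R := by
  haveI : Algebra.IsIntegral (GLin.invariants k A R) R := ⟨fun r => isIntegral e r⟩
  haveI : Algebra.FiniteType (GLin.invariants k A R) R :=
    Algebra.FiniteType.of_restrictScalars_finiteType k (GLin.invariants k A R) R
  haveI hfin : Module.Finite (GLin.invariants k A R) R := Algebra.IsIntegral.finite
  refine ⟨⟨?_⟩, hfin⟩
  exact fg_of_fg_of_fg k (GLin.invariants k A R) R (Algebra.FiniteType.out) hfin.1
    Subtype.val_injective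

end Groth.Agent.Lib.Helper6.CoactInt
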