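import Mathlib

set_option autoImplicit false
universe u v w w'

/-!
# Generic families: simultaneously independent images under finitely many surjections
-/

namespace Groth.Agent.Lib.Helper6.GenericFam

theorem exists_family {k : Type u} [Field k] [Infinite k] {R : Type v} [AddCommGroup R] [Module k R]
    {X : Type w} [Finite X] {C : Type w'} [AddCommGroup C] [Module k C] [Module.Finite k C]
    (g : X → R →ₗ[k] C) (hg : ∀ χ, Function.Surjective (g χ)) :
    ∀ t : ℕ, t ≤ Module.finrank k C →
      ∃ r : Fin t → R, ∀ χ, LinearIndependent k (fun i => g χ (r i)) := by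
  intro t
  induction t with
  | zero =>
    intro _
    exact ⟨Fin.elim0, fun χ => linearIndependent_empty_type⟩
  | succ t ih =>
    intro ht
    obtain ⟨r, hr⟩ := ih (Nat.le_of_succ_le ht)
    let p : X → Submodule k R := fun χ =>
      Submodule.comap (g χ) (Submodule.span k (Set.range (fun i => g χ (r i))))
    have hp : ∀ χ, p χ ≠ ⊤ := by
      intro χ htop
      have hspan : Submodule.span k (Set.range (fun i => g χ (r i))) = ⊤ := by
        rw [eq_top_iff]
        intro c _
        obtain ⟨x, rfl⟩ := hg χ c
        have : x ∈ p χ := by rw [htop]; exact Submodule.mem_top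
        exact this
      have h1 := finrank_span_eq_card (hr χ)
      rw [hspan, finrank_top, Fintype.card_fin] at h1
      omega
    obtain ⟨x, hx⟩ := Submodule.exists_forall_notMem_of_forall_ne_top p hp
    refine ⟨Fin.snoc r x, fun χ => ?_⟩
    have h2 : (fun i => g χ ((Fin.snoc r x : Fin (t + 1) → R) i)) =
        (Fin.snoc (fun i => g χ (r i)) (g χ x) : Fin (t + 1) → C) := by
      funext i
      refine Fin.lastCases ?_ (fun j => ?_) i
      · simp
      · simp
    rw [h2, linearIndependent_finSnoc]
    exact ⟨hr χ, hx χ⟩

end Groth.Agent.Lib.Helper6.GenericFam
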