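import Mathlib
import Groth.Prelude.Def_GLin
import Groth.Agent.Lib.Helper6.CoactInt
import Groth.Agent.Lib.Helper6.GenericFam

set_option autoImplicit false
universe u v w w' w''

/-!
# A finite comodule algebra with free coaction is free over its invariants (Mumford)
-/

namespace Groth.Agent.Lib.Helper6.CoactFree

open TensorProduct

section repr

variable {k : Type u} [CommRing k] {C : Type v} [CommRing C] [Algebra k C]
  {ι : Type w'} [Fintype ι] [DecidableEq ι] (e : Module.Basis ι k C)

theorem repr_map {R : Type w} [CommRing R] [Algebra k R] {S : Type w''} [CommRing S] [Algebra k S]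
    (f : R →ₐ[k] S) (y : R ⊗[k] C) (j : ι) :
    (Algebra.TensorProduct.basis S e).repr (Algebra.TensorProduct.map f (AlgHom.id k C) y) j =
      f ((Algebra.TensorProduct.basis R e).repr y j) := by
  induction y using TensorProduct.induction_on with
  | zero => simp
  | tmul r c =>
    rw [Algebra.TensorProduct.map_tmul, AlgHom.id_apply, Algebra.TensorProduct.basis_repr_tmul,
      Algebra.TensorProduct.basis_repr_tmul, Finsupp.smul_apply, Finsupp.smul_apply,
      Finsupp.mapRange_apply, Finsupp.mapRange_apply, smul_eq_mul, smul_eq_mul, map_mul f,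
      AlgHom.commutes]
  | add x y hx hy =>
    rw [map_add, map_add, Finsupp.add_apply, hx, hy, map_add, Finsupp.add_apply, map_add]

theorem det_map {R : Type w} [CommRing R] [Algebra k R] {S : Type w''} [CommRing S] [Algebra k S]
    (f : R →ₐ[k] S) (y : ι → R ⊗[k] C) :
    (Algebra.TensorProduct.basis S e).det
        (fun i => Algebra.TensorProduct.map f (AlgHom.id k C) (y i)) =
      f ((Algebra.TensorProduct.basis R e).det y) := by
  rw [Module.Basis.det_apply, Module.Basis.det_apply]
  have : (f : R →+* S) ((Algebra.TensorProduct.basis R e).toMatrix y).det =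
      ((f : R →+* S).mapMatrix ((Algebra.TensorProduct.basis R e).toMatrix y)).det :=
    RingHom.map_det _ _
  show _ = (f : R →+* S) _
  rw [this]
  congr 1
  ext i j
  rw [Module.Basis.toMatrix_apply, repr_map]
  rfl

theorem repr_lid (z : k ⊗[k] C) (j : ι) :
    (Algebra.TensorProduct.basis k e).repr z j = e.repr (TensorProduct.lid k C z) j := by
  induction z using TensorProduct.induction_on with
  | zero => simp
  | tmul c a =>
    rw [Algebra.TensorProduct.basis_repr_tmul, Finsupp.smul_apply, Finsupp.mapRange_apply,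
      TensorProduct.lid_tmul, map_smul, Finsupp.smul_apply]
    rfl
  | add x y hx hy => rw [map_add, map_add, map_add, Finsupp.add_apply, hx, hy, Finsupp.add_apply]

end repr

section unit

variable {k : Type u} [Field k] [IsAlgClosed k] {R : Type w} [CommRing R] [Algebra k R]
  [Module.Finite k R]

theorem isUnit_of_forall_algHom_ne_zero (D : R) (h : ∀ χ : R →ₐ[k] k, χ D ≠ 0) : IsUnit D := by
  by_contra hD
  obtain ⟨m, hm, hDm⟩ := exists_max_ideal_of_mem_nonunits hD
  let L := R ⧸ m
  letI : Field L := Ideal.Quotient.field m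
  haveI : Module.Finite k L := Module.Finite.of_surjective (Ideal.Quotient.mkₐ k m).toLinearMap
    Ideal.Quotient.mk_surjective
  have hbij : Function.Bijective (algebraMap k L) :=
    IsAlgClosed.algebraMap_bijective_of_isIntegral
  let eq : k ≃ₐ[k] L := AlgEquiv.ofBijective (Algebra.ofId k L) hbij
  let χ : R →ₐ[k] k := (eq.symm : L →ₐ[k] k).comp (Ideal.Quotient.mkₐ k m)
  apply h χ
  show eq.symm (Ideal.Quotient.mk m D) = 0
  rw [Ideal.Quotient.eq_zero_iff_mem.2 hDm, map_zero]

end unit

section main

variable {k : Type u} [Field k] [IsAlgClosed k] {C : Type v} [CommRing C] [HopfAlgebra k C]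
  [Module.Finite k C]
  {R : Type w} [CommRing R] [Algebra k R] [Module.Finite k R] [HopfRep.Comod k C R]
  [GLin.IsCoactAlg k C R]

/-- the orbit map of a rational point -/
noncomputable def orb (χ : R →ₐ[k] k) : R →ₗ[k] C :=
  (TensorProduct.lid k C).toLinearMap ∘ₗ
    (Algebra.TensorProduct.map χ (AlgHom.id k C)).toLinearMap ∘ₗ (GLin.coactAlgHom k C R).toLinearMap

theorem orb_apply (χ : R →ₐ[k] k) (r : R) :
    orb (C := C) χ r = TensorProduct.lid k C
      (Algebra.TensorProduct.map χ (AlgHom.id k C) (GLin.coactAlgHom k C R r)) := rfl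

theorem orb_surjective
    (hfree : Submodule.span R (Set.range (GLin.coactAlgHom k C R)) = ⊤) (χ : R →ₐ[k] k) :
    Function.Surjective (orb (C := C) χ) := by
  intro c
  have hc : ((1 : R) ⊗ₜ[k] c : R ⊗[k] C) ∈ Submodule.span R (Set.range (GLin.coactAlgHom k C R)) := by
    rw [hfree]; exact Submodule.mem_top
  have key : ∀ z ∈ Submodule.span R (Set.range (GLin.coactAlgHom k C R)),
      TensorProduct.lid k C (Algebra.TensorProduct.map χ (AlgHom.id k C) z) ∈
        LinearMap.range (orb (C := C) χ) := by
    intro z hz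
    induction hz using Submodule.span_induction with
    | mem z hz =>
      obtain ⟨r, rfl⟩ := hz
      exact ⟨r, rfl⟩
    | zero => simp
    | add x y _ _ hx hy =>
      rw [map_add, map_add]
      exact Submodule.add_mem _ hx hy
    | smul s x _ hx =>
      have h1 : s • x = ((s ⊗ₜ[k] (1 : C)) : R ⊗[k] C) * x := by
        rw [Algebra.smul_def]; rfl
      rw [h1, map_mul, Algebra.TensorProduct.map_tmul, map_one]
      have h2 : ((χ s) ⊗ₜ[k] (1 : C) : k ⊗[k] C) *
          (Algebra.TensorProduct.map χ (AlgHom.id k C)) x =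
          (χ s) • (Algebra.TensorProduct.map χ (AlgHom.id k C)) x := by
        rw [Algebra.smul_def]; rfl
      rw [h2, map_smul]
      exact Submodule.smul_mem _ _ hx
  obtain ⟨r, hr⟩ := key _ hc
  refine ⟨r, ?_⟩
  rw [hr, Algebra.TensorProduct.map_tmul, map_one, AlgHom.id_apply, TensorProduct.lid_tmul, one_smul]

variable {ι : Type w'} [Fintype ι] [DecidableEq ι] (e : Module.Basis ι k C)

theorem det_orb (χ : R →ₐ[k] k) (r : ι → R) :
    e.det (fun i => orb (C := C) χ (r i)) =
      χ ((Algebra.TensorProduct.basis R e).det (fun i => GLin.coactAlgHom k C R (r i))) := by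
  rw [← det_map e χ, Module.Basis.det_apply, Module.Basis.det_apply]
  congr 1
  ext i j
  rw [Module.Basis.toMatrix_apply, Module.Basis.toMatrix_apply, repr_lid]
  rfl

/-- Step 1: generic elements whose coactions form a basis. -/
theorem exists_basis_coact
    (hfree : Submodule.span R (Set.range (GLin.coactAlgHom k C R)) = ⊤) :
    ∃ r : Fin (Module.finrank k C) → R,
      IsUnit ((Algebra.TensorProduct.basis R (Module.finBasis k C)).det
        (fun i => GLin.coactAlgHom k C R (r i))) := by
  classical
  obtain ⟨r, hr⟩ := GenericFam.exists_family (k := k) (X := R →ₐ[k] k)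
    (fun χ => orb (C := C) χ) (fun χ => orb_surjective hfree χ) (Module.finrank k C) le_rfl
  refine ⟨r, ?_⟩
  apply isUnit_of_forall_algHom_ne_zero (k := k)
  intro χ
  rw [← det_orb]
  have hli := hr χ
  have hsp : Submodule.span k (Set.range (fun i => orb (C := C) χ (r i))) = ⊤ :=
    hli.span_eq_top_of_card_eq_finrank' (by rw [Fintype.card_fin])
  exact ((Module.Basis.is_basis_iff_det (Module.finBasis k C)).1 ⟨hli, hsp⟩).ne_zero

end main

section step2

variable {k : Type u} [CommRing k] {C : Type v} [CommRing C] [HopfAlgebra k C]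
  {R : Type w} [CommRing R] [Algebra k R] [HopfRep.Comod k C R] [GLin.IsCoactAlg k C R]

/-- first comparison map `ρ ⊗ id` -/
noncomputable def Fm : R ⊗[k] C →+* (R ⊗[k] C) ⊗[k] C :=
  ((Algebra.TensorProduct.map (GLin.coactAlgHom k C R) (AlgHom.id k C) :
    R ⊗[k] C →ₐ[k] (R ⊗[k] C) ⊗[k] C) : R ⊗[k] C →+* (R ⊗[k] C) ⊗[k] C)

/-- second comparison map: translation after `incl ⊗ id` -/
noncomputable def Gm : R ⊗[k] C →+* (R ⊗[k] C) ⊗[k] C :=
  ((CoactPhi.PhiEquiv (Algebra.TensorProduct.includeRight : C →ₐ[k] R ⊗[k] C) :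
      (R ⊗[k] C) ⊗[k] C →+* (R ⊗[k] C) ⊗[k] C)).comp
    ((Algebra.TensorProduct.map (Algebra.TensorProduct.includeLeft : R →ₐ[k] R ⊗[k] C)
      (AlgHom.id k C) : R ⊗[k] C →ₐ[k] (R ⊗[k] C) ⊗[k] C) : R ⊗[k] C →+* (R ⊗[k] C) ⊗[k] C)

theorem Fm_coact (x : R) :
    Fm (GLin.coactAlgHom k C R x) = Gm (GLin.coactAlgHom k C R x) :=
  CoactInt.map_coact_coact x

theorem Fm_tmul_one (s : R) :
    Fm (k := k) (C := C) (s ⊗ₜ[k] (1 : C)) = (GLin.coactAlgHom k C R s) ⊗ₜ[k] (1 : C) := by
  show Algebra.TensorProduct.map (GLin.coactAlgHom k C R) (AlgHom.id k C) _ = _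
  rw [Algebra.TensorProduct.map_tmul, map_one]

theorem Gm_tmul_one (s : R) :
    Gm (k := k) (C := C) (s ⊗ₜ[k] (1 : C)) = (s ⊗ₜ[k] (1 : C)) ⊗ₜ[k] (1 : C) := by
  rw [Gm, RingHom.comp_apply]
  show CoactPhi.PhiEquiv (Algebra.TensorProduct.includeRight : C →ₐ[k] R ⊗[k] C)
    (Algebra.TensorProduct.map (Algebra.TensorProduct.includeLeft : R →ₐ[k] R ⊗[k] C)
      (AlgHom.id k C) _) = _
  rw [Algebra.TensorProduct.map_tmul, map_one, CoactPhi.PhiEquiv_apply, CoactPhi.PhiHom_tmul,
    Bialgebra.comul_one, map_one, mul_one,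
    Algebra.TensorProduct.includeLeft_apply]

variable {ι : Type w'} [Fintype ι] [DecidableEq ι] (e : Module.Basis ι k C)

/-- Step 2: elements whose coactions form a basis of `R ⊗ C` form a basis of `R` over the
invariants. -/
theorem basis_of_isUnit_det (B : Subalgebra k R)
    (hB : ∀ x, x ∈ B ↔ GLin.coactAlgHom k C R x = x ⊗ₜ[k] (1 : C))
    (r : ι → R)
    (hr : IsUnit ((Algebra.TensorProduct.basis R e).det
      (fun i => GLin.coactAlgHom k C R (r i)))) :
    LinearIndependent B r ∧ ⊤ ≤ Submodule.span B (Set.range r) := by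
  classical
  set y : ι → R ⊗[k] C := fun i => GLin.coactAlgHom k C R (r i) with hy
  obtain ⟨hyli, hysp⟩ := (Module.Basis.is_basis_iff_det (Algebra.TensorProduct.basis R e)).2 hr
  set w : ι → (R ⊗[k] C) ⊗[k] C := fun i => Fm (y i) with hw
  have hwdet : IsUnit ((Algebra.TensorProduct.basis (R ⊗[k] C) e).det w) := by
    have h := det_map e (GLin.coactAlgHom k C R) y
    have hw' : w = fun i => Algebra.TensorProduct.map (GLin.coactAlgHom k C R) (AlgHom.id k C)
      (y i) := rfl
    rw [hw', h]
    exact hr.map _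
  obtain ⟨hwli, -⟩ := (Module.Basis.is_basis_iff_det _).2 hwdet
  -- multiplicative forms of the two independence statements
  have hyli' : ∀ g : ι → R, ∑ i, ((g i) ⊗ₜ[k] (1 : C) : R ⊗[k] C) * y i = 0 → ∀ i, g i = 0 := by
    intro g hg
    refine Fintype.linearIndependent_iff.1 hyli g ?_
    refine Eq.trans (Finset.sum_congr rfl fun i _ => ?_) hg
    exact Algebra.smul_def (g i) (y i)
  have hwli' : ∀ g : ι → R ⊗[k] C,
      ∑ i, ((g i) ⊗ₜ[k] (1 : C) : (R ⊗[k] C) ⊗[k] C) * w i = 0 → ∀ i, g i = 0 := by
    intro g hg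
    refine Fintype.linearIndependent_iff.1 hwli g ?_
    refine Eq.trans (Finset.sum_congr rfl fun i _ => ?_) hg
    exact Algebra.smul_def (g i) (w i)
  constructor
  · rw [Fintype.linearIndependent_iff]
    intro g hg i
    have h1 : ∑ i, (((g i : R)) ⊗ₜ[k] (1 : C) : R ⊗[k] C) * y i = 0 := by
      have h2 := congrArg (GLin.coactAlgHom k C R) hg
      rw [map_sum, map_zero] at h2
      rw [← h2]
      refine Finset.sum_congr rfl fun i _ => ?_
      show _ = GLin.coactAlgHom k C R ((g i : R) * r i)
      rw [map_mul, (hB _).1 (g i).2]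
    have h3 := hyli' (fun i => (g i : R)) h1 i
    exact Subtype.ext h3
  · intro x _
    let bY : Module.Basis ι R (R ⊗[k] C) := Module.Basis.mk hyli hysp.ge
    set c := bY.repr (GLin.coactAlgHom k C R x) with hc
    have hx : GLin.coactAlgHom k C R x = ∑ i, ((c i) ⊗ₜ[k] (1 : C) : R ⊗[k] C) * y i := by
      refine Eq.trans (bY.sum_repr (GLin.coactAlgHom k C R x)).symm ?_
      refine Finset.sum_congr rfl fun i _ => ?_
      rw [Module.Basis.mk_apply]
      exact Algebra.smul_def (c i) (y i)
    have hcB : ∀ i, c i ∈ B := by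
      have hF := congrArg (Fm (k := k) (C := C) (R := R)) hx
      have hG := congrArg (Gm (k := k) (C := C) (R := R)) hx
      rw [map_sum] at hF hG
      rw [Fm_coact, hG] at hF
      have h4 : ∑ i, ((GLin.coactAlgHom k C R (c i) - (c i) ⊗ₜ[k] (1 : C)) ⊗ₜ[k] (1 : C) :
          (R ⊗[k] C) ⊗[k] C) * w i = 0 := by
        simp only [TensorProduct.sub_tmul, sub_mul, Finset.sum_sub_distrib]
        rw [sub_eq_zero]
        have e1 : ∀ i, Fm (k := k) (C := C) (R := R) (((c i) ⊗ₜ[k] (1 : C) : R ⊗[k] C) * y i) =
            ((GLin.coactAlgHom k C R (c i)) ⊗ₜ[k] (1 : C) : (R ⊗[k] C) ⊗[k] C) * w i := by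
          intro i
          rw [map_mul, Fm_tmul_one]
        have e2 : ∀ i, Gm (k := k) (C := C) (R := R) (((c i) ⊗ₜ[k] (1 : C) : R ⊗[k] C) * y i) =
            ((((c i) ⊗ₜ[k] (1 : C) : R ⊗[k] C)) ⊗ₜ[k] (1 : C) : (R ⊗[k] C) ⊗[k] C) * w i := by
          intro i
          rw [map_mul, Gm_tmul_one, hw]
          show _ = _ * Fm (GLin.coactAlgHom k C R (r i))
          rw [Fm_coact]
        rw [Finset.sum_congr rfl fun i _ => (e1 i).symm,
          Finset.sum_congr rfl fun i _ => (e2 i).symm]
        exact hF.symm
      intro i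
      rw [hB]
      exact sub_eq_zero.1 (hwli' _ h4 i)
    have hxe : x = ∑ i, c i * r i := by
      have h5 := congrArg (CoactInt.epsR (k := k) (A := C) (R := R)) hx
      rw [CoactInt.epsR_coact, map_sum] at h5
      rw [h5]
      refine Finset.sum_congr rfl fun i _ => ?_
      rw [map_mul, CoactInt.epsR_coact]
      congr 1
      have h7 : ((c i) ⊗ₜ[k] (1 : C) : R ⊗[k] C) = algebraMap R (R ⊗[k] C) (c i) := rfl
      rw [h7, AlgHom.commutes]
      rfl
    rw [hxe]
    refine Submodule.sum_mem _ fun i _ => ?_
    have h6 : c i * r i = (⟨c i, hcB i⟩ : B) • r i := rfl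
    rw [h6]
    exact Submodule.smul_mem _ _ (Submodule.subset_span ⟨i, rfl⟩)

end step2

section combine

variable {k : Type u} [Field k] [IsAlgClosed k] {C : Type v} [CommRing C] [HopfAlgebra k C]
  [Module.Finite k C]
  {R : Type w} [CommRing R] [Nontrivial R] [Algebra k R] [Module.Finite k R] [HopfRep.Comod k C R]
  [GLin.IsCoactAlg k C R]

/-- **Mumford**: a finite comodule algebra over a finite commutative Hopf algebra over an
algebraically closed field, with free coaction, is free over its invariants of rank `dim C`. -/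
theorem free_and_finrank
    (hfree : Submodule.span R (Set.range (GLin.coactAlgHom k C R)) = ⊤)
    (B : Subalgebra k R)
    (hB : ∀ x, x ∈ B ↔ GLin.coactAlgHom k C R x = x ⊗ₜ[k] (1 : C)) :
    Module.Free B R ∧ Module.finrank B R = Module.finrank k C := by
  classical
  obtain ⟨r, hr⟩ := exists_basis_coact (k := k) (C := C) (R := R) hfree
  obtain ⟨hli, hsp⟩ := basis_of_isUnit_det (Module.finBasis k C) B hB r hr
  let b : Module.Basis (Fin (Module.finrank k C)) B R := Module.Basis.mk hli hsp
  haveI : Nontrivial B := by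
    refine ⟨⟨0, 1, fun h => ?_⟩⟩
    exact zero_ne_one (α := R) (congrArg Subtype.val h)
  refine ⟨Module.Free.of_basis b, ?_⟩
  rw [Module.finrank_eq_card_basis b, Fintype.card_fin]

end combine

section corestr

variable {k : Type u} [CommRing k] {A : Type v} [CommRing A] [HopfAlgebra k A]
  {C : Type w} [CommRing C] [HopfAlgebra k C] (f : A →ₐc[k] C)

theorem corestr_aux1 (t : A ⊗[k] A) (v : A) :
    TensorProduct.assoc k A C C ((LinearMap.lTensor A (f : A →ₗ[k] C) t) ⊗ₜ[k] f v) =
      TensorProduct.map LinearMap.id (TensorProduct.map (f : A →ₗ[k] C) (f : A →ₗ[k] C))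
        (TensorProduct.assoc k A A A (t ⊗ₜ[k] v)) := by
  induction t using TensorProduct.induction_on with
  | zero => simp
  | tmul p q => rfl
  | add x y hx hy => simp only [map_add, TensorProduct.add_tmul, hx, hy]

theorem corestr_aux2 (z : A ⊗[k] A) :
    TensorProduct.assoc k A C C
      (LinearMap.rTensor C ((LinearMap.lTensor A (f : A →ₗ[k] C)) ∘ₗ
        (CoalgebraStruct.comul (R := k) (A := A))) (LinearMap.lTensor A (f : A →ₗ[k] C) z)) =
      TensorProduct.map LinearMap.id (TensorProduct.map (f : A →ₗ[k] C) (f : A →ₗ[k] C))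
        (TensorProduct.assoc k A A A
          (LinearMap.rTensor A (CoalgebraStruct.comul (R := k) (A := A)) z)) := by
  induction z using TensorProduct.induction_on with
  | zero => simp
  | tmul u v =>
    rw [LinearMap.lTensor_tmul, LinearMap.rTensor_tmul, LinearMap.rTensor_tmul,
      LinearMap.comp_apply]
    exact corestr_aux1 f _ v
  | add x y hx hy => simp only [map_add, hx, hy]

theorem corestr_aux3 (z : A ⊗[k] A) :
    TensorProduct.map LinearMap.id (TensorProduct.map (f : A →ₗ[k] C) (f : A →ₗ[k] C))
      (LinearMap.lTensor A (CoalgebraStruct.comul (R := k) (A := A)) z) =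
    LinearMap.lTensor A (CoalgebraStruct.comul (R := k) (A := C))
      (LinearMap.lTensor A (f : A →ₗ[k] C) z) := by
  induction z using TensorProduct.induction_on with
  | zero => simp
  | tmul u v =>
    rw [LinearMap.lTensor_tmul, LinearMap.lTensor_tmul, LinearMap.lTensor_tmul,
      TensorProduct.map_tmul, LinearMap.id_apply]
    congr 1
    exact CoalgHomClass.map_comp_comul_apply f v
  | add x y hx hy => simp only [map_add, hx, hy]

/-- the coaction of `C` on `A` by translation through a bialgebra map `f : A → C` -/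
@[reducible] noncomputable def comodOfBialgHom : HopfRep.Comod k C A where
  coact := (LinearMap.lTensor A (f : A →ₗ[k] C)) ∘ₗ (CoalgebraStruct.comul (R := k) (A := A))
  coassoc := by
    ext a
    simp only [LinearMap.comp_apply, LinearEquiv.coe_coe]
    rw [corestr_aux2, Coalgebra.coassoc_apply, corestr_aux3]
  counit_comp := by
    ext a
    simp only [LinearMap.comp_apply]
    have h : ∀ z : A ⊗[k] A, LinearMap.lTensor A (CoalgebraStruct.counit (R := k) (A := C))
        (LinearMap.lTensor A (f : A →ₗ[k] C) z) =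
        LinearMap.lTensor A (CoalgebraStruct.counit (R := k) (A := A)) z := by
      intro z
      induction z using TensorProduct.induction_on with
      | zero => simp
      | tmul u v =>
        rw [LinearMap.lTensor_tmul, LinearMap.lTensor_tmul, LinearMap.lTensor_tmul]
        congr 1
        exact CoalgHomClass.counit_comp_apply f v
      | add x y hx hy => simp only [map_add, hx, hy]
    rw [h, Coalgebra.lTensor_counit_comul]
    rfl

theorem comodOfBialgHom_coact (a : A) :
    (comodOfBialgHom f).coact a =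
      Algebra.TensorProduct.map (AlgHom.id k A) (f : A →ₐ[k] C)
        (CoalgebraStruct.comul (R := k) a) := by
  show LinearMap.lTensor A (f : A →ₗ[k] C) (CoalgebraStruct.comul (R := k) a) = _
  generalize CoalgebraStruct.comul (R := k) a = z
  induction z using TensorProduct.induction_on with
  | zero => simp
  | tmul u v => rfl
  | add x y hx hy => simp only [map_add, hx, hy]

theorem isCoactAlg_comodOfBialgHom :
    @GLin.IsCoactAlg k _ C _ _ A _ _ (comodOfBialgHom f) := by
  letI := comodOfBialgHom f
  constructor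
  · show (comodOfBialgHom f).coact 1 = 1
    rw [comodOfBialgHom_coact, Bialgebra.comul_one, map_one]
  · intro x y
    show (comodOfBialgHom f).coact (x * y) = (comodOfBialgHom f).coact x * (comodOfBialgHom f).coact y
    rw [comodOfBialgHom_coact, comodOfBialgHom_coact, comodOfBialgHom_coact, Bialgebra.comul_mul,
      map_mul]

end corestr

section quotient

variable {k : Type u} [CommRing k] {A : Type v} [CommRing A] [HopfAlgebra k A]
  {C : Type w} [CommRing C] [HopfAlgebra k C] (f : A →ₐc[k] C)

/-- the coaction through a surjective bialgebra map is free: `(t, a) ↦ (t ⊗ 1) ρ(a)` is onto. -/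
theorem span_range_coact_eq_top (hf : Function.Surjective f) :
    Submodule.span A (Set.range (fun a : A =>
      Algebra.TensorProduct.map (AlgHom.id k A) (f : A →ₐ[k] C)
        (CoalgebraStruct.comul (R := k) a))) = ⊤ := by
  rw [eq_top_iff]
  intro x _
  have key : ∀ z : A ⊗[k] A,
      Algebra.TensorProduct.map (AlgHom.id k A) (f : A →ₐ[k] C)
        (CoactPhi.PhiHom (AlgHom.id k A) z) ∈
      Submodule.span A (Set.range (fun a : A =>
        Algebra.TensorProduct.map (AlgHom.id k A) (f : A →ₐ[k] C)
          (CoalgebraStruct.comul (R := k) a))) := by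
    intro z
    induction z using TensorProduct.induction_on with
    | zero => simp
    | tmul t a =>
      rw [CoactPhi.PhiHom_tmul, Algebra.TensorProduct.map_id, AlgHom.id_apply, map_mul,
        Algebra.TensorProduct.map_tmul, map_one, AlgHom.id_apply]
      have h1 : ((t ⊗ₜ[k] (1 : C)) : A ⊗[k] C) *
          Algebra.TensorProduct.map (AlgHom.id k A) (f : A →ₐ[k] C)
            (CoalgebraStruct.comul (R := k) a) =
          t • Algebra.TensorProduct.map (AlgHom.id k A) (f : A →ₐ[k] C)
            (CoalgebraStruct.comul (R := k) a) := (Algebra.smul_def t _).symm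
      rw [h1]
      exact Submodule.smul_mem _ _ (Submodule.subset_span ⟨a, rfl⟩)
    | add x y hx hy =>
      rw [map_add, map_add]
      exact Submodule.add_mem _ hx hy
  have hsurj : Function.Surjective
      (Algebra.TensorProduct.map (AlgHom.id k A) (f : A →ₐ[k] C)) :=
    Algebra.TensorProduct.map_surjective _ _ (fun a => ⟨a, rfl⟩) hf
  obtain ⟨x', rfl⟩ := hsurj x
  have := key ((CoactPhi.PhiEquiv (AlgHom.id k A)).symm x')
  rwa [← CoactPhi.PhiEquiv_apply, AlgEquiv.apply_symm_apply] at this

end quotient

section final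

variable {k : Type u} [Field k] [IsAlgClosed k] {A : Type v} [CommRing A] [HopfAlgebra k A]
  [Module.Finite k A] {C : Type w} [CommRing C] [HopfAlgebra k C] (f : A →ₐc[k] C)

/-- `A` is free of rank `dim C` over the invariants of translation by the subgroup `Spec C`. -/
theorem free_quotient (hf : Function.Surjective f) (B : Subalgebra k A)
    (hB : ∀ x, x ∈ B ↔ Algebra.TensorProduct.map (AlgHom.id k A) (f : A →ₐ[k] C)
        (CoalgebraStruct.comul (R := k) x) = x ⊗ₜ[k] (1 : C)) :
    Module.Free B A ∧ Module.finrank B A = Module.finrank k C := by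
  letI : HopfRep.Comod k C A := comodOfBialgHom f
  haveI : GLin.IsCoactAlg k C A := isCoactAlg_comodOfBialgHom f
  haveI : Module.Finite k C := Module.Finite.of_surjective (f : A →ₗ[k] C) hf
  haveI : Nontrivial A := by
    refine ⟨⟨0, 1, fun h => ?_⟩⟩
    have := congrArg (CoalgebraStruct.counit (R := k) (A := A)) h
    rw [map_zero, Bialgebra.counit_one] at this
    exact zero_ne_one this
  have hco : ∀ a : A, GLin.coactAlgHom k C A a =
      Algebra.TensorProduct.map (AlgHom.id k A) (f : A →ₐ[k] C)
        (CoalgebraStruct.comul (R := k) a) := fun a => comodOfBialgHom_coact f a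
  refine free_and_finrank (k := k) (C := C) (R := A) ?_ B ?_
  · have h := span_range_coact_eq_top f hf
    have h2 : (fun a : A => Algebra.TensorProduct.map (AlgHom.id k A) (f : A →ₐ[k] C)
        (CoalgebraStruct.comul (R := k) a)) = fun a => GLin.coactAlgHom k C A a := by
      funext a; exact (hco a).symm
    rw [h2] at h
    exact h
  · intro x
    rw [hco]
    exact hB x

end final

end Groth.Agent.Lib.Helper6.CoactFree
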