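import Mathlib
import Groth.Agent.Lib.Helper6.CoeffOnes

/-!
# Snapper (D): the top coefficient of `P` from the difference equation `ΔP = R`, `R|_{x_0 = 0} = Q`
-/

namespace Groth.Agent.Helper6.CoeffDiff

open MvPolynomial

theorem cast_cons {e : ℕ} (y : ℕ) (m : Fin e → ℕ) :
    (fun i => (((Fin.cons y m : Fin (e + 1) → ℕ) i : ℕ) : ℚ)) =
      (Fin.cons (y : ℚ) (fun i => (m i : ℚ)) : Fin (e + 1) → ℚ) := by
  funext i
  refine Fin.cases ?_ (fun j => ?_) i
  · simp
  · simp

theorem cons_add_single {e : ℕ} (y : ℕ) (m : Fin e → ℕ) :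
    ((Fin.cons y m : Fin (e + 1) → ℕ) + Pi.single 0 1) =
      (Fin.cons (y + 1) m : Fin (e + 1) → ℕ) := by
  funext i
  refine Fin.cases ?_ (fun j => ?_) i
  · simp
  · simp [Fin.succ_ne_zero]

theorem sum_range_two (N : ℕ) (f : ℕ → ℚ) (hf : ∀ i, f (i + 1 + 1) = 0) :
    ∑ i ∈ Finset.range (N + 1 + 1), f i = f 0 + f 1 := by
  rw [Finset.sum_range_succ', Finset.sum_range_succ', Finset.sum_eq_zero (fun i _ => hf i)]
  simp only [zero_add]
  ring

theorem coeff_eval_C {e : ℕ} (p : Polynomial (MvPolynomial (Fin e) ℚ)) (s : Fin e →₀ ℕ) (a : ℚ)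
    (hp : ∀ i : ℕ, coeff s (p.coeff (i + 1 + 1)) = 0) :
    coeff s (Polynomial.eval (C a) p) = coeff s (p.coeff 0) + a * coeff s (p.coeff 1) := by
  have hterm : ∀ i : ℕ, coeff s (p.coeff i * (C a) ^ i) = a ^ i * coeff s (p.coeff i) := by
    intro i
    rw [← C_pow, mul_comm, coeff_C_mul]
  rw [Polynomial.eval_eq_sum_range' (n := p.natDegree + 1 + 1) (by omega), coeff_sum]
  simp only [hterm]
  refine (sum_range_two p.natDegree (fun i => a ^ i * coeff s (p.coeff i)) ?_).trans ?_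
  · intro i
    show a ^ (i + 1 + 1) * coeff s (p.coeff (i + 1 + 1)) = 0
    rw [hp, mul_zero]
  · show a ^ 0 * coeff s (p.coeff 0) + a ^ 1 * coeff s (p.coeff 1) = _
    rw [pow_zero, one_mul, pow_one]

theorem poly_step (pm rm : Polynomial ℚ)
    (hi : ∀ y : ℕ, Polynomial.eval ((y : ℚ) + 1) pm - Polynomial.eval (y : ℚ) pm =
      Polynomial.eval ((y : ℚ) + 1) rm) :
    Polynomial.eval 0 rm = Polynomial.eval 0 pm - Polynomial.eval (-1) pm := by
  have hii : rm.comp (Polynomial.X + 1) = pm.comp (Polynomial.X + 1) - pm := by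
    apply Polynomial.eq_of_infinite_eval_eq
    apply Set.infinite_of_injective_forall_mem (f := fun y : ℕ => (y : ℚ)) Nat.cast_injective
    intro y
    show Polynomial.eval (y : ℚ) (rm.comp (Polynomial.X + 1)) =
      Polynomial.eval (y : ℚ) (pm.comp (Polynomial.X + 1) - pm)
    rw [Polynomial.eval_comp, Polynomial.eval_sub, Polynomial.eval_comp, Polynomial.eval_add,
      Polynomial.eval_X, Polynomial.eval_one]
    exact (hi y).symm
  have h := congrArg (Polynomial.eval (-1 : ℚ)) hii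
  rw [Polynomial.eval_comp, Polynomial.eval_sub, Polynomial.eval_comp, Polynomial.eval_add,
    Polynomial.eval_X, Polynomial.eval_one, neg_add_cancel] at h
  exact h

theorem eval_Q_eq {e : ℕ} (P R : MvPolynomial (Fin (e + 1)) ℚ) (Q : MvPolynomial (Fin e) ℚ)
    (h1 : ∀ n : Fin (e + 1) → ℕ,
      eval (fun i => (((n + Pi.single 0 1 : Fin (e + 1) → ℕ) i : ℕ) : ℚ)) P -
          eval (fun i => (n i : ℚ)) P =
        eval (fun i => (((n + Pi.single 0 1 : Fin (e + 1) → ℕ) i : ℕ) : ℚ)) R)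
    (h2 : ∀ m : Fin e → ℕ,
      eval (fun i => (((Fin.cons 0 m : Fin (e + 1) → ℕ) i : ℕ) : ℚ)) R =
        eval (fun i => (m i : ℚ)) Q)
    (m : Fin e → ℕ) :
    eval (fun i => (m i : ℚ)) Q =
      eval (fun i => (m i : ℚ)) (Polynomial.eval (C 0) (finSuccEquiv ℚ e P) -
        Polynomial.eval (C (-1)) (finSuccEquiv ℚ e P)) := by
  have hi : ∀ y : ℕ,
      Polynomial.eval ((y : ℚ) + 1)
          (Polynomial.map (eval (fun i => (m i : ℚ))) (finSuccEquiv ℚ e P)) -
        Polynomial.eval (y : ℚ)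
          (Polynomial.map (eval (fun i => (m i : ℚ))) (finSuccEquiv ℚ e P)) =
      Polynomial.eval ((y : ℚ) + 1)
          (Polynomial.map (eval (fun i => (m i : ℚ))) (finSuccEquiv ℚ e R)) := by
    intro y
    have h := h1 (Fin.cons y m)
    rw [cons_add_single, cast_cons (y + 1) m, cast_cons y m] at h
    simp only [eval_eq_eval_mv_eval'] at h
    push_cast at h
    exact h
  have hiii := poly_step _ _ hi
  have hiv : Polynomial.eval 0
      (Polynomial.map (eval (fun i => (m i : ℚ))) (finSuccEquiv ℚ e R)) =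
      eval (fun i => (m i : ℚ)) Q := by
    have h := h2 m
    rw [cast_cons 0 m, eval_eq_eval_mv_eval'] at h
    push_cast at h
    exact h
  have hv : ∀ a : ℚ, Polynomial.eval a
      (Polynomial.map (eval (fun i => (m i : ℚ))) (finSuccEquiv ℚ e P)) =
      eval (fun i => (m i : ℚ)) (Polynomial.eval (C a) (finSuccEquiv ℚ e P)) := by
    intro a
    have h : (finSuccEquiv ℚ e P).eval₂ (eval (fun i => (m i : ℚ)))
        (eval (fun i => (m i : ℚ)) (C a)) =
        eval (fun i => (m i : ℚ)) ((finSuccEquiv ℚ e P).eval (C a)) :=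
      Polynomial.eval₂_at_apply (eval (fun i => (m i : ℚ))) (C a)
    rw [eval_C] at h
    rw [Polynomial.eval_map]
    exact h
  rw [map_sub, ← hv, ← hv, ← hiv, hiii]

theorem coeff_ones_of_diff {e : ℕ} (P R : MvPolynomial (Fin (e + 1)) ℚ)
    (Q : MvPolynomial (Fin e) ℚ)
    (hP : P.totalDegree ≤ e + 1)
    (h1 : ∀ n : Fin (e + 1) → ℕ,
      eval (fun i => (((n + Pi.single 0 1 : Fin (e + 1) → ℕ) i : ℕ) : ℚ)) P -
          eval (fun i => (n i : ℚ)) P =
        eval (fun i => (((n + Pi.single 0 1 : Fin (e + 1) → ℕ) i : ℕ) : ℚ)) R)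
    (h2 : ∀ m : Fin e → ℕ,
      eval (fun i => (((Fin.cons 0 m : Fin (e + 1) → ℕ) i : ℕ) : ℚ)) R =
        eval (fun i => (m i : ℚ)) Q) :
    coeff (Finsupp.equivFunOnFinite.symm fun _ : Fin (e + 1) => 1) P =
      coeff (Finsupp.equivFunOnFinite.symm fun _ : Fin e => 1) Q := by
  have hQ : Q = Polynomial.eval (C 0) (finSuccEquiv ℚ e P) -
      Polynomial.eval (C (-1)) (finSuccEquiv ℚ e P) := by
    apply Groth.Agent.Helper6.CoeffOnes.eq_of_eval_nat_eq
    intro m
    exact eval_Q_eq P R Q h1 h2 m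
  set s : Fin e →₀ ℕ := Finsupp.equivFunOnFinite.symm fun _ : Fin e => 1 with hs
  have hsum : (Finsupp.sum s fun _ x => x) = e := by
    rw [Finsupp.sum_fintype _ _ (fun _ => rfl)]
    simp [hs]
  have hvan : ∀ i : ℕ,
      coeff s (Polynomial.coeff (finSuccEquiv ℚ e P) (i + 1 + 1)) = 0 := by
    intro i
    rw [finSuccEquiv_coeff_coeff]
    apply coeff_eq_zero_of_totalDegree_lt
    have h3 : (Finsupp.sum (Finsupp.cons (i + 1 + 1) s) fun _ x => x) = i + 1 + 1 + e := by
      rw [Finsupp.sum_cons, hsum]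
    have h4 : ∑ j ∈ (Finsupp.cons (i + 1 + 1) s).support, (Finsupp.cons (i + 1 + 1) s) j =
        i + 1 + 1 + e := h3
    rw [h4]
    omega
  have hcons : (Finsupp.cons 1 s : Fin (e + 1) →₀ ℕ) =
      Finsupp.equivFunOnFinite.symm fun _ : Fin (e + 1) => 1 := by
    ext j
    refine Fin.cases ?_ (fun j => ?_) j
    · simp [Finsupp.cons_zero]
    · simp [Finsupp.cons_succ, hs]
  rw [hQ, coeff_sub, coeff_eval_C _ s 0 hvan, coeff_eval_C _ s (-1) hvan,
    finSuccEquiv_coeff_coeff, finSuccEquiv_coeff_coeff, hcons]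
  ring

end Groth.Agent.Helper6.CoeffDiff
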