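import Mathlib
import Groth.Agent.Lib.Lead.PolyDeg
import Groth.Agent.Lib.Helper6.CoeffOnes
import Groth.Agent.Lib.Helper23.SnapperPoly

/-!
# Snapper (B): the coefficient of `x_1 ⋯ x_r` of an integer-valued polynomial of degree `≤ r`
is an integer (wrapper combining `Helper6.CoeffOnes` with helper23's `SnapperPoly`).
-/

namespace Groth.Agent.Helper6.CoeffOnesB

open Groth.Agent.Lead.PolyDeg in
theorem coeff_ones_isInt {r : ℕ} (g : (Fin r → ℕ) → ℤ) (h : IsPolyDeg (r + 1) g)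
    (P : MvPolynomial (Fin r) ℚ)
    (hP : ∀ n : Fin r → ℕ, (g n : ℚ) = MvPolynomial.eval (fun i => (n i : ℚ)) P) :
    ∃ z : ℤ, MvPolynomial.coeff (Finsupp.equivFunOnFinite.symm fun _ : Fin r => 1) P = (z : ℚ) :=
  Groth.Agent.Helper6.CoeffOnes.coeff_ones_isInt_of_exists g
    (Groth.Agent.Helper23.SnapperPoly.exists_mvPolynomial_of_isPolyDeg r g h) P hP

end Groth.Agent.Helper6.CoeffOnesB
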