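import Mathlib
import Groth.Agent.Lib.Helper6.VeroTFB

/-!
# A graded `A`-module with prescribed Veronese part (helper6)

`𝒜` a graded ring, `d > 0`, `B = vsub 𝒜 d = ⊕_q 𝒜 (q d)` the Veronese subring, `N` a graded
`B`-module (`hsm : 𝒜 (j d) • 𝒩 k ⊆ 𝒩 (j + k)`).  Inside the coinduced module `Hm A N = (A →+ N)`
(`A` acting on the source) we take the `A`-submodule `Mod 𝒜 d N` generated by the image of
`iota : N → Hm A N`, `n ↦ (a ↦ P(a) • n)`, where `P : A → B` is the projection onto the components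
of degree divisible by `d`.  It is graded by `gr 𝒜 d 𝒩 k` (sums of monomials `a • ι n` of total
degree `k`), `gr_isInternal`, and its Veronese part is `N`: `vmap : N → Mod` is injective,
semilinear, maps `𝒩 i` onto `gr (i d)`.  `Mod` is finite over `A` if `N` is finite over `B`.
-/

set_option autoImplicit false
set_option linter.unusedSectionVars false
set_option linter.unusedVariables false
universe u
open DirectSum

namespace Groth.Agent.Helper6.Coind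

open Groth.Agent.Helper6.VeroTF

section ProjSec

variable {A σ : Type u} [CommRing A] [SetLike σ A] [AddSubgroupClass σ A] (𝒜 : ℕ → σ)
  [GradedRing 𝒜] (d : ℕ)

open Classical in
/-- the projection of `A` onto the sum of the components of degree divisible by `d`. -/
noncomputable def P : A →+ A :=
  (DirectSum.toAddMonoid (fun i : ℕ =>
    if d ∣ i then AddSubgroupClass.subtype (𝒜 i) else (0 : 𝒜 i →+ A))).comp
    (DirectSum.decomposeAddEquiv 𝒜).toAddMonoidHom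

theorem P_of_mem_dvd {i : ℕ} {a : A} (ha : a ∈ 𝒜 i) (h : d ∣ i) : P 𝒜 d a = a := by
  unfold P
  rw [AddMonoidHom.comp_apply]
  change DirectSum.toAddMonoid _ (DirectSum.decompose 𝒜 a) = a
  rw [DirectSum.decompose_of_mem 𝒜 ha, DirectSum.toAddMonoid_of, if_pos h]
  rfl

theorem P_of_mem_not_dvd {i : ℕ} {a : A} (ha : a ∈ 𝒜 i) (h : ¬ d ∣ i) : P 𝒜 d a = 0 := by
  unfold P
  rw [AddMonoidHom.comp_apply]
  change DirectSum.toAddMonoid _ (DirectSum.decompose 𝒜 a) = 0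
  rw [DirectSum.decompose_of_mem 𝒜 ha, DirectSum.toAddMonoid_of, if_neg h]
  rfl

theorem P_mem (a : A) : P 𝒜 d a ∈ vsub 𝒜 d := by
  classical
  refine DirectSum.Decomposition.inductionOn 𝒜 (motive := fun a => P 𝒜 d a ∈ vsub 𝒜 d) ?_ ?_ ?_ a
  · rw [map_zero]; exact zero_mem _
  · intro i m
    by_cases h : d ∣ i
    · rw [P_of_mem_dvd 𝒜 d m.2 h]
      obtain ⟨q, rfl⟩ := h
      have hm : (m : A) ∈ 𝒜 (q * d) := by rw [mul_comm]; exact m.2
      exact mem_vsub_of_mem 𝒜 d hm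
    · rw [P_of_mem_not_dvd 𝒜 d m.2 h]; exact zero_mem _
  · intro m m' hm hm'
    rw [map_add]; exact add_mem hm hm'

theorem vsub_induction {C : A → Prop} {b : A} (hb : b ∈ vsub 𝒜 d)
    (mem : ∀ q, ∀ y ∈ 𝒜 (q * d), C y) (zero : C 0) (add : ∀ y z, C y → C z → C (y + z)) : C b :=
  vsup_induction 𝒜 (fun q => q * d) hb mem zero add

theorem P_of_vsub {b : A} (hb : b ∈ vsub 𝒜 d) : P 𝒜 d b = b := by
  refine vsub_induction 𝒜 d (C := fun b => P 𝒜 d b = b) hb (fun q y hy => ?_) (map_zero _)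
    (fun y z hy hz => by rw [map_add, hy, hz])
  exact P_of_mem_dvd 𝒜 d hy (dvd_mul_left d q)

theorem dvd_add_mul_iff (i q : ℕ) : d ∣ i + q * d ↔ d ∣ i := by
  constructor
  · intro h
    have h2 := Nat.dvd_sub h (dvd_mul_left d q)
    rwa [Nat.add_sub_cancel] at h2
  · intro h
    exact dvd_add h (dvd_mul_left d q)

theorem P_mul (a : A) {b : A} (hb : b ∈ vsub 𝒜 d) : P 𝒜 d (a * b) = P 𝒜 d a * b := by
  classical
  refine vsub_induction 𝒜 d (C := fun b => P 𝒜 d (a * b) = P 𝒜 d a * b) hb (fun q y hy => ?_)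
    (by rw [mul_zero, map_zero, mul_zero])
    (fun y z hy hz => by rw [mul_add, map_add, hy, hz, mul_add])
  refine DirectSum.Decomposition.inductionOn 𝒜
    (motive := fun a => P 𝒜 d (a * y) = P 𝒜 d a * y) ?_ ?_ ?_ a
  · rw [zero_mul, map_zero, zero_mul]
  · intro i m
    have hmy : (m : A) * y ∈ 𝒜 (i + q * d) := SetLike.mul_mem_graded m.2 hy
    by_cases h : d ∣ i
    · rw [P_of_mem_dvd 𝒜 d hmy ((dvd_add_mul_iff d i q).2 h), P_of_mem_dvd 𝒜 d m.2 h]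
    · rw [P_of_mem_not_dvd 𝒜 d hmy (fun h' => h ((dvd_add_mul_iff d i q).1 h')),
        P_of_mem_not_dvd 𝒜 d m.2 h, zero_mul]
  · intro m m' hm hm'
    rw [add_mul, map_add, hm, hm', map_add, add_mul]

end ProjSec

/-- additive maps `A → N`, with `A` acting on the source. -/
def Hm (A N : Type u) [CommRing A] [AddCommGroup N] : Type u := A →+ N

namespace Hm

variable {A N : Type u} [CommRing A] [AddCommGroup N]

instance : AddCommGroup (Hm A N) := inferInstanceAs (AddCommGroup (A →+ N))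

/-- the underlying additive map. -/
def toHom (φ : Hm A N) : A →+ N := φ

/-- an additive map as an element of `Hm`. -/
def ofHom (φ : A →+ N) : Hm A N := φ

theorem ext {φ ψ : Hm A N} (h : ∀ x, toHom φ x = toHom ψ x) : φ = ψ := AddMonoidHom.ext h

theorem add_apply (φ ψ : Hm A N) (x : A) : toHom (φ + ψ) x = toHom φ x + toHom ψ x := rfl

theorem zero_apply (x : A) : toHom (0 : Hm A N) x = 0 := rfl

theorem neg_apply (φ : Hm A N) (x : A) : toHom (-φ) x = -toHom φ x := rfl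

instance : SMul A (Hm A N) := ⟨fun a φ => ofHom ((toHom φ).comp (AddMonoidHom.mulLeft a))⟩

theorem smul_apply (a : A) (φ : Hm A N) (x : A) : toHom (a • φ) x = toHom φ (a * x) := rfl

instance : Module A (Hm A N) where
  one_smul φ := ext fun x => by rw [smul_apply, one_mul]
  mul_smul a b φ := ext fun x => by
    rw [smul_apply, smul_apply, smul_apply]
    exact congrArg _ (by ring)
  smul_zero a := ext fun x => by rw [smul_apply, zero_apply, zero_apply]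
  smul_add a φ ψ := ext fun x => by
    rw [smul_apply, add_apply, add_apply, smul_apply, smul_apply]
  add_smul a b φ := ext fun x => by
    rw [smul_apply, add_apply, smul_apply, smul_apply, add_mul, map_add]
  zero_smul φ := ext fun x => by rw [smul_apply, zero_mul, map_zero, zero_apply]

instance (priority := 50) instModuleR {R : Type u} [CommRing R] [Algebra R A] :
    Module R (Hm A N) :=
  Module.compHom (Hm A N) (algebraMap R A)

theorem algebraMap_smul' {R : Type u} [CommRing R] [Algebra R A] (r : R) (φ : Hm A N) :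
    r • φ = algebraMap R A r • φ := rfl

instance (priority := 50) instTowerR {R : Type u} [CommRing R] [Algebra R A] :
    IsScalarTower R A (Hm A N) :=
  ⟨fun r a φ => by
    change (r • a) • φ = algebraMap R A r • a • φ
    rw [Algebra.smul_def, mul_smul]⟩

end Hm

section Main

variable {R A : Type u} [CommRing R] [CommRing A] [Algebra R A] (𝒜 : ℕ → Submodule R A)
  [GradedAlgebra 𝒜] (d : ℕ)
variable {N τ : Type u} [AddCommGroup N] [Module (vsub 𝒜 d) N] [SetLike τ N]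
  [AddSubgroupClass τ N] (𝒩 : ℕ → τ)

/-- `P` with values in the Veronese subring. -/
noncomputable def PB : A →+ vsub 𝒜 d := (P 𝒜 d).codRestrict (vsub 𝒜 d) (P_mem 𝒜 d)

theorem coe_PB (a : A) : ((PB 𝒜 d a : vsub 𝒜 d) : A) = P 𝒜 d a := rfl

theorem PB_one : PB 𝒜 d 1 = 1 := Subtype.ext (P_of_vsub 𝒜 d (one_mem _))

theorem PB_mul (a : A) (b : vsub 𝒜 d) : PB 𝒜 d ((b : A) * a) = PB 𝒜 d a * b :=
  Subtype.ext (by
    change P 𝒜 d ((b : A) * a) = P 𝒜 d a * (b : A)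
    rw [mul_comm, P_mul 𝒜 d a b.2])

/-- `n ↦ (a ↦ P(a) • n)`. -/
noncomputable def iota : N →+ Hm A N where
  toFun n := Hm.ofHom (((smulAddHom (vsub 𝒜 d) N).flip n).comp (PB 𝒜 d))
  map_zero' := Hm.ext fun x => (smul_zero (PB 𝒜 d x) : PB 𝒜 d x • (0 : N) = 0)
  map_add' n n' := Hm.ext fun x => (smul_add (PB 𝒜 d x) n n' : PB 𝒜 d x • (n + n') = _)

theorem iota_apply (n : N) (a : A) : Hm.toHom (iota 𝒜 d n) a = PB 𝒜 d a • n := rfl

theorem iota_smul (b : vsub 𝒜 d) (n : N) : iota 𝒜 d (b • n) = (b : A) • iota 𝒜 d n := by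
  refine Hm.ext fun x => ?_
  rw [Hm.smul_apply, iota_apply, iota_apply, PB_mul, mul_smul]

theorem iota_injective : Function.Injective (iota 𝒜 d (N := N)) := by
  intro n n' h
  have h1 : Hm.toHom (iota 𝒜 d n) 1 = Hm.toHom (iota 𝒜 d n') 1 := by rw [h]
  rw [iota_apply, iota_apply, PB_one, one_smul, one_smul] at h1
  exact h1

/-- `φ` is homogeneous of degree `k`. -/
def IsHomDeg (k : ℕ) (φ : Hm A N) : Prop :=
  ∀ (j : ℕ) (a : A), a ∈ 𝒜 j →
    (∀ q : ℕ, j + k = q * d → Hm.toHom φ a ∈ 𝒩 q) ∧ (¬ d ∣ j + k → Hm.toHom φ a = 0)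

/-- the subgroup of the maps homogeneous of degree `k`. -/
def Hk (k : ℕ) : AddSubgroup (Hm A N) where
  carrier := {φ | IsHomDeg 𝒜 d 𝒩 k φ}
  zero_mem' := fun j a ha =>
    ⟨fun q _ => by rw [Hm.zero_apply]; exact zero_mem _, fun _ => Hm.zero_apply a⟩
  add_mem' := fun {φ ψ} hφ hψ j a ha =>
    ⟨fun q hq => by
      rw [Hm.add_apply]; exact add_mem ((hφ j a ha).1 q hq) ((hψ j a ha).1 q hq),
    fun hnd => by rw [Hm.add_apply, (hφ j a ha).2 hnd, (hψ j a ha).2 hnd, add_zero]⟩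
  neg_mem' := fun {φ} hφ j a ha =>
    ⟨fun q hq => by rw [Hm.neg_apply]; exact neg_mem ((hφ j a ha).1 q hq),
    fun hnd => by rw [Hm.neg_apply, (hφ j a ha).2 hnd, neg_zero]⟩

/-- monomials `a • ι n` of total degree `k`. -/
def mono (k : ℕ) : Set (Hm A N) :=
  {ψ | ∃ (j q : ℕ) (a : A) (n : N), a ∈ 𝒜 j ∧ n ∈ 𝒩 q ∧ j + q * d = k ∧ ψ = a • iota 𝒜 d n}

/-- sums of monomials of total degree `k`. -/
def T (k : ℕ) : AddSubgroup (Hm A N) := AddSubgroup.closure (mono 𝒜 d 𝒩 k)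

variable (N) in
/-- the `A`-submodule of `Hm A N` generated by `N`. -/
def Mod : Submodule A (Hm A N) := Submodule.span A (Set.range (iota 𝒜 d (N := N)))

/-- the grading of `Mod`. -/
def gr (k : ℕ) : Submodule R (Mod 𝒜 d N) where
  carrier := {x | (x : Hm A N) ∈ T 𝒜 d 𝒩 k}
  add_mem' := fun {x y} hx hy => by
    show ((x + y : Mod 𝒜 d N) : Hm A N) ∈ T 𝒜 d 𝒩 k
    rw [Submodule.coe_add]; exact add_mem hx hy
  zero_mem' := by
    show ((0 : Mod 𝒜 d N) : Hm A N) ∈ T 𝒜 d 𝒩 k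
    rw [Submodule.coe_zero]; exact zero_mem _
  smul_mem' := fun r x hx => by
    show ((r • x : Mod 𝒜 d N) : Hm A N) ∈ T 𝒜 d 𝒩 k
    have h0 : ((r • x : Mod 𝒜 d N) : Hm A N) = algebraMap R A r • (x : Hm A N) := rfl
    rw [h0]
    have h : T 𝒜 d 𝒩 k ≤ (T 𝒜 d 𝒩 k).comap
        (DistribSMul.toAddMonoidHom (Hm A N) (algebraMap R A r)) := by
      refine (AddSubgroup.closure_le _).2 ?_
      rintro ψ ⟨j, q, a, n, ha, hn, rfl, rfl⟩
      refine AddSubgroup.subset_closure ⟨j, q, algebraMap R A r * a, n, ?_, hn, rfl, ?_⟩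
      · rw [← Algebra.smul_def]; exact Submodule.smul_mem _ r ha
      · exact (mul_smul (algebraMap R A r) a _).symm
    exact h hx

theorem mem_gr {k : ℕ} {x : Mod 𝒜 d N} : x ∈ gr 𝒜 d 𝒩 k ↔ (x : Hm A N) ∈ T 𝒜 d 𝒩 k := Iff.rfl

theorem smul_mem_Hk {j' k : ℕ} {a : A} (ha : a ∈ 𝒜 j') {φ : Hm A N} (hφ : φ ∈ Hk 𝒜 d 𝒩 k) :
    a • φ ∈ Hk 𝒜 d 𝒩 (j' + k) := by
  have hφ' : IsHomDeg 𝒜 d 𝒩 k φ := hφ
  show IsHomDeg 𝒜 d 𝒩 (j' + k) (a • φ)
  intro j x hx
  have hax : a * x ∈ 𝒜 (j' + j) := SetLike.mul_mem_graded ha hx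
  obtain ⟨h1, h2⟩ := hφ' (j' + j) (a * x) hax
  refine ⟨fun q hq => ?_, fun hnd => ?_⟩
  · rw [Hm.smul_apply]
    exact h1 q (by rw [← hq]; ring)
  · rw [Hm.smul_apply]
    exact h2 (fun h => hnd (by rwa [show j + (j' + k) = j' + j + k by ring]))

theorem T_le_Mod (k : ℕ) : T 𝒜 d 𝒩 k ≤ (Mod 𝒜 d N).toAddSubgroup := by
  refine (AddSubgroup.closure_le _).2 ?_
  rintro ψ ⟨j, q, a, n, ha, hn, rfl, rfl⟩
  exact Submodule.smul_mem _ a (Submodule.subset_span ⟨n, rfl⟩)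

theorem T_smul {j' k : ℕ} {a : A} (ha : a ∈ 𝒜 j') {ψ : Hm A N} (hψ : ψ ∈ T 𝒜 d 𝒩 k) :
    a • ψ ∈ T 𝒜 d 𝒩 (j' + k) := by
  have h : T 𝒜 d 𝒩 k ≤ (T 𝒜 d 𝒩 (j' + k)).comap (DistribSMul.toAddMonoidHom (Hm A N) a) := by
    refine (AddSubgroup.closure_le _).2 ?_
    rintro ψ ⟨j, q, a', n, ha', hn, rfl, rfl⟩
    refine AddSubgroup.subset_closure
      ⟨j' + j, q, a * a', n, SetLike.mul_mem_graded ha ha', hn, by ring, ?_⟩
    exact (mul_smul a a' _).symm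
  exact h hψ

instance grGradedSMul : SetLike.GradedSMul 𝒜 (gr 𝒜 d 𝒩) :=
  ⟨fun {i j ai bj} hi hj => T_smul 𝒜 d 𝒩 hi hj⟩

theorem T_le_range (i : ℕ) : T 𝒜 d 𝒩 (i * d) ≤ (iota 𝒜 d (N := N)).range := by
  refine (AddSubgroup.closure_le _).2 ?_
  rintro ψ ⟨j, q, a, n, ha, hn, hjq, rfl⟩
  have hdj : d ∣ j := by
    have h1 : d ∣ j + q * d := by rw [hjq]; exact dvd_mul_left d i
    exact (dvd_add_mul_iff d j q).1 h1
  obtain ⟨j', rfl⟩ := hdj
  have ha' : a ∈ 𝒜 (j' * d) := by rwa [mul_comm] at ha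
  exact ⟨(⟨a, mem_vsub_of_mem 𝒜 d ha'⟩ : vsub 𝒜 d) • n, iota_smul 𝒜 d _ n⟩

variable [DirectSum.Decomposition 𝒩] (hd : 0 < d)
  (hsm : ∀ (j k : ℕ) (b : vsub 𝒜 d) (n : N), (b : A) ∈ 𝒜 (j * d) → n ∈ 𝒩 k → b • n ∈ 𝒩 (j + k))

include hd hsm

theorem iota_mem_Hk {q : ℕ} {n : N} (hn : n ∈ 𝒩 q) : iota 𝒜 d n ∈ Hk 𝒜 d 𝒩 (q * d) := by
  show IsHomDeg 𝒜 d 𝒩 (q * d) (iota 𝒜 d n)
  intro j a ha
  by_cases h : d ∣ j
  · obtain ⟨j', rfl⟩ := h
    have ha' : a ∈ 𝒜 (j' * d) := by rwa [mul_comm] at ha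
    have hPB : PB 𝒜 d a = ⟨a, mem_vsub_of_mem 𝒜 d ha'⟩ :=
      Subtype.ext (P_of_mem_dvd 𝒜 d ha (dvd_mul_right d j'))
    refine ⟨fun q' hq' => ?_,
      fun hnd => absurd (dvd_add (dvd_mul_right d j') (dvd_mul_left d q)) hnd⟩
    have hqq : q' = j' + q := by
      apply Nat.eq_of_mul_eq_mul_right hd
      rw [← hq']; ring
    rw [iota_apply, hPB, hqq]
    exact hsm j' q _ n ha' hn
  · have hPB : PB 𝒜 d a = 0 := Subtype.ext (P_of_mem_not_dvd 𝒜 d ha h)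
    refine ⟨fun q' _ => ?_, fun _ => ?_⟩
    · rw [iota_apply, hPB, zero_smul]; exact zero_mem _
    · rw [iota_apply, hPB, zero_smul]

theorem T_le_Hk (k : ℕ) : T 𝒜 d 𝒩 k ≤ Hk 𝒜 d 𝒩 k := by
  refine (AddSubgroup.closure_le _).2 ?_
  rintro ψ ⟨j, q, a, n, ha, hn, rfl, rfl⟩
  exact smul_mem_Hk 𝒜 d 𝒩 ha (iota_mem_Hk 𝒜 d 𝒩 hd hsm hn)

omit hd hsm in
theorem mem_iSup_T {φ : Hm A N} (hφ : φ ∈ Mod 𝒜 d N) : φ ∈ ⨆ k, T 𝒜 d 𝒩 k := by
  classical
  have hφ' : φ ∈ Submodule.span A (Set.range (iota 𝒜 d (N := N))) := hφ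
  induction hφ' using Submodule.span_induction with
  | mem φ h =>
    obtain ⟨n, rfl⟩ := h
    refine DirectSum.Decomposition.inductionOn 𝒩
      (motive := fun n => iota 𝒜 d n ∈ ⨆ k, T 𝒜 d 𝒩 k) ?_ ?_ ?_ n
    · rw [map_zero]; exact zero_mem _
    · intro q m
      exact AddSubgroup.mem_iSup_of_mem (q * d) (AddSubgroup.subset_closure
        ⟨0, q, 1, m, SetLike.one_mem_graded 𝒜, m.2, zero_add _, (one_smul _ _).symm⟩)
    · intro m m' h h'
      rw [map_add]; exact add_mem h h'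
  | zero => exact zero_mem _
  | add φ ψ _ _ h h' => exact add_mem (h ‹_›) (h' ‹_›)
  | smul a φ _ h =>
    have h := h ‹_›
    refine DirectSum.Decomposition.inductionOn 𝒜
      (motive := fun a => a • φ ∈ ⨆ k, T 𝒜 d 𝒩 k) ?_ ?_ ?_ a
    · rw [zero_smul]; exact zero_mem _
    · intro j m
      refine AddSubgroup.iSup_induction (fun k => T 𝒜 d 𝒩 k)
        (C := fun φ => (m : A) • φ ∈ ⨆ k, T 𝒜 d 𝒩 k) h (fun k ψ hψ => ?_)
        (by rw [smul_zero]; exact zero_mem _)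
        (fun ψ ψ' h h' => by rw [smul_add]; exact add_mem h h')
      exact AddSubgroup.mem_iSup_of_mem (j + k) (T_smul 𝒜 d 𝒩 m.2 hψ)
    · intro m m' h h'
      rw [add_smul]; exact add_mem h h'

omit hd hsm in
theorem exists_mem_iSup_gr {φ : Hm A N} (hφ : φ ∈ ⨆ k, T 𝒜 d 𝒩 k) :
    ∃ h : φ ∈ Mod 𝒜 d N, (⟨φ, h⟩ : Mod 𝒜 d N) ∈ ⨆ k, gr 𝒜 d 𝒩 k := by
  refine AddSubgroup.iSup_induction (fun k => T 𝒜 d 𝒩 k)
    (C := fun φ => ∃ h : φ ∈ Mod 𝒜 d N, (⟨φ, h⟩ : Mod 𝒜 d N) ∈ ⨆ k, gr 𝒜 d 𝒩 k) hφ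
    (fun k ψ hψ => ?_) ⟨zero_mem _, zero_mem _⟩ (fun ψ ψ' h h' => ?_)
  · exact ⟨T_le_Mod 𝒜 d 𝒩 k hψ, Submodule.mem_iSup_of_mem k hψ⟩
  · obtain ⟨h1, h2⟩ := h
    obtain ⟨h1', h2'⟩ := h'
    exact ⟨add_mem h1 h1', add_mem h2 h2'⟩

omit hd hsm in
theorem iSup_gr_eq_top : ⨆ k, gr 𝒜 d 𝒩 k = ⊤ := by
  rw [eq_top_iff]
  intro x _
  obtain ⟨h, hx⟩ := exists_mem_iSup_gr 𝒜 d 𝒩 (mem_iSup_T 𝒜 d 𝒩 x.2)
  exact hx

omit hd hsm in
/-- the auxiliary submodule used for independence. -/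
def Dk (k : ℕ) : Submodule R (Mod 𝒜 d N) where
  carrier := {x | ∀ (j : ℕ) (a : A), a ∈ 𝒜 j → ∀ q : ℕ, j + k = q * d →
    ((DirectSum.decompose 𝒩 (Hm.toHom (x : Hm A N) a) q : 𝒩 q) : N) = 0}
  add_mem' := fun {x y} hx hy j a ha q hq => by
    rw [Submodule.coe_add, Hm.add_apply, DirectSum.decompose_add, DirectSum.add_apply,
      AddMemClass.coe_add, hx j a ha q hq, hy j a ha q hq, add_zero]
  zero_mem' := fun j a ha q hq => by
    rw [Submodule.coe_zero, Hm.zero_apply, DirectSum.decompose_zero, DirectSum.zero_apply,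
      ZeroMemClass.coe_zero]
  smul_mem' := fun r x hx j a ha q hq => by
    have h0 : ((r • x : Mod 𝒜 d N) : Hm A N) = algebraMap R A r • (x : Hm A N) := rfl
    rw [h0, Hm.smul_apply]
    exact hx j _ (by rw [← Algebra.smul_def]; exact Submodule.smul_mem _ r ha) q hq

theorem gr_le_Dk {k k' : ℕ} (hkk' : k' ≠ k) : gr 𝒜 d 𝒩 k' ≤ Dk 𝒜 d 𝒩 k := by
  classical
  intro x hx j a ha q hq
  have hH : IsHomDeg 𝒜 d 𝒩 k' (x : Hm A N) := T_le_Hk 𝒜 d 𝒩 hd hsm k' hx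
  by_cases h : d ∣ j + k'
  · obtain ⟨q', hq'⟩ := h
    have hmem := (hH j a ha).1 q' (by rw [hq', mul_comm])
    have hne : q' ≠ q := by
      rintro rfl
      apply hkk'
      have h3 : j + k' = j + k := by rw [hq', hq, mul_comm]
      exact Nat.add_left_cancel h3
    exact DirectSum.decompose_of_mem_ne 𝒩 hmem hne
  · rw [(hH j a ha).2 h, DirectSum.decompose_zero, DirectSum.zero_apply, ZeroMemClass.coe_zero]

theorem gr_iSupIndep : iSupIndep (gr 𝒜 d 𝒩) := by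
  classical
  intro k
  have hle : (⨆ (k' : ℕ) (_ : k' ≠ k), gr 𝒜 d 𝒩 k') ≤ Dk 𝒜 d 𝒩 k :=
    iSup₂_le (fun k' hk' => gr_le_Dk 𝒜 d 𝒩 hd hsm hk')
  refine Submodule.disjoint_def.2 (fun x hx hx' => ?_)
  have hD : x ∈ Dk 𝒜 d 𝒩 k := hle hx'
  have hH : IsHomDeg 𝒜 d 𝒩 k (x : Hm A N) := T_le_Hk 𝒜 d 𝒩 hd hsm k hx
  have hzero : ∀ a : A, Hm.toHom (x : Hm A N) a = 0 := by
    intro a
    refine DirectSum.Decomposition.inductionOn 𝒜
      (motive := fun a => Hm.toHom (x : Hm A N) a = 0) (map_zero _) ?_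
      (fun m m' h h' => by rw [map_add, h, h', add_zero]) a
    intro j m
    by_cases h : d ∣ j + k
    · obtain ⟨q, hq⟩ := h
      have hq' : j + k = q * d := by rw [hq, mul_comm]
      have hmem := (hH j m m.2).1 q hq'
      have h0 := hD j m m.2 q hq'
      rwa [DirectSum.decompose_of_mem_same 𝒩 hmem] at h0
    · exact (hH j m m.2).2 h
  have hx0 : (x : Hm A N) = 0 := Hm.ext (fun a => (hzero a).trans (Hm.zero_apply a).symm)
  exact Subtype.ext (hx0.trans (Submodule.coe_zero).symm)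

theorem gr_isInternal : DirectSum.IsInternal (gr 𝒜 d 𝒩) := by
  classical
  exact DirectSum.isInternal_submodule_of_iSupIndep_of_iSup_eq_top
    (gr_iSupIndep 𝒜 d 𝒩 hd hsm) (iSup_gr_eq_top 𝒜 d 𝒩)

omit hd hsm in
/-- the comparison map `N → Mod`. -/
noncomputable def vmap : N →ₛₗ[(vsub 𝒜 d).subtype] Mod 𝒜 d N where
  toFun n := ⟨iota 𝒜 d n, Submodule.subset_span ⟨n, rfl⟩⟩
  map_add' n n' := Subtype.ext (map_add (iota 𝒜 d) n n')
  map_smul' b n := Subtype.ext (iota_smul 𝒜 d b n)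

omit hd hsm in
theorem coe_vmap (n : N) : ((vmap 𝒜 d (N := N) n : Mod 𝒜 d N) : Hm A N) = iota 𝒜 d n := rfl

omit hd hsm in
theorem vmap_injective : Function.Injective (vmap 𝒜 d (N := N)) := by
  intro n n' h
  exact iota_injective 𝒜 d (congrArg (fun x : Mod 𝒜 d N => (x : Hm A N)) h)

omit hd hsm in
theorem vmap_mem {i : ℕ} {n : N} (hn : n ∈ 𝒩 i) : vmap 𝒜 d n ∈ gr 𝒜 d 𝒩 (i * d) :=
  AddSubgroup.subset_closure
    ⟨0, i, 1, n, SetLike.one_mem_graded 𝒜, hn, zero_add _, (one_smul _ _).symm⟩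

theorem exists_of_mem_gr {i : ℕ} {x : Mod 𝒜 d N} (hx : x ∈ gr 𝒜 d 𝒩 (i * d)) :
    ∃ n ∈ 𝒩 i, vmap 𝒜 d n = x := by
  obtain ⟨n, hn⟩ := T_le_range 𝒜 d 𝒩 i hx
  refine ⟨n, ?_, Subtype.ext hn⟩
  have hH : IsHomDeg 𝒜 d 𝒩 (i * d) (x : Hm A N) := T_le_Hk 𝒜 d 𝒩 hd hsm (i * d) hx
  have h1 := (hH 0 1 (SetLike.one_mem_graded 𝒜)).1 i (zero_add _)
  rw [← hn, iota_apply, PB_one, one_smul] at h1
  exact h1

omit hd hsm in
theorem mod_fg [Module.Finite (vsub 𝒜 d) N] : (Mod 𝒜 d N).FG := by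
  classical
  obtain ⟨S, hS⟩ := (Module.Finite.fg_top : (⊤ : Submodule (vsub 𝒜 d) N).FG)
  refine ⟨S.image (iota 𝒜 d), ?_⟩
  apply le_antisymm
  · refine Submodule.span_le.2 ?_
    intro φ hφ
    rw [Finset.coe_image] at hφ
    obtain ⟨n, _, rfl⟩ := hφ
    exact Submodule.subset_span ⟨n, rfl⟩
  · refine Submodule.span_le.2 ?_
    rintro _ ⟨n, rfl⟩
    have hn : n ∈ Submodule.span (vsub 𝒜 d) (S : Set N) := by rw [hS]; trivial
    induction hn using Submodule.span_induction with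
    | mem n h =>
      refine Submodule.subset_span ?_
      rw [Finset.coe_image]
      exact ⟨n, h, rfl⟩
    | zero => rw [map_zero]; exact zero_mem _
    | add n n' _ _ h h' => rw [map_add]; exact add_mem h h'
    | smul b n _ h => rw [iota_smul]; exact Submodule.smul_mem _ _ h

end Main

end Groth.Agent.Helper6.Coind
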