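import Mathlib
import Groth.Prelude.Def_GrMod3
import Groth.Prelude.Def_RelProj3

/-!
# Regrading by `ULift ℤ`-submodules and truncations `M_{≥ k}` (helper6)

For a ring `A` graded by additive subgroups `𝒜 : ℕ → σ`:

* `zgr 𝒜 : ℕ → Submodule (ULift ℤ) A`, the same grading by `ULift ℤ`-submodules, with its
  `GradedRing` structure; `idHom 𝒜 : zgr 𝒜 →+*ᵍ 𝒜`, the identity;
* `zgr_succ`, `zgr_add`: `A_{i+j} = A_i A_j` when the irrelevant ideal is generated by `A_1`;
* for a graded module `ℳ : ℕ → τ`: the truncation `trunc A ℳ k = M_{≥ k}`, its grading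
  `tgr 𝒜 ℳ k` by `ULift ℤ`-submodules, its decomposition, and the inclusion `inclSemi`.
-/

set_option autoImplicit false
set_option linter.unusedSectionVars false
set_option linter.unusedVariables false
universe u
open DirectSum

namespace Groth.Agent.Helper6.SigmaGr

attribute [local instance] ULift.algebra'

section Ring

variable {A σ : Type u} [CommRing A] [SetLike σ A] [AddSubgroupClass σ A] (𝒜 : ℕ → σ)

/-- the same grading, by `ULift ℤ`-submodules. -/
def zgr (i : ℕ) : Submodule (ULift.{u} ℤ) A where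
  carrier := (𝒜 i : Set A)
  add_mem' := fun ha hb => add_mem ha hb
  zero_mem' := zero_mem (𝒜 i)
  smul_mem' := fun c x hx => zsmul_mem (show x ∈ 𝒜 i from hx) c.down

theorem mem_zgr {i : ℕ} {a : A} : a ∈ zgr 𝒜 i ↔ a ∈ 𝒜 i := Iff.rfl

/-- the identity `𝒜 i → zgr i`. -/
def toZ (i : ℕ) : 𝒜 i →+ zgr 𝒜 i where
  toFun x := ⟨x.1, x.2⟩
  map_zero' := rfl
  map_add' _ _ := rfl

theorem coe_map_toZ [DecidableEq ℕ] (y : ⨁ i, 𝒜 i) :
    DirectSum.coeAddMonoidHom (zgr 𝒜) (DirectSum.map (toZ 𝒜) y) =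
      DirectSum.coeAddMonoidHom 𝒜 y := by
  induction y using DirectSum.induction_on with
  | zero => rw [map_zero, map_zero, map_zero]
  | of i x =>
    rw [DirectSum.map_of, DirectSum.coeAddMonoidHom_of, DirectSum.coeAddMonoidHom_of]
    rfl
  | add x y hx hy => rw [map_add, map_add, map_add, hx, hy]

variable [GradedRing 𝒜]

instance zgrGradedMonoid : SetLike.GradedMonoid (zgr 𝒜) where
  one_mem := (SetLike.one_mem_graded 𝒜 : (1 : A) ∈ 𝒜 0)
  mul_mem := by
    intro i j a b ha hb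
    exact (SetLike.mul_mem_graded (A := 𝒜) (show a ∈ 𝒜 i from ha) (show b ∈ 𝒜 j from hb))

noncomputable instance zgrDecomposition : DirectSum.Decomposition (zgr 𝒜) :=
  DirectSum.Decomposition.ofAddHom _
    ((DirectSum.map (toZ 𝒜)).comp (DirectSum.decomposeAddEquiv 𝒜).toAddMonoidHom)
    (by
      ext m
      change DirectSum.coeAddMonoidHom (zgr 𝒜)
        (DirectSum.map (toZ 𝒜) (DirectSum.decompose 𝒜 m)) = m
      rw [coe_map_toZ]
      exact DirectSum.Decomposition.left_inv (ℳ := 𝒜) m)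
    (by
      apply DirectSum.addHom_ext
      intro i z
      change DirectSum.map (toZ 𝒜) (DirectSum.decompose 𝒜
        (DirectSum.coeAddMonoidHom (zgr 𝒜) (DirectSum.of _ i z))) = DirectSum.of _ i z
      rw [DirectSum.coeAddMonoidHom_of,
        DirectSum.decompose_of_mem 𝒜 (show (z : A) ∈ 𝒜 i from z.2), DirectSum.map_of]
      rfl)

noncomputable instance zgrGradedRing : GradedRing (zgr 𝒜) :=
  { zgrGradedMonoid 𝒜, zgrDecomposition 𝒜 with }

theorem coe_decompose_zgr (a : A) (i : ℕ) :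
    ((DirectSum.decompose (zgr 𝒜) a i : zgr 𝒜 i) : A) = (DirectSum.decompose 𝒜 a i : A) := by
  change ((DirectSum.map (toZ 𝒜) (DirectSum.decompose 𝒜 a)) i : A) = _
  rw [DirectSum.map_apply]
  rfl

theorem mem_irrelevant_zgr (a : A) :
    a ∈ HomogeneousIdeal.irrelevant (zgr 𝒜) ↔ a ∈ HomogeneousIdeal.irrelevant 𝒜 := by
  rw [HomogeneousIdeal.mem_irrelevant_iff, HomogeneousIdeal.mem_irrelevant_iff,
    GradedRing.proj_apply, GradedRing.proj_apply, coe_decompose_zgr]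

theorem irrelevant_zgr_eq_span
    (hgen : (HomogeneousIdeal.irrelevant 𝒜).toIdeal = Ideal.span (𝒜 1 : Set A)) :
    (HomogeneousIdeal.irrelevant (zgr 𝒜)).toIdeal = Ideal.span ((zgr 𝒜 1 : Submodule _ A) : Set A) := by
  have h : (HomogeneousIdeal.irrelevant (zgr 𝒜)).toIdeal =
      (HomogeneousIdeal.irrelevant 𝒜).toIdeal := Ideal.ext (fun a => mem_irrelevant_zgr 𝒜 a)
  rw [h, hgen]
  rfl

theorem zgr_succ (hgen : (HomogeneousIdeal.irrelevant 𝒜).toIdeal = Ideal.span (𝒜 1 : Set A))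
    (i : ℕ) : zgr 𝒜 (i + 1) = zgr 𝒜 1 * zgr 𝒜 i := by
  classical
  apply le_antisymm
  · intro b hb
    have hb' : b ∈ 𝒜 (i + 1) := hb
    have hb1 : b ∈ Ideal.span (𝒜 1 : Set A) := by
      rw [← hgen]
      exact HomogeneousIdeal.mem_irrelevant_of_mem 𝒜 (Nat.succ_pos i) hb'
    obtain ⟨c, t, hts, -, hsum⟩ := Submodule.mem_span_iff_exists_finset_subset.1 hb1
    have h1 : (decompose 𝒜 b (i + 1) : A) = b := DirectSum.decompose_of_mem_same 𝒜 hb'
    rw [← h1, ← hsum, DirectSum.decompose_sum, DFinsupp.finsetSum_apply,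
      AddSubmonoidClass.coe_finsetSum]
    refine Submodule.sum_mem _ (fun g hg => ?_)
    have hg1 : g ∈ 𝒜 1 := hts hg
    rw [smul_eq_mul, DirectSum.coe_decompose_mul_add_of_right_mem 𝒜 hg1,
      mul_comm (zgr 𝒜 1) (zgr 𝒜 i)]
    exact Submodule.mul_mem_mul (show (decompose 𝒜 (c g) i : A) ∈ zgr 𝒜 i from
      (decompose 𝒜 (c g) i).2) (show g ∈ zgr 𝒜 1 from hg1)
  · rw [Submodule.mul_le]
    intro a ha b hb
    have h := SetLike.mul_mem_graded (A := 𝒜) (show a ∈ 𝒜 1 from ha) (show b ∈ 𝒜 i from hb)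
    rw [add_comm] at h
    exact h

theorem zgr_add (hgen : (HomogeneousIdeal.irrelevant 𝒜).toIdeal = Ideal.span (𝒜 1 : Set A))
    (i j : ℕ) : zgr 𝒜 (i + j) = zgr 𝒜 i * zgr 𝒜 j := by
  induction i with
  | zero =>
    rw [Nat.zero_add]
    apply le_antisymm
    · intro b hb
      have h := Submodule.mul_mem_mul
        (show (1 : A) ∈ zgr 𝒜 0 from SetLike.one_mem_graded 𝒜) hb
      rwa [one_mul] at h
    · rw [Submodule.mul_le]
      intro a ha b hb
      have h := SetLike.mul_mem_graded (A := 𝒜) (show a ∈ 𝒜 0 from ha) (show b ∈ 𝒜 j from hb)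
      rw [Nat.zero_add] at h
      exact h
  | succ i ih =>
    rw [Nat.add_right_comm, zgr_succ 𝒜 hgen (i + j), ih, ← mul_assoc, ← zgr_succ 𝒜 hgen i]

/-- the identity, as a homomorphism of graded rings `zgr 𝒜 → 𝒜`. -/
def idHom : zgr 𝒜 →+*ᵍ 𝒜 where
  toRingHom := RingHom.id A
  map_mem := fun hx => hx

theorem irrelevant_le_map_idHom :
    HomogeneousIdeal.irrelevant 𝒜 ≤ (HomogeneousIdeal.irrelevant (zgr 𝒜)).map (idHom 𝒜) := by
  intro b hb
  have hb' : b ∈ (HomogeneousIdeal.irrelevant (zgr 𝒜)).toIdeal := (mem_irrelevant_zgr 𝒜 b).2 hb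
  have h := Ideal.mem_map_of_mem (idHom 𝒜) hb'
  exact h

end Ring

section Mod

variable {A σ : Type u} [CommRing A] [SetLike σ A] [AddSubgroupClass σ A] (𝒜 : ℕ → σ)
  [GradedRing 𝒜]
variable {M τ : Type u} [AddCommGroup M] [Module A M] [SetLike τ M] [AddSubgroupClass τ M]
  (ℳ : ℕ → τ) [SetLike.GradedSMul 𝒜 ℳ] [DirectSum.Decomposition ℳ]

variable (A) in
/-- `M_{≥ k}`, as an `A`-submodule. -/
def trunc (k : ℕ) : Submodule A M := Submodule.span A (⋃ i ∈ Set.Ici k, (ℳ i : Set M))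

variable (A) in
theorem mem_trunc_of_ge {k i : ℕ} (hi : k ≤ i) {m : M} (hm : m ∈ ℳ i) : m ∈ trunc A ℳ k :=
  Submodule.subset_span (Set.mem_biUnion (show i ∈ Set.Ici k from hi) hm)

include 𝒜

theorem proj_smul_homog_eq_zero {l i : ℕ} {m : M} (hm : m ∈ ℳ l) (hil : i < l) (a : A) :
    ((decompose ℳ (a • m) i : ℳ i) : M) = 0 := by
  classical
  conv_lhs => rw [← DirectSum.sum_support_decompose 𝒜 a, Finset.sum_smul, DirectSum.decompose_sum]
  rw [DirectSum.sum_apply, AddSubmonoidClass.coe_finsetSum]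
  refine Finset.sum_eq_zero (fun j _ => ?_)
  have hmem : (decompose 𝒜 a j : A) • m ∈ ℳ (j + l) :=
    SetLike.GradedSMul.smul_mem (decompose 𝒜 a j).2 hm
  exact DirectSum.decompose_of_mem_ne ℳ hmem (by omega)

theorem proj_smul_eq_zero {k : ℕ} {x : M}
    (hx : ∀ i < k, ((decompose ℳ x i : ℳ i) : M) = 0) (a : A) {i : ℕ} (hi : i < k) :
    ((decompose ℳ (a • x) i : ℳ i) : M) = 0 := by
  classical
  conv_lhs => rw [← DirectSum.sum_support_decompose ℳ x, Finset.smul_sum, DirectSum.decompose_sum]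
  rw [DirectSum.sum_apply, AddSubmonoidClass.coe_finsetSum]
  refine Finset.sum_eq_zero (fun l hl => ?_)
  have hlk : k ≤ l := by
    by_contra hlt
    rw [DFinsupp.mem_support_iff] at hl
    exact hl (Subtype.ext ((hx l (not_le.mp hlt)).trans (ZeroMemClass.coe_zero _).symm))
  exact proj_smul_homog_eq_zero 𝒜 ℳ (decompose ℳ x l).2 (lt_of_lt_of_le hi hlk) a

theorem proj_eq_zero_of_mem_trunc {k : ℕ} {x : M} (hx : x ∈ trunc A ℳ k) :
    ∀ i < k, ((decompose ℳ x i : ℳ i) : M) = 0 := by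
  induction hx using Submodule.span_induction with
  | mem x h =>
    obtain ⟨j, hj, hxj⟩ := Set.mem_iUnion₂.1 h
    intro i hi
    have hkj : k ≤ j := hj
    exact DirectSum.decompose_of_mem_ne ℳ hxj (by omega)
  | zero =>
    intro i _
    rw [DirectSum.decompose_zero, DirectSum.zero_apply, ZeroMemClass.coe_zero]
  | add x y _ _ hx hy =>
    intro i hi
    rw [DirectSum.decompose_add, DirectSum.add_apply, AddMemClass.coe_add, hx i hi, hy i hi,
      add_zero]
  | smul a x _ hx =>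
    intro i hi
    exact proj_smul_eq_zero 𝒜 ℳ hx a hi

theorem proj_mem_trunc {k : ℕ} {x : M} (hx : x ∈ trunc A ℳ k) (i : ℕ) :
    ((decompose ℳ x i : ℳ i) : M) ∈ trunc A ℳ k := by
  by_cases hi : i < k
  · rw [proj_eq_zero_of_mem_trunc 𝒜 ℳ hx i hi]
    exact zero_mem _
  · exact mem_trunc_of_ge A ℳ (not_lt.mp hi) (decompose ℳ x i).2

/-- the grading of `M_{≥ k}` by `ULift ℤ`-submodules. -/
def tgr (k i : ℕ) : Submodule (ULift.{u} ℤ) (trunc A ℳ k) where
  carrier := {x | (x : M) ∈ ℳ i}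
  add_mem' := fun {a b} ha hb => (add_mem ha hb : (a : M) + (b : M) ∈ ℳ i)
  zero_mem' := (fun _ : (0 : A) ∈ 𝒜 0 ∨ True => zero_mem (ℳ i)) (Or.inr trivial)
  smul_mem' := fun c x hx =>
    (zsmul_mem (show (x : M) ∈ ℳ i from hx) c.down : c.down • (x : M) ∈ ℳ i)

instance tgrGradedSMul (k : ℕ) : SetLike.GradedSMul (zgr 𝒜) (tgr 𝒜 ℳ k) :=
  ⟨by
    intro i j a x ha hx
    exact (SetLike.GradedSMul.smul_mem (A := 𝒜) (B := ℳ) (show a ∈ 𝒜 i from ha)
      (show (x : M) ∈ ℳ j from hx))⟩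

/-- the inclusion `tgr k i → ℳ i`. -/
def fromT (k i : ℕ) : tgr 𝒜 ℳ k i →+ ℳ i where
  toFun x := ⟨((x : trunc A ℳ k) : M), x.2⟩
  map_zero' := rfl
  map_add' _ _ := rfl

theorem fromT_injective (k i : ℕ) : Function.Injective (fromT 𝒜 ℳ k i) := by
  intro x y h
  have h' : ((x : trunc A ℳ k) : M) = ((y : trunc A ℳ k) : M) := by
    have h0 := congrArg (fun z : ℳ i => (z : M)) h
    exact h0
  exact Subtype.ext (Subtype.ext h')

theorem coe_coe_tgr [DecidableEq ℕ] (k : ℕ) (y : ⨁ i, tgr 𝒜 ℳ k i) :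
    ((DirectSum.coeAddMonoidHom (tgr 𝒜 ℳ k) y : trunc A ℳ k) : M) =
      DirectSum.coeAddMonoidHom ℳ (DirectSum.map (fromT 𝒜 ℳ k) y) := by
  induction y using DirectSum.induction_on with
  | zero =>
    rw [map_zero, map_zero, map_zero]
    rfl
  | of i x =>
    rw [DirectSum.map_of, DirectSum.coeAddMonoidHom_of, DirectSum.coeAddMonoidHom_of]
    rfl
  | add x y hx hy => rw [map_add, map_add, map_add, Submodule.coe_add, hx, hy]

theorem tgr_isInternal (k : ℕ) : DirectSum.IsInternal (tgr 𝒜 ℳ k) := by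
  classical
  constructor
  · intro y y' hyy'
    have h1 : DirectSum.coeAddMonoidHom ℳ (DirectSum.map (fromT 𝒜 ℳ k) y) =
        DirectSum.coeAddMonoidHom ℳ (DirectSum.map (fromT 𝒜 ℳ k) y') := by
      rw [← coe_coe_tgr 𝒜 ℳ k, ← coe_coe_tgr 𝒜 ℳ k, hyy']
    have h2 := (DirectSum.Decomposition.isInternal ℳ).injective h1
    refine DFinsupp.ext (fun i => fromT_injective 𝒜 ℳ k i ?_)
    have h3 : (DirectSum.map (fromT 𝒜 ℳ k) y) i = (DirectSum.map (fromT 𝒜 ℳ k) y') i := by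
      rw [h2]
    rw [DirectSum.map_apply, DirectSum.map_apply] at h3
    exact h3
  · intro x
    have hx : (x : M) ∈ trunc A ℳ k := x.2
    have hsum : x = ∑ i ∈ (DirectSum.decompose ℳ (x : M)).support,
        (⟨((DirectSum.decompose ℳ (x : M) i : ℳ i) : M), proj_mem_trunc 𝒜 ℳ hx i⟩ :
          trunc A ℳ k) := by
      apply Subtype.ext
      rw [Submodule.coe_sum]
      exact (DirectSum.sum_support_decompose ℳ (x : M)).symm
    have hr : ∀ i, (⟨((DirectSum.decompose ℳ (x : M) i : ℳ i) : M),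
        proj_mem_trunc 𝒜 ℳ hx i⟩ : trunc A ℳ k) ∈
        AddMonoidHom.mrange (DirectSum.coeAddMonoidHom (tgr 𝒜 ℳ k)) := fun i =>
      ⟨DirectSum.of (fun i => tgr 𝒜 ℳ k i) i
        ⟨⟨_, proj_mem_trunc 𝒜 ℳ hx i⟩, (DirectSum.decompose ℳ (x : M) i).2⟩,
        DirectSum.coeAddMonoidHom_of _ _ _⟩
    have hmem : (∑ i ∈ (DirectSum.decompose ℳ (x : M)).support,
        (⟨((DirectSum.decompose ℳ (x : M) i : ℳ i) : M), proj_mem_trunc 𝒜 ℳ hx i⟩ :
          trunc A ℳ k)) ∈ AddMonoidHom.mrange (DirectSum.coeAddMonoidHom (tgr 𝒜 ℳ k)) :=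
      sum_mem (fun i _ => hr i)
    rw [← hsum] at hmem
    exact AddMonoidHom.mem_mrange.1 hmem

noncomputable instance tgrDecomposition (k : ℕ) : DirectSum.Decomposition (tgr 𝒜 ℳ k) :=
  (tgr_isInternal 𝒜 ℳ k).chooseDecomposition

/-- the inclusion `M_{≥ k} → M`, semilinear over `idHom`. -/
def inclSemi (k : ℕ) : trunc A ℳ k →ₛₗ[(idHom 𝒜).toRingHom] M where
  toFun x := (x : M)
  map_add' _ _ := rfl
  map_smul' _ _ := rfl

end Mod

end Groth.Agent.Helper6.SigmaGr
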