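import Groth.Agent.Lib.Helper6.GammaStarIso

set_option autoImplicit false
universe u
open DirectSum CategoryTheory CategoryTheory.Limits AlgebraicGeometry Opposite TopologicalSpace Polynomial

namespace Groth.Agent.Helper6.GammaStar

open ProjFrac GStar

variable {R A : Type u} [CommRing R] [CommRing A] [Algebra R A] (𝒜 : ℕ → Submodule R A) [GradedAlgebra 𝒜]
variable (F : (Proj 𝒜).Modules) {ι : Type u} (f : ι → 𝒜 1)
variable (N : Submodule A (GStar 𝒜 F f))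

/-- the induced grading on a submodule of `Γ_*(F)`. -/
noncomputable def grN (n : ℕ) : Submodule R ↥N where
  carrier := {q | q.1 ∈ gr 𝒜 F f n}
  zero_mem' := (gr 𝒜 F f n).zero_mem
  add_mem' := fun ha hb => (gr 𝒜 F f n).add_mem ha hb
  smul_mem' := fun r _ hq => (gr 𝒜 F f n).smul_mem r hq

theorem mem_grN {n : ℕ} {q : ↥N} : q ∈ grN 𝒜 F f N n ↔ q.1 ∈ gr 𝒜 F f n := Iff.rfl

instance gradedSMulN : SetLike.GradedSMul 𝒜 (grN 𝒜 F f N) where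
  smul_mem := fun {_ _ _ _} ha hq => (SetLike.GradedSMul.smul_mem ha hq : _ ∈ gr 𝒜 F f _)

/-- homogeneity of a submodule, in terms of pieces. -/
def IsHomog : Prop := ∀ p ∈ N, ∀ n, (piece 𝒜 F f n p).1 ∈ N

theorem cf_coe_directSumN (x : ⨁ n, grN 𝒜 F f N n) (i : ι) (n : ℕ) :
    cf 𝒜 F f i n (DirectSum.coeAddMonoidHom (grN 𝒜 F f N) x).1 = cf 𝒜 F f i n (x n).1.1 := by
  induction x using DirectSum.induction_on with
  | zero => simp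
  | of n' y =>
    rw [DirectSum.coeAddMonoidHom_of]
    by_cases h : n' = n
    · subst h
      rw [DirectSum.of_eq_same]
    · rw [DirectSum.of_eq_of_ne _ _ _ (fun h' => h h'.symm)]
      rw [cf_of_mem_ne 𝒜 F f y.2 (fun h' => h h'.symm)]
      simp
  | add x y hx hy =>
    rw [map_add, Submodule.coe_add, map_add, hx, hy]
    simp

variable {N} in
theorem isInternalN [Finite ι] (hN : IsHomog 𝒜 F f N) : DirectSum.IsInternal (grN 𝒜 F f N) := by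
  classical
  haveI := Fintype.ofFinite ι
  constructor
  · rw [injective_iff_map_eq_zero]
    intro x hx
    ext n : 1
    apply Subtype.ext
    apply Subtype.ext
    apply ext_cf
    intro i n'
    by_cases h : n' = n
    · subst h
      rw [← cf_coe_directSumN, hx]
      simp
    · rw [cf_of_mem_ne 𝒜 F f (x n).2 h]
      simp
  · intro p
    let S : Finset ℕ := Finset.univ.biUnion fun i => (fam p.1 i).coeff.support
    refine ⟨∑ n ∈ S, DirectSum.of (fun n => grN 𝒜 F f N n) n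
      ⟨⟨(piece 𝒜 F f n p.1).1, hN p.1 p.2 n⟩, (piece 𝒜 F f n p.1).2⟩, ?_⟩
    apply Subtype.ext
    apply ext_cf
    intro i n'
    rw [map_sum, AddSubmonoidClass.coe_finsetSum, map_sum]
    simp only [DirectSum.coeAddMonoidHom_of, cf_piece]
    rw [Finset.sum_ite_eq' S n']
    split_ifs with h
    · rfl
    · symm
      by_contra hne
      apply h
      exact Finset.mem_biUnion.2 ⟨i, Finset.mem_univ _, Finsupp.mem_support_iff.2 hne⟩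

variable {N} in
/-- the decomposition of a homogeneous submodule. -/
@[instance_reducible]
noncomputable def decompositionN [Finite ι] (hN : IsHomog 𝒜 F f N) :
    DirectSum.Decomposition (grN 𝒜 F f N) :=
  (isInternalN 𝒜 F f hN).chooseDecomposition


/-- a local representation with numerator in the submodule `N`. -/
structure RepN (W : (Proj 𝒜).Opens) (τ : Γ(F, W)) (x : ProjectiveSpectrum 𝒜)
    extends Rep 𝒜 F f W τ x where
  hpN : p ∈ N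

namespace RepN

variable {𝒜 F f N}
variable {W : (Proj 𝒜).Opens} {τ τ' : Γ(F, W)} {x : ProjectiveSpectrum 𝒜}

/-- the value of a representation in the localized module of `N` at `x`. -/
noncomputable def val (r : RepN 𝒜 F f N W τ x) : GrTilde.LocMod 𝒜 (M := ↥N) x :=
  LocalizedModule.mk (⟨r.p, r.hpN⟩ : ↥N) ⟨r.b, notMem_of_le 𝒜 r.hVb x r.hxV⟩

/-- the value as an element of the degree-zero part. -/
noncomputable def valAt (r : RepN 𝒜 F f N W τ x) : GrTilde.tildeAt 𝒜 (grN 𝒜 F f N) 0 x :=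
  ⟨r.val, Submodule.subset_span ⟨r.n, r.n, ⟨⟨r.p, r.hpN⟩, r.hp⟩, ⟨r.b, r.hb⟩,
    notMem_of_le 𝒜 r.hVb x r.hxV, by simp, rfl⟩⟩

/-- the same representation at a nearby point. -/
def move (r : RepN 𝒜 F f N W τ x) (y : ProjectiveSpectrum 𝒜) (hy : (y : ↥(Proj 𝒜)) ∈ r.V) :
    RepN 𝒜 F f N W τ y :=
  ⟨r.toRep.move y hy, r.hpN⟩

/-- sum of representations. -/
noncomputable def add (r : RepN 𝒜 F f N W τ x) (r' : RepN 𝒜 F f N W τ' x) :
    RepN 𝒜 F f N W (τ + τ') x :=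
  ⟨r.toRep.add r'.toRep, N.add_mem (N.smul_mem _ r.hpN) (N.smul_mem _ r'.hpN)⟩

theorem add_val (r : RepN 𝒜 F f N W τ x) (r' : RepN 𝒜 F f N W τ' x) :
    (r.add r').val = r.val + r'.val := by
  unfold val
  rw [LocalizedModule.mk_add_mk]
  rfl

/-- scalar multiple of a representation by a local fraction. -/
noncomputable def smul (r : RepN 𝒜 F f N W τ x) (c : Γ(Proj 𝒜, W)) (V' : (Proj 𝒜).Opens)
    (hV'W : V' ≤ W)
    (hxV' : (x : ↥(Proj 𝒜)) ∈ V') (k : ℕ) (a s : A) (ha : a ∈ 𝒜 k) (hs : s ∈ 𝒜 k)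
    (hV's : V' ≤ Proj.basicOpen 𝒜 s)
    (hc : (Proj 𝒜).presheaf.map (homOfLE hV'W).op c = ofr 𝒜 k a s ha hs V' hV's) :
    RepN 𝒜 F f N W (c • τ) x :=
  ⟨r.toRep.smul c V' hV'W hxV' k a s ha hs hV's hc, N.smul_mem _ r.hpN⟩

theorem smul_val (r : RepN 𝒜 F f N W τ x) (c : Γ(Proj 𝒜, W)) (V' : (Proj 𝒜).Opens) (hV'W : V' ≤ W)
    (hxV' : (x : ↥(Proj 𝒜)) ∈ V') (k : ℕ) (a s : A) (ha : a ∈ 𝒜 k) (hs : s ∈ 𝒜 k)
    (hV's : V' ≤ Proj.basicOpen 𝒜 s)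
    (hc : (Proj 𝒜).presheaf.map (homOfLE hV'W).op c = ofr 𝒜 k a s ha hs V' hV's) :
    (r.smul c V' hV'W hxV' k a s ha hs hV's hc).val =
      (Localization.mk a ⟨s, notMem_of_le 𝒜 hV's x hxV'⟩ : Twist.Loc 𝒜 x) • r.val := by
  unfold val
  rw [LocalizedModule.mk_smul_mk]
  rfl

/-- restriction of a representation. -/
def restrict (r : RepN 𝒜 F f N W τ x) (W' : (Proj 𝒜).Opens) (hW' : W' ≤ W)
    (hx : (x : ↥(Proj 𝒜)) ∈ W') : RepN 𝒜 F f N W' (F.presheaf.map (homOfLE hW').op τ) x :=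
  ⟨r.toRep.restrict W' hW' hx, r.hpN⟩

theorem restrict_val (r : RepN 𝒜 F f N W τ x) (W' : (Proj 𝒜).Opens) (hW' : W' ≤ W)
    (hx : (x : ↥(Proj 𝒜)) ∈ W') : (r.restrict W' hW' hx).val = r.val := rfl

end RepN

section main

variable [F.IsQuasicoherent] [Finite ι]

/-- the extension property of a submodule: every section over `D₊(f_i)` is the `i`-th component
of a homogeneous element of `N` of any sufficiently large degree. -/
def HasExt : Prop := ∀ (i : ι) (t : Γ(F, Proj.basicOpen 𝒜 (f i).1)),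
  ∃ N₀ : ℕ, ∀ n : ℕ, N₀ ≤ n → ∃ p : GStar 𝒜 F f, p ∈ N ∧ p ∈ gr 𝒜 F f n ∧ cf 𝒜 F f i n p = t

namespace RepN

variable {𝒜 F f N}
variable {W : (Proj 𝒜).Opens} {τ τ' : Γ(F, W)} {x : ProjectiveSpectrum 𝒜}

theorem val_eq (r r' : RepN 𝒜 F f N W τ x) : r.val = r'.val := by
  have := Rep.val_eq r.toRep r'.toRep
  unfold Rep.val at this
  unfold val
  rw [LocalizedModule.mk_eq] at this ⊢
  obtain ⟨u, hu⟩ := this
  exact ⟨u, Subtype.ext hu⟩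

theorem valAt_eq (r r' : RepN 𝒜 F f N W τ x) : r.valAt = r'.valAt := Subtype.ext (val_eq r r')

end RepN

variable (hcov : ∀ x : ProjectiveSpectrum 𝒜, ∃ i, (f i).1 ∉ x.asHomogeneousIdeal)
variable (hext : HasExt 𝒜 F f N)

include hcov hext in
theorem nonempty_repN
    (W : (Proj 𝒜).Opens) (τ : Γ(F, W)) (x : ProjectiveSpectrum 𝒜) (hx : (x : ↥(Proj 𝒜)) ∈ W) :
    Nonempty (RepN 𝒜 F f N W τ x) := by
  obtain ⟨i, hi⟩ := hcov x
  have hxi : (x : ↥(Proj 𝒜)) ∈ Proj.basicOpen 𝒜 (f i).1 :=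
    (ProjectiveSpectrum.mem_basicOpen 𝒜 _ x).2 hi
  have hxWi : (x : ↥(Proj 𝒜)) ∈ W ⊓ Proj.basicOpen 𝒜 (f i).1 := ⟨hx, hxi⟩
  obtain ⟨d, g, hg, hgx, hgV⟩ := exists_homogeneous_basicOpen 𝒜 x _ hxWi
  have hxg : (x : ↥(Proj 𝒜)) ∈ Proj.basicOpen 𝒜 g := (ProjectiveSpectrum.mem_basicOpen 𝒜 _ x).2 hgx
  have hVi : Proj.basicOpen 𝒜 (f i).1 ⊓ Proj.basicOpen 𝒜 g ≤ Proj.basicOpen 𝒜 (f i).1 := inf_le_left
  have hVg : Proj.basicOpen 𝒜 (f i).1 ⊓ Proj.basicOpen 𝒜 g ≤ Proj.basicOpen 𝒜 g := inf_le_right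
  have hVW : Proj.basicOpen 𝒜 (f i).1 ⊓ Proj.basicOpen 𝒜 g ≤ W := hVg.trans (hgV.trans inf_le_left)
  obtain ⟨e, t, het⟩ := d1 𝒜 F f i d g hg _ hVi rfl (F.presheaf.map (homOfLE hVW).op τ)
  obtain ⟨N₀, hN₀⟩ := hext i t
  obtain ⟨p, hpN, hp, hpt⟩ := hN₀ (e • d + N₀) (Nat.le_add_left _ _)
  have hb : g ^ e * (f i).1 ^ N₀ ∈ 𝒜 (e • d + N₀) :=
    SetLike.mul_mem_graded (SetLike.pow_mem_graded e hg) (pow_mem1 𝒜 (f i).2 N₀)
  have hVb : Proj.basicOpen 𝒜 (f i).1 ⊓ Proj.basicOpen 𝒜 g ≤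
      Proj.basicOpen 𝒜 (g ^ e * (f i).1 ^ N₀) :=
    le_basicOpen_mul 𝒜 (hVg.trans (le_basicOpen_pow 𝒜 e)) (hVi.trans (le_basicOpen_pow 𝒜 N₀))
  refine ⟨⟨⟨i, e • d + N₀, _, p, Proj.basicOpen 𝒜 (f i).1 ⊓ Proj.basicOpen 𝒜 g, hb, hp, ⟨hxi, hxg⟩,
    hVW, hVi, hVb, ?_⟩, hpN⟩⟩
  unfold sF
  rw [hpt, ← het, ← mul_smul]
  have : ofr 𝒜 (e • d + N₀) ((f i).1 ^ (e • d + N₀)) (g ^ e * (f i).1 ^ N₀)
      (pow_mem1 𝒜 (f i).2 _) hb _ hVb *
      ((Proj 𝒜).presheaf.map (homOfLE hVi).op (rr 𝒜 f i d g hg)) ^ e = 1 := by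
    unfold rr q1
    rw [res_ofr, ofr_pow, ofr_mul_ofr]
    refine ofr_eq_one 𝒜 _ _ _ _ ?_
    rw [smul_eq_mul, pow_add, pow_mul]
    ring
  rw [this, one_smul]

/-- the pointwise values of the comparison map. -/
noncomputable def ΘfunN (W : (Proj 𝒜).Opens) (τ : Γ(F, W)) :
    ∀ x : W, GrTilde.tildeAt 𝒜 (grN 𝒜 F f N) 0 x.1 :=
  fun x => (Classical.choice (nonempty_repN 𝒜 F f N hcov hext W τ x.1 x.2)).valAt

theorem ΘfunN_eq (W : (Proj 𝒜).Opens) (τ : Γ(F, W)) (x : ProjectiveSpectrum 𝒜)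
    (hx : (x : ↥(Proj 𝒜)) ∈ W) (r : RepN 𝒜 F f N W τ x) :
    ΘfunN 𝒜 F f N hcov hext W τ ⟨x, hx⟩ = r.valAt := RepN.valAt_eq _ _

/-- the comparison map on sections. -/
noncomputable def ΘsecN (W : (Proj 𝒜).Opens) (τ : Γ(F, W)) :
    GrTilde.sect 𝒜 (grN 𝒜 F f N) 0 (op W) :=
  ⟨ΘfunN 𝒜 F f N hcov hext W τ, fun x => by
    obtain ⟨r⟩ := nonempty_repN 𝒜 F f N hcov hext W τ x.1 x.2
    refine ⟨r.V, r.hxV, homOfLE r.hVW, r.n, r.n, ⟨⟨r.p, r.hpN⟩, r.hp⟩, ⟨r.b, r.hb⟩,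
      fun y => notMem_of_le 𝒜 r.hVb y.1 y.2, Or.inl (by simp), fun y => ?_⟩
    exact congrArg Subtype.val (ΘfunN_eq 𝒜 F f N hcov hext W τ y.1 (r.hVW y.2) (r.move y.1 y.2))⟩

theorem ΘsecN_val (W : (Proj 𝒜).Opens) (τ : Γ(F, W)) (x : ProjectiveSpectrum 𝒜)
    (hx : (x : ↥(Proj 𝒜)) ∈ W) (r : RepN 𝒜 F f N W τ x) :
    (((ΘsecN 𝒜 F f N hcov hext W τ).1 ⟨x, hx⟩).1 : GrTilde.LocMod 𝒜 (M := ↥N) x) = r.val :=
  congrArg Subtype.val (ΘfunN_eq 𝒜 F f N hcov hext W τ x hx r)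

theorem ΘsecN_add (W : (Proj 𝒜).Opens) (τ τ' : Γ(F, W)) :
    ΘsecN 𝒜 F f N hcov hext W (τ + τ') =
      ΘsecN 𝒜 F f N hcov hext W τ + ΘsecN 𝒜 F f N hcov hext W τ' := by
  apply Subtype.ext
  funext x
  apply Subtype.ext
  obtain ⟨r⟩ := nonempty_repN 𝒜 F f N hcov hext W τ x.1 x.2
  obtain ⟨r'⟩ := nonempty_repN 𝒜 F f N hcov hext W τ' x.1 x.2
  change (((ΘsecN 𝒜 F f N hcov hext W (τ + τ')).1 ⟨x.1, x.2⟩).1 : GrTilde.LocMod 𝒜 (M := ↥N) x.1) =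
    (((ΘsecN 𝒜 F f N hcov hext W τ).1 ⟨x.1, x.2⟩).1 : GrTilde.LocMod 𝒜 (M := ↥N) x.1) +
    (((ΘsecN 𝒜 F f N hcov hext W τ').1 ⟨x.1, x.2⟩).1 : GrTilde.LocMod 𝒜 (M := ↥N) x.1)
  rw [ΘsecN_val 𝒜 F f N hcov hext W _ x.1 x.2 (r.add r'), ΘsecN_val 𝒜 F f N hcov hext W _ x.1 x.2 r,
    ΘsecN_val 𝒜 F f N hcov hext W _ x.1 x.2 r', RepN.add_val]

theorem ΘsecN_smul (W : (Proj 𝒜).Opens) (c : Γ(Proj 𝒜, W)) (τ : Γ(F, W)) :
    ΘsecN 𝒜 F f N hcov hext W (c • τ) =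
      (show Twist.O (𝒜 := 𝒜) (op W) from c) • ΘsecN 𝒜 F f N hcov hext W τ := by
  apply Subtype.ext
  funext x
  apply Subtype.ext
  obtain ⟨r⟩ := nonempty_repN 𝒜 F f N hcov hext W τ x.1 x.2
  obtain ⟨V', hV'W, hxV', k, a, s, ha, hs, hV's, hc⟩ := exists_local_ofr 𝒜 W c x.1 x.2
  change (((ΘsecN 𝒜 F f N hcov hext W (c • τ)).1 ⟨x.1, x.2⟩).1 : GrTilde.LocMod 𝒜 (M := ↥N) x.1) =
    (((c.1 ⟨x.1, x.2⟩ • (ΘsecN 𝒜 F f N hcov hext W τ).1 ⟨x.1, x.2⟩ :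
      GrTilde.tildeAt 𝒜 (grN 𝒜 F f N) 0 x.1)) : GrTilde.LocMod 𝒜 (M := ↥N) x.1)
  rw [GrTilde.coe_smul_val,
    ΘsecN_val 𝒜 F f N hcov hext W _ x.1 x.2 (r.smul c V' hV'W hxV' k a s ha hs hV's hc),
    ΘsecN_val 𝒜 F f N hcov hext W _ x.1 x.2 r, RepN.smul_val]
  congr 1
  have := congrArg (fun q : Γ(Proj 𝒜, V') => ((q.1 ⟨x.1, hxV'⟩ : Twist.A0 𝒜 x.1)).val) hc
  exact this.symm

theorem ΘsecN_res (W W' : (Proj 𝒜).Opens) (hW' : W' ≤ W) (τ : Γ(F, W)) :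
    ΘsecN 𝒜 F f N hcov hext W' (F.presheaf.map (homOfLE hW').op τ) =
      GrTilde.res 𝒜 (grN 𝒜 F f N) 0 (homOfLE hW').op (ΘsecN 𝒜 F f N hcov hext W τ) := by
  apply Subtype.ext
  funext x
  apply Subtype.ext
  obtain ⟨r⟩ := nonempty_repN 𝒜 F f N hcov hext W τ x.1 (hW' x.2)
  change (((ΘsecN 𝒜 F f N hcov hext W' _).1 ⟨x.1, x.2⟩).1 : GrTilde.LocMod 𝒜 (M := ↥N) x.1) =
    (((ΘsecN 𝒜 F f N hcov hext W τ).1 ⟨x.1, hW' x.2⟩).1 : GrTilde.LocMod 𝒜 (M := ↥N) x.1)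
  rw [ΘsecN_val 𝒜 F f N hcov hext W' _ x.1 x.2 (r.restrict W' hW' x.2),
    ΘsecN_val 𝒜 F f N hcov hext W _ x.1 (hW' x.2) r, RepN.restrict_val]

/-- the comparison morphism `F ⟶ N~`. -/
noncomputable def ΘN : F ⟶ GrTilde.tilde 𝒜 (grN 𝒜 F f N) 0 :=
  (⟨PresheafOfModules.homMk (M₁ := F.val) (M₂ := GrTilde.tildePMod 𝒜 (grN 𝒜 F f N) 0)
    { app := fun U => AddCommGrpCat.ofHom
        { toFun := fun τ => ΘsecN 𝒜 F f N hcov hext U.unop τ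
          map_zero' := by
            have := ΘsecN_add 𝒜 F f N hcov hext U.unop 0 0
            rw [add_zero] at this
            exact left_eq_add.mp this
          map_add' := ΘsecN_add 𝒜 F f N hcov hext U.unop }
      naturality := fun U V i => by
        ext τ
        exact ΘsecN_res 𝒜 F f N hcov hext U.unop V.unop i.unop.le τ }
    (fun U c τ => ΘsecN_smul 𝒜 F f N hcov hext U.unop c τ)⟩ : SheafOfModules.Hom _ _)

theorem ΘsecN_eq_zero (W : (Proj 𝒜).Opens) (τ : Γ(F, W))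
    (h : ΘsecN 𝒜 F f N hcov hext W τ = 0) : τ = 0 := by
  have hloc : ∀ x : W, ∃ (V : (Proj 𝒜).Opens) (_ : x.1 ∈ V) (hVW : V ≤ W),
      F.presheaf.map (homOfLE hVW).op τ = 0 := by
    intro x
    obtain ⟨r⟩ := nonempty_repN 𝒜 F f N hcov hext W τ x.1 x.2
    have hv : r.val = 0 := by
      rw [← ΘsecN_val 𝒜 F f N hcov hext W τ x.1 x.2 r, h]
      rfl
    unfold RepN.val at hv
    rw [← LocalizedModule.zero_mk (1 : (x.1 : ProjectiveSpectrum 𝒜).asHomogeneousIdeal.toIdeal.primeCompl),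
      LocalizedModule.mk_eq] at hv
    obtain ⟨u, hu⟩ := hv
    rw [one_smul, smul_zero, smul_zero] at hu
    have hu' : u.1 • r.p = 0 := congrArg Subtype.val hu
    obtain ⟨c, u', hu', hu'x, hu'p⟩ :=
      exists_homogeneous_smul_eq_zero 𝒜 F f r.hp x.1 u.1 u.2 hu'
    have hxu' : (x.1 : ↥(Proj 𝒜)) ∈ Proj.basicOpen 𝒜 u' :=
      (ProjectiveSpectrum.mem_basicOpen 𝒜 _ _).2 hu'x
    refine ⟨r.V ⊓ Proj.basicOpen 𝒜 u', ⟨r.hxV, hxu'⟩, inf_le_left.trans r.hVW, ?_⟩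
    have hVi : r.V ⊓ Proj.basicOpen 𝒜 u' ≤ Proj.basicOpen 𝒜 (f r.i).1 := inf_le_left.trans r.hVi
    rw [← res_res 𝒜 F r.hVW inf_le_left, r.eq, res_sF]
    unfold sF
    have h0 : F.presheaf.map (homOfLE hVi).op (cf 𝒜 F f r.i (c + r.n) (u' • r.p)) = 0 := by
      rw [hu'p, map_zero, map_zero]
    rw [smul_cf' 𝒜 F f hu', Scheme.Modules.map_smul] at h0
    unfold rr q1 at h0
    rw [res_ofr] at h0
    have hunit := isUnit_ofr 𝒜 hu' (pow_mem1 𝒜 (f r.i).2 c) (r.V ⊓ Proj.basicOpen 𝒜 u')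
      (hVi.trans (le_basicOpen_pow 𝒜 c)) inf_le_right
    rw [(hunit.smul_eq_zero).1 h0, smul_zero]
  choose V hxV hVW hV0 using hloc
  refine TopCat.Sheaf.eq_of_locally_eq' ⟨_, F.isSheaf⟩ V W (fun x => homOfLE (hVW x))
    (fun y hy => Opens.mem_iSup.2 ⟨⟨y, hy⟩, hxV ⟨y, hy⟩⟩) τ 0 (fun x => ?_)
  rw [map_zero]
  exact hV0 x

theorem ΘN_injective (W : (Proj 𝒜).Opens) :
    Function.Injective ((ΘN 𝒜 F f N hcov hext).val.app (op W)).hom := by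
  rw [injective_iff_map_eq_zero]
  intro τ h
  exact ΘsecN_eq_zero 𝒜 F f N hcov hext W τ h

theorem ΘsecN_surjective (hN : IsHomog 𝒜 F f N) (i : ι) (d : ℕ) (g : A) (hg : g ∈ 𝒜 d) :
    Function.Surjective (ΘsecN 𝒜 F f N hcov hext (Proj.basicOpen 𝒜 ((f i).1 * g))) := by
  letI := decompositionN 𝒜 F f hN
  intro σ
  have hh : (f i).1 * g ∈ 𝒜 (1 + d) := SetLike.mul_mem_graded (f i).2 hg
  obtain ⟨L, q, m, hm, hq, hval⟩ := QcohProj.exists_global_frac' 𝒜 (grN 𝒜 F f N) 0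
    (by omega : 0 < 1 + d) hh (Proj.basicOpen 𝒜 ((f i).1 * g))
    (fun x => ProjectiveSpectrum.mem_basicOpen 𝒜 _ x) σ
  have hq' : q = L • (1 + d) := by
    rw [smul_eq_mul]
    have : (q : ℤ) = ((L * (1 + d) : ℕ) : ℤ) := by
      rw [hq]
      push_cast
      ring
    exact_mod_cast this
  have hb : ((f i).1 * g) ^ L ∈ 𝒜 q := by
    rw [hq']
    exact SetLike.pow_mem_graded L hh
  have hWi : Proj.basicOpen 𝒜 ((f i).1 * g) ≤ Proj.basicOpen 𝒜 (f i).1 := by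
    rw [Proj.basicOpen_mul]
    exact inf_le_left
  have hWb : Proj.basicOpen 𝒜 ((f i).1 * g) ≤ Proj.basicOpen 𝒜 (((f i).1 * g) ^ L) :=
    le_basicOpen_pow 𝒜 L
  refine ⟨sF 𝒜 F f i q _ hb m.1 _ hWi hWb, ?_⟩
  apply Subtype.ext
  funext y
  apply Subtype.ext
  let r : RepN 𝒜 F f N (Proj.basicOpen 𝒜 ((f i).1 * g)) (sF 𝒜 F f i q _ hb m.1 _ hWi hWb) y.1 :=
    ⟨⟨i, q, _, m.1, Proj.basicOpen 𝒜 ((f i).1 * g), hb, hm, y.2, le_rfl, hWi, hWb,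
      by
        have : homOfLE (le_rfl : Proj.basicOpen 𝒜 ((f i).1 * g) ≤ _) = 𝟙 _ := rfl
        rw [this, op_id, F.presheaf.map_id]
        rfl⟩, m.2⟩
  have := ΘsecN_val 𝒜 F f N hcov hext _ _ y.1 y.2 r
  refine this.trans ?_
  exact (hval y.1 y.2).symm

theorem isIso_ΘN (hN : IsHomog 𝒜 F f N) : IsIso (ΘN 𝒜 F f N hcov hext) := by
  rw [← isIso_iff_of_reflects_iso _ (Scheme.Modules.toPresheaf (Proj 𝒜))]
  let ψ : (⟨F.presheaf, F.isSheaf⟩ : TopCat.Sheaf Ab (Proj 𝒜)) ⟶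
      ⟨(GrTilde.tilde 𝒜 (grN 𝒜 F f N) 0).presheaf, Scheme.Modules.isSheaf _⟩ :=
    ⟨(Scheme.Modules.toPresheaf _).map (ΘN 𝒜 F f N hcov hext)⟩
  have hψ : IsIso ψ := by
    refine TopCat.Sheaf.isIso_iff_isIso_basis (B := Bas 𝒜 f) (isBasis_Bas 𝒜 f hcov) (fun idx => ?_)
    rw [ConcreteCategory.isIso_iff_bijective]
    exact ⟨ΘN_injective 𝒜 F f N hcov hext _,
      ΘsecN_surjective 𝒜 F f N hcov hext hN idx.1 idx.2.1 idx.2.2.1 idx.2.2.2⟩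
  exact @Functor.map_isIso _ _ _ _ _ _ (TopCat.Sheaf.forget Ab _) ψ hψ

end main


section span

theorem piece_of_mem {d : ℕ} {q : GStar 𝒜 F f} (hq : q ∈ gr 𝒜 F f d) (n : ℕ) :
    (piece 𝒜 F f n q).1 = if n = d then q else 0 := by
  apply ext_cf
  intro i n'
  rw [cf_piece]
  by_cases h1 : n = d
  · rw [if_pos h1]
    by_cases h2 : n = n'
    · rw [if_pos h2]
    · rw [if_neg h2, cf_of_mem_ne 𝒜 F f hq (fun h => h2 (h1.trans h.symm))]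
  · rw [if_neg h1, map_zero]
    by_cases h2 : n = n'
    · rw [if_pos h2, cf_of_mem_ne 𝒜 F f hq (fun h => h1 (h2.trans h))]
    · rw [if_neg h2]

theorem piece_add (n : ℕ) (p p' : GStar 𝒜 F f) :
    (piece 𝒜 F f n (p + p')).1 = (piece 𝒜 F f n p).1 + (piece 𝒜 F f n p').1 := by
  apply ext_cf
  intro i n'
  rw [map_add, cf_piece, cf_piece, cf_piece]
  split_ifs
  · rw [map_add]
  · rw [add_zero]

theorem piece_zero (n : ℕ) : (piece 𝒜 F f n (0 : GStar 𝒜 F f)).1 = 0 := by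
  apply ext_cf
  intro i n'
  rw [cf_piece]
  split_ifs <;> simp

theorem isHomog_span (S : Set (GStar 𝒜 F f)) (hS : ∀ p ∈ S, ∃ n, p ∈ gr 𝒜 F f n) :
    IsHomog 𝒜 F f (Submodule.span A S) := by
  classical
  intro p hp
  induction hp using Submodule.closure_induction with
  | zero =>
    intro n
    rw [piece_zero]
    exact zero_mem _
  | add x y _ _ hx hy =>
    intro n
    rw [piece_add]
    exact add_mem (hx n) (hy n)
  | smul_mem a s hs =>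
    intro n
    obtain ⟨d, hd⟩ := hS s hs
    rw [← DirectSum.sum_support_decompose 𝒜 a, Finset.sum_smul]
    refine Finset.sum_induction _ (fun q => (piece 𝒜 F f n q).1 ∈ Submodule.span A S)
      (fun q q' hq hq' => by rw [piece_add]; exact add_mem hq hq')
      (by rw [piece_zero]; exact zero_mem _) (fun j _ => ?_)
    have hmem : (decompose 𝒜 a j : A) • s ∈ gr 𝒜 F f (j + d) :=
      SetLike.GradedSMul.smul_mem (decompose 𝒜 a j).2 hd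
    rw [piece_of_mem 𝒜 F f hmem]
    split_ifs
    · exact Submodule.smul_mem _ _ (Submodule.subset_span hs)
    · exact zero_mem _

end span

section ext

theorem ofr_pow_den {e k : ℕ} {g fi : A} (hfi : fi ∈ 𝒜 1) (hg : g ∈ 𝒜 e) (hfk : fi ^ k ∈ 𝒜 e)
    (V : (Proj 𝒜).Opens) (hV : V ≤ Proj.basicOpen 𝒜 fi) :
    ofr 𝒜 e g (fi ^ e) hg (pow_mem1 𝒜 hfi e) V (hV.trans (le_basicOpen_pow 𝒜 e)) =
      ofr 𝒜 e g (fi ^ k) hg hfk V (hV.trans (le_basicOpen_pow 𝒜 k)) := by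
  by_cases h : e = k
  · subst h
    rfl
  · apply ext_val
    intro x hx
    exfalso
    have h0 : fi ^ k = 0 := by
      by_contra hne
      exact h (DirectSum.degree_eq_of_mem_mem 𝒜 hfk (pow_mem1 𝒜 hfi k) hne)
    have := notMem_of_le 𝒜 (hV.trans (le_basicOpen_pow 𝒜 k)) x hx
    rw [h0] at this
    exact this (zero_mem _)

/-- the sections over `D₊(f_i)` which extend to homogeneous elements of `N` in all large degrees. -/
noncomputable def extSub (i : ι) :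
    Submodule Γ(Proj 𝒜, Proj.basicOpen 𝒜 (f i).1) Γ(F, Proj.basicOpen 𝒜 (f i).1) where
  carrier := {t | ∃ N₀ : ℕ, ∀ n : ℕ, N₀ ≤ n →
    ∃ p : GStar 𝒜 F f, p ∈ N ∧ p ∈ gr 𝒜 F f n ∧ cf 𝒜 F f i n p = t}
  zero_mem' := ⟨0, fun n _ => ⟨0, N.zero_mem, (gr 𝒜 F f n).zero_mem, map_zero _⟩⟩
  add_mem' := by
    rintro t t' ⟨N₀, h⟩ ⟨N₀', h'⟩
    refine ⟨max N₀ N₀', fun n hn => ?_⟩
    obtain ⟨p, hpN, hp, hpt⟩ := h n (le_of_max_le_left hn)
    obtain ⟨p', hpN', hp', hpt'⟩ := h' n (le_of_max_le_right hn)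
    exact ⟨p + p', N.add_mem hpN hpN', (gr 𝒜 F f n).add_mem hp hp', by rw [map_add, hpt, hpt']⟩
  smul_mem' := by
    rintro c t ⟨N₀, h⟩
    obtain ⟨e, k, g, hg, hfk, hc⟩ := exists_ofr 𝒜 Nat.one_pos (f i).2 c
    refine ⟨e + N₀, fun n hn => ?_⟩
    obtain ⟨m, rfl⟩ := Nat.exists_eq_add_of_le hn
    obtain ⟨p, hpN, hp, hpt⟩ := h (N₀ + m) (Nat.le_add_right _ _)
    refine ⟨g • p, N.smul_mem _ hpN, ?_, ?_⟩
    · rw [add_assoc]
      exact SetLike.GradedSMul.smul_mem hg hp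
    · rw [add_assoc, smul_cf' 𝒜 F f hg, hpt, hc]
      congr 1
      exact ofr_pow_den 𝒜 (f i).2 hg hfk _ le_rfl

theorem hasExt_of_extSub (h : ∀ i, extSub 𝒜 F f N i = ⊤) : HasExt 𝒜 F f N := by
  intro i t
  have : t ∈ extSub 𝒜 F f N i := by rw [h i]; trivial
  exact this

end ext


section fg

theorem cf_mem_extSub {i : ι} {n₀ : ℕ} {p : GStar 𝒜 F f} (hpN : p ∈ N) (hp : p ∈ gr 𝒜 F f n₀) :
    cf 𝒜 F f i n₀ p ∈ extSub 𝒜 F f N i := by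
  refine ⟨n₀, fun n hn => ?_⟩
  obtain ⟨m, rfl⟩ := Nat.exists_eq_add_of_le hn
  refine ⟨(f i).1 ^ m • p, N.smul_mem _ hpN, ?_, ?_⟩
  · rw [add_comm]
    exact SetLike.GradedSMul.smul_mem (pow_mem1 𝒜 (f i).2 m) hp
  · rw [add_comm, smul_cf' 𝒜 F f (pow_mem1 𝒜 (f i).2 m)]
    unfold rr q1
    rw [ofr_self, one_smul]

theorem exists_fg_sub [F.IsQuasicoherent] [Finite ι]
    (hfin : ∀ i, Module.Finite Γ(Proj 𝒜, Proj.basicOpen 𝒜 (f i).1) Γ(F, Proj.basicOpen 𝒜 (f i).1)) :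
    ∃ N : Submodule A (GStar 𝒜 F f), N.FG ∧ IsHomog 𝒜 F f N ∧ HasExt 𝒜 F f N := by
  classical
  have h1 : ∀ i, ∃ G : Finset Γ(F, Proj.basicOpen 𝒜 (f i).1),
      Submodule.span Γ(Proj 𝒜, Proj.basicOpen 𝒜 (f i).1)
        (G : Set Γ(F, Proj.basicOpen 𝒜 (f i).1)) = ⊤ := fun i => Submodule.fg_def.1 (hfin i).fg_top |>.elim
          fun S hS => ⟨hS.1.toFinset, by rw [Set.Finite.coe_toFinset]; exact hS.2⟩
  choose G hG using h1
  have h2 : ∀ (i : ι) (t : Γ(F, Proj.basicOpen 𝒜 (f i).1)), ∃ (n : ℕ) (p : GStar 𝒜 F f),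
      p ∈ gr 𝒜 F f n ∧ cf 𝒜 F f i n p = t := fun i t => by
    obtain ⟨N₀, h⟩ := exists_extension 𝒜 F f i t
    obtain ⟨p, hp, hpt⟩ := h N₀ le_rfl
    exact ⟨N₀, p, hp, hpt⟩
  choose deg lift hlift_gr hlift_cf using h2
  let S : Set (GStar 𝒜 F f) := ⋃ i, (fun t => lift i t) '' (G i : Set Γ(F, Proj.basicOpen 𝒜 (f i).1))
  have hSfin : S.Finite := Set.finite_iUnion (fun i => (G i).finite_toSet.image _)
  refine ⟨Submodule.span A S, Submodule.fg_span hSfin, isHomog_span 𝒜 F f S ?_,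
    hasExt_of_extSub 𝒜 F f _ (fun i => ?_)⟩
  · intro p hp
    obtain ⟨i, hi⟩ := Set.mem_iUnion.1 hp
    obtain ⟨t, _, rfl⟩ := hi
    exact ⟨deg i t, hlift_gr i t⟩
  · rw [eq_top_iff, ← hG i, Submodule.span_le]
    intro t ht
    have hmem : lift i t ∈ Submodule.span A S :=
      Submodule.subset_span (Set.mem_iUnion.2 ⟨i, t, ht, rfl⟩)
    have := cf_mem_extSub 𝒜 F f (Submodule.span A S) (i := i) hmem (hlift_gr i t)
    rwa [hlift_cf] at this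

end fg

end Groth.Agent.Helper6.GammaStar
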