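import Mathlib
import Groth.Agent.Lib.Helper6.CoindA
import Groth.Agent.Lib.Helper6.VeroOffA
import Groth.Agent.Lib.Helper6.SigmaGrA
import Groth.Agent.Lib.Helper7.Graded3
import Groth.Agent.Lib.Helper13.PushFinite
import Groth.Agent.S3551

/-!
# Coherent modules on `Proj A`, `A` Noetherian with generators of any degree, are `M~` (helper6)

`isoOfPush`: for an isomorphism of schemes `h`, an isomorphism `h_* X₁ ≅ h_* X₂` gives `X₁ ≅ X₂`.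
`main`: every coherent module on `Proj 𝒜` (`A` Noetherian) is `M~` for a finite graded `M`:
pass to the Veronese subring generated in degree one (S3551) and coinduce (`CoindA`).
-/

set_option autoImplicit false
set_option linter.style.haveILetI false
set_option linter.unusedSectionVars false
set_option linter.unusedVariables false
universe u
open CategoryTheory CategoryTheory.Limits AlgebraicGeometry

namespace Groth.Agent.Helper6.Coind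

open Groth.Agent.Helper6.VeroTF Groth.Agent.Helper6.SigmaGr Groth.Agent.Helper6

attribute [local instance] ULift.algebra'

/-- `(h⁻¹)_* h_* X₁ ≅ X₁` for an isomorphism `h`. -/
noncomputable def pushIso {X Y : Scheme.{u}} (h : X ⟶ Y) [IsIso h] (X1 : X.Modules) :
    (Scheme.Modules.pushforward (inv h)).obj ((Scheme.Modules.pushforward h).obj X1) ≅ X1 :=
  (Scheme.Modules.pushforwardComp h (inv h)).app X1 ≪≫
    (Scheme.Modules.pushforwardCongr (IsIso.hom_inv_id h)).app X1 ≪≫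
    (Scheme.Modules.pushforwardId X).app X1

/-- pushforward along an isomorphism reflects isomorphy. -/
noncomputable def isoOfPush {X Y : Scheme.{u}} (h : X ⟶ Y) [IsIso h] {X1 X2 : X.Modules}
    (e : (Scheme.Modules.pushforward h).obj X1 ≅ (Scheme.Modules.pushforward h).obj X2) :
    X1 ≅ X2 :=
  (pushIso h X1).symm ≪≫ (Scheme.Modules.pushforward (inv h)).mapIso e ≪≫ pushIso h X2

set_option maxHeartbeats 1600000 in
theorem main {R A : Type u} [CommRing R] [CommRing A] [Algebra R A]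
    (𝒜 : ℕ → Submodule R A) [GradedAlgebra 𝒜] [IsNoetherianRing A] (F : (Proj 𝒜).Modules)
    (hF : Coh.IsCoh F) :
    ∃ (M : Type u) (_ : AddCommGroup M) (_ : Module R M) (_ : Module A M)
      (_ : IsScalarTower R A M)
      (ℳ : ℕ → Submodule R M) (_ : DirectSum.Decomposition ℳ) (_ : SetLike.GradedSMul 𝒜 ℳ),
      Module.Finite A M ∧ Nonempty (GrTilde.tilde 𝒜 ℳ 0 ≅ F) := by
  classical
  haveI hft : Algebra.FiniteType (zgr 𝒜 0) A :=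
    ((Groth.Agent.Helper7.Graded.isNoetherianRing_iff (zgr 𝒜)).mp inferInstance).2
  obtain ⟨d, hd, hpow⟩ := Groth.Agent.Helper7.Graded.exists_pow_eq (zgr 𝒜)
  haveI : NeZero d := ⟨hd.ne'⟩
  haveI := vsub_isNoetherianRing 𝒜 d
  have hgenB := vgr_irrelevant_eq 𝒜 d hpow
  have hgenZ := irrelevant_zgr_eq_span (vgr 𝒜 d) hgenB
  have hφd : ∀ n b, b ∈ zgr (vgr 𝒜 d) n → (vsub 𝒜 d).subtype b ∈ 𝒜 (n * d) :=
    fun n b hb => hb
  have hsurj : ∀ n a, a ∈ 𝒜 (n * d) → ∃ b ∈ zgr (vgr 𝒜 d) n, (vsub 𝒜 d).subtype b = a :=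
    fun n a ha => ⟨⟨a, mem_vsub_of_mem 𝒜 d ha⟩, ha, rfl⟩
  haveI hiso : IsIso (Veronese.hom 𝒜 (zgr (vgr 𝒜 d)) d (vsub 𝒜 d).subtype hd hφd hsurj) :=
    Veronese.isIso_hom 𝒜 (zgr (vgr 𝒜 d)) d (vsub 𝒜 d).subtype hd hφd hsurj
      Subtype.val_injective
  -- the pushforward of `F` to the Veronese `Proj`
  haveI : F.IsQuasicoherent := hF.1
  have hq' : Coh.IsQCoh ((Scheme.Modules.pushforward
      (Veronese.hom 𝒜 (zgr (vgr 𝒜 d)) d (vsub 𝒜 d).subtype hd hφd hsurj)).obj F) :=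
    Groth.Agent.Helper13.QCohPush.isQuasicoherent_pushforward _ F
  have hft' : CohB1.IsFT ((Scheme.Modules.pushforward
      (Veronese.hom 𝒜 (zgr (vgr 𝒜 d)) d (vsub 𝒜 d).subtype hd hφd hsurj)).obj F) :=
    (Groth.Agent.Helper13.PushFinite.isFiniteType_pushforward_iff _ F).1 hF.2
  -- finitely many generators of degree one
  obtain ⟨s, hss, hspan⟩ := (Submodule.fg_span_iff_fg_span_finset_subset
    (R := vsub 𝒜 d) ((zgr (vgr 𝒜 d) 1 : Submodule _ (vsub 𝒜 d)) : Set (vsub 𝒜 d))).1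
      (IsNoetherian.noetherian _)
  obtain ⟨N, iN1, iN2, iN3, iN4, 𝒩, iN5, iN6, hNfin, ⟨eN⟩⟩ :=
    Groth.Agent.S3551.result (zgr (vgr 𝒜 d)) s (fun f hf => hss (Finset.mem_coe.2 hf))
      (hgenZ.trans hspan) _ hq' hft'
  have hsm : ∀ (j k : ℕ) (b : vsub 𝒜 d) (n : N), (b : A) ∈ 𝒜 (j * d) → n ∈ 𝒩 k →
      b • n ∈ 𝒩 (j + k) := fun j k b n hb hn =>
    SetLike.GradedSMul.smul_mem (A := zgr (vgr 𝒜 d)) (B := 𝒩) (i := j) (j := k) hb hn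
  letI decM : DirectSum.Decomposition (gr 𝒜 d 𝒩) :=
    (gr_isInternal 𝒜 d 𝒩 hd hsm).chooseDecomposition
  haveI hvi := VeroOff.isIso_vcomap 𝒜 (zgr (vgr 𝒜 d)) d (vsub 𝒜 d).subtype hd hφd
    (Veronese.hom 𝒜 (zgr (vgr 𝒜 d)) d (vsub 𝒜 d).subtype hd hφd hsurj)
    (fun n g hn hg => Veronese.awayι_hom 𝒜 (zgr (vgr 𝒜 d)) d (vsub 𝒜 d).subtype hd hφd hsurj hn hg)
    (fun y => Veronese.hom_base_toIdeal 𝒜 (zgr (vgr 𝒜 d)) d (vsub 𝒜 d).subtype hd hφd hsurj y)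
    (gr 𝒜 d 𝒩) 𝒩 0 (vmap 𝒜 d (N := N))
    (fun i x hx => vmap_mem 𝒜 d 𝒩 hx) hd (vmap_injective 𝒜 d)
    (fun i m hm => exists_of_mem_gr 𝒜 d 𝒩 hd hsm hm) 0
  have e1 := asIso (VeroOff.vcomap 𝒜 (zgr (vgr 𝒜 d)) d (vsub 𝒜 d).subtype hd hφd
    (Veronese.hom 𝒜 (zgr (vgr 𝒜 d)) d (vsub 𝒜 d).subtype hd hφd hsurj)
    (fun n g hn hg => Veronese.awayι_hom 𝒜 (zgr (vgr 𝒜 d)) d (vsub 𝒜 d).subtype hd hφd hsurj hn hg)
    (fun y => Veronese.hom_base_toIdeal 𝒜 (zgr (vgr 𝒜 d)) d (vsub 𝒜 d).subtype hd hφd hsurj y)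
    (gr 𝒜 d 𝒩) 𝒩 0 (vmap 𝒜 d (N := N))
    (fun i x hx => vmap_mem 𝒜 d 𝒩 hx) 0)
  have e2 : GrMod.tilde 𝒜 (gr 𝒜 d 𝒩) ((0 : ℤ) * (d : ℤ) + ((0 : ℕ) : ℤ)) ≅ F :=
    isoOfPush (Veronese.hom 𝒜 (zgr (vgr 𝒜 d)) d (vsub 𝒜 d).subtype hd hφd hsurj)
      (e1.symm ≪≫ eN)
  have e3 : GrMod.tilde 𝒜 (gr 𝒜 d 𝒩) 0 ≅
      GrMod.tilde 𝒜 (gr 𝒜 d 𝒩) ((0 : ℤ) * (d : ℤ) + ((0 : ℕ) : ℤ)) :=
    eqToIso (congrArg (GrMod.tilde 𝒜 (gr 𝒜 d 𝒩)) (by simp))
  exact ⟨Mod 𝒜 d N, inferInstance, inferInstance, inferInstance,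
    ⟨fun r a x => Subtype.ext (smul_assoc r a (x : Hm A N))⟩,
    gr 𝒜 d 𝒩, decM, inferInstance,
    Module.Finite.iff_fg.2 (mod_fg 𝒜 d), ⟨e3 ≪≫ e2⟩⟩

end Groth.Agent.Helper6.Coind
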