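import Mathlib

set_option autoImplicit false
set_option linter.style.haveILetI false
set_option linter.unusedSectionVars false

open Polynomial

namespace Groth.Agent.Helper6.ComplIdem

universe u

theorem eq_of_isUnit {S : Type*} [CommRing S] {e e' : S} (he : IsIdempotentElem e)
    (he' : IsIdempotentElem e') (h : IsUnit (1 - (e - e') ^ 2)) : e = e' := by
  have h3 : (e - e') * (1 - (e - e') ^ 2) = 0 := by
    have h1 := he.eq
    have h2 := he'.eq
    linear_combination (-(e + 1 - 3 * e')) * h1 + (-(3 * e - e' - 1)) * h2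
  exact sub_eq_zero.1 ((h.mul_left_eq_zero).1 h3)

/-- Newton's lemma for `x² = T x` along a henselian pair `(A, t)`. -/
theorem exists_root_sq {A : Type*} [CommRing A] (t : A) [HenselianRing A (Ideal.span {t})]
    (T a u : A) (hu : a * a - T * a = T * T * T * t * u) :
    ∃ a' z : A, a' * a' = T * a' ∧ a' - a = T * t * z := by
  have hjac : ∀ x : A, IsUnit (1 + t * x) := by
    intro x
    have h1 : t ∈ Ideal.jacobson (⊥ : Ideal A) :=
      HenselianRing.jac (Ideal.mem_span_singleton_self t)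
    have h2 := Ideal.mem_jacobson_bot.1 h1 x
    rwa [add_comm] at h2
  obtain ⟨wi, hw⟩ := (hjac (4 * T * u)).exists_right_inv
  obtain ⟨c, hc⟩ : ∃ c : A, c = T * t * u * wi := ⟨_, rfl⟩
  have hmonic : (X ^ 2 + (X + C c) : A[X]).Monic := by
    apply monic_X_pow_add
    refine lt_of_le_of_lt (degree_add_le _ _) ?_
    exact max_lt (lt_of_le_of_lt degree_X_le (by exact_mod_cast Nat.one_lt_two))
      (lt_of_le_of_lt degree_C_le (by exact_mod_cast Nat.zero_lt_two))
  have h0 : (X ^ 2 + (X + C c) : A[X]).eval 0 ∈ Ideal.span {t} := by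
    have : (X ^ 2 + (X + C c) : A[X]).eval 0 = c := by simp
    rw [this, hc]
    exact Ideal.mem_span_singleton'.2 ⟨T * u * wi, by ring⟩
  have h1 : IsUnit (Ideal.Quotient.mk (Ideal.span {t})
      ((X ^ 2 + (X + C c) : A[X]).derivative.eval 0)) := by
    have : (X ^ 2 + (X + C c) : A[X]).derivative.eval 0 = 1 := by simp
    rw [this, map_one]
    exact isUnit_one
  obtain ⟨y, hy, hy0⟩ := HenselianRing.is_henselian (X ^ 2 + (X + C c) : A[X]) hmonic 0 h0 h1
  have hy' : y ^ 2 + (y + c) = 0 := by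
    have := hy
    simpa [IsRoot] using this
  rw [sub_zero] at hy0
  obtain ⟨y₁, hy₁⟩ := Ideal.mem_span_singleton'.1 hy0
  obtain ⟨v, hv⟩ := (hjac y₁).exists_right_inv
  have hv' : (1 + y) * v = 1 := by
    rw [← hy₁, mul_comm y₁ t]
    exact hv
  have hyc : y = -c * v := by linear_combination v * hy' - y * hv'
  refine ⟨a + (2 * a - T) * y, -(2 * a - T) * u * wi * v, ?_, ?_⟩
  · have hD : (2 * a - T) * (2 * a - T) = T * T * (1 + t * (4 * T * u)) := by
      linear_combination 4 * hu
    have hWc : (1 + t * (4 * T * u)) * c = T * t * u := by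
      rw [hc]
      linear_combination (T * t * u) * hw
    have hyy : y * y + y = -c := by linear_combination hy'
    have e1 : (a + (2 * a - T) * y) * (a + (2 * a - T) * y) - T * (a + (2 * a - T) * y) =
        (a * a - T * a) + ((2 * a - T) * (2 * a - T)) * (y * y + y) := by ring
    have e2 : (a * a - T * a) + ((2 * a - T) * (2 * a - T)) * (y * y + y) = 0 := by
      rw [hu, hD, hyy]
      linear_combination (-(T * T)) * hWc
    exact sub_eq_zero.1 (e1.trans e2)
  · linear_combination (2 * a - T) * hyc - (2 * a - T) * v * hc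

section compl

variable {A : Type u} [CommRing A] (t : A)

theorem exists_approx (N : ℕ) (x : AdicCompletion (Ideal.span {t}) A) :
    ∃ (a : A) (c : AdicCompletion (Ideal.span {t}) A),
      x = algebraMap A (AdicCompletion (Ideal.span {t}) A) a +
        (algebraMap A (AdicCompletion (Ideal.span {t}) A) t) ^ N * c := by
  obtain ⟨a, ha⟩ := Ideal.Quotient.mk_surjective (AdicCompletion.evalₐ (Ideal.span {t}) N x)
  have h1 : AdicCompletion.evalₐ (Ideal.span {t}) N
      (x - algebraMap A (AdicCompletion (Ideal.span {t}) A) a) = 0 := by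
    rw [map_sub, AlgHom.commutes, ← ha]
    exact sub_self _
  have h2 : x - algebraMap A (AdicCompletion (Ideal.span {t}) A) a ∈
      LinearMap.ker (AdicCompletion.eval (Ideal.span {t}) A N) := by
    rw [LinearMap.mem_ker, ← AdicCompletion.factor_evalₐ_eq_eval _ _
      (by rw [smul_eq_mul, Ideal.mul_top]), h1, map_zero]
  rw [← AdicCompletion.pow_smul_top_eq_ker_eval (Submodule.fg_span_singleton t)] at h2
  have key : ∀ y ∈ ((Ideal.span {t}) ^ N • ⊤ :
      Submodule A (AdicCompletion (Ideal.span {t}) A)),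
      ∃ c, y = (algebraMap A (AdicCompletion (Ideal.span {t}) A) t) ^ N * c := by
    intro y hy
    refine Submodule.smul_induction_on hy ?_ ?_
    · intro r hr y _
      rw [Ideal.span_singleton_pow, Ideal.mem_span_singleton'] at hr
      obtain ⟨r₁, rfl⟩ := hr
      refine ⟨algebraMap A _ r₁ * y, ?_⟩
      rw [Algebra.smul_def, map_mul, map_pow]
      ring
    · rintro y₁ y₂ ⟨c₁, rfl⟩ ⟨c₂, rfl⟩
      exact ⟨c₁ + c₂, by ring⟩
  obtain ⟨c, hc⟩ := key _ h2
  exact ⟨a, c, by rw [← hc]; ring⟩

theorem exists_eq_pow_mul (N : ℕ) (x : A) (z : AdicCompletion (Ideal.span {t}) A)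
    (h : algebraMap A (AdicCompletion (Ideal.span {t}) A) x =
      (algebraMap A (AdicCompletion (Ideal.span {t}) A) t) ^ N * z) : ∃ u, x = t ^ N * u := by
  have h0 : (algebraMap A (A ⧸ Ideal.span {t} ^ N) t) ^ N = 0 := by
    rw [← map_pow]
    exact Ideal.Quotient.eq_zero_iff_mem.2
      (Ideal.pow_mem_pow (Ideal.mem_span_singleton_self t) N)
  have h1 : AdicCompletion.evalₐ (Ideal.span {t}) N
      (algebraMap A (AdicCompletion (Ideal.span {t}) A) x) = 0 := by
    rw [h, map_mul, map_pow, AlgHom.commutes, h0, zero_mul]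
  rw [AlgHom.commutes] at h1
  have h2 : x ∈ Ideal.span {t} ^ N := Ideal.Quotient.eq_zero_iff_mem.1 h1
  rw [Ideal.span_singleton_pow, Ideal.mem_span_singleton'] at h2
  obtain ⟨u, rfl⟩ := h2
  exact ⟨u, mul_comm _ _⟩

theorem isUnit_one_add (z : AdicCompletion (Ideal.span {t}) A) :
    IsUnit (1 + algebraMap A (AdicCompletion (Ideal.span {t}) A) t * z) := by
  haveI := AdicCompletion.isAdicComplete_self (Ideal.span {t}) (Submodule.fg_span_singleton t)
  have h1 : algebraMap A (AdicCompletion (Ideal.span {t}) A) t ∈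
      Ideal.jacobson (⊥ : Ideal (AdicCompletion (Ideal.span {t}) A)) :=
    IsAdicComplete.le_jacobson_bot
      (Ideal.map (algebraMap A (AdicCompletion (Ideal.span {t}) A)) (Ideal.span {t}))
      (Ideal.mem_map_of_mem _ (Ideal.mem_span_singleton_self t))
  have h2 := Ideal.mem_jacobson_bot.1 h1 z
  rwa [add_comm] at h2

end compl

section main

variable (A : Type u) [CommRing A] (t : A)

set_option quotPrecheck false

local notation "Ah" => AdicCompletion (Ideal.span {t}) A
local notation "th" => algebraMap A (AdicCompletion (Ideal.span {t}) A) t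
local notation "Lh" => Localization.Away (algebraMap A (AdicCompletion (Ideal.span {t}) A) t)
local notation "L" => Localization.Away t
local notation "φ" => Localization.awayMap (algebraMap A (AdicCompletion (Ideal.span {t}) A)) t

theorem awayMap_algebraMap (x : A) :
    φ (algebraMap A L x) = algebraMap Ah Lh (algebraMap A Ah x) :=
  IsLocalization.map_eq _ x

variable [HenselianRing A (Ideal.span {t})]

theorem isUnit_one_add_of_henselian (x : A) : IsUnit (1 + t * x) := by
  have h1 : t ∈ Ideal.jacobson (⊥ : Ideal A) :=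
    HenselianRing.jac (Ideal.mem_span_singleton_self t)
  have h2 := Ideal.mem_jacobson_bot.1 h1 x
  rwa [add_comm] at h2

theorem exists_idem (e : Lh) (he : IsIdempotentElem e) :
    ∃ e₀ : L, IsIdempotentElem e₀ ∧ φ e₀ = e := by
  classical
  have hTunit : IsUnit (algebraMap Ah Lh th) := IsLocalization.Away.algebraMap_isUnit th
  obtain ⟨⟨x₀, s⟩, hs⟩ := IsLocalization.surj (Submonoid.powers th) e
  obtain ⟨n₀, hn₀⟩ := s.2
  have hn₀' : th ^ n₀ = (s : Ah) := hn₀
  have h1 : e * algebraMap Ah Lh th ^ n₀ = algebraMap Ah Lh x₀ := by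
    rw [← map_pow, hn₀']
    exact hs
  have h2 : algebraMap Ah Lh (x₀ * x₀ - th ^ n₀ * x₀) = 0 := by
    rw [map_sub, map_mul, map_mul, map_pow, ← h1]
    have hee : e * e = e := he
    linear_combination (algebraMap Ah Lh th ^ n₀ * algebraMap Ah Lh th ^ n₀) * hee
  rw [IsLocalization.map_eq_zero_iff (Submonoid.powers th)] at h2
  obtain ⟨⟨_, m, rfl⟩, hm⟩ := h2
  have hm' : th ^ m * (x₀ * x₀ - th ^ n₀ * x₀) = 0 := hm
  obtain ⟨x, hx⟩ : ∃ x : Ah, x = th ^ m * x₀ := ⟨_, rfl⟩
  obtain ⟨n, hn⟩ : ∃ n : ℕ, n = n₀ + m := ⟨_, rfl⟩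
  have hxx : x * x - th ^ n * x = 0 := by
    rw [hx, hn, pow_add]
    linear_combination (th ^ m) * hm'
  have hex : e * algebraMap Ah Lh th ^ n = algebraMap Ah Lh x := by
    rw [hx, hn, pow_add, map_mul, map_pow, ← h1]
    ring
  obtain ⟨a, c, hac⟩ := exists_approx t (3 * n + 1) x
  have h5 : algebraMap A Ah (a * a - t ^ n * a) = th ^ (3 * n + 1) *
      (-(2 * algebraMap A Ah a * c + th ^ (3 * n + 1) * c * c - th ^ n * c)) := by
    rw [map_sub, map_mul, map_mul, map_pow]
    rw [hac] at hxx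
    linear_combination hxx
  obtain ⟨u, hu⟩ := exists_eq_pow_mul t (3 * n + 1) _ _ h5
  have hu' : a * a - t ^ n * a = t ^ n * t ^ n * t ^ n * t * u := by
    rw [hu]
    ring
  obtain ⟨a', z, ha', hz⟩ := exists_root_sq t (t ^ n) a u hu'
  have hTL : IsUnit (algebraMap A L t) := IsLocalization.Away.algebraMap_isUnit t
  obtain ⟨e₀, he₀⟩ : ∃ e₀ : L, e₀ = IsLocalization.mk' L a'
      (⟨t ^ n, n, rfl⟩ : Submonoid.powers t) := ⟨_, rfl⟩
  have hspec : e₀ * algebraMap A L (t ^ n) = algebraMap A L a' := by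
    rw [he₀]
    exact IsLocalization.mk'_spec L a' _
  have hidem : IsIdempotentElem e₀ := by
    have hU : IsUnit (algebraMap A L (t ^ n) * algebraMap A L (t ^ n)) := by
      rw [map_pow]
      exact (hTL.pow n).mul (hTL.pow n)
    apply (hU.mul_left_inj).1
    have h8 : algebraMap A L a' * algebraMap A L a' =
        algebraMap A L (t ^ n) * algebraMap A L a' := by
      rw [← map_mul, ← map_mul, ha']
    calc e₀ * e₀ * (algebraMap A L (t ^ n) * algebraMap A L (t ^ n))
        = (e₀ * algebraMap A L (t ^ n)) * (e₀ * algebraMap A L (t ^ n)) := by ring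
      _ = algebraMap A L (t ^ n) * algebraMap A L a' := by rw [hspec, h8]
      _ = e₀ * (algebraMap A L (t ^ n) * algebraMap A L (t ^ n)) := by rw [← hspec]; ring
  refine ⟨e₀, hidem, ?_⟩
  symm
  have hφspec : φ e₀ * algebraMap Ah Lh th ^ n = algebraMap Ah Lh (algebraMap A Ah a') := by
    have h9 := congrArg φ hspec
    rw [map_mul, awayMap_algebraMap, awayMap_algebraMap, map_pow, map_pow] at h9
    exact h9
  have hz' : algebraMap A Ah a' = algebraMap A Ah a + th ^ n * th * algebraMap A Ah z := by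
    have h9 := congrArg (algebraMap A Ah) hz
    rw [map_sub, map_mul, map_mul, map_pow] at h9
    linear_combination h9
  have hd : (e - φ e₀) * algebraMap Ah Lh th ^ n = algebraMap Ah Lh th ^ n *
      algebraMap Ah Lh (th * (th ^ (2 * n) * c - algebraMap A Ah z)) := by
    rw [sub_mul, hex, hφspec, hac, hz']
    have hW : ∀ W : Ah, algebraMap Ah Lh (th ^ n * W) =
        algebraMap Ah Lh th ^ n * algebraMap Ah Lh W := fun W => by rw [map_mul, map_pow]
    rw [← hW, ← map_sub]
    congr 1
    ring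
  have hd' : e - φ e₀ = algebraMap Ah Lh (th * (th ^ (2 * n) * c - algebraMap A Ah z)) := by
    apply ((hTunit.pow n).mul_left_inj).1
    rw [hd]
    ring
  have hunit : IsUnit (1 - (e - φ e₀) ^ 2) := by
    rw [hd']
    have h9 := isUnit_one_add t (-(th * (th ^ (2 * n) * c - algebraMap A Ah z) ^ 2))
    have h10 : (1 : Lh) - (algebraMap Ah Lh (th * (th ^ (2 * n) * c - algebraMap A Ah z))) ^ 2 =
        algebraMap Ah Lh (1 + th * (-(th * (th ^ (2 * n) * c - algebraMap A Ah z) ^ 2))) := by
      rw [← map_pow, ← map_one (algebraMap Ah Lh), ← map_sub]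
      congr 1
      ring
    rw [h10]
    exact h9.map _
  exact eq_of_isUnit he (hidem.map φ) hunit

theorem idem_unique (e₀ e₁ : L) (h₀ : IsIdempotentElem e₀) (h₁ : IsIdempotentElem e₁)
    (h : φ e₀ = φ e₁) : e₀ = e₁ := by
  have hTL : IsUnit (algebraMap A L t) := IsLocalization.Away.algebraMap_isUnit t
  obtain ⟨⟨x, s⟩, hs⟩ := IsLocalization.surj (Submonoid.powers t) (e₀ - e₁)
  obtain ⟨k, hk⟩ := s.2
  have hk' : t ^ k = (s : A) := hk
  have h1 : (e₀ - e₁) * algebraMap A L t ^ k = algebraMap A L x := by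
    rw [← map_pow, hk']
    exact hs
  have h2 : algebraMap Ah Lh (algebraMap A Ah x) = 0 := by
    rw [← awayMap_algebraMap, ← h1, map_mul, map_sub, h, sub_self, zero_mul]
  rw [IsLocalization.map_eq_zero_iff (Submonoid.powers th)] at h2
  obtain ⟨⟨_, m, rfl⟩, hm⟩ := h2
  have hm' : th ^ m * algebraMap A Ah x = 0 := hm
  obtain ⟨y, hy⟩ : ∃ y : A, y = t ^ m * x := ⟨_, rfl⟩
  have h3 : algebraMap A Ah y = th ^ (2 * (k + m) + 1) * 0 := by
    rw [mul_zero, hy, map_mul, map_pow]
    exact hm'
  obtain ⟨z, hz⟩ := exists_eq_pow_mul t (2 * (k + m) + 1) _ _ h3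
  have h4 : (e₀ - e₁) * algebraMap A L t ^ (k + m) = algebraMap A L y := by
    rw [pow_add, ← mul_assoc, h1, hy, map_mul, map_pow]
    ring
  have h6 : y * y = (t ^ (k + m) * t ^ (k + m)) * (t * (y * z)) := by
    calc y * y = y * (t ^ (2 * (k + m) + 1) * z) := by rw [← hz]
      _ = (t ^ (k + m) * t ^ (k + m)) * (t * (y * z)) := by ring
  have h5 : (e₀ - e₁) ^ 2 = algebraMap A L (t * (y * z)) := by
    apply (((hTL.pow (k + m)).mul (hTL.pow (k + m))).mul_left_inj).1
    calc (e₀ - e₁) ^ 2 * (algebraMap A L t ^ (k + m) * algebraMap A L t ^ (k + m))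
        = ((e₀ - e₁) * algebraMap A L t ^ (k + m)) *
          ((e₀ - e₁) * algebraMap A L t ^ (k + m)) := by ring
      _ = algebraMap A L (y * y) := by rw [h4, ← map_mul]
      _ = algebraMap A L (t * (y * z)) *
          (algebraMap A L t ^ (k + m) * algebraMap A L t ^ (k + m)) := by
        rw [h6, map_mul, map_mul (algebraMap A L) (t ^ (k + m)), map_pow]
        ring
  have hunit : IsUnit (1 - (e₀ - e₁) ^ 2) := by
    rw [h5]
    have h10 : (1 : L) - algebraMap A L (t * (y * z)) =
        algebraMap A L (1 + t * (-(y * z))) := by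
      rw [← map_one (algebraMap A L), ← map_sub]
      congr 1
      ring
    rw [h10]
    exact (isUnit_one_add_of_henselian A t _).map _
  exact eq_of_isUnit h₀ h₁ hunit

theorem main (e : Lh) (he : IsIdempotentElem e) :
    ∃! e₀ : L, IsIdempotentElem e₀ ∧ φ e₀ = e := by
  obtain ⟨e₀, h0, h1⟩ := exists_idem A t e he
  refine ⟨e₀, ⟨h0, h1⟩, ?_⟩
  rintro e₁ ⟨h2, h3⟩
  exact idem_unique A t e₁ e₀ h2 h0 (h3.trans h1.symm)

end main

end Groth.Agent.Helper6.ComplIdem
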