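import Groth.Agent.Lib.Helper6.DehLib
import Mathlib.Algebra.Polynomial.Laurent

set_option autoImplicit false
set_option linter.unusedSectionVars false
namespace Groth.Agent.Helper6.ConeAlg
universe u
open HomogeneousLocalization LaurentPolynomial Groth.Agent.Helper6.DehLib
  Groth.Agent.Helper6.ProjClosedAlg

theorem laurent_ringHom_ext {R₀ S : Type*} [CommRing R₀] [Semiring S]
    {f g : R₀[T;T⁻¹] →+* S} (hC : ∀ r, f (C r) = g (C r)) (hT : f (T 1) = g (T 1)) : f = g := by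
  apply AddMonoidAlgebra.ringHom_ext'
  · ext r; exact hC r
  · apply MonoidHom.ext_mint
    exact hT

variable {R A : Type u} [CommRing R] [CommRing A] [Algebra R A] {𝒜 : ℕ → Submodule R A}
  [GradedAlgebra 𝒜] {g : A} (hg : g ∈ 𝒜 1)

/-- component of the coaction map -/
noncomputable def coactComp (n : ℕ) : 𝒜 n →+ (Away 𝒜 g)[T;T⁻¹] where
  toFun a := C (dehComp hg n a) * T n
  map_zero' := by simp
  map_add' a b := by rw [map_add, map_add, add_mul]

theorem coact_hone : coactComp hg 0 ⟨1, SetLike.GradedOne.one_mem⟩ = 1 := by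
  change C (dehComp hg 0 _) * T ((0 : ℕ) : ℤ) = 1
  rw [deh_hone, map_one, Nat.cast_zero, T_zero, one_mul]

theorem coact_hmul {i j : ℕ} (a : 𝒜 i) (b : 𝒜 j) :
    coactComp hg (i + j) ⟨(a : A) * b, SetLike.mul_mem_graded a.2 b.2⟩ =
      coactComp hg i a * coactComp hg j b := by
  change C (dehComp hg (i + j) _) * T ((i + j : ℕ) : ℤ) =
    (C (dehComp hg i a) * T (i : ℤ)) * (C (dehComp hg j b) * T (j : ℤ))
  rw [deh_hmul, map_mul, Nat.cast_add, T_add]
  ring

/-- the coaction map `A → A_(g)[T;T⁻¹]`, `a ↦ Σ (a_n/g^n) T^n`. -/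
noncomputable def Φ₀ : A →+* (Away 𝒜 g)[T;T⁻¹] :=
  ofComponents 𝒜 (coactComp hg) (coact_hone hg) (coact_hmul hg)

theorem Φ₀_of_mem {n : ℕ} {a : A} (ha : a ∈ 𝒜 n) :
    Φ₀ hg a = C (Away.mk 𝒜 hg n a (mem_smul_one 𝒜 ha)) * T n :=
  ofComponents_of_mem 𝒜 (coactComp hg) (coact_hone hg) (coact_hmul hg) ha

theorem Φ₀_g : Φ₀ hg g = T 1 := by
  rw [Φ₀_of_mem hg hg]
  have : Away.mk 𝒜 hg 1 g (mem_smul_one 𝒜 hg) = 1 := by
    rw [← deh_of_mem hg hg, deh_self]
  rw [this, map_one, one_mul, Nat.cast_one]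

/-- `A_g → A_(g)[T;T⁻¹]` -/
noncomputable def Φ : Localization.Away g →+* (Away 𝒜 g)[T;T⁻¹] :=
  Localization.awayLift (Φ₀ hg) g (by rw [Φ₀_g]; exact isUnit_T 1)

theorem Φ_mk (a : A) (n : ℕ) :
    Φ hg (Localization.mk a ⟨g ^ n, n, rfl⟩) = Φ₀ hg a * T (-n) := by
  unfold Φ
  rw [Localization.awayLift_mk (v := T (-1)) (hv := by rw [Φ₀_g, ← T_add]; simp), T_pow]
  simp

theorem Φ_algebraMap (a : A) : Φ hg (algebraMap A (Localization.Away g) a) = Φ₀ hg a := by
  unfold Φ Localization.awayLift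
  exact IsLocalization.lift_eq _ a

/-- the unit `g/1` of `A_g` -/
noncomputable def gu : (Localization.Away g)ˣ :=
  (IsLocalization.Away.algebraMap_isUnit (S := Localization.Away g) g).unit

/-- `A_(g)[T;T⁻¹] → A_g`, `T ↦ g` -/
noncomputable def Ψ : (Away 𝒜 g)[T;T⁻¹] →+* Localization.Away g :=
  LaurentPolynomial.eval₂ (algebraMap (Away 𝒜 g) (Localization.Away g)) (gu (g := g))

theorem Ψ_C (c : Away 𝒜 g) : Ψ (C c) = algebraMap (Away 𝒜 g) (Localization.Away g) c := by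
  unfold Ψ; rw [eval₂_C]

theorem Ψ_T_nat (n : ℕ) : Ψ (𝒜 := 𝒜) (T (n : ℤ)) = algebraMap A (Localization.Away g) g ^ n := by
  unfold Ψ; rw [eval₂_T_n]; rfl

theorem Ψ_comp_Φ : (Ψ (𝒜 := 𝒜)).comp (Φ hg) = RingHom.id _ := by
  apply IsLocalization.ringHom_ext (Submonoid.powers g)
  apply ringHom_ext_of_homogeneous (𝒜 := 𝒜)
  intro n a ha
  simp only [RingHom.comp_apply, RingHom.id_apply]
  rw [Φ_algebraMap, Φ₀_of_mem hg ha, map_mul, Ψ_C, Ψ_T_nat,
    HomogeneousLocalization.algebraMap_apply, Away.val_mk, ← Localization.mk_one_eq_algebraMap,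
    ← Localization.mk_one_eq_algebraMap, Localization.mk_pow, Localization.mk_mul]
  rw [Localization.mk_eq_mk_iff, Localization.r_iff_exists]
  exact ⟨1, by simp; ring⟩

theorem Φ_comp_Ψ : (Φ hg).comp (Ψ (𝒜 := 𝒜)) = RingHom.id _ := by
  apply laurent_ringHom_ext
  · intro c
    obtain ⟨n, a, ha, rfl⟩ := Away.mk_surjective 𝒜 hg c
    have ha' : a ∈ 𝒜 n := by simpa using ha
    simp only [RingHom.comp_apply, RingHom.id_apply]
    rw [Ψ_C, HomogeneousLocalization.algebraMap_apply, Away.val_mk, Φ_mk, Φ₀_of_mem hg ha',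
      mul_assoc, ← T_add]
    simp
  · simp only [RingHom.comp_apply, RingHom.id_apply]
    have h1 : Ψ (𝒜 := 𝒜) (T 1) = algebraMap A (Localization.Away g) g := by
      have := Ψ_T_nat (𝒜 := 𝒜) (g := g) 1
      simpa using this
    rw [h1, Φ_algebraMap, Φ₀_g]

include hg in
theorem Ψ_bijective : Function.Bijective (Ψ (𝒜 := 𝒜) (g := g)) := by
  constructor
  · intro a b hab
    have := congrArg (Φ hg) hab
    rw [← RingHom.comp_apply, ← RingHom.comp_apply, Φ_comp_Ψ hg] at this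
    exact this
  · intro x
    refine ⟨Φ hg x, ?_⟩
    rw [← RingHom.comp_apply, Ψ_comp_Φ hg]
    rfl

theorem Ψ_comp_C : (Ψ (𝒜 := 𝒜) (g := g)).comp C =
    algebraMap (Away 𝒜 g) (Localization.Away g) := by
  ext c
  rw [RingHom.comp_apply, Ψ_C]

end Groth.Agent.Helper6.ConeAlg
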