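import Mathlib.AlgebraicGeometry.Gluing
import Mathlib.AlgebraicGeometry.Cover.Open
import Mathlib.AlgebraicGeometry.Morphisms.OpenImmersion

set_option autoImplicit false
namespace Groth.Agent.Helper6.GlueLib
universe u
open AlgebraicGeometry CategoryTheory Limits

/-- Build an open cover from a jointly surjective family of open immersions. -/
noncomputable def coverOfSurj {X : Scheme.{u}} {ι : Type u} (U : ι → Scheme.{u}) (j : ∀ i, U i ⟶ X)
    [∀ i, IsOpenImmersion (j i)] (hj : ∀ x : X, ∃ i, x ∈ Set.range (j i).base) : X.OpenCover where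
  I₀ := ι
  X := U
  f := j
  mem₀ := by
    rw [Scheme.presieve₀_mem_precoverage_iff]
    exact ⟨fun x => hj x, inferInstance⟩

theorem eq_of_open_cover_pullback {X Y : Scheme.{u}} {Ui Uj : Scheme.{u}} (fi : Ui ⟶ X) (fj : Uj ⟶ X)
    [IsOpenImmersion fi] [IsOpenImmersion fj] (gi : Ui ⟶ Y) (gj : Uj ⟶ Y)
    {W : Scheme.{u}} (a : W ⟶ Ui) (b : W ⟶ Uj) (hab : a ≫ fi = b ≫ fj) [IsOpenImmersion (a ≫ fi)]
    (hg : a ≫ gi = b ≫ gj)
    (hr : Set.range fi.base ∩ Set.range fj.base ⊆ Set.range (a ≫ fi).base) :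
    pullback.fst fi fj ≫ gi = pullback.snd fi fj ≫ gj := by
  let l : W ⟶ pullback fi fj := pullback.lift a b hab
  have hl1 : l ≫ pullback.fst fi fj = a := pullback.lift_fst _ _ _
  have hl2 : l ≫ pullback.snd fi fj = b := pullback.lift_snd _ _ _
  have hl3 : l ≫ (pullback.fst fi fj ≫ fi) = a ≫ fi := by rw [← Category.assoc, hl1]
  have : IsOpenImmersion (l ≫ (pullback.fst fi fj ≫ fi)) := by rw [hl3]; infer_instance
  have : IsOpenImmersion l := IsOpenImmersion.of_comp l (pullback.fst fi fj ≫ fi)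
  have hsurj : Function.Surjective l.base := by
    intro x
    have hx : (pullback.fst fi fj ≫ fi).base x ∈ Set.range fi.base ∩ Set.range fj.base := by
      refine ⟨⟨(pullback.fst fi fj).base x, by simp⟩, ⟨(pullback.snd fi fj).base x, ?_⟩⟩
      rw [pullback.condition]; simp
    obtain ⟨w, hw⟩ := hr hx
    refine ⟨w, ?_⟩
    apply (pullback.fst fi fj ≫ fi).isOpenEmbedding.injective
    rw [← hw, ← hl3]
    simp
  have : IsIso l := by
    apply isIso_of_isOpenImmersion_of_opensRange_eq_top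
    ext1
    simpa using Set.range_eq_univ.mpr hsurj
  rw [← cancel_epi l, ← Category.assoc, ← Category.assoc, hl1, hl2, hg]

/-- Glue morphisms along a cover by open immersions whose pairwise intersections are covered by
a single chart. -/
theorem existsUnique_glue {X Y : Scheme.{u}} (𝒰 : X.OpenCover) (g : ∀ i, 𝒰.X i ⟶ Y)
    (H : ∀ (i j : 𝒰.I₀), ∃ (W : Scheme.{u}) (a : W ⟶ 𝒰.X i) (b : W ⟶ 𝒰.X j),
      IsOpenImmersion (a ≫ 𝒰.f i) ∧ a ≫ 𝒰.f i = b ≫ 𝒰.f j ∧ a ≫ g i = b ≫ g j ∧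
      Set.range (𝒰.f i).base ∩ Set.range (𝒰.f j).base ⊆ Set.range (a ≫ 𝒰.f i).base) :
    ∃! π : X ⟶ Y, ∀ i, 𝒰.f i ≫ π = g i := by
  have hcompat : ∀ i j, pullback.fst (𝒰.f i) (𝒰.f j) ≫ g i = pullback.snd _ _ ≫ g j := by
    intro i j
    obtain ⟨W, a, b, h1, h2, h3, h4⟩ := H i j
    exact eq_of_open_cover_pullback (𝒰.f i) (𝒰.f j) (g i) (g j) a b h2 h3 h4
  refine ⟨𝒰.glueMorphisms g hcompat, fun i => 𝒰.ι_glueMorphisms g hcompat i, ?_⟩
  intro π' hπ'
  apply 𝒰.hom_ext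
  intro i
  rw [hπ' i, 𝒰.ι_glueMorphisms g hcompat i]

end Groth.Agent.Helper6.GlueLib
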