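import Groth.Prelude.Def_Cone
import Groth.Agent.Lib.Helper6.GlueLib

set_option autoImplicit false
namespace Groth.Agent.Helper6.ConeLib
universe u
open AlgebraicGeometry CategoryTheory Limits HomogeneousLocalization

variable {R A : Type u} [CommRing R] [CommRing A] [Algebra R A] {𝒜 : ℕ → Submodule R A}
  [GradedAlgebra 𝒜]

section chart
variable {d : ℕ} {f : A} (hf : f ∈ 𝒜 d) (hd : 0 < d)

theorem chart_ι : Cone.chart hf hd ≫ (Cone.pointed 𝒜).ι =
    Spec.map (CommRingCat.ofHom (algebraMap A (Localization.Away f))) :=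
  IsOpenImmersion.lift_fac _ _ _

instance : IsOpenImmersion (Cone.chart hf hd) := by
  have : IsOpenImmersion (Cone.chart hf hd ≫ (Cone.pointed 𝒜).ι) := by
    rw [chart_ι]; infer_instance
  exact IsOpenImmersion.of_comp _ (Cone.pointed 𝒜).ι

theorem range_specMap_away (f : A) :
    Set.range (Spec.map (CommRingCat.ofHom (algebraMap A (Localization.Away f)))).base =
      (PrimeSpectrum.basicOpen f : Set (PrimeSpectrum A)) :=
  PrimeSpectrum.localization_away_comap_range (Localization.Away f) f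

theorem mem_range_chart (p : (Cone.pointed 𝒜 : Scheme.{u})) :
    p ∈ Set.range (Cone.chart hf hd).base ↔
      (Cone.pointed 𝒜).ι.base p ∈ (PrimeSpectrum.basicOpen f : Set (PrimeSpectrum A)) := by
  rw [← range_specMap_away, ← chart_ι hf hd]
  constructor
  · rintro ⟨y, rfl⟩
    exact ⟨y, by simp⟩
  · rintro ⟨y, hy⟩
    refine ⟨y, ?_⟩
    apply (Cone.pointed 𝒜).ι.isOpenEmbedding.injective
    rw [← hy]; simp

end chart

/-- `A_f → A_x` for `x = f * g`. -/
noncomputable def toMul {f g x : A} (hx : x = f * g) : Localization.Away f →+* Localization.Away x :=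
  Localization.awayLift (algebraMap A _) f
    (isUnit_of_dvd_unit (map_dvd _ ⟨_, hx⟩) (IsLocalization.Away.algebraMap_isUnit x))

theorem toMul_comp_algebraMap {f g x : A} (hx : x = f * g) :
    (toMul hx).comp (algebraMap A (Localization.Away f)) = algebraMap A (Localization.Away x) := by
  unfold toMul Localization.awayLift
  exact IsLocalization.lift_comp _

theorem toMul_comp_val {e : ℕ} {f g x : A} (hg : g ∈ 𝒜 e) (hx : x = f * g) :
    (toMul hx).comp (algebraMap (Away 𝒜 f) (Localization.Away f)) =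
      (algebraMap (Away 𝒜 x) (Localization.Away x)).comp (awayMap 𝒜 hg hx) := by
  ext a
  simp only [RingHom.comp_apply, HomogeneousLocalization.algebraMap_apply, val_awayMap]
  rfl

/-- the composite `Spec A_f → Spec A_(f) → Proj`. -/
noncomputable def gmap {d : ℕ} {f : A} (hf : f ∈ 𝒜 d) (hd : 0 < d) :
    Spec (CommRingCat.of (Localization.Away f)) ⟶ Proj 𝒜 :=
  Spec.map (CommRingCat.ofHom (algebraMap (Away 𝒜 f) (Localization.Away f))) ≫
    Proj.awayι 𝒜 f hf hd

theorem toMul_gmap {d e : ℕ} {f g x : A} (hf : f ∈ 𝒜 d) (hd : 0 < d) (hg : g ∈ 𝒜 e)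
    (hx : x = f * g) :
    Spec.map (CommRingCat.ofHom (toMul hx)) ≫ gmap hf hd =
      gmap (hx ▸ SetLike.mul_mem_graded hf hg : x ∈ 𝒜 (d + e)) (hd.trans_le (d.le_add_right e)) := by
  unfold gmap
  rw [← Category.assoc, ← Spec.map_comp, ← CommRingCat.ofHom_comp, toMul_comp_val hg hx,
    CommRingCat.ofHom_comp, Spec.map_comp, Category.assoc,
    Proj.SpecMap_awayMap_awayι 𝒜 hf hd hg hx]

theorem toMul_chart {d e : ℕ} {f g x : A} (hf : f ∈ 𝒜 d) (hd : 0 < d) (hg : g ∈ 𝒜 e)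
    (hx : x = f * g) :
    Spec.map (CommRingCat.ofHom (toMul hx)) ≫ Cone.chart hf hd =
      Cone.chart (hx ▸ SetLike.mul_mem_graded hf hg : x ∈ 𝒜 (d + e))
        (hd.trans_le (d.le_add_right e)) := by
  rw [← cancel_mono (Cone.pointed 𝒜).ι, Category.assoc, chart_ι, chart_ι, ← Spec.map_comp,
    ← CommRingCat.ofHom_comp, toMul_comp_algebraMap]


theorem toMul_gmap' {d e n : ℕ} {f g x : A} (hf : f ∈ 𝒜 d) (hd : 0 < d) (hg : g ∈ 𝒜 e)
    (hx : x = f * g) (hxn : x ∈ 𝒜 n) (hn : 0 < n) (hne : n = d + e) :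
    Spec.map (CommRingCat.ofHom (toMul hx)) ≫ gmap hf hd = gmap hxn hn := by
  subst hne
  exact toMul_gmap hf hd hg hx

theorem toMul_chart' {d e n : ℕ} {f g x : A} (hf : f ∈ 𝒜 d) (hd : 0 < d) (hg : g ∈ 𝒜 e)
    (hx : x = f * g) (hxn : x ∈ 𝒜 n) (hn : 0 < n) (hne : n = d + e) :
    Spec.map (CommRingCat.ofHom (toMul hx)) ≫ Cone.chart hf hd = Cone.chart hxn hn := by
  subst hne
  exact toMul_chart hf hd hg hx

variable (𝒜) in
/-- index type for the charts of the pointed cone -/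
structure Idx where
  d : ℕ
  f : A
  hd : 0 < d
  hf : f ∈ 𝒜 d

theorem exists_mem_range_chart (p : (Cone.pointed 𝒜 : Scheme.{u})) :
    ∃ i : Idx 𝒜, p ∈ Set.range (Cone.chart i.hf i.hd).base := by
  classical
  have hp : ¬ ((HomogeneousIdeal.irrelevant 𝒜).toIdeal : Set A) ⊆
      ((Cone.pointed 𝒜).ι.base p).asIdeal := by
    intro h
    exact p.2 ((PrimeSpectrum.mem_zeroLocus _ _).mpr h)
  rw [Set.not_subset] at hp
  obtain ⟨a, ha, hap⟩ := hp
  have ha0 : (DirectSum.decompose 𝒜 a 0 : A) = 0 := (HomogeneousIdeal.mem_irrelevant_iff _ _).mp ha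
  by_contra hcon
  push Not at hcon
  apply hap
  rw [← DirectSum.sum_support_decompose 𝒜 a]
  refine Ideal.sum_mem _ fun n _ => ?_
  by_cases hn : n = 0
  · subst hn; rw [ha0]; exact Ideal.zero_mem _
  · by_contra hmem
    exact hcon ⟨n, _, Nat.pos_of_ne_zero hn, SetLike.coe_mem _⟩
      ((mem_range_chart _ _ p).mpr hmem)

variable (𝒜) in
/-- the cover of the pointed cone by its charts -/
noncomputable def cover : (Cone.pointed 𝒜 : Scheme.{u}).OpenCover :=
  GlueLib.coverOfSurj (fun i : Idx 𝒜 => Spec (CommRingCat.of (Localization.Away i.f)))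
    (fun i => Cone.chart i.hf i.hd) exists_mem_range_chart

variable (𝒜) in
theorem existsUnique_retraction :
    ∃! π : (Cone.pointed 𝒜 : Scheme.{u}) ⟶ Proj 𝒜,
      ∀ (d : ℕ) (f : A) (hd : 0 < d) (hf : f ∈ 𝒜 d), Cone.chart hf hd ≫ π = gmap hf hd := by
  have H : ∀ (i j : (cover 𝒜).I₀), ∃ (W : Scheme.{u}) (a : W ⟶ (cover 𝒜).X i) (b : W ⟶ (cover 𝒜).X j),
      IsOpenImmersion (a ≫ (cover 𝒜).f i) ∧ a ≫ (cover 𝒜).f i = b ≫ (cover 𝒜).f j ∧
      a ≫ gmap i.hf i.hd = b ≫ gmap j.hf j.hd ∧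
      Set.range ((cover 𝒜).f i).base ∩ Set.range ((cover 𝒜).f j).base ⊆
        Set.range (a ≫ (cover 𝒜).f i).base := ?_
  · obtain ⟨π, h1, h2⟩ := GlueLib.existsUnique_glue (cover 𝒜) (fun i => gmap i.hf i.hd) H
    exact ⟨π, fun d f hd hf => h1 ⟨d, f, hd, hf⟩,
      fun π' h' => h2 π' (fun i => h' i.d i.f i.hd i.hf)⟩
  · intro (i : Idx 𝒜) (j : Idx 𝒜)
    have hx : i.f * j.f ∈ 𝒜 (i.d + j.d) := SetLike.mul_mem_graded i.hf j.hf
    have hn : 0 < i.d + j.d := i.hd.trans_le (Nat.le_add_right _ _)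
    have e1 : Spec.map (CommRingCat.ofHom (toMul (rfl : i.f * j.f = i.f * j.f))) ≫
        Cone.chart i.hf i.hd = Cone.chart hx hn := toMul_chart' i.hf i.hd j.hf rfl hx hn rfl
    have e2 : Spec.map (CommRingCat.ofHom (toMul (mul_comm i.f j.f))) ≫
        Cone.chart j.hf j.hd = Cone.chart hx hn :=
      toMul_chart' j.hf j.hd i.hf (mul_comm i.f j.f) hx hn (Nat.add_comm _ _)
    refine ⟨Spec (CommRingCat.of (Localization.Away (i.f * j.f))),
      Spec.map (CommRingCat.ofHom (toMul (rfl : i.f * j.f = i.f * j.f))),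
      Spec.map (CommRingCat.ofHom (toMul (mul_comm i.f j.f))), ?_, ?_, ?_, ?_⟩
    · change IsOpenImmersion (_ ≫ Cone.chart i.hf i.hd)
      rw [e1]; infer_instance
    · change _ ≫ Cone.chart i.hf i.hd = _ ≫ Cone.chart j.hf j.hd
      rw [e1, e2]
    · change _ ≫ gmap i.hf i.hd = _ ≫ gmap j.hf j.hd
      rw [toMul_gmap' i.hf i.hd j.hf rfl hx hn rfl,
        toMul_gmap' j.hf j.hd i.hf (mul_comm i.f j.f) hx hn (Nat.add_comm _ _)]
    · rintro p ⟨hp1, hp2⟩
      change p ∈ Set.range (_ ≫ Cone.chart i.hf i.hd).base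
      change p ∈ Set.range (Cone.chart i.hf i.hd).base at hp1
      change p ∈ Set.range (Cone.chart j.hf j.hd).base at hp2
      rw [e1]
      rw [mem_range_chart] at hp1 hp2 ⊢
      rw [PrimeSpectrum.basicOpen_mul]
      exact ⟨hp1, hp2⟩

end Groth.Agent.Helper6.ConeLib
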