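import Mathlib.AlgebraicGeometry.ResidueField
import Mathlib.AlgebraicGeometry.Pullbacks
import Mathlib.AlgebraicGeometry.Morphisms.OpenImmersion

set_option autoImplicit false
namespace Groth.Agent.Helper6.FibreLib
universe u
open AlgebraicGeometry CategoryTheory Limits

/-- The fibre of `π : E ⟶ X` at `x`, computed in an affine chart `j : Spec R₀ ⟶ X` around `x`
whose preimage is an affine chart `c : Spec S ⟶ E`. -/
theorem exists_fibre_iso {E X : Scheme.{u}} (π : E ⟶ X) (x : X) {R₀ S : Type u} [CommRing R₀]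
    [CommRing S] (j : Spec (CommRingCat.of R₀) ⟶ X) [IsOpenImmersion j]
    (hx : x ∈ Set.range j.base)
    (c : Spec (CommRingCat.of S) ⟶ E) [IsOpenImmersion c] (ρ : R₀ →+* S)
    (hc : c ≫ π = Spec.map (CommRingCat.ofHom ρ) ≫ j)
    (hpre : π ⁻¹ᵁ j.opensRange = c.opensRange) :
    ∃ τ : R₀ →+* X.residueField x,
      Spec.map (CommRingCat.ofHom τ) ≫ j = X.fromSpecResidueField x ∧
      ∀ (T : Type u) [CommRing T] (σ : S →+* T) (κ : X.residueField x →+* T),
        IsPushout (CommRingCat.ofHom ρ) (CommRingCat.ofHom τ) (CommRingCat.ofHom σ)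
          (CommRingCat.ofHom κ) →
        ∃ e : pullback π (X.fromSpecResidueField x) ≅ Spec (CommRingCat.of T),
          e.hom ≫ Spec.map (CommRingCat.ofHom κ) = pullback.snd π (X.fromSpecResidueField x) := by
  have hrange : Set.range (X.fromSpecResidueField x).base ⊆ Set.range j.base := by
    rw [Scheme.range_fromSpecResidueField]
    exact Set.singleton_subset_iff.mpr hx
  let t₀ : Spec (X.residueField x) ⟶ Spec (CommRingCat.of R₀) :=
    IsOpenImmersion.lift j (X.fromSpecResidueField x) hrange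
  have ht₀ : t₀ ≫ j = X.fromSpecResidueField x := IsOpenImmersion.lift_fac _ _ _
  let τ' : CommRingCat.of R₀ ⟶ X.residueField x := Spec.preimage t₀
  have hτ' : Spec.map τ' = t₀ := Spec.map_preimage t₀
  refine ⟨τ'.hom, ?_, ?_⟩
  · rw [CommRingCat.ofHom_hom, hτ', ht₀]
  · intro T _ σ κ hpo
    rw [CommRingCat.ofHom_hom] at hpo
    have sq1 : IsPullback c (Spec.map (CommRingCat.ofHom ρ)) π j :=
      (IsOpenImmersion.isPullback (Spec.map (CommRingCat.ofHom ρ)) c j π hc hpre).flip
    have sq2 := isPullback_SpecMap_of_isPushout _ _ _ _ hpo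
    have sq := sq2.paste_horiz sq1
    rw [hτ', ht₀] at sq
    refine ⟨sq.isoPullback.symm, ?_⟩
    exact sq.isoPullback_inv_snd

end Groth.Agent.Helper6.FibreLib
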