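import Groth.Agent.Lib.Helper6.ConeAlg
import Groth.Agent.Lib.Helper6.ConeLib2
import Groth.Agent.Lib.Helper6.FibreLib
import Mathlib.AlgebraicGeometry.Morphisms.FiniteType
import Mathlib.AlgebraicGeometry.Morphisms.QuasiCompact
import Mathlib.RingTheory.TensorProduct.MonoidAlgebra
import Mathlib.RingTheory.FiniteType

set_option autoImplicit false
set_option linter.unusedSectionVars false
namespace Groth.Agent.Helper6.ConeLib
universe u
open AlgebraicGeometry CategoryTheory Limits HomogeneousLocalization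
open Groth.Agent.Helper6.ConeAlg

variable {R A : Type u} [CommRing R] [CommRing A] [Algebra R A] {𝒜 : ℕ → Submodule R A}
  [GradedAlgebra 𝒜]
  (hgen : (HomogeneousIdeal.irrelevant 𝒜).toIdeal = Ideal.span (𝒜 1 : Set A))

include hgen in
theorem exists_deg_one_mem_basicOpen (x : Proj 𝒜) :
    ∃ (f : A) (_ : f ∈ 𝒜 1), x ∈ Proj.basicOpen 𝒜 f := by
  by_contra hcon
  push Not at hcon
  apply x.not_irrelevant_le
  change (HomogeneousIdeal.irrelevant 𝒜).toIdeal ≤ x.asHomogeneousIdeal.toIdeal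
  rw [hgen, Ideal.span_le]
  intro f hf
  have := hcon f hf
  rw [Proj.mem_basicOpen, not_not] at this
  exact this

include hgen in
theorem exists_mem_range_chart_one (q : (Cone.pointed 𝒜 : Scheme.{u})) :
    ∃ (g : A) (hg : g ∈ 𝒜 1), q ∈ Set.range (Cone.chart hg one_pos).base := by
  have hq : ¬ ((HomogeneousIdeal.irrelevant 𝒜).toIdeal : Set A) ⊆
      ((Cone.pointed 𝒜).ι.base q).asIdeal := by
    intro h
    exact q.2 ((PrimeSpectrum.mem_zeroLocus _ _).mpr h)
  by_contra hcon
  push Not at hcon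
  apply hq
  change (HomogeneousIdeal.irrelevant 𝒜).toIdeal ≤ ((Cone.pointed 𝒜).ι.base q).asIdeal
  rw [hgen, Ideal.span_le]
  intro g hg
  have := hcon g hg
  rw [mem_range_chart] at this
  exact not_not.mp this

/-- cover of the pointed cone by degree one charts -/
noncomputable def cover1 : (Cone.pointed 𝒜 : Scheme.{u}).OpenCover :=
  GlueLib.coverOfSurj (fun i : {g : A // g ∈ 𝒜 1} => Spec (CommRingCat.of (Localization.Away i.1)))
    (fun i => Cone.chart i.2 one_pos)
    (fun q => by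
      obtain ⟨g, hg, h⟩ := exists_mem_range_chart_one hgen q
      exact ⟨⟨g, hg⟩, h⟩)

theorem algebraMap_finiteType {g : A} (hg : g ∈ 𝒜 1) :
    (algebraMap (Away 𝒜 g) (Localization.Away g)).FiniteType := by
  rw [← Ψ_comp_C (𝒜 := 𝒜) (g := g)]
  refine RingHom.FiniteType.comp ?_ ?_
  · exact RingHom.FiniteType.of_surjective _ (Ψ_bijective hg).2
  · exact RingHom.finiteType_algebraMap.mpr inferInstance

section
variable (π : (Cone.pointed 𝒜 : Scheme.{u}) ⟶ Proj 𝒜)
  (hπ : ∀ (d : ℕ) (f : A) (hd : 0 < d) (hf : f ∈ 𝒜 d), Cone.chart hf hd ≫ π = gmap hf hd)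

include hgen hπ in
theorem π_locallyOfFiniteType : LocallyOfFiniteType π := by
  apply IsZariskiLocalAtSource.of_openCover (cover1 hgen)
  intro i
  change LocallyOfFiniteType (Cone.chart i.2 one_pos ≫ π)
  rw [hπ]
  unfold gmap
  have : LocallyOfFiniteType (Spec.map (CommRingCat.ofHom
      (algebraMap (Away 𝒜 i.1) (Localization.Away i.1)))) := by
    rw [HasRingHomProperty.Spec_iff (P := @LocallyOfFiniteType)]
    exact algebraMap_finiteType i.2
  infer_instance

open scoped AlgebraMonoidAlgebra in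
open LaurentPolynomial in
include hgen hπ in
theorem π_fibre (x : Proj 𝒜) :
    ∃ e : pullback π ((Proj 𝒜).fromSpecResidueField x) ≅
        Spec (CommRingCat.of (LaurentPolynomial ((Proj 𝒜).residueField x))),
      e.hom ≫ Spec.map (CommRingCat.ofHom (algebraMap ((Proj 𝒜).residueField x)
        (LaurentPolynomial ((Proj 𝒜).residueField x)))) =
        pullback.snd π ((Proj 𝒜).fromSpecResidueField x) := by
  obtain ⟨g, hg, hx⟩ := exists_deg_one_mem_basicOpen hgen x
  let eq : (Away 𝒜 g)[T;T⁻¹] ≃+* Localization.Away g :=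
    RingEquiv.ofBijective (Ψ (𝒜 := 𝒜) (g := g)) (Ψ_bijective hg)
  let c' : Spec (CommRingCat.of ((Away 𝒜 g)[T;T⁻¹])) ⟶ (Cone.pointed 𝒜 : Scheme.{u}) :=
    Spec.map (CommRingCat.ofHom (eq.symm : Localization.Away g →+* (Away 𝒜 g)[T;T⁻¹])) ≫
      Cone.chart hg one_pos
  have hiso : IsIso (Spec.map (CommRingCat.ofHom
      (eq.symm : Localization.Away g →+* (Away 𝒜 g)[T;T⁻¹]))) := by
    have : IsIso (CommRingCat.ofHom (eq.symm : Localization.Away g →+* (Away 𝒜 g)[T;T⁻¹])) :=
      (eq.symm.toCommRingCatIso).isIso_hom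
    infer_instance
  have hopen : IsOpenImmersion c' := inferInstance
  have hcomp : (eq.symm : Localization.Away g →+* (Away 𝒜 g)[T;T⁻¹]).comp
      (algebraMap (Away 𝒜 g) (Localization.Away g)) =
      algebraMap (Away 𝒜 g) ((Away 𝒜 g)[T;T⁻¹]) := by
    apply RingHom.ext
    intro c
    rw [RingHom.comp_apply, ← Ψ_comp_C (𝒜 := 𝒜) (g := g), RingHom.comp_apply]
    exact eq.symm_apply_apply _
  have hc : c' ≫ π = Spec.map (CommRingCat.ofHom (algebraMap (Away 𝒜 g)
      ((Away 𝒜 g)[T;T⁻¹]))) ≫ Proj.awayι 𝒜 g hg one_pos := by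
    change (_ ≫ Cone.chart hg one_pos) ≫ π = _
    rw [Category.assoc, hπ]
    unfold gmap
    rw [← Category.assoc, ← Spec.map_comp, ← CommRingCat.ofHom_comp, hcomp]
  have hpre : π ⁻¹ᵁ (Proj.awayι 𝒜 g hg one_pos).opensRange = c'.opensRange := by
    rw [Proj.opensRange_awayι, π_preimage_eq_opensRange π hπ hg one_pos]
    exact (Scheme.Hom.opensRange_comp_of_isIso _ _).symm
  have hxr : x ∈ Set.range (Proj.awayι 𝒜 g hg one_pos).base := by
    have : x ∈ (Proj.awayι 𝒜 g hg one_pos).opensRange := by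
      rw [Proj.opensRange_awayι]; exact hx
    exact this
  obtain ⟨τ, -, hτ⟩ := FibreLib.exists_fibre_iso π x (Proj.awayι 𝒜 g hg one_pos) hxr c'
    (algebraMap (Away 𝒜 g) ((Away 𝒜 g)[T;T⁻¹])) hc hpre
  let _ := τ.toAlgebra
  exact hτ (LaurentPolynomial ((Proj 𝒜).residueField x))
    (algebraMap ((Away 𝒜 g)[T;T⁻¹]) (LaurentPolynomial ((Proj 𝒜).residueField x)))
    (algebraMap ((Proj 𝒜).residueField x) (LaurentPolynomial ((Proj 𝒜).residueField x)))
    (CommRingCat.isPushout_of_isPushout (Away 𝒜 g) ((Away 𝒜 g)[T;T⁻¹])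
      ((Proj 𝒜).residueField x) (LaurentPolynomial ((Proj 𝒜).residueField x)))

end

end Groth.Agent.Helper6.ConeLib
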