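import Mathlib

/-!
# Cotangent modules of composite presentations over a localization (helper6)

`nonempty_equiv`: for `T = S[1/g]`, `P : Generators R S ι`, `Q : Generators S T σ` (σ finite),
`(Q.comp P).Cotangent ≃ (T ⊗[S] P.Cotangent) × (σ → T)`.
-/

set_option autoImplicit false
universe u

namespace Groth.Agent.Helper6.CotLoc

open TensorProduct MvPolynomial Algebra

section Ext

variable {R S : Type u} [CommRing R] [CommRing S] [Algebra R S]

/-- Mutually inverse homs of extensions give an equivalence of cotangent modules. -/
noncomputable def cotEquiv {P P' : Extension.{u} R S} (f : P.Hom P') (g : P'.Hom P)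
    (h1 : g.comp f = Extension.Hom.id P) (h2 : f.comp g = Extension.Hom.id P') :
    P.Cotangent ≃ₗ[S] P'.Cotangent :=
  LinearEquiv.ofLinearMap (Extension.Cotangent.map f) (Extension.Cotangent.map g)
    (LinearMap.ext fun x => by
      have := LinearMap.congr_fun (Extension.Cotangent.map_comp (f := g) (g := f)) x
      rw [h2, Extension.Cotangent.map_id] at this
      exact this.symm)
    (LinearMap.ext fun x => by
      have := LinearMap.congr_fun (Extension.Cotangent.map_comp (f := f) (g := g)) x
      rw [h1, Extension.Cotangent.map_id] at this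
      exact this.symm)

end Ext

section LemmaX

variable {R S T : Type u} [CommRing R] [CommRing S] [Algebra R S] [CommRing T] [Algebra R T]
  [Algebra S T] [IsScalarTower R S T]
variable {ι σ σ₁ : Type}

/-- comparison hom between two composite presentations with the same base part. -/
noncomputable def compHom (P : Generators R S ι) (Q : Generators S T σ) (Q₁ : Generators S T σ₁) :
    (Q.comp P).Hom (Q₁.comp P) where
  val := Sum.elim (fun j => (Q₁.comp P).σ (Q.val j)) (fun i => X (Sum.inr i))
  aeval_val := by
    rintro (j | i)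
    · simp
    · simp

theorem compHom_comp_toComp (P : Generators R S ι) (Q : Generators S T σ)
    (Q₁ : Generators S T σ₁) :
    (compHom P Q Q₁).toExtensionHom.comp (Q.toComp P).toExtensionHom =
      (Q₁.toComp P).toExtensionHom := by
  apply Extension.Hom.ext
  apply MvPolynomial.ringHom_ext
  · intro r
    show (compHom P Q Q₁).toAlgHom ((Q.toComp P).toAlgHom (C r)) = (Q₁.toComp P).toAlgHom (C r)
    rw [Generators.Hom.toAlgHom_C, Generators.Hom.toAlgHom_C, Generators.Hom.toAlgHom_C]
    simp
  · intro i
    show (compHom P Q Q₁).toAlgHom ((Q.toComp P).toAlgHom (X i)) = (Q₁.toComp P).toAlgHom (X i)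
    rw [Generators.Hom.toAlgHom_X, Generators.Hom.toAlgHom_X, Generators.toComp_val,
      Generators.Hom.toAlgHom_X, Generators.toComp_val]
    rfl

theorem liftBaseChange_injective (g : S) [IsLocalization.Away g T] (P : Generators R S ι)
    (Q : Generators S T σ) :
    Function.Injective (LinearMap.liftBaseChange T
      (Extension.Cotangent.map (Q.toComp P).toExtensionHom)) := by
  have key : (Extension.Cotangent.map
        (compHom P Q (Generators.localizationAway T g)).toExtensionHom) ∘ₗ
      (LinearMap.liftBaseChange T (Extension.Cotangent.map (Q.toComp P).toExtensionHom)) =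
      LinearMap.liftBaseChange T (Extension.Cotangent.map
        ((Generators.localizationAway T g).toComp P).toExtensionHom) := by
    rw [LinearMap.liftBaseChange_comp, ← Extension.Cotangent.map_comp, compHom_comp_toComp]
  have h := Generators.liftBaseChange_injective_of_isLocalizationAway (T := T) g P
  rw [← key] at h
  exact Function.Injective.of_comp h

theorem cotangentComplex_bijective [Algebra.FormallyEtale S T] (Q : Generators S T σ) :
    Function.Bijective Q.toExtension.cotangentComplex := by
  constructor
  · exact (Extension.subsingleton_h1Cotangent Q.toExtension).mp Q.equivH1Cotangent.subsingleton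
  · intro y
    exact (Q.toExtension.exact_cotangentComplex_toKaehler y).mp (Subsingleton.elim _ _)

theorem nonempty_equiv (g : S) [IsLocalization.Away g T] [Finite σ] (P : Generators R S ι)
    (Q : Generators S T σ) :
    Nonempty ((Q.comp P).toExtension.Cotangent ≃ₗ[T]
      (T ⊗[S] P.toExtension.Cotangent) × (σ → T)) := by
  have : Algebra.FormallyEtale S T := Algebra.FormallyEtale.of_isLocalization (Submonoid.powers g)
  have hex := Generators.Cotangent.exact Q P
  have hinj := liftBaseChange_injective g P Q
  have hsurj := Generators.Cotangent.surjective_map_ofComp Q P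
  let e₁ : Q.toExtension.Cotangent ≃ₗ[T] Q.toExtension.CotangentSpace :=
    LinearEquiv.ofBijective _ (cotangentComplex_bijective Q)
  have : Module.Projective T Q.toExtension.Cotangent := Module.Projective.of_equiv e₁.symm
  obtain ⟨s, hs⟩ := Module.projective_lifting_property _ LinearMap.id hsurj
  let e := (hex.splitSurjectiveEquiv hinj ⟨s, hs⟩).1
  cases nonempty_fintype σ
  exact ⟨e ≪≫ₗ (LinearEquiv.prodCongr (LinearEquiv.refl T _)
    (e₁ ≪≫ₗ Q.cotangentSpaceBasis.equivFun))⟩

end LemmaX

section Assembly

variable {R S : Type u} [CommRing R] [CommRing S] [Algebra R S]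

/-- cotangent of `Extension.ofSurjective f` vs `Generators.ofAlgHom f`. -/
noncomputable def ofSurjEquiv {I : Type} (f : MvPolynomial I R →ₐ[R] S)
    (hf : Function.Surjective f) :
    (Extension.ofSurjective f hf).Cotangent ≃ₗ[S]
      (Generators.ofAlgHom f hf).toExtension.Cotangent :=
  cotEquiv (P := Extension.ofSurjective f hf) (P' := (Generators.ofAlgHom f hf).toExtension)
    { toRingHom := RingHom.id _
      toRingHom_algebraMap := fun x => rfl
      algebraMap_toRingHom := fun x => by
        change aeval (f ∘ X) x = f x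
        exact (DFunLike.congr_fun (MvPolynomial.aeval_unique f) x).symm }
    { toRingHom := RingHom.id _
      toRingHom_algebraMap := fun x => rfl
      algebraMap_toRingHom := fun x => by
        change f x = aeval (f ∘ X) x
        exact (DFunLike.congr_fun (MvPolynomial.aeval_unique f) x) }
    (Extension.Hom.ext rfl) (Extension.Hom.ext rfl)

theorem main (g : S) (n m : ℕ)
    (α : MvPolynomial (Fin n) R →ₐ[R] S) (hα : Function.Surjective α)
    (β : MvPolynomial (Fin m) R →ₐ[R] Localization.Away g) (hβ : Function.Surjective β) :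
    Nonempty ((LocalizedModule (Submonoid.powers g) (Extension.ofSurjective α hα).Cotangent ×
        (Fin m → Localization.Away g)) ≃ₗ[Localization.Away g]
      ((Extension.ofSurjective β hβ).Cotangent × (Fin n → Localization.Away g))) := by
  have hQ : Function.Surjective
      (aeval (R := S) (fun j : Fin m => β (X j))) := by
    intro t
    obtain ⟨p, rfl⟩ := hβ t
    refine ⟨MvPolynomial.map (algebraMap R S) p, ?_⟩
    rw [aeval_def, eval₂_map, ← IsScalarTower.algebraMap_eq, ← aeval_def]
    exact (DFunLike.congr_fun (MvPolynomial.aeval_unique β) p).symm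
  have h₀ : Function.Surjective (aeval (R := Localization.Away g)
      (fun i : Fin n => algebraMap S (Localization.Away g) (α (X i)))) :=
    fun t => ⟨C t, by simp⟩
  obtain ⟨Q, hQdef⟩ : ∃ Q : Generators S (Localization.Away g) (Fin m),
      Q = Generators.ofSurjective _ hQ := ⟨_, rfl⟩
  obtain ⟨Q₀, hQ₀def⟩ : ∃ Q₀ : Generators (Localization.Away g) (Localization.Away g) (Fin n),
      Q₀ = Generators.ofSurjective _ h₀ := ⟨_, rfl⟩
  obtain ⟨Pα, hPα⟩ : ∃ Pα : Generators R S (Fin n), Pα = Generators.ofAlgHom α hα := ⟨_, rfl⟩
  obtain ⟨Pβ, hPβ⟩ : ∃ Pβ : Generators R (Localization.Away g) (Fin m),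
      Pβ = Generators.ofAlgHom β hβ := ⟨_, rfl⟩
  obtain ⟨e1⟩ := nonempty_equiv g Pα Q
  have : IsLocalization.Away (1 : Localization.Away g) (Localization.Away g) :=
    IsLocalization.away_of_isUnit_of_bijective _ isUnit_one Function.bijective_id
  obtain ⟨e2⟩ := nonempty_equiv (1 : Localization.Away g) Pβ Q₀
  let f₁₂ : (Q.comp Pα).Hom (Q₀.comp Pβ) :=
    { val := fun k => X (Sum.swap k)
      aeval_val := by
        rintro (j | i)
        · simp [hQdef, hQ₀def, hPα, hPβ, Generators.ofAlgHom]
        · simp [hQdef, hQ₀def, hPα, hPβ, Generators.ofAlgHom] }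
  let f₂₁ : (Q₀.comp Pβ).Hom (Q.comp Pα) :=
    { val := fun k => X (Sum.swap k)
      aeval_val := by
        rintro (j | i)
        · simp [hQdef, hQ₀def, hPα, hPβ, Generators.ofAlgHom]
        · simp [hQdef, hQ₀def, hPα, hPβ, Generators.ofAlgHom] }
  have h21 : f₂₁.comp f₁₂ = Generators.Hom.id _ := by
    apply Generators.Hom.ext
    funext k
    simp [f₁₂, f₂₁, Generators.Hom.comp, Generators.Hom.id]
  have h12 : f₁₂.comp f₂₁ = Generators.Hom.id _ := by
    apply Generators.Hom.ext
    funext k
    simp [f₁₂, f₂₁, Generators.Hom.comp, Generators.Hom.id]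
  let e3 : (Q.comp Pα).toExtension.Cotangent ≃ₗ[Localization.Away g]
      (Q₀.comp Pβ).toExtension.Cotangent :=
    cotEquiv f₁₂.toExtensionHom f₂₁.toExtensionHom
      (by rw [← Generators.Hom.toExtensionHom_comp, h21, Generators.Hom.toExtensionHom_id])
      (by rw [← Generators.Hom.toExtensionHom_comp, h12, Generators.Hom.toExtensionHom_id])
  subst hPα hPβ
  let a1 : LocalizedModule (Submonoid.powers g) (Extension.ofSurjective α hα).Cotangent
      ≃ₗ[Localization.Away g]
      Localization.Away g ⊗[S] (Generators.ofAlgHom α hα).toExtension.Cotangent :=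
    (LocalizedModule.equivTensorProduct (Submonoid.powers g) _) ≪≫ₗ
      (TensorProduct.AlgebraTensorModule.congr (LinearEquiv.refl _ _) (ofSurjEquiv α hα))
  exact ⟨(LinearEquiv.prodCongr a1 (LinearEquiv.refl _ _)) ≪≫ₗ e1.symm ≪≫ₗ e3 ≪≫ₗ e2 ≪≫ₗ
    (LinearEquiv.prodCongr ((TensorProduct.lid _ _) ≪≫ₗ (ofSurjEquiv β hβ).symm)
      (LinearEquiv.refl _ _))⟩

end Assembly

end Groth.Agent.Helper6.CotLoc
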