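import Mathlib
import Groth.Prelude.Def_DecSh
import Groth.Prelude.Def_DecSh2
import Groth.Agent.Lib.Helper6.HilbDeg
import Groth.Agent.Lib.Helper13.TensorUnit
import Groth.Agent.Lib.Helper5.K0Coh
import Groth.Agent.Lib.Helper24.PtIdeal0
import Groth.Agent.Lib.Lead.EulerK0

/-!
# Multiplicities `DecSh.mult` are nonnegative on proper schemes of dimension ≤ 1 (Snapper + Serre
vanishing), elementary bounds for `DecSh.WFilt.mu`, and the one-step consequence of δ-semistability.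
-/

universe v u
open CategoryTheory CategoryTheory.Limits AlgebraicGeometry

namespace Groth.Agent.Helper6.DecMult

section Abstract

variable {C : Type u} [Category.{v} C] {E : C}

theorem nu_le (𝓕 : DecSh.WFilt E) (αE : ℤ) (α : Subobject E → ℤ) {a : ℕ}
    (I : Fin a → Fin (𝓕.t + 1)) (i : Fin 𝓕.t) : 𝓕.nu αE α I i ≤ a := by
  unfold DecSh.WFilt.nu
  calc _ ≤ (Finset.univ : Finset (Fin a)).card := Finset.card_le_card (Finset.filter_subset _ _)
    _ = a := by simp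

theorem gam_ge (𝓕 : DecSh.WFilt E) (αE : ℤ) (α : Subobject E → ℤ) (hαE : 0 ≤ αE) {a : ℕ}
    (I : Fin a → Fin (𝓕.t + 1)) :
    ∑ i, 𝓕.wt i * ((a : ℚ) * (α (𝓕.piece i) : ℚ) - (a : ℚ) * (αE : ℚ)) ≤ 𝓕.gam αE α I := by
  unfold DecSh.WFilt.gam
  apply Finset.sum_le_sum
  intro i _
  apply mul_le_mul_of_nonneg_left _ (𝓕.wt_pos i).le
  have hν : (𝓕.nu αE α I i : ℚ) ≤ (a : ℚ) := by
    exact_mod_cast nu_le 𝓕 αE α I i
  have hα : (0 : ℚ) ≤ (αE : ℚ) := by exact_mod_cast hαE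
  have := mul_le_mul_of_nonneg_right hν hα
  linarith

theorem gam_le (𝓕 : DecSh.WFilt E) (αE : ℤ) (α : Subobject E → ℤ) (hαE : 0 ≤ αE) {a : ℕ}
    (I : Fin a → Fin (𝓕.t + 1)) :
    𝓕.gam αE α I ≤ ∑ i, 𝓕.wt i * ((a : ℚ) * (α (𝓕.piece i) : ℚ)) := by
  unfold DecSh.WFilt.gam
  apply Finset.sum_le_sum
  intro i _
  apply mul_le_mul_of_nonneg_left _ (𝓕.wt_pos i).le
  have hν : (0 : ℚ) ≤ (𝓕.nu αE α I i : ℚ) := by positivity
  have hα : (0 : ℚ) ≤ (αE : ℚ) := by exact_mod_cast hαE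
  have := mul_nonneg hν hα
  linarith

theorem mu_ge (𝓕 : DecSh.WFilt E) (αE : ℤ) (α : Subobject E → ℤ) (hαE : 0 ≤ αE) {a : ℕ}
    (N : DecSh.NV E a) :
    ∑ i, 𝓕.wt i * ((a : ℚ) * (α (𝓕.piece i) : ℚ) - (a : ℚ) * (αE : ℚ)) ≤ 𝓕.mu αE α N := by
  obtain ⟨I, _, hgam⟩ := 𝓕.exists_gam_eq_mu αE α N
  rw [← hgam]
  exact gam_ge 𝓕 αE α hαE I

theorem single_mu_ge (P : Subobject E) (hP : P ≠ ⊤) (hP0 : ¬ IsZero (P : C)) (αE : ℤ)
    (α : Subobject E → ℤ) (hαE : 0 ≤ αE) {a : ℕ} (N : DecSh.NV E a) :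
    (a : ℚ) * (α P : ℚ) - (a : ℚ) * (αE : ℚ) ≤ (DecSh.WFilt.single P hP hP0).mu αE α N := by
  have h := mu_ge (DecSh.WFilt.single P hP hP0) αE α hαE N
  have h2 : ∑ i, (DecSh.WFilt.single P hP hP0).wt i *
      ((a : ℚ) * (α ((DecSh.WFilt.single P hP hP0).piece i) : ℚ) - (a : ℚ) * (αE : ℚ)) =
      (a : ℚ) * (α P : ℚ) - (a : ℚ) * (αE : ℚ) := by
    change ∑ _i : Fin 1, (1 : ℚ) * ((a : ℚ) * (α P : ℚ) - (a : ℚ) * (αE : ℚ)) = _
    simp
  rw [h2] at h
  exact h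

theorem single_msum (P : Subobject E) (hP : P ≠ ⊤) (hP0 : ¬ IsZero (P : C)) (αE : ℤ)
    (α : Subobject E → ℤ) (dE : ℚ) (d : Subobject E → ℚ) :
    (DecSh.WFilt.single P hP hP0).msum αE α dE d = (αE : ℚ) * d P - (α P : ℚ) * dE := by
  change ∑ _i : Fin 1, (1 : ℚ) * ((αE : ℚ) * d P - (α P : ℚ) * dE) = _
  simp

end Abstract

section Sheaf

variable (k : Type u) [Field k] (X : Scheme.{u}) [X.Over (Spec (CommRingCat.of k))]
  [IsProper (X ↘ Spec (CommRingCat.of k))]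

theorem mult_eq_of_iso (L : X.Modules) (hL : PicF.IsInvertible L) {M N : X.Modules} (e : M ≅ N)
    (hM : Coh.IsCoh M) : DecSh.mult k X L M = DecSh.mult k X L N := by
  have hN : Coh.IsCoh N := Groth.Agent.Helper5.K0Coh.isCoh_of_iso e hM
  unfold DecSh.mult
  rw [Groth.Agent.Lead.EulerK0.euler_iso k e hM hN,
    Groth.Agent.Lead.EulerK0.euler_iso k (Groth.Agent.Helper13.Tensor.mapIso e (Iso.refl L))
      (Groth.Agent.Helper24.PtIdeal.isCoh_tensor_invertible M L hM hL)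
      (Groth.Agent.Helper24.PtIdeal.isCoh_tensor_invertible N L hN hL)]

/-- On a proper `k`-scheme of dimension `≤ 1` with `L` ample, there is a polynomial of degree `≤ 1`
computing `χ(G ⊗ L^m)`, with linear coefficient `mult` and constant coefficient `χ(G)`. -/
theorem exists_linear_hilb (hdim : topologicalKrullDim X ≤ 1) (L : X.Modules)
    (hL : PicF.IsInvertible L) (G : X.Modules) (hG : Coh.IsCoh G) :
    ∀ m : ℕ, (Curv2.euler k X (ShStab.twist X L G m) : ℚ) =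
      (DecSh.mult k X L G : ℚ) * (m : ℚ) + (Curv2.euler k X G : ℚ) := by
  have hsupp' : topologicalKrullDim ↥(CohB1.support G) ≤ ((1 : ℕ) : WithBot ℕ∞) := by
    refine le_trans (Topology.IsInducing.subtypeVal.topologicalKrullDim_le) ?_
    exact_mod_cast hdim
  obtain ⟨Pm, hdeg, hev⟩ :=
    Groth.Agent.S1528.result k X G hG 1 hsupp' 1 (fun _ => L) (fun _ => hL)
  obtain ⟨Q, hQ⟩ : ∃ Q : Polynomial ℚ,
      Q = MvPolynomial.aeval (fun _ : Fin 1 => (Polynomial.X : Polynomial ℚ)) Pm := ⟨_, rfl⟩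
  have hQdeg : Q.natDegree ≤ 1 := by
    have := MvPolynomial.aeval_natDegree_le (n := 1) Pm hdeg
      (fun _ : Fin 1 => (Polynomial.X : Polynomial ℚ)) (fun _ => Polynomial.natDegree_X_le)
    rw [hQ]
    simpa using this
  have hQev : ∀ m : ℕ, (Curv2.euler k X (ShStab.twist X L G m) : ℚ) = Q.eval (m : ℚ) := by
    intro m
    rw [hQ, Groth.Agent.Helper6.HilbDeg.eval_aeval_X]
    exact hev (fun _ => m)
  have hQform : ∀ x : ℚ, Q.eval x = Q.coeff 1 * x + Q.coeff 0 := by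
    intro x
    have h := congrArg (Polynomial.eval x) (Polynomial.eq_X_add_C_of_natDegree_le_one hQdeg)
    simpa using h
  have h0 : Curv2.euler k X (ShStab.twist X L G 0) = Curv2.euler k X G :=
    Groth.Agent.Lead.EulerK0.euler_iso k (Groth.Agent.Helper13.Tensor.rid G)
      (Groth.Agent.Helper5.K0Coh.isCoh_of_iso (Groth.Agent.Helper13.Tensor.rid G).symm hG) hG
  have hGL : Coh.IsCoh (CohB1.tensorMod G L) :=
    Groth.Agent.Helper24.PtIdeal.isCoh_tensor_invertible G L hG hL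
  have e1 : ShStab.twist X L G 1 ≅ CohB1.tensorMod G L :=
    Groth.Agent.Helper13.Tensor.mapIso (Iso.refl G) (Groth.Agent.Helper13.Tensor.lid L)
  have h1 : Curv2.euler k X (ShStab.twist X L G 1) = Curv2.euler k X (CohB1.tensorMod G L) :=
    Groth.Agent.Lead.EulerK0.euler_iso k e1
      (Groth.Agent.Helper5.K0Coh.isCoh_of_iso e1.symm hGL) hGL
  have hc0 : (Curv2.euler k X G : ℚ) = Q.coeff 0 := by
    rw [← h0, hQev 0, hQform]
    simp
  have hc1 : (DecSh.mult k X L G : ℚ) = Q.coeff 1 := by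
    unfold DecSh.mult
    rw [← h1, ← h0]
    push_cast
    rw [hQev 1, hQev 0, hQform, hQform]
    push_cast
    ring
  intro m
  rw [hQev m, hQform, hc0, hc1]

theorem mult_nonneg (hdim : topologicalKrullDim X ≤ 1) (L : X.Modules) (hL : CohB1.IsAmple L)
    (G : X.Modules) (hG : Coh.IsCoh G) : 0 ≤ DecSh.mult k X L G := by
  have hlin := exists_linear_hilb k X hdim L hL.1 G hG
  obtain ⟨n₀, hn₀⟩ :=
    Groth.Agent.Helper6.HilbDeg.exists_forall_euler_twist_nonneg k X L hL G hG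
  by_contra hneg
  push Not at hneg
  have hle : DecSh.mult k X L G ≤ -1 := by omega
  have hleQ : (DecSh.mult k X L G : ℚ) ≤ -1 := by exact_mod_cast hle
  -- pick m large
  obtain ⟨m, hm1, hm2⟩ : ∃ m : ℕ, n₀ ≤ m ∧ (Curv2.euler k X G : ℚ) < (m : ℚ) := by
    obtain ⟨m', hm'⟩ := exists_nat_gt (Curv2.euler k X G : ℚ)
    refine ⟨max n₀ m', le_max_left _ _, lt_of_lt_of_le hm' ?_⟩
    exact_mod_cast le_max_right n₀ m'
  have h1 : (0 : ℚ) ≤ (Curv2.euler k X (ShStab.twist X L G m) : ℚ) := by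
    exact_mod_cast hn₀ m hm1
  rw [hlin m] at h1
  have hmpos : (0 : ℚ) ≤ (m : ℚ) := by positivity
  nlinarith

/-- One-step consequence of δ-semistability. -/
theorem semistable_sub_bound (hdim : topologicalKrullDim X ≤ 1) (L : X.Modules)
    (hL : CohB1.IsAmple L) (E : X.Modules) (hE : Coh.IsCoh E) {D : X.Modules} {a b : ℕ}
    (T : DecSh.TF E a b D) (δ : ℚ) (hδ : 0 < δ) (hT : T.IsSemistable k L δ)
    (P : Subobject E) (hPtop : P ≠ ⊤) (hP0 : ¬ IsZero (P : X.Modules))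
    (hPcoh : Coh.IsCoh (P : X.Modules)) :
    (DecSh.mult k X L E : ℚ) * (Curv2.euler k X (P : X.Modules) : ℚ) -
        (DecSh.mult k X L (P : X.Modules) : ℚ) * (Curv2.euler k X E : ℚ)
      ≤ δ * (a : ℚ) * ((DecSh.mult k X L E : ℚ) - (DecSh.mult k X L (P : X.Modules) : ℚ)) := by
  have hαE := mult_nonneg k X hdim L hL E hE
  have hss := hT (DecSh.WFilt.single P hPtop hP0) (fun _ => hPcoh)
  rw [single_msum] at hss
  have hmu := single_mu_ge P hPtop hP0 (DecSh.mult k X L E)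
    (fun P => DecSh.mult k X L (P : X.Modules)) hαE T.nv
  have h3 := mul_le_mul_of_nonneg_left hmu hδ.le
  linarith

end Sheaf

end Groth.Agent.Helper6.DecMult
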