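import Mathlib
import Groth.Prelude.Def_DecSh
import Groth.Agent.Lib.Helper6.DecMult

/-!
# The bound `|μ| ≤ (Σ mᵢ) · a · (αE − 1)` for a weighted filtration whose multiplicities lie in `[1, αE]`.
-/

universe v u
open CategoryTheory CategoryTheory.Limits

namespace Groth.Agent.Helper6.DecMu

variable {C : Type u} [Category.{v} C] {E : C}

theorem nu_last (𝓕 : DecSh.WFilt E) (αE : ℤ) (α : Subobject E → ℤ) (a : ℕ) (i : Fin 𝓕.t) :
    𝓕.nu αE α (fun _ : Fin a => Fin.last 𝓕.t) i = if αE ≤ α (𝓕.piece i) then a else 0 := by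
  unfold DecSh.WFilt.nu
  simp only [DecSh.WFilt.mulX_last]
  split_ifs with hc
  · rw [Finset.filter_true_of_mem (fun _ _ => hc)]
    simp
  · rw [Finset.filter_false_of_mem (fun _ _ => hc)]
    simp

theorem abs_mu_le (𝓕 : DecSh.WFilt E) (αE : ℤ) (α : Subobject E → ℤ) {a : ℕ} (N : DecSh.NV E a)
    (h1 : ∀ i, 1 ≤ α (𝓕.piece i)) (h2 : ∀ i, α (𝓕.piece i) ≤ αE) :
    |𝓕.mu αE α N| ≤ (∑ i, 𝓕.wt i) * (a : ℚ) * ((αE : ℚ) - 1) := by
  have hαE1 : 1 ≤ αE := (h1 ⟨0, 𝓕.t_pos⟩).trans (h2 ⟨0, 𝓕.t_pos⟩)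
  have hαE0 : 0 ≤ αE := by omega
  have ha : (0 : ℚ) ≤ (a : ℚ) := by positivity
  have hαE1' : (1 : ℚ) ≤ (αE : ℚ) := by exact_mod_cast hαE1
  rw [abs_le]
  constructor
  · have h := Groth.Agent.Helper6.DecMult.mu_ge 𝓕 αE α hαE0 N
    refine le_trans ?_ h
    rw [Finset.sum_mul, Finset.sum_mul, ← Finset.sum_neg_distrib]
    apply Finset.sum_le_sum
    intro i _
    have hw := (𝓕.wt_pos i).le
    have hα1 : (1 : ℚ) ≤ (α (𝓕.piece i) : ℚ) := by exact_mod_cast h1 i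
    have := mul_nonneg (mul_nonneg hw ha) (sub_nonneg.mpr hα1)
    nlinarith [this]
  · have h := 𝓕.mu_le_gam αE α N (𝓕.adm_last N)
    refine le_trans h ?_
    unfold DecSh.WFilt.gam
    rw [Finset.sum_mul, Finset.sum_mul]
    apply Finset.sum_le_sum
    intro i _
    have hw := (𝓕.wt_pos i).le
    rw [nu_last]
    split_ifs with hc
    · have heq : α (𝓕.piece i) = αE := le_antisymm (h2 i) hc
      rw [heq]
      have hz : 𝓕.wt i * ((a : ℚ) * (αE : ℚ) - ((a : ℕ) : ℚ) * (αE : ℚ)) = 0 := by ring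
      rw [hz]
      exact mul_nonneg (mul_nonneg hw ha) (by linarith)
    · push Not at hc
      have hlt : (α (𝓕.piece i) : ℚ) ≤ (αE : ℚ) - 1 := by
        have : α (𝓕.piece i) ≤ αE - 1 := by omega
        exact_mod_cast this
      simp only [Nat.cast_zero, zero_mul, sub_zero]
      have := mul_le_mul_of_nonneg_left hlt (mul_nonneg hw ha)
      calc 𝓕.wt i * ((a : ℚ) * (α (𝓕.piece i) : ℚ))
          = 𝓕.wt i * (a : ℚ) * (α (𝓕.piece i) : ℚ) := by ring
        _ ≤ _ := this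

end Groth.Agent.Helper6.DecMu
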