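import Mathlib
import Groth.Agent.Lib.Helper6.DecMult
import Groth.Agent.Lib.Lead.NefDeg
import Groth.Agent.Lib.Helper13.K0Tensor
import Groth.Agent.Lib.Helper13.PbAmple
import Groth.Agent.S7647
import Groth.Agent.S1530

/-!
# Strict positivity of the multiplicity `DecSh.mult` on proper schemes of dimension one
(lead's `K₀` decomposition + S7647 + S1530).
-/

universe u
open CategoryTheory CategoryTheory.Limits AlgebraicGeometry

namespace Groth.Agent.Helper6.DecPos

open Groth.Agent.Lead.EulerK0 Groth.Agent.Lead.EffDeg Groth.Agent.Lead.DegTensor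

variable (k : Type u) [Field k] (X : Scheme.{u}) [X.Over (Spec (CommRingCat.of k))]
  [IsProper (X ↘ Spec (CommRingCat.of k))]

/-- positivity for the structure sheaf of a one-dimensional integral closed subset -/
theorem mult_closure_pos (hdim : topologicalKrullDim X ≤ 1) (L : X.Modules)
    (hL : CohB1.IsAmple L) (ξ : X)
    (hξ : topologicalKrullDim ↥(closure ({ξ} : Set X)) = ((1 : ℕ) : WithBot ℕ∞)) :
    0 < DecSh.mult k X L (Cyc.closureStructureSheaf ξ) := by
  haveI : IsNoetherian X := isNoetherian_of_proper' k X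
  have hOZ : Coh.IsCoh (Cyc.closureStructureSheaf ξ) :=
    Groth.Agent.Helper13.ClosureSheaf.isCoh_closureStructureSheaf ξ
  have hlin := Groth.Agent.Helper6.DecMult.exists_linear_hilb k X hdim L hL.1 _ hOZ
  obtain ⟨P, hPdef⟩ : ∃ P : MvPolynomial (Fin 1) ℚ, P =
      MvPolynomial.C (Curv2.euler k X (Cyc.closureStructureSheaf ξ) : ℚ) +
        MvPolynomial.C (DecSh.mult k X L (Cyc.closureStructureSheaf ξ) : ℚ) *
          MvPolynomial.X 0 := ⟨_, rfl⟩
  have hP : ∀ n : Fin 1 → ℕ,
      (Curv2.euler k X (Curv2.tensorPows (ClSub.quotMod (IntMult.ptIdeal ξ)) 1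
        (fun _ => L) n) : ℚ) = MvPolynomial.eval (fun i => (n i : ℚ)) P := by
    intro n
    have h : (Curv2.euler k X (Curv2.tensorPows (ClSub.quotMod (IntMult.ptIdeal ξ)) 1
        (fun _ => L) n) : ℚ) =
        (DecSh.mult k X L (Cyc.closureStructureSheaf ξ) : ℚ) * ((n (Fin.last 0) : ℕ) : ℚ) +
          (Curv2.euler k X (Cyc.closureStructureSheaf ξ) : ℚ) := hlin (n (Fin.last 0))
    rw [h, hPdef]
    have h00 : (Fin.last 0 : Fin 1) = 0 := rfl
    rw [h00]
    simp only [map_add, map_mul, MvPolynomial.eval_C, MvPolynomial.eval_X]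
    ring
  have hD : topologicalKrullDim ((IntMult.ptIdeal ξ).support : Set X) ≤ 1 := by
    rw [Groth.Agent.Lead.NefDeg.coe_support_ptIdeal, hξ, Nat.cast_one]
  have h7647 := Groth.Agent.S7647.result k X (IntMult.ptIdeal ξ) hD L hL.1 P hP
  have hcoeff : MvPolynomial.coeff (Finsupp.equivFunOnFinite.symm fun _ : Fin 1 => 1) P =
      (DecSh.mult k X L (Cyc.closureStructureSheaf ξ) : ℚ) := by
    have hs : (Finsupp.equivFunOnFinite.symm fun _ : Fin 1 => 1) =
        Finsupp.single (0 : Fin 1) 1 := by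
      apply Finsupp.ext
      intro i
      fin_cases i
      simp
    have hne : (0 : Fin 1 →₀ ℕ) ≠ Finsupp.single (0 : Fin 1) 1 := by
      intro h
      have := congrArg (fun f : Fin 1 →₀ ℕ => f 0) h
      simp at this
    rw [hs, hPdef, MvPolynomial.coeff_add, MvPolynomial.coeff_C, MvPolynomial.coeff_C_mul,
      MvPolynomial.coeff_X, if_neg hne]
    simp
  rw [hcoeff] at h7647
  letI inst : (IntMult.ptIdeal ξ).subscheme.Over (Spec (CommRingCat.of k)) :=
    ⟨(IntMult.ptIdeal ξ).subschemeι ≫ (X ↘ (Spec (CommRingCat.of k)))⟩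
  haveI : IsProper ((IntMult.ptIdeal ξ).subscheme ↘ Spec (CommRingCat.of k)) := by
    show IsProper ((IntMult.ptIdeal ξ).subschemeι ≫ (X ↘ (Spec (CommRingCat.of k))))
    infer_instance
  haveI : IsIntegral (IntMult.ptIdeal ξ).subscheme :=
    Groth.Agent.Lead.NefDeg.isIntegral_ptIdeal_subscheme ξ
  have hdimZ : topologicalKrullDim (IntMult.ptIdeal ξ).subscheme = 1 := by
    have hemb := (IntMult.ptIdeal ξ).subschemeι.isClosedEmbedding
    have h1 := IsHomeomorph.topologicalKrullDim_eq _
      hemb.isEmbedding.toHomeomorph.isHomeomorph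
    rw [h1]
    have hr := Groth.Agent.Helper13.ClosureSheaf.range_ptIdeal_subschemeι ξ
    rw [hr, hξ, Nat.cast_one]
  have hamp : CohB1.IsAmple
      ((Scheme.Modules.pullback (IntMult.ptIdeal ξ).subschemeι).obj L) :=
    Groth.Agent.Helper13.PbAmple.isAmple_pullback_of_isAffineHom _ L hL
  have hpos := (Groth.Agent.S1530.result k (IntMult.ptIdeal ξ).subscheme hdimZ _ hamp.1).mp hamp
  have hposQ : (0 : ℚ) < (DecSh.mult k X L (Cyc.closureStructureSheaf ξ) : ℚ) := by
    rw [h7647]
    exact_mod_cast hpos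
  exact_mod_cast hposQ

/-- strict positivity: a coherent module with a nonzero finite-length stalk at a point whose closure
has dimension one has multiplicity at least one. -/
theorem one_le_mult (hdim : topologicalKrullDim X ≤ 1) (L : X.Modules) (hL : CohB1.IsAmple L)
    (G : X.Modules) (hG : Coh.IsCoh G) (ξ : X)
    (hξ : topologicalKrullDim ↥(closure ({ξ} : Set X)) = ((1 : ℕ) : WithBot ℕ∞))
    (hlen : (Module.length (X.presheaf.stalk ξ) (G.presheaf.stalk ξ)).toNat ≠ 0) :
    1 ≤ DecSh.mult k X L G := by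
  haveI : IsNoetherian X := isNoetherian_of_proper' k X
  classical
  have hL1 : FlatMod.IsFinLocFreeOfRank 1 L := isFinLocFreeOfRank_one_of_isInvertible L hL.1
  have hd : topologicalKrullDim ↥(CohB1.support G) ≤ ((1 : ℕ) : WithBot ℕ∞) := by
    rw [Nat.cast_one]
    exact (topologicalKrullDim_subspace_le X _).trans hdim
  have hm := Groth.Agent.Helper13.K0Length.main (fun M : X.Modules => Coh.IsCoh M)
    (fun _ => Iff.rfl) 1 G hG hd
  have hfin := Groth.Agent.Helper13.K0Tensor.finite_support_term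
    (fun M : X.Modules => Coh.IsCoh M) 1 G hG hd
  have h0 := psi_eq_zero_of_mem_filtLt_one k L 1 hL1 _ hm
  rw [map_sub, psi_clSub k L 1 hL1 _ hG, map_finsum _ hfin] at h0
  obtain ⟨F, hF⟩ : ∃ F : X → ℤ, F = fun x : X => psi k L 1 hL1
      (if topologicalKrullDim ↥(closure ({x} : Set X)) = ((1 : ℕ) : WithBot ℕ∞) then
        (Module.length (X.presheaf.stalk x) (G.presheaf.stalk x)).toNat •
          KZero.clSub (fun M : X.Modules => Coh.IsCoh M) (Cyc.closureStructureSheaf x)
        else 0) := ⟨_, rfl⟩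
  have hFx : ∀ x, F x =
      if topologicalKrullDim ↥(closure ({x} : Set X)) = ((1 : ℕ) : WithBot ℕ∞) then
        ((Module.length (X.presheaf.stalk x) (G.presheaf.stalk x)).toNat : ℤ) *
          DecSh.mult k X L (Cyc.closureStructureSheaf x) else 0 := by
    intro x
    rw [hF]
    dsimp only
    split_ifs with hx
    · rw [map_nsmul, psi_clSub k L 1 hL1 _
        (Groth.Agent.Helper13.ClosureSheaf.isCoh_closureStructureSheaf x)]
      unfold DecSh.mult
      simp
    · rw [map_zero]
  have hnn : ∀ x, 0 ≤ F x := by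
    intro x
    rw [hFx]
    split_ifs with hx
    · exact mul_nonneg (by positivity) (mult_closure_pos k X hdim L hL x hx).le
    · exact le_rfl
  have hfinF : (Function.support F).Finite := by
    refine hfin.subset ?_
    intro x hx
    rw [Function.mem_support] at hx ⊢
    intro h
    apply hx
    rw [hF]
    dsimp only
    rw [h, map_zero]
  have hle : F ξ ≤ ∑ᶠ x, F x := single_le_finsum ξ hfinF hnn
  have hξ1 : 1 ≤ F ξ := by
    rw [hFx, if_pos hξ]
    have h1 : (1 : ℤ) ≤
        ((Module.length (X.presheaf.stalk ξ) (G.presheaf.stalk ξ)).toNat : ℤ) := by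
      exact_mod_cast Nat.one_le_iff_ne_zero.mpr hlen
    have h2 := mult_closure_pos k X hdim L hL ξ hξ
    nlinarith
  have hsum : (1 : ℤ) ≤ ∑ᶠ x : X, psi k L 1 hL1
      (if topologicalKrullDim ↥(closure ({x} : Set X)) = ((1 : ℕ) : WithBot ℕ∞) then
        (Module.length (X.presheaf.stalk x) (G.presheaf.stalk x)).toNat •
          KZero.clSub (fun M : X.Modules => Coh.IsCoh M) (Cyc.closureStructureSheaf x)
        else 0) := by
    have h := hξ1.trans hle
    rw [hF] at h
    exact h
  unfold DecSh.mult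
  rw [(Nat.cast_one : ((1 : ℕ) : ℤ) = 1), one_mul] at h0
  linarith

end Groth.Agent.Helper6.DecPos
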