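import Mathlib
import Groth.Prelude.Def_TorSh
import Groth.Agent.Lib.Helper6.DecMult
import Groth.Agent.Lib.Helper6.DecMu
import Groth.Agent.Lib.Helper6.DecPos
import Groth.Agent.Lib.Helper6.ParHilbA
import Groth.Agent.Lib.Helper13.QCohStalk
import Groth.Agent.S9514

/-!
# Multiplicities of the pieces of a weighted filtration of a torsion-free sheaf on a reduced curve
lie in `[1, α(E)]`; consequence for `DecSh.TF.mu` (S19311).
-/

universe u
open CategoryTheory CategoryTheory.Limits AlgebraicGeometry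

namespace Groth.Agent.Helper6.DecTF

/-- hypothesis (GEN): provided by `Groth.Agent.Helper28.GenStalk` / helper2. -/
def GenHyp (X : Scheme.{u}) : Prop :=
  ∀ (G : X.Modules), Coh.IsCoh G → TorSh.IsTorsionFree G → ¬ IsZero G →
    ∃ ξ : X, (∀ y : X, ξ ∈ closure ({y} : Set X) → y = ξ) ∧
      (Module.length (X.presheaf.stalk ξ) (G.presheaf.stalk ξ)).toNat ≠ 0

/-- hypothesis (P2): provided by `Groth.Agent.Helper13.DimMinimal`. -/
def P2Hyp (X : Scheme.{u}) : Prop :=
  ∀ ξ : X, (∀ y : X, ξ ∈ closure ({y} : Set X) → y = ξ) →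
    topologicalKrullDim ↥(closure ({ξ} : Set X)) = ((1 : ℕ) : WithBot ℕ∞)

theorem isTorsionFree_of_mono {X : Scheme.{u}} {F E : X.Modules} (ι : F ⟶ E) [Mono ι]
    (htf : TorSh.IsTorsionFree E) : TorSh.IsTorsionFree F := by
  intro x
  haveI := htf x
  have hinj := (Groth.Agent.Helper13.QCoh.mono_iff_stalk_injective ι).mp inferInstance x
  exact Function.Injective.moduleIsTorsionFree
    (fun m => Groth.Agent.Helper13.QCoh.stalkMap ι x m) hinj
    (fun r m => Groth.Agent.Helper13.QCoh.stalkMap_smul ι x r m)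

variable (k : Type u) [Field k] (X : Scheme.{u}) [X.Over (Spec (CommRingCat.of k))]
  [IsProper (X ↘ Spec (CommRingCat.of k))]

theorem mult_add (hdim : topologicalKrullDim X ≤ 1) (L : X.Modules) (hL : PicF.IsInvertible L)
    (S : ShortComplex X.Modules) (hS : S.ShortExact)
    (h₁ : Coh.IsCoh S.X₁) (h₂ : Coh.IsCoh S.X₂) (h₃ : Coh.IsCoh S.X₃) :
    DecSh.mult k X L S.X₂ = DecSh.mult k X L S.X₁ + DecSh.mult k X L S.X₃ := by
  have e0 := Groth.Agent.Helper6.ParHilb.euler_twist_add k X L hL S hS h₁ h₂ h₃ 0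
  have e1 := Groth.Agent.Helper6.ParHilb.euler_twist_add k X L hL S hS h₁ h₂ h₃ 1
  have l1 := Groth.Agent.Helper6.DecMult.exists_linear_hilb k X hdim L hL S.X₁ h₁
  have l2 := Groth.Agent.Helper6.DecMult.exists_linear_hilb k X hdim L hL S.X₂ h₂
  have l3 := Groth.Agent.Helper6.DecMult.exists_linear_hilb k X hdim L hL S.X₃ h₃
  have e0' : (Curv2.euler k X (ShStab.twist X L S.X₂ 0) : ℚ) =
      (Curv2.euler k X (ShStab.twist X L S.X₁ 0) : ℚ) +
        (Curv2.euler k X (ShStab.twist X L S.X₃ 0) : ℚ) := by exact_mod_cast e0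
  have e1' : (Curv2.euler k X (ShStab.twist X L S.X₂ 1) : ℚ) =
      (Curv2.euler k X (ShStab.twist X L S.X₁ 1) : ℚ) +
        (Curv2.euler k X (ShStab.twist X L S.X₃ 1) : ℚ) := by exact_mod_cast e1
  rw [l2 0, l1 0, l3 0] at e0'
  rw [l2 1, l1 1, l3 1] at e1'
  have h : (DecSh.mult k X L S.X₂ : ℚ) =
      (DecSh.mult k X L S.X₁ : ℚ) + (DecSh.mult k X L S.X₃ : ℚ) := by
    push_cast at e0' e1'
    linarith
  exact_mod_cast h

theorem mult_le_of_subobject (hdim : topologicalKrullDim X ≤ 1) (L : X.Modules)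
    (hL : CohB1.IsAmple L) (E : X.Modules) (hE : Coh.IsCoh E) (P : Subobject E)
    (hP : Coh.IsCoh (P : X.Modules)) :
    DecSh.mult k X L (P : X.Modules) ≤ DecSh.mult k X L E := by
  haveI : IsLocallyNoetherian X :=
    LocallyOfFiniteType.isLocallyNoetherian (X ↘ Spec (CommRingCat.of k))
  have hQ : Coh.IsCoh (cokernel P.arrow) := (Groth.Agent.S9514.result X hP hE P.arrow).2
  let S : ShortComplex X.Modules :=
    ShortComplex.mk P.arrow (cokernel.π P.arrow) (cokernel.condition P.arrow)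
  have hS : S.ShortExact :=
    { exact := ShortComplex.exact_cokernel _
      mono_f := (inferInstance : Mono P.arrow)
      epi_g := (inferInstance : Epi (cokernel.π P.arrow)) }
  have hadd := mult_add k X hdim L hL.1 S hS hP hE hQ
  have hnn := Groth.Agent.Helper6.DecMult.mult_nonneg k X hdim L hL (cokernel P.arrow) hQ
  have hadd' : DecSh.mult k X L E =
      DecSh.mult k X L (P : X.Modules) + DecSh.mult k X L (cokernel P.arrow) := hadd
  omega

theorem one_le_mult_of_torsionFree (hdim : topologicalKrullDim X ≤ 1) (L : X.Modules)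
    (hL : CohB1.IsAmple L) (G : X.Modules) (hG : Coh.IsCoh G) (htf : TorSh.IsTorsionFree G)
    (h0 : ¬ IsZero G) (gen : GenHyp X) (p2 : P2Hyp X) : 1 ≤ DecSh.mult k X L G := by
  obtain ⟨ξ, hmin, hlen⟩ := gen G hG htf h0
  exact Groth.Agent.Helper6.DecPos.one_le_mult k X hdim L hL G hG ξ (p2 ξ hmin) hlen

/-- the multiplicities of the pieces of a weighted filtration lie in `[1, α(E)]`. -/
theorem mult_bounds (hdim : topologicalKrullDim X ≤ 1) (L : X.Modules) (hL : CohB1.IsAmple L)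
    (E : X.Modules) (hE : Coh.IsCoh E) (htf : TorSh.IsTorsionFree E) (gen : GenHyp X)
    (p2 : P2Hyp X) (P : Subobject E) (hP : Coh.IsCoh (P : X.Modules))
    (hP0 : ¬ IsZero (P : X.Modules)) :
    1 ≤ DecSh.mult k X L (P : X.Modules) ∧
      DecSh.mult k X L (P : X.Modules) ≤ DecSh.mult k X L E :=
  ⟨one_le_mult_of_torsionFree k X hdim L hL _ hP (isTorsionFree_of_mono P.arrow htf) hP0 gen p2,
    mult_le_of_subobject k X hdim L hL E hE P hP⟩

theorem main19311 (hdim : topologicalKrullDim X ≤ 1) (L : X.Modules) (hL : CohB1.IsAmple L)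
    (E : X.Modules) (hE : Coh.IsCoh E) (htf : TorSh.IsTorsionFree E) (gen : GenHyp X)
    (p2 : P2Hyp X) {D : X.Modules} {a b : ℕ} (T : DecSh.TF E a b D) (𝓕 : DecSh.WFilt E)
    (hcoh : ∀ i, Coh.IsCoh ((𝓕.piece i : Subobject E) : X.Modules)) :
    |T.mu k L 𝓕| ≤ (∑ i, 𝓕.wt i) * (a : ℚ) * ((DecSh.mult k X L E : ℚ) - 1) :=
  Groth.Agent.Helper6.DecMu.abs_mu_le 𝓕 (DecSh.mult k X L E)
    (fun P => DecSh.mult k X L (P : X.Modules)) T.nv
    (fun i => (mult_bounds k X hdim L hL E hE htf gen p2 _ (hcoh i) (𝓕.piece_nonzero i)).1)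
    (fun i => (mult_bounds k X hdim L hL E hE htf gen p2 _ (hcoh i) (𝓕.piece_nonzero i)).2)

end Groth.Agent.Helper6.DecTF
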