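import Mathlib
import Groth.Agent.Lib.Helper6.DecTF

/-!
# The slope bound for generalized parabolic semistable tensor fields (S19315), modulo (GEN), (P2).
-/

universe u
open CategoryTheory CategoryTheory.Limits AlgebraicGeometry

namespace Groth.Agent.Helper6.DecPar

theorem finrank_sub_le {k V : Type*} [Field k] [AddCommGroup V] [Module k V] (S : Submodule k V)
    (r : ℕ) (hr : 0 < r) (h : Module.finrank k V = r) : Module.finrank k S ≤ r := by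
  haveI : Module.Finite k V := Module.finite_of_finrank_pos (by omega)
  exact h ▸ Submodule.finrank_le S

theorem par_core {ν : ℕ} (κ : Fin ν → ℚ) (hκ : ∀ i, 0 < κ i ∧ κ i < 1) (A B : Fin ν → ℕ) (r : ℕ)
    (hA : ∀ i, A i ≤ r) (αE αP : ℤ) (hP1 : 1 ≤ αP) (hPE : αP ≤ αE) (χE χP : ℤ) (a : ℕ) (δ : ℚ)
    (hδ : 0 < δ) (mu : ℚ) (hmu : (a : ℚ) * (αP : ℚ) - (a : ℚ) * (αE : ℚ) ≤ mu)
    (hss : ((αE : ℚ) * ((χP : ℚ) - ∑ i, κ i * (A i : ℚ)) -
      (αP : ℚ) * ((χE : ℚ) - ∑ i, κ i * (B i : ℚ))) + δ * mu ≤ 0) :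
    (χP : ℚ) / (αP : ℚ) ≤ (χE : ℚ) / (αE : ℚ) + ((a : ℚ) * δ + (r : ℚ) * (ν : ℚ)) := by
  have hp : (1 : ℚ) ≤ (αP : ℚ) := by exact_mod_cast hP1
  have hpq : (αP : ℚ) ≤ (αE : ℚ) := by exact_mod_cast hPE
  have hp0 : (0 : ℚ) < (αP : ℚ) := by linarith
  have hq0 : (0 : ℚ) < (αE : ℚ) := by linarith
  have ha : (0 : ℚ) ≤ (a : ℚ) := by positivity
  have hr : (0 : ℚ) ≤ (r : ℚ) := by positivity
  have hν : (0 : ℚ) ≤ (ν : ℚ) := by positivity
  have hSA : ∑ i, κ i * (A i : ℚ) ≤ (r : ℚ) * (ν : ℚ) := by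
    calc ∑ i, κ i * (A i : ℚ) ≤ ∑ _i : Fin ν, (r : ℚ) := by
          apply Finset.sum_le_sum
          intro i _
          have h1 : (A i : ℚ) ≤ (r : ℚ) := by exact_mod_cast hA i
          have h2 : (0 : ℚ) ≤ (A i : ℚ) := by positivity
          have h3 := (hκ i).2
          have h4 := (hκ i).1
          nlinarith
      _ = (r : ℚ) * (ν : ℚ) := by simp [mul_comm]
  have hSB : 0 ≤ ∑ i, κ i * (B i : ℚ) :=
    Finset.sum_nonneg (fun i _ => mul_nonneg (hκ i).1.le (by positivity))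
  have h3 := mul_le_mul_of_nonneg_left hmu hδ.le
  have key : (αE : ℚ) * (χP : ℚ) - (αP : ℚ) * (χE : ℚ) ≤
      (αE : ℚ) * ((a : ℚ) * δ + (r : ℚ) * (ν : ℚ)) := by
    nlinarith [mul_nonneg hp0.le hSB, mul_nonneg (mul_nonneg hδ.le ha) hp0.le,
      mul_le_mul_of_nonneg_left hSA hq0.le]
  rw [div_add' _ _ _ hq0.ne', div_le_div_iff₀ hp0 hq0]
  nlinarith [mul_nonneg (mul_nonneg (add_nonneg (mul_nonneg ha hδ.le) (mul_nonneg hr hν)) hq0.le)
    (sub_nonneg.mpr hp)]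

variable (k : Type u) [Field k] (Y : Scheme.{u}) [Y.Over (Spec (CommRingCat.of k))]
  [IsProper (Y ↘ Spec (CommRingCat.of k))]

theorem main19315 (hdim : topologicalKrullDim Y ≤ 1) (L : Y.Modules) (hL : CohB1.IsAmple L)
    (E : Y.Modules) (r : ℕ) (hr : 0 < r) (hEcoh : Coh.IsCoh E) (hEtf : TorSh.IsTorsionFree E)
    (gen : Groth.Agent.Helper6.DecTF.GenHyp Y) (p2 : Groth.Agent.Helper6.DecTF.P2Hyp Y)
    {ν : ℕ} (I : Fin ν → Y.IdealSheafData)
    (K : ∀ i, Submodule k (ParSh.fibD Y (I i) E))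
    (hK : ∀ i, Module.finrank k (ParSh.fibD Y (I i) E ⧸ K i) = r)
    (κ : Fin ν → ℚ) (hκ : ∀ i, 0 < κ i ∧ κ i < 1)
    {D : Y.Modules} {a b : ℕ} (T : DecSh.TF E a b D)
    (δ : ℚ) (hδ : 0 < δ) (hT : T.IsParSemistable k I K κ L δ)
    (F : Y.Modules) (ι : F ⟶ E) [Mono ι] (hF : Coh.IsCoh F) (hF0 : ¬ IsZero F) (hι : ¬ IsIso ι) :
    (Curv2.euler k Y F : ℚ) / (DecSh.mult k Y L F : ℚ) ≤
      (Curv2.euler k Y E : ℚ) / (DecSh.mult k Y L E : ℚ) + ((a : ℚ) * δ + (r : ℚ) * (ν : ℚ)) := by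
  have hPtop : Subobject.mk ι ≠ ⊤ := fun h => hι ((Subobject.isIso_iff_mk_eq_top ι).mpr h)
  have e : (Subobject.mk ι : Y.Modules) ≅ F := Subobject.underlyingIso ι
  have hP0 : ¬ IsZero (Subobject.mk ι : Y.Modules) := fun h => hF0 (h.of_iso e.symm)
  have hPcoh : Coh.IsCoh (Subobject.mk ι : Y.Modules) :=
    Groth.Agent.Helper5.K0Coh.isCoh_of_iso e.symm hF
  have hb := Groth.Agent.Helper6.DecTF.mult_bounds k Y hdim L hL E hEcoh hEtf gen p2
    (Subobject.mk ι) hPcoh hP0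
  have hαE : 0 ≤ DecSh.mult k Y L E := by omega
  have hss := hT (DecSh.WFilt.single (Subobject.mk ι) hPtop hP0) (fun _ => hPcoh)
  rw [Groth.Agent.Helper6.DecMult.single_msum] at hss
  have hmu := Groth.Agent.Helper6.DecMult.single_mu_ge (Subobject.mk ι) hPtop hP0
    (DecSh.mult k Y L E) (fun P => DecSh.mult k Y L (P : Y.Modules)) hαE T.nv
  unfold DecSh.parChi at hss
  have hcore := par_core κ hκ
    (fun i => Module.finrank k ((LinearMap.range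
      (ParSh.fibDMap k Y (I i) (Subobject.mk ι).arrow)).map (K i).mkQ))
    (fun i => Module.finrank k ((LinearMap.range
      (ParSh.fibDMap k Y (I i) (𝟙 E))).map (K i).mkQ)) r
    (fun i => finrank_sub_le _ r hr (hK i))
    (DecSh.mult k Y L E) (DecSh.mult k Y L (Subobject.mk ι : Y.Modules)) hb.1 hb.2
    (Curv2.euler k Y E) (Curv2.euler k Y (Subobject.mk ι : Y.Modules)) a δ hδ _ hmu hss
  rw [Groth.Agent.Helper6.DecMult.mult_eq_of_iso k Y L hL.1 e hPcoh,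
    Groth.Agent.Lead.EulerK0.euler_iso k e hPcoh hF] at hcore
  exact hcore

end Groth.Agent.Helper6.DecPar
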