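import Mathlib

/-!
# Flat deformations over `k[X]/(X^(n+1))`: algebraic preliminaries (helper6)

* facts on `D ≃ k[X]/(X^(n+1))`;
* a `k`-derivation `D → C` with `τ ↦ 1` for any `D`-algebra `C` in which `τ^n = 0`;
* the fibre isomorphism `K ⊗[k] (B/τB) ≃ K ⊗[D] B` when `τ ↦ 0` in `K`;
* smoothness of `B` over `D` from flatness and smoothness of the central fibre.
-/

open Polynomial TensorProduct

universe u

namespace Groth.Agent.Helper6.DefOmega

section Dfacts

variable {k : Type u} [Field k] {n : ℕ} {D : Type u} [CommRing D] [Algebra k D] {τ : D}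
  (e : (k[X] ⧸ Ideal.span {(X : k[X]) ^ (n + 1)}) ≃ₐ[k] D)
  (he : e (Ideal.Quotient.mk (Ideal.span {(X : k[X]) ^ (n + 1)}) X) = τ)

/-- The surjection `k[X] → D`. -/
noncomputable def q : k[X] →ₐ[k] D :=
  (e : (k[X] ⧸ Ideal.span {(X : k[X]) ^ (n + 1)}) →ₐ[k] D).comp
    (Ideal.Quotient.mkₐ k (Ideal.span {(X : k[X]) ^ (n + 1)}))

theorem q_apply (p : k[X]) :
    q e p = e (Ideal.Quotient.mk (Ideal.span {(X : k[X]) ^ (n + 1)}) p) := rfl

theorem q_surjective : Function.Surjective (q e) := by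
  intro d
  obtain ⟨y, rfl⟩ := e.surjective d
  obtain ⟨p, rfl⟩ := Ideal.Quotient.mk_surjective y
  exact ⟨p, rfl⟩

include he in
theorem q_X : q e X = τ := by rw [q_apply, he]

include he in
theorem q_eq_aeval (p : k[X]) : q e p = aeval τ p := by
  rw [← q_X e he, Polynomial.aeval_algHom_apply, Polynomial.aeval_X_left_apply]

include he in
theorem exists_aeval (d : D) : ∃ p : k[X], d = aeval τ p := by
  obtain ⟨p, rfl⟩ := q_surjective e d
  exact ⟨p, q_eq_aeval e he p⟩

theorem q_eq_zero_iff (p : k[X]) : q e p = 0 ↔ (X : k[X]) ^ (n + 1) ∣ p := by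
  rw [q_apply, map_eq_zero_iff e e.injective, Ideal.Quotient.eq_zero_iff_mem,
    Ideal.mem_span_singleton]

include he in
theorem tau_pow : τ ^ (n + 1) = 0 := by
  rw [← q_X e he, ← map_pow, q_eq_zero_iff]

include he in
theorem algHom_ext_tau {C : Type*} [Semiring C] [Algebra k C] (f g : D →ₐ[k] C)
    (h : f τ = g τ) : f = g := by
  have h2 : f.comp (q e) = g.comp (q e) := Polynomial.algHom_ext (by
    rw [AlgHom.comp_apply, AlgHom.comp_apply, q_X e he, h])
  ext d
  obtain ⟨p, rfl⟩ := q_surjective e d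
  exact DFunLike.congr_fun h2 p

include he in
theorem ann_tau_pow (d : D) (h : τ ^ (n - 1) * d = 0) (hn : 1 ≤ n) : ∃ d', d = τ ^ 2 * d' := by
  obtain ⟨p, rfl⟩ := q_surjective e d
  rw [← q_X e he, ← map_pow, ← map_mul, q_eq_zero_iff] at h
  have h3 : (X : k[X]) ^ (n + 1) = X ^ (n - 1) * X ^ 2 := by
    rw [← pow_add]; congr 1; omega
  rw [h3, mul_dvd_mul_iff_left (pow_ne_zero _ X_ne_zero)] at h
  obtain ⟨r, rfl⟩ := h
  exact ⟨q e r, by rw [map_mul, map_pow, q_X e he]⟩

include e in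
theorem isNoetherianRing : IsNoetherianRing D :=
  isNoetherianRing_of_surjective k[X] D (q e).toRingHom (q_surjective e)

end Dfacts

section Deriv

variable {k : Type u} [Field k] {n : ℕ} {D : Type u} [CommRing D] [Algebra k D] (τ : D)
  (e : (k[X] ⧸ Ideal.span {(X : k[X]) ^ (n + 1)}) ≃ₐ[k] D)
  (he : e (Ideal.Quotient.mk (Ideal.span {(X : k[X]) ^ (n + 1)}) X) = τ)
  (C : Type u) [CommRing C] [Algebra k C] [Algebra D C] [IsScalarTower k D C]

/-- The element `(τ, 1)` of `C[ε]`. -/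
def xx : TrivSqZeroExt C C := TrivSqZeroExt.inl (algebraMap D C τ) + TrivSqZeroExt.inr 1

theorem fst_xx : (xx τ C).fst = algebraMap D C τ := by simp [xx]

theorem snd_xx : (xx τ C).snd = 1 := by simp [xx]

theorem xx_pow (hC : (algebraMap D C τ) ^ n = 0) : (xx τ C) ^ (n + 1) = 0 := by
  apply TrivSqZeroExt.ext
  · rw [TrivSqZeroExt.fst_pow, TrivSqZeroExt.fst_zero, fst_xx, pow_succ, hC, zero_mul]
  · rw [TrivSqZeroExt.snd_pow, TrivSqZeroExt.snd_zero, fst_xx]
    have : (n + 1).pred = n := rfl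
    rw [this, hC, zero_smul, smul_zero]

/-- The `k`-algebra map `k[X]/(X^(n+1)) → C[ε]`, `X ↦ (τ, 1)`. -/
noncomputable def psi0 (hC : (algebraMap D C τ) ^ n = 0) :
    (k[X] ⧸ Ideal.span {(X : k[X]) ^ (n + 1)}) →ₐ[k] TrivSqZeroExt C C :=
  Ideal.Quotient.liftₐ (Ideal.span {(X : k[X]) ^ (n + 1)}) (aeval (xx τ C)) (by
    intro a ha
    obtain ⟨r, rfl⟩ := Ideal.mem_span_singleton.mp ha
    rw [map_mul, map_pow, aeval_X, xx_pow τ C hC, zero_mul])

/-- The `k`-algebra map `D → C[ε]`, `τ ↦ (τ, 1)`. -/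
noncomputable def psi (hC : (algebraMap D C τ) ^ n = 0) : D →ₐ[k] TrivSqZeroExt C C :=
  (psi0 τ C hC).comp (e.symm : D →ₐ[k] (k[X] ⧸ Ideal.span {(X : k[X]) ^ (n + 1)}))

omit [IsScalarTower k D C] in
include he in
theorem psi_tau (hC : (algebraMap D C τ) ^ n = 0) : psi τ e C hC τ = xx τ C := by
  have h1 : e.symm τ = Ideal.Quotient.mk _ X := by rw [← he, e.symm_apply_apply]
  show psi0 τ C hC (e.symm τ) = _
  rw [h1]
  exact aeval_X _

include he in
theorem fst_psi (hC : (algebraMap D C τ) ^ n = 0) (d : D) :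
    (psi τ e C hC d).fst = algebraMap D C d := by
  have := algHom_ext_tau e he ((TrivSqZeroExt.fstHom k C C).comp (psi τ e C hC))
    (IsScalarTower.toAlgHom k D C) (by
      rw [AlgHom.comp_apply, psi_tau τ e he C hC]
      simp [fst_xx])
  exact DFunLike.congr_fun this d

include he in
/-- The `k`-derivation `D → C` with `τ ↦ 1`. -/
noncomputable def der (hC : (algebraMap D C τ) ^ n = 0) : Derivation k D C :=
  Derivation.mk'
    { toFun := fun d => (psi τ e C hC d).snd
      map_add' := fun a b => by rw [map_add, TrivSqZeroExt.snd_add]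
      map_smul' := fun a b => by rw [map_smul, TrivSqZeroExt.snd_smul, RingHom.id_apply] }
    (by
      intro a b
      show (psi τ e C hC (a * b)).snd = a • (psi τ e C hC b).snd + b • (psi τ e C hC a).snd
      rw [map_mul, TrivSqZeroExt.snd_mul, fst_psi τ e he C hC, fst_psi τ e he C hC]
      simp only [smul_eq_mul, MulOpposite.smul_eq_mul_unop, MulOpposite.unop_op]
      rw [Algebra.smul_def, Algebra.smul_def]
      ring)

theorem der_tau (hC : (algebraMap D C τ) ^ n = 0) : der τ e he C hC τ = 1 := by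
  show (psi τ e C hC τ).snd = 1
  rw [psi_tau τ e he C hC, snd_xx]

end Deriv

section FiberIso

variable (k : Type u) {D : Type u} (B : Type u) [Field k] [CommRing D] [Algebra k D] [CommRing B]
  [Algebra k B] [Algebra D B] [IsScalarTower k D B]
  (K : Type u) [CommRing K] [Algebra k K] [Algebra D K] [IsScalarTower k D K]
  (τ : D) (hK : algebraMap D K τ = 0)
  (hext : ∀ (f g : D →ₐ[k] K ⊗[k] (B ⧸ Ideal.span {algebraMap D B τ})), f τ = g τ → f = g)

/-- `B/τB → K ⊗[D] B`. -/
noncomputable def gF : (B ⧸ Ideal.span {algebraMap D B τ}) →ₐ[k] K ⊗[D] B :=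
  Ideal.Quotient.liftₐ (Ideal.span {algebraMap D B τ})
    ((Algebra.TensorProduct.includeRight : B →ₐ[D] K ⊗[D] B).restrictScalars k) (by
      intro a ha
      obtain ⟨c, rfl⟩ := Ideal.mem_span_singleton.mp ha
      show (1 : K) ⊗ₜ[D] (algebraMap D B τ * c) = 0
      rw [← Algebra.smul_def, ← TensorProduct.smul_tmul, Algebra.smul_def, hK, zero_mul,
        TensorProduct.zero_tmul])

theorem gF_mk (b : B) : gF k B K τ hK (Ideal.Quotient.mk _ b) = (1 : K) ⊗ₜ[D] b := rfl

/-- `B → K ⊗[k] B/τB`, as a `D`-algebra map. -/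
noncomputable def gB : B →ₐ[D] K ⊗[k] (B ⧸ Ideal.span {algebraMap D B τ}) :=
  { toRingHom := (Algebra.TensorProduct.includeRight :
        (B ⧸ Ideal.span {algebraMap D B τ}) →ₐ[k]
          K ⊗[k] (B ⧸ Ideal.span {algebraMap D B τ})).toRingHom.comp
        (Ideal.Quotient.mk (Ideal.span {algebraMap D B τ}))
    commutes' := fun d => by
      have h := hext
        (((Algebra.TensorProduct.includeRight :
            (B ⧸ Ideal.span {algebraMap D B τ}) →ₐ[k]
              K ⊗[k] (B ⧸ Ideal.span {algebraMap D B τ})).comp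
            (Ideal.Quotient.mkₐ k (Ideal.span {algebraMap D B τ}))).comp
          (IsScalarTower.toAlgHom k D B))
        ((Algebra.TensorProduct.includeLeft :
            K →ₐ[k] K ⊗[k] (B ⧸ Ideal.span {algebraMap D B τ})).comp
          (IsScalarTower.toAlgHom k D K))
        (by
          show (1 : K) ⊗ₜ[k] (Ideal.Quotient.mk (Ideal.span {algebraMap D B τ})
              (algebraMap D B τ)) = (algebraMap D K τ) ⊗ₜ[k] 1
          rw [hK, TensorProduct.zero_tmul,
            Ideal.Quotient.eq_zero_iff_mem.mpr (Ideal.mem_span_singleton_self _),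
            TensorProduct.tmul_zero])
      exact DFunLike.congr_fun h d }

theorem gB_apply (b : B) :
    gB k B K τ hK hext b = (1 : K) ⊗ₜ[k] (Ideal.Quotient.mk (Ideal.span {algebraMap D B τ}) b) := rfl

/-- `K ⊗[k] B/τB → K ⊗[D] B`. -/
noncomputable def fwd : K ⊗[k] (B ⧸ Ideal.span {algebraMap D B τ}) →ₐ[K] K ⊗[D] B :=
  Algebra.TensorProduct.lift (Algebra.ofId K (K ⊗[D] B)) (gF k B K τ hK) (fun _ _ => Commute.all _ _)

/-- `K ⊗[D] B → K ⊗[k] B/τB`. -/
noncomputable def bwd : K ⊗[D] B →ₐ[K] K ⊗[k] (B ⧸ Ideal.span {algebraMap D B τ}) :=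
  Algebra.TensorProduct.lift (Algebra.ofId K _) (gB k B K τ hK hext) (fun _ _ => Commute.all _ _)

theorem fwd_tmul (a : K) (b : B) :
    fwd k B K τ hK (a ⊗ₜ[k] Ideal.Quotient.mk (Ideal.span {algebraMap D B τ}) b) = a ⊗ₜ[D] b := by
  show Algebra.ofId K (K ⊗[D] B) a * (1 : K) ⊗ₜ[D] b = _
  rw [Algebra.ofId_apply, Algebra.TensorProduct.algebraMap_apply,
    Algebra.TensorProduct.tmul_mul_tmul, mul_one, one_mul]
  rfl

theorem bwd_tmul (a : K) (b : B) :
    bwd k B K τ hK hext (a ⊗ₜ[D] b) =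
      a ⊗ₜ[k] Ideal.Quotient.mk (Ideal.span {algebraMap D B τ}) b := by
  show Algebra.ofId K (K ⊗[k] (B ⧸ Ideal.span {algebraMap D B τ})) a *
    (1 : K) ⊗ₜ[k] (Ideal.Quotient.mk (Ideal.span {algebraMap D B τ}) b) = _
  rw [Algebra.ofId_apply, Algebra.TensorProduct.algebraMap_apply,
    Algebra.TensorProduct.tmul_mul_tmul, mul_one, one_mul]
  rfl

/-- The fibre isomorphism. -/
noncomputable def fiberEquiv :
    (K ⊗[k] (B ⧸ Ideal.span {algebraMap D B τ})) ≃ₐ[K] K ⊗[D] B :=
  AlgEquiv.ofAlgHom (fwd k B K τ hK) (bwd k B K τ hK hext)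
    (Algebra.TensorProduct.ext' (fun a b => by
      rw [AlgHom.comp_apply, bwd_tmul, fwd_tmul]; rfl))
    (Algebra.TensorProduct.ext' (fun a f => by
      obtain ⟨b, rfl⟩ := Ideal.Quotient.mk_surjective f
      rw [AlgHom.comp_apply, fwd_tmul, bwd_tmul]; rfl))

end FiberIso

section Smooth

variable {k : Type u} [Field k] {n : ℕ} {D : Type u} [CommRing D] [Algebra k D] {τ : D}
  (e : (k[X] ⧸ Ideal.span {(X : k[X]) ^ (n + 1)}) ≃ₐ[k] D)
  (he : e (Ideal.Quotient.mk (Ideal.span {(X : k[X]) ^ (n + 1)}) X) = τ)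
  {B : Type u} [CommRing B] [Algebra k B] [Algebra D B] [IsScalarTower k D B]

include he in
/-- `B` is smooth over `D` as soon as it is flat, of finite type and `B/τB` is smooth over `k`. -/
theorem smooth [Algebra.FiniteType k B] [Module.Flat D B]
    (hsm : Algebra.Smooth k (B ⧸ Ideal.span {algebraMap D B τ})) : Algebra.Smooth D B := by
  have := isNoetherianRing e
  have hft : Algebra.FiniteType D B := Algebra.FiniteType.of_restrictScalars_finiteType k D B
  have hfp : Algebra.FinitePresentation D B := Algebra.FinitePresentation.of_finiteType.mp hft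
  refine Algebra.Smooth.of_formallySmooth_fiber (fun I hI => ?_)
  have hτI : τ ∈ I := hI.mem_of_pow_mem (n + 1) (by rw [tau_pow e he]; exact I.zero_mem)
  have hK : algebraMap D I.ResidueField τ = 0 := Ideal.algebraMap_residueField_eq_zero.mpr hτI
  have hfs : Algebra.FormallySmooth I.ResidueField
      (I.ResidueField ⊗[k] (B ⧸ Ideal.span {algebraMap D B τ})) := inferInstance
  exact Algebra.FormallySmooth.of_equiv
    (fiberEquiv k B I.ResidueField τ hK (fun f g h => algHom_ext_tau e he f g h))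

end Smooth

end Groth.Agent.Helper6.DefOmega
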