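import Groth.Agent.Lib.Helper6.DefOmegaA

/-!
# Flat deformations over `k[X]/(X^(n+1))`: the sequence of differentials (helper6)
-/

open Polynomial TensorProduct

universe u

namespace Groth.Agent.Helper6.DefOmega

section Tensor

variable {R : Type*} [CommRing R] (r : R) {M : Type*} [AddCommGroup M] [Module R M]

theorem mk_smul_one_tmul (b : R) (m : M) :
    (Ideal.Quotient.mk (Ideal.span {r}) b) • ((1 : R ⧸ Ideal.span {r}) ⊗ₜ[R] m) =
      (1 : R ⧸ Ideal.span {r}) ⊗ₜ[R] (b • m) := by
  rw [TensorProduct.smul_tmul', smul_eq_mul, mul_one, ← TensorProduct.smul_tmul,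
    Algebra.smul_def, mul_one, Ideal.Quotient.algebraMap_eq]

theorem exists_one_tmul (x : (R ⧸ Ideal.span {r}) ⊗[R] M) :
    ∃ m : M, x = (1 : R ⧸ Ideal.span {r}) ⊗ₜ[R] m := by
  induction x using TensorProduct.induction_on with
  | zero => exact ⟨0, (TensorProduct.tmul_zero _ _).symm⟩
  | tmul a m =>
    obtain ⟨b, rfl⟩ := Ideal.Quotient.mk_surjective a
    refine ⟨b • m, ?_⟩
    rw [← TensorProduct.smul_tmul, Algebra.smul_def, mul_one, Ideal.Quotient.algebraMap_eq]
  | add x y hx hy =>
    obtain ⟨m1, rfl⟩ := hx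
    obtain ⟨m2, rfl⟩ := hy
    exact ⟨m1 + m2, (TensorProduct.tmul_add _ _ _).symm⟩

theorem one_tmul_eq_zero (m : M) (h : (1 : R ⧸ Ideal.span {r}) ⊗ₜ[R] m = 0) :
    ∃ m', m = r • m' := by
  have h2 := congrArg (TensorProduct.quotTensorEquivQuotSMul M (Ideal.span {r})) h
  rw [TensorProduct.quotTensorEquivQuotSMul_mk_one_tmul, map_zero, Submodule.Quotient.mk_eq_zero,
    Submodule.ideal_span_singleton_smul, Submodule.mem_smul_pointwise_iff_exists] at h2
  obtain ⟨m', -, hm'⟩ := h2
  exact ⟨m', hm'.symm⟩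

theorem one_tmul_smul (m : M) : (1 : R ⧸ Ideal.span {r}) ⊗ₜ[R] (r • m) = 0 := by
  rw [← TensorProduct.smul_tmul, Algebra.smul_def, mul_one, Ideal.Quotient.algebraMap_eq,
    Ideal.Quotient.eq_zero_iff_mem.mpr (Ideal.mem_span_singleton_self r), TensorProduct.zero_tmul]

end Tensor

section Omega

variable {k : Type u} [Field k] {n : ℕ} {D : Type u} [CommRing D] [Algebra k D] {τ : D}
  (e : (k[X] ⧸ Ideal.span {(X : k[X]) ^ (n + 1)}) ≃ₐ[k] D)
  (he : e (Ideal.Quotient.mk (Ideal.span {(X : k[X]) ^ (n + 1)}) X) = τ)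

section General

variable (C : Type u) [CommRing C] [Algebra k C] [Algebra D C] [IsScalarTower k D C]

include he in
theorem D_algebraMap_mem (d' : D) :
    KaehlerDifferential.D k C (algebraMap D C d') ∈
      Submodule.span C {KaehlerDifferential.D k C (algebraMap D C τ)} := by
  obtain ⟨p, rfl⟩ := exists_aeval e he d'
  rw [← Polynomial.aeval_algebraMap_apply, Derivation.map_aeval]
  exact Submodule.smul_mem _ _ (Submodule.mem_span_singleton_self _)

include he in
theorem map_mem (ω : Ω[D⁄k]) :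
    KaehlerDifferential.map k k D C ω ∈
      Submodule.span C {KaehlerDifferential.D k C (algebraMap D C τ)} := by
  have hω : ω ∈ Submodule.span D (Set.range (KaehlerDifferential.D k D)) := by
    rw [KaehlerDifferential.span_range_derivation]; exact Submodule.mem_top
  induction hω using Submodule.span_induction with
  | mem x hx =>
    obtain ⟨d', rfl⟩ := hx
    rw [KaehlerDifferential.map_D]
    exact D_algebraMap_mem e he C d'
  | zero => rw [map_zero]; exact zero_mem _
  | add x y _ _ hx hy => rw [map_add]; exact add_mem hx hy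
  | smul a x _ hx =>
    rw [map_smul, ← algebraMap_smul C a]
    exact Submodule.smul_mem _ _ hx

include he in
theorem mapBaseChange_mem (x : C ⊗[D] Ω[D⁄k]) :
    KaehlerDifferential.mapBaseChange k D C x ∈
      Submodule.span C {KaehlerDifferential.D k C (algebraMap D C τ)} := by
  induction x using TensorProduct.induction_on with
  | zero => rw [map_zero]; exact zero_mem _
  | tmul c ω =>
    rw [KaehlerDifferential.mapBaseChange_tmul]
    exact Submodule.smul_mem _ _ (map_mem e he C ω)
  | add x y hx hy => rw [map_add]; exact add_mem hx hy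

include he in
theorem ker_map_exists (ω : Ω[C⁄k]) (hω : KaehlerDifferential.map k D C C ω = 0) :
    ∃ c : C, ω = c • KaehlerDifferential.D k C (algebraMap D C τ) := by
  obtain ⟨x, rfl⟩ := (KaehlerDifferential.exact_mapBaseChange_map k D C ω).mp hω
  obtain ⟨c, hc⟩ := Submodule.mem_span_singleton.mp (mapBaseChange_mem e he C x)
  exact ⟨c, hc.symm⟩

theorem map_D_tau :
    KaehlerDifferential.map k D C C (KaehlerDifferential.D k C (algebraMap D C τ)) = 0 := by
  rw [KaehlerDifferential.map_D, Algebra.algebraMap_self, RingHom.id_apply,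
    Derivation.map_algebraMap]

omit [IsScalarTower k D C] in
include he in
theorem pow_smul_D_tau [CharZero k] :
    (algebraMap D C τ) ^ n • KaehlerDifferential.D k C (algebraMap D C τ) = 0 := by
  have h1 : KaehlerDifferential.D k C ((algebraMap D C τ) ^ (n + 1)) = 0 := by
    rw [← map_pow, tau_pow e he, map_zero, map_zero]
  rw [Derivation.leibniz_pow, Nat.add_sub_cancel, ← Nat.cast_smul_eq_nsmul k] at h1
  rcases smul_eq_zero.mp h1 with h | h
  · exact absurd h (Nat.cast_ne_zero.mpr (Nat.succ_ne_zero n))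
  · exact h

end General

section Bsec

variable (B : Type u) [CommRing B] [Algebra k B] [Algebra D B] [IsScalarTower k D B]

theorem hC_quot :
    (algebraMap D (B ⧸ Ideal.span {(algebraMap D B τ) ^ n}) τ) ^ n = 0 := by
  rw [IsScalarTower.algebraMap_apply D B (B ⧸ Ideal.span {(algebraMap D B τ) ^ n}),
    Ideal.Quotient.algebraMap_eq]
  exact (map_pow _ _ _).symm.trans
    (Ideal.Quotient.eq_zero_iff_mem.mpr (Ideal.mem_span_singleton_self _))

theorem mapBaseChange_injective [Algebra.FormallySmooth D B] :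
    Function.Injective (KaehlerDifferential.mapBaseChange k D B) := by
  rw [injective_iff_map_eq_zero]
  intro x hx
  obtain ⟨y, rfl⟩ := (Algebra.H1Cotangent.exact_δ_mapBaseChange k D B x).mp hx
  rw [Subsingleton.elim y 0, map_zero]

include he in
theorem mem_span_of_smul_D_eq_zero [Algebra.FormallySmooth D B] (b : B)
    (h : b • KaehlerDifferential.D k B (algebraMap D B τ) = 0) :
    b ∈ Ideal.span {(algebraMap D B τ) ^ n} := by
  have hC : (algebraMap D (B ⧸ Ideal.span {(algebraMap D B τ) ^ n}) τ) ^ n = 0 := hC_quot B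
  have h1 : KaehlerDifferential.mapBaseChange k D B (b ⊗ₜ[D] KaehlerDifferential.D k D τ) = 0 := by
    rw [KaehlerDifferential.mapBaseChange_tmul, KaehlerDifferential.map_D]; exact h
  have h2 : b ⊗ₜ[D] KaehlerDifferential.D k D τ = 0 :=
    mapBaseChange_injective B (by rw [h1, map_zero])
  have h3 := congrArg (LinearMap.liftBaseChange B
    (der τ e he (B ⧸ Ideal.span {(algebraMap D B τ) ^ n}) hC).liftKaehlerDifferential) h2
  rw [LinearMap.liftBaseChange_tmul, Derivation.liftKaehlerDifferential_comp_D, der_tau, map_zero,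
    Algebra.smul_def, mul_one, Ideal.Quotient.algebraMap_eq] at h3
  exact Ideal.Quotient.eq_zero_iff_mem.mp h3

include he in
theorem key [CharZero k] [Algebra.FormallySmooth D B] (b : B) (ω : Ω[B⁄k])
    (h : b • KaehlerDifferential.D k B (algebraMap D B τ) = (algebraMap D B τ) ^ n • ω) :
    b ∈ Ideal.span {(algebraMap D B τ) ^ n} := by
  obtain ⟨s, hs⟩ := Module.projective_lifting_property (KaehlerDifferential.map k D B B)
    LinearMap.id (KaehlerDifferential.map_surjective k D B)
  have hs' : ∀ y, KaehlerDifferential.map k D B B (s y) = y := fun y => LinearMap.congr_fun hs y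
  have hπ : (algebraMap D B τ) ^ n • KaehlerDifferential.map k D B B ω = 0 := by
    have := congrArg (KaehlerDifferential.map k D B B) h
    rw [map_smul, map_smul, map_D_tau, smul_zero] at this
    exact this.symm
  obtain ⟨c, hc⟩ := ker_map_exists e he B (ω - s (KaehlerDifferential.map k D B B ω))
    (by rw [map_sub, hs', sub_self])
  have h0 : (algebraMap D B τ) ^ n • ω = 0 := by
    have e1 : ω = c • KaehlerDifferential.D k B (algebraMap D B τ) +
        s (KaehlerDifferential.map k D B B ω) := by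
      rw [← hc]; abel
    rw [e1, smul_add, smul_comm, pow_smul_D_tau e he B, smul_zero, zero_add, ← map_smul s, hπ,
      map_zero]
  exact mem_span_of_smul_D_eq_zero e he B b (h.trans h0)

include he in
theorem inj3 [CharZero k] [Algebra.FormallySmooth D B] :
    Function.Injective
      (LinearMap.toSpanSingleton (B ⧸ Ideal.span {(algebraMap D B τ) ^ n})
        ((B ⧸ Ideal.span {(algebraMap D B τ) ^ n}) ⊗[B] Ω[B⁄k])
        ((1 : (B ⧸ Ideal.span {(algebraMap D B τ) ^ n})) ⊗ₜ[B]
          KaehlerDifferential.D k B (algebraMap D B τ))) := by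
  rw [injective_iff_map_eq_zero]
  intro b' hb'
  obtain ⟨b, rfl⟩ := Ideal.Quotient.mk_surjective b'
  rw [LinearMap.toSpanSingleton_apply, mk_smul_one_tmul] at hb'
  obtain ⟨ω, hω⟩ := one_tmul_eq_zero _ _ hb'
  exact Ideal.Quotient.eq_zero_iff_mem.mpr (key e he B b ω hω)

include he in
theorem exact4 :
    Function.Exact
      (LinearMap.toSpanSingleton (B ⧸ Ideal.span {(algebraMap D B τ) ^ n})
        ((B ⧸ Ideal.span {(algebraMap D B τ) ^ n}) ⊗[B] Ω[B⁄k])
        ((1 : (B ⧸ Ideal.span {(algebraMap D B τ) ^ n})) ⊗ₜ[B]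
          KaehlerDifferential.D k B (algebraMap D B τ)))
      (LinearMap.baseChange (B ⧸ Ideal.span {(algebraMap D B τ) ^ n})
        (KaehlerDifferential.map k D B B)) := by
  intro x
  constructor
  · intro hx
    obtain ⟨ω, rfl⟩ := exists_one_tmul _ x
    rw [LinearMap.baseChange_tmul] at hx
    obtain ⟨η, hη⟩ := one_tmul_eq_zero _ _ hx
    obtain ⟨ω', rfl⟩ := KaehlerDifferential.map_surjective k D B η
    obtain ⟨c, hc⟩ := ker_map_exists e he B (ω - (algebraMap D B τ) ^ n • ω')
      (by rw [map_sub, map_smul, hη, sub_self])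
    refine ⟨Ideal.Quotient.mk _ c, ?_⟩
    rw [LinearMap.toSpanSingleton_apply, mk_smul_one_tmul, ← hc, TensorProduct.tmul_sub,
      one_tmul_smul, sub_zero]
  · rintro ⟨b', rfl⟩
    obtain ⟨b, rfl⟩ := Ideal.Quotient.mk_surjective b'
    rw [LinearMap.toSpanSingleton_apply, mk_smul_one_tmul, LinearMap.baseChange_tmul, map_smul,
      map_D_tau, smul_zero, TensorProduct.tmul_zero]

theorem surj5 :
    Function.Surjective (LinearMap.baseChange (B ⧸ Ideal.span {(algebraMap D B τ) ^ n})
        (KaehlerDifferential.map k D B B)) := by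
  intro y
  obtain ⟨η, rfl⟩ := exists_one_tmul _ y
  obtain ⟨ω, rfl⟩ := KaehlerDifferential.map_surjective k D B η
  exact ⟨1 ⊗ₜ ω, LinearMap.baseChange_tmul _ _ _⟩

include he in
theorem proj2 [CharZero k] [Algebra.FormallySmooth D B] :
    Module.Projective (B ⧸ Ideal.span {(algebraMap D B τ) ^ n})
      ((B ⧸ Ideal.span {(algebraMap D B τ) ^ n}) ⊗[B] Ω[B⁄k]) := by
  obtain ⟨s, hs⟩ := Module.projective_lifting_property (KaehlerDifferential.map k D B B)
    LinearMap.id (KaehlerDifferential.map_surjective k D B)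
  have hsec : (LinearMap.baseChange (B ⧸ Ideal.span {(algebraMap D B τ) ^ n})
      (KaehlerDifferential.map k D B B)) ∘ₗ
      (LinearMap.baseChange (B ⧸ Ideal.span {(algebraMap D B τ) ^ n}) s) = LinearMap.id := by
    rw [← LinearMap.baseChange_comp, hs, LinearMap.baseChange_id]
  have eqv := (exact4 e he B).splitSurjectiveEquiv (inj3 e he B) ⟨_, hsec⟩
  exact Module.Projective.of_equiv' eqv.1.symm

end Bsec

end Omega

/-- Main theorem for S18837. -/
theorem S18837_main (k : Type u) [Field k] [CharZero k] (n : ℕ)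
    (D : Type u) [CommRing D] [Algebra k D] (τ : D)
    (e : (k[X] ⧸ Ideal.span {(X : k[X]) ^ (n + 1)}) ≃ₐ[k] D)
    (he : e (Ideal.Quotient.mk (Ideal.span {(X : k[X]) ^ (n + 1)}) X) = τ)
    (B : Type u) [CommRing B] [Algebra k B] [Algebra D B] [IsScalarTower k D B]
    [Algebra.FiniteType k B] [Module.Flat D B]
    (t : B) (ht : t = algebraMap D B τ) (hsm : Algebra.Smooth k (B ⧸ Ideal.span {t})) :
    Module.Projective B (Ω[B⁄D]) ∧
    Module.Projective (B ⧸ Ideal.span {t ^ n}) ((B ⧸ Ideal.span {t ^ n}) ⊗[B] Ω[B⁄k]) ∧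
    Function.Injective
      (LinearMap.toSpanSingleton (B ⧸ Ideal.span {t ^ n}) ((B ⧸ Ideal.span {t ^ n}) ⊗[B] Ω[B⁄k])
        ((1 : (B ⧸ Ideal.span {t ^ n})) ⊗ₜ[B] KaehlerDifferential.D k B t)) ∧
    Function.Exact
      (LinearMap.toSpanSingleton (B ⧸ Ideal.span {t ^ n}) ((B ⧸ Ideal.span {t ^ n}) ⊗[B] Ω[B⁄k])
        ((1 : (B ⧸ Ideal.span {t ^ n})) ⊗ₜ[B] KaehlerDifferential.D k B t))
      (LinearMap.baseChange (B ⧸ Ideal.span {t ^ n}) (KaehlerDifferential.map k D B B)) ∧
    Function.Surjective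
      (LinearMap.baseChange (B ⧸ Ideal.span {t ^ n}) (KaehlerDifferential.map k D B B)) := by
  subst ht
  have hS : Algebra.Smooth D B := smooth e he hsm
  have hFS : Algebra.FormallySmooth D B := hS.formallySmooth
  exact ⟨inferInstance, proj2 e he B, inj3 e he B, exact4 e he B, surj5 B⟩

end Groth.Agent.Helper6.DefOmega
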