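import Groth.Agent.Lib.Helper6.DefOmegaB

/-!
# Flat deformations over `k[X]/(X^(n+1))`: the maps `μ` and `ν` (helper6)
-/

open Polynomial TensorProduct

universe u

namespace Groth.Agent.Helper6.DefOmega

section Omega2

variable {k : Type u} [Field k] {n : ℕ} {D : Type u} [CommRing D] [Algebra k D] {τ : D}
  (e : (k[X] ⧸ Ideal.span {(X : k[X]) ^ (n + 1)}) ≃ₐ[k] D)
  (he : e (Ideal.Quotient.mk (Ideal.span {(X : k[X]) ^ (n + 1)}) X) = τ)
  (B : Type u) [CommRing B] [Algebra k B] [Algebra D B] [IsScalarTower k D B]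

local notation "𝔱" => algebraMap D B τ

omit [Algebra k B] [IsScalarTower k D B] in
include he in
/-- By flatness the annihilator of `t^(n-1)` in `B` is `t^2 B`. -/
theorem ann_t_pow [Module.Flat D B] (hn : 1 ≤ n) (b : B) (h : 𝔱 ^ (n - 1) * b = 0) :
    ∃ b', b = 𝔱 ^ 2 * b' := by
  have hfg : Function.Exact (LinearMap.toSpanSingleton D D (τ ^ 2))
      (LinearMap.toSpanSingleton D D (τ ^ (n - 1))) := by
    intro d
    constructor
    · intro hd
      rw [LinearMap.toSpanSingleton_apply, smul_eq_mul, mul_comm] at hd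
      obtain ⟨d', rfl⟩ := ann_tau_pow e he d hd hn
      exact ⟨d', by rw [LinearMap.toSpanSingleton_apply, smul_eq_mul, mul_comm]⟩
    · rintro ⟨d', rfl⟩
      rw [LinearMap.toSpanSingleton_apply, LinearMap.toSpanSingleton_apply, smul_eq_mul,
        smul_eq_mul, mul_assoc, ← pow_add, show 2 + (n - 1) = n + 1 by omega, tau_pow e he,
        mul_zero]
  have hex := Module.Flat.lTensor_exact B hfg
  have h1 : ((LinearMap.toSpanSingleton D D (τ ^ (n - 1))).lTensor B) (b ⊗ₜ[D] (1 : D)) = 0 := by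
    rw [LinearMap.lTensor_tmul, LinearMap.toSpanSingleton_apply, one_smul,
      ← mul_one (τ ^ (n - 1)), ← smul_eq_mul, TensorProduct.tmul_smul,
      TensorProduct.smul_tmul', Algebra.smul_def, map_pow, h, TensorProduct.zero_tmul]
  obtain ⟨y, hy⟩ := (hex _).mp h1
  have hkey : ∀ y : B ⊗[D] D, TensorProduct.rid D B
      (((LinearMap.toSpanSingleton D D (τ ^ 2)).lTensor B) y) = 𝔱 ^ 2 * TensorProduct.rid D B y := by
    intro y
    induction y using TensorProduct.induction_on with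
    | zero => simp
    | tmul b' d =>
      rw [LinearMap.lTensor_tmul, TensorProduct.rid_tmul, TensorProduct.rid_tmul,
        LinearMap.toSpanSingleton_apply, smul_eq_mul, Algebra.smul_def, Algebra.smul_def, map_mul,
        map_pow]
      ring
    | add x y hx hy => rw [map_add, map_add, map_add, hx, hy, mul_add]
  refine ⟨TensorProduct.rid D B y, ?_⟩
  rw [← hkey, hy, TensorProduct.rid_tmul, one_smul]

include he in
theorem mu_ker [CharZero k] [Module.Flat D B] [Algebra.FormallySmooth D B] (hn : 1 ≤ n) (f : B)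
    (h1 : Ideal.Quotient.mk (Ideal.span {𝔱 ^ n}) f = 0)
    (h2 : (1 : B ⧸ Ideal.span {𝔱 ^ n}) ⊗ₜ[B] KaehlerDifferential.D k B f = 0) : f = 0 := by
  obtain ⟨g, rfl⟩ := Ideal.mem_span_singleton.mp (Ideal.Quotient.eq_zero_iff_mem.mp h1)
  obtain ⟨ω, hω⟩ := one_tmul_eq_zero _ _ h2
  rw [Derivation.leibniz, Derivation.leibniz_pow] at hω
  have h3 : (g * (n : B) * 𝔱 ^ (n - 1)) • KaehlerDifferential.D k B 𝔱 =
      𝔱 ^ n • (ω - KaehlerDifferential.D k B g) := by
    rw [smul_sub, ← hω, mul_smul, mul_smul, Nat.cast_smul_eq_nsmul]; abel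
  have h4 := key e he B _ _ h3
  obtain ⟨h, hh⟩ := Ideal.mem_span_singleton.mp h4
  have hn0 : (n : k) ≠ 0 := Nat.cast_ne_zero.mpr (by omega)
  obtain ⟨u, hu⟩ : ∃ u : B, u * (n : B) = 1 := by
    refine ⟨algebraMap k B ((n : k)⁻¹), ?_⟩
    rw [← map_natCast (algebraMap k B), ← map_mul, inv_mul_cancel₀ hn0, map_one]
  have hpow : 𝔱 ^ n = 𝔱 ^ (n - 1) * 𝔱 := by
    rw [← pow_succ]; congr 1; omega
  have h5 : 𝔱 ^ (n - 1) * (g - 𝔱 * (u * h)) = 0 := by
    calc 𝔱 ^ (n - 1) * (g - 𝔱 * (u * h))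
        = u * (n : B) * (𝔱 ^ (n - 1) * g) - u * (𝔱 ^ (n - 1) * 𝔱 * h) := by rw [hu]; ring
      _ = u * (g * (n : B) * 𝔱 ^ (n - 1)) - u * (𝔱 ^ n * h) := by rw [hpow]; ring
      _ = 0 := by rw [hh, sub_self]
  obtain ⟨b', hb'⟩ := ann_t_pow e he B hn _ h5
  have hg : g = 𝔱 * (u * h + 𝔱 * b') := by linear_combination hb'
  have htt : 𝔱 ^ (n + 1) = 0 := by rw [← map_pow, tau_pow e he, map_zero]
  calc 𝔱 ^ n * g = 𝔱 ^ (n + 1) * (u * h + 𝔱 * b') := by rw [hg]; ring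
    _ = 0 := by rw [htt, zero_mul]

omit [Algebra k D] [IsScalarTower k D B] in
theorem mu_range (g : B ⧸ Ideal.span {𝔱 ^ n}) (α : (B ⧸ Ideal.span {𝔱 ^ n}) ⊗[B] Ω[B⁄k])
    (h : KaehlerDifferential.D k (B ⧸ Ideal.span {𝔱 ^ n}) g =
      KaehlerDifferential.mapBaseChange k B (B ⧸ Ideal.span {𝔱 ^ n}) α) :
    ∃ f : B, Ideal.Quotient.mk (Ideal.span {𝔱 ^ n}) f = g ∧
      (1 : B ⧸ Ideal.span {𝔱 ^ n}) ⊗ₜ[B] KaehlerDifferential.D k B f = α := by
  obtain ⟨f0, rfl⟩ := Ideal.Quotient.mk_surjective g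
  have h1 : KaehlerDifferential.mapBaseChange k B (B ⧸ Ideal.span {𝔱 ^ n})
      (α - (1 : B ⧸ Ideal.span {𝔱 ^ n}) ⊗ₜ[B] KaehlerDifferential.D k B f0) = 0 := by
    rw [map_sub, ← h, KaehlerDifferential.mapBaseChange_tmul, one_smul, KaehlerDifferential.map_D,
      Ideal.Quotient.algebraMap_eq, sub_self]
  obtain ⟨z, hz⟩ := (KaehlerDifferential.exact_kerCotangentToTensor_mapBaseChange k B
    (B ⧸ Ideal.span {𝔱 ^ n}) Ideal.Quotient.mk_surjective _).mp h1
  obtain ⟨x, rfl⟩ := Ideal.toCotangent_surjective _ z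
  rw [KaehlerDifferential.kerCotangentToTensor_toCotangent] at hz
  refine ⟨f0 + x.1, ?_, ?_⟩
  · have hx : Ideal.Quotient.mk (Ideal.span {𝔱 ^ n}) x.1 = 0 := RingHom.mem_ker.mp x.2
    rw [map_add, hx, add_zero]
  · rw [map_add, TensorProduct.tmul_add, hz]; abel

include he in
theorem nu_ker [CharZero k] [Algebra.FormallySmooth D B] (η : Ω[B⁄k])
    (h1 : KaehlerDifferential.map k D B B η = 0)
    (h2 : (1 : B ⧸ Ideal.span {𝔱 ^ n}) ⊗ₜ[B] η = 0) : η = 0 := by
  obtain ⟨b, rfl⟩ := ker_map_exists e he B η h1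
  obtain ⟨ω, hω⟩ := one_tmul_eq_zero _ _ h2
  obtain ⟨c, rfl⟩ := Ideal.mem_span_singleton.mp (key e he B b ω hω)
  rw [mul_comm, mul_smul, pow_smul_D_tau e he B, smul_zero]

theorem compat (η : Ω[B⁄k]) :
    KaehlerDifferential.map D D B (B ⧸ Ideal.span {𝔱 ^ n}) (KaehlerDifferential.map k D B B η) =
      KaehlerDifferential.map k D (B ⧸ Ideal.span {𝔱 ^ n}) (B ⧸ Ideal.span {𝔱 ^ n})
        (KaehlerDifferential.map k k B (B ⧸ Ideal.span {𝔱 ^ n}) η) := by
  have hη : η ∈ Submodule.span B (Set.range (KaehlerDifferential.D k B)) := by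
    rw [KaehlerDifferential.span_range_derivation]; exact Submodule.mem_top
  induction hη using Submodule.span_induction with
  | mem x hx =>
    obtain ⟨b, rfl⟩ := hx
    simp only [KaehlerDifferential.map_D, Algebra.algebraMap_self, RingHom.id_apply]
  | zero => simp only [map_zero]
  | add x y _ _ hx hy => simp only [map_add, hx, hy]
  | smul b x _ hx =>
    rw [map_smul, map_smul, hx, map_smul,
      ← algebraMap_smul (B ⧸ Ideal.span {𝔱 ^ n}) b
        (KaehlerDifferential.map k k B (B ⧸ Ideal.span {𝔱 ^ n}) x),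
      map_smul, algebraMap_smul]

include he in
theorem nu_range [CharZero k] [Algebra.FormallySmooth D B] (α : Ω[B⁄D])
    (β : (B ⧸ Ideal.span {𝔱 ^ n}) ⊗[B] Ω[B⁄k])
    (h : KaehlerDifferential.map D D B (B ⧸ Ideal.span {𝔱 ^ n}) α =
      KaehlerDifferential.map k D (B ⧸ Ideal.span {𝔱 ^ n}) (B ⧸ Ideal.span {𝔱 ^ n})
        (KaehlerDifferential.mapBaseChange k B (B ⧸ Ideal.span {𝔱 ^ n}) β)) :
    ∃ η : Ω[B⁄k], KaehlerDifferential.map k D B B η = α ∧
      (1 : B ⧸ Ideal.span {𝔱 ^ n}) ⊗ₜ[B] η = β := by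
  obtain ⟨η0, rfl⟩ := KaehlerDifferential.map_surjective k D B α
  obtain ⟨ω, rfl⟩ := exists_one_tmul _ β
  have h1 : KaehlerDifferential.map k D (B ⧸ Ideal.span {𝔱 ^ n}) (B ⧸ Ideal.span {𝔱 ^ n})
      (KaehlerDifferential.map k k B (B ⧸ Ideal.span {𝔱 ^ n}) (ω - η0)) = 0 := by
    rw [map_sub, map_sub, ← compat B η0, h, KaehlerDifferential.mapBaseChange_tmul, one_smul,
      sub_self]
  obtain ⟨c', hc'⟩ := ker_map_exists e he (B ⧸ Ideal.span {𝔱 ^ n}) _ h1
  obtain ⟨c, rfl⟩ := Ideal.Quotient.mk_surjective c'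
  have h2 : KaehlerDifferential.mapBaseChange k B (B ⧸ Ideal.span {𝔱 ^ n})
      ((1 : B ⧸ Ideal.span {𝔱 ^ n}) ⊗ₜ[B] (ω - η0 - c • KaehlerDifferential.D k B 𝔱)) = 0 := by
    rw [KaehlerDifferential.mapBaseChange_tmul, one_smul, map_sub, hc', map_smul,
      KaehlerDifferential.map_D, IsScalarTower.algebraMap_apply D B (B ⧸ Ideal.span {𝔱 ^ n}) τ,
      ← algebraMap_smul (B ⧸ Ideal.span {𝔱 ^ n}) c, Ideal.Quotient.algebraMap_eq, sub_self]
  obtain ⟨z, hz⟩ := (KaehlerDifferential.exact_kerCotangentToTensor_mapBaseChange k B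
    (B ⧸ Ideal.span {𝔱 ^ n}) Ideal.Quotient.mk_surjective _).mp h2
  obtain ⟨x, rfl⟩ := Ideal.toCotangent_surjective _ z
  rw [KaehlerDifferential.kerCotangentToTensor_toCotangent] at hz
  have hx : x.1 ∈ Ideal.span {𝔱 ^ n} := by
    have hx0 : Ideal.Quotient.mk (Ideal.span {𝔱 ^ n}) x.1 = 0 := RingHom.mem_ker.mp x.2
    exact Ideal.Quotient.eq_zero_iff_mem.mp hx0
  obtain ⟨h', hh'⟩ := Ideal.mem_span_singleton.mp hx
  have h3 : (1 : B ⧸ Ideal.span {𝔱 ^ n}) ⊗ₜ[B] KaehlerDifferential.D k B x.1 =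
      (1 : B ⧸ Ideal.span {𝔱 ^ n}) ⊗ₜ[B]
        ((h' * (n : B) * 𝔱 ^ (n - 1)) • KaehlerDifferential.D k B 𝔱) := by
    rw [hh', Derivation.leibniz, Derivation.leibniz_pow, TensorProduct.tmul_add, one_tmul_smul,
      zero_add, mul_smul, mul_smul, Nat.cast_smul_eq_nsmul]
  have h4 := hz.symm.trans h3
  refine ⟨η0 + (c + h' * (n : B) * 𝔱 ^ (n - 1)) • KaehlerDifferential.D k B 𝔱, ?_, ?_⟩
  · rw [map_add, map_smul, map_D_tau, smul_zero, add_zero]
  · have h5 : (1 : B ⧸ Ideal.span {𝔱 ^ n}) ⊗ₜ[B] ω =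
        (1 : B ⧸ Ideal.span {𝔱 ^ n}) ⊗ₜ[B] (η0 + c • KaehlerDifferential.D k B 𝔱) +
        (1 : B ⧸ Ideal.span {𝔱 ^ n}) ⊗ₜ[B] (ω - η0 - c • KaehlerDifferential.D k B 𝔱) := by
      rw [← TensorProduct.tmul_add]; congr 1; abel
    rw [h5, h4, ← TensorProduct.tmul_add, add_smul]; congr 1; abel

end Omega2

/-- Main theorem for S18838. -/
theorem S18838_main (k : Type u) [Field k] [CharZero k] (n : ℕ) (hn : 1 ≤ n)
    (D : Type u) [CommRing D] [Algebra k D] (τ : D)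
    (e : (k[X] ⧸ Ideal.span {(X : k[X]) ^ (n + 1)}) ≃ₐ[k] D)
    (he : e (Ideal.Quotient.mk (Ideal.span {(X : k[X]) ^ (n + 1)}) X) = τ)
    (B : Type u) [CommRing B] [Algebra k B] [Algebra D B] [IsScalarTower k D B]
    [Algebra.FiniteType k B] [Module.Flat D B]
    (t : B) (ht : t = algebraMap D B τ) (hsm : Algebra.Smooth k (B ⧸ Ideal.span {t})) :
    Function.Injective (fun f : B =>
      ((Ideal.Quotient.mk (Ideal.span {t ^ n}) f,
        (1 : (B ⧸ Ideal.span {t ^ n})) ⊗ₜ[B] KaehlerDifferential.D k B f) :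
        (B ⧸ Ideal.span {t ^ n}) × ((B ⧸ Ideal.span {t ^ n}) ⊗[B] Ω[B⁄k]))) ∧
    Set.range (fun f : B =>
      ((Ideal.Quotient.mk (Ideal.span {t ^ n}) f,
        (1 : (B ⧸ Ideal.span {t ^ n})) ⊗ₜ[B] KaehlerDifferential.D k B f) :
        (B ⧸ Ideal.span {t ^ n}) × ((B ⧸ Ideal.span {t ^ n}) ⊗[B] Ω[B⁄k]))) =
      {p | KaehlerDifferential.D k (B ⧸ Ideal.span {t ^ n}) p.1 =
        KaehlerDifferential.mapBaseChange k B (B ⧸ Ideal.span {t ^ n}) p.2} := by
  subst ht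
  have hS : Algebra.Smooth D B := smooth e he hsm
  have hFS : Algebra.FormallySmooth D B := hS.formallySmooth
  constructor
  · intro f1 f2 h
    have h1 := congrArg Prod.fst h
    have h2 := congrArg Prod.snd h
    simp only at h1 h2
    exact sub_eq_zero.mp (mu_ker e he B hn (f1 - f2) (by rw [map_sub, h1, sub_self])
      (by rw [map_sub, TensorProduct.tmul_sub, h2, sub_self]))
  · ext p
    constructor
    · rintro ⟨f, rfl⟩
      show KaehlerDifferential.D k _ (Ideal.Quotient.mk _ f) =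
        KaehlerDifferential.mapBaseChange k B _ (1 ⊗ₜ[B] KaehlerDifferential.D k B f)
      rw [KaehlerDifferential.mapBaseChange_tmul, one_smul, KaehlerDifferential.map_D,
        Ideal.Quotient.algebraMap_eq]
    · intro hp
      obtain ⟨f, hf1, hf2⟩ := mu_range B p.1 p.2 hp
      exact ⟨f, Prod.ext hf1 hf2⟩

/-- Main theorem for S18839. -/
theorem S18839_main (k : Type u) [Field k] [CharZero k] (n : ℕ)
    (D : Type u) [CommRing D] [Algebra k D] (τ : D)
    (e : (k[X] ⧸ Ideal.span {(X : k[X]) ^ (n + 1)}) ≃ₐ[k] D)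
    (he : e (Ideal.Quotient.mk (Ideal.span {(X : k[X]) ^ (n + 1)}) X) = τ)
    (B : Type u) [CommRing B] [Algebra k B] [Algebra D B] [IsScalarTower k D B]
    [Algebra.FiniteType k B] [Module.Flat D B]
    (t : B) (ht : t = algebraMap D B τ) (hsm : Algebra.Smooth k (B ⧸ Ideal.span {t})) :
    Function.Injective (fun η : Ω[B⁄k] =>
      ((KaehlerDifferential.map k D B B η, (1 : (B ⧸ Ideal.span {t ^ n})) ⊗ₜ[B] η) :
        Ω[B⁄D] × ((B ⧸ Ideal.span {t ^ n}) ⊗[B] Ω[B⁄k]))) ∧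
    Set.range (fun η : Ω[B⁄k] =>
      ((KaehlerDifferential.map k D B B η, (1 : (B ⧸ Ideal.span {t ^ n})) ⊗ₜ[B] η) :
        Ω[B⁄D] × ((B ⧸ Ideal.span {t ^ n}) ⊗[B] Ω[B⁄k]))) =
      {p | KaehlerDifferential.map D D B (B ⧸ Ideal.span {t ^ n}) p.1 =
        KaehlerDifferential.map k D (B ⧸ Ideal.span {t ^ n}) (B ⧸ Ideal.span {t ^ n})
          (KaehlerDifferential.mapBaseChange k B (B ⧸ Ideal.span {t ^ n}) p.2)} := by
  subst ht
  have hS : Algebra.Smooth D B := smooth e he hsm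
  have hFS : Algebra.FormallySmooth D B := hS.formallySmooth
  constructor
  · intro η1 η2 h
    have h1 := congrArg Prod.fst h
    have h2 := congrArg Prod.snd h
    simp only at h1 h2
    exact sub_eq_zero.mp (nu_ker e he B (η1 - η2) (by rw [map_sub, h1, sub_self])
      (by rw [TensorProduct.tmul_sub, h2, sub_self]))
  · ext p
    constructor
    · rintro ⟨η, rfl⟩
      show KaehlerDifferential.map D D B _ (KaehlerDifferential.map k D B B η) =
        KaehlerDifferential.map k D _ _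
          (KaehlerDifferential.mapBaseChange k B _ (1 ⊗ₜ[B] η))
      rw [KaehlerDifferential.mapBaseChange_tmul, one_smul, compat]
    · intro hp
      obtain ⟨η, h1, h2⟩ := nu_range e he B p.1 p.2 hp
      exact ⟨η, Prod.ext h1 h2⟩

end Groth.Agent.Helper6.DefOmega
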