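import Groth.Agent.Lib.Helper6.ProjClosedAlg

set_option autoImplicit false
namespace Groth.Agent.Helper6.DehLib
universe u
open HomogeneousLocalization DirectSum Groth.Agent.Helper6.ProjClosedAlg

variable {R A : Type u} [CommRing R] [CommRing A] [Algebra R A] (𝒜 : ℕ → Submodule R A)
  [GradedAlgebra 𝒜]

section ofComponents
variable {S : Type*} [CommRing S] (F : ∀ n, 𝒜 n →+ S)
  (hone : F 0 ⟨1, SetLike.GradedOne.one_mem⟩ = 1)
  (hmul : ∀ {i j : ℕ} (a : 𝒜 i) (b : 𝒜 j),
    F (i + j) ⟨(a : A) * b, SetLike.mul_mem_graded a.2 b.2⟩ = F i a * F j b)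

/-- Ring hom out of a graded ring given by compatible additive maps on components. -/
noncomputable def ofComponents : A →+* S :=
  (DirectSum.toSemiring F hone (fun a b => hmul a b)).comp (DirectSum.decomposeRingEquiv 𝒜).toRingHom

theorem ofComponents_of_mem {n : ℕ} {c : A} (hc : c ∈ 𝒜 n) :
    ofComponents 𝒜 F hone hmul c = F n ⟨c, hc⟩ := by
  unfold ofComponents
  rw [RingHom.comp_apply]
  change (DirectSum.toSemiring F hone _) (DirectSum.decompose 𝒜 c) = _
  rw [DirectSum.decompose_of_mem 𝒜 hc, DirectSum.toSemiring_of]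

end ofComponents

variable {𝒜}
variable {u : A} (hu : u ∈ 𝒜 1)

/-- component of dehomogenization -/
noncomputable def dehComp (n : ℕ) : 𝒜 n →+ Away 𝒜 u where
  toFun c := Away.mk 𝒜 hu n c.1 (mem_smul_one 𝒜 c.2)
  map_zero' := by
    apply HomogeneousLocalization.val_injective
    simp [Away.val_mk, Localization.mk_zero]
  map_add' a b := by
    apply HomogeneousLocalization.val_injective
    simp only [Away.val_mk, HomogeneousLocalization.val_add, AddMemClass.coe_add,
      Localization.add_mk_self]

theorem deh_hone : dehComp hu 0 ⟨1, SetLike.GradedOne.one_mem⟩ = 1 := by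
  apply HomogeneousLocalization.val_injective
  simp [dehComp, Away.val_mk]

theorem deh_hmul {i j : ℕ} (a : 𝒜 i) (b : 𝒜 j) :
    dehComp hu (i + j) ⟨(a : A) * b, SetLike.mul_mem_graded a.2 b.2⟩ =
      dehComp hu i a * dehComp hu j b := by
  apply HomogeneousLocalization.val_injective
  simp only [dehComp, AddMonoidHom.coe_mk, ZeroHom.coe_mk, Away.val_mk,
    HomogeneousLocalization.val_mul, Localization.mk_mul]
  congr 1
  exact Subtype.ext (pow_add u i j)

/-- Dehomogenization `c ↦ Σ c_n / u^n` for `u` of degree one. -/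
noncomputable def deh : A →+* Away 𝒜 u :=
  ofComponents 𝒜 (dehComp hu) (deh_hone hu) (deh_hmul hu)

theorem deh_of_mem {n : ℕ} {c : A} (hc : c ∈ 𝒜 n) :
    deh hu c = Away.mk 𝒜 hu n c (mem_smul_one 𝒜 hc) :=
  ofComponents_of_mem 𝒜 (dehComp hu) (deh_hone hu) (deh_hmul hu) hc

theorem deh_self : deh hu u = 1 := by
  rw [deh_of_mem hu hu]
  apply HomogeneousLocalization.val_injective
  rw [Away.val_mk, HomogeneousLocalization.val_one]
  convert Localization.mk_self (⟨u ^ 1, 1, rfl⟩ : Submonoid.powers u) using 2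
  simp

theorem deh_surjective : Function.Surjective (deh hu) := by
  intro x
  obtain ⟨n, a, ha, rfl⟩ := Away.mk_surjective 𝒜 hu x
  have ha' : a ∈ 𝒜 n := by simpa using ha
  exact ⟨a, deh_of_mem hu ha'⟩

/-- two ring homs out of a graded ring agreeing on homogeneous elements agree -/
theorem ringHom_ext_of_homogeneous {S : Type*} [Semiring S] (f g : A →+* S)
    (h : ∀ (n : ℕ) (a : A), a ∈ 𝒜 n → f a = g a) : f = g := by
  ext a
  induction a using DirectSum.Decomposition.inductionOn 𝒜 with
  | zero => simp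
  | @homogeneous n a => exact h n a a.2
  | add a b ha hb => rw [map_add, map_add, ha, hb]

end Groth.Agent.Helper6.DehLib
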