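import Mathlib

/-!
# Abstract algebra: base change through dehomogenization maps
-/

set_option autoImplicit false
set_option linter.style.haveILetI false
set_option linter.unusedSectionVars false
universe u
open TensorProduct

namespace Groth.Agent.Helper6.Dehom

set_option maxHeartbeats 800000 in
theorem bijective_of_dehom
    {A B : Type u} [CommRing A] [CommRing B] (ψ : A →+* B)
    {M N : Type u} [AddCommGroup M] [Module A M] [AddCommGroup N] [Module B N]
    (v : M →ₛₗ[ψ] N)
    (hbc : ∀ (Q : Type u) [AddCommGroup Q] [Module B Q] (w : M →ₛₗ[ψ] Q),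
      ∃! g : N →ₗ[B] Q, ∀ m : M, g (v m) = w m)
    {RA RB : Type u} [CommRing RA] [CommRing RB] [Algebra RA RB]
    (εA : A →+* RA) (εB : B →+* RB) (hε : ∀ a, algebraMap RA RB (εA a) = εB (ψ a))
    (hεB : Function.Surjective εB) (h : B) (hh : εB h = 1)
    {TA TB : Type u} [AddCommGroup TA] [Module RA TA] [AddCommGroup TB] [Module RB TB]
    (DA : M →+ TA) (hDA : ∀ a m, DA (a • m) = εA a • DA m) (hDAs : Function.Surjective DA)
    (DB : N →+ TB) (hDB : ∀ b y, DB (b • y) = εB b • DB y) (hDBs : Function.Surjective DB)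
    (hker : ∀ y, DB y = 0 → y ∈ Submodule.span B (Set.range fun z : N => h • z - z))
    (Φ : RB ⊗[RA] TA →ₗ[RB] TB) (hΦ : ∀ m, Φ ((1 : RB) ⊗ₜ[RA] DA m) = DB (v m)) :
    Function.Bijective Φ := by
  classical
  letI modT : Module B (RB ⊗[RA] TA) := Module.compHom (RB ⊗[RA] TA) εB
  letI modTB : Module B TB := Module.compHom TB εB
  have smulT : ∀ (b : B) (t : RB ⊗[RA] TA), b • t = εB b • t := fun _ _ => rfl
  have smulTB : ∀ (b : B) (t : TB), b • t = εB b • t := fun _ _ => rfl
  let w : M →ₛₗ[ψ] RB ⊗[RA] TA :=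
    { toFun := fun m => (1 : RB) ⊗ₜ[RA] DA m
      map_add' := fun m m' => by rw [map_add, TensorProduct.tmul_add]
      map_smul' := fun a m => by
        show (1 : RB) ⊗ₜ[RA] DA (a • m) = ψ a • ((1 : RB) ⊗ₜ[RA] DA m)
        rw [hDA, smulT, ← hε, ← TensorProduct.smul_tmul, TensorProduct.smul_tmul', Algebra.smul_def,
          smul_eq_mul] }
  have hw : ∀ m, w m = (1 : RB) ⊗ₜ[RA] DA m := fun _ => rfl
  obtain ⟨G, hG, -⟩ := hbc (RB ⊗[RA] TA) w
  let w' : M →ₛₗ[ψ] TB :=
    { toFun := fun m => DB (v m)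
      map_add' := fun m m' => by rw [map_add, map_add]
      map_smul' := fun a m => by
        show DB (v (a • m)) = ψ a • DB (v m)
        rw [v.map_smulₛₗ, hDB, smulTB] }
  have hw' : ∀ m, w' m = DB (v m) := fun _ => rfl
  let ΦB : RB ⊗[RA] TA →ₗ[B] TB :=
    { toFun := Φ
      map_add' := Φ.map_add
      map_smul' := fun b t => by
        show Φ (b • t) = b • Φ t
        rw [smulT, smulTB, Φ.map_smul] }
  let DBl : N →ₗ[B] TB :=
    { toFun := DB
      map_add' := DB.map_add
      map_smul' := fun b y => by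
        show DB (b • y) = b • DB y
        rw [hDB, smulTB] }
  have hcomp : ∀ y, Φ (G y) = DB y := by
    obtain ⟨g0, -, huniq⟩ := hbc TB w'
    have e1 : ΦB.comp G = g0 := huniq _ (fun m => by
      show Φ (G (v m)) = w' m
      rw [hG, hw, hw']
      exact hΦ m)
    have e2 : DBl = g0 := huniq _ (fun m => rfl)
    intro y
    exact congrArg (fun l : N →ₗ[B] TB => l y) (e1.trans e2.symm)
  have hGs : ∀ τ : RB ⊗[RA] TA, ∃ y, G y = τ := by
    intro τ
    induction τ using TensorProduct.induction_on with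
    | zero => exact ⟨0, map_zero G⟩
    | tmul c t =>
      obtain ⟨b, rfl⟩ := hεB c
      obtain ⟨m, rfl⟩ := hDAs t
      refine ⟨b • v m, ?_⟩
      rw [map_smul, hG, smulT, hw, TensorProduct.smul_tmul', smul_eq_mul, mul_one]
    | add x y hx hy =>
      obtain ⟨y1, rfl⟩ := hx
      obtain ⟨y2, rfl⟩ := hy
      exact ⟨y1 + y2, map_add G y1 y2⟩
  have hGK : ∀ y, y ∈ Submodule.span B (Set.range fun z : N => h • z - z) → G y = 0 := by
    intro y hy
    induction hy using Submodule.span_induction with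
    | mem x hx =>
      obtain ⟨z, rfl⟩ := hx
      rw [map_sub, map_smul, smulT, hh, one_smul, sub_self]
    | zero => exact map_zero G
    | add x y _ _ hx hy => rw [map_add, hx, hy, add_zero]
    | smul b x _ hx => rw [map_smul, hx, smul_zero]
  refine ⟨?_, ?_⟩
  · rw [injective_iff_map_eq_zero]
    intro τ hτ
    obtain ⟨y, rfl⟩ := hGs τ
    rw [hcomp] at hτ
    exact hGK y (hker y hτ)
  · intro t
    obtain ⟨y, rfl⟩ := hDBs t
    exact ⟨G y, hcomp y⟩

end Groth.Agent.Helper6.Dehom
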