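import Mathlib
import Groth.Prelude.Def_RelProj3
import Groth.Agent.Lib.Helper6.DehomA
import Groth.Agent.Lib.Helper6.DehomB
import Groth.Agent.Lib.Helper6.GrModComapA
import Groth.Agent.Lib.Helper28.AffIso
import Groth.Agent.Lib.Helper28.GrModQcoh
import Groth.Agent.Lib.Helper18.RecPull
import Groth.Agent.Lib.Helper13.LocFree

/-!
# `Φ^*(M(n)~) → N(n)~` is an isomorphism for a base change `N = M ⊗ B` when `𝒜₊` is generated in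
degree one
-/

set_option autoImplicit false
set_option linter.style.haveILetI false
set_option linter.unusedSectionVars false
universe u
open DirectSum CategoryTheory CategoryTheory.Limits AlgebraicGeometry Opposite TopologicalSpace
  TensorProduct
open scoped HomogeneousIdeal

namespace Groth.Agent.Helper6.Dehom

open Groth.Agent.Helper6.GrModFrac Groth.Agent.Helper6.GrModComap

section Adj

theorem adjunct_app_pullSect {X Y : Scheme.{u}} (j : X ⟶ Y) {F : Y.Modules} {G : X.Modules}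
    (α : F ⟶ (Scheme.Modules.pushforward j).obj G) (V : Y.Opens) (t : Γ(F, V)) :
    (((Scheme.Modules.pullbackPushforwardAdjunction j).homEquiv F G).symm α).app (j ⁻¹ᵁ V)
      (OmegaSh.pullSect j F V t) = α.app V t := by
  have h := (Scheme.Modules.pullbackPushforwardAdjunction j).homEquiv_unit
    (f := ((Scheme.Modules.pullbackPushforwardAdjunction j).homEquiv F G).symm α)
  rw [Equiv.apply_symm_apply] at h
  exact (congrArg (fun β : F ⟶ (Scheme.Modules.pushforward j).obj G => β.app V t) h).symm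

end Adj

variable {A σ : Type u} [CommRing A] [SetLike σ A] [AddSubgroupClass σ A] {𝒜 : ℕ → σ}
    [GradedRing 𝒜] {B σ' : Type u} [CommRing B] [SetLike σ' B] [AddSubgroupClass σ' B] {ℬ : ℕ → σ'}
    [GradedRing ℬ]
    (ψ : 𝒜 →+*ᵍ ℬ) (hψ : ℬ₊ ≤ (𝒜₊).map ψ)
    {M τ : Type u} [AddCommGroup M] [Module A M] [SetLike τ M] [AddSubgroupClass τ M] (ℳ : ℕ → τ)
    [SetLike.GradedSMul 𝒜 ℳ] [DirectSum.Decomposition ℳ]
    {N τ' : Type u} [AddCommGroup N] [Module B N] [SetLike τ' N] [AddSubgroupClass τ' N] (𝒩 : ℕ → τ')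
    [SetLike.GradedSMul ℬ 𝒩] [DirectSum.Decomposition 𝒩]
    (v : M →ₛₗ[ψ.toRingHom] N) (hv : ∀ (i : ℕ) (m : M), m ∈ ℳ i → v m ∈ 𝒩 i)
    {g : A} (hg : g ∈ 𝒜 1) (n : ℤ)

include hψ in
theorem exists_deg_one (hgen : (𝒜₊).toIdeal = Ideal.span (𝒜 1 : Set A)) (x : Proj ℬ) :
    ∃ g ∈ 𝒜 1, ψ g ∉ x.asHomogeneousIdeal := by
  by_contra! H
  refine x.not_irrelevant_le (hψ.trans ?_)
  apply HomogeneousIdeal.map_le_of_le_comap
  show (𝒜₊).toIdeal ≤ (x.asHomogeneousIdeal.comap ψ).toIdeal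
  rw [hgen, Ideal.span_le]
  intro a ha
  exact H a ha

/-- `eps` for `ℬ`, with target the sections over the preimage open. -/
noncomputable def epsU : B →+* Γ(Proj ℬ, Proj.map ψ hψ ⁻¹ᵁ Proj.basicOpen 𝒜 g) :=
  eps ℬ (ψ.map_mem hg)

theorem appLE_eps (a : A) :
    ((Proj.map ψ hψ).appLE (Proj.basicOpen 𝒜 g) (Proj.map ψ hψ ⁻¹ᵁ Proj.basicOpen 𝒜 g) le_rfl).hom
      (eps 𝒜 hg a) = epsU ψ hψ hg (ψ a) := by
  have h := congrArg (fun k => k.hom (dh 𝒜 hg a)) (Proj.awayToSection_comp_appLE ψ hψ hg)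
  refine Eq.trans ?_ (h.trans ?_)
  · rfl
  · show (Proj.awayToSection ℬ (ψ g)).hom (HomogeneousLocalization.Away.map ψ g (dh 𝒜 hg a)) = _
    rw [map_dh]
    rfl

/-- `D` with target in `Γ`-notation. -/
noncomputable def DΓ : M →+ Γ(GrMod.tilde 𝒜 ℳ n, Proj.basicOpen 𝒜 g) := D 𝒜 hg ℳ n

/-- `D` for `𝒩`, with target the sections over the preimage open. -/
noncomputable def DU : N →+ Γ(GrMod.tilde ℬ 𝒩 n, Proj.map ψ hψ ⁻¹ᵁ Proj.basicOpen 𝒜 g) :=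
  D ℬ (ψ.map_mem hg) 𝒩 n

theorem DΓ_smul (a : A) (m : M) : DΓ ℳ hg n (a • m) = eps 𝒜 hg a • DΓ ℳ hg n m :=
  D_smul 𝒜 hg ℳ n a m

theorem DU_smul (b : B) (y : N) :
    DU ψ hψ 𝒩 hg n (b • y) = epsU ψ hψ hg b • DU ψ hψ 𝒩 hg n y :=
  D_smul ℬ (ψ.map_mem hg) 𝒩 n b y

theorem comap_D (m : M) :
    GrMod.comapApp ψ hψ v hv n (ProjectiveSpectrum.basicOpen 𝒜 g)
        (ProjectiveSpectrum.basicOpen ℬ (ψ g)) (basicOpen_subset ψ hψ g) (D 𝒜 hg ℳ n m) =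
      D ℬ (ψ.map_mem hg) 𝒩 n (v m) := by
  refine DirectSum.Decomposition.inductionOn ℳ
    (motive := fun m => GrMod.comapApp ψ hψ v hv n (ProjectiveSpectrum.basicOpen 𝒜 g)
        (ProjectiveSpectrum.basicOpen ℬ (ψ g)) (basicOpen_subset ψ hψ g) (D 𝒜 hg ℳ n m) =
      D ℬ (ψ.map_mem hg) 𝒩 n (v m)) ?_ ?_ ?_ m
  · rw [map_zero, map_zero, map_zero, map_zero]
  · intro q m
    have hvm : v (m : M) ∈ 𝒩 q := hv q m m.2
    rw [D_of_mem 𝒜 hg ℳ n m.2, D_of_mem ℬ (ψ.map_mem hg) 𝒩 n hvm]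
    refine sect_ext ℬ 𝒩 n _ _ (fun y hy => ?_)
    rw [valAt_comapApp, valAt_Dfun, valAt_Dfun, GrMod.locModMap_mk]
    refine mk_eq_of_smul_eq _ _ _ _ ?_
    show (ψ g) ^ (q + (-n).toNat) • v (g ^ n.toNat • (m : M)) =
      ψ (g ^ (q + (-n).toNat)) • ((ψ g) ^ n.toNat • v (m : M))
    rw [LinearMap.map_smulₛₗ]
    show (ψ g) ^ (q + (-n).toNat) • (ψ (g ^ n.toNat) • v (m : M)) =
      ψ (g ^ (q + (-n).toNat)) • ((ψ g) ^ n.toNat • v (m : M))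
    rw [map_pow, map_pow]
  · intro m m' h h'
    rw [map_add, map_add, map_add, map_add, h, h']

set_option maxRecDepth 8000 in
set_option maxHeartbeats 1600000 in
include hg in
theorem app_bijective
    (hbc : ∀ (Q : Type u) [AddCommGroup Q] [Module B Q] (w : M →ₛₗ[ψ.toRingHom] Q),
      ∃! g : N →ₗ[B] Q, ∀ m : M, g (v m) = w m) :
    Function.Bijective
      ((((Scheme.Modules.pullbackPushforwardAdjunction (Proj.map ψ hψ)).homEquiv _ _).symm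
        (GrMod.comap (ℳ := ℳ) (𝒩 := 𝒩) ψ hψ v hv n)).app
          (Proj.map ψ hψ ⁻¹ᵁ Proj.basicOpen 𝒜 g)) := by
  haveI : (GrMod.tilde 𝒜 ℳ n).IsQuasicoherent :=
    Groth.Agent.Helper28.GrModQcoh.tilde_isQuasicoherent 𝒜 ℳ n
  have hV : IsAffineOpen (Proj.basicOpen 𝒜 g) := Proj.isAffineOpen_basicOpen 𝒜 g hg one_pos
  have hU : IsAffineOpen (Proj.map ψ hψ ⁻¹ᵁ Proj.basicOpen 𝒜 g) :=
    Proj.isAffineOpen_basicOpen ℬ (ψ g) (ψ.map_mem hg) one_pos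
  letI : Algebra Γ(Proj 𝒜, Proj.basicOpen 𝒜 g)
      Γ(Proj ℬ, Proj.map ψ hψ ⁻¹ᵁ Proj.basicOpen 𝒜 g) :=
    ((Proj.map ψ hψ).appLE (Proj.basicOpen 𝒜 g) (Proj.map ψ hψ ⁻¹ᵁ Proj.basicOpen 𝒜 g)
      le_rfl).hom.toAlgebra
  obtain ⟨α', hα'⟩ : ∃ α', α' =
      ((Scheme.Modules.pullbackPushforwardAdjunction (Proj.map ψ hψ)).homEquiv _ _).symm
        (GrMod.comap (ℳ := ℳ) (𝒩 := 𝒩) ψ hψ v hv n) := ⟨_, rfl⟩
  rw [← hα']
  obtain ⟨E, hE⟩ : ∃ E, E = Groth.Agent.Helper13.Pullback.sectionsPullbackEquiv (Proj.map ψ hψ)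
      (GrMod.tilde 𝒜 ℳ n) hU hV le_rfl := ⟨_, rfl⟩
  have hEpull : ∀ t : Γ(GrMod.tilde 𝒜 ℳ n, Proj.basicOpen 𝒜 g),
      E.symm ((1 : Γ(Proj ℬ, Proj.map ψ hψ ⁻¹ᵁ Proj.basicOpen 𝒜 g))
        ⊗ₜ[Γ(Proj 𝒜, Proj.basicOpen 𝒜 g)] t) =
        OmegaSh.pullSect (Proj.map ψ hψ) (GrMod.tilde 𝒜 ℳ n) (Proj.basicOpen 𝒜 g) t := by
    intro t
    rw [LinearEquiv.symm_apply_eq, hE]
    have h1 := Groth.Agent.Helper18.Rec.sectionsPullbackEquiv_pullRes (Proj.map ψ hψ)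
      (GrMod.tilde 𝒜 ℳ n) hU hV le_rfl t
    rw [Groth.Agent.Helper18.Rec.pullRes_refl] at h1
    exact h1.symm
  let Φ : Γ(Proj ℬ, Proj.map ψ hψ ⁻¹ᵁ Proj.basicOpen 𝒜 g)
        ⊗[Γ(Proj 𝒜, Proj.basicOpen 𝒜 g)] Γ(GrMod.tilde 𝒜 ℳ n, Proj.basicOpen 𝒜 g)
      →ₗ[Γ(Proj ℬ, Proj.map ψ hψ ⁻¹ᵁ Proj.basicOpen 𝒜 g)]
        Γ(GrMod.tilde ℬ 𝒩 n, Proj.map ψ hψ ⁻¹ᵁ Proj.basicOpen 𝒜 g) :=
    (Groth.Agent.Helper13.LocFree.appLinearMap α' _).comp E.symm.toLinearMap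
  have hΦ : ∀ m, Φ ((1 : Γ(Proj ℬ, Proj.map ψ hψ ⁻¹ᵁ Proj.basicOpen 𝒜 g))
      ⊗ₜ[Γ(Proj 𝒜, Proj.basicOpen 𝒜 g)] DΓ ℳ hg n m) = DU ψ hψ 𝒩 hg n (v m) := by
    intro m
    show α'.app _ (E.symm ((1 : Γ(Proj ℬ, Proj.map ψ hψ ⁻¹ᵁ Proj.basicOpen 𝒜 g))
      ⊗ₜ[Γ(Proj 𝒜, Proj.basicOpen 𝒜 g)] DΓ ℳ hg n m)) = _
    rw [hEpull, hα', adjunct_app_pullSect]
    exact comap_D ψ hψ ℳ 𝒩 v hv hg n m
  have key : Function.Bijective Φ :=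
    bijective_of_dehom ψ.toRingHom v hbc (eps 𝒜 hg) (epsU ψ hψ hg) (appLE_eps ψ hψ hg)
      (eps_surjective ℬ (ψ.map_mem hg)) (ψ g) (eps_self ℬ (ψ.map_mem hg))
      (DΓ ℳ hg n) (DΓ_smul ℳ hg n) (D_surjective 𝒜 hg ℳ n)
      (DU ψ hψ 𝒩 hg n) (DU_smul ψ hψ 𝒩 hg n) (D_surjective ℬ (ψ.map_mem hg) 𝒩 n)
      (fun y hy => mem_K1_of_D_eq_zero ℬ (ψ.map_mem hg) 𝒩 n hy) Φ hΦ
  have hcomp : (fun s => α'.app (Proj.map ψ hψ ⁻¹ᵁ Proj.basicOpen 𝒜 g) s) = Φ ∘ E := by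
    funext s
    show _ = α'.app _ (E.symm (E s))
    rw [LinearEquiv.symm_apply_apply]
  show Function.Bijective (fun s => α'.app (Proj.map ψ hψ ⁻¹ᵁ Proj.basicOpen 𝒜 g) s)
  rw [hcomp]
  exact key.comp E.bijective

theorem isIso_adjunct_comap (hgen : (𝒜₊).toIdeal = Ideal.span (𝒜 1 : Set A))
    (hbc : ∀ (Q : Type u) [AddCommGroup Q] [Module B Q] (w : M →ₛₗ[ψ.toRingHom] Q),
      ∃! g : N →ₗ[B] Q, ∀ m : M, g (v m) = w m) :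
    IsIso (((Scheme.Modules.pullbackPushforwardAdjunction (Proj.map ψ hψ)).homEquiv _ _).symm
      (GrMod.comap (ℳ := ℳ) (𝒩 := 𝒩) ψ hψ v hv n)) := by
  haveI : (GrMod.tilde 𝒜 ℳ n).IsQuasicoherent :=
    Groth.Agent.Helper28.GrModQcoh.tilde_isQuasicoherent 𝒜 ℳ n
  haveI : (GrMod.tilde ℬ 𝒩 n).IsQuasicoherent :=
    Groth.Agent.Helper28.GrModQcoh.tilde_isQuasicoherent ℬ 𝒩 n
  apply Groth.Agent.Helper28.AffIso.isIso_of_app_bijective_affine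
  intro x
  obtain ⟨g, hg, hx⟩ := exists_deg_one ψ hψ hgen x
  exact ⟨Proj.map ψ hψ ⁻¹ᵁ Proj.basicOpen 𝒜 g,
    Proj.isAffineOpen_basicOpen ℬ (ψ g) (ψ.map_mem hg) one_pos, hx,
    app_bijective ψ hψ ℳ 𝒩 v hv hg n hbc⟩

end Groth.Agent.Helper6.Dehom
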