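import Groth.Agent.Lib.Helper6.Deligne1
import Mathlib

/-!
# Deligne's theorem (helper6), part 2: translations and the norm argument
-/

set_option autoImplicit false

namespace Groth.Agent.Helper6.Deligne

open TensorProduct

universe u v w

section Trans

variable {k : Type u} [CommRing k] {A : Type v} [CommRing A] [HopfAlgebra k A]

/-- a point `γ : A → k` viewed as a point with values in `A` -/
noncomputable def inclPt (γ : WithConv (A →ₐ[k] k)) : WithConv (A →ₐ[k] A) :=
  WithConv.toConv ((Algebra.ofId k A).comp γ.ofConv)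

theorem inclPt_mul (γ δ : WithConv (A →ₐ[k] k)) : inclPt (γ * δ) = inclPt γ * inclPt δ := by
  apply WithConv.ofConv_injective
  exact AlgHom.comp_convMul_distrib (Algebra.ofId k A) γ δ

theorem inclPt_one : inclPt (1 : WithConv (A →ₐ[k] k)) = 1 := by
  apply WithConv.ofConv_injective
  apply AlgHom.ext
  intro a
  show algebraMap k A ((1 : WithConv (A →ₐ[k] k)).ofConv a) = (1 : WithConv (A →ₐ[k] A)).ofConv a
  rfl

/-- right translation by the point `γ` -/
noncomputable def trans (γ : WithConv (A →ₐ[k] k)) : WithConv (A →ₐ[k] A) :=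
  WithConv.toConv (AlgHom.id k A) * inclPt γ

theorem trans_one : trans (1 : WithConv (A →ₐ[k] k)) = WithConv.toConv (AlgHom.id k A) := by
  rw [trans, inclPt_one, mul_one]

theorem trans_comp (δ γ : WithConv (A →ₐ[k] k)) :
    (trans δ).ofConv.comp (trans γ).ofConv = (trans (δ * γ)).ofConv := by
  have h1 : (trans δ).ofConv.comp (trans γ).ofConv =
      (WithConv.toConv ((trans δ).ofConv.comp (AlgHom.id k A)) *
        WithConv.toConv ((trans δ).ofConv.comp (inclPt γ).ofConv)).ofConv :=
    AlgHom.comp_convMul_distrib (trans δ).ofConv (WithConv.toConv (AlgHom.id k A)) (inclPt γ)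
  have h2 : (trans δ).ofConv.comp (inclPt γ).ofConv = (inclPt γ).ofConv := by
    apply AlgHom.ext
    intro a
    show (trans δ).ofConv (algebraMap k A (γ.ofConv a)) = algebraMap k A (γ.ofConv a)
    exact AlgHom.commutes _ _
  rw [h1, h2, AlgHom.comp_id, WithConv.toConv_ofConv, WithConv.toConv_ofConv]
  congr 1
  rw [trans, trans, mul_assoc, inclPt_mul]

/-- translation as an algebra automorphism -/
noncomputable def transEquiv (γ : WithConv (A →ₐ[k] k)) : A ≃ₐ[k] A :=
  AlgEquiv.ofAlgHom (trans γ).ofConv (trans γ⁻¹).ofConv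
    (by rw [trans_comp, mul_inv_cancel, trans_one])
    (by rw [trans_comp, inv_mul_cancel, trans_one])

theorem transEquiv_apply (γ : WithConv (A →ₐ[k] k)) (a : A) :
    transEquiv γ a = (trans γ).ofConv a := rfl

end Trans

section Main

variable (R : Type u) [CommRing R] (A : Type v) [CommRing A] [HopfAlgebra R A]
  [Coalgebra.IsCocomm R A]

attribute [local instance] convAlg

/-- the universal point -/
noncomputable def univ : WithConv (A →ₗ[R] A) := WithConv.toConv LinearMap.id

theorem isUnit_univ : IsUnit (univ R A) := by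
  apply IsUnit.of_mul_eq_one (WithConv.toConv (HopfAlgebra.antipode R (A := A)))
  exact LinearMap.id_mul_antipode

theorem post_trans_univ (γ : WithConv (A →ₐ[R] R)) :
    postEquiv R A (transEquiv γ) (univ R A) =
      univ R A * ι₀ R A (WithConv.toConv γ.ofConv.toLinearMap) := by
  have h1 : postEquiv R A (transEquiv γ) (univ R A) =
      WithConv.toConv (trans γ).ofConv.toLinearMap := by
    apply WithConv.ofConv_injective
    ext a
    rfl
  rw [h1, trans, AlgHom.toLinearMap_convMul]
  rfl

variable {ι : Type w} [Fintype ι] [DecidableEq ι]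

theorem pow_card_eq_one_lin (b : Module.Basis ι R A) (γ : WithConv (A →ₐ[R] R)) :
    (WithConv.toConv γ.ofConv.toLinearMap : WithConv (A →ₗ[R] R)) ^ Fintype.card ι = 1 := by
  have h1 := norm_postEquiv R A (transEquiv γ) (univ R A)
  rw [post_trans_univ, map_mul, norm_ι₀ R A b] at h1
  have hu : IsUnit (Algebra.norm (WithConv (A →ₗ[R] R)) (univ R A)) :=
    (isUnit_univ R A).map _
  have h2 : Algebra.norm (WithConv (A →ₗ[R] R)) (univ R A) *
      (WithConv.toConv γ.ofConv.toLinearMap : WithConv (A →ₗ[R] R)) ^ Fintype.card ι =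
      Algebra.norm (WithConv (A →ₗ[R] R)) (univ R A) * 1 := by
    rw [h1, mul_one]
  exact hu.mul_left_cancel h2

/-- **Deligne's theorem**, for points with values in the base ring, free case -/
theorem pow_card_eq_one (b : Module.Basis ι R A) (γ : WithConv (A →ₐ[R] R)) :
    γ ^ Fintype.card ι = 1 := by
  apply WithConv.ofConv_injective
  apply AlgHom.toLinearMap_injective
  apply WithConv.toConv_injective
  rw [AlgHom.toLinearMap_convPow, AlgHom.toLinearMap_convOne]
  exact pow_card_eq_one_lin R A b γ

end Main

end Groth.Agent.Helper6.Deligne
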