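import Groth.Prelude.Def_PP16
import Groth.Prelude.Def_DiffOp
import Mathlib.RingTheory.TensorProduct.Maps
import Mathlib.Algebra.Algebra.Bilinear

/-!
# Differential operators and principal parts (helper6)

The action of `B ⊗[A] B` on `Hom_A(M, N)` and the characterisation of differential operators of order
`≤ n` as those killed by `I^(n+1)`.
-/

set_option autoImplicit false
set_option linter.unusedSectionVars false
universe u
open scoped TensorProduct

noncomputable section

namespace Groth.Agent.Helper6.PPDiff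

variable {A B : Type u} [CommRing A] [CommRing B] [Algebra A B]
variable {M N : Type u} [AddCommGroup M] [Module A M] [Module B M] [IsScalarTower A B M]
  [AddCommGroup N] [Module A N] [Module B N] [IsScalarTower A B N]

/-- post-composition action of `B` on `Hom_A(M,N)`. -/
def leftAct : B →ₐ[A] Module.End A (M →ₗ[A] N) := Algebra.lsmul A A (M →ₗ[A] N)

theorem leftAct_apply (b : B) (E : M →ₗ[A] N) (m : M) :
    (leftAct (A := A) (M := M) (N := N) b) E m = b • E m := rfl

/-- pre-composition action of `B` on `Hom_A(M,N)`. -/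
def rightAct : B →ₐ[A] Module.End A (M →ₗ[A] N) :=
  AlgHom.ofLinearMap ((LinearMap.llcomp A M M N).flip ∘ₗ (Algebra.lsmul A A M).toLinearMap)
    (by ext E m; simp) (by intro b c; ext E m; simp [smul_comm b c m])

theorem rightAct_apply (b : B) (E : M →ₗ[A] N) (m : M) :
    (rightAct (A := A) (M := M) (N := N) b) E m = E (b • m) := rfl

theorem commute_left_right (b c : B) :
    Commute (leftAct (A := A) (M := M) (N := N) b) (rightAct (A := A) (M := M) (N := N) c) := by
  ext E m
  simp [Module.End.mul_apply, leftAct_apply, rightAct_apply]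

/-- The action of `B ⊗[A] B` on `Hom_A(M,N)`: `(b ⊗ c) • E = b • E (c • -)`. -/
def act : B ⊗[A] B →ₐ[A] Module.End A (M →ₗ[A] N) :=
  Algebra.TensorProduct.lift leftAct rightAct commute_left_right

theorem act_tmul (b c : B) (E : M →ₗ[A] N) (m : M) :
    (act (A := A) (M := M) (N := N) (b ⊗ₜ[A] c)) E m = b • E (c • m) := by
  simp [act, Algebra.TensorProduct.lift_tmul, Module.End.mul_apply, leftAct_apply, rightAct_apply]

theorem act_mul (x y : B ⊗[A] B) (E : M →ₗ[A] N) :
    (act (A := A) (M := M) (N := N) (x * y)) E = act x (act y E) := by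
  rw [map_mul, Module.End.mul_apply]

theorem act_gen (b : B) (D : M →ₗ[A] N) :
    (act (A := A) (M := M) (N := N) ((1 : B) ⊗ₜ[A] b - b ⊗ₜ[A] (1 : B))) D =
      Diff16.commutator A B M N D b := by
  ext m
  rw [map_sub, LinearMap.sub_apply, LinearMap.sub_apply, act_tmul, act_tmul]
  simp [Diff16.commutator]

/-- The ideal of elements of `B ⊗[A] B` killing `D`. -/
def annIdeal (D : M →ₗ[A] N) : Ideal (B ⊗[A] B) where
  carrier := {x | act x D = 0}
  add_mem' := by
    intro x y hx hy
    change act x D = 0 at hx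
    change act y D = 0 at hy
    change act (x + y) D = 0
    rw [map_add, LinearMap.add_apply, hx, hy, add_zero]
  zero_mem' := by simp
  smul_mem' := by
    intro t x hx
    change act x D = 0 at hx
    change act (t * x) D = 0
    rw [act_mul, hx, map_zero]

theorem mem_annIdeal (D : M →ₗ[A] N) (x : B ⊗[A] B) : x ∈ annIdeal D ↔ act x D = 0 := Iff.rfl

theorem isDiffOpLE_iff_pow_le (n : ℕ) : ∀ D : M →ₗ[A] N,
    Diff16.IsDiffOpLE A B M N n D ↔ KaehlerDifferential.ideal A B ^ (n + 1) ≤ annIdeal D := by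
  induction n with
  | zero =>
    intro D
    rw [zero_add, pow_one, ← KaehlerDifferential.span_range_eq_ideal, Ideal.span_le]
    constructor
    · rintro h _ ⟨b, rfl⟩
      change act _ D = 0
      rw [act_gen]
      ext m
      simp [Diff16.commutator, h b m]
    · intro h b m
      have h1 : act ((1 : B) ⊗ₜ[A] b - b ⊗ₜ[A] (1 : B)) D = 0 := h ⟨b, rfl⟩
      rw [act_gen] at h1
      have h2 := LinearMap.congr_fun h1 m
      simpa [Diff16.commutator, sub_eq_zero] using h2
  | succ n ih =>
    intro D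
    change (∀ b : B, Diff16.IsDiffOpLE A B M N n (Diff16.commutator A B M N D b)) ↔ _
    constructor
    · intro h
      rw [pow_succ, Ideal.mul_le]
      intro r hr s hs
      rw [← KaehlerDifferential.span_range_eq_ideal] at hs
      induction hs using Submodule.span_induction with
      | mem s hs =>
        obtain ⟨b, rfl⟩ := hs
        change act _ D = 0
        rw [act_mul, act_gen]
        exact (ih _).1 (h b) hr
      | zero => simp
      | add x y _ _ hx hy => rw [mul_add]; exact add_mem hx hy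
      | smul t x _ hx =>
        rw [smul_eq_mul, mul_left_comm]
        exact Ideal.mul_mem_left _ _ hx
    · intro h b
      rw [ih]
      intro r hr
      change act r _ = 0
      rw [← act_gen, ← act_mul]
      refine h ?_
      rw [pow_succ]
      exact Ideal.mul_mem_mul hr (KaehlerDifferential.one_smul_sub_smul_one_mem_ideal A b)


section PM

variable (n : ℕ)

/-- the quotient map `B ⊗[A] B → P^n`, landing in the synonym `Pr`. -/
def mkPr : B ⊗[A] B →+* PP16.Pr n A B :=
  Ideal.Quotient.mk (KaehlerDifferential.ideal A B ^ (n + 1))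

theorem mkPr_surjective : Function.Surjective (mkPr (A := A) (B := B) n) :=
  Ideal.Quotient.mk_surjective

theorem mkPr_eq_zero {x : B ⊗[A] B} (hx : x ∈ KaehlerDifferential.ideal A B ^ (n + 1)) :
    mkPr (A := A) (B := B) n x = 0 :=
  Ideal.Quotient.eq_zero_iff_mem.2 hx

theorem mem_of_mkPr_eq_zero {x : B ⊗[A] B} (hx : mkPr (A := A) (B := B) n x = 0) :
    x ∈ KaehlerDifferential.ideal A B ^ (n + 1) :=
  Ideal.Quotient.eq_zero_iff_mem.1 hx

theorem smul_mkPr (b : B) (x : B ⊗[A] B) :
    b • mkPr (A := A) (B := B) n x = mkPr n (((1 : B) ⊗ₜ[A] b) * x) := by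
  rw [map_mul]
  rfl

theorem algebraMap_smul_mkPr (b : B) (x : B ⊗[A] B) :
    algebraMap B (PP16.P n A B) b • mkPr (A := A) (B := B) n x = mkPr n ((b ⊗ₜ[A] (1 : B)) * x) := by
  rw [map_mul]
  rfl

theorem dM_eq (m : M) : PP16.dM n A B M m = mkPr n (1 : B ⊗[A] B) ⊗ₜ[B] m := by
  rw [map_one]
  rfl

theorem mk_tmul_eq (b c : B) (m : M) :
    mkPr n (b ⊗ₜ[A] c) ⊗ₜ[B] m = algebraMap B (PP16.P n A B) b • PP16.dM n A B M (c • m) := by
  rw [dM_eq, ← TensorProduct.smul_tmul, TensorProduct.smul_tmul', smul_mkPr, algebraMap_smul_mkPr,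
    mul_one, Algebra.TensorProduct.tmul_mul_tmul, mul_one, one_mul]

/-- any `u` as in the statement is computed by the action. -/
theorem u_mk_tmul (D : M →ₗ[A] N) (u : PP16.PM n A B M →+ N)
    (h1 : ∀ (b : B) (t : PP16.PM n A B M), u (algebraMap B (PP16.P n A B) b • t) = b • u t)
    (h2 : ∀ m : M, u (PP16.dM n A B M m) = D m) (x : B ⊗[A] B) (m : M) :
    u (mkPr n x ⊗ₜ[B] m) = act x D m := by
  induction x using TensorProduct.induction_on with
  | zero =>
    rw [map_zero, map_zero, LinearMap.zero_apply, TensorProduct.zero_tmul, map_zero]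
    rfl
  | tmul b c => rw [mk_tmul_eq, h1, h2, act_tmul]
  | add x y hx hy =>
    rw [map_add, map_add, LinearMap.add_apply, TensorProduct.add_tmul, map_add, hx, hy]
    rfl

theorem u_unique (D : M →ₗ[A] N) (u u' : PP16.PM n A B M →+ N)
    (h1 : ∀ (b : B) (t : PP16.PM n A B M), u (algebraMap B (PP16.P n A B) b • t) = b • u t)
    (h2 : ∀ m : M, u (PP16.dM n A B M m) = D m)
    (h1' : ∀ (b : B) (t : PP16.PM n A B M), u' (algebraMap B (PP16.P n A B) b • t) = b • u' t)
    (h2' : ∀ m : M, u' (PP16.dM n A B M m) = D m) : u = u' := by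
  ext t
  induction t using TensorProduct.induction_on with
  | zero => rw [map_zero, map_zero]
  | tmul p m =>
    obtain ⟨x, rfl⟩ := mkPr_surjective n p
    rw [u_mk_tmul n D u h1 h2, u_mk_tmul n D u' h1' h2']
  | add x y hx hy => rw [map_add, map_add, hx, hy]

/-- additive map `B ⊗[A] B →+ (M →+ N)`, `x ↦ act x D`. -/
def actAdd (D : M →ₗ[A] N) : B ⊗[A] B →+ (M →+ N) where
  toFun x := (act x D).toAddMonoidHom
  map_zero' := by ext m; simp
  map_add' x y := by ext m; simp

theorem actAdd_apply (D : M →ₗ[A] N) (x : B ⊗[A] B) (m : M) : actAdd D x m = act x D m := rfl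

theorem ker_le_actAdd (D : M →ₗ[A] N) (h : Diff16.IsDiffOpLE A B M N n D) :
    (mkPr (A := A) (B := B) n).toAddMonoidHom.ker ≤ (actAdd D).ker := by
  intro x hx
  rw [AddMonoidHom.mem_ker] at hx ⊢
  have hx' : x ∈ KaehlerDifferential.ideal A B ^ (n + 1) := mem_of_mkPr_eq_zero n hx
  have := (isDiffOpLE_iff_pow_le n D).1 h hx'
  ext m
  rw [actAdd_apply]
  change act x D = 0 at this
  rw [this]
  rfl

/-- the map `P^n →+ (M →+ N)` induced by a differential operator of order `≤ n`. -/
def quotAdd (D : M →ₗ[A] N) (h : Diff16.IsDiffOpLE A B M N n D) : PP16.Pr n A B →+ (M →+ N) :=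
  (mkPr (A := A) (B := B) n).toAddMonoidHom.liftOfSurjective (mkPr_surjective n)
    ⟨actAdd D, ker_le_actAdd n D h⟩

theorem quotAdd_mk (D : M →ₗ[A] N) (h : Diff16.IsDiffOpLE A B M N n D) (x : B ⊗[A] B) (m : M) :
    quotAdd n D h (mkPr n x) m = act x D m := by
  have := AddMonoidHom.liftOfRightInverse_comp_apply
    (mkPr (A := A) (B := B) n).toAddMonoidHom _
    (Function.rightInverse_surjInv (mkPr_surjective n))
    ⟨actAdd D, ker_le_actAdd n D h⟩ x
  exact DFunLike.congr_fun this m

/-- the factorisation `P^n(M) →+ N` of a differential operator of order `≤ n`. -/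
def uOf (D : M →ₗ[A] N) (h : Diff16.IsDiffOpLE A B M N n D) : PP16.PM n A B M →+ N :=
  TensorProduct.liftAddHom (quotAdd n D h) (by
    intro b p m
    obtain ⟨x, rfl⟩ := mkPr_surjective n p
    rw [smul_mkPr, quotAdd_mk, quotAdd_mk, act_mul, act_tmul, one_smul])

theorem uOf_tmul (D : M →ₗ[A] N) (h : Diff16.IsDiffOpLE A B M N n D) (x : B ⊗[A] B) (m : M) :
    uOf n D h (mkPr n x ⊗ₜ[B] m) = act x D m := by
  rw [uOf, TensorProduct.liftAddHom_tmul, quotAdd_mk]

theorem uOf_smul (D : M →ₗ[A] N) (h : Diff16.IsDiffOpLE A B M N n D) (b : B)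
    (t : PP16.PM n A B M) : uOf n D h (algebraMap B (PP16.P n A B) b • t) = b • uOf n D h t := by
  induction t using TensorProduct.induction_on with
  | zero => rw [smul_zero, map_zero, smul_zero]
  | tmul p m =>
    obtain ⟨x, rfl⟩ := mkPr_surjective n p
    rw [TensorProduct.smul_tmul', algebraMap_smul_mkPr, uOf_tmul, uOf_tmul, act_mul, act_tmul, one_smul]
  | add x y hx hy => rw [smul_add, map_add, map_add, hx, hy, smul_add]

theorem uOf_dM (D : M →ₗ[A] N) (h : Diff16.IsDiffOpLE A B M N n D) (m : M) :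
    uOf n D h (PP16.dM n A B M m) = D m := by
  rw [dM_eq, uOf_tmul, map_one, Module.End.one_apply]

theorem isDiffOpLE_of_u (D : M →ₗ[A] N) (u : PP16.PM n A B M →+ N)
    (h1 : ∀ (b : B) (t : PP16.PM n A B M), u (algebraMap B (PP16.P n A B) b • t) = b • u t)
    (h2 : ∀ m : M, u (PP16.dM n A B M m) = D m) : Diff16.IsDiffOpLE A B M N n D := by
  rw [isDiffOpLE_iff_pow_le]
  intro x hx
  change act x D = 0
  ext m
  rw [← u_mk_tmul n D u h1 h2, mkPr_eq_zero n hx, LinearMap.zero_apply, TensorProduct.zero_tmul,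
    map_zero]

end PM

end Groth.Agent.Helper6.PPDiff
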