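import Groth.Agent.Lib.Helper5.DiffOp2
import Groth.Agent.Lib.Helper6.PPDiff

/-!
# Divided-power differential operators (helper6): order bound and basis property
-/

set_option autoImplicit false
set_option linter.unusedSectionVars false
universe u
open scoped TensorProduct
open Diff16

noncomputable section

namespace Groth.Agent.Helper6.DivPow

open Groth.Agent.Helper5 Groth.Agent.Helper6.PPDiff

variable {A B : Type u} [CommRing A] [CommRing B] [Algebra A B]
variable {ι : Type} [Fintype ι] [DecidableEq ι] (z : ι → B)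

/-- monomial -/
def mono (q : ι → ℕ) : B := ∏ i, z i ^ q i

theorem mono_def (q : ι → ℕ) : mono z q = ∏ i, z i ^ q i := rfl

theorem mono_zero : mono z (0 : ι → ℕ) = 1 := by simp [mono]

theorem mono_add (p q : ι → ℕ) : mono z (p + q) = mono z p * mono z q := by
  simp only [mono, Pi.add_apply, pow_add]
  exact Finset.prod_mul_distrib

theorem mono_single (i : ι) : mono z (Pi.single i 1) = z i := by
  unfold mono
  rw [Finset.prod_eq_single i]
  · rw [Pi.single_eq_same, pow_one]
  · intro j _ hj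
    rw [Pi.single_eq_of_ne hj, pow_zero]
  · intro h; exact absurd (Finset.mem_univ i) h

theorem mul_mono (i : ι) (q : ι → ℕ) : z i * mono z q = mono z (q + Pi.single i 1) := by
  rw [mono_add, mono_single, mul_comm]

theorem sum_add_single (i : ι) (q : ι → ℕ) : ∑ j, (q + Pi.single i 1 : ι → ℕ) j = ∑ j, q j + 1 := by
  simp [Finset.sum_add_distrib]

theorem eq_zero_of_monomials
    (hz : Submodule.span B (Set.range fun i => KaehlerDifferential.D A B (z i)) = ⊤)
    (k : ℕ) (E : B →ₗ[A] B) (hE : IsDiffOpLE A B B B k E)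
    (hmon : ∀ r : ι → ℕ, E (mono z r) = 0) : E = 0 := by
  let e := Fintype.equivFin ι
  refine eq_zero_of_isDiffOpLE_of_monomials (fun j => z (e.symm j)) ?_ k E hE ?_
  · rw [← hz]
    congr 1
    exact e.symm.surjective.range_comp (fun i => KaehlerDifferential.D A B (z i))
  · intro r
    have := hmon (fun i => r (e i))
    rw [mono_def] at this
    rw [← this]
    congr 1
    exact (Fintype.prod_equiv e (fun i => z i ^ r (e i)) (fun j => z (e.symm j) ^ r j)
      (by intro i; simp)).symm

theorem vanish_all_of_vanish_low (m : ℕ) : ∀ (E : B →ₗ[A] B), IsDiffOpLE A B B B m E →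
    (∀ q : ι → ℕ, ∑ i, q i ≤ m → E (mono z q) = 0) → ∀ q, E (mono z q) = 0 := by
  induction m with
  | zero =>
    intro E hE h0 q
    have h1 : E (mono z q) = mono z q • E 1 := by
      have := (isDiffOpLE_zero_iff E).1 hE (mono z q) 1
      rwa [smul_eq_mul, mul_one] at this
    have h2 : E 1 = 0 := by
      have := h0 0 (by simp)
      rwa [mono_zero] at this
    rw [h1, h2, smul_zero]
  | succ m ih =>
    intro E hE h0
    have hstep : ∀ (i : ι) (q : ι → ℕ), E (mono z (q + Pi.single i 1)) = z i * E (mono z q) := by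
      intro i q
      have hc : ∀ q', commutator A B B B E (z i) (mono z q') = 0 := by
        refine ih _ ((isDiffOpLE_succ_iff m E).1 hE (z i)) ?_
        intro q' hq'
        rw [commutator_apply, smul_eq_mul, smul_eq_mul, mul_mono, h0 q' (by omega),
          h0 _ (by rw [sum_add_single]; omega), mul_zero, sub_zero]
      have := hc q
      rw [commutator_apply, smul_eq_mul, smul_eq_mul, mul_mono, sub_eq_zero] at this
      exact this
    have key : ∀ (n : ℕ) (q : ι → ℕ), ∑ i, q i = n → E (mono z q) = 0 := by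
      intro n
      induction n with
      | zero => intro q hq; exact h0 q (by omega)
      | succ n ihn =>
        intro q hq
        have hex : ∃ i, q i ≠ 0 := by
          by_contra hne
          push Not at hne
          have : ∑ i, q i = 0 := Finset.sum_eq_zero (fun i _ => hne i)
          omega
        obtain ⟨i, hi⟩ := hex
        have hq' : q = (q - Pi.single i 1) + Pi.single i 1 := by
          funext j
          by_cases hj : j = i
          · subst hj
            simp only [Pi.add_apply, Pi.sub_apply, Pi.single_eq_same]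
            omega
          · simp [Pi.single_eq_of_ne hj]
        have hs : ∑ j, (q - Pi.single i 1 : ι → ℕ) j = n := by
          have := sum_add_single i (q - Pi.single i 1)
          rw [← hq', hq] at this
          omega
        rw [hq', hstep, ihn _ hs, mul_zero]
    intro q
    exact key _ q rfl

/-- one-variable factor -/
def t (i : ι) (a b : ℕ) : B := (a.choose b : B) * z i ^ (a - b)

/-- the value `D_p (z^q)`. -/
def T (q p : ι → ℕ) : B := ∏ j, t z j (q j) (p j)

theorem T_eq (q p : ι → ℕ) :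
    ((∏ i, Nat.choose (q i) (p i) : ℕ) : B) * ∏ i, z i ^ (q i - p i) = T z q p := by
  unfold T t
  rw [Nat.cast_prod, ← Finset.prod_mul_distrib]

theorem t_pascal (i : ι) (a b : ℕ) :
    t z i (a + 1) (b + 1) = z i * t z i a (b + 1) + t z i a b := by
  unfold t
  rw [Nat.choose_succ_succ', Nat.cast_add]
  by_cases h : b + 1 ≤ a
  · have e1 : a + 1 - (b + 1) = a - b := by omega
    have e2 : a - b = (a - (b + 1)) + 1 := by omega
    rw [e1, e2, pow_succ]
    ring
  · have h0 : a.choose (b + 1) = 0 := Nat.choose_eq_zero_of_lt (by omega)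
    have e1 : a + 1 - (b + 1) = a - b := by omega
    rw [h0, e1]
    simp

theorem t_succ_zero (i : ι) (a : ℕ) : t z i (a + 1) 0 = z i * t z i a 0 := by
  unfold t
  simp [pow_succ']

theorem T_split (i : ι) (q p : ι → ℕ) :
    T z q p = t z i (q i) (p i) * ∏ j ∈ Finset.univ.erase i, t z j (q j) (p j) :=
  (Finset.mul_prod_erase _ _ (Finset.mem_univ i)).symm

theorem T_succ_succ (i : ι) (q p : ι → ℕ) :
    T z (q + Pi.single i 1) (p + Pi.single i 1) =
      z i * T z q (p + Pi.single i 1) + T z q p := by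
  rw [T_split z i, T_split z i q (p + Pi.single i 1), T_split z i q p]
  have hC1 : ∏ j ∈ Finset.univ.erase i, t z j ((q + Pi.single i 1 : ι → ℕ) j) ((p + Pi.single i 1 : ι → ℕ) j) =
      ∏ j ∈ Finset.univ.erase i, t z j (q j) (p j) := by
    refine Finset.prod_congr rfl fun j hj => ?_
    have hji : j ≠ i := Finset.ne_of_mem_erase hj
    simp [Pi.single_eq_of_ne hji]
  have hC2 : ∏ j ∈ Finset.univ.erase i, t z j (q j) ((p + Pi.single i 1 : ι → ℕ) j) =
      ∏ j ∈ Finset.univ.erase i, t z j (q j) (p j) := by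
    refine Finset.prod_congr rfl fun j hj => ?_
    have hji : j ≠ i := Finset.ne_of_mem_erase hj
    simp [Pi.single_eq_of_ne hji]
  rw [hC1, hC2]
  simp only [Pi.add_apply, Pi.single_eq_same]
  rw [t_pascal]
  ring

theorem T_succ_zero (i : ι) (q p : ι → ℕ) (hp : p i = 0) :
    T z (q + Pi.single i 1) p = z i * T z q p := by
  rw [T_split z i, T_split z i q p]
  have hC1 : ∏ j ∈ Finset.univ.erase i, t z j ((q + Pi.single i 1 : ι → ℕ) j) (p j) =
      ∏ j ∈ Finset.univ.erase i, t z j (q j) (p j) := by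
    refine Finset.prod_congr rfl fun j hj => ?_
    have hji : j ≠ i := Finset.ne_of_mem_erase hj
    simp [Pi.single_eq_of_ne hji]
  rw [hC1]
  simp only [Pi.add_apply, Pi.single_eq_same, hp]
  rw [t_succ_zero]
  ring

theorem T_self (q : ι → ℕ) : T z q q = 1 := by
  unfold T t
  simp

theorem T_zero_right (q : ι → ℕ) : T z q 0 = mono z q := by
  unfold T t mono
  simp

theorem T_eq_zero_of_lt (q p : ι → ℕ) (i : ι) (h : q i < p i) : T z q p = 0 := by
  unfold T
  refine Finset.prod_eq_zero (Finset.mem_univ i) ?_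
  unfold t
  rw [Nat.choose_eq_zero_of_lt h]
  simp

section order

variable (hz : Submodule.span B (Set.range fun i => KaehlerDifferential.D A B (z i)) = ⊤)
include hz

theorem ideal_le_span_sup_sq :
    KaehlerDifferential.ideal A B ≤
      Ideal.span (Set.range fun i => (1 : B) ⊗ₜ[A] z i - z i ⊗ₜ[A] (1 : B)) ⊔
        KaehlerDifferential.ideal A B ^ 2 := by
  intro y hy
  have hmem : KaehlerDifferential.fromIdeal A B ⟨y, hy⟩ ∈
      Submodule.span B (Set.range fun i => KaehlerDifferential.D A B (z i)) := by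
    rw [hz]; trivial
  obtain ⟨c, hc⟩ := (Submodule.mem_span_range_iff_exists_fun B).1 hmem
  let ζ : ι → KaehlerDifferential.ideal A B := fun i =>
    ⟨1 ⊗ₜ z i - z i ⊗ₜ 1, KaehlerDifferential.one_smul_sub_smul_one_mem_ideal A (z i)⟩
  have h2 : KaehlerDifferential.fromIdeal A B
      (⟨y, hy⟩ - ∑ i, (c i ⊗ₜ[A] (1 : B)) • ζ i) = 0 := by
    rw [map_sub, map_sum, ← hc, sub_eq_zero]
    refine Finset.sum_congr rfl fun i _ => ?_
    rw [map_smul, KaehlerDifferential.D_apply]
    have : (c i ⊗ₜ[A] (1 : B)) = algebraMap B (B ⊗[A] B) (c i) := by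
      rw [Algebra.TensorProduct.algebraMap_apply]; rfl
    rw [this, algebraMap_smul]
    rfl
  have h3 : (KaehlerDifferential.ideal A B).toCotangent
      (⟨y, hy⟩ - ∑ i, (c i ⊗ₜ[A] (1 : B)) • ζ i) = 0 := h2
  rw [Ideal.toCotangent_eq_zero] at h3
  have h4 : ((⟨y, hy⟩ - ∑ i, (c i ⊗ₜ[A] (1 : B)) • ζ i : KaehlerDifferential.ideal A B) : B ⊗[A] B) =
      y - ∑ i, (c i ⊗ₜ[A] (1 : B)) * (1 ⊗ₜ z i - z i ⊗ₜ 1) := by
    rw [Submodule.coe_sub, Submodule.coe_sum]
    rfl
  rw [h4] at h3
  have h5 : y = (∑ i, (c i ⊗ₜ[A] (1 : B)) * ((1 : B) ⊗ₜ[A] z i - z i ⊗ₜ[A] (1 : B))) +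
      (y - ∑ i, (c i ⊗ₜ[A] (1 : B)) * ((1 : B) ⊗ₜ[A] z i - z i ⊗ₜ[A] (1 : B))) := by ring
  rw [h5]
  refine Submodule.add_mem_sup ?_ h3
  exact Ideal.sum_mem _ fun i _ => Ideal.mul_mem_left _ _ (Ideal.subset_span ⟨i, rfl⟩)

theorem pow_le_of_mul_le (J : Ideal (B ⊗[A] B)) (j k : ℕ)
    (h1 : Ideal.span (Set.range fun i => (1 : B) ⊗ₜ[A] z i - z i ⊗ₜ[A] (1 : B)) *
      KaehlerDifferential.ideal A B ^ (j + 1) ≤ J)
    (h2 : KaehlerDifferential.ideal A B ^ (k + 1) ≤ J) :
    KaehlerDifferential.ideal A B ^ (j + 2) ≤ J := by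
  have key : ∀ d l, k + 1 ≤ l + d → j + 2 ≤ l → KaehlerDifferential.ideal A B ^ l ≤ J := by
    intro d
    induction d with
    | zero =>
      intro l hl _
      exact (Ideal.pow_le_pow_right (by omega)).trans h2
    | succ d ih =>
      intro l hl hj
      have h3 : KaehlerDifferential.ideal A B ^ (l + 1) ≤ J := ih (l + 1) (by omega) (by omega)
      obtain ⟨l', rfl⟩ : ∃ l', l = l' + 1 := ⟨l - 1, by omega⟩
      rw [pow_succ]
      refine (Ideal.mul_mono_right (ideal_le_span_sup_sq z hz)).trans ?_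
      rw [Ideal.mul_sup]
      refine sup_le ?_ ?_
      · refine (Ideal.mul_mono_left (Ideal.pow_le_pow_right (show j + 1 ≤ l' by omega))).trans ?_
        rw [mul_comm]
        exact h1
      · rw [← pow_add]
        exact h3
  exact key (k + 1) (j + 2) (by omega) le_rfl

variable (Dp : (ι → ℕ) → (B →ₗ[A] B)) (hD : ∀ p, ∃ k : ℕ, IsDiffOpLE A B B B k (Dp p))
  (hDz : ∀ p q : ι → ℕ, Dp p (mono z q) = T z q p)
include hD hDz

theorem commutator_Dp_succ (i : ι) (p : ι → ℕ) :
    commutator A B B B (Dp (p + Pi.single i 1)) (z i) = Dp p := by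
  obtain ⟨k1, hk1⟩ := hD (p + Pi.single i 1)
  obtain ⟨k2, hk2⟩ := hD p
  rw [← sub_eq_zero]
  refine eq_zero_of_monomials z hz (max k1 k2) _ ?_ ?_
  · refine isDiffOpLE_sub _ ?_ (isDiffOpLE_mono (le_max_right _ _) hk2)
    exact isDiffOpLE_mono (le_max_left _ _)
      ((isDiffOpLE_succ_iff k1 _).1 (isDiffOpLE_succ_of_le k1 hk1) (z i))
  · intro r
    rw [LinearMap.sub_apply, commutator_apply, smul_eq_mul, smul_eq_mul, mul_mono, hDz, hDz, hDz,
      T_succ_succ]
    ring

theorem commutator_Dp_zero (i : ι) (p : ι → ℕ) (hp : p i = 0) :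
    commutator A B B B (Dp p) (z i) = 0 := by
  obtain ⟨k1, hk1⟩ := hD p
  refine eq_zero_of_monomials z hz k1 _ ?_ ?_
  · exact (isDiffOpLE_succ_iff k1 _).1 (isDiffOpLE_succ_of_le k1 hk1) (z i)
  · intro r
    rw [commutator_apply, smul_eq_mul, smul_eq_mul, mul_mono, hDz, hDz, T_succ_zero z i r p hp,
      sub_self]

theorem order_le : ∀ (j : ℕ) (p : ι → ℕ), ∑ i, p i = j → IsDiffOpLE A B B B j (Dp p) := by
  intro j
  induction j with
  | zero =>
    intro p hp
    have hp0 : p = 0 := by
      funext i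
      have := (Finset.sum_eq_zero_iff.1 hp) i (Finset.mem_univ i)
      simpa using this
    subst hp0
    obtain ⟨k, hk⟩ := hD 0
    have hid : IsDiffOpLE A B B B 0 (LinearMap.id : B →ₗ[A] B) := fun b m => rfl
    have : Dp 0 - LinearMap.id = 0 := by
      refine eq_zero_of_monomials z hz k _ (isDiffOpLE_sub _ hk (isDiffOpLE_mono (Nat.zero_le k) hid)) ?_
      intro r
      rw [LinearMap.sub_apply, hDz, T_zero_right, LinearMap.id_apply, sub_self]
    rw [sub_eq_zero.1 this]
    exact hid
  | succ j ih =>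
    intro p hp
    obtain ⟨k, hk⟩ := hD p
    rw [isDiffOpLE_iff_pow_le]
    refine pow_le_of_mul_le z hz _ j k ?_ ((isDiffOpLE_iff_pow_le k _).1 hk)
    rw [Ideal.mul_le]
    intro s hs x hx
    induction hs using Submodule.span_induction with
    | mem s hs =>
      obtain ⟨i, rfl⟩ := hs
      change act _ (Dp p) = 0
      rw [mul_comm, act_mul, act_gen]
      by_cases hpi : p i = 0
      · rw [commutator_Dp_zero z hz Dp hD hDz i p hpi, map_zero]
      · have hp' : p = (p - Pi.single i 1) + Pi.single i 1 := by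
          funext l
          by_cases hl : l = i
          · subst hl
            simp only [Pi.add_apply, Pi.sub_apply, Pi.single_eq_same]
            omega
          · simp [Pi.single_eq_of_ne hl]
        have hs' : ∑ l, (p - Pi.single i 1 : ι → ℕ) l = j := by
          have := sum_add_single i (p - Pi.single i 1)
          rw [← hp', hp] at this
          omega
        rw [hp', commutator_Dp_succ z hz Dp hD hDz i]
        exact (isDiffOpLE_iff_pow_le j _).1 (ih _ hs') hx
    | zero => rw [zero_mul]; exact Ideal.zero_mem _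
    | add a b _ _ ha hb => rw [add_mul]; exact add_mem ha hb
    | smul t a _ ha =>
      rw [smul_eq_mul, mul_assoc]
      exact Ideal.mul_mem_left _ _ ha

end order


theorem isDiffOpLE_sum {κ : Type*} (s : Finset κ) (k : ℕ) (E : κ → (B →ₗ[A] B))
    (h : ∀ i ∈ s, IsDiffOpLE A B B B k (E i)) : IsDiffOpLE A B B B k (∑ i ∈ s, E i) := by
  classical
  induction s using Finset.induction_on with
  | empty => rw [Finset.sum_empty]; exact isDiffOpLE_zero_map k
  | insert a s ha ih =>
    rw [Finset.sum_insert ha]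
    exact isDiffOpLE_add k (h a (Finset.mem_insert_self a s))
      (ih fun i hi => h i (Finset.mem_insert_of_mem hi))

instance finite_sub (m : ℕ) : Finite {p : ι → ℕ // ∑ i, p i ≤ m} := by
  have hle : ∀ (p : {p : ι → ℕ // ∑ i, p i ≤ m}) (i : ι), p.1 i < m + 1 := by
    intro p i
    have := Finset.single_le_sum (f := p.1) (fun _ _ => Nat.zero_le _) (Finset.mem_univ i)
    have := p.2
    omega
  refine Finite.of_injective
    (fun (p : {p : ι → ℕ // ∑ i, p i ≤ m}) => fun i => (⟨p.1 i, hle p i⟩ : Fin (m + 1))) ?_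
  intro p q hpq
  apply Subtype.ext
  funext i
  have := congrFun hpq i
  exact Fin.mk.inj_iff.1 this

section system

variable (m : ℕ) [Fintype {p : ι → ℕ // ∑ i, p i ≤ m}]

/-- the triangular system. -/
def Phi : Module.End B ({p : ι → ℕ // ∑ i, p i ≤ m} → B) where
  toFun a q := ∑ p, a p * T z q.1 p.1
  map_add' a b := by funext q; simp [add_mul, Finset.sum_add_distrib]
  map_smul' c a := by funext q; simp [Finset.mul_sum, mul_assoc]

theorem Phi_apply (a : {p : ι → ℕ // ∑ i, p i ≤ m} → B) (q : {p : ι → ℕ // ∑ i, p i ≤ m}) :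
    Phi z m a q = ∑ p, a p * T z q.1 p.1 := rfl

theorem Phi_sub_one_pow : ∀ (d : ℕ) (a : {p : ι → ℕ // ∑ i, p i ≤ m} → B)
    (q : {p : ι → ℕ // ∑ i, p i ≤ m}), ∑ i, q.1 i < d → (((Phi z m - 1) ^ d) a) q = 0 := by
  intro d
  induction d with
  | zero => intro a q h; exact absurd h (Nat.not_lt_zero _)
  | succ d ih =>
    intro a q hq
    rw [pow_succ', Module.End.mul_apply]
    have hsub : ∀ a' : {p : ι → ℕ // ∑ i, p i ≤ m} → B,
        (Phi z m - 1) a' q = Phi z m a' q - a' q := fun a' => rfl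
    rw [hsub, Phi_apply, Finset.sum_eq_single q]
    · rw [T_self, mul_one, sub_self]
    · intro p _ hpq
      by_cases hle : ∀ i, p.1 i ≤ q.1 i
      · have hlt : ∑ i, p.1 i < ∑ i, q.1 i := by
          refine Finset.sum_lt_sum (fun i _ => hle i) ?_
          by_contra hcon
          push Not at hcon
          apply hpq
          apply Subtype.ext
          funext i
          exact le_antisymm (hle i) (hcon i (Finset.mem_univ i))
        rw [ih a p (by omega), zero_mul]
      · push Not at hle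
        obtain ⟨i, hi⟩ := hle
        rw [T_eq_zero_of_lt z q.1 p.1 i hi, mul_zero]
    · intro h; exact absurd (Finset.mem_univ q) h

theorem bijective_Phi : Function.Bijective (Phi z m) := by
  have hn : IsNilpotent (Phi z m - 1) := by
    refine ⟨m + 1, ?_⟩
    refine LinearMap.ext fun a => funext fun q => ?_
    exact Phi_sub_one_pow z m (m + 1) a q (Nat.lt_succ_of_le q.2)
  have := hn.isUnit_add_one
  rw [sub_add_cancel] at this
  exact (Module.End.isUnit_iff _).1 this

variable (hz : Submodule.span B (Set.range fun i => KaehlerDifferential.D A B (z i)) = ⊤)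
  (Dp : (ι → ℕ) → (B →ₗ[A] B)) (hord : ∀ p, IsDiffOpLE A B B B (∑ i, p i) (Dp p))
  (hDz : ∀ p q : ι → ℕ, Dp p (mono z q) = T z q p)
include hz hord hDz

theorem existsUnique_fun (D : B →ₗ[A] B) (hD : IsDiffOpLE A B B B m D) :
    ∃! a : {p : ι → ℕ // ∑ i, p i ≤ m} → B, D = ∑ p, a p • Dp p.1 := by
  have hsumOrd : ∀ a : {p : ι → ℕ // ∑ i, p i ≤ m} → B,
      IsDiffOpLE A B B B m (∑ p, a p • Dp p.1) := by
    intro a
    refine isDiffOpLE_sum _ m _ fun p _ => ?_
    exact isDiffOpLE_smul m (a p) _ (isDiffOpLE_mono p.2 (hord p.1))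
  have hev : ∀ (a : {p : ι → ℕ // ∑ i, p i ≤ m} → B) (q : {p : ι → ℕ // ∑ i, p i ≤ m}),
      (∑ p, a p • Dp p.1) (mono z q.1) = Phi z m a q := by
    intro a q
    rw [LinearMap.sum_apply, Phi_apply]
    refine Finset.sum_congr rfl fun p _ => ?_
    rw [LinearMap.smul_apply, hDz, smul_eq_mul]
  have hinj : ∀ E : B →ₗ[A] B, IsDiffOpLE A B B B m E →
      (∀ q : {p : ι → ℕ // ∑ i, p i ≤ m}, E (mono z q.1) = 0) → E = 0 := fun E hE h =>
    eq_zero_of_monomials z hz m E hE
      (vanish_all_of_vanish_low z m E hE (fun q hq => h ⟨q, hq⟩))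
  obtain ⟨a, ha⟩ := (bijective_Phi z m).2 (fun q => D (mono z q.1))
  refine ⟨a, ?_, ?_⟩
  · change D = ∑ p, a p • Dp p.1
    rw [← sub_eq_zero]
    refine hinj _ (isDiffOpLE_sub _ hD (hsumOrd a)) fun q => ?_
    rw [LinearMap.sub_apply, hev, ha, sub_self]
  · intro a' ha'
    change D = ∑ p, a' p • Dp p.1 at ha'
    apply (bijective_Phi z m).1
    funext q
    rw [← hev, ← ha', ha]

end system

theorem existsUnique_finsupp
    (hz : Submodule.span B (Set.range fun i => KaehlerDifferential.D A B (z i)) = ⊤)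
    (Dp : (ι → ℕ) → (B →ₗ[A] B)) (hord : ∀ p, IsDiffOpLE A B B B (∑ i, p i) (Dp p))
    (hDz : ∀ p q : ι → ℕ, Dp p (mono z q) = T z q p)
    (m : ℕ) (D : B →ₗ[A] B) (hD : IsDiffOpLE A B B B m D) :
    ∃! a : {p : ι → ℕ // ∑ i, p i ≤ m} →₀ B, D = a.sum fun p c => c • Dp p.1 := by
  classical
  let _ : Fintype {p : ι → ℕ // ∑ i, p i ≤ m} := Fintype.ofFinite _
  obtain ⟨a, ha, hu⟩ := existsUnique_fun z m hz Dp hord hDz D hD
  change D = ∑ p, a p • Dp p.1 at ha
  refine ⟨Finsupp.equivFunOnFinite.symm a, ?_, ?_⟩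
  · change D = (Finsupp.equivFunOnFinite.symm a).sum _
    rw [Finsupp.sum_fintype (Finsupp.equivFunOnFinite.symm a) (fun p c => c • Dp p.1)
      (fun p => zero_smul _ _)]
    simpa using ha
  · intro a' ha'
    change D = a'.sum _ at ha'
    rw [Finsupp.sum_fintype a' (fun p c => c • Dp p.1) (fun p => zero_smul _ _)] at ha'
    have := hu (fun p => a' p) ha'
    ext p
    simp [← this]

end Groth.Agent.Helper6.DivPow
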