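import Mathlib
import Groth.Agent.Lib.Helper6.DualConv
import Groth.Agent.Lib.Helper6.DualPrim

set_option autoImplicit false
universe u v w

/-!
# Group-like elements from characters of the convolution dual
-/

namespace Groth.Agent.Lib.Helper6.DualGroupLike

open TensorProduct

variable (k : Type u) [Field k] (A : Type v) [CommRing A] [HopfAlgebra k A]
  [FiniteDimensional k A]

/-- a character of the dual algebra is evaluation at a group-like element -/
theorem exists_groupLike_of_algHom (χ : WithConv (A →ₗ[k] k) →ₐ[k] k) :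
    ∃ g : A, IsGroupLikeElem k g ∧ ∀ f : WithConv (A →ₗ[k] k), χ f = f g := by
  obtain ⟨g, hg⟩ := DualConv.exists_eval k A χ.toLinearMap
  have hg' : ∀ f : WithConv (A →ₗ[k] k), χ f = f g := hg
  refine ⟨g, ⟨?_, ?_⟩, hg'⟩
  · have h1 := hg' 1
    rw [map_one, LinearMap.convOne_apply] at h1
    exact h1.symm
  · apply DualConv.eq_of_forall_dual
    intro f f'
    have h3 : LinearMap.mul' k k (TensorProduct.map f f' (CoalgebraStruct.comul (R := k) g)) =
        (WithConv.toConv f * WithConv.toConv f' : WithConv (A →ₗ[k] k)) g := rfl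
    rw [h3, ← hg', map_mul, hg', hg', TensorProduct.map_tmul, LinearMap.mul'_apply]

variable [Coalgebra.IsCocomm k A] [IsAlgClosed k]

/-- If the dual of a finite commutative cocommutative Hopf algebra of dimension `> 1` over an
algebraically closed field is reduced, there is a nontrivial group-like element. -/
theorem exists_groupLike_ne_one (hdual : IsReduced (WithConv (A →ₗ[k] k)))
    (hA : 1 < Module.finrank k A) : ∃ g : A, g ≠ 1 ∧ IsGroupLikeElem k g := by
  classical
  set D := WithConv (A →ₗ[k] k) with hD
  -- a nonzero element of the augmentation ideal of `D`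
  have hninj : ¬ Function.Injective (DualPrim.ev1 k A) := by
    intro hinj
    have h1 := LinearMap.finrank_le_finrank_of_injective
      (f := (DualPrim.ev1 k A).toLinearMap) hinj
    rw [DualPrim.finrank_dual, Module.finrank_self] at h1
    omega
  rw [injective_iff_map_eq_zero] at hninj
  push_neg at hninj
  obtain ⟨f, hf0, hfne⟩ := hninj
  -- a prime not containing it
  have hnil : f ∉ nilradical D := by
    intro h
    exact hfne (IsNilpotent.eq_zero h)
  have hex : ∃ P : Ideal D, P.IsPrime ∧ f ∉ P := by
    by_contra hcon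
    push_neg at hcon
    apply hnil
    rw [nilradical_eq_sInf, Ideal.mem_sInf]
    intro P hP
    exact hcon P hP
  obtain ⟨P, hP, hfP⟩ := hex
  haveI : P.IsPrime := hP
  haveI : Algebra.IsIntegral k (D ⧸ P) := Algebra.IsIntegral.of_finite k (D ⧸ P)
  have hbij : Function.Bijective (algebraMap k (D ⧸ P)) :=
    IsAlgClosed.algebraMap_bijective_of_isIntegral
  let e : k ≃ₐ[k] (D ⧸ P) := AlgEquiv.ofBijective (Algebra.ofId k (D ⧸ P)) hbij
  let χ : D →ₐ[k] k := e.symm.toAlgHom.comp (Ideal.Quotient.mkₐ k P)
  obtain ⟨g, hg, hχ⟩ := exists_groupLike_of_algHom k A χ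
  refine ⟨g, ?_, hg⟩
  intro hg1
  have h1 : χ f = 0 := by
    rw [hχ, hg1]
    exact hf0
  have h2 : Ideal.Quotient.mk P f = 0 := by
    have : e.symm (Ideal.Quotient.mk P f) = 0 := h1
    rw [map_eq_zero_iff _ e.symm.injective] at this
    exact this
  exact hfP (Ideal.Quotient.eq_zero_iff_mem.1 h2)

end Groth.Agent.Lib.Helper6.DualGroupLike
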