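import Mathlib
import Groth.Prelude.Def_RegImm
import Groth.Agent.Lib.Helper2.RegNbhd5

/-!
# Length-exposing variants of helper2's `core_trans` / `exists_trans_presentation` (helper6)

Copies of `Groth.Agent.Helper2.RegNbhd.core_trans` and `exists_trans_presentation`
with the additional conclusion that the spread-out sequence has the same length as the fibre
sequence.
-/

set_option autoImplicit false
universe u

open CategoryTheory CategoryTheory.Limits AlgebraicGeometry TopologicalSpace TensorProduct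

namespace Groth.Agent.Helper6.EffCartFib

open Groth.Agent.Helper2.RegNbhd

section

open RingTheory.Sequence Groth.Agent.Helper16.SliceSeq TensorProduct

variable {R C : Type u} [CommRing R] [CommRing C] [Algebra R C]

/-- **The ring core, transversal form**: spreading a fibrewise regular generating sequence of `J`
to a transversally regular generating sequence on a principal open. -/
theorem core_trans_len [Algebra.FinitePresentation R C]
    (Q : Ideal C) [Q.IsPrime] (L : Type u) [CommRing L] [Algebra C L] [IsLocalization.AtPrime L Q]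
    [Algebra R L] [IsScalarTower R C L] [Module.Flat R L]
    (J : Ideal C) (hJfg : J.FG) (hJQ : J ≤ Q) [Module.Flat R (C ⧸ J)]
    (IX : Ideal L) (hIX : IX = (Q.comap (algebraMap R C)).map (algebraMap R L))
    [IsNoetherianRing (L ⧸ IX)]
    (rs : List (L ⧸ IX)) (hreg : IsWeaklyRegular (L ⧸ IX) rs)
    (hgen : Ideal.ofList rs = (J.map (algebraMap C L)).map (Ideal.Quotient.mk IX)) :
    ∃ h : C, h ∉ Q ∧ ∃ as : List C, (∀ a ∈ as, a ∈ J) ∧ as.length = rs.length ∧
      ∀ (Ch : Type u) [CommRing Ch] [Algebra C Ch] [IsLocalization.Away h Ch] [Algebra R Ch]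
        [IsScalarTower R C Ch],
        RegImm.IsTransRegularSeq R Ch (as.map (algebraMap C Ch)) ∧
          Ideal.ofList (as.map (algebraMap C Ch)) = J.map (algebraMap C Ch) := by
  classical
  haveI : IsLocalRing L := IsLocalization.AtPrime.isLocalRing L Q
  haveI : Module.Flat C L := IsLocalization.flat L Q.primeCompl
  haveI hflatL : Module.Flat R (L ⧸ J.map (algebraMap C L)) := flat_quot_map J L
  obtain ⟨js, hjsmap, hjsmem⟩ := Groth.Agent.S5068.exists_lift L (J.map (algebraMap C L)) IX rs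
    (fun r hr => by
      have : r ∈ Ideal.ofList rs := Ideal.subset_span hr
      rwa [hgen] at this)
  have hjsreg : IsWeaklyRegular (L ⧸ IX) js := by
    rw [← isWeaklyRegular_map_algebraMap_iff (L ⧸ IX) (L ⧸ IX) js]
    have : js.map (algebraMap L (L ⧸ IX)) = rs := hjsmap
    rw [this]
    exact hreg
  have hjsRegOn : RegOn IX js := regOn_of_isWeaklyRegular js IX hjsreg
  obtain ⟨as, hasJ, hF⟩ := exists_lift_units Q L J js hjsmem
  have hasRegOn : RegOn IX (as.map (algebraMap C L)) := regOn_of_forall₂ hF IX hjsRegOn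
  have hof : Ideal.ofList (as.map (algebraMap C L)) = Ideal.ofList js := ofList_eq_of_forall₂ hF
  obtain ⟨g, hgQ, hslice⟩ := trans_slice Q L IX hIX as (fun a ha => hJQ (hasJ a ha))
    (isWeaklyRegular_of_regOn _ IX hasRegOn)
  have hKle : Ideal.ofList (as.map (algebraMap C L)) ≤ J.map (algebraMap C L) := by
    rw [← Ideal.map_ofList]
    exact Ideal.map_mono (Ideal.span_le.mpr hasJ)
  have hIXmap : IX = (Q.comap (algebraMap R C)).map (algebraMap R L) := hIX
  have hJLle : J.map (algebraMap C L) ≤ Ideal.ofList (as.map (algebraMap C L)) := by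
    have hinf := Groth.Agent.S5068.inf_le_mul_of_flat (A := R) (C := L) (J.map (algebraMap C L))
      (Q.comap (algebraMap R C))
    rw [← hIXmap] at hinf
    have hIXjac : IX ≤ Ideal.jacobson ⊥ := by
      rw [IsLocalRing.jacobson_eq_maximalIdeal ⊥ bot_ne_top, hIXmap, Ideal.map_le_iff_le_comap]
      intro r hr
      rw [Ideal.mem_comap, IsScalarTower.algebraMap_apply R C L,
        IsLocalization.AtPrime.to_map_mem_maximal_iff L Q]
      exact hr
    refine Submodule.le_of_le_smul_of_le_jacobson_bot (I := IX) (Ideal.FG.map hJfg _) hIXjac ?_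
    intro x hx
    have h1 : Ideal.Quotient.mk IX x ∈ (Ideal.ofList js).map (Ideal.Quotient.mk IX) := by
      rw [Ideal.map_ofList, hjsmap, hgen]
      exact Ideal.mem_map_of_mem _ hx
    obtain ⟨y, hy, hyx⟩ := (Ideal.mem_map_iff_of_surjective _ Ideal.Quotient.mk_surjective).mp h1
    have h2 : x - y ∈ IX := by
      rw [← Ideal.Quotient.eq, hyx]
    have hy' : y ∈ Ideal.ofList (as.map (algebraMap C L)) := hof ▸ hy
    have h3 : x - y ∈ J.map (algebraMap C L) := Ideal.sub_mem _ hx (hKle hy')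
    have h4 := hinf ⟨h3, h2⟩
    have : x = y + (x - y) := by ring
    rw [this]
    exact Submodule.add_mem_sup hy' h4
  have hK : J.map (algebraMap C L) = (Ideal.ofList as).map (algebraMap C L) := by
    rw [Ideal.map_ofList]
    exact le_antisymm hJLle hKle
  obtain ⟨T, hT⟩ := hJfg
  have hspread : ∀ T' : Finset C, (∀ b ∈ T', b ∈ J) →
      ∃ g' : C, g' ∉ Q ∧ ∀ b ∈ T', g' * b ∈ Ideal.ofList as := by
    intro T'
    induction T' using Finset.induction_on with
    | empty => exact fun _ => ⟨1, (Ideal.ne_top_iff_one Q).mp Ideal.IsPrime.ne_top', by simp⟩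
    | insert b T' _ ih =>
      intro hb
      obtain ⟨g', hg', hg'mem⟩ := ih (fun c hc => hb c (Finset.mem_insert_of_mem hc))
      have hbJ : b ∈ J := hb b (Finset.mem_insert_self b T')
      have h1 : algebraMap C L b ∈ (Ideal.ofList as).map (algebraMap C L) :=
        hK ▸ Ideal.mem_map_of_mem _ hbJ
      obtain ⟨m, hm, hmb⟩ :=
        (IsLocalization.algebraMap_mem_map_algebraMap_iff Q.primeCompl L _ b).mp h1
      refine ⟨m * g', ?_, ?_⟩
      · intro hmem
        rcases Ideal.IsPrime.mem_or_mem inferInstance hmem with h | h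
        · exact hm h
        · exact hg' h
      · intro c hc
        rcases Finset.mem_insert.mp hc with rfl | hc
        · rw [mul_comm m g', mul_assoc]
          exact Ideal.mul_mem_left _ _ hmb
        · rw [mul_assoc]
          exact Ideal.mul_mem_left _ _ (hg'mem c hc)
  obtain ⟨g', hg'Q, hg'⟩ := hspread T (fun b hb => hT ▸ Ideal.subset_span hb)
  refine ⟨g * g', ?_, as, hasJ, ?_, ?_⟩
  · intro hmem
    rcases Ideal.IsPrime.mem_or_mem inferInstance hmem with h | h
    · exact hgQ h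
    · exact hg'Q h
  · have h1 := hF.length_eq
    rw [List.length_map] at h1
    have h2 : (js.map (algebraMap L (L ⧸ IX))).length = rs.length := congrArg List.length hjsmap
    rw [List.length_map] at h2
    omega
  · intro Ch _ _ _ _ _
    refine ⟨hslice g' Ch, ?_⟩
    rw [← Ideal.map_ofList]
    refine le_antisymm (Ideal.map_mono (Ideal.span_le.mpr hasJ)) ?_
    rw [← hT, Ideal.map_span, Ideal.span_le]
    rintro _ ⟨b, hb, rfl⟩
    have hu : IsUnit (algebraMap C Ch g') := by
      have h1 : IsUnit (algebraMap C Ch (g * g')) := IsLocalization.Away.algebraMap_isUnit (g * g')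
      rw [map_mul] at h1
      exact isUnit_of_mul_isUnit_right h1
    have h2 : algebraMap C Ch (g' * b) ∈ (Ideal.ofList as).map (algebraMap C Ch) :=
      Ideal.mem_map_of_mem _ (hg' b hb)
    rw [map_mul] at h2
    exact (Ideal.unit_mul_mem_iff_mem _ hu).mp h2

end

section

open RingTheory.Sequence Groth.Agent.Helper28 Groth.Agent.Helper28.RegBC IsLocalRing
  Groth.Agent.Helper16.FibStalk Groth.Agent.Helper16.FibMod

variable {Z X S : Scheme.{u}}

/-- **transversally regular presentation near a point from the fibre**. -/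
theorem exists_trans_presentation_len (f : X ⟶ S) [Flat f] [LocallyOfFinitePresentation f]
    (i : Z ⟶ X) [Flat (i ≫ f)] (z : Z)
    (U₀ : X.Opens) (hU₀ : IsAffineOpen U₀) (hzU₀ : i z ∈ U₀) [IsClosedImmersion (i ∣_ U₀)]
    (hfg : (RingHom.ker (i.app U₀).hom).FG)
    (rs : List (X.presheaf.stalk (i z) ⧸ fibIdeal f (i z)))
    (hreg : IsWeaklyRegular (X.presheaf.stalk (i z) ⧸ fibIdeal f (i z)) rs)
    (hgen : Ideal.ofList rs =
      (RingHom.ker (i.stalkMap z).hom).map (Ideal.Quotient.mk (fibIdeal f (i z)))) :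
    ∃ (U : X.Opens) (hU : IsAffineOpen U) (V : S.Opens) (hV : IsAffineOpen V)
      (hUV : U ≤ f ⁻¹ᵁ V), i z ∈ U ∧ U ≤ U₀ ∧ IsClosedImmersion (i ∣_ U) ∧ ∃ as : List Γ(X, U), as.length = rs.length ∧
        (letI := (f.appLE V U hUV).hom.toAlgebra
         RegImm.IsTransRegularSeq Γ(S, V) Γ(X, U) as) ∧
        RingHom.ker (i.app U).hom = Ideal.ofList as := by
  haveI := isNoetherianRing_fibre f (i z)
  obtain ⟨_, ⟨V, hV, rfl⟩, hsV, -⟩ := S.isBasis_affineOpens.exists_subset_of_mem_open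
    (Set.mem_univ (f (i z))) isOpen_univ
  obtain ⟨_, ⟨U₁, hU₁, rfl⟩, hzU₁, hU₁le⟩ := X.isBasis_affineOpens.exists_subset_of_mem_open
    (show i z ∈ ((U₀ ⊓ f ⁻¹ᵁ V : X.Opens) : Set X) from ⟨hzU₀, hsV⟩) (U₀ ⊓ f ⁻¹ᵁ V).2
  have hle0 : U₁ ≤ U₀ := fun x hx => (hU₁le hx).1
  have e : U₁ ≤ f ⁻¹ᵁ V := fun x hx => (hU₁le hx).2
  obtain ⟨hcl₁, hker₁⟩ := restrict_ker i U₀ hU₀ U₁ hU₁ hle0
  haveI := hcl₁
  have hfg₁ : (RingHom.ker (i.app U₁).hom).FG := by
    rw [hker₁]
    exact Ideal.FG.map hfg _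
  letI alg : Algebra Γ(S, V) Γ(X, U₁) := (f.appLE V U₁ e).hom.toAlgebra
  haveI : Module.Flat Γ(S, V) Γ(X, U₁) := Flat.flat_appLE f hV hU₁ e
  haveI : Algebra.FinitePresentation Γ(S, V) Γ(X, U₁) :=
    LocallyOfFinitePresentation.finitePresentation_appLE f hV hU₁ e
  letI : Algebra Γ(X, U₁) (X.presheaf.stalk (i z)) := X.presheaf.algebra_section_stalk ⟨i z, hzU₁⟩
  haveI : IsLocalization.AtPrime (X.presheaf.stalk (i z)) (hU₁.primeIdealOf ⟨i z, hzU₁⟩).asIdeal :=
    hU₁.isLocalization_stalk ⟨i z, hzU₁⟩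
  letI : Algebra Γ(S, V) (X.presheaf.stalk (i z)) :=
    ((algebraMap Γ(X, U₁) (X.presheaf.stalk (i z))).comp (algebraMap Γ(S, V) Γ(X, U₁))).toAlgebra
  haveI : IsScalarTower Γ(S, V) Γ(X, U₁) (X.presheaf.stalk (i z)) :=
    IsScalarTower.of_algebraMap_eq (fun _ => rfl)
  haveI : Module.Flat Γ(X, U₁) (X.presheaf.stalk (i z)) :=
    IsLocalization.flat _ (hU₁.primeIdealOf ⟨i z, hzU₁⟩).asIdeal.primeCompl
  haveI : Module.Flat Γ(S, V) (X.presheaf.stalk (i z)) :=
    Module.Flat.trans Γ(S, V) Γ(X, U₁) (X.presheaf.stalk (i z))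
  have hUZ : IsAffineOpen (i ⁻¹ᵁ U₁) := RegImmStalk.isAffineOpen_preimage i U₁ hU₁
  have hsurj : Function.Surjective (i.app U₁).hom := RegImmStalk.app_surjective i U₁ hU₁
  haveI hfl : Module.Flat Γ(S, V) (Γ(X, U₁) ⧸ RingHom.ker (i.app U₁).hom) := by
    apply flat_quot_of_surjective (i.app U₁).hom hsurj _ rfl
    have h1 := (i ≫ f).flat_appLE hV hUZ (show i ⁻¹ᵁ U₁ ≤ (i ≫ f) ⁻¹ᵁ V from fun x hx => e hx)
    have h2 : (i ≫ f).appLE V (i ⁻¹ᵁ U₁) (fun x hx => e hx) = f.appLE V U₁ e ≫ i.app U₁ := by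
      rw [Scheme.Hom.app_eq_appLE, Scheme.Hom.appLE_comp_appLE]
    rw [h2] at h1
    exact h1
  have hkerL : RingHom.ker (i.stalkMap z).hom =
      (RingHom.ker (i.app U₁).hom).map (algebraMap Γ(X, U₁) (X.presheaf.stalk (i z))) :=
    RegImmStalk.ker_stalkMap_of_surjective i z ⟨U₁, hU₁⟩ hzU₁ hUZ hsurj
  have hJQ : RingHom.ker (i.app U₁).hom ≤ (hU₁.primeIdealOf ⟨i z, hzU₁⟩).asIdeal := by
    intro a ha
    rw [← IsLocalization.AtPrime.to_map_mem_maximal_iff (X.presheaf.stalk (i z))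
      (hU₁.primeIdealOf ⟨i z, hzU₁⟩).asIdeal a, mem_maximalIdeal, mem_nonunits_iff]
    intro hu
    have h1 : algebraMap Γ(X, U₁) (X.presheaf.stalk (i z)) a ∈ RingHom.ker (i.stalkMap z).hom := by
      rw [hkerL]
      exact Ideal.mem_map_of_mem _ ha
    have h2 := hu.map (i.stalkMap z).hom
    rw [RingHom.mem_ker.mp h1] at h2
    exact not_isUnit_zero h2
  have hIX : fibIdeal f (i z) =
      ((hU₁.primeIdealOf ⟨i z, hzU₁⟩).asIdeal.comap (algebraMap Γ(S, V) Γ(X, U₁))).map
        (algebraMap Γ(S, V) (X.presheaf.stalk (i z))) := by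
    have h1 := fibIdeal_chart f hU₁ hV e ⟨i z, hzU₁⟩
    rw [Ideal.map_map] at h1
    exact h1
  rw [hkerL] at hgen
  obtain ⟨h, hhQ, as, hasJ, hlen, hcore⟩ := core_trans_len (hU₁.primeIdealOf ⟨i z, hzU₁⟩).asIdeal
    (X.presheaf.stalk (i z)) (RingHom.ker (i.app U₁).hom) hfg₁ hJQ
    (fibIdeal f (i z)) hIX rs hreg hgen
  have hle2 : X.basicOpen h ≤ U₁ := X.basicOpen_le h
  have e2 : X.basicOpen h ≤ f ⁻¹ᵁ V := hle2.trans e
  obtain ⟨hcl₂, hker₂⟩ := restrict_ker i U₁ hU₁ (X.basicOpen h) (hU₁.basicOpen h) hle2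
  refine ⟨X.basicOpen h, hU₁.basicOpen h, V, hV, e2,
    mem_basicOpen_of_notMem hU₁ (i z) hzU₁ h hhQ, hle2.trans hle0, hcl₂,
    as.map (algebraMap Γ(X, U₁) Γ(X, X.basicOpen h)), by rw [List.length_map]; exact hlen, ?_, ?_⟩
  · haveI := hU₁.isLocalization_basicOpen h
    letI : Algebra Γ(S, V) Γ(X, X.basicOpen h) := (f.appLE V (X.basicOpen h) e2).hom.toAlgebra
    haveI : IsScalarTower Γ(S, V) Γ(X, U₁) Γ(X, X.basicOpen h) :=
      IsScalarTower.of_algebraMap_eq (fun r => by
        change (f.appLE V (X.basicOpen h) e2).hom r =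
          (X.presheaf.map (homOfLE hle2).op).hom ((f.appLE V U₁ e).hom r)
        rw [← CommRingCat.comp_apply, Scheme.Hom.appLE_map])
    exact (hcore Γ(X, X.basicOpen h)).1
  · haveI := hU₁.isLocalization_basicOpen h
    letI : Algebra Γ(S, V) Γ(X, X.basicOpen h) := (f.appLE V (X.basicOpen h) e2).hom.toAlgebra
    haveI : IsScalarTower Γ(S, V) Γ(X, U₁) Γ(X, X.basicOpen h) :=
      IsScalarTower.of_algebraMap_eq (fun r => by
        change (f.appLE V (X.basicOpen h) e2).hom r =
          (X.presheaf.map (homOfLE hle2).op).hom ((f.appLE V U₁ e).hom r)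
        rw [← CommRingCat.comp_apply, Scheme.Hom.appLE_map])
    rw [hker₂, (hcore Γ(X, X.basicOpen h)).2]
    rfl

end

end Groth.Agent.Helper6.EffCartFib
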