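import Mathlib
import Groth.Prelude.Def_RegImm
import Groth.Prelude.Def_BlowUp2
import Groth.Agent.Lib.Helper6.EffCartFibA
import Groth.Agent.S8896

/-!
# Effective Cartier ideals from the fibres (helper6)
-/

set_option autoImplicit false
universe u

open CategoryTheory CategoryTheory.Limits AlgebraicGeometry TopologicalSpace TensorProduct

namespace Groth.Agent.Helper6.EffCartFib

open Groth.Agent.Helper2.RegNbhd

section

open RingTheory.Sequence Groth.Agent.Helper28 Groth.Agent.Helper28.RegBC IsLocalRing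
  Groth.Agent.Helper16.FibStalk Groth.Agent.Helper16.FibMod nonZeroDivisors

variable {X S : Scheme.{u}}

theorem isSMulRegular_of_mem {A : Type*} [CommRing A] {a : A} (ha : a ∈ A⁰) :
    IsSMulRegular A a := by
  apply IsSMulRegular.of_right_eq_zero_of_smul
  intro m hm
  rw [smul_eq_mul, mul_comm] at hm
  exact mem_nonZeroDivisors_iff_right.mp ha m hm

theorem mem_of_isSMulRegular {A : Type*} [CommRing A] {a : A} (ha : IsSMulRegular A a) :
    a ∈ A⁰ := by
  rw [mem_nonZeroDivisors_iff_right]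
  intro z hz
  apply ha.right_eq_zero_of_smul
  rw [smul_eq_mul, mul_comm]
  exact hz

theorem isWeaklyRegular_singleton {A : Type*} [CommRing A] {a : A} (ha : a ∈ A⁰) :
    IsWeaklyRegular A [a] := by
  rw [isWeaklyRegular_cons_iff]
  exact ⟨isSMulRegular_of_mem ha, IsWeaklyRegular.nil _ _⟩

theorem mem_of_isWeaklyRegular_singleton {A : Type*} [CommRing A] {a : A}
    (ha : IsWeaklyRegular A [a]) : a ∈ A⁰ := by
  rw [isWeaklyRegular_cons_iff] at ha
  exact mem_of_isSMulRegular ha.1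

/-- two generators of the same principal ideal, one of which is a nonzerodivisor. -/
theorem mem_nzd_of_span_eq {A : Type*} [CommRing A] {r m : A} (hr : r ∈ A⁰)
    (h : Ideal.span {r} = Ideal.span {m}) : m ∈ A⁰ := by
  have h1 : m ∈ Ideal.span {r} := h ▸ Ideal.subset_span rfl
  have h2 : r ∈ Ideal.span {m} := h ▸ Ideal.subset_span rfl
  obtain ⟨c, hc⟩ := Ideal.mem_span_singleton'.mp h1
  obtain ⟨d, hd⟩ := Ideal.mem_span_singleton'.mp h2
  -- hc : c * r = m, hd : d * m = r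
  have h3 : (d * c - 1) * r = 0 := by
    rw [sub_mul, one_mul, mul_assoc, hc, hd, sub_self]
  have h4 : d * c - 1 = 0 := mem_nonZeroDivisors_iff_right.mp hr _ h3
  have hcu : IsUnit c := .of_mul_eq_one d (by rw [mul_comm]; exact sub_eq_zero.mp h4)
  rw [← hc]
  exact mul_mem hcu.mem_nonZeroDivisors hr

theorem ker_snd_eq_comap {Y : Scheme.{u}} (𝓘 : X.IdealSheafData) (g : Y ⟶ X) :
    (pullback.snd 𝓘.subschemeι g).ker = 𝓘.comap g := by
  have h : (pullbackSymmetry 𝓘.subschemeι g).hom ≫ pullback.fst g 𝓘.subschemeι =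
      pullback.snd 𝓘.subschemeι g := pullbackSymmetry_hom_comp_fst _ _
  rw [← h, Scheme.Hom.ker_comp_of_isIso]
  rfl

/-- Away from the support an ideal sheaf is locally the unit ideal. -/
theorem exists_of_notMem_support (𝓘 : X.IdealSheafData) (x : X) (hx : x ∉ 𝓘.support) :
    ∃ U : X.affineOpens, x ∈ U.1 ∧
      ∃ f : Γ(X, U.1), f ∈ nonZeroDivisors Γ(X, U.1) ∧ 𝓘.ideal U = Ideal.span {f} := by
  obtain ⟨_, ⟨U₀, hU₀, rfl⟩, hxU₀, -⟩ := X.isBasis_affineOpens.exists_subset_of_mem_open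
    (Set.mem_univ x) isOpen_univ
  have h1 : x ∉ X.zeroLocus (U := U₀) (𝓘.ideal ⟨U₀, hU₀⟩) := fun h =>
    hx ((Scheme.IdealSheafData.mem_support_iff_of_mem (U := ⟨U₀, hU₀⟩) hxU₀).mpr h)
  rw [Scheme.mem_zeroLocus_iff] at h1
  push Not at h1
  obtain ⟨a, ha, hxa⟩ := h1
  refine ⟨X.affineBasicOpen (U := ⟨U₀, hU₀⟩) a, hxa, 1, one_mem _, ?_⟩
  rw [Ideal.span_singleton_one, ← 𝓘.map_ideal_basicOpen ⟨U₀, hU₀⟩ a]
  refine Ideal.eq_top_of_isUnit_mem _ (Ideal.mem_map_of_mem _ ha) ?_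
  exact X.toLocallyRingedSpace.toRingedSpace.isUnit_res_basicOpen a

/-- the fibrewise generator at a point of the closed subscheme. -/
theorem fibre_gen (φ : X ⟶ S) (𝓘 : X.IdealSheafData) (s : S)
    (ts : ↥(pullback 𝓘.subschemeι (φ.fiberι s)))
    (hx : φ.fiberι s (pullback.snd 𝓘.subschemeι (φ.fiberι s) ts) =
      𝓘.subschemeι (pullback.fst 𝓘.subschemeι (φ.fiberι s) ts))
    (hfib : BlowUp.IsEffCartierIdeal (𝓘.comap (φ.fiberι s))) :
    ∃ r : X.presheaf.stalk (𝓘.subschemeι (pullback.fst 𝓘.subschemeι (φ.fiberι s) ts)) ⧸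
        fibIdeal φ (𝓘.subschemeι (pullback.fst 𝓘.subschemeι (φ.fiberι s) ts)),
      r ∈ nonZeroDivisors _ ∧ Ideal.span {r} =
        (RingHom.ker (𝓘.subschemeι.stalkMap
          (pullback.fst 𝓘.subschemeι (φ.fiberι s) ts)).hom).map
          (Ideal.Quotient.mk (fibIdeal φ
            (𝓘.subschemeι (pullback.fst 𝓘.subschemeι (φ.fiberι s) ts)))) := by
  obtain ⟨U', hwU', f', hf', hU'eq⟩ := hfib (pullback.snd 𝓘.subschemeι (φ.fiberι s) ts)
  have hker : RingHom.ker ((pullback.snd 𝓘.subschemeι (φ.fiberι s)).stalkMap ts).hom =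
      Ideal.span {((φ.fiber s).presheaf.germ U'.1
        (pullback.snd 𝓘.subschemeι (φ.fiberι s) ts) hwU').hom f'} := by
    rw [Groth.Agent.Helper3.RegImm2.ker_stalkMap_closedImmersion
      (pullback.snd 𝓘.subschemeι (φ.fiberι s)) ts U' hwU', ker_snd_eq_comap, hU'eq,
      Ideal.map_span, Set.image_singleton]
  have hreg : ((φ.fiber s).presheaf.germ U'.1
      (pullback.snd 𝓘.subschemeι (φ.fiberι s) ts) hwU').hom f' ∈
      nonZeroDivisors ((φ.fiber s).presheaf.stalk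
        (pullback.snd 𝓘.subschemeι (φ.fiberι s) ts)) := by
    letI := (φ.fiber s).presheaf.algebra_section_stalk (U := U'.1)
      ⟨pullback.snd 𝓘.subschemeι (φ.fiberι s) ts, hwU'⟩
    haveI := U'.2.isLocalization_stalk ⟨pullback.snd 𝓘.subschemeι (φ.fiberι s) ts, hwU'⟩
    exact IsLocalization.map_nonZeroDivisors_le
      (U'.2.primeIdealOf ⟨pullback.snd 𝓘.subschemeι (φ.fiberι s) ts, hwU'⟩).asIdeal.primeCompl _
      (Submonoid.mem_map_of_mem _ hf')
  obtain ⟨E, hE⟩ : ∃ E, E = quotEquivStalkFiberOfEq φ s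
      (pullback.snd 𝓘.subschemeι (φ.fiberι s) ts)
      (𝓘.subschemeι (pullback.fst 𝓘.subschemeι (φ.fiberι s) ts)) hx := ⟨_, rfl⟩
  refine ⟨E.symm (((φ.fiber s).presheaf.germ U'.1
      (pullback.snd 𝓘.subschemeι (φ.fiberι s) ts) hwU').hom f'), ?_, ?_⟩
  · apply mem_nonZeroDivisors_of_injective (f := E) E.injective
    rw [E.apply_symm_apply]
    exact hreg
  · have h1 := Groth.Agent.S8896.ker_fibre_stalk φ 𝓘.subschemeι s ts hx
    rw [hker, ← hE] at h1
    have h2 := congrArg (Ideal.map (RingEquiv.toRingHom E.symm)) h1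
    rw [Ideal.map_map, Ideal.map_span, Set.image_singleton] at h2
    have h3 : (RingEquiv.toRingHom E.symm).comp ((E : _ →+* _).comp (Ideal.Quotient.mk (fibIdeal φ
        (𝓘.subschemeι (pullback.fst 𝓘.subschemeι (φ.fiberι s) ts))))) =
        Ideal.Quotient.mk (fibIdeal φ
          (𝓘.subschemeι (pullback.fst 𝓘.subschemeι (φ.fiberι s) ts))) := by
      ext a
      simp
    rw [h3] at h2
    exact h2.symm

/-- S8847 at a point of the closed subscheme. -/
theorem aux8847 (φ : X ⟶ S) [Flat φ] [LocallyOfFinitePresentation φ]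
    (𝓘 : X.IdealSheafData) [Flat (𝓘.subschemeι ≫ φ)]
    [LocallyOfFinitePresentation (𝓘.subschemeι ≫ φ)] (s : S)
    (ts : ↥(pullback 𝓘.subschemeι (φ.fiberι s)))
    (hfib : BlowUp.IsEffCartierIdeal (𝓘.comap (φ.fiberι s))) :
    ∃ U : X.affineOpens, 𝓘.subschemeι (pullback.fst 𝓘.subschemeι (φ.fiberι s) ts) ∈ U.1 ∧
      ∃ f : Γ(X, U.1), f ∈ nonZeroDivisors Γ(X, U.1) ∧ 𝓘.ideal U = Ideal.span {f} := by
  have hx : φ.fiberι s (pullback.snd 𝓘.subschemeι (φ.fiberι s) ts) =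
      𝓘.subschemeι (pullback.fst 𝓘.subschemeι (φ.fiberι s) ts) := by
    have := congrArg (fun t : pullback 𝓘.subschemeι (φ.fiberι s) ⟶ X => t ts)
      (pullback.condition (f := 𝓘.subschemeι) (g := φ.fiberι s))
    simpa using this.symm
  obtain ⟨r, hr, hgen⟩ := fibre_gen φ 𝓘 s ts hx hfib
  obtain ⟨_, ⟨V, hV, rfl⟩, hsV, -⟩ := S.isBasis_affineOpens.exists_subset_of_mem_open
    (Set.mem_univ (φ (𝓘.subschemeι (pullback.fst 𝓘.subschemeι (φ.fiberι s) ts)))) isOpen_univ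
  obtain ⟨_, ⟨U₀, hU₀, rfl⟩, hzU₀, hU₀V⟩ := X.isBasis_affineOpens.exists_subset_of_mem_open
    (show 𝓘.subschemeι (pullback.fst 𝓘.subschemeι (φ.fiberι s) ts) ∈
      ((φ ⁻¹ᵁ V : X.Opens) : Set X) from hsV) (φ ⁻¹ᵁ V).2
  haveI : IsClosedImmersion (𝓘.subschemeι ∣_ U₀) := IsZariskiLocalAtTarget.restrict (inferInstance : IsClosedImmersion 𝓘.subschemeι) U₀
  have hfg := Groth.Agent.S8896.ker_fg φ 𝓘.subschemeι U₀ hU₀ V hV hU₀V
  haveI := isNoetherianRing_fibre φ
    (𝓘.subschemeι (pullback.fst 𝓘.subschemeι (φ.fiberι s) ts))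
  obtain ⟨U, hU, V', hV', hUV, hzU, -, hcl, as, hlen, has, hker⟩ :=
    exists_trans_presentation_len φ 𝓘.subschemeι (pullback.fst 𝓘.subschemeι (φ.fiberι s) ts)
      U₀ hU₀ hzU₀ hfg [r] (isWeaklyRegular_singleton hr)
      (by rw [Ideal.ofList_singleton]; exact hgen)
  obtain ⟨a, rfl⟩ := List.length_eq_one_iff.mp hlen
  refine ⟨⟨U, hU⟩, hzU, a, mem_of_isWeaklyRegular_singleton has.1, ?_⟩
  rw [← 𝓘.ker_subschemeι_app ⟨U, hU⟩, hker, Ideal.ofList_singleton]

end

end Groth.Agent.Helper6.EffCartFib
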