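import Mathlib
import Groth.Prelude.Def_RegImm
import Groth.Prelude.Def_BlowUp2
import Groth.Prelude.Def_CurvBase
import Groth.Agent.Lib.Helper6.EffCartFibB

/-!
# Locally principal ideals which are fibrewise effective Cartier (helper6)
-/

set_option autoImplicit false
universe u

open CategoryTheory CategoryTheory.Limits AlgebraicGeometry TopologicalSpace TensorProduct

namespace Groth.Agent.Helper6.EffCartFib

open Groth.Agent.Helper2.RegNbhd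

section

open RingTheory.Sequence Groth.Agent.Helper28 Groth.Agent.Helper28.RegBC IsLocalRing
  Groth.Agent.Helper16.FibStalk Groth.Agent.Helper16.FibMod nonZeroDivisors
  Groth.Agent.Helper16.SliceSeq

variable {X S : Scheme.{u}}

/-- the fibrewise generator property at a point of the closed subscheme -/
def GenProp (φ : X ⟶ S) (𝓘 : X.IdealSheafData) (p : 𝓘.subscheme) : Prop :=
  ∃ r : X.presheaf.stalk (𝓘.subschemeι p) ⧸ fibIdeal φ (𝓘.subschemeι p),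
    r ∈ nonZeroDivisors _ ∧ Ideal.span {r} =
      (RingHom.ker (𝓘.subschemeι.stalkMap p).hom).map
        (Ideal.Quotient.mk (fibIdeal φ (𝓘.subschemeι p)))

theorem genProp_of_fibres (φ : X ⟶ S) (𝓘 : X.IdealSheafData)
    (hfib : ∀ s : ↥S, BlowUp.IsEffCartierIdeal (𝓘.comap (φ.fiberι s))) (z : 𝓘.subscheme) :
    GenProp φ 𝓘 z := by
  obtain ⟨ts, h1, -⟩ := Scheme.Pullback.exists_preimage_pullback
    (f := 𝓘.subschemeι) (g := φ.fiberι (φ (𝓘.subschemeι z))) z (φ.asFiber (𝓘.subschemeι z))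
    (φ.fiberι_asFiber (𝓘.subschemeι z)).symm
  have hx : φ.fiberι (φ (𝓘.subschemeι z))
      (pullback.snd 𝓘.subschemeι (φ.fiberι (φ (𝓘.subschemeι z))) ts) =
      𝓘.subschemeι (pullback.fst 𝓘.subschemeι (φ.fiberι (φ (𝓘.subschemeι z))) ts) := by
    have := congrArg (fun t : pullback 𝓘.subschemeι (φ.fiberι (φ (𝓘.subschemeι z))) ⟶ X => t ts)
      (pullback.condition (f := 𝓘.subschemeι) (g := φ.fiberι (φ (𝓘.subschemeι z))))
    simpa using this.symm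
  have h2 : GenProp φ 𝓘 (pullback.fst 𝓘.subschemeι (φ.fiberι (φ (𝓘.subschemeι z))) ts) :=
    fibre_gen φ 𝓘 (φ (𝓘.subschemeι z)) ts hx (hfib _)
  exact h1 ▸ h2

/-- S8848 at a point of the closed subscheme. -/
theorem aux8848 (φ : X ⟶ S) [Flat φ] [LocallyOfFinitePresentation φ]
    (𝓘 : X.IdealSheafData) (z : 𝓘.subscheme) (hgp : GenProp φ 𝓘 z)
    (U₀ : X.affineOpens) (hxU₀ : 𝓘.subschemeι z ∈ U₀.1)
    (f₀ : Γ(X, U₀.1)) (hf₀ : 𝓘.ideal U₀ = Ideal.span {f₀}) :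
    ∃ (U : X.Opens) (hU : IsAffineOpen U) (V : S.Opens) (hV : IsAffineOpen V)
      (hUV : U ≤ φ ⁻¹ᵁ V), 𝓘.subschemeι z ∈ U ∧
      ∃ a : Γ(X, U), a ∈ nonZeroDivisors Γ(X, U) ∧ 𝓘.ideal ⟨U, hU⟩ = Ideal.span {a} ∧
        (letI := (φ.appLE V U hUV).hom.toAlgebra
         Module.Flat Γ(S, V) (Γ(X, U) ⧸ Ideal.span {a})) := by
  obtain ⟨r, hr, hgen⟩ := hgp
  obtain ⟨_, ⟨V, hV, rfl⟩, hsV, -⟩ := S.isBasis_affineOpens.exists_subset_of_mem_open
    (Set.mem_univ (φ (𝓘.subschemeι z))) isOpen_univ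
  obtain ⟨_, ⟨U₁, hU₁, rfl⟩, hzU₁, hU₁le⟩ := X.isBasis_affineOpens.exists_subset_of_mem_open
    (show 𝓘.subschemeι z ∈ ((U₀.1 ⊓ φ ⁻¹ᵁ V : X.Opens) : Set X) from ⟨hxU₀, hsV⟩)
    (U₀.1 ⊓ φ ⁻¹ᵁ V).2
  have hle0 : U₁ ≤ U₀.1 := fun x hx => (hU₁le hx).1
  have e : U₁ ≤ φ ⁻¹ᵁ V := fun x hx => (hU₁le hx).2
  obtain ⟨f₁, hf₁⟩ : ∃ f₁ : Γ(X, U₁), f₁ = (X.presheaf.map (homOfLE hle0).op).hom f₀ := ⟨_, rfl⟩
  have hI₁ : 𝓘.ideal ⟨U₁, hU₁⟩ = Ideal.span {f₁} := by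
    rw [← 𝓘.map_ideal (U := ⟨U₁, hU₁⟩) (V := U₀) hle0, hf₀, Ideal.map_span, Set.image_singleton,
      hf₁]
    rfl
  letI alg : Algebra Γ(S, V) Γ(X, U₁) := (φ.appLE V U₁ e).hom.toAlgebra
  haveI : Module.Flat Γ(S, V) Γ(X, U₁) := Flat.flat_appLE φ hV hU₁ e
  haveI : Algebra.FinitePresentation Γ(S, V) Γ(X, U₁) :=
    LocallyOfFinitePresentation.finitePresentation_appLE φ hV hU₁ e
  letI : Algebra Γ(X, U₁) (X.presheaf.stalk (𝓘.subschemeι z)) :=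
    X.presheaf.algebra_section_stalk ⟨𝓘.subschemeι z, hzU₁⟩
  haveI : IsLocalization.AtPrime (X.presheaf.stalk (𝓘.subschemeι z))
      (hU₁.primeIdealOf ⟨𝓘.subschemeι z, hzU₁⟩).asIdeal :=
    hU₁.isLocalization_stalk ⟨𝓘.subschemeι z, hzU₁⟩
  letI : Algebra Γ(S, V) (X.presheaf.stalk (𝓘.subschemeι z)) :=
    ((algebraMap Γ(X, U₁) (X.presheaf.stalk (𝓘.subschemeι z))).comp
      (algebraMap Γ(S, V) Γ(X, U₁))).toAlgebra
  haveI : IsScalarTower Γ(S, V) Γ(X, U₁) (X.presheaf.stalk (𝓘.subschemeι z)) :=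
    IsScalarTower.of_algebraMap_eq (fun _ => rfl)
  haveI : Module.Flat Γ(X, U₁) (X.presheaf.stalk (𝓘.subschemeι z)) :=
    IsLocalization.flat _ (hU₁.primeIdealOf ⟨𝓘.subschemeι z, hzU₁⟩).asIdeal.primeCompl
  haveI : Module.Flat Γ(S, V) (X.presheaf.stalk (𝓘.subschemeι z)) :=
    Module.Flat.trans Γ(S, V) Γ(X, U₁) (X.presheaf.stalk (𝓘.subschemeι z))
  haveI := isNoetherianRing_fibre φ (𝓘.subschemeι z)
  have hkerL : RingHom.ker (𝓘.subschemeι.stalkMap z).hom =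
      Ideal.span {algebraMap Γ(X, U₁) (X.presheaf.stalk (𝓘.subschemeι z)) f₁} := by
    rw [Groth.Agent.Helper3.RegImm2.ker_stalkMap_closedImmersion 𝓘.subschemeι z ⟨U₁, hU₁⟩ hzU₁,
      𝓘.ker_subschemeι, hI₁, Ideal.map_span, Set.image_singleton]
    rfl
  have hf₁Q : f₁ ∈ (hU₁.primeIdealOf ⟨𝓘.subschemeι z, hzU₁⟩).asIdeal := by
    rw [← IsLocalization.AtPrime.to_map_mem_maximal_iff (X.presheaf.stalk (𝓘.subschemeι z))
      (hU₁.primeIdealOf ⟨𝓘.subschemeι z, hzU₁⟩).asIdeal f₁, mem_maximalIdeal, mem_nonunits_iff]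
    intro hu
    have h1 : algebraMap Γ(X, U₁) (X.presheaf.stalk (𝓘.subschemeι z)) f₁ ∈
        RingHom.ker (𝓘.subschemeι.stalkMap z).hom := by
      rw [hkerL]
      exact Ideal.subset_span rfl
    have h2 := hu.map (𝓘.subschemeι.stalkMap z).hom
    rw [RingHom.mem_ker.mp h1] at h2
    exact not_isUnit_zero h2
  have hm : Ideal.Quotient.mk (fibIdeal φ (𝓘.subschemeι z))
      (algebraMap Γ(X, U₁) (X.presheaf.stalk (𝓘.subschemeι z)) f₁) ∈ nonZeroDivisors _ := by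
    apply mem_nzd_of_span_eq hr
    rw [hgen, hkerL, Ideal.map_span, Set.image_singleton]
  have hreg : IsWeaklyRegular (X.presheaf.stalk (𝓘.subschemeι z) ⧸ fibIdeal φ (𝓘.subschemeι z))
      ([f₁].map (algebraMap Γ(X, U₁) (X.presheaf.stalk (𝓘.subschemeι z)))) := by
    apply isWeaklyRegular_of_regOn
    refine ⟨fun x hx => ?_, trivial⟩
    rw [← Ideal.Quotient.eq_zero_iff_mem] at hx ⊢
    rw [map_mul, mul_comm] at hx
    exact mem_nonZeroDivisors_iff_right.mp hm _ hx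
  have hIX : fibIdeal φ (𝓘.subschemeι z) =
      ((hU₁.primeIdealOf ⟨𝓘.subschemeι z, hzU₁⟩).asIdeal.comap
        (algebraMap Γ(S, V) Γ(X, U₁))).map
        (algebraMap Γ(S, V) (X.presheaf.stalk (𝓘.subschemeι z))) := by
    have h1 := fibIdeal_chart φ hU₁ hV e ⟨𝓘.subschemeι z, hzU₁⟩
    rw [Ideal.map_map] at h1
    exact h1
  obtain ⟨g, hgQ, hslice⟩ := trans_slice (hU₁.primeIdealOf ⟨𝓘.subschemeι z, hzU₁⟩).asIdeal
    (X.presheaf.stalk (𝓘.subschemeι z)) (fibIdeal φ (𝓘.subschemeι z)) hIX [f₁]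
    (fun a ha => by rw [List.mem_singleton] at ha; rw [ha]; exact hf₁Q) hreg
  have hle2 : X.basicOpen g ≤ U₁ := X.basicOpen_le g
  have e2 : X.basicOpen g ≤ φ ⁻¹ᵁ V := hle2.trans e
  haveI hloc : IsLocalization.Away (g * 1) Γ(X, X.basicOpen g) := by
    rw [mul_one]
    exact hU₁.isLocalization_basicOpen g
  letI : Algebra Γ(S, V) Γ(X, X.basicOpen g) := (φ.appLE V (X.basicOpen g) e2).hom.toAlgebra
  haveI : IsScalarTower Γ(S, V) Γ(X, U₁) Γ(X, X.basicOpen g) :=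
    IsScalarTower.of_algebraMap_eq (fun r => by
      change (φ.appLE V (X.basicOpen g) e2).hom r =
        (X.presheaf.map (homOfLE hle2).op).hom ((φ.appLE V U₁ e).hom r)
      rw [← CommRingCat.comp_apply, Scheme.Hom.appLE_map])
  have hT := hslice 1 Γ(X, X.basicOpen g)
  refine ⟨X.basicOpen g, hU₁.basicOpen g, V, hV, e2,
    mem_basicOpen_of_notMem hU₁ (𝓘.subschemeι z) hzU₁ g hgQ,
    algebraMap Γ(X, U₁) Γ(X, X.basicOpen g) f₁, mem_of_isWeaklyRegular_singleton hT.1, ?_, ?_⟩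
  · have h5 := 𝓘.map_ideal_basicOpen ⟨U₁, hU₁⟩ g
    rw [hI₁, Ideal.map_span, Set.image_singleton] at h5
    exact h5.symm
  · have h6 := hT.2 1 (by simp)
    rw [show (([f₁].map (algebraMap Γ(X, U₁) Γ(X, X.basicOpen g))).take 1) =
      [algebraMap Γ(X, U₁) Γ(X, X.basicOpen g) f₁] from rfl, Ideal.ofList_singleton] at h6
    exact h6

theorem main8848 (φ : X ⟶ S) [Flat φ] [LocallyOfFinitePresentation φ]
    (𝓘 : X.IdealSheafData) (hZ : Curv2.IsLocPrincipal 𝓘)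
    (hfib : ∀ s : ↥S, BlowUp.IsEffCartierIdeal (𝓘.comap (φ.fiberι s))) :
    BlowUp.IsEffCartierIdeal 𝓘 ∧ Flat (𝓘.subschemeι ≫ φ) := by
  have key : ∀ z : 𝓘.subscheme, ∃ (U : X.Opens) (hU : IsAffineOpen U) (V : S.Opens)
      (hV : IsAffineOpen V) (hUV : U ≤ φ ⁻¹ᵁ V), 𝓘.subschemeι z ∈ U ∧
      ∃ a : Γ(X, U), a ∈ nonZeroDivisors Γ(X, U) ∧ 𝓘.ideal ⟨U, hU⟩ = Ideal.span {a} ∧
        (letI := (φ.appLE V U hUV).hom.toAlgebra
         Module.Flat Γ(S, V) (Γ(X, U) ⧸ Ideal.span {a})) := by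
    intro z
    have hzs : 𝓘.subschemeι z ∈ 𝓘.support := by
      rw [← SetLike.mem_coe, ← 𝓘.range_subschemeι]
      exact ⟨z, rfl⟩
    obtain ⟨U₀, hxU₀, f₀, hf₀⟩ := hZ (𝓘.subschemeι z) hzs
    exact aux8848 φ 𝓘 z (genProp_of_fibres φ 𝓘 hfib z) U₀ hxU₀ f₀ hf₀
  constructor
  · intro x
    by_cases hxs : x ∈ 𝓘.support
    · have hxr : x ∈ Set.range 𝓘.subschemeι := by
        rw [𝓘.range_subschemeι]
        exact hxs
      obtain ⟨z, rfl⟩ := hxr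
      obtain ⟨U, hU, V, hV, hUV, hzU, a, ha, hI, -⟩ := key z
      exact ⟨⟨U, hU⟩, hzU, a, ha, hI⟩
    · exact exists_of_notMem_support 𝓘 x hxs
  · have hQ : RingHom.StableUnderCompositionWithLocalizationAwaySource RingHom.Flat := by
      intro R S T _ _ _ _ r _ f hf
      exact RingHom.Flat.comp (RingHom.Flat.holdsForLocalizationAway S r) hf
    rw [HasRingHomProperty.iff_exists_appLE (P := @Flat) hQ]
    intro z
    obtain ⟨U, hU, V, hV, hUV, hzU, a, ha, hI, hflat⟩ := key z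
    have hU' : IsAffineOpen (𝓘.subschemeι ⁻¹ᵁ U) := hU.preimage 𝓘.subschemeι
    have e' : 𝓘.subschemeι ⁻¹ᵁ U ≤ (𝓘.subschemeι ≫ φ) ⁻¹ᵁ V := fun y hy => hUV hy
    refine ⟨⟨V, hV⟩, ⟨𝓘.subschemeι ⁻¹ᵁ U, hU'⟩, hzU, e', ?_⟩
    have h2 : (𝓘.subschemeι ≫ φ).appLE V (𝓘.subschemeι ⁻¹ᵁ U) e' =
        φ.appLE V U hUV ≫ 𝓘.subschemeι.app U := by
      rw [Scheme.Hom.app_eq_appLE, Scheme.Hom.appLE_comp_appLE]
    rw [h2, CommRingCat.hom_comp]
    letI := (φ.appLE V U hUV).hom.toAlgebra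
    have hker : RingHom.ker (𝓘.subschemeι.app U).hom = Ideal.span {a} :=
      (𝓘.ker_subschemeι_app ⟨U, hU⟩).trans hI
    haveI : IsClosedImmersion (𝓘.subschemeι ∣_ U) :=
      IsZariskiLocalAtTarget.restrict (inferInstance : IsClosedImmersion 𝓘.subschemeι) U
    have hsurj : Function.Surjective (𝓘.subschemeι.app U).hom :=
      RegImmStalk.app_surjective 𝓘.subschemeι U hU
    have hflat' : Module.Flat Γ(S, V) (Γ(X, U) ⧸ RingHom.ker (𝓘.subschemeι.app U).hom) :=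
      hker ▸ hflat
    have h3 : (algebraMap Γ(S, V) (Γ(X, U) ⧸ RingHom.ker (𝓘.subschemeι.app U).hom)).Flat :=
      RingHom.flat_algebraMap_iff.mpr hflat'
    have h4 : (𝓘.subschemeι.app U).hom.comp (φ.appLE V U hUV).hom =
        (RingHom.quotientKerEquivOfSurjective hsurj).toRingHom.comp
          (algebraMap Γ(S, V) (Γ(X, U) ⧸ RingHom.ker (𝓘.subschemeι.app U).hom)) := by
      ext r
      rfl
    rw [h4]
    exact RingHom.Flat.comp h3
      (RingHom.Flat.of_bijective (RingHom.quotientKerEquivOfSurjective hsurj).bijective)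

end

end Groth.Agent.Helper6.EffCartFib
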