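import Groth.Prelude.Def_EtGlue
import Groth.Agent.Lib.Helper21.TorSymm
import Groth.Agent.Lib.Helper6.TorNat

/-!
# Tor computations for glueing pairs (Beauville–Laszlo)
-/

set_option autoImplicit false

open CategoryTheory Limits MonoidalCategory TensorProduct
open Groth.Agent.Helper18.TorLib

namespace Groth.Agent.Helper6.EtGlueTor

universe u
variable {R R' : Type u} [CommRing R] [CommRing R'] [Algebra R R'] (f : R)

/-- consequence of surjectivity of `R/f^n → R'/f^nR'`. -/
theorem exists_eq_add (h : EtGlue.QuotPowBijective R R' f) (n : ℕ) (r' : R') :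
    ∃ (r : R) (s' : R'), r' = algebraMap R R' r + algebraMap R R' (f ^ n) * s' := by
  have hb := h (n + 1) (Nat.succ_pos n)
  obtain ⟨x, hx⟩ := hb.2 (Ideal.Quotient.mk _ r')
  obtain ⟨r, rfl⟩ := Ideal.Quotient.mk_surjective x
  rw [Ideal.quotientMap_mk, Ideal.Quotient.eq, Ideal.map_span, Set.image_singleton,
    Ideal.mem_span_singleton'] at hx
  obtain ⟨s', hs'⟩ := hx
  refine ⟨r, -(s' * algebraMap R R' f), ?_⟩
  have : algebraMap R R' (f ^ (n + 1)) = algebraMap R R' (f ^ n) * algebraMap R R' f := by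
    rw [pow_succ, map_mul]
  rw [this] at hs'
  linear_combination hs'

/-- **Lemma A**: if every element of `K` is killed by a power of `f`, every element of
`K ⊗ R'` is of the form `k ⊗ 1`. -/
theorem exists_tmul_one (h : EtGlue.QuotPowBijective R R' f) {K : Type u} [AddCommGroup K]
    [Module R K] (hK : ∀ k : K, ∃ n : ℕ, f ^ n • k = 0) (x : K ⊗[R] R') :
    ∃ k : K, x = k ⊗ₜ[R] (1 : R') := by
  induction x using TensorProduct.induction_on with
  | zero => exact ⟨0, (zero_tmul _ _).symm⟩
  | tmul k r' =>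
    obtain ⟨n, hn⟩ := hK k
    obtain ⟨r, s', rfl⟩ := exists_eq_add f h n r'
    refine ⟨r • k, ?_⟩
    rw [tmul_add, Algebra.algebraMap_eq_smul_one, ← smul_tmul, Algebra.algebraMap_eq_smul_one,
      smul_mul_assoc, one_mul, ← smul_tmul, hn, zero_tmul, add_zero]
  | add x y hx hy =>
    obtain ⟨k₁, rfl⟩ := hx
    obtain ⟨k₂, rfl⟩ := hy
    exact ⟨k₁ + k₂, (add_tmul _ _ _).symm⟩

/-- for a glueing pair, `K ⊗ R' → R ⊗ R'` is injective for `K ⊆ R` consisting of `f`-power torsion
elements. -/
theorem rTensor_injective (h : EtGlue.IsGlueingPair R R' f) (K : Submodule R R)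
    (hK : ∀ k ∈ K, ∃ n : ℕ, f ^ n * k = 0) :
    Function.Injective (K.subtype.rTensor R') := by
  rw [injective_iff_map_eq_zero]
  intro x hx
  obtain ⟨k, rfl⟩ := exists_tmul_one f h.1 (K := K)
    (fun k => by
      obtain ⟨n, hn⟩ := hK k.1 k.2
      exact ⟨n, Subtype.ext hn⟩) x
  rw [LinearMap.rTensor_tmul] at hx
  have h1 : algebraMap R R' k.1 = 0 := by
    have := congrArg (TensorProduct.lid R R') hx
    rw [TensorProduct.lid_tmul, map_zero] at this
    rw [Algebra.algebraMap_eq_smul_one]
    exact this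
  have h2 : algebraMap R (Localization.Away f) k.1 = 0 := by
    obtain ⟨n, hn⟩ := hK k.1 k.2
    rw [IsLocalization.map_eq_zero_iff (Submonoid.powers f)]
    exact ⟨⟨f ^ n, n, rfl⟩, hn⟩
  have h0 : k.1 = 0 := by
    apply h.2.1
    show (algebraMap R R' k.1, algebraMap R (Localization.Away f) k.1) =
      (algebraMap R R' 0, algebraMap R (Localization.Away f) 0)
    rw [h1, h2, map_zero, map_zero]
  have : k = 0 := Subtype.ext h0
  rw [this, zero_tmul]

/-- `Tor_1(R', N) = 0` when `N` is the cokernel of an `f`-power torsion ideal `K ⊆ R`. -/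
theorem subsingleton_tor_one (h : EtGlue.IsGlueingPair R R' f) (K : Submodule R R)
    (hK : ∀ k ∈ K, ∃ n : ℕ, f ^ n * k = 0) {N : Type u} [AddCommGroup N] [Module R N]
    (p : R →ₗ[R] N) (hp : Function.Surjective p) (hKp : LinearMap.ker p = K) :
    Subsingleton (((Tor (ModuleCat.{u} R) 1).obj (ModuleCat.of R R')).obj (ModuleCat.of R N)) := by
  have hex : Function.Exact K.subtype p := by
    rw [← hKp]
    exact LinearMap.exact_subtype_ker_map p
  have hz := (isZero_tor_one_iff_injective (M := R') K.subtype p K.injective_subtype hex hp).2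
    (rTensor_injective f h K hK)
  exact ModuleCat.subsingleton_of_isZero (Groth.Agent.Helper21.TS.isZero_tor_comm hz)

end Groth.Agent.Helper6.EtGlueTor
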