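import Mathlib

/-!
# `Ext` over a Noetherian ring commutes with localization (helper6)
-/

set_option autoImplicit false
set_option linter.style.haveILetI false
set_option linter.unusedVariables false

namespace Groth.Agent.Helper6.ExtLocz

open CategoryTheory Abelian

universe u

variable {R : Type u} [CommRing R] (S : Submonoid R)

/-- the localization functor -/
noncomputable abbrev LF : ModuleCat.{u} R ⥤ ModuleCat.{u} (Localization S) :=
  ModuleCat.localizedModuleFunctor.{u} S

theorem hom_ext_mk {M N : ModuleCat.{u} R}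
    (φ ψ : M.localizedModule S ⟶ N.localizedModule S)
    (h : ∀ m : M, φ.hom (M.localizedModuleMkLinearMap S m) =
      ψ.hom (M.localizedModuleMkLinearMap S m)) : φ = ψ := by
  apply ModuleCat.hom_ext
  have h1 : (φ.hom.restrictScalars R) = (ψ.hom.restrictScalars R) := by
    apply IsLocalizedModule.linearMap_ext S (M.localizedModuleMkLinearMap S)
      (N.localizedModuleMkLinearMap S)
    ext m
    exact h m
  ext x
  exact LinearMap.congr_fun h1 x

theorem map_hom_mk {M N : ModuleCat.{u} R} (f : M ⟶ N) (m : M) :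
    (ModuleCat.localizedModuleMap S f).hom (M.localizedModuleMkLinearMap S m) =
      N.localizedModuleMkLinearMap S (f.hom m) := by
  show IsLocalizedModule.map S (M.localizedModuleMkLinearMap S) (N.localizedModuleMkLinearMap S)
    f.hom (M.localizedModuleMkLinearMap S m) = _
  exact IsLocalizedModule.map_apply S _ _ _ _

theorem map_smul_id (N : ModuleCat.{u} R) (r : R) :
    (LF S).map (r • 𝟙 N) = algebraMap R (Localization S) r • 𝟙 ((LF S).obj N) := by
  apply hom_ext_mk S
  intro m
  have h1 := map_hom_mk S (r • 𝟙 N) m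
  show (ModuleCat.localizedModuleMap S (r • 𝟙 N)).hom _ = _
  rw [h1]
  show N.localizedModuleMkLinearMap S (r • m) = algebraMap R (Localization S) r •
    (N.localizedModuleMkLinearMap S m)
  rw [map_smul, algebraMap_smul]

theorem mapExactFunctor_smul' {M N : ModuleCat.{u} R} {n : ℕ} (r : R) (e : Ext M N n) :
    (r • e).mapExactFunctor (LF S) =
      algebraMap R (Localization S) r • e.mapExactFunctor (LF S) := by
  rw [Ext.smul_eq_comp_mk₀, Ext.mapExactFunctor_comp, Ext.mapExactFunctor_mk₀, map_smul_id,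
    Ext.smul_eq_comp_mk₀ (e.mapExactFunctor (LF S))]

theorem map_eq_zero_of_smul_eq_zero {M N : ModuleCat.{u} R} {n : ℕ} (e : Ext M N n) (s : S)
    (h : (s : R) • e = 0) : e.mapExactFunctor (LF S) = 0 := by
  have h1 := mapExactFunctor_smul' S (s : R) e
  rw [h, Ext.mapExactFunctor_zero] at h1
  have hu : IsUnit (algebraMap R (Localization S) (s : R)) := IsLocalization.map_units _ s
  obtain ⟨v, hv⟩ := hu.exists_left_inv
  calc e.mapExactFunctor (LF S)
      = (v * algebraMap R (Localization S) (s : R)) • e.mapExactFunctor (LF S) := by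
        rw [hv, one_smul]
    _ = v • (algebraMap R (Localization S) (s : R) • e.mapExactFunctor (LF S)) := mul_smul _ _ _
    _ = 0 := by rw [← h1, smul_zero]

theorem base_surj (M N : ModuleCat.{u} R) [Module.FinitePresentation R M]
    (y : Ext ((LF S).obj M) ((LF S).obj N) 0) :
    ∃ (e : Ext M N 0) (s : S),
      algebraMap R (Localization S) (s : R) • y = e.mapExactFunctor (LF S) := by
  obtain ⟨φ, rfl⟩ := (Ext.mk₀_bijective _ _).2 y
  let mkM := M.localizedModuleMkLinearMap S
  let mkN := N.localizedModuleMkLinearMap S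
  let φ' : M.localizedModule S ⟶ N.localizedModule S := φ
  let g : M →ₗ[R] (N.localizedModule S) := (φ'.hom.restrictScalars R) ∘ₗ mkM
  obtain ⟨h, s, hs⟩ := Module.FinitePresentation.exists_lift_of_isLocalizedModule S mkN g
  refine ⟨Ext.mk₀ (ModuleCat.ofHom h), s, ?_⟩
  rw [Ext.mapExactFunctor_mk₀, ← Ext.mk₀_smul]
  congr 1
  apply hom_ext_mk S
  intro m
  have h1 := map_hom_mk S (ModuleCat.ofHom h) m
  have h2 : mkN (h m) = (s : R) • g m := LinearMap.congr_fun hs m
  show algebraMap R (Localization S) (s : R) • φ'.hom (mkM m) =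
    (ModuleCat.localizedModuleMap S (ModuleCat.ofHom h)).hom (mkM m)
  rw [h1]
  show _ = mkN (h m)
  rw [h2, algebraMap_smul]
  rfl

theorem base_ker (M N : ModuleCat.{u} R) [Module.Finite R M] (e : Ext M N 0)
    (h0 : e.mapExactFunctor (LF S) = 0) : ∃ s : S, (s : R) • e = 0 := by
  obtain ⟨f, rfl⟩ := (Ext.mk₀_bijective _ _).2 e
  rw [Ext.mapExactFunctor_mk₀, Ext.mk₀_eq_zero_iff] at h0
  let mkM := M.localizedModuleMkLinearMap S
  let mkN := N.localizedModuleMkLinearMap S
  have h1 : mkN ∘ₗ f.hom = mkN ∘ₗ (0 : M →ₗ[R] N) := by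
    ext m
    have h2 := map_hom_mk S f m
    have h3 : (ModuleCat.localizedModuleMap S f) = 0 := h0
    rw [h3] at h2
    show mkN (f.hom m) = mkN 0
    rw [← h2, map_zero]
    rfl
  obtain ⟨s, hs⟩ := Module.Finite.exists_smul_of_comp_eq_of_isLocalizedModule S mkN f.hom 0 h1
  refine ⟨s, ?_⟩
  rw [← Ext.mk₀_smul, Ext.mk₀_eq_zero_iff]
  ext m
  have h4 : (s : R) • f.hom m = (s : R) • (0 : M →ₗ[R] N) m := LinearMap.congr_fun hs m
  show (s : R) • f.hom m = 0
  rw [h4, LinearMap.zero_apply, smul_zero]

/-- the statement at level `n` for a fixed `N` and all finite `M` -/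
def P (N : ModuleCat.{u} R) (n : ℕ) : Prop :=
  ∀ (M : ModuleCat.{u} R) [Module.Finite R M],
    (∀ y : Ext ((LF S).obj M) ((LF S).obj N) n, ∃ (e : Ext M N n) (s : S),
      algebraMap R (Localization S) (s : R) • y = e.mapExactFunctor (LF S)) ∧
    (∀ e : Ext M N n, e.mapExactFunctor (LF S) = 0 → ∃ s : S, (s : R) • e = 0)

theorem P_zero [IsNoetherianRing R] (N : ModuleCat.{u} R) : P S N 0 := by
  intro M _
  haveI : Module.FinitePresentation R M := Module.finitePresentation_of_finite R M
  exact ⟨base_surj S M N, base_ker S M N⟩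

theorem P_succ [IsNoetherianRing R] (N : ModuleCat.{u} R) (n : ℕ) (IH : P S N n) :
    P S N (n + 1) := by
  intro M _
  obtain ⟨r, π₀, hπ₀⟩ := Module.Finite.exists_fin' R M
  let T : ShortComplex (ModuleCat.{u} R) := π₀.shortComplexKer
  have hT : T.ShortExact := LinearMap.shortExact_shortComplexKer hπ₀
  haveI : Module.Finite R T.X₁ := (inferInstance : Module.Finite R (LinearMap.ker π₀))
  haveI : Module.Finite R T.X₂ := (inferInstance : Module.Finite R (Fin r → R))
  haveI : Projective T.X₂ :=
    (IsProjective.iff_projective (R := R) (Fin r → R)).1 inferInstance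
  have hT' : (T.map (LF S)).ShortExact := hT.map_of_exact (LF S)
  haveI : Projective (T.map (LF S)).X₂ := (LF S).projective_obj T.X₂
  constructor
  · intro y
    obtain ⟨y', hy'⟩ := Ext.contravariant_sequence_exact₃ hT' ((LF S).obj N) y
      (Ext.eq_zero_of_projective _) (add_comm 1 n)
    obtain ⟨e', s, hs⟩ := (IH T.X₁).1 y'
    refine ⟨hT.extClass.comp e' (add_comm 1 n), s, ?_⟩
    have e1 : (hT.extClass.comp e' (add_comm 1 n)).mapExactFunctor (LF S) =
        hT'.extClass.comp (e'.mapExactFunctor (LF S)) (add_comm 1 n) := by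
      rw [Ext.mapExactFunctor_comp, Ext.mapExactFunctor_extClass]
      rfl
    have e2 := Ext.comp_smul hT'.extClass y' (add_comm 1 n)
      (algebraMap R (Localization S) (s : R))
    exact ((e1.trans (congrArg (fun t => hT'.extClass.comp t (add_comm 1 n)) hs.symm)).trans
      (e2.trans (congrArg (fun t => algebraMap R (Localization S) (s : R) • t) hy'))).symm
  · intro e he
    obtain ⟨e', rfl⟩ := Ext.contravariant_sequence_exact₃ hT N e
      (Ext.eq_zero_of_projective _) (add_comm 1 n)
    have e1' : (hT.extClass.comp e' (add_comm 1 n)).mapExactFunctor (LF S) =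
        hT'.extClass.comp (e'.mapExactFunctor (LF S)) (add_comm 1 n) := by
      rw [Ext.mapExactFunctor_comp, Ext.mapExactFunctor_extClass]
      rfl
    have he' : hT'.extClass.comp (e'.mapExactFunctor (LF S)) (add_comm 1 n) = 0 :=
      e1'.symm.trans he
    obtain ⟨z, hz⟩ := Ext.contravariant_sequence_exact₁ hT' ((LF S).obj N)
      (e'.mapExactFunctor (LF S)) (add_comm 1 n) he'
    obtain ⟨z₀, s, hs⟩ := (IH T.X₂).1 z
    have k1 : ((s : R) • e').mapExactFunctor (LF S) =
        algebraMap R (Localization S) (s : R) • e'.mapExactFunctor (LF S) :=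
      mapExactFunctor_smul' S _ e'
    have k2 : ((Ext.mk₀ T.f).comp z₀ (zero_add n)).mapExactFunctor (LF S) =
        (Ext.mk₀ (T.map (LF S)).f).comp (z₀.mapExactFunctor (LF S)) (zero_add n) := by
      rw [Ext.mapExactFunctor_comp, Ext.mapExactFunctor_mk₀]
      rfl
    have k3 : (Ext.mk₀ (T.map (LF S)).f).comp (z₀.mapExactFunctor (LF S)) (zero_add n) =
        (Ext.mk₀ (T.map (LF S)).f).comp (algebraMap R (Localization S) (s : R) • z)
          (zero_add n) :=
      congrArg (fun t => (Ext.mk₀ (T.map (LF S)).f).comp t (zero_add n)) hs.symm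
    have k4 := Ext.comp_smul (Ext.mk₀ (T.map (LF S)).f) z (zero_add n)
      (algebraMap R (Localization S) (s : R))
    have k5 : algebraMap R (Localization S) (s : R) •
        (Ext.mk₀ (T.map (LF S)).f).comp z (zero_add n) =
        algebraMap R (Localization S) (s : R) • e'.mapExactFunctor (LF S) :=
      congrArg (fun t => algebraMap R (Localization S) (s : R) • t) hz
    have hker : ((s : R) • e' - (Ext.mk₀ T.f).comp z₀ (zero_add n)).mapExactFunctor (LF S) = 0 := by
      have h6 : ((s : R) • e' - (Ext.mk₀ T.f).comp z₀ (zero_add n)).mapExactFunctor (LF S) =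
          ((s : R) • e').mapExactFunctor (LF S) -
          ((Ext.mk₀ T.f).comp z₀ (zero_add n)).mapExactFunctor (LF S) :=
        map_sub ((LF S).mapExtAddHom T.X₁ N n) _ _
      rw [h6, sub_eq_zero]
      exact k1.trans (((k2.trans k3).trans (k4.trans k5))).symm
    obtain ⟨t, ht⟩ := (IH T.X₁).2 _ hker
    refine ⟨t * s, ?_⟩
    rw [smul_sub, smul_smul, sub_eq_zero] at ht
    have h5 : (((t * s : S) : R)) • e' = (Ext.mk₀ T.f).comp ((t : R) • z₀) (zero_add n) := by
      rw [Ext.comp_smul, ← ht]
      rfl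
    have l1 := (Ext.comp_smul hT.extClass e' (add_comm 1 n) (((t * s : S)) : R)).symm
    have l2 : hT.extClass.comp ((((t * s : S)) : R) • e') (add_comm 1 n) =
        hT.extClass.comp ((Ext.mk₀ T.f).comp ((t : R) • z₀) (zero_add n)) (add_comm 1 n) :=
      congrArg (fun x => hT.extClass.comp x (add_comm 1 n)) h5
    have l3 : hT.extClass.comp ((Ext.mk₀ T.f).comp ((t : R) • z₀) (zero_add n)) (add_comm 1 n) = 0 :=
      hT.extClass_comp_assoc _
    exact l1.trans (l2.trans l3)

theorem P_all [IsNoetherianRing R] (N : ModuleCat.{u} R) (n : ℕ) : P S N n := by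
  induction n with
  | zero => exact P_zero S N
  | succ n ih => exact P_succ S N n ih

theorem main (R : Type u) [CommRing R] [IsNoetherianRing R]
    (S : Submonoid R) (M N : ModuleCat.{u} R) [Module.Finite R M] [Module.Finite R N] (i : ℕ) :
    (∀ y : Abelian.Ext ((ModuleCat.localizedModuleFunctor.{u} S).obj M)
        ((ModuleCat.localizedModuleFunctor.{u} S).obj N) i,
        ∃ (e : Abelian.Ext M N i) (s : S),
          algebraMap R (Localization S) (s : R) • y =
            (ModuleCat.localizedModuleFunctor.{u} S).mapExtAddHom M N i e) ∧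
      (∀ e : Abelian.Ext M N i,
        (ModuleCat.localizedModuleFunctor.{u} S).mapExtAddHom M N i e = 0 ↔
          ∃ s : S, (s : R) • e = 0) := by
  obtain ⟨h1, h2⟩ := P_all S N i M
  refine ⟨h1, fun e => ⟨h2 e, ?_⟩⟩
  rintro ⟨s, hs⟩
  exact map_eq_zero_of_smul_eq_zero S e s hs

end Groth.Agent.Helper6.ExtLocz
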