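import Mathlib
import Groth.Prelude.Def_FSch4
namespace Groth.Agent.Helper6.FSchGraph
open CategoryTheory
universe u v

/-- The graph square: for compatible `f' : X' ⟶ Y'`, `f : X ⟶ Y` over `S' ⟶ S` with `Y' ⟶ Y` a
monomorphism, the square `X' ⟶ X' ×_{S'} Y'`, `X ⟶ X ×_S Y` is a pullback. -/
theorem graph_isPullback {C : Type u} [Category.{v} C] [Limits.HasPullbacks C]
    {X' X Y' Y S' S : C} (i : X' ⟶ X) (j : Y' ⟶ Y) (k : S' ⟶ S) [Mono j]
    (p' : X' ⟶ S') (q' : Y' ⟶ S') (p : X ⟶ S) (q : Y ⟶ S)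
    (hp : p' ≫ k = i ≫ p) (hq : q' ≫ k = j ≫ q)
    (f' : X' ⟶ Y') (f : X ⟶ Y) (hf : f' ≫ j = i ≫ f)
    (w' : 𝟙 X' ≫ p' = f' ≫ q') (w : 𝟙 X ≫ p = f ≫ q) :
    IsPullback i (Limits.pullback.lift (𝟙 X') f' w') (Limits.pullback.lift (𝟙 X) f w)
      (Limits.pullback.map p' q' p q i j k hp hq) := by
  have hfst' : Limits.pullback.lift (𝟙 X') f' w' ≫ Limits.pullback.fst p' q' = 𝟙 X' :=
    Limits.pullback.lift_fst _ _ _
  have hsnd' : Limits.pullback.lift (𝟙 X') f' w' ≫ Limits.pullback.snd p' q' = f' :=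
    Limits.pullback.lift_snd _ _ _
  have hfst : Limits.pullback.lift (𝟙 X) f w ≫ Limits.pullback.fst p q = 𝟙 X :=
    Limits.pullback.lift_fst _ _ _
  have hsnd : Limits.pullback.lift (𝟙 X) f w ≫ Limits.pullback.snd p q = f :=
    Limits.pullback.lift_snd _ _ _
  have hmfst : Limits.pullback.map p' q' p q i j k hp hq ≫ Limits.pullback.fst p q =
      Limits.pullback.fst p' q' ≫ i := Limits.pullback.lift_fst _ _ _
  have hmsnd : Limits.pullback.map p' q' p q i j k hp hq ≫ Limits.pullback.snd p q =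
      Limits.pullback.snd p' q' ≫ j := Limits.pullback.lift_snd _ _ _
  have hcomm : i ≫ Limits.pullback.lift (𝟙 X) f w =
      Limits.pullback.lift (𝟙 X') f' w' ≫ Limits.pullback.map p' q' p q i j k hp hq := by
    apply Limits.pullback.hom_ext
    · rw [Category.assoc, hfst, Category.comp_id, Category.assoc, hmfst, ← Category.assoc, hfst',
        Category.id_comp]
    · rw [Category.assoc, hsnd, Category.assoc, hmsnd, ← Category.assoc, hsnd', hf]
  have key : ∀ s : Limits.PullbackCone (Limits.pullback.lift (𝟙 X) f w)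
      (Limits.pullback.map p' q' p q i j k hp hq),
      (s.snd ≫ Limits.pullback.fst p' q') ≫ i = s.fst := by
    intro s
    have h1 : (s.fst ≫ Limits.pullback.lift (𝟙 X) f w) ≫ Limits.pullback.fst p q =
        (s.snd ≫ Limits.pullback.map p' q' p q i j k hp hq) ≫ Limits.pullback.fst p q := by
      rw [s.condition]
    rw [Category.assoc, hfst, Category.comp_id, Category.assoc, hmfst, ← Category.assoc] at h1
    exact h1.symm
  have key2 : ∀ s : Limits.PullbackCone (Limits.pullback.lift (𝟙 X) f w)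
      (Limits.pullback.map p' q' p q i j k hp hq),
      s.fst ≫ f = (s.snd ≫ Limits.pullback.snd p' q') ≫ j := by
    intro s
    have h2 : (s.fst ≫ Limits.pullback.lift (𝟙 X) f w) ≫ Limits.pullback.snd p q =
        (s.snd ≫ Limits.pullback.map p' q' p q i j k hp hq) ≫ Limits.pullback.snd p q := by
      rw [s.condition]
    rw [Category.assoc, hsnd, Category.assoc, hmsnd, ← Category.assoc] at h2
    exact h2
  refine IsPullback.of_isLimit (c := Limits.PullbackCone.mk _ _ hcomm) ?_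
  refine Limits.PullbackCone.IsLimit.mk hcomm (fun s => s.snd ≫ Limits.pullback.fst p' q') key ?_ ?_
  · intro s
    apply Limits.pullback.hom_ext
    · rw [Category.assoc, hfst', Category.comp_id]
    · rw [Category.assoc, hsnd', ← cancel_mono j, ← key2 s, Category.assoc, hf, ← Category.assoc,
        key s]
  · intro s m _ hm
    rw [← hm, Category.assoc, hfst', Category.comp_id]

open AlgebraicGeometry in
/-- The graph of a morphism of systems into the levelwise fibre product is adic as soon as the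
transition maps of the target are monomorphisms. -/
theorem isAdicHom_graph {𝔛 𝔜 𝔖 : FSch.Sys.{u}} (h𝔜 : ∀ n, Mono (𝔜.ι n))
    (p : 𝔛 ⟶ 𝔖) (q : 𝔜 ⟶ 𝔖) (f : 𝔛 ⟶ 𝔜) (w : f ≫ q = p) :
    FSch.IsAdicHom (FSch.graph f p q w) := by
  subst w
  intro n
  haveI := h𝔜 n
  exact graph_isPullback (𝔛.ι n) (𝔜.ι n) (𝔖.ι n) _ _ _ _ ((f ≫ q : FSch.Hom 𝔛 𝔖).comm n)
    ((q : FSch.Hom 𝔜 𝔖).comm n) _ _ ((f : FSch.Hom 𝔛 𝔜).comm n) _ _

end Groth.Agent.Helper6.FSchGraph
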