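import Groth.Agent.Lib.Helper6.IdealComap
namespace Groth.Agent.Helper6.FSchLib
open AlgebraicGeometry CategoryTheory Limits Scheme.IdealSheafData
open Groth.Agent.Helper6.IdealComap
universe u

theorem isPullback_comp_of_mono {C : Type*} [Category C] {Z' Z W : C} (j : Z' ⟶ Z) (ι : Z ⟶ W)
    [Mono ι] : IsPullback j (𝟙 Z') ι (j ≫ ι) := by
  have h1 : IsPullback j (𝟙 Z') (𝟙 Z) j := IsPullback.of_vert_isIso ⟨by simp⟩
  have h2 : IsPullback (𝟙 Z) (𝟙 Z) ι ι := IsKernelPair.id_of_mono ι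
  simpa using h1.paste_horiz h2

variable {X : Scheme.{u}}

/-- For closed immersions `j : Z' ⟶ Z`, `ι : Z ⟶ W`: `ker j` is the inverse image of `ker (j ≫ ι)`. -/
theorem ker_eq_comap_ker_comp {Z' Z W : Scheme.{u}} (j : Z' ⟶ Z) (ι : Z ⟶ W)
    [IsClosedImmersion j] [IsClosedImmersion ι] : j.ker = (j ≫ ι).ker.comap ι := by
  have hp := isPullback_comp_of_mono j ι
  have e : hp.isoPullback.hom ≫ pullback.fst ι (j ≫ ι) = j := hp.isoPullback_hom_fst
  calc j.ker = (hp.isoPullback.hom ≫ pullback.fst ι (j ≫ ι)).ker := by rw [e]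
    _ = (pullback.fst ι (j ≫ ι)).ker := Scheme.Hom.ker_comp_of_isIso _ _
    _ = _ := ker_fst_of_isClosedImmersion (j ≫ ι) ι

theorem ker_inclusion {I J : X.IdealSheafData} (h : I ≤ J) :
    (inclusion h).ker = J.comap I.subschemeι := by
  rw [ker_eq_comap_ker_comp (inclusion h) I.subschemeι, inclusion_subschemeι, ker_subschemeι]

theorem pow_succ_le_one (𝓘 : X.IdealSheafData) (n : ℕ) : 𝓘 ^ (n + 1) ≤ 𝓘 ^ (0 + 1) :=
  pow_le_pow_of_le_one bot_le le_top (by omega)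

theorem completionAlong_toX (𝓘 : X.IdealSheafData) (n : ℕ) :
    (FSch.completionAlong X 𝓘).toX n = inclusion (pow_succ_le_one 𝓘 n) := by
  induction n with
  | zero => exact (inclusion_id _).symm
  | succ n ih =>
    have h1 : (FSch.completionAlong X 𝓘).toX (n + 1) =
        (FSch.completionAlong X 𝓘).toX n ≫ inclusion (FSch.pow_succ_le X 𝓘 n) := rfl
    rw [h1, ih]
    exact inclusion_comp _ _

theorem completionAlong_ker_ι (𝓘 : X.IdealSheafData) (n : ℕ) :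
    ((FSch.completionAlong X 𝓘).ι n).ker =
      (𝓘 ^ (n + 1)).comap (FSch.completionToX X 𝓘 (n + 1)) :=
  ker_inclusion _

theorem completionAlong_ker_toX (𝓘 : X.IdealSheafData) (n : ℕ) :
    ((FSch.completionAlong X 𝓘).toX n).ker = (𝓘 ^ (0 + 1)).comap (FSch.completionToX X 𝓘 n) :=
  (congrArg Scheme.Hom.ker (completionAlong_toX 𝓘 n)).trans (ker_inclusion _)

theorem completionAlong_isAdic (𝓘 : X.IdealSheafData) : (FSch.completionAlong X 𝓘).IsAdic := by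
  intro n
  rw [completionAlong_ker_ι, completionAlong_ker_toX, ← comap_pow, ← pow_mul]
  simp

theorem completionAlong_isFormal (𝓘 : X.IdealSheafData) : (FSch.completionAlong X 𝓘).IsFormal := by
  intro n
  refine ⟨inferInstanceAs (IsClosedImmersion (inclusion (FSch.pow_succ_le X 𝓘 n))), ?_⟩
  intro y
  have hy : (𝓘 ^ (n + 1 + 1)).subschemeι y ∈ Set.range (𝓘 ^ (n + 1)).subschemeι := by
    rw [range_subschemeι, support_pow_succ, ← support_pow_succ 𝓘 (n + 1), ← range_subschemeι]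
    exact ⟨y, rfl⟩
  obtain ⟨x, hx⟩ := hy
  refine ⟨x, ?_⟩
  apply (𝓘 ^ (n + 1 + 1)).subschemeι.isEmbedding.injective
  rw [← hx]
  change (inclusion (FSch.pow_succ_le X 𝓘 n) ≫ (𝓘 ^ (n + 1 + 1)).subschemeι) x = _
  rw [inclusion_subschemeι]

instance (𝓘 : X.IdealSheafData) (n : ℕ) : IsClosedImmersion (FSch.completionToX X 𝓘 n) :=
  inferInstanceAs (IsClosedImmersion (𝓘 ^ (n + 1)).subschemeι)

theorem sys_hom_ext {𝔛 𝔜 : FSch.Sys.{u}} (f g : 𝔛 ⟶ 𝔜)
    (h : ∀ n, (f : FSch.Hom 𝔛 𝔜).app n = (g : FSch.Hom 𝔛 𝔜).app n) : f = g :=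
  FSch.Hom.ext (funext h)

theorem sys_congr_app {𝔛 𝔜 : FSch.Sys.{u}} {f g : 𝔛 ⟶ 𝔜} (h : f = g) (n : ℕ) :
    (f : FSch.Hom 𝔛 𝔜).app n = (g : FSch.Hom 𝔛 𝔜).app n := by rw [h]

theorem isPullback_of_levelwise {P 𝔛 𝔜 𝔖 : FSch.Sys.{u}} (a : P ⟶ 𝔛) (b : P ⟶ 𝔜) (f : 𝔛 ⟶ 𝔖)
    (g : 𝔜 ⟶ 𝔖)
    (H : ∀ n, IsPullback ((a : FSch.Hom P 𝔛).app n) ((b : FSch.Hom P 𝔜).app n)
      ((f : FSch.Hom 𝔛 𝔖).app n) ((g : FSch.Hom 𝔜 𝔖).app n)) : IsPullback a b f g := by
  refine ⟨⟨sys_hom_ext _ _ fun n => (H n).w⟩, ⟨PullbackCone.IsLimit.mk _ (fun s => ?_) ?_ ?_ ?_⟩⟩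
  · refine ⟨fun n => (H n).lift ((s.fst : FSch.Hom _ _).app n) ((s.snd : FSch.Hom _ _).app n)
      (sys_congr_app s.condition n), fun n => ?_⟩
    apply (H (n + 1)).hom_ext
    · rw [Category.assoc, Category.assoc, ← (a : FSch.Hom P 𝔛).comm n, IsPullback.lift_fst,
        IsPullback.lift_fst_assoc, (s.fst : FSch.Hom _ _).comm n]
    · rw [Category.assoc, Category.assoc, ← (b : FSch.Hom P 𝔜).comm n, IsPullback.lift_snd,
        IsPullback.lift_snd_assoc, (s.snd : FSch.Hom _ _).comm n]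
  · intro s
    exact sys_hom_ext _ _ fun n => (H n).lift_fst _ _ _
  · intro s
    exact sys_hom_ext _ _ fun n => (H n).lift_snd _ _ _
  · intro s m h1 h2
    refine sys_hom_ext _ _ fun n => (H n).hom_ext ?_ ?_
    · rw [IsPullback.lift_fst]
      exact sys_congr_app h1 n
    · rw [IsPullback.lift_snd]
      exact sys_congr_app h2 n

variable {Y : Scheme.{u}}

theorem completionToX_comp_ι (𝓘 : X.IdealSheafData) (n : ℕ) :
    (FSch.completionAlong X 𝓘).ι n ≫ FSch.completionToX X 𝓘 (n + 1) = FSch.completionToX X 𝓘 n :=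
  inclusion_subschemeι _

theorem completionMap_app_comp_toX (f : X ⟶ Y) (𝓘 : X.IdealSheafData) (𝓚 : Y.IdealSheafData)
    (h : FSch.PowCompat f 𝓘 𝓚) (n : ℕ) :
    (FSch.completionMap f 𝓘 𝓚 h : FSch.Hom _ _).app n ≫ FSch.completionToX Y 𝓚 n =
      FSch.completionToX X 𝓘 n ≫ f :=
  subschemeMap_subschemeι _ _ _ (le_map_iff_comap_le.mpr (h n))

/-- The level-`n` square of the completion of `f` along an inverse image ideal is cartesian. -/
theorem isPullback_completionMap_comap (f : X ⟶ Y) (𝓚 : Y.IdealSheafData)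
    (h : FSch.PowCompat f (𝓚.comap f) 𝓚) (n : ℕ) :
    IsPullback (FSch.completionToX X (𝓚.comap f) n)
      ((FSch.completionMap f (𝓚.comap f) 𝓚 h : FSch.Hom _ _).app n) f (FSch.completionToX Y 𝓚 n) := by
  refine isPullback_of_isClosedImmersion _ _ _ _ ?_ ?_
  · exact (completionMap_app_comp_toX f _ _ h n).symm
  · change (Scheme.Hom.ker (𝓚 ^ (n + 1)).subschemeι).comap f =
      Scheme.Hom.ker ((𝓚.comap f) ^ (n + 1)).subschemeι
    rw [ker_subschemeι, ker_subschemeι, comap_pow]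

end Groth.Agent.Helper6.FSchLib
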