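import Groth.Agent.Lib.Helper6.FSchAdic
import Groth.Prelude.Def_FSch5
namespace Groth.Agent.Helper6.FSchRestr
open AlgebraicGeometry CategoryTheory Limits Groth.Agent.Helper6.FSchLib
universe u

/-- Restriction of a morphism to an open and its full preimage is a base change. -/
theorem isPullback_resLE_of_eq {X Y : Scheme.{u}} (f : X ⟶ Y) (V : Y.Opens) (V' : X.Opens)
    (heq : f ⁻¹ᵁ V = V') : IsPullback (f.resLE V V' heq.ge) V'.ι V.ι f := by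
  subst heq
  rw [Scheme.Hom.resLE_eq_morphismRestrict]
  exact isPullback_morphismRestrict f V

section Restr
variable (𝔛 : FSch.Sys.{u}) (h : 𝔛.IsFormal) (U : (𝔛.X 0).Opens)

theorem isAdicHom_restrictOpenι : FSch.IsAdicHom (𝔛.restrictOpenι h U) := by
  intro n
  exact (isPullback_resLE_of_eq (𝔛.ι n) (𝔛.lvU h (n + 1) U) (𝔛.lvU h n U) (𝔛.lvU_succ h n U))

theorem isFormal_restrictOpen : (𝔛.restrictOpen h U).IsFormal :=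
  isFormal_of_isAdicHom _ (isAdicHom_restrictOpenι 𝔛 h U) h

theorem isLocNoethFormal_restrictOpen (h' : 𝔛.IsLocNoethFormal) :
    (𝔛.restrictOpen h U).IsLocNoethFormal := by
  have : IsLocallyNoetherian (𝔛.X 0) := h'.2.2 0
  have : IsLocallyNoetherian ((𝔛.restrictOpen h U).X 0) :=
    inferInstanceAs (IsLocallyNoetherian (𝔛.lvU h 0 U).toScheme)
  exact isLocNoethFormal_of_isAdicHom _ h' (isAdicHom_restrictOpenι 𝔛 h U)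

theorem compactSpace_restrictOpen (h' : 𝔛.IsLocNoethFormal) [CompactSpace (𝔛.X 0)] :
    CompactSpace ((𝔛.restrictOpen h U).X 0) := by
  have : IsLocallyNoetherian (𝔛.X 0) := h'.2.2 0
  have : IsNoetherian (𝔛.X 0) := { }
  have hc : IsCompact ((𝔛.lvU h 0 U : (𝔛.X 0).Opens) : Set (𝔛.X 0)) :=
    TopologicalSpace.NoetherianSpace.isCompact _
  exact isCompact_iff_compactSpace.mp hc

end Restr

section RestrHom
variable {𝔛 𝔜 : FSch.Sys.{u}} (f : 𝔛 ⟶ 𝔜) (h𝔛 : 𝔛.IsFormal) (h𝔜 : 𝔜.IsFormal) (U : (𝔜.X 0).Opens)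

theorem isPullback_restrictOpen_app (n : ℕ) :
    IsPullback ((FSch.Hom.restrictOpen f h𝔛 h𝔜 U : FSch.Hom _ _).app n)
      (𝔛.lvU h𝔛 n ((f : FSch.Hom 𝔛 𝔜).app 0 ⁻¹ᵁ U)).ι (𝔜.lvU h𝔜 n U).ι ((f : FSch.Hom 𝔛 𝔜).app n) :=
  isPullback_resLE_of_eq _ _ _ (FSch.Hom.lvU_preimage f h𝔛 h𝔜 n U)

theorem isAdicHom_restrictOpen (hf : FSch.IsAdicHom f) :
    FSch.IsAdicHom (FSch.Hom.restrictOpen f h𝔛 h𝔜 U) := by
  intro n
  have s1 := (isPullback_restrictOpen_app f h𝔛 h𝔜 U n).flip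
  have s2 := (isPullback_restrictOpen_app f h𝔛 h𝔜 U (n + 1)).flip
  have s := s1.paste_horiz (hf n)
  have e1 : (𝔛.restrictOpen h𝔛 ((f : FSch.Hom 𝔛 𝔜).app 0 ⁻¹ᵁ U)).ι n ≫
      (𝔛.lvU h𝔛 (n + 1) ((f : FSch.Hom 𝔛 𝔜).app 0 ⁻¹ᵁ U)).ι =
      (𝔛.lvU h𝔛 n ((f : FSch.Hom 𝔛 𝔜).app 0 ⁻¹ᵁ U)).ι ≫ 𝔛.ι n :=
    Scheme.Hom.resLE_comp_ι _ _
  have e2 : (𝔜.restrictOpen h𝔜 U).ι n ≫ (𝔜.lvU h𝔜 (n + 1) U).ι = (𝔜.lvU h𝔜 n U).ι ≫ 𝔜.ι n :=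
    Scheme.Hom.resLE_comp_ι _ _
  have s' : IsPullback ((𝔛.restrictOpen h𝔛 ((f : FSch.Hom 𝔛 𝔜).app 0 ⁻¹ᵁ U)).ι n ≫
      (𝔛.lvU h𝔛 (n + 1) ((f : FSch.Hom 𝔛 𝔜).app 0 ⁻¹ᵁ U)).ι)
      ((FSch.Hom.restrictOpen f h𝔛 h𝔜 U : FSch.Hom _ _).app n) ((f : FSch.Hom 𝔛 𝔜).app (n + 1))
      ((𝔜.restrictOpen h𝔜 U).ι n ≫ (𝔜.lvU h𝔜 (n + 1) U).ι) := by
    rw [e1, e2]; exact s
  exact IsPullback.of_right s' ((FSch.Hom.restrictOpen f h𝔛 h𝔜 U : FSch.Hom _ _).comm n).symm s2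

theorem isFinite_restrictOpen_app_zero [IsFinite ((f : FSch.Hom 𝔛 𝔜).app 0)] :
    IsFinite ((FSch.Hom.restrictOpen f h𝔛 h𝔜 U : FSch.Hom _ _).app 0) :=
  MorphismProperty.of_isPullback (P := @IsFinite) (isPullback_restrictOpen_app f h𝔛 h𝔜 U 0).flip
    inferInstance

theorem isFiniteHom_restrictOpen (hf : FSch.IsFiniteHom f) :
    FSch.IsFiniteHom (FSch.Hom.restrictOpen f h𝔛 h𝔜 U) := by
  have := hf.2
  exact ⟨isAdicHom_restrictOpen f h𝔛 h𝔜 U hf.1, isFinite_restrictOpen_app_zero f h𝔛 h𝔜 U⟩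

end RestrHom

end Groth.Agent.Helper6.FSchRestr
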