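import Groth.Agent.Lib.Helper6.FSchAdic
namespace Groth.Agent.Helper6.FSchLib
open AlgebraicGeometry CategoryTheory Limits Scheme.IdealSheafData
universe u

theorem ker_specMap_of_surjective {R R' : Type u} [CommRing R] [CommRing R'] (φ : R →+* R')
    (hφ : Function.Surjective φ) :
    (Spec.map (CommRingCat.ofHom φ)).ker = FSch.idealSpec R (RingHom.ker φ) := by
  let e : (R ⧸ RingHom.ker φ) ≃+* R' := RingHom.quotientKerEquivOfSurjective hφ
  have h1 : φ = (e : (R ⧸ RingHom.ker φ) →+* R').comp (Ideal.Quotient.mk (RingHom.ker φ)) := by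
    ext x; simp [e]
  have h2 : Spec.map (CommRingCat.ofHom φ) =
      Spec.map (CommRingCat.ofHom (e : (R ⧸ RingHom.ker φ) →+* R')) ≫
        Spec.map (CommRingCat.ofHom (Ideal.Quotient.mk (RingHom.ker φ))) := by
    rw [← Spec.map_comp, ← CommRingCat.ofHom_comp, ← h1]
  have : IsIso (Spec.map (CommRingCat.ofHom (e : (R ⧸ RingHom.ker φ) →+* R'))) := by
    have : IsIso (CommRingCat.ofHom (e : (R ⧸ RingHom.ker φ) →+* R')) :=
      (e.toCommRingCatIso).isIso_hom
    infer_instance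
  rw [h2, Scheme.Hom.ker_comp_of_isIso]
  rfl

theorem idealSpec_pow (R : Type u) [CommRing R] (J : Ideal R) (k : ℕ) :
    FSch.idealSpec R (J ^ k) = FSch.idealSpec R J ^ k := by
  apply Scheme.IdealSheafData.ext_of_isAffine
  rw [ideal_pow, Pi.pow_apply, IdealComap.idealSpec_ideal_top, IdealComap.idealSpec_ideal_top]
  let e : Γ(Spec (CommRingCat.of R), ⊤) ≃+* R := (Scheme.ΓSpecIso (CommRingCat.of R)).commRingCatIsoToRingEquiv
  change Ideal.comap e (J ^ k) = Ideal.comap e J ^ k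
  rw [← Ideal.map_symm, ← Ideal.map_symm, Ideal.map_pow]

section Spf
variable (A : Type u) [CommRing A] (I : Ideal A)

theorem spf_pow_le (n : ℕ) : I ^ (n + 1) ≤ I ^ (0 + 1) := Ideal.pow_le_pow_right (by omega)

theorem spf_toX (n : ℕ) : (FSch.spf A I).toX n =
    Spec.map (CommRingCat.ofHom (Ideal.Quotient.factor (spf_pow_le A I n))) := by
  induction n with
  | zero =>
    change 𝟙 _ = _
    rw [Ideal.Quotient.factor_eq]
    exact (Spec.map_id _).symm
  | succ n ih =>
    rw [toX_succ, ih]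
    change Spec.map _ ≫ Spec.map _ = _
    rw [← Spec.map_comp, ← CommRingCat.ofHom_comp, Ideal.Quotient.factor_comp]

/-- the transition ring map `A ⧸ I^(n+2) → A ⧸ I^(n+1)` -/
abbrev tr (n : ℕ) : A ⧸ I ^ (n + 2) →+* A ⧸ I ^ (n + 1) :=
  Ideal.Quotient.factor (Ideal.pow_le_pow_right (Nat.le_succ (n + 1)))

theorem spf_ι (n : ℕ) : (FSch.spf A I).ι n = Spec.map (CommRingCat.ofHom (tr A I n)) := rfl

theorem comap_tr_surjective (n : ℕ) : Function.Surjective (PrimeSpectrum.comap (tr A I n)) := by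
  have hsurj : Function.Surjective (tr A I n) := Ideal.Quotient.factor_surjective _
  intro q
  have hq : q ∈ Set.range (PrimeSpectrum.comap (tr A I n)) := by
    rw [range_comap_of_surjective _ _ hsurj, PrimeSpectrum.mem_zeroLocus,
      Ideal.Quotient.factor_ker]
    intro x hx
    apply q.isPrime.mem_of_pow_mem 2
    have h1 : x ^ 2 ∈ (Ideal.map (Ideal.Quotient.mk (I ^ (n + 2))) (I ^ (n + 1))) ^ 2 :=
      Ideal.pow_mem_pow hx 2
    rw [← Ideal.map_pow, ← pow_mul] at h1
    have h2 : I ^ ((n + 1) * 2) ≤ I ^ (n + 2) := Ideal.pow_le_pow_right (by omega)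
    have h3 := Ideal.map_mono (f := Ideal.Quotient.mk (I ^ (n + 2))) h2 h1
    rw [Ideal.map_quotient_self, Ideal.mem_bot] at h3
    rw [h3]
    exact q.asIdeal.zero_mem
  exact hq

theorem spf_isFormal : (FSch.spf A I).IsFormal := by
  intro n
  have hsurj : Function.Surjective (tr A I n) := Ideal.Quotient.factor_surjective _
  exact ⟨(IsClosedImmersion.spec_of_surjective (CommRingCat.ofHom (tr A I n)) hsurj : _),
    comap_tr_surjective A I n⟩

theorem spf_ker_ι (n : ℕ) : ((FSch.spf A I).ι n).ker =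
    FSch.idealSpec (A ⧸ I ^ (n + 2)) ((I ^ (n + 1)).map (Ideal.Quotient.mk (I ^ (n + 2)))) :=
  (ker_specMap_of_surjective (tr A I n) (Ideal.Quotient.factor_surjective _)).trans
    (congrArg (FSch.idealSpec (A ⧸ I ^ (n + 2))) (Ideal.Quotient.factor_ker _))

theorem spf_ker_toX (n : ℕ) : ((FSch.spf A I).toX n).ker =
    FSch.idealSpec (A ⧸ I ^ (n + 1)) ((I ^ (0 + 1)).map (Ideal.Quotient.mk (I ^ (n + 1)))) :=
  (congrArg Scheme.Hom.ker (spf_toX A I n)).trans
    ((ker_specMap_of_surjective (Ideal.Quotient.factor (spf_pow_le A I n))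
      (Ideal.Quotient.factor_surjective _)).trans
    (congrArg (FSch.idealSpec (A ⧸ I ^ (n + 1))) (Ideal.Quotient.factor_ker _)))

theorem spf_isAdic : (FSch.spf A I).IsAdic := by
  intro n
  have h1 : (I ^ (n + 1)).map (Ideal.Quotient.mk (I ^ (n + 2))) =
      ((I ^ (0 + 1)).map (Ideal.Quotient.mk (I ^ (n + 2)))) ^ (n + 1) := by
    rw [← Ideal.map_pow, ← pow_mul]; simp
  exact (spf_ker_ι A I n).trans ((congrArg (FSch.idealSpec (A ⧸ I ^ (n + 2))) h1).trans
    ((idealSpec_pow _ _ _).trans (congrArg (· ^ (n + 1)) (spf_ker_toX A I (n + 1)).symm)))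

theorem spf_isLocNoethFormal [IsNoetherianRing A] : (FSch.spf A I).IsLocNoethFormal :=
  ⟨spf_isFormal A I, spf_isAdic A I, fun n =>
    inferInstanceAs (IsLocallyNoetherian (Spec (CommRingCat.of (A ⧸ I ^ (n + 1)))))⟩

end Spf

end Groth.Agent.Helper6.FSchLib
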