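import Groth.Agent.Lib.Helper6.FSchLib
import Mathlib.RingTheory.Noetherian.OfPrime
namespace Groth.Agent.Helper6.FSchLib
open AlgebraicGeometry CategoryTheory Limits Scheme.IdealSheafData
universe u

theorem isNoetherianRing_of_nilpotent {A : Type*} [CommRing A] (K : Ideal A) (hK : K.FG)
    (hn : ∃ m : ℕ, K ^ m = ⊥) [IsNoetherianRing (A ⧸ K)] : IsNoetherianRing A := by
  apply IsNoetherianRing.of_prime
  intro P hP
  have hKP : K ≤ P := by
    obtain ⟨m, hm⟩ := hn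
    intro x hx
    apply hP.mem_of_pow_mem m
    have h1 : x ^ m ∈ K ^ m := Ideal.pow_mem_pow hx m
    rw [hm, Ideal.mem_bot] at h1
    rw [h1]; exact P.zero_mem
  apply Submodule.fg_of_fg_map_of_fg_inf_ker (Submodule.mkQ K)
  · have hfg : (Ideal.map (Ideal.Quotient.mk K) P).FG := IsNoetherian.noetherian _
    obtain ⟨t, ht⟩ := hfg
    refine ⟨t, ?_⟩
    have h2 := Submodule.restrictScalars_span A (A ⧸ K) Ideal.Quotient.mk_surjective (t : Set (A ⧸ K))
    rw [← h2]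
    ext y
    rw [Submodule.restrictScalars_mem]
    change y ∈ Ideal.span (t : Set (A ⧸ K)) ↔ _
    rw [ht, Ideal.mem_map_iff_of_surjective _ Ideal.Quotient.mk_surjective]
    rfl
  · rw [Submodule.ker_mkQ, inf_eq_right.mpr hKP]; exact hK

theorem isLocallyNoetherian_of_thickening {Z W : Scheme.{u}} (i : Z ⟶ W) [IsClosedImmersion i]
    [IsLocallyNoetherian Z] (hft : FSch.IdealFT i.ker) (hn : ∃ m : ℕ, i.ker ^ m = ⊥) :
    IsLocallyNoetherian W := by
  constructor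
  intro U
  have hK : (i.ker.ideal U).FG := hft U
  have hn' : ∃ m : ℕ, (i.ker.ideal U) ^ m = ⊥ := by
    obtain ⟨m, hm⟩ := hn
    refine ⟨m, ?_⟩
    have := congrArg (fun I => Scheme.IdealSheafData.ideal I U) hm
    simpa using this
  have hsurj : Function.Surjective (i.app U.1).hom := i.app_surjective U.1 U.2
  have hN : IsNoetherianRing Γ(Z, i ⁻¹ᵁ U.1) :=
    IsLocallyNoetherian.component_noetherian ⟨i ⁻¹ᵁ U.1, U.2.preimage i⟩
  have : IsNoetherianRing (Γ(W, U.1) ⧸ i.ker.ideal U) := by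
    rw [Scheme.Hom.ker_apply]
    exact isNoetherianRing_of_ringEquiv _ (RingHom.quotientKerEquivOfSurjective hsurj).symm
  exact isNoetherianRing_of_nilpotent _ hK hn'

theorem fg_of_nilpotent_of_fg_map {A : Type*} [CommRing A] (J : Ideal A) (hn : ∃ m : ℕ, J ^ m = ⊥)
    (n : ℕ) (hn1 : 1 ≤ n) (h : (J.map (Ideal.Quotient.mk (J ^ (n + 1)))).FG) : J.FG := by
  classical
  obtain ⟨t', ht'⟩ := h
  have hlift : ∀ y ∈ t', ∃ x ∈ J, Ideal.Quotient.mk (J ^ (n + 1)) x = y := by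
    intro y hy
    have : y ∈ J.map (Ideal.Quotient.mk (J ^ (n + 1))) := by
      rw [← ht']; exact Ideal.subset_span hy
    rwa [Ideal.mem_map_iff_of_surjective _ Ideal.Quotient.mk_surjective] at this
  choose! g hgJ hg using hlift
  set S : Ideal A := Ideal.span (g '' (t' : Set (A ⧸ J ^ (n + 1)))) with hS
  have hSJ : S ≤ J := by
    rw [hS, Ideal.span_le]
    rintro _ ⟨y, hy, rfl⟩
    exact hgJ y hy
  have h2 : J ≤ S ⊔ J ^ 2 := by
    intro x hx
    have hx' : Ideal.Quotient.mk (J ^ (n + 1)) x ∈ Ideal.span (t' : Set (A ⧸ J ^ (n + 1))) := by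
      rw [ht']; exact Ideal.mem_map_of_mem _ hx
    have hx'' : Ideal.Quotient.mk (J ^ (n + 1)) x ∈ S.map (Ideal.Quotient.mk (J ^ (n + 1))) := by
      rw [hS, Ideal.map_span]
      refine Ideal.span_mono ?_ hx'
      intro y hy
      exact ⟨g y, ⟨y, hy, rfl⟩, hg y hy⟩
    rw [Ideal.mem_map_iff_of_surjective _ Ideal.Quotient.mk_surjective] at hx''
    obtain ⟨s, hs, hsx⟩ := hx''
    have : x - s ∈ J ^ (n + 1) := by
      rw [← Ideal.Quotient.eq, hsx]
    have h3 : J ^ (n + 1) ≤ J ^ 2 := Ideal.pow_le_pow_right (by omega)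
    have : x = s + (x - s) := by ring
    rw [this]
    exact Ideal.add_mem _ (Ideal.mem_sup_left hs) (Ideal.mem_sup_right (h3 ‹_›))
  have hk : ∀ k : ℕ, J ≤ S ⊔ J ^ (k + 1) := by
    intro k
    induction k with
    | zero => simp
    | succ k ih =>
      have h4 : J ^ 2 ≤ S ⊔ J ^ (k + 1 + 1) := by
        rw [pow_two]
        calc J * J ≤ J * (S ⊔ J ^ (k + 1)) := Ideal.mul_mono_right ih
          _ = J * S ⊔ J * J ^ (k + 1) := Ideal.mul_sup _ _ _
          _ ≤ S ⊔ J ^ (k + 1 + 1) := by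
            refine sup_le_sup (Ideal.mul_le_right : J * S ≤ S) ?_
            rw [← pow_succ']
      exact h2.trans (sup_le le_sup_left h4)
  obtain ⟨m, hm⟩ := hn
  have hJS : J ≤ S := by
    have := hk m
    have h5 : J ^ (m + 1) = ⊥ := by rw [pow_succ, hm, Ideal.bot_mul]
    rwa [h5, sup_bot_eq] at this
  have : J = S := le_antisymm hJS hSJ
  rw [this, hS]
  exact ⟨(t'.image g), by simp⟩

/-- `(f.ker).comap f = ⊥`. -/
theorem comap_ker_self {X Y : Scheme.{u}} (f : X ⟶ Y) : f.ker.comap f = ⊥ := by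
  have := comap_map_le (⊥ : X.IdealSheafData) f
  rwa [map_bot, le_bot_iff] at this

theorem idealFT_pow {X : Scheme.{u}} (𝓘 : X.IdealSheafData) (h : FSch.IdealFT 𝓘) (k : ℕ) :
    FSch.IdealFT (𝓘 ^ k) := by
  intro U
  rw [ideal_pow, Pi.pow_apply]
  exact Submodule.FG.pow (h U) k

/-- Step: `i : Z ⟶ W` closed immersion with `Z` locally Noetherian, `𝓙` a nilpotent ideal sheaf on `W`
with `ker i = 𝓙^(n+1)`, `n ≥ 1`. Then `𝓙` is of finite type. -/
theorem idealFT_of_ker_eq_pow {Z W : Scheme.{u}} (i : Z ⟶ W) [IsClosedImmersion i]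
    [IsLocallyNoetherian Z] (𝓙 : W.IdealSheafData) (hn : ∃ m : ℕ, 𝓙 ^ m = ⊥) (n : ℕ) (hn1 : 1 ≤ n)
    (hker : i.ker = 𝓙 ^ (n + 1)) : FSch.IdealFT 𝓙 := by
  intro U
  have hn' : ∃ m : ℕ, (𝓙.ideal U) ^ m = ⊥ := by
    obtain ⟨m, hm⟩ := hn
    refine ⟨m, ?_⟩
    have := congrArg (fun I => Scheme.IdealSheafData.ideal I U) hm
    simpa using this
  have hsurj : Function.Surjective (i.app U.1).hom := i.app_surjective U.1 U.2
  have hN : IsNoetherianRing Γ(Z, i ⁻¹ᵁ U.1) :=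
    IsLocallyNoetherian.component_noetherian ⟨i ⁻¹ᵁ U.1, U.2.preimage i⟩
  have hK : i.ker.ideal U = (𝓙.ideal U) ^ (n + 1) := by
    rw [hker, ideal_pow, Pi.pow_apply]
  have : IsNoetherianRing (Γ(W, U.1) ⧸ (𝓙.ideal U) ^ (n + 1)) := by
    rw [← hK, Scheme.Hom.ker_apply]
    exact isNoetherianRing_of_ringEquiv _ (RingHom.quotientKerEquivOfSurjective hsurj).symm
  exact fg_of_nilpotent_of_fg_map _ hn' n hn1 (IsNoetherian.noetherian _)

section Sys
variable (𝔛 : FSch.Sys.{u})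

theorem toX_succ (n : ℕ) : 𝔛.toX (n + 1) = 𝔛.toX n ≫ 𝔛.ι n := rfl

theorem toX_isClosedImmersion (hF : 𝔛.IsFormal) (n : ℕ) : IsClosedImmersion (𝔛.toX n) := by
  induction n with
  | zero => exact inferInstanceAs (IsClosedImmersion (𝟙 _))
  | succ n ih =>
    have := (hF n).1
    rw [toX_succ]
    infer_instance

theorem ker_toX_eq_comap (hF : 𝔛.IsFormal) (n : ℕ) :
    (𝔛.toX n).ker = (𝔛.toX (n + 1)).ker.comap (𝔛.ι n) := by
  have := (hF n).1
  have := toX_isClosedImmersion 𝔛 hF n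
  exact ker_eq_comap_ker_comp (𝔛.toX n) (𝔛.ι n)

theorem ker_toX_pow (hF : 𝔛.IsFormal) (hA : 𝔛.IsAdic) (n : ℕ) : (𝔛.toX n).ker ^ (n + 1) = ⊥ := by
  rw [ker_toX_eq_comap 𝔛 hF n, ← IdealComap.comap_pow, ← hA n, comap_ker_self]

theorem isLocallyNoetherian_of_isAdic (hF : 𝔛.IsFormal) (hA : 𝔛.IsAdic)
    [IsLocallyNoetherian (𝔛.X 0)] (hft : FSch.IdealFT (𝔛.ι 0).ker) (n : ℕ) :
    IsLocallyNoetherian (𝔛.X n) := by
  induction n with
  | zero => infer_instance
  | succ n ih =>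
    have := (hF n).1
    have hnil : ∃ m : ℕ, (𝔛.toX (n + 1)).ker ^ m = ⊥ := ⟨_, ker_toX_pow 𝔛 hF hA (n + 1)⟩
    have hft' : FSch.IdealFT (𝔛.ι n).ker := by
      rcases Nat.eq_zero_or_pos n with rfl | hpos
      · exact hft
      · rw [hA n]
        exact idealFT_pow _ (idealFT_of_ker_eq_pow (𝔛.ι n) _ hnil n hpos (hA n)) _
    refine isLocallyNoetherian_of_thickening (𝔛.ι n) hft' ⟨n + 1 + 1, ?_⟩
    rw [hA n, ← pow_mul, mul_comm, pow_mul, ker_toX_pow 𝔛 hF hA (n + 1)]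
    exact zero_pow (M₀ := (𝔛.X (n + 1)).IdealSheafData) (by omega)
end Sys

end Groth.Agent.Helper6.FSchLib
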