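import Groth.Agent.Lib.Helper6.ComplMapLib

set_option autoImplicit false
universe u

namespace Groth.Agent.Lib.Helper6.FStalk

open FSch Groth.Agent.Lib.Helper6.ComplMapLib

section General

variable {S T : Type u} [CommRing S] [CommRing T] (I : Ideal S) (K : Ideal T)

theorem complMap_congr {g g' : S →+* T} (hg : g = g') (h : I.map g ≤ K) (h' : I.map g' ≤ K)
    (x : AdicCompletion I S) : complMap I K g h x = complMap I K g' h' x := by
  subst hg; rfl

theorem evalOneₐ_complMap (g : S →+* T) (h : I.map g ≤ K) (x : AdicCompletion I S) :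
    AdicCompletion.evalOneₐ K (complMap I K g h x) =
      Ideal.quotientMap K g (Ideal.map_le_iff_le_comap.mp h) (AdicCompletion.evalOneₐ I x) := by
  obtain ⟨r, hr⟩ := Ideal.Quotient.mk_surjective (AdicCompletion.evalₐ I 1 x)
  rw [← AdicCompletion.factorₐ_evalₐ_one, ← AdicCompletion.factorₐ_evalₐ_one, evalₐ_complMap, ← hr,
    Ideal.quotientMap_mk, Ideal.Quotient.factor_mk, Ideal.Quotient.factor_mk, Ideal.quotientMap_mk]

end General

section Stalk

variable (A : Type u) [CommRing A] (J : Ideal A) (𝔭 : Ideal A) [𝔭.IsPrime]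

theorem awayToAtPrime_comp (f : A) (hf : f ∉ 𝔭) :
    (awayToAtPrime A 𝔭 f hf).comp (algebraMap A (Localization.Away f)) =
      algebraMap A (Localization.AtPrime 𝔭) :=
  IsLocalization.Away.lift_comp f _

theorem map_le_of_comp {f f' : A} (ψ : Localization.Away f →+* Localization.Away f')
    (hψ : ψ.comp (algebraMap A (Localization.Away f)) = algebraMap A (Localization.Away f')) :
    (J.map (algebraMap A (Localization.Away f))).map ψ ≤ J.map (algebraMap A (Localization.Away f')) := by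
  rw [Ideal.map_map, hψ]

theorem awayToAtPrime_comp_of_comp {f f' : A} (hf : f ∉ 𝔭) (hf' : f' ∉ 𝔭)
    (ψ : Localization.Away f →+* Localization.Away f')
    (hψ : ψ.comp (algebraMap A (Localization.Away f)) = algebraMap A (Localization.Away f')) :
    (awayToAtPrime A 𝔭 f' hf').comp ψ = awayToAtPrime A 𝔭 f hf := by
  apply IsLocalization.ringHom_ext (Submonoid.powers f)
  rw [RingHom.comp_assoc, hψ, awayToAtPrime_comp, awayToAtPrime_comp]

theorem cAwayToAtPrime_complMap {f f' : A} (hf : f ∉ 𝔭) (hf' : f' ∉ 𝔭)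
    (ψ : Localization.Away f →+* Localization.Away f')
    (hψ : ψ.comp (algebraMap A (Localization.Away f)) = algebraMap A (Localization.Away f'))
    (x : cAway A J f) :
    cAwayToAtPrime A J 𝔭 f' hf' (complMap _ _ ψ (map_le_of_comp A J ψ hψ) x) =
      cAwayToAtPrime A J 𝔭 f hf x := by
  unfold cAwayToAtPrime
  rw [complMap_comp (h'' := by
    rw [awayToAtPrime_comp_of_comp A 𝔭 hf hf' ψ hψ]; exact map_awayToAtPrime_le A J 𝔭 f hf)]
  exact complMap_congr _ _ (awayToAtPrime_comp_of_comp A 𝔭 hf hf' ψ hψ) _ _ x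

theorem range_le_of_comp {f f' : A} (hf : f ∉ 𝔭) (hf' : f' ∉ 𝔭)
    (ψ : Localization.Away f →+* Localization.Away f')
    (hψ : ψ.comp (algebraMap A (Localization.Away f)) = algebraMap A (Localization.Away f')) :
    (cAwayToAtPrime A J 𝔭 f hf).range ≤ (cAwayToAtPrime A J 𝔭 f' hf').range := by
  rintro _ ⟨x, rfl⟩
  exact ⟨_, cAwayToAtPrime_complMap A J 𝔭 hf hf' ψ hψ x⟩

/-- The transition map `A_f → A_{f g}`. -/
noncomputable def awayMul (f g : A) : Localization.Away f →+* Localization.Away (f * g) :=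
  IsLocalization.Away.lift f (g := algebraMap A (Localization.Away (f * g)))
    (by
      have h := IsLocalization.Away.algebraMap_isUnit (S := Localization.Away (f * g)) (f * g)
      rw [map_mul] at h
      exact isUnit_of_mul_isUnit_left h)

theorem awayMul_comp (f g : A) :
    (awayMul A f g).comp (algebraMap A (Localization.Away f)) =
      algebraMap A (Localization.Away (f * g)) :=
  IsLocalization.Away.lift_comp f _

/-- The transition map `A_g → A_{f g}`. -/
noncomputable def awayMul' (f g : A) : Localization.Away g →+* Localization.Away (f * g) :=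
  IsLocalization.Away.lift g (g := algebraMap A (Localization.Away (f * g)))
    (by
      have h := IsLocalization.Away.algebraMap_isUnit (S := Localization.Away (f * g)) (f * g)
      rw [map_mul] at h
      exact isUnit_of_mul_isUnit_right h)

theorem awayMul'_comp (f g : A) :
    (awayMul' A f g).comp (algebraMap A (Localization.Away g)) =
      algebraMap A (Localization.Away (f * g)) :=
  IsLocalization.Away.lift_comp g _

theorem directed_range :
    Directed (· ≤ ·) (fun f : {f : A // f ∉ 𝔭} => (cAwayToAtPrime A J 𝔭 f.1 f.2).range) := by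
  intro f g
  have hfg : f.1 * g.1 ∉ 𝔭 := fun h => (Ideal.IsPrime.mem_or_mem ‹_› h).elim f.2 g.2
  exact ⟨⟨f.1 * g.1, hfg⟩,
    range_le_of_comp A J 𝔭 f.2 hfg (awayMul A f.1 g.1) (awayMul_comp A f.1 g.1),
    range_le_of_comp A J 𝔭 g.2 hfg (awayMul' A f.1 g.1) (awayMul'_comp A f.1 g.1)⟩

instance : Nonempty {f : A // f ∉ 𝔭} := ⟨⟨1, Ideal.IsPrime.one_notMem ‹_›⟩⟩

theorem mem_stalkSubring_iff (x : cAtPrime A J 𝔭) :
    x ∈ stalkSubring A J 𝔭 ↔ ∃ (f : A) (hf : f ∉ 𝔭) (y : cAway A J f),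
      cAwayToAtPrime A J 𝔭 f hf y = x := by
  unfold stalkSubring
  rw [Subring.mem_iSup_of_directed (directed_range A J 𝔭)]
  constructor
  · rintro ⟨f, y, hy⟩
    exact ⟨f.1, f.2, y, hy⟩
  · rintro ⟨f, hf, y, hy⟩
    exact ⟨⟨f, hf⟩, y, hy⟩

theorem map_le_maximalIdeal (hJ : J ≤ 𝔭) :
    J.map (algebraMap A (Localization.AtPrime 𝔭)) ≤
      IsLocalRing.maximalIdeal (Localization.AtPrime 𝔭) := by
  rw [← Localization.AtPrime.map_eq_maximalIdeal]
  exact Ideal.map_mono hJ

theorem map_ne_top (hJ : J ≤ 𝔭) : J.map (algebraMap A (Localization.AtPrime 𝔭)) ≠ ⊤ := by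
  intro h
  have h1 := map_le_maximalIdeal A J 𝔭 hJ
  rw [h, top_le_iff] at h1
  exact (IsLocalRing.maximalIdeal.isMaximal _).ne_top h1

theorem isUnit_of_isUnit_mk (hJ : J ≤ 𝔭) (w : Localization.AtPrime 𝔭)
    (hw : IsUnit (Ideal.Quotient.mk (J.map (algebraMap A (Localization.AtPrime 𝔭))) w)) :
    IsUnit w := by
  rw [← IsLocalRing.notMem_maximalIdeal]
  intro hmem
  have hne := map_ne_top A J 𝔭 hJ
  have : Nontrivial (Localization.AtPrime 𝔭 ⧸ J.map (algebraMap A (Localization.AtPrime 𝔭))) :=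
    Ideal.Quotient.nontrivial_iff.mpr hne
  obtain ⟨v, hv⟩ := hw.exists_right_inv
  obtain ⟨v', rfl⟩ := Ideal.Quotient.mk_surjective v
  rw [← map_mul, ← map_one (Ideal.Quotient.mk _), Ideal.Quotient.eq] at hv
  have h1 : w * v' - 1 ∈ IsLocalRing.maximalIdeal (Localization.AtPrime 𝔭) :=
    map_le_maximalIdeal A J 𝔭 hJ hv
  have h2 : w * v' ∈ IsLocalRing.maximalIdeal (Localization.AtPrime 𝔭) :=
    Ideal.mul_mem_right _ _ hmem
  have h3 : (1 : Localization.AtPrime 𝔭) ∈ IsLocalRing.maximalIdeal (Localization.AtPrime 𝔭) := by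
    have := Ideal.sub_mem _ h2 h1
    rwa [sub_sub_cancel] at this
  exact (IsLocalRing.maximalIdeal.isMaximal _).ne_top ((Ideal.eq_top_iff_one _).2 h3)

theorem exists_unit_lift (hJ : J ≤ 𝔭) (f : A) (hf : f ∉ 𝔭) (x : cAway A J f)
    (hu : IsUnit (cAwayToAtPrime A J 𝔭 f hf x)) :
    ∃ (f' : A) (hf' : f' ∉ 𝔭) (x' : cAway A J f'), IsUnit x' ∧
      cAwayToAtPrime A J 𝔭 f' hf' x' = cAwayToAtPrime A J 𝔭 f hf x := by
  obtain ⟨z, hz⟩ := Ideal.Quotient.mk_surjective (AdicCompletion.evalOneₐ _ x)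
  obtain ⟨n, a, hza⟩ := IsLocalization.Away.surj f z
  have hu1 : IsUnit (Ideal.Quotient.mk (J.map (algebraMap A (Localization.AtPrime 𝔭)))
      (awayToAtPrime A 𝔭 f hf z)) := by
    have h1 := hu.map (AdicCompletion.evalOneₐ (J.map (algebraMap A (Localization.AtPrime 𝔭))))
    unfold cAwayToAtPrime at h1
    rw [evalOneₐ_complMap, ← hz, Ideal.quotientMap_mk] at h1
    exact h1
  have hu2 : IsUnit (awayToAtPrime A 𝔭 f hf z) := isUnit_of_isUnit_mk A J 𝔭 hJ _ hu1
  have hfu : IsUnit (algebraMap A (Localization.AtPrime 𝔭) f) :=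
    IsLocalization.map_units (Localization.AtPrime 𝔭) ⟨f, show f ∈ 𝔭.primeCompl from hf⟩
  have ha : a ∉ 𝔭 := by
    have h1 := congrArg (awayToAtPrime A 𝔭 f hf) hza
    have e : ∀ b : A, awayToAtPrime A 𝔭 f hf (algebraMap A (Localization.Away f) b) =
        algebraMap A (Localization.AtPrime 𝔭) b := fun b => IsLocalization.Away.lift_eq f _ b
    rw [map_mul, map_pow, e, e] at h1
    have h2 : IsUnit (algebraMap A (Localization.AtPrime 𝔭) a) := by
      rw [← h1]
      exact hu2.mul (hfu.pow n)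
    exact (IsLocalization.AtPrime.isUnit_to_map_iff (Localization.AtPrime 𝔭) 𝔭 a).1 h2
  have hfa : f * a ∉ 𝔭 := fun h => (Ideal.IsPrime.mem_or_mem ‹_› h).elim hf ha
  refine ⟨f * a, hfa, complMap _ _ (awayMul A f a) (map_le_of_comp A J _ (awayMul_comp A f a)) x,
    ?_, cAwayToAtPrime_complMap A J 𝔭 hf hfa _ (awayMul_comp A f a) x⟩
  rw [isUnit_iff_isUnit_evalOneₐ, evalOneₐ_complMap, ← hz, Ideal.quotientMap_mk]
  apply IsUnit.map
  have h1 := congrArg (awayMul A f a) hza
  have e : ∀ b : A, awayMul A f a (algebraMap A (Localization.Away f) b) =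
      algebraMap A (Localization.Away (f * a)) b := fun b => IsLocalization.Away.lift_eq f _ b
  rw [map_mul, map_pow, e, e] at h1
  have h2 : IsUnit (algebraMap A (Localization.Away (f * a)) a) := by
    have h := IsLocalization.Away.algebraMap_isUnit (S := Localization.Away (f * a)) (f * a)
    rw [map_mul] at h
    exact isUnit_of_mul_isUnit_right h
  rw [← h1] at h2
  exact isUnit_of_mul_isUnit_left h2

theorem isLocalRing_cAtPrime (hJ : J ≤ 𝔭) : IsLocalRing (cAtPrime A J 𝔭) := by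
  have hne := map_ne_top A J 𝔭 hJ
  have : Nontrivial (Localization.AtPrime 𝔭 ⧸ J.map (algebraMap A (Localization.AtPrime 𝔭))) :=
    Ideal.Quotient.nontrivial_iff.mpr hne
  have : IsLocalRing (Localization.AtPrime 𝔭 ⧸ J.map (algebraMap A (Localization.AtPrime 𝔭))) :=
    IsLocalRing.of_surjective' (Ideal.Quotient.mk _) Ideal.Quotient.mk_surjective
  have : IsLocalHom (AdicCompletion.evalOneₐ
      (J.map (algebraMap A (Localization.AtPrime 𝔭)))).toRingHom :=
    ⟨fun x hx => (isUnit_iff_isUnit_evalOneₐ _ x).2 hx⟩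
  exact RingHom.domain_isLocalRing (AdicCompletion.evalOneₐ
      (J.map (algebraMap A (Localization.AtPrime 𝔭)))).toRingHom

theorem isLocalHom_subtype (hJ : J ≤ 𝔭) : IsLocalHom (stalkSubring A J 𝔭).subtype := by
  refine ⟨fun b hb => ?_⟩
  obtain ⟨f, hf, y, hy⟩ := (mem_stalkSubring_iff A J 𝔭 b.1).1 b.2
  have hb' : IsUnit (cAwayToAtPrime A J 𝔭 f hf y) := by rw [hy]; exact hb
  obtain ⟨f', hf', x', hx', hxy⟩ := exists_unit_lift A J 𝔭 hJ f hf y hb'
  obtain ⟨y', hy'⟩ := hx'.exists_right_inv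
  have hc : cAwayToAtPrime A J 𝔭 f' hf' y' ∈ stalkSubring A J 𝔭 :=
    (mem_stalkSubring_iff A J 𝔭 _).2 ⟨f', hf', y', rfl⟩
  refine IsUnit.of_mul_eq_one ⟨_, hc⟩ ?_
  apply Subtype.ext
  show b.1 * cAwayToAtPrime A J 𝔭 f' hf' y' = 1
  rw [← hy, ← hxy, ← map_mul, hy', map_one]

theorem isLocalRing_stalkSubring (hJ : J ≤ 𝔭) : IsLocalRing (stalkSubring A J 𝔭) := by
  have := isLocalRing_cAtPrime A J 𝔭 hJ
  have := isLocalHom_subtype A J 𝔭 hJ
  exact RingHom.domain_isLocalRing (stalkSubring A J 𝔭).subtype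

theorem of_mem_stalkSubring (w : Localization.AtPrime 𝔭) :
    AdicCompletion.of (J.map (algebraMap A (Localization.AtPrime 𝔭))) (Localization.AtPrime 𝔭) w ∈
      stalkSubring A J 𝔭 := by
  obtain ⟨⟨a, s⟩, rfl⟩ := IsLocalization.mk'_surjective 𝔭.primeCompl w
  have hs : s.1 ∉ 𝔭 := s.2
  rw [mem_stalkSubring_iff]
  refine ⟨s.1, hs, AdicCompletion.of _ _
    (IsLocalization.mk' (Localization.Away s.1) a ⟨s.1, Submonoid.mem_powers s.1⟩), ?_⟩
  unfold cAwayToAtPrime
  rw [complMap_of]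
  congr 1
  rw [IsLocalization.eq_mk'_iff_mul_eq]
  have e : ∀ b : A, awayToAtPrime A 𝔭 s.1 hs (algebraMap A (Localization.Away s.1) b) =
      algebraMap A (Localization.AtPrime 𝔭) b := fun b => IsLocalization.Away.lift_eq s.1 _ b
  rw [← e s.1, ← map_mul, ← e a]
  congr 1
  exact IsLocalization.mk'_spec _ a ⟨s.1, Submonoid.mem_powers s.1⟩

theorem exists_sub_of_mem_maximalIdeal (hJ : J ≤ 𝔭) [IsLocalRing (cAtPrime A J 𝔭)]
    (x : cAtPrime A J 𝔭) :
    ∃ w : Localization.AtPrime 𝔭, x - AdicCompletion.of _ _ w ∈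
      IsLocalRing.maximalIdeal (cAtPrime A J 𝔭) := by
  obtain ⟨w, hw⟩ := Ideal.Quotient.mk_surjective (AdicCompletion.evalOneₐ _ x)
  refine ⟨w, ?_⟩
  rw [IsLocalRing.mem_maximalIdeal]
  intro hu
  have h1 := hu.map (AdicCompletion.evalOneₐ (J.map (algebraMap A (Localization.AtPrime 𝔭))))
  rw [map_sub, AdicCompletion.evalOneₐ_of, ← hw, sub_self] at h1
  have hne := map_ne_top A J 𝔭 hJ
  have : Nontrivial (Localization.AtPrime 𝔭 ⧸ J.map (algebraMap A (Localization.AtPrime 𝔭))) :=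
    Ideal.Quotient.nontrivial_iff.mpr hne
  exact not_isUnit_zero h1

theorem residue_map_subtype_surjective (hJ : J ≤ 𝔭) [IsLocalRing (stalkSubring A J 𝔭)]
    [IsLocalRing (cAtPrime A J 𝔭)] [IsLocalHom (stalkSubring A J 𝔭).subtype] :
    Function.Surjective (IsLocalRing.ResidueField.map (stalkSubring A J 𝔭).subtype) := by
  intro r
  obtain ⟨x, rfl⟩ := IsLocalRing.residue_surjective r
  obtain ⟨w, hw⟩ := exists_sub_of_mem_maximalIdeal A J 𝔭 hJ x
  refine ⟨IsLocalRing.residue _ ⟨_, of_mem_stalkSubring A J 𝔭 w⟩, ?_⟩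
  rw [IsLocalRing.ResidueField.map_residue]
  symm
  rw [← sub_eq_zero, ← map_sub]
  exact (IsLocalRing.residue_eq_zero_iff _).2 hw

theorem residue_map_algebraMap_surjective (hJ : J ≤ 𝔭)
    [IsLocalRing (cAtPrime A J 𝔭)]
    [IsLocalHom (algebraMap (Localization.AtPrime 𝔭) (cAtPrime A J 𝔭))] :
    Function.Surjective (IsLocalRing.ResidueField.map
      (algebraMap (Localization.AtPrime 𝔭) (cAtPrime A J 𝔭))) := by
  intro r
  obtain ⟨x, rfl⟩ := IsLocalRing.residue_surjective r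
  obtain ⟨w, hw⟩ := exists_sub_of_mem_maximalIdeal A J 𝔭 hJ x
  refine ⟨IsLocalRing.residue _ w, ?_⟩
  rw [IsLocalRing.ResidueField.map_residue]
  symm
  rw [← sub_eq_zero, ← map_sub]
  exact (IsLocalRing.residue_eq_zero_iff _).2 hw

end Stalk

end Groth.Agent.Lib.Helper6.FStalk
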