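import Groth.Agent.Lib.Helper6.FStalk
import Groth.Agent.Lib.Helper6.ComplFlat

set_option autoImplicit false
universe u

namespace Groth.Agent.Lib.Helper6.FStalkFlat

open FSch Groth.Agent.Lib.Helper6.ComplMapLib Groth.Agent.Lib.Helper6.FStalk
  Groth.Agent.Lib.Helper6.ComplFlat

variable (A : Type u) [CommRing A] (J : Ideal A) (𝔭 : Ideal A) [𝔭.IsPrime]

theorem flat_cAway [IsNoetherianRing A] (f : A) (hf : f ∉ 𝔭) :
    @Module.Flat (cAway A J f) (cAtPrime A J 𝔭) _ _
      (cAwayToAtPrime A J 𝔭 f hf).toAlgebra.toModule := by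
  letI : Algebra (Localization.Away f) (Localization.AtPrime 𝔭) :=
    (awayToAtPrime A 𝔭 f hf).toAlgebra
  have hst : IsScalarTower A (Localization.Away f) (Localization.AtPrime 𝔭) :=
    IsScalarTower.of_algebraMap_eq
      (fun a => (RingHom.congr_fun (awayToAtPrime_comp A 𝔭 f hf) a).symm)
  have hle : Submonoid.powers f ≤ 𝔭.primeCompl := by
    rw [Submonoid.powers_le]
    exact hf
  have hloc : IsLocalization (Submonoid.map (algebraMap A (Localization.Away f)) 𝔭.primeCompl)
      (Localization.AtPrime 𝔭) :=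
    IsLocalization.isLocalization_of_submonoid_le (Localization.Away f) (Localization.AtPrime 𝔭)
      (Submonoid.powers f) 𝔭.primeCompl hle
  have hflat : Module.Flat (Localization.Away f) (Localization.AtPrime 𝔭) :=
    IsLocalization.flat _ (Submonoid.map (algebraMap A (Localization.Away f)) 𝔭.primeCompl)
  have hN : IsNoetherianRing (Localization.Away f) :=
    IsLocalization.isNoetherianRing (Submonoid.powers f) _ ‹_›
  have hK : (J.map (algebraMap A (Localization.Away f))).map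
      (algebraMap (Localization.Away f) (Localization.AtPrime 𝔭)) =
      J.map (algebraMap A (Localization.AtPrime 𝔭)) := by
    rw [Ideal.map_map, ← IsScalarTower.algebraMap_eq]
  exact flat_complMap (J.map (algebraMap A (Localization.Away f)))
    (J.map (algebraMap A (Localization.AtPrime 𝔭))) hK (map_awayToAtPrime_le A J 𝔭 f hf)

theorem flat_stalkSubring [IsNoetherianRing A] :
    Module.Flat (stalkSubring A J 𝔭) (cAtPrime A J 𝔭) := by
  classical
  rw [Module.Flat.iff_forall_isTrivialRelation]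
  intro l f x hrel
  have h1 : ∀ i, ∃ (g : {g : A // g ∉ 𝔭}) (r : cAway A J g.1),
      cAwayToAtPrime A J 𝔭 g.1 g.2 r = (f i).1 := by
    intro i
    obtain ⟨g, hg, r, hr⟩ := (mem_stalkSubring_iff A J 𝔭 (f i).1).1 (f i).2
    exact ⟨⟨g, hg⟩, r, hr⟩
  choose g r hr using h1
  obtain ⟨z, hz⟩ := (directed_range A J 𝔭).finset_le (Finset.univ.image g)
  have h2 : ∀ i, ∃ r' : cAway A J z.1, cAwayToAtPrime A J 𝔭 z.1 z.2 r' = (f i).1 := by
    intro i
    exact hz (g i) (Finset.mem_image_of_mem g (Finset.mem_univ i)) ⟨r i, hr i⟩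
  choose r' hr' using h2
  letI : Algebra (cAway A J z.1) (cAtPrime A J 𝔭) := (cAwayToAtPrime A J 𝔭 z.1 z.2).toAlgebra
  have hflat : Module.Flat (cAway A J z.1) (cAtPrime A J 𝔭) := flat_cAway A J 𝔭 z.1 z.2
  have hsmul : ∀ (a : cAway A J z.1) (y : cAtPrime A J 𝔭),
      a • y = cAwayToAtPrime A J 𝔭 z.1 z.2 a * y := fun a y => rfl
  have hsmul' : ∀ (b : stalkSubring A J 𝔭) (y : cAtPrime A J 𝔭), b • y = b.1 * y := fun b y => rfl
  have hrel' : ∑ i, r' i • x i = 0 := by
    rw [← hrel]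
    refine Finset.sum_congr rfl fun i _ => ?_
    rw [hsmul, hsmul', hr']
  have htriv : Module.IsTrivialRelation r' x :=
    Module.Flat.isTrivialRelation_of_sum_smul_eq_zero hrel'
  obtain ⟨k, a, y, hxy, hfa⟩ := htriv
  have hmem : ∀ i j, cAwayToAtPrime A J 𝔭 z.1 z.2 (a i j) ∈ stalkSubring A J 𝔭 := fun i j =>
    (mem_stalkSubring_iff A J 𝔭 _).2 ⟨z.1, z.2, a i j, rfl⟩
  refine ⟨k, fun i j => ⟨cAwayToAtPrime A J 𝔭 z.1 z.2 (a i j), hmem i j⟩, y, ?_, ?_⟩
  · intro i
    rw [hxy i]
    refine Finset.sum_congr rfl fun j _ => ?_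
    rw [hsmul, hsmul']
  · intro j
    apply Subtype.ext
    have h3 := congrArg (cAwayToAtPrime A J 𝔭 z.1 z.2) (hfa j)
    rw [map_sum, map_zero] at h3
    rw [Subring.coe_zero, ← h3]
    push_cast
    refine Finset.sum_congr rfl fun i _ => ?_
    rw [map_mul, hr']

theorem faithfullyFlat_stalkSubring [IsNoetherianRing A] (hJ : J ≤ 𝔭) :
    Module.FaithfullyFlat (stalkSubring A J 𝔭) (cAtPrime A J 𝔭) := by
  have := isLocalRing_cAtPrime A J 𝔭 hJ
  have := isLocalRing_stalkSubring A J 𝔭 hJ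
  have := flat_stalkSubring A J 𝔭
  have : IsLocalHom (algebraMap (stalkSubring A J 𝔭) (cAtPrime A J 𝔭)) :=
    isLocalHom_subtype A J 𝔭 hJ
  exact Module.FaithfullyFlat.of_flat_of_isLocalHom

theorem isNoetherianRing_cAtPrime [IsNoetherianRing A] : IsNoetherianRing (cAtPrime A J 𝔭) := by
  have hN : IsNoetherianRing (Localization.AtPrime 𝔭) :=
    IsLocalization.isNoetherianRing 𝔭.primeCompl _ ‹_›
  exact Groth.Agent.Helper1.isNoetherianRing_adicCompletion_of_fg _ _
    (IsNoetherian.noetherian _)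

theorem isNoetherianRing_stalkSubring [IsNoetherianRing A] (hJ : J ≤ 𝔭) :
    IsNoetherianRing (stalkSubring A J 𝔭) := by
  have := faithfullyFlat_stalkSubring A J 𝔭 hJ
  have hN := isNoetherianRing_cAtPrime A J 𝔭
  have hmono : StrictMono (Ideal.map (algebraMap (stalkSubring A J 𝔭) (cAtPrime A J 𝔭))) :=
    Monotone.strictMono_of_injective (fun _ _ h => Ideal.map_mono h)
      Ideal.map_injective_of_faithfullyFlat
  have hwf : WellFoundedGT (Ideal (cAtPrime A J 𝔭)) := isNoetherian_iff'.1 hN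
  exact isNoetherian_iff'.2 hmono.wellFoundedGT

end Groth.Agent.Lib.Helper6.FStalkFlat
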