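import Mathlib
import Groth.Agent.Lib.Helper7.NormalSections

/-!
# Fibrations (`O_Y ≅ f_* O_X`) and flat base change; descent of normality (helper6)
-/

set_option autoImplicit false
set_option linter.unusedSectionVars false
set_option linter.style.haveILetI false
universe u
open CategoryTheory CategoryTheory.Limits AlgebraicGeometry TopologicalSpace

namespace Groth.Agent.Helper6.FibBC

open Groth.Agent.Helper7.NormalSections Groth.Agent.Helper7.NormalConn

/-- local version of helper7's `isNormalScheme_of_app_isIso`: normality descends along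
`f : X ⟶ Y` as soon as every point of `Y` has an affine open neighbourhood `V` with
`Γ(Y, V) ≅ Γ(X, f⁻¹ V)`. -/
theorem isNormalScheme_of_app_isIso' {X Y : Scheme.{u}} (f : X ⟶ Y) [NoetherianSpace X]
    [IsLocallyNoetherian Y]
    (hfib : ∀ y : Y, ∃ V : Y.Opens, IsAffineOpen V ∧ y ∈ V ∧ IsIso (f.app V))
    (hX : Pi1.IsNormalScheme X) : Pi1.IsNormalScheme Y := by
  intro y
  obtain ⟨V, hV, hyV, hiso⟩ := hfib y
  haveI : IsNoetherianRing Γ(Y, V) := IsLocallyNoetherian.component_noetherian ⟨V, hV⟩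
  haveI := hiso
  let e : Γ(Y, V) ≃+* Γ(X, f ⁻¹ᵁ V) := (asIso (f.app V)).commRingCatIsoToRingEquiv
  haveI : IsNoetherianRing Γ(X, f ⁻¹ᵁ V) := isNoetherianRing_of_ringEquiv _ e
  have hC : EGA4.IsNormalRing Γ(X, f ⁻¹ᵁ V) :=
    isNormalRing_sections X hX _ (minimalPrimes.finite_of_isNoetherianRing _)
  letI := Y.presheaf.algebra_section_stalk ⟨y, hyV⟩
  haveI := hV.isLocalization_stalk ⟨y, hyV⟩
  set p := (hV.primeIdealOf ⟨y, hyV⟩).asIdeal with hp
  obtain ⟨h1, h2⟩ := hC (p.comap e.symm)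
  let g : Localization.AtPrime (p.comap e.symm) ≃+* Localization.AtPrime p :=
    IsLocalization.ringEquivOfRingEquiv (Localization.AtPrime (p.comap e.symm))
      (Localization.AtPrime p) e.symm (e.symm.map_primeCompl_comap_eq p)
  let g' : Localization.AtPrime p ≃+* Y.presheaf.stalk y :=
    (IsLocalization.algEquiv p.primeCompl (Localization.AtPrime p)
      (Y.presheaf.stalk y)).toRingEquiv
  have hd : IsDomain (Y.presheaf.stalk y) := (g.trans g').toMulEquiv.isDomain_iff.mp h1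
  exact ⟨hd, IsIntegrallyClosed.of_equiv (g.trans g')⟩

theorem appLE_congr {X Y : Scheme.{u}} {g g' : X ⟶ Y} (hg : g = g') (V : Y.Opens) (W : X.Opens)
    (e : W ≤ g ⁻¹ᵁ V) (e' : W ≤ g' ⁻¹ᵁ V) : g.appLE V W e = g'.appLE V W e' := by
  subst hg; rfl

/-- flat base change of the fibration condition over one affine open: if `Γ(Y,V) ≅ Γ(X,f⁻¹V)`
for an affine open `V` with `f⁻¹V` qcqs, the same holds after flat base change `T ⟶ S` of
affine schemes, over the preimage of `V`. -/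
theorem isIso_app_baseChange {S T X Y : Scheme.{u}} [IsAffine S] [IsAffine T]
    (a : T ⟶ S) [Flat a] (pX : X ⟶ S) (pY : Y ⟶ S) (f : X ⟶ Y) (hf : f ≫ pY = pX)
    (fT : pullback pX a ⟶ pullback pY a)
    (h1 : fT ≫ pullback.fst pY a = pullback.fst pX a ≫ f)
    (h2 : fT ≫ pullback.snd pY a = pullback.snd pX a)
    (V : Y.Opens) (hV : IsAffineOpen V)
    (hc : IsCompact (X := X) (f ⁻¹ᵁ V)) (hqs : IsQuasiSeparated (α := X) (f ⁻¹ᵁ V))
    (hiso : IsIso (f.app V)) :
    IsIso (fT.app (pullback.fst pY a ⁻¹ᵁ V)) := by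
  subst hf
  have HX : IsPullback (pullback.fst (f ≫ pY) a) (pullback.snd (f ≫ pY) a) (f ≫ pY) a :=
    IsPullback.of_hasPullback _ _
  have HY : IsPullback (pullback.fst pY a) (pullback.snd pY a) pY a :=
    IsPullback.of_hasPullback _ _
  have hU' : fT ⁻¹ᵁ (pullback.fst pY a ⁻¹ᵁ V) = pullback.fst (f ≫ pY) a ⁻¹ᵁ (f ⁻¹ᵁ V) := by
    rw [← Scheme.Hom.comp_preimage, h1, Scheme.Hom.comp_preimage]
  have PY := (isIso_pushoutSection_iff HY (US := ⊤) (UT := ⊤) (UX := V)
    (UY := pullback.fst pY a ⁻¹ᵁ V) (by simp) (by simp) (by simp)).mp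
    (isIso_pushoutSection_of_isAffineOpen HY _ _ _ (isAffineOpen_top S) (isAffineOpen_top T) hV)
  have PX := (isIso_pushoutSection_iff HX (US := ⊤) (UT := ⊤) (UX := f ⁻¹ᵁ V)
    (UY := fT ⁻¹ᵁ (pullback.fst pY a ⁻¹ᵁ V)) (by simp) (by simp) (by rw [hU']; simp)).mp
    (isIso_pushoutSection_of_isQuasiSeparated_of_flat_right HX _ _ _ (isAffineOpen_top S)
      (isAffineOpen_top T) hc hqs)
  have r1 : pY.appLE ⊤ V (by simp) ≫ f.app V = (f ≫ pY).appLE ⊤ (f ⁻¹ᵁ V) (by simp) := by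
    rw [Scheme.Hom.app_eq_appLE, Scheme.Hom.appLE_comp_appLE]
  haveI := hiso
  have PX' : IsPushout (pY.appLE ⊤ V (by simp)) (a.appLE ⊤ ⊤ (by simp))
      (f.app V ≫ (pullback.fst (f ≫ pY) a).appLE (f ⁻¹ᵁ V)
        (fT ⁻¹ᵁ (pullback.fst pY a ⁻¹ᵁ V)) hU'.le)
      ((pullback.snd (f ≫ pY) a).appLE ⊤ (fT ⁻¹ᵁ (pullback.fst pY a ⁻¹ᵁ V)) (by simp)) := by
    refine IsPushout.of_iso PX (Iso.refl _) (asIso (f.app V)).symm (Iso.refl _) (Iso.refl _)
      ?_ ?_ ?_ ?_
    · rw [Iso.refl_hom, Category.id_comp, Iso.symm_hom, asIso_inv, IsIso.comp_inv_eq]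
      exact r1.symm
    · simp
    · simp
    · simp
  have key : fT.app (pullback.fst pY a ⁻¹ᵁ V) = (PY.isoIsPushout _ _ PX').hom := by
    apply PY.hom_ext
    · rw [IsPushout.inl_isoIsPushout_hom, Scheme.Hom.app_eq_appLE, Scheme.Hom.app_eq_appLE,
        Scheme.Hom.appLE_comp_appLE, Scheme.Hom.appLE_comp_appLE]
      exact appLE_congr h1 _ _ _ _
    · rw [IsPushout.inr_isoIsPushout_hom, Scheme.Hom.app_eq_appLE, Scheme.Hom.appLE_comp_appLE]
      exact appLE_congr h2 _ _ _ _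
  rw [key]
  infer_instance

/-- **descent of normality along a fibration after flat affine base change** -/
theorem isNormalScheme_baseChange_of_app_isIso {S T X Y : Scheme.{u}} [IsAffine S] [IsAffine T]
    (a : T ⟶ S) [Flat a] (pX : X ⟶ S) (pY : Y ⟶ S) (f : X ⟶ Y) (hf : f ≫ pY = pX)
    [QuasiCompact f] [QuasiSeparatedSpace X]
    [NoetherianSpace ↥(pullback pX a)] [IsLocallyNoetherian (pullback pY a)]
    (hfib : ∀ V : Y.Opens, IsIso (f.app V))
    (hX : Pi1.IsNormalScheme (pullback pX a)) : Pi1.IsNormalScheme (pullback pY a) := by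
  have hw : (pullback.fst pX a ≫ f) ≫ pY = pullback.snd pX a ≫ a := by
    rw [Category.assoc, hf, pullback.condition]
  refine isNormalScheme_of_app_isIso'
    (pullback.lift (pullback.fst pX a ≫ f) (pullback.snd pX a) hw) ?_ hX
  intro y'
  obtain ⟨V, hV, hyV, -⟩ :=
    exists_isAffineOpen_mem_and_subset (x := (pullback.fst pY a) y') (U := ⊤) trivial
  haveI : IsAffineHom (pullback.fst pY a) :=
    MorphismProperty.pullback_fst (P := @IsAffineHom) _ _ inferInstance
  refine ⟨pullback.fst pY a ⁻¹ᵁ V, hV.preimage _, hyV, ?_⟩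
  exact isIso_app_baseChange a pX pY f hf _ (pullback.lift_fst _ _ _) (pullback.lift_snd _ _ _)
    V hV (f.isCompact_preimage hV.isCompact) (IsQuasiSeparated.of_quasiSeparatedSpace _) (hfib V)

end Groth.Agent.Helper6.FibBC
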