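import Mathlib

/-!
# Eigenspace decomposition for an endomorphism acting on a finite filtration with distinct
scalars on the graded pieces (generic linear algebra).
-/

set_option autoImplicit false

namespace Groth.Agent.Helper6.FiltEigen

open Polynomial

variable {k : Type*} [Field k] {M : Type*} [AddCommGroup M] [Module k M]

/-- `f` acts on `F n / F (n+1)` by the scalar `c n`; the filtration is exhaustive, decreasing and
vanishes in degree `d+1`; the scalars are pairwise distinct. -/
structure Data (f : M →ₗ[k] M) (F : ℕ → Submodule k M) (c : ℕ → k) (d : ℕ) : Prop where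
  top : F 0 = ⊤
  anti : ∀ n, F (n + 1) ≤ F n
  bot : F (d + 1) = ⊥
  inj : Function.Injective c
  step : ∀ n, ∀ x ∈ F n, f x - c n • x ∈ F (n + 1)

variable {f : M →ₗ[k] M} {F : ℕ → Submodule k M} {c : ℕ → k} {d : ℕ}

namespace Data

variable (h : Data f F c d)
include h

theorem anti' {m n : ℕ} (hmn : m ≤ n) : F n ≤ F m :=
  antitone_nat_of_succ_le h.anti hmn

theorem eq_bot_of_lt {n : ℕ} (hn : d < n) : F n = ⊥ :=
  le_bot_iff.mp (h.bot ▸ h.anti' hn)

theorem f_mem {n : ℕ} {x : M} (hx : x ∈ F n) : f x ∈ F n := by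
  have h1 := h.anti n (h.step n x hx)
  have h2 : f x = (f x - c n • x) + c n • x := by abel
  rw [h2]
  exact (F n).add_mem h1 ((F n).smul_mem _ hx)

end Data

/-- `∏_{n ≤ i ≤ d} (X - c i)`. -/
noncomputable def PP (c : ℕ → k) (d n : ℕ) : k[X] := ∏ i ∈ Finset.Ico n (d + 1), (X - C (c i))

theorem PP_succ {n : ℕ} (hn : n ≤ d) : PP c d n = (X - C (c n)) * PP c d (n + 1) := by
  unfold PP
  rw [Finset.prod_eq_prod_Ico_succ_bot (Nat.lt_succ_of_le hn)]

theorem PP_of_lt {n : ℕ} (hn : d < n) : PP c d n = 1 := by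
  unfold PP
  rw [Finset.Ico_eq_empty (by omega), Finset.prod_empty]

namespace Data

variable (h : Data f F c d)
include h

theorem aeval_PP_eq_zero (n : ℕ) : ∀ v ∈ F n, aeval f (PP c d n) v = 0 := by
  induction' hk : d + 1 - n with t ih generalizing n
  · intro v hv
    have : F n = ⊥ := h.eq_bot_of_lt (by omega)
    rw [this, Submodule.mem_bot] at hv
    rw [hv, map_zero]
  · intro v hv
    have hn : n ≤ d := by omega
    rw [PP_succ hn, mul_comm, map_mul, Module.End.mul_apply]
    have : aeval f (X - C (c n)) v = f v - c n • v := by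
      rw [map_sub, aeval_X, aeval_C, LinearMap.sub_apply, Module.algebraMap_end_apply]
    rw [this]
    exact ih (n + 1) (by omega) _ (h.step n v hv)

theorem eval_PP_ne_zero (m : ℕ) : (PP c d (m + 1)).eval (c m) ≠ 0 := by
  unfold PP
  rw [eval_prod]
  refine Finset.prod_ne_zero_iff.mpr fun i hi => ?_
  rw [eval_sub, eval_X, eval_C, sub_ne_zero]
  intro hci
  have := h.inj hci
  rw [Finset.mem_Ico] at hi
  omega

theorem aeval_sub_mem (m : ℕ) (p : k[X]) :
    ∀ w ∈ F m, aeval f p w - p.eval (c m) • w ∈ F (m + 1) := by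
  induction p using Polynomial.induction_on with
  | C a =>
    intro w _
    rw [aeval_C, eval_C, Module.algebraMap_end_apply, sub_self]
    exact (F (m + 1)).zero_mem
  | add p q hp hq =>
    intro w hw
    have : aeval f (p + q) w - (p + q).eval (c m) • w =
        (aeval f p w - p.eval (c m) • w) + (aeval f q w - q.eval (c m) • w) := by
      rw [map_add, eval_add, LinearMap.add_apply, add_smul]; abel
    rw [this]
    exact (F (m + 1)).add_mem (hp w hw) (hq w hw)
  | monomial n a ih =>
    intro w hw
    have e1 : C a * X ^ (n + 1) = X * (C a * X ^ n) := by ring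
    set y := aeval f (C a * X ^ n) w with hy
    set e := (C a * X ^ n).eval (c m) with he
    have e2 : aeval f (C a * X ^ (n + 1)) w = f y := by
      rw [e1, map_mul, aeval_X, Module.End.mul_apply]
    have e3 : (C a * X ^ (n + 1)).eval (c m) = c m * e := by
      rw [e1, eval_mul, eval_X]
    rw [e2, e3]
    have : f y - (c m * e) • w = f (y - e • w) + e • (f w - c m • w) := by
      rw [map_sub, map_smul, smul_sub, smul_smul, mul_comm e (c m)]; abel
    rw [this]
    exact (F (m + 1)).add_mem (h.f_mem (ih w hw)) ((F (m + 1)).smul_mem _ (h.step m w hw))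

theorem eigen_inf (m : ℕ) : Module.End.eigenspace f (c m) ⊓ F (m + 1) = ⊥ := by
  rw [eq_bot_iff]
  rintro v ⟨hv1, hv2⟩
  rw [Submodule.mem_bot]
  have h0 := h.aeval_PP_eq_zero (m + 1) v hv2
  rw [Module.End.aeval_apply_of_mem_apply_eq_smul (Module.End.mem_eigenspace_iff.mp hv1)] at h0
  exact (smul_eq_zero.mp h0).resolve_left (h.eval_PP_ne_zero m)

theorem eigen_le (m : ℕ) : Module.End.eigenspace f (c m) ≤ F m := by
  intro v hv
  have hfv : f v = c m • v := Module.End.mem_eigenspace_iff.mp hv
  have key : ∀ n, n ≤ m → v ∈ F n := by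
    intro n
    induction n with
    | zero => intro _; rw [h.top]; exact Submodule.mem_top
    | succ n ih =>
      intro hn
      have hvn := ih (by omega)
      have h1 := h.step n v hvn
      rw [hfv, ← sub_smul] at h1
      have hne : c m - c n ≠ 0 := by
        rw [sub_ne_zero]; intro hc; have := h.inj hc; omega
      have := (F (n + 1)).smul_mem (c m - c n)⁻¹ h1
      rwa [smul_smul, inv_mul_cancel₀ hne, one_smul] at this
  exact key m le_rfl

theorem le_eigen_sup (m : ℕ) : F m ≤ Module.End.eigenspace f (c m) ⊔ F (m + 1) := by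
  intro w hw
  by_cases hm : d < m
  · have : F m = ⊥ := h.eq_bot_of_lt hm
    rw [this, Submodule.mem_bot] at hw
    rw [hw]; exact Submodule.zero_mem _
  · have hmd : m ≤ d := by omega
    set u := aeval f (PP c d (m + 1)) w with hu
    set s := (PP c d (m + 1)).eval (c m) with hs
    have hs0 : s ≠ 0 := h.eval_PP_ne_zero m
    have hu1 : u ∈ Module.End.eigenspace f (c m) := by
      rw [Module.End.mem_eigenspace_iff]
      have h0 := h.aeval_PP_eq_zero m w hw
      rw [PP_succ hmd, map_mul, Module.End.mul_apply, ← hu, map_sub, aeval_X, aeval_C,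
        LinearMap.sub_apply, Module.algebraMap_end_apply, sub_eq_zero] at h0
      exact h0
    have hu2 : u - s • w ∈ F (m + 1) := h.aeval_sub_mem m _ w hw
    have : w = s⁻¹ • u + (-(s⁻¹ • (u - s • w))) := by
      rw [smul_sub, smul_smul, inv_mul_cancel₀ hs0, one_smul]; abel
    rw [this]
    exact Submodule.add_mem_sup (Submodule.smul_mem _ _ hu1)
      (Submodule.neg_mem _ (Submodule.smul_mem _ _ hu2))

theorem eigen_sup (m : ℕ) : Module.End.eigenspace f (c m) ⊔ F (m + 1) = F m :=
  le_antisymm (sup_le (h.eigen_le m) (h.anti m)) (h.le_eigen_sup m)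

theorem le_iSup_eigen (n : ℕ) :
    F n ≤ ⨆ m ∈ Finset.range (d + 1), Module.End.eigenspace f (c m) := by
  induction' hk : d + 1 - n with t ih generalizing n
  · have : F n = ⊥ := h.eq_bot_of_lt (by omega)
    rw [this]; exact bot_le
  · rw [← h.eigen_sup n]
    refine sup_le ?_ (ih (n + 1) (by omega))
    exact le_biSup (fun m => Module.End.eigenspace f (c m)) (Finset.mem_range.mpr (by omega))

theorem iSup_eigen :
    (⨆ m ∈ Finset.range (d + 1), Module.End.eigenspace f (c m)) = ⊤ := by
  rw [eq_top_iff, ← h.top]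
  exact h.le_iSup_eigen 0

theorem eigen_le_of_commute {g : M →ₗ[k] M} {c' : ℕ → k} (h' : Data g F c' d)
    (hfg : ∀ x, f (g x) = g (f x)) (m : ℕ) :
    Module.End.eigenspace f (c m) ≤ Module.End.eigenspace g (c' m) := by
  intro v hv
  have hfv : f v = c m • v := Module.End.mem_eigenspace_iff.mp hv
  rw [Module.End.mem_eigenspace_iff]
  have h1 : g v - c' m • v ∈ Module.End.eigenspace f (c m) := by
    rw [Module.End.mem_eigenspace_iff, map_sub, hfg, hfv, map_smul, map_smul, hfv, smul_sub,
      smul_comm]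
  have h2 : g v - c' m • v ∈ F (m + 1) := h'.step m v (h.eigen_le m hv)
  have : g v - c' m • v ∈ Module.End.eigenspace f (c m) ⊓ F (m + 1) := ⟨h1, h2⟩
  rw [h.eigen_inf m, Submodule.mem_bot, sub_eq_zero] at this
  exact this

theorem eigen_eq_of_commute {g : M →ₗ[k] M} {c' : ℕ → k} (h' : Data g F c' d)
    (hfg : ∀ x, f (g x) = g (f x)) (m : ℕ) :
    Module.End.eigenspace f (c m) = Module.End.eigenspace g (c' m) :=
  le_antisymm (h.eigen_le_of_commute h' hfg m) (h'.eigen_le_of_commute h (fun x => (hfg x).symm) m)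

end Data

end Groth.Agent.Helper6.FiltEigen
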