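import Mathlib

/-!
# Flat base change of the cohomology of a 3-term piece of a complex (helper6)

`Z = ker d`, `B` an arbitrary submodule (the coboundaries), `H = Z ⧸ (B ∩ Z)`; after a flat base
change `R` and identifications `ψ₁, ψ₂` of the base-changed modules with `R`-modules carrying
`d'`, `Z'`, `B'`, we get `R ⊗ H ≃ H'`.
-/

set_option autoImplicit false
universe u v v' w
open scoped TensorProduct

namespace Groth.Agent.Lib.Helper6.FlatCohBC

variable {K : Type u} [CommRing K] {R : Type w} [CommRing R] [Algebra K R] [Module.Flat K R]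
  {C₁ C₂ : Type v} [AddCommGroup C₁] [Module K C₁] [AddCommGroup C₂] [Module K C₂]
  {C₁' C₂' : Type v'} [AddCommGroup C₁'] [Module R C₁'] [AddCommGroup C₂'] [Module R C₂']

omit [Module.Flat K R] in
theorem baseChange_apply_eq_lTensor {M N : Type*} [AddCommGroup M] [Module K M] [AddCommGroup N]
    [Module K N] (f : M →ₗ[K] N) (x : R ⊗[K] M) : f.baseChange R x = f.lTensor R x := by
  rw [← LinearMap.baseChange_eq_ltensor]

omit [Module.Flat K R] in
theorem bc_comp_apply {M N P : Type*} [AddCommGroup M] [Module K M] [AddCommGroup N]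
    [Module K N] [AddCommGroup P] [Module K P] (f : M →ₗ[K] N) (g : N →ₗ[K] P) (y : R ⊗[K] M) :
    g.baseChange R (f.baseChange R y) = (g ∘ₗ f).baseChange R y := by
  rw [LinearMap.baseChange_comp]; rfl

theorem exists_equiv_of_flat
    (d : C₁ →ₗ[K] C₂) (d' : C₁' →ₗ[R] C₂')
    (Z B : Submodule K C₁) (Z' B' : Submodule R C₁')
    (hZ : ∀ x, x ∈ Z ↔ d x = 0) (hZ' : ∀ x, x ∈ Z' ↔ d' x = 0)
    (ψ₁ : R ⊗[K] C₁ ≃ₗ[R] C₁') (ψ₂ : R ⊗[K] C₂ →ₗ[R] C₂') (hψ₂ : Function.Injective ψ₂)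
    (hcomm : ∀ x, ψ₂ (d.baseChange R x) = d' (ψ₁ x))
    (hB1 : ∀ (r : R) (b : C₁), b ∈ B → ψ₁ (r ⊗ₜ[K] b) ∈ B')
    (hB2 : ∀ x' ∈ B', ∃ t : R ⊗[K] B, ψ₁ (B.subtype.baseChange R t) = x') :
    ∃ e : R ⊗[K] (Z ⧸ B.comap Z.subtype) ≃ₗ[R] (Z' ⧸ B'.comap Z'.subtype),
      ∀ (r : R) (z : Z) (hz : ψ₁ (r ⊗ₜ[K] (z : C₁)) ∈ Z'),
        e (r ⊗ₜ[K] (B.comap Z.subtype).mkQ z) =
          (B'.comap Z'.subtype).mkQ ⟨ψ₁ (r ⊗ₜ[K] (z : C₁)), hz⟩ := by
  classical
  -- notation
  set ι : Z →ₗ[K] C₁ := Z.subtype with hι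
  set N : Submodule K Z := B.comap Z.subtype with hN
  set N' : Submodule R Z' := B'.comap Z'.subtype with hN'
  have hdι : d ∘ₗ ι = 0 := by
    ext z
    exact (hZ z).mp z.2
  -- the map G : R ⊗ Z → Z'
  have hG : ∀ y : R ⊗[K] Z, (ψ₁.toLinearMap ∘ₗ ι.baseChange R) y ∈ Z' := by
    intro y
    rw [hZ']
    show d' (ψ₁ (ι.baseChange R y)) = 0
    rw [← hcomm, bc_comp_apply, hdι,
      LinearMap.baseChange_zero, LinearMap.zero_apply, map_zero]
  let G : R ⊗[K] Z →ₗ[R] Z' := LinearMap.codRestrict Z' (ψ₁.toLinearMap ∘ₗ ι.baseChange R) hG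
  have hGval : ∀ y, (G y : C₁') = ψ₁ (ι.baseChange R y) := fun y => rfl
  have hιinj : Function.Injective (ι.baseChange R) := by
    have := Module.Flat.lTensor_preserves_injective_linearMap (M := R) ι Z.injective_subtype
    intro a b hab
    apply this
    rw [← baseChange_apply_eq_lTensor, ← baseChange_apply_eq_lTensor, hab]
  have hGinj : Function.Injective G := by
    intro y y' h
    have h1 : (G y : C₁') = G y' := by rw [h]
    rw [hGval, hGval] at h1
    exact hιinj (ψ₁.injective h1)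
  have hexZ : Function.Exact ι d := by
    intro x
    constructor
    · intro hx
      exact ⟨⟨x, (hZ x).mpr hx⟩, rfl⟩
    · rintro ⟨z, rfl⟩
      exact (hZ z).mp z.2
  have hGsurj : Function.Surjective G := by
    intro z'
    have hx : d.lTensor R (ψ₁.symm z') = 0 := by
      rw [← baseChange_apply_eq_lTensor]
      apply hψ₂
      rw [hcomm, LinearEquiv.apply_symm_apply, map_zero]
      exact (hZ' z').mp z'.2
    obtain ⟨y, hy⟩ := (Module.Flat.lTensor_exact R hexZ _).mp hx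
    refine ⟨y, Subtype.ext ?_⟩
    rw [hGval, baseChange_apply_eq_lTensor, hy, LinearEquiv.apply_symm_apply]
  let Ge : R ⊗[K] Z ≃ₗ[R] Z' := LinearEquiv.ofBijective G ⟨hGinj, hGsurj⟩
  have hGe : ∀ y, Ge y = G y := fun y => rfl
  -- the map f : Z' → R ⊗ (Z ⧸ N)
  let f : Z' →ₗ[R] R ⊗[K] (Z ⧸ N) := (N.mkQ.baseChange R) ∘ₗ Ge.symm.toLinearMap
  have hmkj : N.mkQ ∘ₗ N.subtype = 0 := by
    ext n
    show N.mkQ (n : Z) = 0
    rw [Submodule.mkQ_apply, Submodule.Quotient.mk_eq_zero]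
    exact n.2
  -- elements of R ⊗ N map into B'
  have hNB : ∀ y' : R ⊗[K] N, ψ₁ ((ι ∘ₗ N.subtype).baseChange R y') ∈ B' := by
    intro y'
    induction y' using TensorProduct.induction_on with
    | zero => rw [map_zero, map_zero]; exact B'.zero_mem
    | tmul r n =>
      rw [LinearMap.baseChange_tmul]
      exact hB1 r _ n.2
    | add a b ha hb => rw [map_add, map_add]; exact B'.add_mem ha hb
  have hexN : Function.Exact N.subtype (B.mkQ ∘ₗ ι) := by
    intro z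
    constructor
    · intro hz
      have : (ι z) ∈ B := by
        have h2 : B.mkQ (ι z) = 0 := hz
        rwa [Submodule.mkQ_apply, Submodule.Quotient.mk_eq_zero] at h2
      exact ⟨⟨z, this⟩, rfl⟩
    · rintro ⟨n, rfl⟩
      show B.mkQ (ι (n : Z)) = 0
      rw [Submodule.mkQ_apply, Submodule.Quotient.mk_eq_zero]
      exact n.2
  have hqB : B.mkQ ∘ₗ B.subtype = 0 := by
    ext b
    show B.mkQ (b : C₁) = 0
    rw [Submodule.mkQ_apply, Submodule.Quotient.mk_eq_zero]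
    exact b.2
  have hker : N' ≤ LinearMap.ker f := by
    intro z' hz'
    rw [LinearMap.mem_ker]
    have hzB : (z' : C₁') ∈ B' := hz'
    obtain ⟨t, ht⟩ := hB2 _ hzB
    set y := Ge.symm z' with hy
    have hy1 : ψ₁ (ι.baseChange R y) = (z' : C₁') := by
      rw [← hGval, ← hGe, hy, LinearEquiv.apply_symm_apply]
    have hy2 : ι.baseChange R y = B.subtype.baseChange R t := ψ₁.injective (hy1.trans ht.symm)
    have hy3 : (B.mkQ ∘ₗ ι).lTensor R y = 0 := by
      rw [← baseChange_apply_eq_lTensor, ← bc_comp_apply, hy2, bc_comp_apply, hqB,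
        LinearMap.baseChange_zero, LinearMap.zero_apply]
    obtain ⟨y', hy'⟩ := (Module.Flat.lTensor_exact R hexN _).mp hy3
    show N.mkQ.baseChange R (Ge.symm z') = 0
    rw [← hy, ← hy', ← baseChange_apply_eq_lTensor, bc_comp_apply, hmkj,
      LinearMap.baseChange_zero, LinearMap.zero_apply]
  let fbar : (Z' ⧸ N') →ₗ[R] R ⊗[K] (Z ⧸ N) := N'.liftQ f hker
  have hfbar : ∀ z', fbar (N'.mkQ z') = f z' := fun z' => rfl
  have hfsurj : Function.Surjective fbar := by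
    intro w
    have h1 : Function.Surjective (N.mkQ.lTensor R) :=
      LinearMap.lTensor_surjective R (Submodule.mkQ_surjective N)
    obtain ⟨y, rfl⟩ := h1 w
    refine ⟨N'.mkQ (Ge y), ?_⟩
    rw [hfbar]
    show N.mkQ.baseChange R (Ge.symm (Ge y)) = _
    rw [LinearEquiv.symm_apply_apply, baseChange_apply_eq_lTensor]
  have hfinj : Function.Injective fbar := by
    rw [← LinearMap.ker_eq_bot, LinearMap.ker_eq_bot']
    intro w hw
    obtain ⟨z', rfl⟩ := Submodule.mkQ_surjective N' w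
    rw [hfbar] at hw
    have hw1 : N.mkQ.lTensor R (Ge.symm z') = 0 := by
      rw [← baseChange_apply_eq_lTensor]; exact hw
    obtain ⟨y', hy'⟩ :=
      (Module.Flat.lTensor_exact R (LinearMap.exact_subtype_mkQ N) _).mp hw1
    rw [Submodule.mkQ_apply, Submodule.Quotient.mk_eq_zero]
    show (z' : C₁') ∈ B'
    have h2 : (z' : C₁') = ψ₁ ((ι ∘ₗ N.subtype).baseChange R y') := by
      have h3 : z' = Ge (N.subtype.lTensor R y') := by
        rw [hy', LinearEquiv.apply_symm_apply]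
      rw [h3, hGe, hGval, ← baseChange_apply_eq_lTensor, bc_comp_apply]
    rw [h2]
    exact hNB y'
  let E : (Z' ⧸ N') ≃ₗ[R] R ⊗[K] (Z ⧸ N) := LinearEquiv.ofBijective fbar ⟨hfinj, hfsurj⟩
  refine ⟨E.symm, ?_⟩
  intro r z hz
  rw [LinearEquiv.symm_apply_eq]
  show r ⊗ₜ[K] N.mkQ z = fbar (N'.mkQ ⟨ψ₁ (r ⊗ₜ[K] (z : C₁)), hz⟩)
  rw [hfbar]
  show r ⊗ₜ[K] N.mkQ z = N.mkQ.baseChange R (Ge.symm ⟨ψ₁ (r ⊗ₜ[K] (z : C₁)), hz⟩)
  have h1 : Ge (r ⊗ₜ[K] z) = ⟨ψ₁ (r ⊗ₜ[K] (z : C₁)), hz⟩ := Subtype.ext rfl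
  rw [← h1, LinearEquiv.symm_apply_apply, LinearMap.baseChange_tmul]

end Groth.Agent.Lib.Helper6.FlatCohBC
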