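import Mathlib

/-!
# Descent of flatness along a faithfully flat extension (ring version)

If `A → B → C` with `C` flat over `A` and faithfully flat over `B`, then `B` is flat over `A`.
-/

namespace Groth.Agent.Helper6.FlatDesc

open TensorProduct

theorem flat_of_flat_of_faithfullyFlat (A : Type*) (B : Type*) (C : Type*)
    [CommRing A] [CommRing B] [CommRing C]
    [Algebra A B] [Algebra B C] [Algebra A C] [IsScalarTower A B C]
    [Module.Flat A C] [Module.FaithfullyFlat B C] : Module.Flat A B := by
  rw [Module.Flat.iff_lTensor_preserves_injective_linearMap]
  intro N P _ _ _ _ f hf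
  have key : ∀ x : C ⊗[B] (B ⊗[A] N),
      AlgebraTensorModule.cancelBaseChange A B C C P (((f.baseChange B).lTensor C) x) =
        (f.lTensor C) (AlgebraTensorModule.cancelBaseChange A B C C N x) := by
    intro x
    induction x using TensorProduct.induction_on with
    | zero => simp
    | tmul c y =>
      induction y using TensorProduct.induction_on with
      | zero => simp
      | tmul b n => simp
      | add y1 y2 h1 h2 => simp only [tmul_add, map_add, h1, h2]
    | add x1 x2 h1 h2 => simp only [map_add, h1, h2]
  have hC : Function.Injective (f.lTensor C) :=
    Module.Flat.lTensor_preserves_injective_linearMap f hf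
  have h2 : Function.Injective ((f.baseChange B).lTensor C) := by
    intro x y hxy
    have h3 := congrArg (AlgebraTensorModule.cancelBaseChange A B C C P) hxy
    rw [key, key] at h3
    exact (AlgebraTensorModule.cancelBaseChange A B C C N).injective (hC h3)
  have h4 : Function.Injective (f.baseChange B) :=
    (Module.FaithfullyFlat.lTensor_injective_iff_injective B C (f.baseChange B)).1 h2
  intro x y hxy
  apply h4
  have e : ∀ z, f.baseChange B z = f.lTensor B z := fun z => by
    rw [LinearMap.baseChange_eq_ltensor]
  rw [e, e]
  exact hxy

end Groth.Agent.Helper6.FlatDesc
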