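import Mathlib
import Groth.Prelude.Def_GrMod3
import Groth.Agent.Lib.Helper6.GrModFracA
import Groth.Agent.Lib.Helper6.DehomA

/-!
# Flatness of homogeneous localizations of a graded ring with eventually flat pieces (helper6)

`R → A` a graded `R`-algebra (structure map into degree zero) whose pieces `A_e` are flat over `R`
for `e ≥ d₀`.  Then for `f` homogeneous of positive degree, `A_(f)` and, more generally, the
sections over `D₊(f)` of `A(n)~` are flat over `R` (equational criterion).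
-/

set_option autoImplicit false
set_option linter.style.haveILetI false
set_option linter.unusedSectionVars false
universe u
open DirectSum CategoryTheory CategoryTheory.Limits AlgebraicGeometry Opposite TopologicalSpace

namespace Groth.Agent.Helper6.FlatGr

open Groth.Agent.Helper6.GrModFrac Groth.Agent.Helper6.Dehom

theorem mem_of_mem_span' {R A σ : Type u} [CommRing R] [CommRing A] [Algebra R A] [SetLike σ A]
    [AddSubgroupClass σ A] (𝒜 : ℕ → σ) [GradedRing 𝒜] (h0 : ∀ r : R, algebraMap R A r ∈ 𝒜 0)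
    {e : ℕ} {x : A} (hx : x ∈ Submodule.span R (𝒜 e : Set A)) : x ∈ 𝒜 e := by
  induction hx using Submodule.span_induction with
  | mem x hx => exact hx
  | zero => exact zero_mem _
  | add x y _ _ hx hy => exact add_mem hx hy
  | smul r x _ hx =>
    have h := SetLike.mul_mem_graded (h0 r) hx
    rw [zero_add] at h
    rw [Algebra.smul_def]
    exact h

variable {R A σ : Type u} [CommRing R] [CommRing A] [SetLike σ A] [AddSubgroupClass σ A]
  (𝒜 : ℕ → σ) [GradedRing 𝒜] (ι : R →+* A)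

/-- the flatness hypothesis on the degree `e` piece, in the form of the statement. -/
def DegFlat (e : ℕ) : Prop :=
  letI := ι.toAlgebra
  Module.Flat R ↥(Submodule.span R (𝒜 e : Set A))

/-- abstract description of the "degree `n` fractions with denominators the powers of `f`". -/
structure FracSys (N : Type u) [AddCommGroup N] [Module R N] (f : A) (d c : ℕ) where
  μ : ∀ k : ℕ, ↥(𝒜 (k * d + c)) →+ N
  surj : ∀ s : N, ∃ (k : ℕ) (a : ↥(𝒜 (k * d + c))), s = μ k a
  smul : ∀ (k : ℕ) (r : R) (a : ↥(𝒜 (k * d + c))) (h : ι r * (a : A) ∈ 𝒜 (k * d + c)),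
    μ k ⟨ι r * (a : A), h⟩ = r • μ k a
  shift : ∀ (k : ℕ) (a : ↥(𝒜 (k * d + c))) (h : f * (a : A) ∈ 𝒜 ((k + 1) * d + c)),
    μ (k + 1) ⟨f * (a : A), h⟩ = μ k a
  ker : ∀ (k : ℕ) (a : ↥(𝒜 (k * d + c))), μ k a = 0 → ∃ m : ℕ, f ^ m * (a : A) = 0

variable {𝒜 ι}

theorem pow_mul_mem {f : A} {d : ℕ} (hf : f ∈ 𝒜 d) {c k : ℕ} {a : A} (ha : a ∈ 𝒜 (k * d + c))
    (t : ℕ) : f ^ t * a ∈ 𝒜 ((k + t) * d + c) := by
  have h := SetLike.mul_mem_graded (SetLike.pow_mem_graded t hf) ha
  have e : t • d + (k * d + c) = (k + t) * d + c := by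
    simp only [smul_eq_mul]; ring
  rwa [e] at h

theorem FracSys.raise {N : Type u} [AddCommGroup N] [Module R N] {f : A} {d c : ℕ}
    (F : FracSys 𝒜 ι N f d c) (hf : f ∈ 𝒜 d) (k : ℕ) (a : ↥(𝒜 (k * d + c))) :
    ∀ (t k' : ℕ) (_ : k' = k + t) (h : f ^ t * (a : A) ∈ 𝒜 (k' * d + c)),
      F.μ k' ⟨f ^ t * (a : A), h⟩ = F.μ k a := by
  intro t
  induction t with
  | zero =>
    intro k' hk h
    obtain rfl : k' = k := by simpa using hk
    exact congrArg (F.μ k') (Subtype.ext (by simp))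
  | succ t ih =>
    intro k' hk h
    obtain rfl : k' = k + t + 1 := by omega
    have h1 : f ^ t * (a : A) ∈ 𝒜 ((k + t) * d + c) := pow_mul_mem hf a.2 t
    have e : f ^ (t + 1) * (a : A) = f * (f ^ t * (a : A)) := by rw [pow_succ']; ring
    have h2 : f * (f ^ t * (a : A)) ∈ 𝒜 ((k + t + 1) * d + c) := by rw [← e]; exact h
    have e3 := F.shift (k + t) ⟨f ^ t * (a : A), h1⟩ h2
    exact (congrArg (F.μ (k + t + 1)) (Subtype.ext e)).trans (e3.trans (ih (k + t) rfl h1))

/-- **Equational criterion**: a module described by a `FracSys` is flat as soon as the graded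
pieces are flat in large degrees. -/
theorem flat_of_fracSys {N : Type u} [AddCommGroup N] [Module R N] {f : A} {d c : ℕ}
    (hι : ∀ r, ι r ∈ 𝒜 0) (hd : 0 < d) (hf : f ∈ 𝒜 d)
    (F : FracSys 𝒜 ι N f d c) (d₀ : ℕ) (hflat : ∀ e, d₀ ≤ e → DegFlat 𝒜 ι e) :
    Module.Flat R N := by
  classical
  letI : Algebra R A := ι.toAlgebra
  apply Module.Flat.of_forall_isTrivialRelation
  intro l r x hrel
  -- Step 1: common denominators
  have H0 : ∀ j : Fin l, ∃ (k : ℕ) (a : ↥(𝒜 (k * d + c))), x j = F.μ k a := fun j => F.surj (x j)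
  choose k0 a0 hx0 using H0
  obtain ⟨K, hKdef⟩ : ∃ K : ℕ, K = Finset.univ.sup k0 + d₀ := ⟨_, rfl⟩
  have hkK : ∀ j, k0 j ≤ K := fun j => by
    rw [hKdef]
    exact (Finset.le_sup (f := k0) (Finset.mem_univ j)).trans (Nat.le_add_right _ _)
  have H1 : ∀ j : Fin l, ∃ b : ↥(𝒜 (K * d + c)), x j = F.μ K b := by
    intro j
    obtain ⟨t, ht⟩ := Nat.exists_eq_add_of_le (hkK j)
    have hm : f ^ t * (a0 j : A) ∈ 𝒜 (K * d + c) := by
      have := pow_mul_mem hf (a0 j).2 t
      rwa [← ht] at this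
    exact ⟨⟨_, hm⟩, (hx0 j).trans (F.raise hf (k0 j) (a0 j) t K ht hm).symm⟩
  choose b hb using H1
  -- Step 2: the relation in degree `K`
  have hmem : ∀ j, ι (r j) * (b j : A) ∈ 𝒜 (K * d + c) := fun j => by
    have h := SetLike.mul_mem_graded (hι (r j)) (b j).2
    rwa [zero_add] at h
  have hsum : F.μ K (∑ j, (⟨ι (r j) * (b j : A), hmem j⟩ : ↥(𝒜 (K * d + c)))) = 0 := by
    rw [map_sum]
    refine Eq.trans (Finset.sum_congr rfl (fun j _ => ?_)) hrel
    rw [F.smul K (r j) (b j) (hmem j), hb j]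
  obtain ⟨m, hm⟩ := F.ker K _ hsum
  have hm' : f ^ m * ∑ j, ι (r j) * (b j : A) = 0 := by
    simpa [AddSubmonoidClass.coe_finsetSum] using hm
  -- Step 3: flatness in degree `(K + m) d + c`
  have hE : d₀ ≤ (K + m) * d + c := by
    have h1 : K + m ≤ (K + m) * d := Nat.le_mul_of_pos_right _ hd
    have h2 : d₀ ≤ K := by rw [hKdef]; exact Nat.le_add_left _ _
    omega
  haveI : Module.Flat R ↥(Submodule.span R (𝒜 ((K + m) * d + c) : Set A)) := hflat _ hE
  have hbb : ∀ j, f ^ m * (b j : A) ∈ 𝒜 ((K + m) * d + c) := fun j => pow_mul_mem hf (b j).2 m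
  let z : Fin l → ↥(Submodule.span R (𝒜 ((K + m) * d + c) : Set A)) :=
    fun j => ⟨f ^ m * (b j : A), Submodule.subset_span (hbb j)⟩
  have hz : ∑ j, r j • z j = 0 := by
    apply Subtype.ext
    rw [Submodule.coe_sum, Submodule.coe_zero]
    have hterm : ∀ j, ((r j • z j : ↥(Submodule.span R (𝒜 ((K + m) * d + c) : Set A))) : A) =
        f ^ m * (ι (r j) * (b j : A)) := by
      intro j
      rw [Submodule.coe_smul, Algebra.smul_def]
      change ι (r j) * (f ^ m * (b j : A)) = _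
      ring
    rw [Finset.sum_congr rfl (fun j _ => hterm j), ← Finset.mul_sum]
    exact hm'
  obtain ⟨k', a', y, hy1, hy2⟩ := Module.Flat.isTrivialRelation_of_sum_smul_eq_zero hz
  have hyE : ∀ κ, (y κ : A) ∈ 𝒜 ((K + m) * d + c) := fun κ =>
    mem_of_mem_span' 𝒜 (fun r => hι r) (y κ).2
  refine ⟨k', a', fun κ => F.μ (K + m) ⟨(y κ : A), hyE κ⟩, fun j => ?_, hy2⟩
  have hmem2 : ∀ κ, ι (a' j κ) * (y κ : A) ∈ 𝒜 ((K + m) * d + c) := fun κ => by
    have h := SetLike.mul_mem_graded (hι (a' j κ)) (hyE κ)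
    rwa [zero_add] at h
  have e1 : f ^ m * (b j : A) = ∑ κ, ι (a' j κ) * (y κ : A) := by
    have h := congrArg
      (fun w : ↥(Submodule.span R (𝒜 ((K + m) * d + c) : Set A)) => (w : A)) (hy1 j)
    simp only [Submodule.coe_sum, Submodule.coe_smul, Algebra.smul_def] at h
    exact h
  calc x j = F.μ K (b j) := hb j
    _ = F.μ (K + m) ⟨f ^ m * (b j : A), hbb j⟩ :=
        (F.raise hf K (b j) m (K + m) rfl (hbb j)).symm
    _ = F.μ (K + m) (∑ κ, (⟨ι (a' j κ) * (y κ : A), hmem2 κ⟩ : ↥(𝒜 ((K + m) * d + c)))) := by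
        refine congrArg (F.μ (K + m)) (Subtype.ext ?_)
        rw [AddSubmonoidClass.coe_finsetSum]
        exact e1
    _ = ∑ κ, a' j κ • F.μ (K + m) ⟨(y κ : A), hyE κ⟩ := by
        rw [map_sum]
        exact Finset.sum_congr rfl
          (fun κ _ => F.smul (K + m) (a' j κ) ⟨(y κ : A), hyE κ⟩ (hmem2 κ))

/-! ### First instance: the degree zero part of `A_f` -/

section AwayInst

variable {f : A} {d : ℕ} (hf : f ∈ 𝒜 d)

theorem mem_nsmul_of_mem {k : ℕ} {a : A} (h : a ∈ 𝒜 (k * d + 0)) : a ∈ 𝒜 (k • d) := by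
  simpa [smul_eq_mul] using h

/-- `a ↦ a / f^k`. -/
noncomputable def awayMu (k : ℕ) : ↥(𝒜 (k * d + 0)) →+ HomogeneousLocalization.Away 𝒜 f where
  toFun a := HomogeneousLocalization.Away.mk 𝒜 hf k (a : A) (mem_nsmul_of_mem a.2)
  map_zero' := by
    apply HomogeneousLocalization.val_injective
    rw [HomogeneousLocalization.Away.val_mk, HomogeneousLocalization.val_zero,
      ZeroMemClass.coe_zero]
    exact Localization.mk_zero _
  map_add' a b := by
    apply HomogeneousLocalization.val_injective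
    rw [HomogeneousLocalization.val_add, HomogeneousLocalization.Away.val_mk,
      HomogeneousLocalization.Away.val_mk, HomogeneousLocalization.Away.val_mk,
      Localization.add_mk_self, AddMemClass.coe_add]

theorem val_awayMu (k : ℕ) (a : ↥(𝒜 (k * d + 0))) :
    (awayMu hf k a).val =
      Localization.mk (a : A) (⟨f ^ k, ⟨k, rfl⟩⟩ : Submonoid.powers f) := rfl

include hf in
/-- `A_(f)` is flat over `R`. -/
theorem flat_away (hι : ∀ r, ι r ∈ 𝒜 0) (hd : 0 < d) (d₀ : ℕ)
    (hflat : ∀ e, d₀ ≤ e → DegFlat 𝒜 ι e) (φ : R →+* HomogeneousLocalization.Away 𝒜 f)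
    (hφ : ∀ r, (φ r).val = Localization.mk (ι r) 1) : φ.Flat := by
  letI : Algebra R (HomogeneousLocalization.Away 𝒜 f) := φ.toAlgebra
  show Module.Flat R (HomogeneousLocalization.Away 𝒜 f)
  refine flat_of_fracSys hι hd hf (c := 0) ?_ d₀ hflat
  exact
    { μ := awayMu hf
      surj := fun s => by
        obtain ⟨k, a, ha, rfl⟩ := HomogeneousLocalization.Away.mk_surjective 𝒜 hf s
        exact ⟨k, ⟨a, by simpa [smul_eq_mul] using ha⟩, rfl⟩
      smul := fun k r a h => by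
        apply HomogeneousLocalization.val_injective
        rw [Algebra.smul_def, HomogeneousLocalization.val_mul]
        show Localization.mk (ι r * (a : A)) (⟨f ^ k, ⟨k, rfl⟩⟩ : Submonoid.powers f) =
          (φ r).val * Localization.mk (a : A) (⟨f ^ k, ⟨k, rfl⟩⟩ : Submonoid.powers f)
        rw [hφ r, Localization.mk_mul, one_mul]
      shift := fun k a h => by
        apply HomogeneousLocalization.val_injective
        rw [val_awayMu, val_awayMu]
        refine loc_mk_eq_of_mul_eq _ _ _ _ ?_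
        show f ^ k * (f * (a : A)) = f ^ (k + 1) * (a : A)
        ring
      ker := fun k a h0 => by
        have h1 := congrArg HomogeneousLocalization.val h0
        rw [val_awayMu, HomogeneousLocalization.val_zero, Localization.mk_eq_mk',
          IsLocalization.mk'_eq_zero_iff] at h1
        obtain ⟨⟨_, m, rfl⟩, hm⟩ := h1
        exact ⟨m, hm⟩ }

end AwayInst

/-! ### Second instance: sections of `A(n)~` over `D₊(f)` -/

section SectInst

/-- the natural offset `|n| d + n`. -/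
def off (n : ℤ) (d : ℕ) : ℕ := ((n.natAbs : ℤ) * (d : ℤ) + n).toNat

theorem off_cast (n : ℤ) {d : ℕ} (hd : 0 < d) :
    ((off n d : ℕ) : ℤ) = (n.natAbs : ℤ) * (d : ℤ) + n := by
  have h1 : (n.natAbs : ℤ) ≤ (n.natAbs : ℤ) * (d : ℤ) := by
    have : n.natAbs ≤ n.natAbs * d := Nat.le_mul_of_pos_right _ hd
    exact_mod_cast this
  have h2 : -(n.natAbs : ℤ) ≤ n := by omega
  exact Int.toNat_of_nonneg (by linarith)

theorem deg_eq' (n : ℤ) {d : ℕ} (hd : 0 < d) (k : ℕ) :
    ((k * d + off n d : ℕ) : ℤ) = (((n.natAbs + k) • d : ℕ) : ℤ) + n := by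
  rw [smul_eq_mul, Nat.cast_add, off_cast n hd]
  push_cast
  ring

theorem idx_eq (n : ℤ) {d : ℕ} (hd : 0 < d) {L q : ℕ} (hq : (q : ℤ) = L * d + n) :
    n.natAbs • d + q = L * d + off n d := by
  apply Nat.cast_injective (R := ℤ)
  rw [Nat.cast_add, Nat.cast_add, off_cast n hd, hq, smul_eq_mul]
  push_cast
  ring

variable {f : A} {d : ℕ} (hd : 0 < d) (hf : f ∈ 𝒜 d) (n : ℤ)

/-- `a ↦ a / f^(|n| + k)` as a section of `A(n)~` over `D₊(f)`. -/
noncomputable def sectMu (k : ℕ) :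
    ↥(𝒜 (k * d + off n d)) →+ GrMod.sect 𝒜 𝒜 n (op (ProjectiveSpectrum.basicOpen 𝒜 f)) where
  toFun a := fracPow 𝒜 𝒜 n hf (n.natAbs + k) a (deg_eq' n hd k)
  map_zero' := by
    refine sect_ext 𝒜 𝒜 n _ _ (fun y hy => ?_)
    rw [fracPow_apply, ZeroMemClass.coe_zero, LocalizedModule.zero_mk]
    rfl
  map_add' a b := by
    refine sect_ext 𝒜 𝒜 n _ _ (fun y hy => ?_)
    have h : valAt 𝒜 𝒜 n (fracPow 𝒜 𝒜 n hf (n.natAbs + k) a (deg_eq' n hd k) +
        fracPow 𝒜 𝒜 n hf (n.natAbs + k) b (deg_eq' n hd k)) y hy =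
        valAt 𝒜 𝒜 n (fracPow 𝒜 𝒜 n hf (n.natAbs + k) a (deg_eq' n hd k)) y hy +
          valAt 𝒜 𝒜 n (fracPow 𝒜 𝒜 n hf (n.natAbs + k) b (deg_eq' n hd k)) y hy := rfl
    rw [h, fracPow_apply, fracPow_apply, fracPow_apply, AddMemClass.coe_add]
    exact mk_add_same _ _ _

theorem valAt_sectMu (k : ℕ) (a : ↥(𝒜 (k * d + off n d))) (y : ProjectiveSpectrum 𝒜)
    (hy : f ∉ y.asHomogeneousIdeal) :
    valAt 𝒜 𝒜 n (sectMu hd hf n k a) y hy =
      LocalizedModule.mk (a : A) ⟨f ^ (n.natAbs + k), pow_mem_primeCompl 𝒜 y hy _⟩ := rfl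

include hd hf in
/-- The sections of `A(n)~` over `D₊(f)` are flat over `R`, for every ring homomorphism
`γ : R → O(D₊(f))` which is pointwise `r ↦ ι r / 1`. -/
theorem flat_sect (hι : ∀ r, ι r ∈ 𝒜 0) (d₀ : ℕ) (hflat : ∀ e, d₀ ≤ e → DegFlat 𝒜 ι e)
    (V : Opens (ProjectiveSpectrum.top 𝒜)) (hV : V = ProjectiveSpectrum.basicOpen 𝒜 f)
    (γ : R →+* GrTwist.O (𝒜 := 𝒜) (op V))
    (hγ : ∀ (r : R) (y : V), ((γ r).1 y).val = Localization.mk (ι r) 1) :
    @Module.Flat R (GrMod.sect 𝒜 𝒜 n (op V)) _ _ (Module.compHom _ γ) := by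
  subst hV
  letI : Module R (GrMod.sect 𝒜 𝒜 n (op (ProjectiveSpectrum.basicOpen 𝒜 f))) :=
    Module.compHom _ γ
  show Module.Flat R (GrMod.sect 𝒜 𝒜 n (op (ProjectiveSpectrum.basicOpen 𝒜 f)))
  refine flat_of_fracSys
    (N := ↥(GrMod.sect 𝒜 𝒜 n (op (ProjectiveSpectrum.basicOpen 𝒜 f)))) hι hd hf
    (c := off n d) ?_ d₀ hflat
  exact
    { μ := sectMu hd hf n
      surj := fun s => by
        obtain ⟨L, q, m, hm, hq, hval⟩ := exists_global_frac 𝒜 𝒜 n hd hf s
        have hidx := idx_eq n hd hq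
        have hmem : f ^ n.natAbs * m ∈ 𝒜 (L * d + off n d) := by
          have h := SetLike.mul_mem_graded (SetLike.pow_mem_graded n.natAbs hf) hm
          rwa [hidx] at h
        refine ⟨L, ⟨_, hmem⟩, sect_ext 𝒜 𝒜 n _ _ (fun y hy => ?_)⟩
        rw [hval y hy, valAt_sectMu]
        refine mk_eq_of_smul_eq _ _ _ _ ?_
        show f ^ (n.natAbs + L) • m = f ^ L • (f ^ n.natAbs * m)
        rw [smul_eq_mul, smul_eq_mul, pow_add]
        ring
      smul := fun k r a h => by
        refine sect_ext 𝒜 𝒜 n _ _ (fun y hy => ?_)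
        have h1 : (r • sectMu hd hf n k a :
            GrMod.sect 𝒜 𝒜 n (op (ProjectiveSpectrum.basicOpen 𝒜 f))) =
            γ r • sectMu hd hf n k a := rfl
        rw [h1, valAt_smul, hγ r ⟨y, _⟩, valAt_sectMu, valAt_sectMu, LocalizedModule.mk_smul_mk]
        exact congrArg (LocalizedModule.mk (ι r * (a : A))) (one_mul _).symm
      shift := fun k a h => by
        refine sect_ext 𝒜 𝒜 n _ _ (fun y hy => ?_)
        rw [valAt_sectMu, valAt_sectMu]
        refine mk_eq_of_smul_eq _ _ _ _ ?_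
        show f ^ (n.natAbs + k) • (f * (a : A)) = f ^ (n.natAbs + (k + 1)) • (a : A)
        rw [smul_eq_mul, smul_eq_mul]
        ring
      ker := fun k a h0 => by
        have hloc : ∀ y : ProjectiveSpectrum 𝒜, f ∉ y.asHomogeneousIdeal →
            ∃ s : A, s ∉ y.asHomogeneousIdeal ∧ s • (a : A) = 0 := by
          intro y hy
          have h1 := congrArg (fun s => valAt 𝒜 𝒜 n s y hy) h0
          have h2 : valAt 𝒜 𝒜 n (sectMu hd hf n k a) y hy = 0 := h1
          rw [valAt_sectMu,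
            ← LocalizedModule.zero_mk (1 : y.asHomogeneousIdeal.toIdeal.primeCompl),
            LocalizedModule.mk_eq] at h2
          obtain ⟨u, hu⟩ := h2
          refine ⟨u.1, u.2, ?_⟩
          simpa [Submonoid.smul_def] using hu
        obtain ⟨N, hN⟩ := exists_pow_smul_eq_zero 𝒜 𝒜 hd hf a.2 hloc
        exact ⟨N, hN⟩ }

end SectInst

end Groth.Agent.Helper6.FlatGr
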