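import Mathlib
import Groth.Prelude.Def_RelProj2
import Groth.Agent.Lib.Helper6.FlatGrA
import Groth.Agent.Lib.Helper18.Rigid4

/-!
# Flatness of a relative `Proj` with eventually flat graded pieces: the morphism (helper6)
-/

set_option autoImplicit false
set_option linter.style.haveILetI false
set_option linter.unusedSectionVars false
universe u
open CategoryTheory CategoryTheory.Limits AlgebraicGeometry Opposite TopologicalSpace
  HomogeneousLocalization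
open scoped HomogeneousIdeal

namespace Groth.Agent.Helper6.FlatGr

section General

variable {A σ : Type u} [CommRing A] [SetLike σ A] [AddSubgroupClass σ A] (𝒜 : ℕ → σ)
  [GradedRing 𝒜] {m : ℕ} (f : A) (hf : f ∈ 𝒜 m) (hm : 0 < m)

include hf hm in
/-- (after helper26 `PnCoh.toSpecZero_res`, for gradings by additive subgroups) -/
theorem toSpecZero_res (a : 𝒜 0) :
    ((Proj 𝒜).presheaf.map (homOfLE (le_top : Proj.basicOpen 𝒜 f ≤ ⊤)).op).hom
      ((Proj.toSpecZero 𝒜).appTop.hom ((Scheme.ΓSpecIso (CommRingCat.of (𝒜 0))).inv.hom a)) =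
    (Proj.awayToSection 𝒜 f).hom (fromZeroRingHom 𝒜 _ a) := by
  have h := Proj.awayι_toSpecZero 𝒜 f hf hm
  rw [Proj.awayι, Category.assoc, Iso.inv_comp_eq, Proj.basicOpenIsoSpec_hom] at h
  have h2 := congrArg Scheme.Hom.appTop h
  have h3 : (Proj.basicOpenToSpec 𝒜 f).appTop = _ := Proj.basicOpenToSpec_app_top 𝒜 f
  rw [Scheme.Hom.comp_appTop, Scheme.Hom.comp_appTop, h3, ← Category.assoc,
    Scheme.ΓSpecIso_naturality, Category.assoc] at h2
  have h4 := congrArg (fun φ => (Scheme.ΓSpecIso (CommRingCat.of (𝒜 0))).inv ≫ φ ≫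
    (Proj.basicOpen 𝒜 f).topIso.hom) h2
  simp only [Category.assoc, Iso.inv_hom_id_assoc, Iso.inv_hom_id, Category.comp_id] at h4
  have h5 := congrArg (fun φ => φ.hom a) h4
  simp only [CommRingCat.hom_comp, RingHom.comp_apply, CommRingCat.hom_ofHom] at h5
  refine Eq.trans ?_ h5
  have h6 : (Proj.basicOpen 𝒜 f).ι.appTop ≫ (Proj.basicOpen 𝒜 f).topIso.hom =
      (Proj 𝒜).presheaf.map (homOfLE (le_top : Proj.basicOpen 𝒜 f ≤ ⊤)).op := by
    change (Proj 𝒜).presheaf.map (homOfLE (x := (Proj.basicOpen 𝒜 f).ι ''ᵁ ⊤) le_top).op ≫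
      (Proj 𝒜).presheaf.map (eqToHom (Proj.basicOpen 𝒜 f).ι_image_top.symm).op = _
    rw [← Functor.map_comp]
    rfl
  rw [← h6]
  rfl

include hf hm in
/-- the global function attached to `a ∈ 𝒜 0` is pointwise the fraction `a / 1`. -/
theorem toSpecZero_val (a : 𝒜 0) (x : ProjectiveSpectrum 𝒜)
    (hx : f ∉ x.asHomogeneousIdeal) :
    ((((Proj.toSpecZero 𝒜).appTop.hom ((Scheme.ΓSpecIso (CommRingCat.of (𝒜 0))).inv.hom a) :
      (ProjectiveSpectrum.Proj.structureSheaf 𝒜).1.obj (op ⊤)).1 ⟨x, trivial⟩).val :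
        Localization.AtPrime x.asHomogeneousIdeal.toIdeal) =
      Localization.mk a.1 1 := by
  have h := toSpecZero_res 𝒜 f hf hm a
  have h2 := congrArg (fun (s : (ProjectiveSpectrum.Proj.structureSheaf 𝒜).1.obj
    (op (ProjectiveSpectrum.basicOpen 𝒜 f))) => (s.1 ⟨x, hx⟩).val) h
  refine Eq.trans ?_ (h2.trans ?_)
  · rfl
  · change (HomogeneousLocalization.mapId 𝒜 _ (HomogeneousLocalization.mk _)).val = _
    erw [HomogeneousLocalization.map_mk, HomogeneousLocalization.val_mk]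
    rfl

end General

variable {S : Scheme.{u}} {𝒮 : RelProj.QCGrAlg S} {P : Scheme.{u}} {p : P ⟶ S}
  {chart : ∀ (U : S.Opens) (hU : IsAffineOpen U),
    (((p ⁻¹ᵁ U : P.Opens) : Scheme.{u}) ≅ Proj (𝒮.deg U hU))}

/-- the structure morphism of one chart is flat. -/
theorem flat_comp_chart (U : S.Opens) (hU : IsAffineOpen U)
    (hfl : ∃ d₀ : ℕ, ∀ e, d₀ ≤ e → DegFlat (𝒮.deg U hU) (𝒮.str.app (op U)).hom e) :
    Flat (Proj.toSpecZero (𝒮.deg U hU) ≫ Spec.map (𝒮.strZero U hU)) := by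
  obtain ⟨d₀, hd₀⟩ := hfl
  have hcov : ⨆ i : (Σ d : {d : ℕ // 0 < d}, ↥(𝒮.deg U hU d.1)),
      Proj.basicOpen (𝒮.deg U hU) (i.2 : 𝒮.presheaf.obj (op U)) = ⊤ := by
    apply Proj.iSup_basicOpen_eq_top
    rw [HomogeneousIdeal.irrelevant_eq_span]
    apply Ideal.span_mono
    intro x hx
    simp only [Set.mem_iUnion] at hx
    obtain ⟨i, hi, hx⟩ := hx
    exact ⟨⟨⟨i, hi⟩, ⟨x, hx⟩⟩, rfl⟩
  rw [IsZariskiLocalAtSource.iff_of_iSup_eq_top (P := @Flat) _ hcov]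
  intro i
  rw [← MorphismProperty.cancel_left_of_respectsIso (P := @Flat)
    (Proj.basicOpenIsoSpec (𝒮.deg U hU) (i.2 : 𝒮.presheaf.obj (op U)) i.2.2 i.1.2).inv,
    ← Category.assoc, ← Proj.awayι, Proj.awayι_toSpecZero_assoc, ← Spec.map_comp,
    HasRingHomProperty.Spec_iff (P := @Flat)]
  exact flat_away (ι := (𝒮.str.app (op U)).hom) i.2.2 (𝒮.str_mem U hU) i.1.2 d₀ hd₀ _
    (fun r => rfl)

/-- **Part 1**: the relative homogeneous spectrum of a graded algebra with eventually flat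
graded pieces is flat over the base. -/
theorem flat_of_isRelProj
    (hflat : ∀ (U : S.Opens) (hU : IsAffineOpen U), ∃ d₀ : ℕ, ∀ e, d₀ ≤ e →
      DegFlat (𝒮.deg U hU) (𝒮.str.app (op U)).hom e)
    (hP : RelProj.IsRelProj 𝒮 p chart) : Flat p := by
  have hcov : ⨆ U : S.affineOpens, U.1 = ⊤ := by
    rw [eq_top_iff]
    intro x _
    obtain ⟨_, ⟨U, hU, rfl⟩, hxU, -⟩ :=
      S.isBasis_affineOpens.exists_subset_of_mem_open (Set.mem_univ x) isOpen_univ
    exact TopologicalSpace.Opens.mem_iSup.mpr ⟨⟨U, hU⟩, hxU⟩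
  rw [IsZariskiLocalAtTarget.iff_of_iSup_eq_top (P := @Flat) (fun U : S.affineOpens => U.1) hcov]
  intro U
  haveI := flat_comp_chart U.1 U.2 (hflat U.1 U.2)
  have e : p ∣_ U.1 = (chart U.1 U.2).hom ≫ (Proj.toSpecZero (𝒮.deg U.1 U.2) ≫
      Spec.map (𝒮.strZero U.1 U.2)) ≫ U.2.isoSpec.inv := by
    rw [← cancel_mono U.1.ι, morphismRestrict_ι]
    simp only [Category.assoc, IsAffineOpen.isoSpec_inv_ι]
    exact (hP.chart_over U.1 U.2).symm
  rw [e]
  infer_instance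

/-- the chart immersion followed by `p`. -/
theorem emb_comp (hP : RelProj.IsRelProj 𝒮 p chart) (U : S.Opens) (hU : IsAffineOpen U) :
    RelProj.emb p chart U hU ≫ p =
      Proj.toSpecZero (𝒮.deg U hU) ≫ Spec.map (𝒮.strZero U hU) ≫ hU.fromSpec := by
  unfold RelProj.emb
  rw [Category.assoc, ← hP.chart_over U hU, Iso.inv_hom_id_assoc]

/-- the functions on the base act on `p⁻¹U ≅ Proj 𝒮(U)` pointwise through the structure map. -/
theorem gamma_val (hP : RelProj.IsRelProj 𝒮 p chart) (U : S.Opens) (hU : IsAffineOpen U)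
    {d : ℕ} (hd : 0 < d) {f : 𝒮.presheaf.obj (op U)} (hf : f ∈ 𝒮.deg U hU d)
    (W : P.Opens) (hWU : W ≤ p ⁻¹ᵁ U)
    (hV : RelProj.emb p chart U hU ⁻¹ᵁ W = Proj.basicOpen (𝒮.deg U hU) f)
    (r : Γ(S, U)) (y : ↥(RelProj.emb p chart U hU ⁻¹ᵁ W)) :
    (((show GrTwist.O (𝒜 := 𝒮.deg U hU) (op (RelProj.emb p chart U hU ⁻¹ᵁ W)) from
        ((RelProj.emb p chart U hU).app W).hom ((p.appLE U W hWU).hom r)).1 y).val :
          Localization.AtPrime y.1.asHomogeneousIdeal.toIdeal) =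
      Localization.mk ((𝒮.str.app (op U)).hom r) 1 := by
  have hy : f ∉ y.1.asHomogeneousIdeal := by
    have h1 : y.1 ∈ Proj.basicOpen (𝒮.deg U hU) f := hV ▸ y.2
    exact (ProjectiveSpectrum.mem_basicOpen (𝒮.deg U hU) f y.1).1 h1
  have h_eq := emb_comp hP U hU
  have hle : RelProj.emb p chart U hU ⁻¹ᵁ W ≤ (RelProj.emb p chart U hU ≫ p) ⁻¹ᵁ U :=
    fun z hz => hWU hz
  have hA : p.appLE U W hWU ≫ (RelProj.emb p chart U hU).app W =
      (RelProj.emb p chart U hU ≫ p).appLE U (RelProj.emb p chart U hU ⁻¹ᵁ W) hle := by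
    rw [Scheme.Hom.app_eq_appLE, Scheme.Hom.appLE_comp_appLE]
  have hB := Groth.Agent.Helper18.Rigid.appLE_congr_hom h_eq U
    (RelProj.emb p chart U hU ⁻¹ᵁ W) hle
  have e₁ : (⊤ : (Spec (CommRingCat.of ↥(𝒮.deg U hU 0))).Opens) ≤
      (Spec.map (𝒮.strZero U hU) ≫ hU.fromSpec) ⁻¹ᵁ U := by
    intro x _
    have h : (Spec.map (𝒮.strZero U hU)).base x ∈ hU.fromSpec ⁻¹ᵁ U := by
      rw [hU.fromSpec_preimage_self]; trivial
    exact h
  have e₂ : RelProj.emb p chart U hU ⁻¹ᵁ W ≤ Proj.toSpecZero (𝒮.deg U hU) ⁻¹ᵁ ⊤ :=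
    fun _ _ => trivial
  have hC := Scheme.Hom.appLE_comp_appLE (Proj.toSpecZero (𝒮.deg U hU))
    (Spec.map (𝒮.strZero U hU) ≫ hU.fromSpec) U ⊤ (RelProj.emb p chart U hU ⁻¹ᵁ W) e₁ e₂
  have hD := Groth.Agent.Helper18.Rigid.specMap_fromSpec_appLE hU (𝒮.strZero U hU) e₁
  have hAll : p.appLE U W hWU ≫ (RelProj.emb p chart U hU).app W =
      (𝒮.strZero U hU ≫ (Scheme.ΓSpecIso (CommRingCat.of ↥(𝒮.deg U hU 0))).inv) ≫
        (Proj.toSpecZero (𝒮.deg U hU)).appLE ⊤ (RelProj.emb p chart U hU ⁻¹ᵁ W) e₂ := by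
    rw [hA, hB, ← hD, hC]
  have hr := congrArg (fun φ => φ.hom r) hAll
  have hval := toSpecZero_val (𝒮.deg U hU) f hf hd ((𝒮.strZero U hU).hom r) y.1 hy
  exact (congrArg (fun s : GrTwist.O (𝒜 := 𝒮.deg U hU)
    (op (RelProj.emb p chart U hU ⁻¹ᵁ W)) => (s.1 y).val) hr).trans hval

end Groth.Agent.Helper6.FlatGr
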