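import Mathlib
import Groth.Prelude.Def_RelProj2
import Groth.Prelude.Def_FlatMod2
import Groth.Agent.Lib.Helper6.FlatGrB
import Groth.Agent.Lib.Helper28.RelQcoh
import Groth.Agent.Lib.Helper28.RelTwist
import Groth.Agent.Lib.Helper13.FlatOverAffine

/-!
# Flatness over the base of the twisting sheaves of a relative `Proj` with eventually flat
graded pieces (helper6)
-/

set_option autoImplicit false
set_option linter.style.haveILetI false
set_option linter.unusedSectionVars false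
universe u
open CategoryTheory CategoryTheory.Limits AlgebraicGeometry Opposite TopologicalSpace
open scoped HomogeneousIdeal

namespace Groth.Agent.Helper6.FlatGr

open Groth.Agent.Helper28

variable {S : Scheme.{u}} {𝒮 : RelProj.QCGrAlg S} {P : Scheme.{u}} {p : P ⟶ S}
  {chart : ∀ (U : S.Opens) (hU : IsAffineOpen U),
    (((p ⁻¹ᵁ U : P.Opens) : Scheme.{u}) ≅ Proj (𝒮.deg U hU))}
  {n : ℤ} {L : P.Modules}
  {lam : ∀ (U : S.Opens) (hU : IsAffineOpen U),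
    L ⟶ (Scheme.Modules.pushforward (RelProj.emb p chart U hU)).obj
      (GrTwist.twist (𝒮.deg U hU) n)}

theorem ofTwist_bijective {A σ : Type u} [CommRing A] [SetLike σ A] [AddSubgroupClass σ A]
    (𝒜 : ℕ → σ) [GradedRing 𝒜] (n : ℤ) (U : (Opens (ProjectiveSpectrum.top 𝒜))ᵒᵖ) :
    Function.Bijective (GrModQcoh.ofTwist 𝒜 n U) :=
  Function.bijective_iff_has_inverse.2
    ⟨GrModQcoh.toTwist 𝒜 n U, GrModQcoh.toTwist_ofTwist 𝒜 n U, GrModQcoh.ofTwist_toTwist 𝒜 n U⟩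

/-- sections of `O_P(n)` over the image of `D₊(f)` are flat over the functions on `U`. -/
theorem flat_sections (hP : RelProj.IsRelProj 𝒮 p chart)
    (hL : RelProj.IsRelTwist 𝒮 p chart n L lam) (U : S.Opens) (hU : IsAffineOpen U)
    (hfl : ∃ d₀ : ℕ, ∀ e, d₀ ≤ e → DegFlat (𝒮.deg U hU) (𝒮.str.app (op U)).hom e)
    {d : ℕ} (hd : 0 < d) {f : 𝒮.presheaf.obj (op U)} (hf : f ∈ 𝒮.deg U hU d)
    (hWU : RelProj.emb p chart U hU ''ᵁ Proj.basicOpen (𝒮.deg U hU) f ≤ p ⁻¹ᵁ U) :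
    @Module.Flat Γ(S, U) Γ(L, RelProj.emb p chart U hU ''ᵁ Proj.basicOpen (𝒮.deg U hU) f) _ _
      (Module.compHom _ (p.appLE U _ hWU).hom) := by
  obtain ⟨d₀, hd₀⟩ := hfl
  have hV : RelProj.emb p chart U hU ⁻¹ᵁ
      (RelProj.emb p chart U hU ''ᵁ Proj.basicOpen (𝒮.deg U hU) f) =
      Proj.basicOpen (𝒮.deg U hU) f :=
    (RelProj.emb p chart U hU).preimage_image_eq _
  obtain ⟨W, hWdef⟩ : ∃ W : P.Opens,
      W = RelProj.emb p chart U hU ''ᵁ Proj.basicOpen (𝒮.deg U hU) f := ⟨_, rfl⟩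
  rw [← hWdef] at hV
  revert hWU
  rw [← hWdef]
  intro hWU
  -- the ring homomorphism through which `Γ(S, U)` acts on the sections over `E⁻¹ W`
  let γ : Γ(S, U) →+* GrTwist.O (𝒜 := 𝒮.deg U hU) (op (RelProj.emb p chart U hU ⁻¹ᵁ W)) :=
    ((RelProj.emb p chart U hU).app W).hom.comp (p.appLE U W hWU).hom
  have hγ : ∀ (r : Γ(S, U)) (y : ↥(RelProj.emb p chart U hU ⁻¹ᵁ W)),
      ((γ r).1 y).val = Localization.mk ((𝒮.str.app (op U)).hom r) 1 :=
    fun r y => gamma_val hP U hU hd hf W hWU hV r y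
  have hN := flat_sect (𝒜 := 𝒮.deg U hU) (ι := (𝒮.str.app (op U)).hom) hd hf n
    (𝒮.str_mem U hU) d₀ hd₀ (RelProj.emb p chart U hU ⁻¹ᵁ W) hV γ hγ
  letI modL : Module Γ(S, U) Γ(L, W) := Module.compHom _ (p.appLE U W hWU).hom
  letI modN : Module Γ(S, U)
      (GrMod.sect (𝒮.deg U hU) (𝒮.deg U hU) n (op (RelProj.emb p chart U hU ⁻¹ᵁ W))) :=
    Module.compHom _ γ
  haveI : Module.Flat Γ(S, U)
      (GrMod.sect (𝒮.deg U hU) (𝒮.deg U hU) n (op (RelProj.emb p chart U hU ⁻¹ᵁ W))) := hN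
  -- the additive equivalence
  let ofT : GrTwist.sectN (𝒜 := 𝒮.deg U hU) n (op (RelProj.emb p chart U hU ⁻¹ᵁ W)) →+
      GrMod.sect (𝒮.deg U hU) (𝒮.deg U hU) n (op (RelProj.emb p chart U hU ⁻¹ᵁ W)) :=
    AddMonoidHom.mk' (GrModQcoh.ofTwist (𝒮.deg U hU) n (op (RelProj.emb p chart U hU ⁻¹ᵁ W)))
      (GrModQcoh.ofTwist_add (𝒮.deg U hU) n (op (RelProj.emb p chart U hU ⁻¹ᵁ W)))
  let Φ : Γ(L, W) →+
      GrMod.sect (𝒮.deg U hU) (𝒮.deg U hU) n (op (RelProj.emb p chart U hU ⁻¹ᵁ W)) :=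
    ofT.comp ((lam U hU).app W).hom
  have hΦ : Function.Bijective Φ :=
    (ofTwist_bijective (𝒮.deg U hU) n (op (RelProj.emb p chart U hU ⁻¹ᵁ W))).comp
      (hL.bijective U hU W hWU)
  have hsemi : ∀ (r : Γ(S, U)) (s : Γ(L, W)), Φ (r • s) = r • Φ s := by
    intro r s
    have e2 := Scheme.Modules.Hom.app_smul (lam U hU) ((p.appLE U W hWU).hom r) s
    have e3 := GrModQcoh.ofTwist_smul (𝒮.deg U hU) n
      (op (RelProj.emb p chart U hU ⁻¹ᵁ W)) (γ r) ((lam U hU).app W s)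
    show GrModQcoh.ofTwist (𝒮.deg U hU) n (op (RelProj.emb p chart U hU ⁻¹ᵁ W))
        ((lam U hU).app W (((p.appLE U W hWU).hom r) • s)) =
      γ r • GrModQcoh.ofTwist (𝒮.deg U hU) n (op (RelProj.emb p chart U hU ⁻¹ᵁ W))
        ((lam U hU).app W s)
    rw [← e3]
    exact congrArg
      (GrModQcoh.ofTwist (𝒮.deg U hU) n (op (RelProj.emb p chart U hU ⁻¹ᵁ W))) e2
  exact Module.Flat.of_linearEquiv ((AddEquiv.ofBijective Φ hΦ).toLinearEquiv hsemi)

/-- **Part 2**: the twisting sheaves of a relative `Proj` with eventually flat graded pieces are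
flat over the base. -/
theorem isFlatOver_of_isRelTwist
    (hflat : ∀ (U : S.Opens) (hU : IsAffineOpen U), ∃ d₀ : ℕ, ∀ e, d₀ ≤ e →
      DegFlat (𝒮.deg U hU) (𝒮.str.app (op U)).hom e)
    (hP : RelProj.IsRelProj 𝒮 p chart) (hL : RelProj.IsRelTwist 𝒮 p chart n L lam) :
    FlatMod.IsFlatOver p L := by
  intro x
  haveI : L.IsQuasicoherent := RelSys.isQuasicoherent_of_isRelTwist hL
  obtain ⟨U, hU, d, f, hd, hf, hx⟩ :=
    RelTwist.exists_chart_basicOpen (p := p) (chart := chart) x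
  have hWU := RelTwist.image_emb_le p chart U hU (Proj.basicOpen (𝒮.deg U hU) f)
  have hW : IsAffineOpen (RelProj.emb p chart U hU ''ᵁ Proj.basicOpen (𝒮.deg U hU) f) :=
    (Proj.isAffineOpen_basicOpen (𝒮.deg U hU) f hf hd).image_of_isOpenImmersion _
  have hxW : x ∈ RelProj.emb p chart U hU ''ᵁ Proj.basicOpen (𝒮.deg U hU) f := by
    obtain ⟨⟨y, hy⟩, rfl⟩ := hx
    exact ⟨y, hy, rfl⟩
  exact Groth.Agent.Helper13.FlatOver.isFlatOverAt_of_flat_sections p L hW hU hWU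
    (flat_sections hP hL U hU (hflat U hU) hd hf hWU) x hxW

end Groth.Agent.Helper6.FlatGr
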