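import Mathlib
import Groth.Agent.Lib.Helper6.GGDescA
import Groth.Agent.Lib.Helper13.InvGen

/-!
# Spreading out global generation from the spectrum of a local ring of the base (helper6)
-/

set_option autoImplicit false
set_option maxRecDepth 8000
universe u
open CategoryTheory CategoryTheory.Limits AlgebraicGeometry Opposite TopologicalSpace TensorProduct
open Groth.Agent.Helper13.QCoh Groth.Agent.Helper13.Pullback Groth.Agent.Helper18.PbCompat
open Groth.Agent.Helper18.Rec Groth.Agent.Helper13.Qcqs OmegaSh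
open Groth.Agent.Helper13.FlatBC Groth.Agent.Helper13.FinType Groth.Agent.Helper13.GlobGen
open Groth.Agent.Helper13.FpqcFin Groth.Agent.Helper6.GGDesc

namespace Groth.Agent.Helper6.GGStalk

section Alg

/-- a finite module whose localization at a prime vanishes (in base-changed form over a pushout
square) is killed by an element outside the prime. -/
theorem exists_notMem_smul_eq_zero
    {A A' B B' Q : Type u} [CommRing A] [CommRing A'] [CommRing B] [CommRing B']
    [Algebra A A'] [Algebra A B] [Algebra B B'] [Algebra A' B'] [Algebra A B']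
    [IsScalarTower A A' B'] [IsScalarTower A B B'] [Algebra.IsPushout A A' B B']
    (p : Ideal A) [p.IsPrime] [IsLocalization.AtPrime A' p]
    [AddCommGroup Q] [Module B Q] [Module.Finite B Q]
    (hsub : Subsingleton (B' ⊗[B] Q)) :
    ∃ a : A, a ∉ p ∧ ∀ q : Q, algebraMap A B a • q = 0 := by
  classical
  letI : Module A Q := Module.compHom Q (algebraMap A B)
  haveI : IsScalarTower A B Q := IsScalarTower.of_algebraMap_smul (fun _ _ => rfl)
  let c : B' ⊗[B] Q ≃ₗ[A'] A' ⊗[A] Q := Algebra.IsPushout.cancelBaseChange A A' B B' Q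
  haveI : Subsingleton (A' ⊗[A] Q) := c.symm.injective.subsingleton
  haveI hloc : IsLocalizedModule p.primeCompl (TensorProduct.mk A A' Q 1) :=
    (isLocalizedModule_iff_isBaseChange p.primeCompl A' _).mpr (TensorProduct.isBaseChange A Q A')
  have hq : ∀ q : Q, ∃ a : A, a ∉ p ∧ algebraMap A B a • q = 0 := by
    intro q
    have h0 : (TensorProduct.mk A A' Q 1) q = 0 := Subsingleton.elim _ _
    obtain ⟨s, hs⟩ := (IsLocalizedModule.eq_zero_iff p.primeCompl (TensorProduct.mk A A' Q 1)).1 h0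
    exact ⟨s.1, s.2, hs⟩
  obtain ⟨T, hT⟩ := (Module.Finite.fg_top : (⊤ : Submodule B Q).FG)
  choose a ha1 ha2 using hq
  refine ⟨∏ t ∈ T, a t, ?_, ?_⟩
  · intro hmem
    obtain ⟨t, -, ht⟩ := (Ideal.IsPrime.prod_mem_iff (p := p)).1 hmem
    exact ha1 t ht
  · intro q
    have hqT : q ∈ Submodule.span B (T : Set Q) := by rw [hT]; trivial
    induction hqT using Submodule.span_induction with
    | mem t ht =>
      obtain ⟨c, hc⟩ := Finset.dvd_prod_of_mem a ht
      rw [hc, map_mul, mul_comm, mul_smul, ha2 t, smul_zero]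
    | zero => rw [smul_zero]
    | add x y _ _ hx hy => rw [smul_add, hx, hy, add_zero]
    | smul b x _ hx => rw [smul_comm, hx, smul_zero]

end Alg

section Geom

variable {X S X' S' : Scheme.{u}} {f : X ⟶ S} {g : S' ⟶ S} {g' : X' ⟶ X} {f' : X' ⟶ S'}

/-- Step A for a general datum: the pulled back restrictions of sections over `f⁻¹ V` span the
sections of the pullback over `pre U`, when the pullback is globally generated. -/
theorem span_pullRes_eq_top [QuasiCompact f] [QuasiSeparated f] [Flat g]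
    (F : X.Modules) [F.IsQuasicoherent]
    (h : IsPullback g' f' f g) (d : Datum g) (hV : IsAffineOpen d.V) (hV' : IsAffineOpen d.V')
    (e' : f' ⁻¹ᵁ d.V' ≤ g' ⁻¹ᵁ (f ⁻¹ᵁ d.V))
    (hG : ∀ z : X', GGAt ((Scheme.Modules.pullback g').obj F) z)
    (W : Sub f d) (hU : IsAffineOpen W.1) :
    Submodule.span Γ(X', pre g' f' d W.1)
      (Set.range fun t : Γ(F, f ⁻¹ᵁ d.V) =>
        pullRes g' F (pre_le_left g' f' d W.1) (res F W.2 t)) = ⊤ := by
  haveI : ((Scheme.Modules.pullback g').obj F).IsQuasicoherent :=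
    Groth.Agent.Helper13.Pullback.isQuasicoherent_pullback g' F
  have keyX := key_top F h d hV hV' e'
  have hU' : IsAffineOpen (pre g' f' d W.1) := isAffineOpen_pre h d hV hV' W hU
  have e1 : pre g' f' d W.1 ≤ g' ⁻¹ᵁ W.1 := pre_le_left g' f' d W.1
  have hgen : GenOn ((Scheme.Modules.pullback g').obj F) (pre g' f' d W.1)
      (fun τ : Γ((Scheme.Modules.pullback g').obj F, ⊤) =>
        res ((Scheme.Modules.pullback g').obj F) le_top τ) := by
    intro z hz
    have hz' := hG z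
    unfold GGAt at hz'
    rw [eq_top_iff, ← hz']
    apply Submodule.span_mono
    rintro _ ⟨τ, rfl⟩
    exact ⟨τ, TopCat.Presheaf.germ_res_apply _ (homOfLE le_top) z hz τ⟩
  have h2 := span_eq_top_of_genOn ((Scheme.Modules.pullback g').obj F) hU' _ hgen
  rw [eq_top_iff, ← h2, Submodule.span_le]
  rintro _ ⟨τ, rfl⟩
  obtain ⟨ξ, hξ⟩ := keyX.2
    (res ((Scheme.Modules.pullback g').obj F) (le_top : f' ⁻¹ᵁ d.V' ≤ ⊤) τ)
  have h3 := psi_res F h d (W₁ := topSub f d) (W₂ := W) W.2 (f' ⁻¹ᵁ d.V') (pre g' f' d W.1)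
    (pre_le_right g' f' d W.1) e' le_rfl e1 (pre_le_right g' f' d W.1) ξ
  rw [hξ, Groth.Agent.Helper13.Qcqs.res_res] at h3
  change res ((Scheme.Modules.pullback g').obj F) le_top τ ∈ _
  rw [h3]
  clear h3 hξ
  induction ξ using TensorProduct.induction_on with
  | zero =>
    rw [map_zero, map_zero]
    exact Submodule.zero_mem _
  | tmul a' t =>
    rw [LinearMap.lTensor_tmul, psi_tmul]
    apply Submodule.smul_mem
    apply Submodule.subset_span
    exact ⟨t.out, rfl⟩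
  | add y y' hy hy' =>
    rw [map_add, map_add]
    exact Submodule.add_mem _ hy hy'

/-- Step B: the quotient of the sections over an affine `U` by the span of the restricted sections
dies after base change. -/
theorem subsingleton_tensor_quot [QuasiCompact f] [QuasiSeparated f] [Flat g]
    (F : X.Modules) [F.IsQuasicoherent]
    (h : IsPullback g' f' f g) (d : Datum g) (hV : IsAffineOpen d.V) (hV' : IsAffineOpen d.V')
    (e' : f' ⁻¹ᵁ d.V' ≤ g' ⁻¹ᵁ (f ⁻¹ᵁ d.V))
    (hG : ∀ z : X', GGAt ((Scheme.Modules.pullback g').obj F) z)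
    (W : Sub f d) (hU : IsAffineOpen W.1) :
    letI : Algebra Γ(X, W.1) Γ(X', pre g' f' d W.1) :=
      (g'.appLE W.1 (pre g' f' d W.1) (pre_le_left g' f' d W.1)).hom.toAlgebra
    Subsingleton (Γ(X', pre g' f' d W.1) ⊗[Γ(X, W.1)]
      (Γ(F, W.1) ⧸ Submodule.span Γ(X, W.1)
        (Set.range fun t : Γ(F, f ⁻¹ᵁ d.V) => res F W.2 t))) := by
  letI alg : Algebra Γ(X, W.1) Γ(X', pre g' f' d W.1) :=
    (g'.appLE W.1 (pre g' f' d W.1) (pre_le_left g' f' d W.1)).hom.toAlgebra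
  have hU' : IsAffineOpen (pre g' f' d W.1) := isAffineOpen_pre h d hV hV' W hU
  have e1 : pre g' f' d W.1 ≤ g' ⁻¹ᵁ W.1 := pre_le_left g' f' d W.1
  have hA := span_pullRes_eq_top F h d hV hV' e' hG W hU
  let s : Γ(F, f ⁻¹ᵁ d.V) → Γ(F, W.1) := fun t => res F W.2 t
  let E2 := sectionsPullbackEquiv g' F hU' hU e1
  have hE2 : ∀ m : Γ(F, W.1),
      E2 (pullRes g' F e1 m) = (1 : Γ(X', pre g' f' d W.1)) ⊗ₜ[Γ(X, W.1)] m :=
    fun m => sectionsPullbackEquiv_pullRes g' F hU' hU e1 m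
  obtain ⟨P, hP⟩ : ∃ P : Submodule Γ(X, W.1) Γ(F, W.1),
      P = Submodule.span Γ(X, W.1) (Set.range s) := ⟨_, rfl⟩
  change Subsingleton (Γ(X', pre g' f' d W.1) ⊗[Γ(X, W.1)]
      (Γ(F, W.1) ⧸ Submodule.span Γ(X, W.1) (Set.range s)))
  rw [← hP]
  have hzero : ∀ y : Γ(X', pre g' f' d W.1) ⊗[Γ(X, W.1)] Γ(F, W.1),
      (P.mkQ.baseChange Γ(X', pre g' f' d W.1)) y = 0 := by
    intro y
    obtain ⟨w, rfl⟩ := E2.surjective y
    have hw : w ∈ Submodule.span Γ(X', pre g' f' d W.1)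
        (Set.range fun t : Γ(F, f ⁻¹ᵁ d.V) => pullRes g' F e1 (s t)) := by
      rw [hA]; trivial
    induction hw using Submodule.span_induction with
    | mem w hw =>
      obtain ⟨t, rfl⟩ := hw
      rw [hE2, LinearMap.baseChange_tmul]
      have : P.mkQ (s t) = 0 := by
        rw [hP]
        exact (Submodule.Quotient.mk_eq_zero _).2 (Submodule.subset_span ⟨t, rfl⟩)
      rw [this, TensorProduct.tmul_zero]
    | zero => rw [map_zero, map_zero]
    | add a b _ _ ha hb => rw [map_add, map_add, ha, hb, add_zero]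
    | smul c a _ ha => rw [map_smul, map_smul, ha, smul_zero]
  refine subsingleton_of_forall_eq 0 (fun z => ?_)
  induction z using TensorProduct.induction_on with
  | zero => rfl
  | tmul b q =>
    obtain ⟨m, rfl⟩ := P.mkQ_surjective q
    have := hzero (b ⊗ₜ[Γ(X, W.1)] m)
    rwa [LinearMap.baseChange_tmul] at this
  | add a b ha hb => rw [ha, hb, add_zero]

end Geom

section Kill

variable {X S X' S' : Scheme.{u}} {f : X ⟶ S} {g : S' ⟶ S} {g' : X' ⟶ X} {f' : X' ⟶ S'}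

/-- Step C: over an affine `U ⊆ f⁻¹ V`, some element of `Γ(S, V)` outside the prime `p` (at which
`Γ(S', V')` is the localization) multiplies all sections over `U` into the span of the restricted
sections over `f⁻¹ V`. -/
theorem exists_kill [QuasiCompact f] [QuasiSeparated f] [Flat g]
    (F : X.Modules) [F.IsQuasicoherent]
    (h : IsPullback g' f' f g) (d : Datum g) (hV : IsAffineOpen d.V) (hV' : IsAffineOpen d.V')
    (e' : f' ⁻¹ᵁ d.V' ≤ g' ⁻¹ᵁ (f ⁻¹ᵁ d.V))
    (p : Ideal (RA d)) [p.IsPrime] [IsLocalization.AtPrime (RA' d) p]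
    (hG : ∀ z : X', GGAt ((Scheme.Modules.pullback g').obj F) z)
    (W : Sub f d) (hU : IsAffineOpen W.1) (hfin : Module.Finite Γ(X, W.1) Γ(F, W.1)) :
    ∃ a : RA d, a ∉ p ∧ ∀ m : Γ(F, W.1), (f.appLE d.V W.1 W.2).hom a • m ∈
      Submodule.span Γ(X, W.1) (Set.range fun t : Γ(F, f ⁻¹ᵁ d.V) => res F W.2 t) := by
  have hW' : IsAffineOpen (pre g' f' d W.1) := isAffineOpen_pre h d hV hV' W hU
  letI algAB : Algebra Γ(S, d.V) Γ(X, W.1) := (f.appLE d.V W.1 W.2).hom.toAlgebra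
  letI algBB' : Algebra Γ(X, W.1) Γ(X', pre g' f' d W.1) :=
    (g'.appLE W.1 (pre g' f' d W.1) (pre_le_left g' f' d W.1)).hom.toAlgebra
  letI algA'B' : Algebra Γ(S', d.V') Γ(X', pre g' f' d W.1) :=
    (f'.appLE d.V' (pre g' f' d W.1) (pre_le_right g' f' d W.1)).hom.toAlgebra
  letI algAB' : Algebra Γ(S, d.V) Γ(X', pre g' f' d W.1) :=
    ((f.appLE d.V W.1 W.2) ≫
      (g'.appLE W.1 (pre g' f' d W.1) (pre_le_left g' f' d W.1))).hom.toAlgebra
  have hcomm : f.appLE d.V W.1 W.2 ≫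
      g'.appLE W.1 (pre g' f' d W.1) (pre_le_left g' f' d W.1) =
      g.appLE d.V d.V' d.e ≫
        f'.appLE d.V' (pre g' f' d W.1) (pre_le_right g' f' d W.1) := by
    simp only [Scheme.Hom.appLE_comp_appLE, h.w]
  haveI t1 : IsScalarTower Γ(S, d.V) Γ(X, W.1) Γ(X', pre g' f' d W.1) :=
    IsScalarTower.of_algebraMap_eq (fun _ => rfl)
  haveI t2 : IsScalarTower Γ(S, d.V) Γ(S', d.V') Γ(X', pre g' f' d W.1) :=
    IsScalarTower.of_algebraMap_eq (fun a => congrArg (fun φ => φ.hom a) hcomm)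
  have hpo : IsPushout (f.appLE d.V W.1 W.2) (g.appLE d.V d.V' d.e)
      (g'.appLE W.1 (pre g' f' d W.1) (pre_le_left g' f' d W.1))
      (f'.appLE d.V' (pre g' f' d W.1) (pre_le_right g' f' d W.1)) :=
    (AlgebraicGeometry.isIso_pushoutSection_iff h d.e W.2 rfl).mp
      (AlgebraicGeometry.isIso_pushoutSection_of_isAffineOpen h d.e W.2 rfl hV hV' hU)
  have hpo1 : Algebra.IsPushout Γ(S, d.V) Γ(X, W.1) Γ(S', d.V') Γ(X', pre g' f' d W.1) :=
    CommRingCat.isPushout_iff_isPushout.mp hpo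
  haveI hpo2 : Algebra.IsPushout Γ(S, d.V) Γ(S', d.V') Γ(X, W.1) Γ(X', pre g' f' d W.1) :=
    Algebra.IsPushout.symm hpo1
  have hsub := subsingleton_tensor_quot F h d hV hV' e' hG W hU
  haveI : IsLocalization.AtPrime Γ(S', d.V') p := ‹IsLocalization.AtPrime (RA' d) p›
  obtain ⟨a, hap, ha⟩ := exists_notMem_smul_eq_zero (A := Γ(S, d.V)) (A' := Γ(S', d.V'))
    (B := Γ(X, W.1)) (B' := Γ(X', pre g' f' d W.1)) p hsub
  refine ⟨a, hap, fun m => ?_⟩
  have h1 := ha (Submodule.Quotient.mk m)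
  rw [← Submodule.Quotient.mk_smul, Submodule.Quotient.mk_eq_zero] at h1
  exact h1

end Kill

section Stalk

/-- the canonical morphism `Spec 𝒪_{Y,y} ⟶ Y` is flat -/
theorem flat_fromSpecStalk' (Y : Scheme.{u}) (y : Y) : Flat (Y.fromSpecStalk y) := by
  obtain ⟨U, hU, hxU, -⟩ :=
    TopologicalSpace.Opens.isBasis_iff_nbhd.mp Y.isBasis_affineOpens
      (show y ∈ (⊤ : Y.Opens) from trivial)
  have hU : IsAffineOpen U := hU
  rw [← hU.fromSpecStalk_eq_fromSpecStalk hxU]
  unfold IsAffineOpen.fromSpecStalk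
  haveI h1 : Flat (Spec.map (Y.presheaf.germ U y hxU)) := by
    letI : Algebra Γ(Y, U) (Y.presheaf.stalk y) := (Y.presheaf.germ U y hxU).hom.toAlgebra
    haveI := hU.isLocalization_stalk ⟨y, hxU⟩
    rw [HasRingHomProperty.Spec_iff (P := @Flat)]
    exact RingHom.flat_algebraMap_iff.mpr
      (IsLocalization.flat _ (hU.primeIdealOf ⟨y, hxU⟩).asIdeal.primeCompl)
  exact MorphismProperty.comp_mem _ _ _ h1 inferInstance

/-- every point of `Spec 𝒪_{Y,y}` maps into any open neighbourhood of `y`. -/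
theorem top_le_preimage_fromSpecStalk {Y : Scheme.{u}} (y : Y) (V₀ : Y.Opens) (hy : y ∈ V₀) :
    (⊤ : (Spec (Y.presheaf.stalk y)).Opens) ≤ (Y.fromSpecStalk y) ⁻¹ᵁ V₀ := by
  intro z _
  have h1 : (Y.fromSpecStalk y) z ⤳ y :=
    (Scheme.range_fromSpecStalk (X := Y) (x := y)).le ⟨z, rfl⟩
  exact h1.mem_open V₀.2 hy

/-- `Γ(Spec 𝒪_{Y,y}, ⊤)` is the localization of `Γ(Y, V)` at the prime of `y`, for `V ∋ y` an
affine open (explicit algebra structure). -/
theorem isLocalization_fromSpecStalk_aux {Y : Scheme.{u}} (y : Y) (V : Y.Opens)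
    (V' : (Spec (Y.presheaf.stalk y)).Opens) (e : V' ≤ (Y.fromSpecStalk y) ⁻¹ᵁ V)
    (hV : IsAffineOpen V) (hy : y ∈ V) (hV' : V' = ⊤) :
    @IsLocalization.AtPrime Γ(Y, V) _ Γ(Spec (Y.presheaf.stalk y), V') _
      (((Y.fromSpecStalk y).appLE V V' e).hom.toAlgebra)
      (hV.primeIdealOf ⟨y, hy⟩).asIdeal _ := by
  subst hV'
  letI alg2 : Algebra Γ(Y, V) (Y.presheaf.stalk y) := (Y.presheaf.germ V y hy).hom.toAlgebra
  letI alg3 : Algebra Γ(Y, V) Γ(Spec (Y.presheaf.stalk y), ⊤) :=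
    ((Y.fromSpecStalk y).appLE V ⊤ e).hom.toAlgebra
  haveI hloc : IsLocalization.AtPrime (Y.presheaf.stalk y) (hV.primeIdealOf ⟨y, hy⟩).asIdeal :=
    hV.isLocalization_stalk ⟨y, hy⟩
  have hcomp : (Y.fromSpecStalk y).appLE V ⊤ e =
      Y.presheaf.germ V y hy ≫ (Scheme.ΓSpecIso (Y.presheaf.stalk y)).inv := by
    rw [Scheme.Hom.appLE, Scheme.fromSpecStalk_app hy, Category.assoc, Category.assoc,
      ← Functor.map_comp]
    have h1 : ((homOfLE le_top).op ≫ (homOfLE e).op :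
        op (⊤ : (Spec (Y.presheaf.stalk y)).Opens) ⟶ op ⊤) = 𝟙 _ := Subsingleton.elim _ _
    rw [h1, CategoryTheory.Functor.map_id, Category.comp_id]
  let φ : Y.presheaf.stalk y ≃+* Γ(Spec (Y.presheaf.stalk y), ⊤) :=
    (Scheme.ΓSpecIso (Y.presheaf.stalk y)).symm.commRingCatIsoToRingEquiv
  have hφ : ∀ r : Γ(Y, V), φ ((Y.presheaf.germ V y hy).hom r) =
      ((Y.fromSpecStalk y).appLE V ⊤ e).hom r := by
    intro r
    rw [hcomp]
    rfl
  let ψ : @AlgEquiv Γ(Y, V) (Y.presheaf.stalk y) Γ(Spec (Y.presheaf.stalk y), ⊤) _ _ _ alg2 alg3 :=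
    @AlgEquiv.ofRingEquiv Γ(Y, V) (Y.presheaf.stalk y) Γ(Spec (Y.presheaf.stalk y), ⊤) _ _ _
      alg2 alg3 φ hφ
  exact @IsLocalization.isLocalization_of_algEquiv Γ(Y, V) _
    (hV.primeIdealOf ⟨y, hy⟩).asIdeal.primeCompl (Y.presheaf.stalk y) _ alg2
    Γ(Spec (Y.presheaf.stalk y), ⊤) _ alg3 hloc ψ

/-- `Γ(Spec 𝒪_{Y,y}, ⊤)` is the localization of `Γ(Y, V)` at the prime of `y`, for `V ∋ y` an
affine open. -/
theorem isLocalization_fromSpecStalk {Y : Scheme.{u}} (y : Y) (d : Datum (Y.fromSpecStalk y))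
    (hV : IsAffineOpen d.V) (hy : y ∈ d.V) (hV' : d.V' = ⊤)
    (p : Ideal (RA d)) [p.IsPrime] (hp : p = (hV.primeIdealOf ⟨y, hy⟩).asIdeal) :
    IsLocalization.AtPrime (RA' d) p := by
  subst hp
  exact isLocalization_fromSpecStalk_aux y d.V d.V' d.e hV hy hV'

end Stalk

section Main

/-- a function on the base invertible at `f x` pulls back to a function invertible at `x`. -/
theorem isUnit_germ_appLE {X Y : Scheme.{u}} (f : X ⟶ Y) {V₀ : Y.Opens} {U : X.Opens}
    (hle : U ≤ f ⁻¹ᵁ V₀) (a : Γ(Y, V₀)) (x : X) (hxU : x ∈ U) (hx : f x ∈ Y.basicOpen a) :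
    IsUnit (X.presheaf.germ U x hxU ((f.appLE V₀ U hle).hom a)) := by
  have h1 : x ∈ X.basicOpen ((f.appLE V₀ U hle).hom a) := by
    have h2 : (f.appLE V₀ U hle).hom a = X.presheaf.map (homOfLE hle).op (f.app V₀ a) := rfl
    rw [h2, Scheme.basicOpen_res, ← Scheme.preimage_basicOpen]
    exact ⟨hxU, hx⟩
  exact (X.mem_basicOpen _ x hxU).1 h1

/-- **Spreading out global generation**: if the pullback of a finite type quasi-coherent module `F`
to `X ×_Y Spec 𝒪_{Y,y}` is globally generated, then there is an open neighbourhood `V` of `y`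
such that `F` is generated over `f⁻¹ V` by its sections over `f⁻¹ V`. -/
theorem exists_nhd_span_germ {X Y X' : Scheme.{u}} (f : X ⟶ Y) [QuasiCompact f]
    [QuasiSeparated f]
    (F : X.Modules) [F.IsQuasicoherent] [SheafOfModules.IsFiniteType (R := X.ringCatSheaf) F]
    (y : Y) (g' : X' ⟶ X) (f' : X' ⟶ Spec (Y.presheaf.stalk y))
    (h : IsPullback g' f' f (Y.fromSpecStalk y))
    (d : Datum (Y.fromSpecStalk y)) (hV : IsAffineOpen d.V) (hy : y ∈ d.V) (hV' : d.V' = ⊤)
    (hG : ∀ z : X', GGAt ((Scheme.Modules.pullback g').obj F) z) :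
    ∃ V : Y.Opens, y ∈ V ∧ ∀ (x : X) (hx : x ∈ f ⁻¹ᵁ V),
      Submodule.span (X.presheaf.stalk x)
        (Set.range fun t : Γ(F, f ⁻¹ᵁ V) => F.presheaf.germ (f ⁻¹ᵁ V) x hx t) = ⊤ := by
  classical
  haveI : Flat (Y.fromSpecStalk y) := flat_fromSpecStalk' Y y
  have hV'aff : IsAffineOpen d.V' := by rw [hV']; exact isAffineOpen_top _
  have e' : f' ⁻¹ᵁ d.V' ≤ g' ⁻¹ᵁ (f ⁻¹ᵁ d.V) := by
    intro z hz
    have h1 : (Y.fromSpecStalk y) (f' z) ∈ d.V := d.e hz
    have h2 : f (g' z) = (Y.fromSpecStalk y) (f' z) := by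
      rw [← Scheme.Hom.comp_apply, ← Scheme.Hom.comp_apply, h.w]
    show f (g' z) ∈ d.V
    rw [h2]; exact h1
  obtain ⟨p, hp⟩ : ∃ p : Ideal (RA d), p = (hV.primeIdealOf ⟨y, hy⟩).asIdeal := ⟨_, rfl⟩
  haveI hpp : p.IsPrime := by rw [hp]; exact (hV.primeIdealOf ⟨y, hy⟩).isPrime
  haveI hloc : IsLocalization.AtPrime (RA' d) p :=
    isLocalization_fromSpecStalk y d hV hy hV' p hp
  have hc : IsCompact ((f ⁻¹ᵁ d.V : X.Opens) : Set X) := f.isCompact_preimage hV.isCompact
  obtain ⟨I, hI, eI⟩ := isCompact_iff_finite_and_eq_biUnion_affineOpens.mp hc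
  haveI := hI.to_subtype
  haveI : Fintype I := Fintype.ofFinite I
  have hle : ∀ i : I, (i.1 : X.Opens) ≤ f ⁻¹ᵁ d.V := by
    intro i
    rw [eI]
    exact le_iSup₂ (f := fun (j : X.affineOpens) (_ : j ∈ I) => (j : X.Opens)) i.1 i.2
  have hk : ∀ i : I, ∃ a : RA d, a ∉ p ∧ ∀ m : Γ(F, (i.1 : X.Opens)),
      (f.appLE d.V (i.1 : X.Opens) (hle i)).hom a • m ∈
        Submodule.span Γ(X, (i.1 : X.Opens))
          (Set.range fun t : Γ(F, f ⁻¹ᵁ d.V) => res F (hle i) t) := fun i =>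
    exists_kill F h d hV hV'aff e' p hG ⟨i.1, hle i⟩ i.1.2
      (finite_sections_of_isFiniteType F i.1.2)
  choose a ha1 ha2 using hk
  obtain ⟨A, hAdef⟩ : ∃ A : RA d, A = ∏ i : I, a i := ⟨_, rfl⟩
  have hA : A ∉ p := by
    intro hmem
    rw [hAdef] at hmem
    obtain ⟨i, -, hi⟩ := (Ideal.IsPrime.prod_mem_iff (p := p)).1 hmem
    exact ha1 i hi
  refine ⟨Y.basicOpen A, ?_, ?_⟩
  · rw [Y.mem_basicOpen A y hy]
    letI alg2 : Algebra Γ(Y, d.V) (Y.presheaf.stalk y) := (Y.presheaf.germ d.V y hy).hom.toAlgebra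
    haveI := hV.isLocalization_stalk ⟨y, hy⟩
    have hA' : A ∈ (hV.primeIdealOf ⟨y, hy⟩).asIdeal.primeCompl := by
      intro hmem
      apply hA
      rw [hp]; exact hmem
    exact IsLocalization.map_units (Y.presheaf.stalk y) ⟨A, hA'⟩
  · intro x hx
    have hxV : x ∈ f ⁻¹ᵁ d.V := Y.basicOpen_le A hx
    have hxV' : x ∈ ⨆ i ∈ I, (i : X.Opens) := eI ▸ hxV
    obtain ⟨i, hiI, hxi⟩ : ∃ i : X.affineOpens, ∃ _ : i ∈ I, x ∈ (i : X.Opens) := by
      simpa [Opens.mem_iSup] using hxV'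
    have hUaff : IsAffineOpen (i : X.Opens) := i.2
    obtain ⟨ii, hii⟩ : ∃ ii : I, ii.1 = i := ⟨⟨i, hiI⟩, rfl⟩
    subst hii
    have hgen := genOn_of_span_eq_top F hUaff (fun m : Γ(F, (ii.1 : X.Opens)) => m) (by
        rw [eq_top_iff]; intro m _; exact Submodule.subset_span ⟨m, rfl⟩) x hxi
    rw [eq_top_iff, ← hgen]
    refine Submodule.span_le.2 ?_
    rintro _ ⟨m, rfl⟩
    show F.presheaf.germ (ii.1 : X.Opens) x hxi m ∈ Submodule.span (X.presheaf.stalk x)
      (Set.range fun t : Γ(F, f ⁻¹ᵁ Y.basicOpen A) =>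
        F.presheaf.germ (f ⁻¹ᵁ Y.basicOpen A) x hx t)
    have hb : IsUnit (X.presheaf.germ (ii.1 : X.Opens) x hxi
        ((f.appLE d.V (ii.1 : X.Opens) (hle ii)).hom (a ii))) := by
      refine isUnit_germ_appLE f (hle ii) (a ii) x hxi ?_
      obtain ⟨c, hc⟩ := Finset.dvd_prod_of_mem a (Finset.mem_univ ii)
      have h5 : f x ∈ Y.basicOpen A := hx
      rw [hAdef, hc, Scheme.basicOpen_mul] at h5
      exact h5.1
    have hmem := ha2 ii m
    have key : ∀ n ∈ Submodule.span Γ(X, (ii.1 : X.Opens))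
        (Set.range fun t : Γ(F, f ⁻¹ᵁ d.V) => res F (hle ii) t),
        F.presheaf.germ (ii.1 : X.Opens) x hxi n ∈ Submodule.span (X.presheaf.stalk x)
          (Set.range fun t : Γ(F, f ⁻¹ᵁ Y.basicOpen A) =>
            F.presheaf.germ (f ⁻¹ᵁ Y.basicOpen A) x hx t) := by
      intro n hn
      induction hn using Submodule.span_induction with
      | mem n hn =>
        obtain ⟨t, rfl⟩ := hn
        have hle2 : f ⁻¹ᵁ Y.basicOpen A ≤ f ⁻¹ᵁ d.V := fun z hz => Y.basicOpen_le A hz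
        refine Submodule.subset_span ⟨res F hle2 t, ?_⟩
        have q1 : F.presheaf.germ (f ⁻¹ᵁ Y.basicOpen A) x hx (res F hle2 t) =
            F.presheaf.germ (f ⁻¹ᵁ d.V) x hxV t :=
          TopCat.Presheaf.germ_res_apply F.presheaf (homOfLE hle2) x hx t
        have q2 : F.presheaf.germ (ii.1 : X.Opens) x hxi (res F (hle ii) t) =
            F.presheaf.germ (f ⁻¹ᵁ d.V) x hxV t :=
          TopCat.Presheaf.germ_res_apply F.presheaf (homOfLE (hle ii)) x hxi t
        exact q1.trans q2.symm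
      | zero => rw [map_zero]; exact Submodule.zero_mem _
      | add a b _ _ ha hb => rw [map_add]; exact Submodule.add_mem _ ha hb
      | smul c n _ hn => rw [germ_smul]; exact Submodule.smul_mem _ _ hn
    have h3 := key _ hmem
    rw [germ_smul] at h3
    obtain ⟨u, hu⟩ := hb
    have h4 : F.presheaf.germ (ii.1 : X.Opens) x hxi m =
        ((u⁻¹ : (X.presheaf.stalk x)ˣ) : X.presheaf.stalk x) •
          ((u : X.presheaf.stalk x) • F.presheaf.germ (ii.1 : X.Opens) x hxi m) := by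
      rw [smul_smul, Units.inv_mul, one_smul]
    rw [h4, hu]
    exact Submodule.smul_mem _ _ h3

/-- global generation of a restriction to an open subscheme, from generation of the stalks by
sections over the image. -/
theorem ggAt_restrict {X₁ X : Scheme.{u}} (j : X₁ ⟶ X) [IsOpenImmersion j] (M : X.Modules)
    (x : X₁)
    (hspan : Submodule.span (X.presheaf.stalk (j x))
      (Set.range fun t : Γ(M, j ''ᵁ ⊤) =>
        M.presheaf.germ (j ''ᵁ ⊤) (j x) ⟨x, trivial, rfl⟩ t) = ⊤) :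
    GGAt (M.restrict j) x := by
  unfold GGAt
  rw [eq_top_iff]
  intro m _
  have key : ∀ w ∈ Submodule.span (X.presheaf.stalk (j x))
      (Set.range fun t : Γ(M, j ''ᵁ ⊤) => M.presheaf.germ (j ''ᵁ ⊤) (j x) ⟨x, trivial, rfl⟩ t),
      (Groth.Agent.Helper13.Inv.τ j M x).symm w ∈ Submodule.span (X₁.presheaf.stalk x)
        (Set.range fun t : Γ(M.restrict j, ⊤) =>
          (M.restrict j).presheaf.germ ⊤ x trivial t) := by
    intro w hw
    induction hw using Submodule.span_induction with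
    | mem w hw =>
      obtain ⟨t, rfl⟩ := hw
      refine Submodule.subset_span ⟨Groth.Agent.Helper13.Inv.toRes j M t, ?_⟩
      apply (Groth.Agent.Helper13.Inv.τ j M x).injective
      rw [AddEquiv.apply_symm_apply]
      exact Groth.Agent.Helper13.Inv.τ_germ j M x (U := ⊤) trivial
        (Groth.Agent.Helper13.Inv.toRes j M t)
    | zero => rw [map_zero]; exact Submodule.zero_mem _
    | add a b _ _ ha hb => rw [map_add]; exact Submodule.add_mem _ ha hb
    | smul r w _ hw =>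
      have h1 : (Groth.Agent.Helper13.Inv.τ j M x).symm (r • w) =
          (j.stalkMap x r) • (Groth.Agent.Helper13.Inv.τ j M x).symm w := by
        apply (Groth.Agent.Helper13.Inv.τ j M x).injective
        rw [AddEquiv.apply_symm_apply, Groth.Agent.Helper13.Inv.τ_smul,
          AddEquiv.apply_symm_apply]
      rw [h1]
      exact Submodule.smul_mem _ _ hw
  have := key (Groth.Agent.Helper13.Inv.τ j M x m) (by rw [hspan]; trivial)
  rwa [AddEquiv.symm_apply_apply] at this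

end Main

end Groth.Agent.Helper6.GGStalk
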