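import Mathlib
import Groth.Prelude.Def_GLin
import Groth.Agent.Lib.Helper6.Dyn1

/-!
# The numerical function `μ(v, λ)` of a linear coaction (helper6), part 1:
`GLin.IsMu`, `GLin.HasLimit`, `GLin.IsLimit` in terms of Laurent coefficients.
-/

set_option autoImplicit false

namespace Groth.Agent.Helper6.GLinMu

open LaurentPolynomial TensorProduct

universe u v w

section Lift

variable {k : Type u} [CommRing k] {ι : Type w}

theorem exists_lift_iff (q : ι → k[T;T⁻¹])
    (P : (MvPolynomial ι k →ₐ[k] Polynomial k) → Prop) :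
    (∃ h : MvPolynomial ι k →ₐ[k] Polynomial k,
        (Polynomial.toLaurentAlg (R := k)).comp h = MvPolynomial.aeval q ∧ P h) ↔
      ∃ p : ι → Polynomial k, (∀ i, Polynomial.toLaurent (p i) = q i) ∧
        P (MvPolynomial.aeval p) := by
  constructor
  · rintro ⟨h, h1, h2⟩
    refine ⟨fun i => h (MvPolynomial.X i), fun i => ?_, ?_⟩
    · have h3 := DFunLike.congr_fun h1 (MvPolynomial.X i)
      rw [AlgHom.comp_apply, Polynomial.toLaurentAlg_apply, MvPolynomial.aeval_X] at h3
      exact h3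
    · have e : MvPolynomial.aeval (fun i => h (MvPolynomial.X i)) = h := by
        apply MvPolynomial.algHom_ext
        intro i
        rw [MvPolynomial.aeval_X]
      rw [e]
      exact h2
  · rintro ⟨p, h1, h2⟩
    refine ⟨MvPolynomial.aeval p, ?_, h2⟩
    apply MvPolynomial.algHom_ext
    intro i
    rw [AlgHom.comp_apply, MvPolynomial.aeval_X, MvPolynomial.aeval_X,
      Polynomial.toLaurentAlg_apply, h1]

theorem comp_aeval_eq_origin_iff (p : ι → Polynomial k) :
    (Polynomial.aeval (0 : k)).comp (MvPolynomial.aeval p) =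
        MvPolynomial.aeval (fun _ : ι => (0 : k)) ↔ ∀ i, (p i).coeff 0 = 0 := by
  constructor
  · intro h i
    have h3 := DFunLike.congr_fun h (MvPolynomial.X i)
    rw [AlgHom.comp_apply, MvPolynomial.aeval_X, MvPolynomial.aeval_X,
      ← Polynomial.coeff_zero_eq_aeval_zero] at h3
    exact h3
  · intro h
    apply MvPolynomial.algHom_ext
    intro i
    rw [AlgHom.comp_apply, MvPolynomial.aeval_X, MvPolynomial.aeval_X,
      ← Polynomial.coeff_zero_eq_aeval_zero, h i]

theorem exists_family_iff (q : ι → k[T;T⁻¹]) (Q : (ι → k) → Prop) :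
    (∃ p : ι → Polynomial k, (∀ i, Polynomial.toLaurent (p i) = q i) ∧
        Q (fun i => (p i).coeff 0)) ↔
      (∀ i n, n < 0 → (q i).coeff n = 0) ∧ Q (fun i => (q i).coeff 0) := by
  have key : ∀ p : ι → Polynomial k, (∀ i, Polynomial.toLaurent (p i) = q i) →
      (fun i => (p i).coeff 0) = fun i => (q i).coeff 0 := by
    intro p hp
    funext i
    have h1 := Groth.Agent.Helper6.Dyn.coeff_toLaurent_natCast (p i) 0
    rw [Nat.cast_zero, hp i] at h1
    exact h1.symm
  constructor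
  · rintro ⟨p, hp, hQ⟩
    refine ⟨fun i n hn => ?_, ?_⟩
    · rw [← hp i]
      exact Groth.Agent.Helper6.Dyn.coeff_toLaurent_neg _ _ hn
    · rw [← key p hp]
      exact hQ
  · rintro ⟨h, hQ⟩
    choose p hp using fun i => Groth.Agent.Helper6.Dyn.exists_toLaurent_eq (q i) (h i)
    refine ⟨p, hp, ?_⟩
    rw [key p hp]
    exact hQ

theorem coeff_T_mul (m n : ℤ) (f : k[T;T⁻¹]) : (T m * f).coeff n = f.coeff (-m + n) := by
  unfold T
  rw [AddMonoidAlgebra.coeff_single_mul_apply, one_mul]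

theorem exists_min [Fintype ι] (w : ι → k[T;T⁻¹]) (hw : ∃ i, w i ≠ 0) :
    ∃ d : ℤ, (∀ i n, n < d → (w i).coeff n = 0) ∧ ∃ i, (w i).coeff d ≠ 0 := by
  classical
  let S : Finset ℤ := Finset.univ.biUnion (fun i => (w i).coeff.support)
  have hS : S.Nonempty := by
    obtain ⟨i, hi⟩ := hw
    have h1 : (w i).coeff ≠ 0 := by
      intro h
      apply hi
      ext n
      rw [h]
      simp
    obtain ⟨n, hn⟩ := Finsupp.support_nonempty_iff.2 h1
    exact ⟨n, Finset.mem_biUnion.2 ⟨i, Finset.mem_univ i, hn⟩⟩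
  refine ⟨S.min' hS, ?_, ?_⟩
  · intro i n hn
    by_contra h
    have h2 : n ∈ S := Finset.mem_biUnion.2 ⟨i, Finset.mem_univ i, Finsupp.mem_support_iff.2 h⟩
    exact absurd (Finset.min'_le S n h2) (not_le.2 hn)
  · obtain ⟨i, -, hi⟩ := Finset.mem_biUnion.1 (Finset.min'_mem S hS)
    exact ⟨i, Finsupp.mem_support_iff.1 hi⟩

end Lift

section Orbit

variable {k : Type u} [Field k] {A : Type v} [CommRing A] [Bialgebra k A]
  {ι : Type w} [Fintype ι] [HopfRep.Comod k A (MvPolynomial ι k)]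
  [GLin.IsCoactAlg k A (MvPolynomial ι k)]

/-- the matrix hypothesis -/
def IsMat (M : ι → ι → A) : Prop :=
  ∀ i, HopfRep.Comod.coact (k := k) (A := A) (MvPolynomial.X i : MvPolynomial ι k) =
    ∑ j, (MvPolynomial.X j : MvPolynomial ι k) ⊗ₜ[k] M i j

theorem exists_isMat (hlin : GLin.IsLinear k A ι) : ∃ M : ι → ι → A, IsMat (k := k) M := by
  choose M hM using hlin
  exact ⟨M, hM⟩

variable (M : ι → ι → A) (hM : IsMat (k := k) M)

include hM in
theorem orbitHom_X (v : ι → k) (i : ι) :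
    GLin.orbitHom k A (GLin.vecPt k ι v) (MvPolynomial.X i) = ∑ j, v j • M i j := by
  unfold GLin.orbitHom
  rw [AlgHom.comp_apply, AlgHom.comp_apply, GLin.coactAlgHom_apply, hM i, map_sum, map_sum]
  apply Finset.sum_congr rfl
  intro j _
  simp

/-- the coordinates of the `λ`-orbit of `v` -/
noncomputable def wvec (lam : A →ₐc[k] k[T;T⁻¹]) (v : ι → k) (i : ι) : k[T;T⁻¹] :=
  ∑ j, v j • lam (M i j)

include hM in
theorem lamOrbit_X (lam : A →ₐc[k] k[T;T⁻¹]) (v : ι → k) (i : ι) :
    GLin.lamOrbit k A lam (GLin.vecPt k ι v) (MvPolynomial.X i) = wvec M lam v i := by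
  unfold GLin.lamOrbit wvec
  rw [AlgHom.comp_apply, orbitHom_X M hM, map_sum]
  apply Finset.sum_congr rfl
  intro j _
  rw [map_smul]
  rfl

include hM in
theorem lamOrbit_eq (lam : A →ₐc[k] k[T;T⁻¹]) (v : ι → k) :
    GLin.lamOrbit k A lam (GLin.vecPt k ι v) = MvPolynomial.aeval (wvec M lam v) := by
  apply MvPolynomial.algHom_ext
  intro i
  rw [lamOrbit_X M hM, MvPolynomial.aeval_X]

include hM in
theorem shiftedOrbit_eq (lam : A →ₐc[k] k[T;T⁻¹]) (v : ι → k) (m : ℤ) :
    GLin.shiftedOrbit k A lam v m = MvPolynomial.aeval (fun i => T m * wvec M lam v i) := by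
  unfold GLin.shiftedOrbit
  congr 1
  funext i
  rw [lamOrbit_X M hM]

include hM in
theorem isMu_iff (lam : A →ₐc[k] k[T;T⁻¹]) (v : ι → k) (m : ℤ) :
    GLin.IsMu k A lam v m ↔
      (∀ i n, n < -m → (wvec M lam v i).coeff n = 0) ∧ ∃ i, (wvec M lam v i).coeff (-m) ≠ 0 := by
  unfold GLin.IsMu
  rw [shiftedOrbit_eq M hM, exists_lift_iff (fun i => T m * wvec M lam v i)
    (fun h => (Polynomial.aeval (0 : k)).comp h ≠ MvPolynomial.aeval (fun _ : ι => (0 : k)))]
  simp only [ne_eq, comp_aeval_eq_origin_iff]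
  rw [exists_family_iff (fun i => T m * wvec M lam v i) (fun c => ¬ ∀ i, c i = 0)]
  simp only [coeff_T_mul, add_zero, not_forall]
  constructor
  · rintro ⟨h1, h2⟩
    refine ⟨fun i n hn => ?_, h2⟩
    have h3 := h1 i (n + m) (by omega)
    rw [show -m + (n + m) = n by ring] at h3
    exact h3
  · rintro ⟨h1, h2⟩
    exact ⟨fun i n hn => h1 i (-m + n) (by omega), h2⟩

include hM in
theorem hasLimit_iff (lam : A →ₐc[k] k[T;T⁻¹]) (v : ι → k) :
    GLin.HasLimit k A lam (GLin.vecPt k ι v) ↔ ∀ i n, n < 0 → (wvec M lam v i).coeff n = 0 := by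
  unfold GLin.HasLimit
  rw [lamOrbit_eq M hM]
  have h1 := exists_lift_iff (wvec M lam v) (fun _ => True)
  have h2 := exists_family_iff (wvec M lam v) (fun _ => True)
  simp only [and_true] at h1 h2
  rw [h1, h2]

include hM in
theorem isLimit_origin_iff (lam : A →ₐc[k] k[T;T⁻¹]) (v : ι → k) :
    GLin.IsLimit k A lam (GLin.vecPt k ι v) (GLin.vecPt k ι (fun _ => (0 : k))) ↔
      (∀ i n, n < 0 → (wvec M lam v i).coeff n = 0) ∧ ∀ i, (wvec M lam v i).coeff 0 = 0 := by
  unfold GLin.IsLimit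
  rw [lamOrbit_eq M hM, exists_lift_iff (wvec M lam v)
    (fun h => (Polynomial.aeval (0 : k)).comp h = MvPolynomial.aeval (fun _ : ι => (0 : k)))]
  simp only [comp_aeval_eq_origin_iff]
  rw [exists_family_iff (wvec M lam v) (fun c => ∀ i, c i = 0)]

include hM in
theorem counit_M [DecidableEq ι] (i j : ι) :
    Coalgebra.counit (R := k) (M i j) = if i = j then 1 else 0 := by
  have h := LinearMap.congr_fun
    (HopfRep.Comod.counit_comp (k := k) (A := A) (V := MvPolynomial ι k)) (MvPolynomial.X i)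
  simp only [LinearMap.comp_apply, LinearMap.flip_apply, TensorProduct.mk_apply] at h
  rw [hM i, map_sum] at h
  simp only [LinearMap.lTensor_tmul] at h
  have h2 := congrArg (TensorProduct.rid k (MvPolynomial ι k)) h
  rw [map_sum] at h2
  simp only [TensorProduct.rid_tmul, one_smul] at h2
  have h3 := congrArg (MvPolynomial.coeff (Finsupp.single j 1)) h2
  rw [MvPolynomial.coeff_sum] at h3
  simp only [MvPolynomial.coeff_smul, MvPolynomial.coeff_X', smul_eq_mul, mul_ite, mul_one,
    mul_zero, Finsupp.single_left_inj (one_ne_zero : (1 : ℕ) ≠ 0)] at h3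
  rw [Finset.sum_ite_eq' Finset.univ j] at h3
  simpa using h3

include hM in
theorem counit_wvec (lam : A →ₐc[k] k[T;T⁻¹]) (v : ι → k) (i : ι) :
    Coalgebra.counit (R := k) (wvec M lam v i) = v i := by
  classical
  unfold wvec
  rw [map_sum]
  simp only [map_smul, CoalgHomClass.counit_comp_apply, counit_M M hM, smul_eq_mul, mul_ite,
    mul_one, mul_zero]
  rw [Finset.sum_ite_eq Finset.univ i]
  simp

include hM in
theorem exists_wvec_ne_zero (lam : A →ₐc[k] k[T;T⁻¹]) (v : ι → k) (hv : v ≠ 0) :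
    ∃ i, wvec M lam v i ≠ 0 := by
  by_contra hh
  push Not at hh
  apply hv
  funext i
  rw [← counit_wvec M hM lam v i, hh i, map_zero]
  rfl

end Orbit

end Groth.Agent.Helper6.GLinMu
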