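import Groth.Agent.Lib.Helper6.GLinMu1

/-!
# The numerical function `μ(v, λ)` of a linear coaction (helper6), part 2:
weights of a torus; `μ` is the maximum of finitely many linear functionals.
-/

set_option autoImplicit false

namespace Groth.Agent.Helper6.GLinMu

open LaurentPolynomial TensorProduct

universe u v w

section Coeff

variable {k : Type u} [CommRing k] {ι : Type w} (P : Type*) [AddCommGroup P] [Module k P]

/-- coefficient of `X l` in an element of `MvPolynomial ι k ⊗ P` -/
noncomputable def cfT (l : ι) : MvPolynomial ι k ⊗[k] P →ₗ[k] P :=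
  (TensorProduct.lid k P).toLinearMap ∘ₗ
    (MvPolynomial.lcoeff (R := k) (Finsupp.single l 1)).rTensor P

theorem cfT_X_tmul [DecidableEq ι] (l j : ι) (p : P) :
    cfT P l ((MvPolynomial.X j : MvPolynomial ι k) ⊗ₜ[k] p) = if j = l then p else 0 := by
  unfold cfT
  rw [LinearMap.comp_apply, LinearMap.rTensor_tmul, LinearEquiv.coe_coe, TensorProduct.lid_tmul]
  show MvPolynomial.coeff (Finsupp.single l 1) (MvPolynomial.X j) • p = _
  by_cases h : j = l
  · subst h
    rw [MvPolynomial.coeff_X, if_pos rfl, if_pos rfl, one_smul]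
  · rw [MvPolynomial.coeff_X, if_neg, if_neg h, zero_smul]
    intro h'
    exact h ((Finsupp.single_left_inj (one_ne_zero : (1 : ℕ) ≠ 0)).1 h')

end Coeff

section Mat

variable {k : Type u} [Field k] {A : Type v} [CommRing A] [Bialgebra k A]
  {ι : Type w} [Fintype ι] [HopfRep.Comod k A (MvPolynomial ι k)]
  [GLin.IsCoactAlg k A (MvPolynomial ι k)]
variable (M : ι → ι → A) (hM : IsMat (k := k) M)

include hM in
theorem comul_M (i l : ι) :
    Coalgebra.comul (R := k) (M i l) = ∑ j, M j l ⊗ₜ[k] M i j := by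
  classical
  have h := LinearMap.congr_fun
    (HopfRep.Comod.coassoc (k := k) (A := A) (V := MvPolynomial ι k)) (MvPolynomial.X i)
  simp only [LinearMap.comp_apply, LinearEquiv.coe_coe] at h
  have hM' : ∀ i, HopfRep.Comod.coact (k := k) (A := A)
      (MvPolynomial.X i : MvPolynomial ι k) =
      ∑ j, (MvPolynomial.X j : MvPolynomial ι k) ⊗ₜ[k] M i j := hM
  rw [hM' i, map_sum, map_sum, map_sum] at h
  simp only [LinearMap.rTensor_tmul, LinearMap.lTensor_tmul, hM', TensorProduct.sum_tmul, map_sum,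
    TensorProduct.assoc_tmul] at h
  have h2 := congrArg (cfT (A ⊗[k] A) l) h
  simp only [map_sum, cfT_X_tmul] at h2
  simp only [Finset.sum_ite_eq', Finset.mem_univ, if_true] at h2
  exact h2.symm

end Mat

section Weights

variable {k : Type u} [Field k] {A : Type v} [CommRing A] [Bialgebra k A]
  {ι : Type w} [Fintype ι] [HopfRep.Comod k A (MvPolynomial ι k)]
  [GLin.IsCoactAlg k A (MvPolynomial ι k)]
variable (M : ι → ι → A) (hM : IsMat (k := k) M)
variable {N : ℕ} (χ : Fin N → A) (φ : Fin N → (A →ₗ[k] k))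

/-- pairing `A ⊗ A → k` of two functionals -/
noncomputable def pair (f g : A →ₗ[k] k) : A ⊗[k] A →ₗ[k] k :=
  LinearMap.mul' k k ∘ₗ TensorProduct.map f g

theorem pair_tmul (f g : A →ₗ[k] k) (x y : A) : pair f g (x ⊗ₜ[k] y) = f x * g y := by
  unfold pair
  rw [LinearMap.comp_apply, TensorProduct.map_tmul, LinearMap.mul'_apply]

/-- the hypotheses on the weights -/
structure IsWeights : Prop where
  groupLike : ∀ a, IsGroupLikeElem k (χ a)
  expand : ∀ i j, M i j = ∑ a, φ a (M i j) • χ a
  ortho : ∀ a a' x, pair (φ a) (φ a') (Coalgebra.comul (R := k) x) = if a = a' then φ a x else 0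

/-- the components of `v` -/
noncomputable def uvec (v : ι → k) (a : Fin N) (i : ι) : k := ∑ j, v j * φ a (M i j)

variable {χ φ} (hW : IsWeights M χ φ)

include hM hW in
theorem uvec_proj (v : ι → k) (a a' : Fin N) (l : ι) :
    ∑ i, uvec M φ v a i * φ a' (M l i) = if a = a' then uvec M φ v a l else 0 := by
  have h1 : ∀ j, ∑ i, φ a (M i j) * φ a' (M l i) = if a = a' then φ a (M l j) else 0 := by
    intro j
    have h2 := hW.ortho a a' (M l j)
    rw [comul_M M hM, map_sum] at h2
    simp only [pair_tmul] at h2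
    exact h2
  unfold uvec
  simp only [Finset.sum_mul]
  rw [Finset.sum_comm]
  simp only [mul_assoc, ← Finset.mul_sum, h1]
  split_ifs
  · rfl
  · simp

include hM hW in
theorem uvec_eq_zero_of_sum (v : ι → k) (F : Finset (Fin N))
    (h : ∀ i, ∑ a ∈ F, uvec M φ v a i = 0) (b : Fin N) (hb : b ∈ F) (l : ι) :
    uvec M φ v b l = 0 := by
  have h1 : ∑ a ∈ F, ∑ i, uvec M φ v a i * φ b (M l i) = uvec M φ v b l := by
    simp only [uvec_proj M hM hW]
    rw [Finset.sum_ite_eq' F b, if_pos hb]
  rw [← h1, Finset.sum_comm]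
  apply Finset.sum_eq_zero
  intro i _
  rw [← Finset.sum_mul, h i, zero_mul]

include hM hW in
theorem sum_uvec [DecidableEq ι] (v : ι → k) (i : ι) : ∑ a, uvec M φ v a i = v i := by
  have h1 : ∀ j, ∑ a, φ a (M i j) = if i = j then 1 else 0 := by
    intro j
    rw [← counit_M M hM i j]
    conv_rhs => rw [hW.expand i j]
    rw [map_sum]
    apply Finset.sum_congr rfl
    intro a _
    rw [map_smul, (hW.groupLike a).counit_eq_one, smul_eq_mul, mul_one]
  unfold uvec
  rw [Finset.sum_comm]
  simp only [← Finset.mul_sum, h1, mul_ite, mul_one, mul_zero]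
  rw [Finset.sum_ite_eq Finset.univ i]
  simp

include hW in
theorem wvec_eq (lam : A →ₐc[k] k[T;T⁻¹]) (e : Fin N → ℤ) (he : ∀ a, lam (χ a) = T (e a))
    (v : ι → k) (i : ι) : wvec M lam v i = ∑ a, uvec M φ v a i • (T (e a) : k[T;T⁻¹]) := by
  unfold wvec uvec
  have h1 : ∀ j, lam (M i j) = ∑ a, φ a (M i j) • (T (e a) : k[T;T⁻¹]) := by
    intro j
    conv_lhs => rw [hW.expand i j]
    rw [map_sum]
    apply Finset.sum_congr rfl
    intro a _
    rw [map_smul, he a]
  simp only [h1, Finset.smul_sum, smul_smul, Finset.sum_smul]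
  exact Finset.sum_comm

include hW in
theorem coeff_wvec (lam : A →ₐc[k] k[T;T⁻¹]) (e : Fin N → ℤ) (he : ∀ a, lam (χ a) = T (e a))
    (v : ι → k) (i : ι) (n : ℤ) :
    (wvec M lam v i).coeff n = ∑ a ∈ Finset.univ.filter (fun a => e a = n), uvec M φ v a i := by
  rw [wvec_eq M hW lam e he, AddMonoidAlgebra.coeff_sum, Finsupp.finset_sum_apply,
    Finset.sum_filter]
  apply Finset.sum_congr rfl
  intro a _
  rw [AddMonoidAlgebra.coeff_smul, Finsupp.smul_apply, T_apply, smul_eq_mul, mul_ite, mul_one,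
    mul_zero]

include hM hW in
theorem coeff_wvec_eq_zero_iff (lam : A →ₐc[k] k[T;T⁻¹]) (e : Fin N → ℤ)
    (he : ∀ a, lam (χ a) = T (e a)) (v : ι → k) (n : ℤ) :
    (∀ i, (wvec M lam v i).coeff n = 0) ↔ ∀ a, e a = n → ∀ i, uvec M φ v a i = 0 := by
  constructor
  · intro h a ha i
    refine uvec_eq_zero_of_sum M hM hW v (Finset.univ.filter (fun a => e a = n)) ?_ a
      (Finset.mem_filter.2 ⟨Finset.mem_univ a, ha⟩) i
    intro i'
    rw [← coeff_wvec M hW lam e he]
    exact h i'
  · intro h i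
    rw [coeff_wvec M hW lam e he]
    apply Finset.sum_eq_zero
    intro a ha
    exact h a (Finset.mem_filter.1 ha).2 i

include hM hW in
theorem isMu_weights (v : ι → k) (hv : v ≠ 0) :
    ∃ I : Finset (Fin N), I.Nonempty ∧
      ∀ (lam : A →ₐc[k] k[T;T⁻¹]) (e : Fin N → ℤ), (∀ j, lam (χ j) = T (e j)) →
        ∀ m : ℤ, GLin.IsMu k A lam v m ↔ ((∀ j ∈ I, -e j ≤ m) ∧ ∃ j ∈ I, m = -e j) := by
  classical
  refine ⟨Finset.univ.filter (fun a => ∃ i, uvec M φ v a i ≠ 0), ?_, ?_⟩
  · obtain ⟨i, hi⟩ := Function.ne_iff.1 hv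
    rw [Pi.zero_apply, ← sum_uvec M hM hW v i] at hi
    obtain ⟨a, -, ha⟩ := Finset.exists_ne_zero_of_sum_ne_zero hi
    exact ⟨a, Finset.mem_filter.2 ⟨Finset.mem_univ a, i, ha⟩⟩
  · intro lam e he m
    rw [isMu_iff M hM]
    have key := coeff_wvec_eq_zero_iff M hM hW lam e he v
    constructor
    · rintro ⟨h1, i₀, h2⟩
      constructor
      · intro a ha
        obtain ⟨-, i, hi⟩ := Finset.mem_filter.1 ha
        by_contra hlt
        push Not at hlt
        exact hi ((key (e a)).1 (fun i' => h1 i' (e a) (by omega)) a rfl i)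
      · by_contra hno
        push Not at hno
        apply h2
        refine (key (-m)).2 ?_ i₀
        intro a ha i
        by_contra hne
        exact hno a (Finset.mem_filter.2 ⟨Finset.mem_univ a, i, hne⟩) (by omega)
    · rintro ⟨h1, a, ha, hma⟩
      obtain ⟨-, i, hi⟩ := Finset.mem_filter.1 ha
      constructor
      · intro i' n hn
        refine (key n).2 ?_ i'
        intro a' ha' i''
        by_contra hne
        have := h1 a' (Finset.mem_filter.2 ⟨Finset.mem_univ a', i'', hne⟩)
        omega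
      · by_contra hno
        push Not at hno
        exact hi ((key (-m)).1 hno a (by omega) i)

end Weights

end Groth.Agent.Helper6.GLinMu
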