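import Groth.Agent.Lib.Helper6.GLinMu2

/-!
# The numerical function `μ(v, λ)` of a linear coaction (helper6), part 3:
the weights of a diagonalizable group.
-/

set_option autoImplicit false

namespace Groth.Agent.Helper6.GLinMu

open LaurentPolynomial TensorProduct

universe u v w

section Diag

variable {k : Type u} [Field k] {A : Type v} [CommRing A] [Bialgebra k A]
  {ι : Type w} [Fintype ι]

theorem exists_weights (hdiag : HopfRep.IsDiagonalizable k A) (M : ι → ι → A) :
    ∃ (N : ℕ) (χ : Fin N → A) (φ : Fin N → (A →ₗ[k] k)), IsWeights M χ φ := by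
  classical
  have hli : LinearIndependent k (GroupLike.val (R := k) (A := A)) := linearIndep_groupLikeVal
  have hsp : ⊤ ≤ Submodule.span k (Set.range (GroupLike.val (R := k) (A := A))) := by
    have h1 : Set.range (GroupLike.val (R := k) (A := A)) = {a : A | IsGroupLikeElem k a} := by
      ext a
      constructor
      · rintro ⟨g, rfl⟩
        exact g.isGroupLikeElem_val
      · intro ha
        exact ⟨⟨a, ha⟩, rfl⟩
    rw [h1]
    exact hdiag.ge
  let b := Module.Basis.mk hli hsp
  have hb : ∀ γ, b γ = γ.val := fun γ => Module.Basis.mk_apply hli hsp γ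
  let F : Finset (GroupLike k A) :=
    Finset.univ.biUnion (fun p : ι × ι => (b.repr (M p.1 p.2)).support)
  let e := F.equivFin
  refine ⟨F.card, fun a => ((e.symm a : F) : GroupLike k A).val,
    fun a => b.coord ((e.symm a : F) : GroupLike k A), ?_⟩
  refine ⟨fun a => ((e.symm a : F) : GroupLike k A).isGroupLikeElem_val, ?_, ?_⟩
  · intro i j
    have h1 : M i j = ∑ γ ∈ F, b.repr (M i j) γ • γ.val := by
      conv_lhs => rw [← b.linearCombination_repr (M i j), Finsupp.linearCombination_apply]
      rw [Finsupp.sum_of_support_subset (s := F)]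
      · apply Finset.sum_congr rfl
        intro γ _
        rw [hb γ]
      · intro γ hγ
        exact Finset.mem_biUnion.2 ⟨(i, j), Finset.mem_univ _, hγ⟩
      · intro γ _
        exact zero_smul _ _
    calc M i j = ∑ γ ∈ F, b.repr (M i j) γ • γ.val := h1
      _ = ∑ γ : F, b.repr (M i j) (γ : GroupLike k A) • (γ : GroupLike k A).val :=
        (Finset.sum_coe_sort F (fun γ => b.repr (M i j) γ • γ.val)).symm
      _ = ∑ a, b.repr (M i j) ((e.symm a : F) : GroupLike k A) •
            ((e.symm a : F) : GroupLike k A).val :=
        (Equiv.sum_comp e.symm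
          (fun γ : F => b.repr (M i j) (γ : GroupLike k A) • (γ : GroupLike k A).val)).symm
  · intro a a' x
    have key : ∀ δ : GroupLike k A,
        (pair (b.coord ((e.symm a : F) : GroupLike k A))
          (b.coord ((e.symm a' : F) : GroupLike k A)) ∘ₗ Coalgebra.comul (R := k)) (b δ) =
        (if a = a' then b.coord ((e.symm a : F) : GroupLike k A) else 0) (b δ) := by
      intro δ
      rw [LinearMap.comp_apply, hb δ, δ.isGroupLikeElem_val.comul_eq_tmul_self, pair_tmul, ← hb δ]
      simp only [Module.Basis.coord_apply, Module.Basis.repr_self, Finsupp.single_apply]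
      by_cases haa : a = a'
      · subst haa
        rw [if_pos rfl]
        simp only [Module.Basis.coord_apply, Module.Basis.repr_self, Finsupp.single_apply]
        split_ifs <;> simp
      · rw [if_neg haa]
        have hne : ((e.symm a : F) : GroupLike k A) ≠ ((e.symm a' : F) : GroupLike k A) :=
          fun h => haa (e.symm.injective (Subtype.ext h))
        by_cases h1 : δ = ((e.symm a : F) : GroupLike k A)
        · rw [if_pos h1, if_neg (fun h2 => hne (h1.symm.trans h2))]
          simp
        · rw [if_neg h1]
          simp
    have h2 := LinearMap.congr_fun (b.ext key) x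
    rw [LinearMap.comp_apply] at h2
    rw [h2]
    split_ifs <;> rfl

end Diag

end Groth.Agent.Helper6.GLinMu
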