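import Mathlib
import Groth.Prelude.Def_VecGrp
import Groth.Prelude.Def_HopfRep

/-!
# Helper6: `G`-module structures on `W(E)` for `G = Spec A` versus `A`-comodule structures on `E`
-/

set_option autoImplicit false
universe u

namespace Groth.Agent.Helper6.GModComod

open CategoryTheory AlgebraicGeometry MonoidalCategory CartesianMonoidalCategory MonObj GrpObj
open TensorProduct

noncomputable section

section Alg

variable {R : Type u} [CommRing R] {A : Type u} [CommRing A] [Bialgebra R A]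
  {E : Type u} [AddCommGroup E] [Module R E]
  {B : Type u} [CommRing B] [Algebra R B]

/-- two `B`-linear maps out of `B ⊗ E` agreeing on the `1 ⊗ x` are equal -/
theorem ext_one_tmul {N : Type*} [AddCommGroup N] [Module B N] {T T' : B ⊗[R] E →ₗ[B] N}
    (h : ∀ x : E, T ((1 : B) ⊗ₜ[R] x) = T' ((1 : B) ⊗ₜ[R] x)) : T = T' := by
  apply LinearMap.ext
  intro w
  induction w using TensorProduct.induction_on with
  | zero => rw [map_zero, map_zero]
  | tmul b x =>
    have hb : b ⊗ₜ[R] x = b • ((1 : B) ⊗ₜ[R] x) := by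
      rw [TensorProduct.smul_tmul', smul_eq_mul, _root_.mul_one]
    rw [hb, map_smul, map_smul, h]
  | add x y hx hy => rw [map_add, map_add, hx, hy]

/-- `x ↦ Σ f(aᵢ) ⊗ xᵢ` where `δ x = Σ xᵢ ⊗ aᵢ` -/
def tw (δ : E →ₗ[R] E ⊗[R] A) (f : A →ₗ[R] B) : E →ₗ[R] B ⊗[R] E :=
  (TensorProduct.comm R E B).toLinearMap ∘ₗ LinearMap.lTensor E f ∘ₗ δ

theorem tw_apply (δ : E →ₗ[R] E ⊗[R] A) (f : A →ₗ[R] B) (x : E) :
    tw δ f x = TensorProduct.comm R E B (LinearMap.lTensor E f (δ x)) := rfl

/-- the `B`-linear endomorphism of `B ⊗ E` attached to `δ` and `f` -/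
def act (δ : E →ₗ[R] E ⊗[R] A) (f : A →ₗ[R] B) : B ⊗[R] E →ₗ[B] B ⊗[R] E :=
  (tw δ f).liftBaseChange B

theorem act_tmul (δ : E →ₗ[R] E ⊗[R] A) (f : A →ₗ[R] B) (b : B) (x : E) :
    act δ f (b ⊗ₜ[R] x) = b • TensorProduct.comm R E B (LinearMap.lTensor E f (δ x)) := rfl

theorem act_one_tmul (δ : E →ₗ[R] E ⊗[R] A) (f : A →ₗ[R] B) (x : E) :
    act δ f ((1 : B) ⊗ₜ[R] x) = TensorProduct.comm R E B (LinearMap.lTensor E f (δ x)) := by
  rw [act_tmul, one_smul]

/-- the product map `A ⊗ A → B` of two algebra maps -/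
abbrev pm (f f' : A →ₐ[R] B) : A ⊗[R] A →ₐ[R] B :=
  Algebra.TensorProduct.lift f f' (fun _ _ => Commute.all _ _)

theorem act_comm_lTensor (δ : E →ₗ[R] E ⊗[R] A) (f f' : A →ₐ[R] B) (z : E ⊗[R] A) :
    act δ f.toLinearMap (TensorProduct.comm R E B (LinearMap.lTensor E f'.toLinearMap z)) =
      TensorProduct.comm R E B (LinearMap.lTensor E (pm f f').toLinearMap
        (TensorProduct.assoc R E A A (LinearMap.rTensor A δ z))) := by
  induction z using TensorProduct.induction_on with
  | zero => simp only [map_zero]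
  | add z w hz hw => simp only [map_add, hz, hw]
  | tmul x a =>
    rw [LinearMap.lTensor_tmul, TensorProduct.comm_tmul, act_tmul, LinearMap.rTensor_tmul]
    generalize δ x = y
    induction y using TensorProduct.induction_on with
    | zero => simp only [map_zero, smul_zero, TensorProduct.zero_tmul]
    | add y y' hy hy' => simp only [map_add, TensorProduct.add_tmul, smul_add, hy, hy']
    | tmul x' a' =>
      rw [LinearMap.lTensor_tmul, TensorProduct.comm_tmul, TensorProduct.assoc_tmul,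
        LinearMap.lTensor_tmul, TensorProduct.comm_tmul, TensorProduct.smul_tmul', smul_eq_mul]
      simp only [AlgHom.toLinearMap_apply, Algebra.TensorProduct.lift_tmul]
      rw [mul_comm]

theorem lTensor_convMul (f f' : WithConv (A →ₐ[R] B)) (z : E ⊗[R] A) :
    LinearMap.lTensor E (f * f').ofConv.toLinearMap z =
      LinearMap.lTensor E (pm f.ofConv f'.ofConv).toLinearMap
        (LinearMap.lTensor E (CoalgebraStruct.comul (R := R) (A := A)) z) := by
  induction z using TensorProduct.induction_on with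
  | zero => simp only [map_zero]
  | add z w hz hw => simp only [map_add, hz, hw]
  | tmul x a =>
    rw [LinearMap.lTensor_tmul, LinearMap.lTensor_tmul, LinearMap.lTensor_tmul]
    congr 1
    exact AlgHom.convMul_apply f f' a

theorem act_mul_one_tmul (δ : E →ₗ[R] E ⊗[R] A) (f f' : WithConv (A →ₐ[R] B)) (x : E) :
    act δ (f * f').ofConv.toLinearMap ((1 : B) ⊗ₜ[R] x) =
      TensorProduct.comm R E B (LinearMap.lTensor E (pm f.ofConv f'.ofConv).toLinearMap
        (LinearMap.lTensor E (CoalgebraStruct.comul (R := R) (A := A)) (δ x))) := by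
  rw [act_one_tmul, lTensor_convMul]

theorem act_act_one_tmul (δ : E →ₗ[R] E ⊗[R] A) (f f' : WithConv (A →ₐ[R] B)) (x : E) :
    act δ f.ofConv.toLinearMap (act δ f'.ofConv.toLinearMap ((1 : B) ⊗ₜ[R] x)) =
      TensorProduct.comm R E B (LinearMap.lTensor E (pm f.ofConv f'.ofConv).toLinearMap
        (TensorProduct.assoc R E A A (LinearMap.rTensor A δ (δ x)))) := by
  rw [act_one_tmul, act_comm_lTensor]

theorem act_mul (δ : E →ₗ[R] E ⊗[R] A)
    (hco : (TensorProduct.assoc R E A A).toLinearMap ∘ₗ δ.rTensor A ∘ₗ δ =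
      (CoalgebraStruct.comul (R := R) (A := A)).lTensor E ∘ₗ δ)
    (f f' : WithConv (A →ₐ[R] B)) :
    act δ (f * f').ofConv.toLinearMap =
      act δ f.ofConv.toLinearMap ∘ₗ act δ f'.ofConv.toLinearMap := by
  apply ext_one_tmul
  intro x
  rw [LinearMap.comp_apply, act_mul_one_tmul, act_act_one_tmul]
  have h := LinearMap.congr_fun hco x
  simp only [LinearMap.comp_apply, LinearEquiv.coe_coe] at h
  rw [h]

theorem lTensor_convOne (z : E ⊗[R] A) :
    LinearMap.lTensor E (1 : WithConv (A →ₐ[R] B)).ofConv.toLinearMap z =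
      LinearMap.lTensor E (Algebra.linearMap R B)
        (LinearMap.lTensor E (CoalgebraStruct.counit (R := R) (A := A)) z) := by
  induction z using TensorProduct.induction_on with
  | zero => simp only [map_zero]
  | add z w hz hw => simp only [map_add, hz, hw]
  | tmul x a => rfl

theorem act_one (δ : E →ₗ[R] E ⊗[R] A)
    (hcu : (CoalgebraStruct.counit (R := R) (A := A)).lTensor E ∘ₗ δ =
      (TensorProduct.mk R E R).flip 1) :
    act δ (1 : WithConv (A →ₐ[R] B)).ofConv.toLinearMap = LinearMap.id := by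
  apply ext_one_tmul
  intro x
  rw [act_one_tmul, LinearMap.id_apply]
  have h := LinearMap.congr_fun hcu x
  simp only [LinearMap.comp_apply, LinearMap.flip_apply, TensorProduct.mk_apply] at h
  rw [lTensor_convOne, h, LinearMap.lTensor_tmul, TensorProduct.comm_tmul,
    Algebra.linearMap_apply, map_one]

theorem pm_include (z : A ⊗[R] A) :
    pm (Algebra.TensorProduct.includeLeft : A →ₐ[R] A ⊗[R] A)
      Algebra.TensorProduct.includeRight z = z := by
  induction z using TensorProduct.induction_on with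
  | zero => simp
  | tmul x y => simp
  | add x y hx hy => rw [map_add, hx, hy]

theorem coassoc_of_act_mul (δ : E →ₗ[R] E ⊗[R] A)
    (h : ∀ x : E,
      act δ (WithConv.toConv (Algebra.TensorProduct.includeLeft : A →ₐ[R] A ⊗[R] A) *
          WithConv.toConv (Algebra.TensorProduct.includeRight : A →ₐ[R] A ⊗[R] A)).ofConv.toLinearMap
        ((1 : A ⊗[R] A) ⊗ₜ[R] x) =
      act δ (WithConv.toConv
          (Algebra.TensorProduct.includeLeft : A →ₐ[R] A ⊗[R] A)).ofConv.toLinearMap
        (act δ (WithConv.toConv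
          (Algebra.TensorProduct.includeRight : A →ₐ[R] A ⊗[R] A)).ofConv.toLinearMap
          ((1 : A ⊗[R] A) ⊗ₜ[R] x))) :
    (TensorProduct.assoc R E A A).toLinearMap ∘ₗ δ.rTensor A ∘ₗ δ =
      (CoalgebraStruct.comul (R := R) (A := A)).lTensor E ∘ₗ δ := by
  apply LinearMap.ext
  intro x
  have h1 := h x
  rw [act_mul_one_tmul, act_act_one_tmul] at h1
  have h2 := (TensorProduct.comm R E (A ⊗[R] A)).injective h1
  have hid : (pm (Algebra.TensorProduct.includeLeft : A →ₐ[R] A ⊗[R] A)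
      Algebra.TensorProduct.includeRight).toLinearMap = LinearMap.id :=
    LinearMap.ext pm_include
  rw [hid, LinearMap.lTensor_id, LinearMap.id_apply, LinearMap.id_apply] at h2
  simp only [LinearMap.comp_apply, LinearEquiv.coe_coe]
  exact h2.symm

theorem counit_of_act_one (δ : E →ₗ[R] E ⊗[R] A)
    (h : ∀ x : E, act δ (1 : WithConv (A →ₐ[R] R)).ofConv.toLinearMap ((1 : R) ⊗ₜ[R] x) =
      (1 : R) ⊗ₜ[R] x) :
    (CoalgebraStruct.counit (R := R) (A := A)).lTensor E ∘ₗ δ =
      (TensorProduct.mk R E R).flip 1 := by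
  apply LinearMap.ext
  intro x
  have h1 := h x
  rw [act_one_tmul] at h1
  have hc : (1 : WithConv (A →ₐ[R] R)).ofConv.toLinearMap =
      (CoalgebraStruct.counit (R := R) (A := A)) := by
    apply LinearMap.ext
    intro a
    rfl
  rw [hc] at h1
  have h2 : LinearMap.lTensor E (CoalgebraStruct.counit (R := R) (A := A)) (δ x) =
      (TensorProduct.comm R E R).symm ((1 : R) ⊗ₜ[R] x) := by
    rw [← h1, LinearEquiv.symm_apply_apply]
  rw [LinearMap.comp_apply, h2, TensorProduct.comm_symm_tmul]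
  rfl

theorem Wmap_comm {B' : Type u} [CommRing B'] [Algebra R B'] (φ : B →ₐ[R] B')
    (y : E ⊗[R] B) :
    VecGrp.Wmap φ (TensorProduct.comm R E B y) =
      TensorProduct.comm R E B' (LinearMap.lTensor E φ.toLinearMap y) := by
  induction y using TensorProduct.induction_on with
  | zero => simp only [map_zero]
  | add y y' hy hy' => simp only [map_add, hy, hy']
  | tmul x' a => rfl

theorem Wmap_act (δ : E →ₗ[R] E ⊗[R] A) {B' : Type u} [CommRing B'] [Algebra R B']
    (φ : B →ₐ[R] B') (f : A →ₗ[R] B) (w : B ⊗[R] E) :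
    VecGrp.Wmap φ (act δ f w) = act δ (φ.toLinearMap ∘ₗ f) (VecGrp.Wmap φ w) := by
  induction w using TensorProduct.induction_on with
  | zero => simp only [map_zero]
  | add w w' hw hw' => simp only [map_add, hw, hw']
  | tmul b x =>
    rw [act_tmul, VecGrp.Wmap_smul, VecGrp.Wmap_tmul, act_tmul, Wmap_comm]
    congr 2
    generalize δ x = y
    induction y using TensorProduct.induction_on with
    | zero => simp only [map_zero]
    | add y y' hy hy' => simp only [map_add, hy, hy']
    | tmul x' a => rfl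

end Alg


section GModExt

variable {R : Type u} [CommRing R] {G : Over (Spec (CommRingCat.of R))} [GrpObj G]
  {E : Type u} [AddCommGroup E] [Module R E]

/-- a `G`-module structure is determined by its values on the `1 ⊗ x` -/
theorem GMod_ext (m m' : VecGrp.GMod G E)
    (h : ∀ (B : Type u) [CommRing B] [Algebra R B] (g : VecGrp.pt R B ⟶ G) (x : E),
      m.ρ B g ((1 : B) ⊗ₜ[R] x) = m'.ρ B g ((1 : B) ⊗ₜ[R] x)) : m = m' := by
  cases m with
  | mk ρ nat =>
  cases m' with
  | mk ρ' nat' =>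
  have hρ : @ρ = @ρ' := by
    funext B _ _
    apply MonoidHom.ext
    intro g
    apply LinearEquiv.toLinearMap_injective
    apply ext_one_tmul
    intro x
    exact h B g x
  subst hρ
  rfl

end GModExt

section Sch

variable {R : Type u} [CommRing R] {A : Type u} [CommRing A] [HopfAlgebra R A]
  {E : Type u} [AddCommGroup E] [Module R E]

/-- the affine group scheme `Spec A` over `Spec R` -/
abbrev GA (R A : Type u) [CommRing R] [CommRing A] [HopfAlgebra R A] :
    Over (Spec (CommRingCat.of R)) :=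
  (Spec (CommRingCat.of A)).asOver (Spec (CommRingCat.of R))

/-- points of `Spec A` with values in `B` are algebra maps `A → B` -/
def e (R A : Type u) [CommRing R] [CommRing A] [HopfAlgebra R A]
    (B : Type u) [CommRing B] [Algebra R B] :
    WithConv (A →ₐ[R] B) ≃* (VecGrp.pt R B ⟶ GA R A) :=
  Spec.mapMulEquiv

theorem e_left {B : Type u} [CommRing B] [Algebra R B] (f : WithConv (A →ₐ[R] B)) :
    (e R A B f).left = Spec.map (CommRingCat.ofHom f.ofConv.toRingHom) := rfl

theorem ptMap_comp_e {B B' : Type u} [CommRing B] [Algebra R B] [CommRing B'] [Algebra R B']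
    (φ : B →ₐ[R] B') (f : WithConv (A →ₐ[R] B)) :
    VecGrp.ptMap φ ≫ e R A B f = e R A B' (WithConv.toConv (φ.comp f.ofConv)) := by
  apply Over.OverMorphism.ext
  show Spec.map (CommRingCat.ofHom φ.toRingHom) ≫
      Spec.map (CommRingCat.ofHom f.ofConv.toRingHom) =
    Spec.map (CommRingCat.ofHom (φ.comp f.ofConv).toRingHom)
  rw [LieS.specMap_comp]
  rfl

theorem e_symm_ptMap_comp {B B' : Type u} [CommRing B] [Algebra R B] [CommRing B'] [Algebra R B']
    (φ : B →ₐ[R] B') (g : VecGrp.pt R B ⟶ GA R A) :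
    (e R A B').symm (VecGrp.ptMap φ ≫ g) =
      WithConv.toConv (φ.comp ((e R A B).symm g).ofConv) := by
  rw [MulEquiv.symm_apply_eq, ← ptMap_comp_e, MulEquiv.apply_symm_apply]

/-- the monoid hom `f ↦ act δ f` -/
def actHom (δ : E →ₗ[R] E ⊗[R] A)
    (hco : (TensorProduct.assoc R E A A).toLinearMap ∘ₗ δ.rTensor A ∘ₗ δ =
      (CoalgebraStruct.comul (R := R) (A := A)).lTensor E ∘ₗ δ)
    (hcu : (CoalgebraStruct.counit (R := R) (A := A)).lTensor E ∘ₗ δ =
      (TensorProduct.mk R E R).flip 1)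
    (B : Type u) [CommRing B] [Algebra R B] :
    WithConv (A →ₐ[R] B) →* Module.End B (B ⊗[R] E) where
  toFun f := act δ f.ofConv.toLinearMap
  map_one' := act_one δ hcu
  map_mul' f f' := act_mul δ hco f f'

/-- the `Spec A`-module structure attached to a comodule structure -/
def gmodOf (δ : E →ₗ[R] E ⊗[R] A)
    (hco : (TensorProduct.assoc R E A A).toLinearMap ∘ₗ δ.rTensor A ∘ₗ δ =
      (CoalgebraStruct.comul (R := R) (A := A)).lTensor E ∘ₗ δ)
    (hcu : (CoalgebraStruct.counit (R := R) (A := A)).lTensor E ∘ₗ δ =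
      (TensorProduct.mk R E R).flip 1) : VecGrp.GMod (GA R A) E where
  ρ B _ _ := (LinearMap.GeneralLinearGroup.generalLinearEquiv B (B ⊗[R] E)).toMonoidHom.comp
    (((actHom δ hco hcu B).comp (e R A B).symm.toMonoidHom).toHomUnits)
  naturality {B B'} _ _ _ _ φ g x := by
    show VecGrp.Wmap φ (act δ ((e R A B).symm g).ofConv.toLinearMap x) =
      act δ ((e R A B').symm (VecGrp.ptMap φ ≫ g)).ofConv.toLinearMap (VecGrp.Wmap φ x)
    rw [e_symm_ptMap_comp, Wmap_act]
    rfl

theorem gmodOf_ρ_apply (δ : E →ₗ[R] E ⊗[R] A)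
    (hco : (TensorProduct.assoc R E A A).toLinearMap ∘ₗ δ.rTensor A ∘ₗ δ =
      (CoalgebraStruct.comul (R := R) (A := A)).lTensor E ∘ₗ δ)
    (hcu : (CoalgebraStruct.counit (R := R) (A := A)).lTensor E ∘ₗ δ =
      (TensorProduct.mk R E R).flip 1)
    (B : Type u) [CommRing B] [Algebra R B] (g : VecGrp.pt R B ⟶ GA R A) (w : B ⊗[R] E) :
    (gmodOf δ hco hcu).ρ B g w = act δ ((e R A B).symm g).ofConv.toLinearMap w := rfl

/-- Part 1: a comodule structure corresponds to exactly one `G`-module structure. -/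
theorem part1 (δ : E →ₗ[R] E ⊗[R] A)
    (hco : (TensorProduct.assoc R E A A).toLinearMap ∘ₗ δ.rTensor A ∘ₗ δ =
      (CoalgebraStruct.comul (R := R) (A := A)).lTensor E ∘ₗ δ)
    (hcu : (CoalgebraStruct.counit (R := R) (A := A)).lTensor E ∘ₗ δ =
      (TensorProduct.mk R E R).flip 1) :
    ∃! m : VecGrp.GMod ((Spec (CommRingCat.of A)).asOver (Spec (CommRingCat.of R))) E,
      ∀ (B : Type u) [CommRing B] [Algebra R B]
        (g : VecGrp.pt R B ⟶ ((Spec (CommRingCat.of A)).asOver (Spec (CommRingCat.of R))))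
        (x : E),
        m.ρ B g ((1 : B) ⊗ₜ[R] x) =
          (TensorProduct.comm R E B) (LinearMap.lTensor E
            (Spec.mapMulEquiv.symm g).ofConv.toLinearMap (δ x)) := by
  refine ⟨gmodOf δ hco hcu, ?_, ?_⟩
  · intro B _ _ g x
    rw [gmodOf_ρ_apply, act_one_tmul]
    rfl
  · intro m' hm'
    apply GMod_ext
    intro B _ _ g x
    rw [hm' B g x, gmodOf_ρ_apply, act_one_tmul]
    rfl

/-- the universal point of `Spec A` with values in `A` -/
def gU (R A : Type u) [CommRing R] [CommRing A] [HopfAlgebra R A] : VecGrp.pt R A ⟶ GA R A :=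
  e R A A (WithConv.toConv (AlgHom.id R A))

/-- the coaction attached to a `Spec A`-module structure: the action of the universal point -/
def deltaOf (m : VecGrp.GMod (GA R A) E) : E →ₗ[R] E ⊗[R] A :=
  (TensorProduct.comm R E A).symm.toLinearMap ∘ₗ
    ((m.ρ A (gU R A)).toLinearMap.restrictScalars R) ∘ₗ (TensorProduct.mk R A E 1)

theorem comm_deltaOf (m : VecGrp.GMod (GA R A) E) (x : E) :
    TensorProduct.comm R E A (deltaOf m x) = m.ρ A (gU R A) ((1 : A) ⊗ₜ[R] x) := by
  show TensorProduct.comm R E A ((TensorProduct.comm R E A).symm _) = _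
  rw [LinearEquiv.apply_symm_apply]
  rfl

theorem deltaOf_corr (m : VecGrp.GMod (GA R A) E) (B : Type u) [CommRing B] [Algebra R B]
    (g : VecGrp.pt R B ⟶ GA R A) (x : E) :
    m.ρ B g ((1 : B) ⊗ₜ[R] x) = TensorProduct.comm R E B
      (LinearMap.lTensor E ((e R A B).symm g).ofConv.toLinearMap (deltaOf m x)) := by
  obtain ⟨f, rfl⟩ := (e R A B).surjective g
  rw [MulEquiv.symm_apply_apply]
  have hg : e R A B f = VecGrp.ptMap f.ofConv ≫ gU R A := by
    rw [gU, ptMap_comp_e]
    rfl
  have hn := m.naturality f.ofConv (gU R A) ((1 : A) ⊗ₜ[R] x)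
  rw [VecGrp.Wmap_tmul, map_one, ← hg, ← comm_deltaOf, Wmap_comm] at hn
  exact hn.symm

theorem ρ_eq_act (m : VecGrp.GMod (GA R A) E) (δ : E →ₗ[R] E ⊗[R] A)
    (hcorr : ∀ (B : Type u) [CommRing B] [Algebra R B] (g : VecGrp.pt R B ⟶ GA R A) (x : E),
      m.ρ B g ((1 : B) ⊗ₜ[R] x) = TensorProduct.comm R E B
        (LinearMap.lTensor E ((e R A B).symm g).ofConv.toLinearMap (δ x)))
    (B : Type u) [CommRing B] [Algebra R B] (f : WithConv (A →ₐ[R] B)) (w : B ⊗[R] E) :
    m.ρ B (e R A B f) w = act δ f.ofConv.toLinearMap w := by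
  have h : (m.ρ B (e R A B f)).toLinearMap = act δ f.ofConv.toLinearMap := by
    apply ext_one_tmul
    intro x
    rw [LinearEquiv.coe_coe, hcorr, MulEquiv.symm_apply_apply, act_one_tmul]
  exact LinearMap.congr_fun h w

theorem coassoc_of_corr (m : VecGrp.GMod (GA R A) E) (δ : E →ₗ[R] E ⊗[R] A)
    (hcorr : ∀ (B : Type u) [CommRing B] [Algebra R B] (g : VecGrp.pt R B ⟶ GA R A) (x : E),
      m.ρ B g ((1 : B) ⊗ₜ[R] x) = TensorProduct.comm R E B
        (LinearMap.lTensor E ((e R A B).symm g).ofConv.toLinearMap (δ x))) :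
    (TensorProduct.assoc R E A A).toLinearMap ∘ₗ δ.rTensor A ∘ₗ δ =
      (CoalgebraStruct.comul (R := R) (A := A)).lTensor E ∘ₗ δ := by
  apply coassoc_of_act_mul
  intro x
  have h1 := ρ_eq_act m δ hcorr (A ⊗[R] A)
    (WithConv.toConv (Algebra.TensorProduct.includeLeft : A →ₐ[R] A ⊗[R] A) *
      WithConv.toConv (Algebra.TensorProduct.includeRight : A →ₐ[R] A ⊗[R] A))
    ((1 : A ⊗[R] A) ⊗ₜ[R] x)
  have h2 := ρ_eq_act m δ hcorr (A ⊗[R] A)
    (WithConv.toConv (Algebra.TensorProduct.includeRight : A →ₐ[R] A ⊗[R] A))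
    ((1 : A ⊗[R] A) ⊗ₜ[R] x)
  have h3 := ρ_eq_act m δ hcorr (A ⊗[R] A)
    (WithConv.toConv (Algebra.TensorProduct.includeLeft : A →ₐ[R] A ⊗[R] A))
    (act δ (WithConv.toConv
      (Algebra.TensorProduct.includeRight : A →ₐ[R] A ⊗[R] A)).ofConv.toLinearMap
      ((1 : A ⊗[R] A) ⊗ₜ[R] x))
  rw [← h1, ← h3, ← h2, map_mul, map_mul]
  rfl

theorem counit_of_corr (m : VecGrp.GMod (GA R A) E) (δ : E →ₗ[R] E ⊗[R] A)
    (hcorr : ∀ (B : Type u) [CommRing B] [Algebra R B] (g : VecGrp.pt R B ⟶ GA R A) (x : E),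
      m.ρ B g ((1 : B) ⊗ₜ[R] x) = TensorProduct.comm R E B
        (LinearMap.lTensor E ((e R A B).symm g).ofConv.toLinearMap (δ x))) :
    (CoalgebraStruct.counit (R := R) (A := A)).lTensor E ∘ₗ δ =
      (TensorProduct.mk R E R).flip 1 := by
  apply counit_of_act_one
  intro x
  have h1 := ρ_eq_act m δ hcorr R (1 : WithConv (A →ₐ[R] R)) ((1 : R) ⊗ₜ[R] x)
  rw [← h1, map_one, map_one]
  rfl

/-- Part 2: a `G`-module structure corresponds to exactly one comodule structure. -/
theorem part2 (m : VecGrp.GMod ((Spec (CommRingCat.of A)).asOver (Spec (CommRingCat.of R))) E) :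
    ∃! δ : E →ₗ[R] E ⊗[R] A,
      ((TensorProduct.assoc R E A A).toLinearMap ∘ₗ δ.rTensor A ∘ₗ δ =
            (CoalgebraStruct.comul (R := R) (A := A)).lTensor E ∘ₗ δ ∧
          (CoalgebraStruct.counit (R := R) (A := A)).lTensor E ∘ₗ δ =
            (TensorProduct.mk R E R).flip 1) ∧
        (∀ (B : Type u) [CommRing B] [Algebra R B]
          (g : VecGrp.pt R B ⟶ ((Spec (CommRingCat.of A)).asOver (Spec (CommRingCat.of R))))
          (x : E),
          m.ρ B g ((1 : B) ⊗ₜ[R] x) =
            (TensorProduct.comm R E B) (LinearMap.lTensor E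
              (Spec.mapMulEquiv.symm g).ofConv.toLinearMap (δ x))) := by
  refine ⟨deltaOf m, ⟨⟨coassoc_of_corr m _ (deltaOf_corr m), counit_of_corr m _ (deltaOf_corr m)⟩,
    deltaOf_corr m⟩, ?_⟩
  rintro δ' ⟨-, hδ'⟩
  apply LinearMap.ext
  intro x
  have h1 := hδ' A (gU R A) x
  have h2 := deltaOf_corr m A (gU R A) x
  rw [h1] at h2
  have h3 := (TensorProduct.comm R E A).injective h2
  have hid : ((e R A A).symm (gU R A)).ofConv.toLinearMap = LinearMap.id := by
    rw [gU, MulEquiv.symm_apply_apply]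
    rfl
  change LinearMap.lTensor E ((e R A A).symm (gU R A)).ofConv.toLinearMap (δ' x) = _ at h3
  rw [hid, LinearMap.lTensor_id] at h3
  exact h3

end Sch

end

end Groth.Agent.Helper6.GModComod
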