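import Groth.Agent.Lib.Helper6.ProjFrac
import Groth.Agent.Lib.Helper6.QcohAff

set_option autoImplicit false
universe u
open DirectSum CategoryTheory CategoryTheory.Limits AlgebraicGeometry Opposite TopologicalSpace Polynomial

namespace Groth.Agent.Helper6.GammaStar

open ProjFrac

variable {R A : Type u} [CommRing R] [CommRing A] [Algebra R A] (𝒜 : ℕ → Submodule R A) [GradedAlgebra 𝒜]

theorem pow_mem1 {f : A} (hf : f ∈ 𝒜 1) (k : ℕ) : f ^ k ∈ 𝒜 k := by
  have := SetLike.pow_mem_graded k hf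
  simpa using this

/-- `a/f^k` on `D₊(f)` for `f` of degree one. -/
noncomputable def q1 (f : 𝒜 1) (k : ℕ) (a : A) (ha : a ∈ 𝒜 k) : Γ(Proj 𝒜, Proj.basicOpen 𝒜 f.1) :=
  ofr 𝒜 k a (f.1 ^ k) ha (pow_mem1 𝒜 f.2 k) (Proj.basicOpen 𝒜 f.1) (le_basicOpen_pow 𝒜 k)

/-- the degree-`k` component of `ρ`. -/
noncomputable def ρc (f : 𝒜 1) (k : ℕ) : 𝒜 k →+ (Γ(Proj 𝒜, Proj.basicOpen 𝒜 f.1))[X] where
  toFun a := monomial k (q1 𝒜 f k a.1 a.2)
  map_zero' := by
    have : q1 𝒜 f k 0 (zero_mem _) = 0 := ofr_zero 𝒜 _ _ _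
    simp [this]
  map_add' a b := by
    have : q1 𝒜 f k (a.1 + b.1) (add_mem a.2 b.2) = q1 𝒜 f k a.1 a.2 + q1 𝒜 f k b.1 b.2 :=
      ofr_add 𝒜 _ _ _ _ _
    simp [this]

/-- the ring homomorphism `A → Γ(D₊(f), O)[X]`, `a_k ↦ (a_k/f^k) X^k`. -/
noncomputable def ρ (f : 𝒜 1) : A →+* (Γ(Proj 𝒜, Proj.basicOpen 𝒜 f.1))[X] :=
  (DirectSum.toSemiring (ρc 𝒜 f)
    (by
      change monomial 0 (q1 𝒜 f 0 1 _) = 1
      have : q1 𝒜 f 0 1 SetLike.GradedOne.one_mem = 1 := by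
        rw [← ofr_self 𝒜 (SetLike.GradedOne.one_mem : (1 : A) ∈ 𝒜 0) (Proj.basicOpen 𝒜 f.1)
          (by rw [← pow_zero f.1]; exact le_basicOpen_pow 𝒜 0)]
        exact ofr_eq_ofr 𝒜 _ _ _ _ _ _ _ (by simp)
      rw [this]; rfl)
    (by
      intro i j ai aj
      change monomial (i + j) (q1 𝒜 f (i + j) (ai.1 * aj.1) _) =
        monomial i (q1 𝒜 f i ai.1 ai.2) * monomial j (q1 𝒜 f j aj.1 aj.2)
      rw [monomial_mul_monomial]
      congr 1
      unfold q1
      rw [ofr_mul_ofr]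
      exact ofr_eq_ofr 𝒜 _ _ _ _ _ _ _ (by ring))).comp
  (DirectSum.decomposeRingEquiv 𝒜).toRingHom

theorem ρ_of_mem (f : 𝒜 1) {k : ℕ} {a : A} (ha : a ∈ 𝒜 k) :
    ρ 𝒜 f a = monomial k (q1 𝒜 f k a ha) := by
  unfold ρ
  rw [RingHom.comp_apply]
  change (DirectSum.toSemiring (ρc 𝒜 f) _ _) (DirectSum.decompose 𝒜 a) = _
  rw [DirectSum.decompose_of_mem 𝒜 ha, DirectSum.toSemiring_of]
  rfl


variable (F : (Proj 𝒜).Modules)

/-- polynomials with coefficients in the sections of `F` over `D₊(f)`. -/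
abbrev Pm (f : 𝒜 1) : Type u :=
  PolynomialModule Γ(Proj 𝒜, Proj.basicOpen 𝒜 f.1) Γ(F, Proj.basicOpen 𝒜 f.1)

noncomputable instance modPm (f : 𝒜 1) : Module A (Pm 𝒜 F f) := Module.compHom _ (ρ 𝒜 f)

theorem smul_def (f : 𝒜 1) (a : A) (p : Pm 𝒜 F f) : a • p = ρ 𝒜 f a • p := rfl

theorem smul_coeff (f : 𝒜 1) {k : ℕ} {a : A} (ha : a ∈ 𝒜 k) (p : Pm 𝒜 F f) (n : ℕ) :
    (a • p).coeff n = if k ≤ n then q1 𝒜 f k a ha • p.coeff (n - k) else 0 := by
  rw [smul_def, ρ_of_mem 𝒜 f ha, PolynomialModule.monomial_smul_apply]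

variable {ι : Type u} (f : ι → 𝒜 1)

/-- the open `D₊(f_i f_j)`. -/
abbrev Uij (i j : ι) : (Proj 𝒜).Opens := Proj.basicOpen 𝒜 ((f i).1 * (f j).1)

theorem Uij_le_left (i j : ι) : Uij 𝒜 f i j ≤ Proj.basicOpen 𝒜 (f i).1 :=
  ProjectiveSpectrum.basicOpen_mul_le_left 𝒜 _ _

theorem Uij_le_right (i j : ι) : Uij 𝒜 f i j ≤ Proj.basicOpen 𝒜 (f j).1 :=
  ProjectiveSpectrum.basicOpen_mul_le_right 𝒜 _ _

/-- the transition function `f_j^n / f_i^n` over an open contained in `D₊(f_i)`. -/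
noncomputable def tr (i j : ι) (n : ℕ) (V : (Proj 𝒜).Opens) (hV : V ≤ Proj.basicOpen 𝒜 (f i).1) :
    Γ(Proj 𝒜, V) :=
  ofr 𝒜 n ((f j).1 ^ n) ((f i).1 ^ n) (pow_mem1 𝒜 (f j).2 n) (pow_mem1 𝒜 (f i).2 n) V
    (hV.trans (le_basicOpen_pow 𝒜 n))

/-- the compatibility condition in degree `n`. -/
def Compat (p : ∀ i, Pm 𝒜 F (f i)) : Prop :=
  ∀ i j n, F.presheaf.map (homOfLE (Uij_le_left 𝒜 f i j)).op ((p i).coeff n) =
    tr 𝒜 f i j n (Uij 𝒜 f i j) (Uij_le_left 𝒜 f i j) •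
      F.presheaf.map (homOfLE (Uij_le_right 𝒜 f i j)).op ((p j).coeff n)


theorem compat_zero : Compat 𝒜 F f (0 : ∀ i, Pm 𝒜 F (f i)) := by
  intro i j n
  simp

theorem compat_add {p p' : ∀ i, Pm 𝒜 F (f i)} (hp : Compat 𝒜 F f p) (hp' : Compat 𝒜 F f p') :
    Compat 𝒜 F f (p + p') := by
  intro i j n
  simp only [Pi.add_apply, PolynomialModule.coeff_add, Finsupp.coe_add, map_add, smul_add]
  rw [hp i j n, hp' i j n]

theorem compat_smul_of_mem {c : ℕ} {a : A} (ha : a ∈ 𝒜 c) {p : ∀ i, Pm 𝒜 F (f i)}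
    (hp : Compat 𝒜 F f p) : Compat 𝒜 F f (a • p) := by
  intro i j n
  simp only [Pi.smul_apply]
  rw [smul_coeff 𝒜 F (f i) ha, smul_coeff 𝒜 F (f j) ha]
  split_ifs with h
  · obtain ⟨n', rfl⟩ : ∃ n', n = n' + c := ⟨n - c, by omega⟩
    rw [Nat.add_sub_cancel, Scheme.Modules.map_smul, Scheme.Modules.map_smul, hp i j n', ← mul_smul,
      ← mul_smul]
    congr 1
    unfold tr q1
    rw [res_ofr, res_ofr, ofr_mul_ofr, ofr_mul_ofr]
    exact ofr_eq_ofr 𝒜 _ _ _ _ _ _ _ (by ring)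
  · simp


theorem compat_smul (a : A) {p : ∀ i, Pm 𝒜 F (f i)} (hp : Compat 𝒜 F f p) :
    Compat 𝒜 F f (a • p) := by
  classical
  rw [← DirectSum.sum_support_decompose 𝒜 a, Finset.sum_smul]
  refine Finset.sum_induction _ (Compat 𝒜 F f) (fun _ _ => compat_add 𝒜 F f) (compat_zero 𝒜 F f)
    (fun c _ => compat_smul_of_mem 𝒜 F f (decompose 𝒜 a c).2 hp)

/-- the graded module `Γ_*(F)` (nonnegative degrees), as compatible families. -/
noncomputable def gstar : Submodule A (∀ i, Pm 𝒜 F (f i)) where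
  carrier := {p | Compat 𝒜 F f p}
  zero_mem' := compat_zero 𝒜 F f
  add_mem' := compat_add 𝒜 F f
  smul_mem' a _ hp := compat_smul 𝒜 F f a hp

/-- the carrier type of `Γ_*(F)`, with its own instances. -/
def GStar : Type u := ↥(gstar 𝒜 F f)

noncomputable instance : AddCommGroup (GStar 𝒜 F f) := inferInstanceAs (AddCommGroup ↥(gstar 𝒜 F f))

noncomputable instance : Module A (GStar 𝒜 F f) := inferInstanceAs (Module A ↥(gstar 𝒜 F f))

noncomputable instance modR : Module R (GStar 𝒜 F f) := Module.compHom _ (algebraMap R A)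

instance : IsScalarTower R A (GStar 𝒜 F f) := IsScalarTower.of_algebraMap_smul (fun _ _ => rfl)

namespace GStar

variable {𝒜 F f}

/-- the underlying family. -/
def fam (p : GStar 𝒜 F f) : ∀ i, Pm 𝒜 F (f i) := Subtype.val (show ↥(gstar 𝒜 F f) from p)

/-- constructor. -/
def mk (q : ∀ i, Pm 𝒜 F (f i)) (hq : Compat 𝒜 F f q) : GStar 𝒜 F f :=
  (⟨q, hq⟩ : ↥(gstar 𝒜 F f))

theorem fam_mk (q : ∀ i, Pm 𝒜 F (f i)) (hq : Compat 𝒜 F f q) : fam (mk q hq) = q := rfl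

theorem fam_compat (p : GStar 𝒜 F f) : Compat 𝒜 F f (fam p) :=
  Subtype.property (show ↥(gstar 𝒜 F f) from p)

theorem fam_zero : fam (0 : GStar 𝒜 F f) = 0 := rfl

theorem fam_add (p p' : GStar 𝒜 F f) : fam (p + p') = fam p + fam p' := rfl

theorem fam_smul (a : A) (p : GStar 𝒜 F f) : fam (a • p) = a • fam p := rfl

theorem fam_smulR (r : R) (p : GStar 𝒜 F f) : fam (r • p) = algebraMap R A r • fam p := rfl

theorem fam_injective : Function.Injective (fam : GStar 𝒜 F f → _) := fun _ _ h => Subtype.ext h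

end GStar

open GStar

/-- the degree `n` part. -/
noncomputable def gr (n : ℕ) : Submodule R (GStar 𝒜 F f) where
  carrier := {p | ∀ i n', n' ≠ n → (fam p i).coeff n' = 0}
  zero_mem' := by intro i n' _; simp [fam_zero]
  add_mem' := by
    intro p p' hp hp' i n' hn'
    simp [fam_add, hp i n' hn', hp' i n' hn']
  smul_mem' := by
    intro r p hp i n' hn'
    rw [fam_smulR, Pi.smul_apply, smul_coeff 𝒜 F (f i) (SetLike.algebraMap_mem_graded 𝒜 r)]
    simp only [zero_le, if_true, Nat.sub_zero]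
    rw [hp i n' hn', smul_zero]

instance gradedSMul : SetLike.GradedSMul 𝒜 (gr 𝒜 F f) where
  smul_mem := by
    intro c n a p ha hp i n' hn'
    rw [fam_smul, Pi.smul_apply, smul_coeff 𝒜 F (f i) ha]
    split_ifs with h
    · rw [hp i (n' - c) (by intro h'; apply hn'; rw [vadd_eq_add]; omega), smul_zero]
    · rfl

/-- the coefficient maps. -/
noncomputable def cf (i : ι) (n : ℕ) : GStar 𝒜 F f →+ Γ(F, Proj.basicOpen 𝒜 (f i).1) where
  toFun p := (fam p i).coeff n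
  map_zero' := by simp [fam_zero]
  map_add' p p' := by simp [fam_add]

theorem cf_apply (i : ι) (n : ℕ) (p : GStar 𝒜 F f) : cf 𝒜 F f i n p = (fam p i).coeff n := rfl

theorem ext_cf {p p' : GStar 𝒜 F f} (h : ∀ i n, cf 𝒜 F f i n p = cf 𝒜 F f i n p') : p = p' := by
  apply fam_injective
  funext i
  apply PolynomialModule.coeff_injective
  ext n
  exact h i n

theorem cf_of_mem_ne {n n' : ℕ} {p : GStar 𝒜 F f} (hp : p ∈ gr 𝒜 F f n) (h : n' ≠ n) (i : ι) :
    cf 𝒜 F f i n' p = 0 := hp i n' h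

theorem compat_cf (p : GStar 𝒜 F f) (i j : ι) (n : ℕ) :
    F.presheaf.map (homOfLE (Uij_le_left 𝒜 f i j)).op (cf 𝒜 F f i n p) =
    tr 𝒜 f i j n (Uij 𝒜 f i j) (Uij_le_left 𝒜 f i j) •
      F.presheaf.map (homOfLE (Uij_le_right 𝒜 f i j)).op (cf 𝒜 F f j n p) := fam_compat p i j n

theorem smul_cf {c : ℕ} {a : A} (ha : a ∈ 𝒜 c) (p : GStar 𝒜 F f) (i : ι) (n : ℕ) :
    cf 𝒜 F f i (c + n) (a • p) = q1 𝒜 (f i) c a ha • cf 𝒜 F f i n p := by
  rw [cf_apply, fam_smul, Pi.smul_apply, smul_coeff 𝒜 F (f i) ha, if_pos (by omega),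
    Nat.add_sub_cancel_left]
  rfl

/-- the degree-`n` piece of a family. -/
noncomputable def piece (n : ℕ) (p : GStar 𝒜 F f) : gr 𝒜 F f n :=
  ⟨GStar.mk (fun i => PolynomialModule.single Γ(Proj 𝒜, Proj.basicOpen 𝒜 (f i).1) n
      ((fam p i).coeff n)) (by
    intro i j n'
    simp only [PolynomialModule.coeff_single, Finsupp.single_apply]
    split_ifs with h
    · subst h; exact fam_compat p i j n
    · simp), by
    intro i n' hn'
    rw [fam_mk]
    simp only [PolynomialModule.coeff_single, Finsupp.single_apply]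
    rw [if_neg (fun h => hn' h.symm)]⟩

theorem cf_piece (n : ℕ) (p : GStar 𝒜 F f) (i : ι) (n' : ℕ) :
    cf 𝒜 F f i n' (piece 𝒜 F f n p).1 = if n = n' then cf 𝒜 F f i n' p else 0 := by
  change (PolynomialModule.single Γ(Proj 𝒜, Proj.basicOpen 𝒜 (f i).1) n
    ((fam p i).coeff n)).coeff n' = _
  simp only [PolynomialModule.coeff_single, Finsupp.single_apply]
  split_ifs with h
  · subst h; rfl
  · rfl

theorem cf_coe_directSum (x : ⨁ n, gr 𝒜 F f n) (i : ι) (n : ℕ) :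
    cf 𝒜 F f i n (DirectSum.coeAddMonoidHom (gr 𝒜 F f) x) = cf 𝒜 F f i n (x n).1 := by
  induction x using DirectSum.induction_on with
  | zero => simp
  | of n' y =>
    rw [DirectSum.coeAddMonoidHom_of]
    by_cases h : n' = n
    · subst h
      rw [DirectSum.of_eq_same]
    · rw [DirectSum.of_eq_of_ne _ _ _ (fun h' => h h'.symm)]
      rw [cf_of_mem_ne 𝒜 F f y.2 (fun h' => h h'.symm)]
      simp
  | add x y hx hy =>
    rw [map_add, map_add, hx, hy]
    simp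

theorem isInternal [Finite ι] : DirectSum.IsInternal (gr 𝒜 F f) := by
  classical
  haveI := Fintype.ofFinite ι
  constructor
  · rw [injective_iff_map_eq_zero]
    intro x hx
    ext n : 1
    apply Subtype.ext
    apply ext_cf
    intro i n'
    by_cases h : n' = n
    · subst h
      rw [← cf_coe_directSum, hx]
      simp
    · rw [cf_of_mem_ne 𝒜 F f (x n).2 h]
      simp
  · intro p
    let S : Finset ℕ := Finset.univ.biUnion fun i => (fam p i).coeff.support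
    refine ⟨∑ n ∈ S, DirectSum.of (fun n => gr 𝒜 F f n) n (piece 𝒜 F f n p), ?_⟩
    apply ext_cf
    intro i n'
    rw [map_sum, map_sum]
    simp only [DirectSum.coeAddMonoidHom_of, cf_piece]
    rw [Finset.sum_ite_eq' S n']
    split_ifs with h
    · rfl
    · symm
      by_contra hne
      apply h
      exact Finset.mem_biUnion.2 ⟨i, Finset.mem_univ _, Finsupp.mem_support_iff.2 hne⟩

noncomputable instance decomposition [Finite ι] : DirectSum.Decomposition (gr 𝒜 F f) :=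
  (isInternal 𝒜 F f).chooseDecomposition

end Groth.Agent.Helper6.GammaStar
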