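import Groth.Agent.Lib.Helper6.GammaStar

set_option autoImplicit false
universe u
open DirectSum CategoryTheory CategoryTheory.Limits AlgebraicGeometry Opposite TopologicalSpace Polynomial

namespace Groth.Agent.Helper6.GammaStar

open ProjFrac GStar

variable {R A : Type u} [CommRing R] [CommRing A] [Algebra R A] (𝒜 : ℕ → Submodule R A) [GradedAlgebra 𝒜]
variable (F : (Proj 𝒜).Modules) {ι : Type u} (f : ι → 𝒜 1)

theorem res_res {U V W : (Proj 𝒜).Opens} (hVU : V ≤ U) (hWV : W ≤ V) (t : Γ(F, U)) :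
    F.presheaf.map (homOfLE hWV).op (F.presheaf.map (homOfLE hVU).op t) =
      F.presheaf.map (homOfLE (hWV.trans hVU)).op t := by
  rw [← F.presheaf.map_comp_apply, ← op_comp, homOfLE_comp]

theorem res_injective_of_eq {U W : (Proj 𝒜).Opens} (h : W = U) (hle : W ≤ U) :
    Function.Injective (F.presheaf.map (homOfLE hle).op) := by
  subst h
  intro a b hab
  have : (homOfLE hle) = 𝟙 W := rfl
  rw [this, op_id, F.presheaf.map_id] at hab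
  exact hab

theorem compat_on (p : GStar 𝒜 F f) (i j : ι) (n : ℕ) (V : (Proj 𝒜).Opens)
    (hVi : V ≤ Proj.basicOpen 𝒜 (f i).1) (hVj : V ≤ Proj.basicOpen 𝒜 (f j).1) :
    F.presheaf.map (homOfLE hVi).op (cf 𝒜 F f i n p) =
      tr 𝒜 f i j n V hVi • F.presheaf.map (homOfLE hVj).op (cf 𝒜 F f j n p) := by
  have hV : V ≤ Uij 𝒜 f i j := le_basicOpen_mul 𝒜 hVi hVj
  have := congrArg (F.presheaf.map (homOfLE hV).op) (compat_cf 𝒜 F f p i j n)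
  rw [Scheme.Modules.map_smul, res_res, res_res] at this
  exact this


theorem pow_smul_zero_mono {U : (Proj 𝒜).Opens} (r : Γ(Proj 𝒜, U)) (t : Γ(F, U)) {e e' : ℕ}
    (h : e ≤ e') (h0 : r ^ e • t = 0) : r ^ e' • t = 0 := by
  obtain ⟨k, rfl⟩ := Nat.exists_eq_add_of_le h
  rw [pow_add, mul_comm, mul_smul, h0, smul_zero]

theorem isAffineOpen_U (i : ι) : IsAffineOpen (Proj.basicOpen 𝒜 (f i).1) :=
  Proj.isAffineOpen_basicOpen 𝒜 (f i).1 (f i).2 Nat.one_pos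

/-- the function `g/f_i^d` on `D₊(f_i)`. -/
noncomputable def rr (i : ι) (d : ℕ) (g : A) (hg : g ∈ 𝒜 d) : Γ(Proj 𝒜, Proj.basicOpen 𝒜 (f i).1) :=
  q1 𝒜 (f i) d g hg

theorem basicOpen_rr (i : ι) (d : ℕ) (g : A) (hg : g ∈ 𝒜 d) :
    (Proj 𝒜).basicOpen (rr 𝒜 f i d g hg) = Proj.basicOpen 𝒜 (f i).1 ⊓ Proj.basicOpen 𝒜 g :=
  basicOpen_ofr 𝒜 hg (pow_mem1 𝒜 (f i).2 d) _ (le_basicOpen_pow 𝒜 d)

theorem rr_pow (i : ι) (d : ℕ) (g : A) (hg : g ∈ 𝒜 d) (e : ℕ) :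
    rr 𝒜 f i d g hg ^ e = rr 𝒜 f i (e • d) (g ^ e) (SetLike.pow_mem_graded e hg) := by
  unfold rr q1
  rw [ofr_pow]
  exact ofr_eq_ofr 𝒜 _ _ _ _ _ _ _ (by rw [smul_eq_mul, ← pow_mul, mul_comm d e])

theorem smul_cf' {c : ℕ} {a : A} (ha : a ∈ 𝒜 c) (p : GStar 𝒜 F f) (i : ι) (n : ℕ) :
    cf 𝒜 F f i (c + n) (a • p) = rr 𝒜 f i c a ha • cf 𝒜 F f i n p := smul_cf 𝒜 F f ha p i n

/-- the open `D₊(f_i) ∩ D₊(f_j)`. -/
abbrev Wij (i j : ι) : (Proj 𝒜).Opens := Proj.basicOpen 𝒜 (f i).1 ⊓ Proj.basicOpen 𝒜 (f j).1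

theorem Wij_le_left (i j : ι) : Wij 𝒜 f i j ≤ Proj.basicOpen 𝒜 (f i).1 := inf_le_left

theorem Wij_le_right (i j : ι) : Wij 𝒜 f i j ≤ Proj.basicOpen 𝒜 (f j).1 := inf_le_right

theorem res_tr (i j : ι) (n : ℕ) {V V' : (Proj 𝒜).Opens} (hV : V ≤ Proj.basicOpen 𝒜 (f i).1)
    (h : V' ≤ V) :
    (Proj 𝒜).presheaf.map (homOfLE h).op (tr 𝒜 f i j n V hV) = tr 𝒜 f i j n V' (h.trans hV) := rfl

theorem tr_self (i : ι) (n : ℕ) (V : (Proj 𝒜).Opens) (hV : V ≤ Proj.basicOpen 𝒜 (f i).1) :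
    tr 𝒜 f i i n V hV = 1 := ofr_self 𝒜 _ _ _

theorem tr_mul_tr (i j l : ι) (n : ℕ) (V : (Proj 𝒜).Opens) (hVi : V ≤ Proj.basicOpen 𝒜 (f i).1)
    (hVj : V ≤ Proj.basicOpen 𝒜 (f j).1) :
    tr 𝒜 f i j n V hVi * tr 𝒜 f j l n V hVj = tr 𝒜 f i l n V hVi := by
  unfold tr
  rw [ofr_mul_ofr]
  exact ofr_eq_ofr 𝒜 _ _ _ _ _ _ _ (by ring)

theorem res_rr_pow (j i₀ : ι) (n : ℕ) (W : (Proj 𝒜).Opens) (hW : W ≤ Proj.basicOpen 𝒜 (f j).1) :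
    ((Proj 𝒜).presheaf.map (homOfLE hW).op (rr 𝒜 f j 1 (f i₀).1 (f i₀).2)) ^ n =
      tr 𝒜 f j i₀ n W hW := by
  rw [← map_pow, rr_pow]
  unfold rr q1 tr
  rw [res_ofr]
  exact ofr_eq_ofr 𝒜 _ _ _ _ _ _ _ (by rw [smul_eq_mul, mul_one])

section qc

variable [F.IsQuasicoherent]

/-- (d2) on `D₊(f_i)` for the function `g/f_i^d`. -/
theorem d2 (i : ι) (d : ℕ) (g : A) (hg : g ∈ 𝒜 d) (t : Γ(F, Proj.basicOpen 𝒜 (f i).1))
    (W : (Proj 𝒜).Opens) (hW : W ≤ Proj.basicOpen 𝒜 (f i).1)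
    (hWg : W = Proj.basicOpen 𝒜 (f i).1 ⊓ Proj.basicOpen 𝒜 g)
    (ht : F.presheaf.map (homOfLE hW).op t = 0) : ∃ e : ℕ, rr 𝒜 f i d g hg ^ e • t = 0 :=
  QcohLocal.eq_zero_of_isQuasicoherent (isAffineOpen_U 𝒜 f i) F (rr 𝒜 f i d g hg) W _ rfl hW
    (hWg.trans (basicOpen_rr 𝒜 f i d g hg).symm) t ht

/-- (d1) on `D₊(f_i)` for the function `g/f_i^d`. -/
theorem d1 (i : ι) (d : ℕ) (g : A) (hg : g ∈ 𝒜 d)
    (W : (Proj 𝒜).Opens) (hW : W ≤ Proj.basicOpen 𝒜 (f i).1)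
    (hWg : W = Proj.basicOpen 𝒜 (f i).1 ⊓ Proj.basicOpen 𝒜 g) (s : Γ(F, W)) :
    ∃ (e : ℕ) (t : Γ(F, Proj.basicOpen 𝒜 (f i).1)),
      ((Proj 𝒜).presheaf.map (homOfLE hW).op (rr 𝒜 f i d g hg)) ^ e • s =
        F.presheaf.map (homOfLE hW).op t :=
  QcohLocal.exists_of_isQuasicoherent (isAffineOpen_U 𝒜 f i) F (rr 𝒜 f i d g hg) W _ rfl hW
    (hWg.trans (basicOpen_rr 𝒜 f i d g hg).symm) s

variable [Finite ι]

/-- torsion lemma: a homogeneous element whose `i`-th component vanishes near `x` is killed by a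
homogeneous element not in `x`. -/
theorem exists_smul_eq_zero {n : ℕ} {p : GStar 𝒜 F f} (hp : p ∈ gr 𝒜 F f n) (i : ι)
    (x : ProjectiveSpectrum 𝒜) (V : (Proj 𝒜).Opens) (hxV : (x : ↥(Proj 𝒜)) ∈ V)
    (hVi : V ≤ Proj.basicOpen 𝒜 (f i).1)
    (h0 : F.presheaf.map (homOfLE hVi).op (cf 𝒜 F f i n p) = 0) :
    ∃ (c : ℕ) (u : A), u ∈ 𝒜 c ∧ u ∉ x.asHomogeneousIdeal ∧ u • p = 0 := by
  obtain ⟨d, g, hg, hgx, hgV⟩ := exists_homogeneous_basicOpen 𝒜 x V hxV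
  have hfx : (f i).1 ∉ x.asHomogeneousIdeal := notMem_of_le 𝒜 hVi x hxV
  -- step 1: kill the i-th component
  have hW : Proj.basicOpen 𝒜 (f i).1 ⊓ Proj.basicOpen 𝒜 g ≤ Proj.basicOpen 𝒜 (f i).1 := inf_le_left
  have h0' : F.presheaf.map (homOfLE hW).op (cf 𝒜 F f i n p) = 0 := by
    have hWV : Proj.basicOpen 𝒜 (f i).1 ⊓ Proj.basicOpen 𝒜 g ≤ V := inf_le_right.trans hgV
    rw [← res_res 𝒜 F hVi hWV, h0, map_zero]
  obtain ⟨e, he⟩ := d2 𝒜 F f i d g hg _ _ hW rfl h0'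
  have hge : g ^ e ∈ 𝒜 (e • d) := SetLike.pow_mem_graded e hg
  have hp1 : g ^ e • p ∈ gr 𝒜 F f (e • d + n) := SetLike.GradedSMul.smul_mem hge hp
  have hcf1 : cf 𝒜 F f i (e • d + n) (g ^ e • p) = 0 := by
    rw [smul_cf' 𝒜 F f hge, ← rr_pow 𝒜 f i d g hg e, he]
  -- step 2: the other components
  have hj : ∀ j : ι, ∃ e' : ℕ, rr 𝒜 f j 1 (f i).1 (f i).2 ^ e' • cf 𝒜 F f j (e • d + n) (g ^ e • p) = 0 := by
    intro j
    have hWj : Proj.basicOpen 𝒜 (f j).1 ⊓ Proj.basicOpen 𝒜 (f i).1 ≤ Proj.basicOpen 𝒜 (f j).1 :=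
      inf_le_left
    refine d2 𝒜 F f j 1 (f i).1 (f i).2 _ _ hWj rfl ?_
    rw [compat_on 𝒜 F f (g ^ e • p) j i (e • d + n) _ hWj inf_le_right, hcf1, map_zero, smul_zero]
  choose e' he' using hj
  obtain ⟨E, hE⟩ := Finite.exists_le e'
  have hfE : (f i).1 ^ E ∈ 𝒜 (E • 1) := SetLike.pow_mem_graded E (f i).2
  have hp2 : (f i).1 ^ E • (g ^ e • p) ∈ gr 𝒜 F f (E • 1 + (e • d + n)) :=
    SetLike.GradedSMul.smul_mem hfE hp1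
  have hzero : (f i).1 ^ E • (g ^ e • p) = 0 := by
    apply ext_cf
    intro j n'
    rw [map_zero]
    by_cases hn' : n' = E • 1 + (e • d + n)
    · subst hn'
      rw [smul_cf' 𝒜 F f hfE, ← rr_pow 𝒜 f j 1 (f i).1 (f i).2 E]
      exact pow_smul_zero_mono 𝒜 F _ _ (hE j) (he' j)
    · exact cf_of_mem_ne 𝒜 F f hp2 hn' j
  refine ⟨E • 1 + e • d, (f i).1 ^ E * g ^ e, SetLike.mul_mem_graded hfE hge, ?_, ?_⟩
  · intro h
    rcases x.isPrime.mem_or_mem h with h1 | h1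
    · exact hfx (x.isPrime.mem_of_pow_mem E h1)
    · exact hgx (x.isPrime.mem_of_pow_mem e h1)
  · rw [mul_smul]; exact hzero

/-- extension, step 1: sections `t_j` over each `D₊(f_j)` agreeing with `f_{i₀}^n/f_j^n • t`
on the overlaps. -/
theorem ext_step1 (i₀ : ι) (t : Γ(F, Proj.basicOpen 𝒜 (f i₀).1)) :
    ∃ n : ℕ, ∀ j : ι, ∃ tj : Γ(F, Proj.basicOpen 𝒜 (f j).1),
      F.presheaf.map (homOfLE (Wij_le_left 𝒜 f j i₀)).op tj =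
      tr 𝒜 f j i₀ n (Wij 𝒜 f j i₀) (Wij_le_left 𝒜 f j i₀) •
        F.presheaf.map (homOfLE (Wij_le_right 𝒜 f j i₀)).op t := by
  have h1 : ∀ j : ι, ∃ (e : ℕ) (tj : Γ(F, Proj.basicOpen 𝒜 (f j).1)),
      tr 𝒜 f j i₀ e (Wij 𝒜 f j i₀) (Wij_le_left 𝒜 f j i₀) •
        F.presheaf.map (homOfLE (Wij_le_right 𝒜 f j i₀)).op t =
      F.presheaf.map (homOfLE (Wij_le_left 𝒜 f j i₀)).op tj := by
    intro j
    obtain ⟨e, tj, h⟩ := d1 𝒜 F f j 1 (f i₀).1 (f i₀).2 (Wij 𝒜 f j i₀) (Wij_le_left 𝒜 f j i₀) rfl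
      (F.presheaf.map (homOfLE (Wij_le_right 𝒜 f j i₀)).op t)
    rw [res_rr_pow] at h
    exact ⟨e, tj, h⟩
  choose e tj h using h1
  obtain ⟨n, hn⟩ := Finite.exists_le e
  refine ⟨n, fun j => ⟨tr 𝒜 f j i₀ (n - e j) (Proj.basicOpen 𝒜 (f j).1) le_rfl • tj j, ?_⟩⟩
  rw [Scheme.Modules.map_smul, ← h j, ← mul_smul, res_tr]
  congr 1
  unfold tr
  rw [ofr_mul_ofr]
  refine ofr_eq_ofr 𝒜 _ _ _ _ _ _ _ ?_
  obtain ⟨k, hk⟩ := Nat.exists_eq_add_of_le (hn j)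
  have hk' : n - e j = k := by omega
  rw [hk', hk]
  ring

/-- the function `f_{i₀}^2/(f_j f_l)` on `D₊(f_j f_l)`. -/
noncomputable def r3 (i₀ j l : ι) : Γ(Proj 𝒜, Uij 𝒜 f j l) :=
  ofr 𝒜 (1 + 1) ((f i₀).1 * (f i₀).1) ((f j).1 * (f l).1)
    (SetLike.mul_mem_graded (f i₀).2 (f i₀).2) (SetLike.mul_mem_graded (f j).2 (f l).2)
    (Uij 𝒜 f j l) le_rfl

theorem basicOpen_r3 (i₀ j l : ι) :
    (Proj 𝒜).basicOpen (r3 𝒜 f i₀ j l) =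
      Uij 𝒜 f j l ⊓ Proj.basicOpen 𝒜 ((f i₀).1 * (f i₀).1) :=
  basicOpen_ofr 𝒜 _ _ _ _

theorem isAffineOpen_Uij (j l : ι) : IsAffineOpen (Uij 𝒜 f j l) :=
  Proj.isAffineOpen_basicOpen 𝒜 _ (SetLike.mul_mem_graded (f j).2 (f l).2) (by norm_num)

/-- extension, step 2: the cocycle defect is killed by a power of `f_{i₀}^2/(f_j f_l)`. -/
theorem ext_step2 (i₀ : ι) (t : Γ(F, Proj.basicOpen 𝒜 (f i₀).1)) (n : ℕ)
    (tj : ∀ j : ι, Γ(F, Proj.basicOpen 𝒜 (f j).1))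
    (h : ∀ j : ι, F.presheaf.map (homOfLE (Wij_le_left 𝒜 f j i₀)).op (tj j) =
      tr 𝒜 f j i₀ n (Wij 𝒜 f j i₀) (Wij_le_left 𝒜 f j i₀) •
        F.presheaf.map (homOfLE (Wij_le_right 𝒜 f j i₀)).op t) :
    ∃ P : ℕ, ∀ j l : ι, r3 𝒜 f i₀ j l ^ P •
      (F.presheaf.map (homOfLE (Uij_le_left 𝒜 f j l)).op (tj j) -
        tr 𝒜 f j l n (Uij 𝒜 f j l) (Uij_le_left 𝒜 f j l) •
          F.presheaf.map (homOfLE (Uij_le_right 𝒜 f j l)).op (tj l)) = 0 := by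
  have key : ∀ q : ι × ι, ∃ e : ℕ, r3 𝒜 f i₀ q.1 q.2 ^ e •
      (F.presheaf.map (homOfLE (Uij_le_left 𝒜 f q.1 q.2)).op (tj q.1) -
        tr 𝒜 f q.1 q.2 n (Uij 𝒜 f q.1 q.2) (Uij_le_left 𝒜 f q.1 q.2) •
          F.presheaf.map (homOfLE (Uij_le_right 𝒜 f q.1 q.2)).op (tj q.2)) = 0 := by
    rintro ⟨j, l⟩
    dsimp only
    have hW : Uij 𝒜 f j l ⊓ Proj.basicOpen 𝒜 ((f i₀).1 * (f i₀).1) ≤ Uij 𝒜 f j l := inf_le_left
    have hWi₀ : Uij 𝒜 f j l ⊓ Proj.basicOpen 𝒜 ((f i₀).1 * (f i₀).1) ≤ Proj.basicOpen 𝒜 (f i₀).1 :=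
      inf_le_right.trans (ProjectiveSpectrum.basicOpen_mul_le_left 𝒜 _ _)
    have hWj : Uij 𝒜 f j l ⊓ Proj.basicOpen 𝒜 ((f i₀).1 * (f i₀).1) ≤ Proj.basicOpen 𝒜 (f j).1 :=
      hW.trans (Uij_le_left 𝒜 f j l)
    have hWl : Uij 𝒜 f j l ⊓ Proj.basicOpen 𝒜 ((f i₀).1 * (f i₀).1) ≤ Proj.basicOpen 𝒜 (f l).1 :=
      hW.trans (Uij_le_right 𝒜 f j l)
    have hres : ∀ (a : ι) (hWa : Uij 𝒜 f j l ⊓ Proj.basicOpen 𝒜 ((f i₀).1 * (f i₀).1) ≤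
        Proj.basicOpen 𝒜 (f a).1),
        F.presheaf.map (homOfLE hWa).op (tj a) = tr 𝒜 f a i₀ n _ hWa •
          F.presheaf.map (homOfLE hWi₀).op t := by
      intro a hWa
      have hWW : Uij 𝒜 f j l ⊓ Proj.basicOpen 𝒜 ((f i₀).1 * (f i₀).1) ≤ Wij 𝒜 f a i₀ :=
        le_inf hWa hWi₀
      have := congrArg (F.presheaf.map (homOfLE hWW).op) (h a)
      rw [Scheme.Modules.map_smul, res_res, res_res] at this
      exact this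
    refine QcohLocal.eq_zero_of_isQuasicoherent (isAffineOpen_Uij 𝒜 f j l) F (r3 𝒜 f i₀ j l) _ _ rfl hW
      (basicOpen_r3 𝒜 f i₀ j l).symm _ ?_
    rw [map_sub, Scheme.Modules.map_smul, res_res, res_res, hres j hWj, hres l hWl, ← mul_smul,
      res_tr, tr_mul_tr, sub_self]
  choose e he using key
  obtain ⟨P, hP⟩ := Finite.exists_le e
  exact ⟨P, fun j l => pow_smul_zero_mono 𝒜 F _ _ (hP (j, l)) (he (j, l))⟩

/-- extension lemma: every section over `D₊(f_{i₀})` is the `i₀`-th component of a homogeneous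
element of `Γ_*(F)` of any sufficiently large degree. -/
theorem exists_extension (i₀ : ι) (t : Γ(F, Proj.basicOpen 𝒜 (f i₀).1)) :
    ∃ N₀ : ℕ, ∀ N : ℕ, N₀ ≤ N → ∃ p : GStar 𝒜 F f, p ∈ gr 𝒜 F f N ∧ cf 𝒜 F f i₀ N p = t := by
  obtain ⟨n, h1⟩ := ext_step1 𝒜 F f i₀ t
  choose tj htj using h1
  obtain ⟨P, hP⟩ := ext_step2 𝒜 F f i₀ t n tj htj
  refine ⟨n + (P + P), fun N hN => ?_⟩
  obtain ⟨k, rfl⟩ := Nat.exists_eq_add_of_le hN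
  -- the components
  let m : ∀ j : ι, Γ(F, Proj.basicOpen 𝒜 (f j).1) := fun j =>
    tr 𝒜 f j i₀ (P + P + k) (Proj.basicOpen 𝒜 (f j).1) le_rfl • tj j
  have hm : ∀ j l : ι, F.presheaf.map (homOfLE (Uij_le_left 𝒜 f j l)).op (m j) =
      tr 𝒜 f j l (n + (P + P) + k) (Uij 𝒜 f j l) (Uij_le_left 𝒜 f j l) •
        F.presheaf.map (homOfLE (Uij_le_right 𝒜 f j l)).op (m l) := by
    intro j l
    simp only [m]
    rw [Scheme.Modules.map_smul, Scheme.Modules.map_smul, ← mul_smul, res_tr, res_tr]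
    have hmul : tr 𝒜 f j l (n + (P + P) + k) (Uij 𝒜 f j l) (Uij_le_left 𝒜 f j l) *
        tr 𝒜 f l i₀ (P + P + k) (Uij 𝒜 f j l) (Uij_le_right 𝒜 f j l) =
        tr 𝒜 f j i₀ (P + P + k) (Uij 𝒜 f j l) (Uij_le_left 𝒜 f j l) *
          tr 𝒜 f j l n (Uij 𝒜 f j l) (Uij_le_left 𝒜 f j l) := by
      unfold tr
      rw [ofr_mul_ofr, ofr_mul_ofr]
      exact ofr_eq_ofr 𝒜 _ _ _ _ _ _ _ (by ring)
    rw [hmul, mul_smul, ← sub_eq_zero, ← smul_sub]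
    -- factor through `r3 ^ P`
    have hfac : tr 𝒜 f j i₀ (P + P + k) (Uij 𝒜 f j l) (Uij_le_left 𝒜 f j l) =
        ofr 𝒜 (P + k) ((f i₀).1 ^ k * (f l).1 ^ P) ((f j).1 ^ (P + k))
          (by
            have := SetLike.mul_mem_graded (pow_mem1 𝒜 (f i₀).2 k) (pow_mem1 𝒜 (f l).2 P)
            rwa [add_comm] at this)
          (pow_mem1 𝒜 (f j).2 (P + k)) (Uij 𝒜 f j l)
          ((Uij_le_left 𝒜 f j l).trans (le_basicOpen_pow 𝒜 _)) * r3 𝒜 f i₀ j l ^ P := by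
      unfold tr r3
      rw [ofr_pow, ofr_mul_ofr]
      exact ofr_eq_ofr 𝒜 _ _ _ _ _ _ _ (by ring)
    rw [hfac, mul_smul, hP j l, smul_zero]
  -- the element
  let q : ∀ j, Pm 𝒜 F (f j) := fun j =>
    PolynomialModule.single Γ(Proj 𝒜, Proj.basicOpen 𝒜 (f j).1) (n + (P + P) + k) (m j)
  have hq : Compat 𝒜 F f q := by
    intro j l n'
    simp only [q, PolynomialModule.coeff_single, Finsupp.single_apply]
    split_ifs with h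
    · subst h; exact hm j l
    · simp
  refine ⟨GStar.mk q hq, ?_, ?_⟩
  · intro j n' hn'
    rw [fam_mk]
    simp only [q, PolynomialModule.coeff_single, Finsupp.single_apply]
    rw [if_neg (fun h => hn' h.symm)]
  · rw [cf_apply, fam_mk]
    simp only [q, PolynomialModule.coeff_single, Finsupp.single_apply, if_true, m]
    rw [tr_self, one_smul]
    have hidem : Wij 𝒜 f i₀ i₀ = Proj.basicOpen 𝒜 (f i₀).1 := inf_idem _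
    apply res_injective_of_eq 𝒜 F hidem (Wij_le_left 𝒜 f i₀ i₀)
    rw [htj i₀, tr_self, one_smul]

end qc

end Groth.Agent.Helper6.GammaStar
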