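import Groth.Agent.Lib.Helper6.GammaStarExt

set_option autoImplicit false
universe u
open DirectSum CategoryTheory CategoryTheory.Limits AlgebraicGeometry Opposite TopologicalSpace Polynomial

namespace Groth.Agent.Helper6.GammaStar

open ProjFrac GStar

variable {R A : Type u} [CommRing R] [CommRing A] [Algebra R A] (𝒜 : ℕ → Submodule R A) [GradedAlgebra 𝒜]
variable (F : (Proj 𝒜).Modules) {ι : Type u} (f : ι → 𝒜 1)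

/-- the section of `F` over `V` attached to the fraction `p/b`, computed in the chart `i`. -/
noncomputable def sF (i : ι) (n : ℕ) (b : A) (hb : b ∈ 𝒜 n) (p : GStar 𝒜 F f) (V : (Proj 𝒜).Opens)
    (hVi : V ≤ Proj.basicOpen 𝒜 (f i).1) (hVb : V ≤ Proj.basicOpen 𝒜 b) : Γ(F, V) :=
  ofr 𝒜 n ((f i).1 ^ n) b (pow_mem1 𝒜 (f i).2 n) hb V hVb •
    F.presheaf.map (homOfLE hVi).op (cf 𝒜 F f i n p)

theorem sF_indep (i j : ι) (n : ℕ) (b : A) (hb : b ∈ 𝒜 n) (p : GStar 𝒜 F f) (V : (Proj 𝒜).Opens)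
    (hVi : V ≤ Proj.basicOpen 𝒜 (f i).1) (hVj : V ≤ Proj.basicOpen 𝒜 (f j).1)
    (hVb : V ≤ Proj.basicOpen 𝒜 b) :
    sF 𝒜 F f i n b hb p V hVi hVb = sF 𝒜 F f j n b hb p V hVj hVb := by
  unfold sF
  rw [compat_on 𝒜 F f p i j n V hVi hVj, ← mul_smul]
  congr 1
  unfold tr
  rw [ofr_mul_ofr]
  exact ofr_eq_ofr 𝒜 _ _ _ _ _ _ _ (by ring)

theorem res_sF (i : ι) (n : ℕ) (b : A) (hb : b ∈ 𝒜 n) (p : GStar 𝒜 F f) {V V' : (Proj 𝒜).Opens}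
    (hVi : V ≤ Proj.basicOpen 𝒜 (f i).1) (hVb : V ≤ Proj.basicOpen 𝒜 b) (h : V' ≤ V) :
    F.presheaf.map (homOfLE h).op (sF 𝒜 F f i n b hb p V hVi hVb) =
      sF 𝒜 F f i n b hb p V' (h.trans hVi) (h.trans hVb) := by
  unfold sF
  rw [Scheme.Modules.map_smul, res_res, res_ofr]


theorem ofr_eq_one {k : ℕ} {a b : A} (ha : a ∈ 𝒜 k) (hb : b ∈ 𝒜 k) (V : (Proj 𝒜).Opens)
    (hV : V ≤ Proj.basicOpen 𝒜 b) (h : a = b) : ofr 𝒜 k a b ha hb V hV = 1 := by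
  subst h
  exact ofr_self 𝒜 hb V hV

theorem sF_congr {i : ι} {n n' : ℕ} {b b' : A} (hb : b ∈ 𝒜 n) (hb' : b' ∈ 𝒜 n') (p : GStar 𝒜 F f)
    (V : (Proj 𝒜).Opens) (hVi : V ≤ Proj.basicOpen 𝒜 (f i).1) (hVb : V ≤ Proj.basicOpen 𝒜 b)
    (hVb' : V ≤ Proj.basicOpen 𝒜 b') (hn : n = n') (hbb : b = b') :
    sF 𝒜 F f i n b hb p V hVi hVb = sF 𝒜 F f i n' b' hb' p V hVi hVb' := by
  subst hn
  subst hbb
  rfl

theorem sF_add (i : ι) (n : ℕ) (b : A) (hb : b ∈ 𝒜 n) (p p' : GStar 𝒜 F f) (V : (Proj 𝒜).Opens)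
    (hVi : V ≤ Proj.basicOpen 𝒜 (f i).1) (hVb : V ≤ Proj.basicOpen 𝒜 b) :
    sF 𝒜 F f i n b hb (p + p') V hVi hVb =
      sF 𝒜 F f i n b hb p V hVi hVb + sF 𝒜 F f i n b hb p' V hVi hVb := by
  unfold sF
  rw [map_add, map_add, smul_add]

/-- `(a/s) • (p/b) = (a • p)/(s * b)`. -/
theorem ofr_smul_sF (i : ι) {k n : ℕ} {a s b : A} (ha : a ∈ 𝒜 k) (hs : s ∈ 𝒜 k) (hb : b ∈ 𝒜 n)
    (p : GStar 𝒜 F f) (V : (Proj 𝒜).Opens)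
    (hVi : V ≤ Proj.basicOpen 𝒜 (f i).1) (hVs : V ≤ Proj.basicOpen 𝒜 s)
    (hVb : V ≤ Proj.basicOpen 𝒜 b) :
    ofr 𝒜 k a s ha hs V hVs • sF 𝒜 F f i n b hb p V hVi hVb =
      sF 𝒜 F f i (k + n) (s * b) (SetLike.mul_mem_graded hs hb) (a • p) V hVi
        (le_basicOpen_mul 𝒜 hVs hVb) := by
  unfold sF
  rw [smul_cf' 𝒜 F f ha, Scheme.Modules.map_smul, ← mul_smul, ← mul_smul]
  congr 1
  unfold rr q1
  rw [res_ofr, ofr_mul_ofr, ofr_mul_ofr]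
  exact ofr_eq_ofr 𝒜 _ _ _ _ _ _ _ (by ring)

/-- `(a • p)/(a * b) = p/b`. -/
theorem sF_smul (i : ι) {c n : ℕ} {a b : A} (ha : a ∈ 𝒜 c) (hb : b ∈ 𝒜 n)
    (p : GStar 𝒜 F f) (V : (Proj 𝒜).Opens)
    (hVi : V ≤ Proj.basicOpen 𝒜 (f i).1) (hVa : V ≤ Proj.basicOpen 𝒜 a)
    (hVb : V ≤ Proj.basicOpen 𝒜 b) :
    sF 𝒜 F f i (c + n) (a * b) (SetLike.mul_mem_graded ha hb) (a • p) V hVi
        (le_basicOpen_mul 𝒜 hVa hVb) = sF 𝒜 F f i n b hb p V hVi hVb := by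
  rw [← ofr_smul_sF 𝒜 F f i ha ha hb p V hVi hVa hVb, ofr_self, one_smul]

/-- the inverse relation: `b/f_i^n • (p/b) = p_i`. -/
theorem ofr_smul_sF_self (i : ι) (n : ℕ) (b : A) (hb : b ∈ 𝒜 n) (p : GStar 𝒜 F f)
    (V : (Proj 𝒜).Opens)
    (hVi : V ≤ Proj.basicOpen 𝒜 (f i).1) (hVb : V ≤ Proj.basicOpen 𝒜 b) :
    ofr 𝒜 n b ((f i).1 ^ n) hb (pow_mem1 𝒜 (f i).2 n) V (hVi.trans (le_basicOpen_pow 𝒜 n)) •
      sF 𝒜 F f i n b hb p V hVi hVb = F.presheaf.map (homOfLE hVi).op (cf 𝒜 F f i n p) := by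
  unfold sF
  rw [← mul_smul, ofr_mul_ofr, ofr_eq_one 𝒜 _ _ _ _ (mul_comm _ _), one_smul]

/-- restriction of the `i`-th component of `b' • p` in terms of the section `p/b`. -/
theorem res_cf_smul (i : ι) {n n' : ℕ} {b b' : A} (hb : b ∈ 𝒜 n) (hb' : b' ∈ 𝒜 n')
    (p : GStar 𝒜 F f) (V : (Proj 𝒜).Opens)
    (hVi : V ≤ Proj.basicOpen 𝒜 (f i).1) (hVb : V ≤ Proj.basicOpen 𝒜 b) :
    F.presheaf.map (homOfLE hVi).op (cf 𝒜 F f i (n' + n) (b' • p)) =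
      ofr 𝒜 (n' + n) (b' * b) ((f i).1 ^ (n' + n)) (SetLike.mul_mem_graded hb' hb)
        (pow_mem1 𝒜 (f i).2 _) V (hVi.trans (le_basicOpen_pow 𝒜 _)) •
        sF 𝒜 F f i n b hb p V hVi hVb := by
  rw [smul_cf' 𝒜 F f hb', Scheme.Modules.map_smul, ← ofr_smul_sF_self 𝒜 F f i n b hb p V hVi hVb,
    ← mul_smul]
  congr 1
  unfold rr q1
  rw [res_ofr, ofr_mul_ofr]
  exact ofr_eq_ofr 𝒜 _ _ _ _ _ _ _ (by ring)

/-- a local representation of a section `τ` of `F` near `x` as a fraction `p/b`. -/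
structure Rep (W : (Proj 𝒜).Opens) (τ : Γ(F, W)) (x : ProjectiveSpectrum 𝒜) where
  i : ι
  n : ℕ
  b : A
  p : GStar 𝒜 F f
  V : (Proj 𝒜).Opens
  hb : b ∈ 𝒜 n
  hp : p ∈ gr 𝒜 F f n
  hxV : (x : ↥(Proj 𝒜)) ∈ V
  hVW : V ≤ W
  hVi : V ≤ Proj.basicOpen 𝒜 (f i).1
  hVb : V ≤ Proj.basicOpen 𝒜 b
  eq : F.presheaf.map (homOfLE hVW).op τ = sF 𝒜 F f i n b hb p V hVi hVb

namespace Rep

variable {𝒜 F f}
variable {W : (Proj 𝒜).Opens} {τ τ' : Γ(F, W)} {x : ProjectiveSpectrum 𝒜}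

/-- the value of a representation in the localized module at `x`. -/
noncomputable def val (r : Rep 𝒜 F f W τ x) : GrTilde.LocMod 𝒜 (M := GStar 𝒜 F f) x :=
  LocalizedModule.mk r.p ⟨r.b, notMem_of_le 𝒜 r.hVb x r.hxV⟩

/-- the same representation at a nearby point. -/
def move (r : Rep 𝒜 F f W τ x) (y : ProjectiveSpectrum 𝒜) (hy : (y : ↥(Proj 𝒜)) ∈ r.V) :
    Rep 𝒜 F f W τ y :=
  { r with hxV := hy }

/-- shrink the open of a representation. -/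
def shrink (r : Rep 𝒜 F f W τ x) (V' : (Proj 𝒜).Opens) (h : V' ≤ r.V) (hx : (x : ↥(Proj 𝒜)) ∈ V') :
    Rep 𝒜 F f W τ x where
  i := r.i
  n := r.n
  b := r.b
  p := r.p
  V := V'
  hb := r.hb
  hp := r.hp
  hxV := hx
  hVW := h.trans r.hVW
  hVi := h.trans r.hVi
  hVb := h.trans r.hVb
  eq := by
    rw [← res_res 𝒜 F r.hVW h, r.eq, res_sF]

theorem shrink_val (r : Rep 𝒜 F f W τ x) (V' : (Proj 𝒜).Opens) (h : V' ≤ r.V)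
    (hx : (x : ↥(Proj 𝒜)) ∈ V') : (r.shrink V' h hx).val = r.val := rfl

/-- sum of representations. -/
noncomputable def add (r : Rep 𝒜 F f W τ x) (r' : Rep 𝒜 F f W τ' x) : Rep 𝒜 F f W (τ + τ') x where
  i := r.i
  n := r.n + r'.n
  b := r.b * r'.b
  p := r'.b • r.p + r.b • r'.p
  V := r.V ⊓ r'.V
  hb := SetLike.mul_mem_graded r.hb r'.hb
  hp := by
    refine add_mem ?_ (SetLike.GradedSMul.smul_mem r.hb r'.hp)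
    rw [add_comm]
    exact SetLike.GradedSMul.smul_mem r'.hb r.hp
  hxV := ⟨r.hxV, r'.hxV⟩
  hVW := inf_le_left.trans r.hVW
  hVi := inf_le_left.trans r.hVi
  hVb := le_basicOpen_mul 𝒜 (inf_le_left.trans r.hVb) (inf_le_right.trans r'.hVb)
  eq := by
    have hVi : r.V ⊓ r'.V ≤ Proj.basicOpen 𝒜 (f r.i).1 := inf_le_left.trans r.hVi
    have hVb : r.V ⊓ r'.V ≤ Proj.basicOpen 𝒜 r.b := inf_le_left.trans r.hVb
    have hVb' : r.V ⊓ r'.V ≤ Proj.basicOpen 𝒜 r'.b := inf_le_right.trans r'.hVb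
    have e1 : sF 𝒜 F f r.i (r.n + r'.n) (r.b * r'.b) (SetLike.mul_mem_graded r.hb r'.hb)
        (r'.b • r.p) (r.V ⊓ r'.V) hVi (le_basicOpen_mul 𝒜 hVb hVb') =
        sF 𝒜 F f r.i r.n r.b r.hb r.p (r.V ⊓ r'.V) hVi hVb := by
      rw [sF_congr 𝒜 F f (SetLike.mul_mem_graded r.hb r'.hb) (SetLike.mul_mem_graded r'.hb r.hb) _ _
        hVi _ (le_basicOpen_mul 𝒜 hVb' hVb) (add_comm _ _) (mul_comm _ _)]
      exact sF_smul 𝒜 F f r.i r'.hb r.hb r.p _ hVi hVb' hVb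
    have e2 : sF 𝒜 F f r.i (r.n + r'.n) (r.b * r'.b) (SetLike.mul_mem_graded r.hb r'.hb)
        (r.b • r'.p) (r.V ⊓ r'.V) hVi (le_basicOpen_mul 𝒜 hVb hVb') =
        sF 𝒜 F f r.i r'.n r'.b r'.hb r'.p (r.V ⊓ r'.V) hVi hVb' :=
      sF_smul 𝒜 F f r.i r.hb r'.hb r'.p _ hVi hVb hVb'
    rw [map_add, ← res_res 𝒜 F r.hVW inf_le_left, ← res_res 𝒜 F r'.hVW inf_le_right, r.eq, r'.eq,
      res_sF, res_sF, sF_add, e1, e2]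
    congr 1
    exact sF_indep 𝒜 F f _ _ _ _ _ _ _ _ _ _

theorem add_val (r : Rep 𝒜 F f W τ x) (r' : Rep 𝒜 F f W τ' x) :
    (r.add r').val = r.val + r'.val := by
  unfold val
  rw [LocalizedModule.mk_add_mk]
  rfl

/-- scalar multiple of a representation by a local fraction. -/
noncomputable def smul (r : Rep 𝒜 F f W τ x) (c : Γ(Proj 𝒜, W)) (V' : (Proj 𝒜).Opens) (hV'W : V' ≤ W)
    (hxV' : (x : ↥(Proj 𝒜)) ∈ V') (k : ℕ) (a s : A) (ha : a ∈ 𝒜 k) (hs : s ∈ 𝒜 k)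
    (hV's : V' ≤ Proj.basicOpen 𝒜 s)
    (hc : (Proj 𝒜).presheaf.map (homOfLE hV'W).op c = ofr 𝒜 k a s ha hs V' hV's) :
    Rep 𝒜 F f W (c • τ) x where
  i := r.i
  n := k + r.n
  b := s * r.b
  p := a • r.p
  V := V' ⊓ r.V
  hb := SetLike.mul_mem_graded hs r.hb
  hp := SetLike.GradedSMul.smul_mem ha r.hp
  hxV := ⟨hxV', r.hxV⟩
  hVW := inf_le_right.trans r.hVW
  hVi := inf_le_right.trans r.hVi
  hVb := le_basicOpen_mul 𝒜 (inf_le_left.trans hV's) (inf_le_right.trans r.hVb)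
  eq := by
    have hcV : (Proj 𝒜).presheaf.map (homOfLE (inf_le_right.trans r.hVW : V' ⊓ r.V ≤ W)).op c =
        ofr 𝒜 k a s ha hs (V' ⊓ r.V) (inf_le_left.trans hV's) := by
      have := congrArg ((Proj 𝒜).presheaf.map (homOfLE (inf_le_left : V' ⊓ r.V ≤ V')).op) hc
      rw [res_ofr] at this
      rw [← this, ← ConcreteCategory.comp_apply, ← (Proj 𝒜).presheaf.map_comp]
      rfl
    rw [Scheme.Modules.map_smul, hcV, ← res_res 𝒜 F r.hVW inf_le_right, r.eq, res_sF, ofr_smul_sF]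

theorem smul_val (r : Rep 𝒜 F f W τ x) (c : Γ(Proj 𝒜, W)) (V' : (Proj 𝒜).Opens) (hV'W : V' ≤ W)
    (hxV' : (x : ↥(Proj 𝒜)) ∈ V') (k : ℕ) (a s : A) (ha : a ∈ 𝒜 k) (hs : s ∈ 𝒜 k)
    (hV's : V' ≤ Proj.basicOpen 𝒜 s)
    (hc : (Proj 𝒜).presheaf.map (homOfLE hV'W).op c = ofr 𝒜 k a s ha hs V' hV's) :
    (r.smul c V' hV'W hxV' k a s ha hs hV's hc).val =
      (Localization.mk a ⟨s, notMem_of_le 𝒜 hV's x hxV'⟩ : Twist.Loc 𝒜 x) • r.val := by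
  unfold val
  rw [LocalizedModule.mk_smul_mk]
  rfl

/-- restriction of a representation. -/
def restrict (r : Rep 𝒜 F f W τ x) (W' : (Proj 𝒜).Opens) (hW' : W' ≤ W)
    (hx : (x : ↥(Proj 𝒜)) ∈ W') : Rep 𝒜 F f W' (F.presheaf.map (homOfLE hW').op τ) x where
  i := r.i
  n := r.n
  b := r.b
  p := r.p
  V := r.V ⊓ W'
  hb := r.hb
  hp := r.hp
  hxV := ⟨r.hxV, hx⟩
  hVW := inf_le_right
  hVi := inf_le_left.trans r.hVi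
  hVb := inf_le_left.trans r.hVb
  eq := by
    rw [res_res, ← res_res 𝒜 F r.hVW inf_le_left, r.eq, res_sF]

theorem restrict_val (r : Rep 𝒜 F f W τ x) (W' : (Proj 𝒜).Opens) (hW' : W' ≤ W)
    (hx : (x : ↥(Proj 𝒜)) ∈ W') : (r.restrict W' hW' hx).val = r.val := rfl

end Rep


section main

variable [F.IsQuasicoherent] [Finite ι]

theorem nonempty_rep (hcov : ∀ x : ProjectiveSpectrum 𝒜, ∃ i, (f i).1 ∉ x.asHomogeneousIdeal)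
    (W : (Proj 𝒜).Opens) (τ : Γ(F, W)) (x : ProjectiveSpectrum 𝒜) (hx : (x : ↥(Proj 𝒜)) ∈ W) :
    Nonempty (Rep 𝒜 F f W τ x) := by
  obtain ⟨i, hi⟩ := hcov x
  have hxi : (x : ↥(Proj 𝒜)) ∈ Proj.basicOpen 𝒜 (f i).1 :=
    (ProjectiveSpectrum.mem_basicOpen 𝒜 _ x).2 hi
  have hxWi : (x : ↥(Proj 𝒜)) ∈ W ⊓ Proj.basicOpen 𝒜 (f i).1 := ⟨hx, hxi⟩
  obtain ⟨d, g, hg, hgx, hgV⟩ := exists_homogeneous_basicOpen 𝒜 x _ hxWi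
  have hxg : (x : ↥(Proj 𝒜)) ∈ Proj.basicOpen 𝒜 g := (ProjectiveSpectrum.mem_basicOpen 𝒜 _ x).2 hgx
  have hVi : Proj.basicOpen 𝒜 (f i).1 ⊓ Proj.basicOpen 𝒜 g ≤ Proj.basicOpen 𝒜 (f i).1 := inf_le_left
  have hVg : Proj.basicOpen 𝒜 (f i).1 ⊓ Proj.basicOpen 𝒜 g ≤ Proj.basicOpen 𝒜 g := inf_le_right
  have hVW : Proj.basicOpen 𝒜 (f i).1 ⊓ Proj.basicOpen 𝒜 g ≤ W := hVg.trans (hgV.trans inf_le_left)
  obtain ⟨e, t, het⟩ := d1 𝒜 F f i d g hg _ hVi rfl (F.presheaf.map (homOfLE hVW).op τ)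
  obtain ⟨N₀, hN₀⟩ := exists_extension 𝒜 F f i t
  obtain ⟨p, hp, hpt⟩ := hN₀ (e • d + N₀) (Nat.le_add_left _ _)
  have hb : g ^ e * (f i).1 ^ N₀ ∈ 𝒜 (e • d + N₀) :=
    SetLike.mul_mem_graded (SetLike.pow_mem_graded e hg) (pow_mem1 𝒜 (f i).2 N₀)
  have hVb : Proj.basicOpen 𝒜 (f i).1 ⊓ Proj.basicOpen 𝒜 g ≤
      Proj.basicOpen 𝒜 (g ^ e * (f i).1 ^ N₀) :=
    le_basicOpen_mul 𝒜 (hVg.trans (le_basicOpen_pow 𝒜 e)) (hVi.trans (le_basicOpen_pow 𝒜 N₀))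
  refine ⟨⟨i, e • d + N₀, _, p, Proj.basicOpen 𝒜 (f i).1 ⊓ Proj.basicOpen 𝒜 g, hb, hp, ⟨hxi, hxg⟩,
    hVW, hVi, hVb, ?_⟩⟩
  unfold sF
  rw [hpt, ← het, ← mul_smul]
  have : ofr 𝒜 (e • d + N₀) ((f i).1 ^ (e • d + N₀)) (g ^ e * (f i).1 ^ N₀)
      (pow_mem1 𝒜 (f i).2 _) hb _ hVb *
      ((Proj 𝒜).presheaf.map (homOfLE hVi).op (rr 𝒜 f i d g hg)) ^ e = 1 := by
    unfold rr q1
    rw [res_ofr, ofr_pow, ofr_mul_ofr]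
    refine ofr_eq_one 𝒜 _ _ _ _ ?_
    rw [smul_eq_mul, pow_add, pow_mul]
    ring
  rw [this, one_smul]

namespace Rep

variable {𝒜 F f}
variable {W : (Proj 𝒜).Opens} {τ : Γ(F, W)} {x : ProjectiveSpectrum 𝒜}

theorem val_eq (r r' : Rep 𝒜 F f W τ x) : r.val = r'.val := by
  have hxV : (x : ↥(Proj 𝒜)) ∈ r.V ⊓ r'.V := ⟨r.hxV, r'.hxV⟩
  have hVi : r.V ⊓ r'.V ≤ Proj.basicOpen 𝒜 (f r.i).1 := inf_le_left.trans r.hVi
  have hVW : r.V ⊓ r'.V ≤ W := inf_le_left.trans r.hVW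
  have h1 : F.presheaf.map (homOfLE hVW).op τ =
      sF 𝒜 F f r.i r.n r.b r.hb r.p (r.V ⊓ r'.V) hVi (inf_le_left.trans r.hVb) := by
    rw [← res_res 𝒜 F r.hVW inf_le_left, r.eq, res_sF]
  have h2 : F.presheaf.map (homOfLE hVW).op τ =
      sF 𝒜 F f r.i r'.n r'.b r'.hb r'.p (r.V ⊓ r'.V) hVi (inf_le_right.trans r'.hVb) := by
    rw [← res_res 𝒜 F r'.hVW inf_le_right, r'.eq, res_sF]
    exact sF_indep 𝒜 F f _ _ _ _ _ _ _ _ _ _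
  have hp'' : r'.b • r.p - r.b • r'.p ∈ gr 𝒜 F f (r'.n + r.n) := by
    refine sub_mem (SetLike.GradedSMul.smul_mem r'.hb r.hp) ?_
    rw [add_comm]
    exact SetLike.GradedSMul.smul_mem r.hb r'.hp
  have h0 : F.presheaf.map (homOfLE hVi).op
      (cf 𝒜 F f r.i (r'.n + r.n) (r'.b • r.p - r.b • r'.p)) = 0 := by
    have hc : cf 𝒜 F f r.i (r'.n + r.n) (r.b • r'.p) = cf 𝒜 F f r.i (r.n + r'.n) (r.b • r'.p) := by
      rw [add_comm]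
    rw [map_sub, map_sub, res_cf_smul 𝒜 F f r.i r.hb r'.hb r.p _ hVi (inf_le_left.trans r.hVb),
      ← h1, hc,
      res_cf_smul 𝒜 F f r.i r'.hb r.hb r'.p _ hVi (inf_le_right.trans r'.hVb), ← h2, sub_eq_zero]
    congr 1
    exact ofr_eq_ofr 𝒜 _ _ _ _ _ _ _ (by ring)
  obtain ⟨c, u, hu, hux, hup⟩ := exists_smul_eq_zero 𝒜 F f hp'' r.i x _ hxV hVi h0
  unfold val
  rw [LocalizedModule.mk_eq]
  refine ⟨⟨u, hux⟩, ?_⟩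
  rw [smul_sub, sub_eq_zero] at hup
  exact hup

end Rep


namespace Rep

variable {𝒜 F f}
variable {W : (Proj 𝒜).Opens} {τ τ' : Γ(F, W)} {x : ProjectiveSpectrum 𝒜}

/-- the value as an element of the degree-zero part. -/
noncomputable def valAt (r : Rep 𝒜 F f W τ x) : GrTilde.tildeAt 𝒜 (gr 𝒜 F f) 0 x :=
  ⟨r.val, Submodule.subset_span ⟨r.n, r.n, ⟨r.p, r.hp⟩, ⟨r.b, r.hb⟩,
    notMem_of_le 𝒜 r.hVb x r.hxV, by simp, rfl⟩⟩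

theorem valAt_eq (r r' : Rep 𝒜 F f W τ x) : r.valAt = r'.valAt := Subtype.ext (val_eq r r')

end Rep

variable (hcov : ∀ x : ProjectiveSpectrum 𝒜, ∃ i, (f i).1 ∉ x.asHomogeneousIdeal)

/-- the pointwise values of the comparison map. -/
noncomputable def Θfun (W : (Proj 𝒜).Opens) (τ : Γ(F, W)) :
    ∀ x : W, GrTilde.tildeAt 𝒜 (gr 𝒜 F f) 0 x.1 :=
  fun x => (Classical.choice (nonempty_rep 𝒜 F f hcov W τ x.1 x.2)).valAt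

theorem Θfun_eq (W : (Proj 𝒜).Opens) (τ : Γ(F, W)) (x : ProjectiveSpectrum 𝒜)
    (hx : (x : ↥(Proj 𝒜)) ∈ W) (r : Rep 𝒜 F f W τ x) :
    Θfun 𝒜 F f hcov W τ ⟨x, hx⟩ = r.valAt := Rep.valAt_eq _ _

/-- the comparison map on sections. -/
noncomputable def Θsec (W : (Proj 𝒜).Opens) (τ : Γ(F, W)) : GrTilde.sect 𝒜 (gr 𝒜 F f) 0 (op W) :=
  ⟨Θfun 𝒜 F f hcov W τ, fun x => by
    obtain ⟨r⟩ := nonempty_rep 𝒜 F f hcov W τ x.1 x.2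
    refine ⟨r.V, r.hxV, homOfLE r.hVW, r.n, r.n, ⟨r.p, r.hp⟩, ⟨r.b, r.hb⟩,
      fun y => notMem_of_le 𝒜 r.hVb y.1 y.2, Or.inl (by simp), fun y => ?_⟩
    exact congrArg Subtype.val (Θfun_eq 𝒜 F f hcov W τ y.1 (r.hVW y.2) (r.move y.1 y.2))⟩

theorem Θsec_val (W : (Proj 𝒜).Opens) (τ : Γ(F, W)) (x : ProjectiveSpectrum 𝒜)
    (hx : (x : ↥(Proj 𝒜)) ∈ W) (r : Rep 𝒜 F f W τ x) :
    (((Θsec 𝒜 F f hcov W τ).1 ⟨x, hx⟩).1 : GrTilde.LocMod 𝒜 (M := GStar 𝒜 F f) x) = r.val :=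
  congrArg Subtype.val (Θfun_eq 𝒜 F f hcov W τ x hx r)


omit [F.IsQuasicoherent] [Finite ι] in
include 𝒜 in
theorem exists_local_ofr (W : (Proj 𝒜).Opens) (c : Γ(Proj 𝒜, W)) (x : ProjectiveSpectrum 𝒜)
    (hx : (x : ↥(Proj 𝒜)) ∈ W) :
    ∃ (V' : (Proj 𝒜).Opens) (hV'W : V' ≤ W) (_ : (x : ↥(Proj 𝒜)) ∈ V') (k : ℕ) (a s : A)
      (ha : a ∈ 𝒜 k) (hs : s ∈ 𝒜 k) (hV's : V' ≤ Proj.basicOpen 𝒜 s),
      (Proj 𝒜).presheaf.map (homOfLE hV'W).op c = ofr 𝒜 k a s ha hs V' hV's := by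
  obtain ⟨V', hxV', i, k, ⟨a, ha⟩, ⟨s, hs⟩, nin, w⟩ :=
    (c : (ProjectiveSpectrum.Proj.structureSheaf 𝒜).1.obj (op W)).2 ⟨x, hx⟩
  have hV's : V' ≤ Proj.basicOpen 𝒜 s := fun y hy =>
    (ProjectiveSpectrum.mem_basicOpen 𝒜 s y).2 (nin ⟨y, hy⟩)
  refine ⟨V', i.le, hxV', k, a, s, ha, hs, hV's, ?_⟩
  apply ext_val
  intro y hy
  rw [ofr_val]
  have := w ⟨y, hy⟩
  exact congrArg HomogeneousLocalization.val this

theorem Θsec_add (W : (Proj 𝒜).Opens) (τ τ' : Γ(F, W)) :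
    Θsec 𝒜 F f hcov W (τ + τ') = Θsec 𝒜 F f hcov W τ + Θsec 𝒜 F f hcov W τ' := by
  apply Subtype.ext
  funext x
  apply Subtype.ext
  obtain ⟨r⟩ := nonempty_rep 𝒜 F f hcov W τ x.1 x.2
  obtain ⟨r'⟩ := nonempty_rep 𝒜 F f hcov W τ' x.1 x.2
  change (((Θsec 𝒜 F f hcov W (τ + τ')).1 ⟨x.1, x.2⟩).1 : GrTilde.LocMod 𝒜 (M := GStar 𝒜 F f) x.1) =
    (((Θsec 𝒜 F f hcov W τ).1 ⟨x.1, x.2⟩).1 : GrTilde.LocMod 𝒜 (M := GStar 𝒜 F f) x.1) +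
    (((Θsec 𝒜 F f hcov W τ').1 ⟨x.1, x.2⟩).1 : GrTilde.LocMod 𝒜 (M := GStar 𝒜 F f) x.1)
  rw [Θsec_val 𝒜 F f hcov W _ x.1 x.2 (r.add r'), Θsec_val 𝒜 F f hcov W _ x.1 x.2 r,
    Θsec_val 𝒜 F f hcov W _ x.1 x.2 r', Rep.add_val]

theorem Θsec_smul (W : (Proj 𝒜).Opens) (c : Γ(Proj 𝒜, W)) (τ : Γ(F, W)) :
    Θsec 𝒜 F f hcov W (c • τ) =
      (show Twist.O (𝒜 := 𝒜) (op W) from c) • Θsec 𝒜 F f hcov W τ := by
  apply Subtype.ext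
  funext x
  apply Subtype.ext
  obtain ⟨r⟩ := nonempty_rep 𝒜 F f hcov W τ x.1 x.2
  obtain ⟨V', hV'W, hxV', k, a, s, ha, hs, hV's, hc⟩ := exists_local_ofr 𝒜 W c x.1 x.2
  change (((Θsec 𝒜 F f hcov W (c • τ)).1 ⟨x.1, x.2⟩).1 : GrTilde.LocMod 𝒜 (M := GStar 𝒜 F f) x.1) =
    (((c.1 ⟨x.1, x.2⟩ • (Θsec 𝒜 F f hcov W τ).1 ⟨x.1, x.2⟩ :
      GrTilde.tildeAt 𝒜 (gr 𝒜 F f) 0 x.1)) : GrTilde.LocMod 𝒜 (M := GStar 𝒜 F f) x.1)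
  rw [GrTilde.coe_smul_val, Θsec_val 𝒜 F f hcov W _ x.1 x.2 (r.smul c V' hV'W hxV' k a s ha hs hV's hc),
    Θsec_val 𝒜 F f hcov W _ x.1 x.2 r, Rep.smul_val]
  congr 1
  have := congrArg (fun q : Γ(Proj 𝒜, V') => ((q.1 ⟨x.1, hxV'⟩ : Twist.A0 𝒜 x.1)).val) hc
  exact this.symm

theorem Θsec_res (W W' : (Proj 𝒜).Opens) (hW' : W' ≤ W) (τ : Γ(F, W)) :
    Θsec 𝒜 F f hcov W' (F.presheaf.map (homOfLE hW').op τ) =
      GrTilde.res 𝒜 (gr 𝒜 F f) 0 (homOfLE hW').op (Θsec 𝒜 F f hcov W τ) := by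
  apply Subtype.ext
  funext x
  apply Subtype.ext
  obtain ⟨r⟩ := nonempty_rep 𝒜 F f hcov W τ x.1 (hW' x.2)
  change (((Θsec 𝒜 F f hcov W' _).1 ⟨x.1, x.2⟩).1 : GrTilde.LocMod 𝒜 (M := GStar 𝒜 F f) x.1) =
    (((Θsec 𝒜 F f hcov W τ).1 ⟨x.1, hW' x.2⟩).1 : GrTilde.LocMod 𝒜 (M := GStar 𝒜 F f) x.1)
  rw [Θsec_val 𝒜 F f hcov W' _ x.1 x.2 (r.restrict W' hW' x.2),
    Θsec_val 𝒜 F f hcov W _ x.1 (hW' x.2) r, Rep.restrict_val]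

/-- the comparison morphism `F ⟶ Γ_*(F)~`. -/
noncomputable def Θ : F ⟶ GrTilde.tilde 𝒜 (gr 𝒜 F f) 0 :=
  (⟨PresheafOfModules.homMk (M₁ := F.val) (M₂ := GrTilde.tildePMod 𝒜 (gr 𝒜 F f) 0)
    { app := fun U => AddCommGrpCat.ofHom
        { toFun := fun τ => Θsec 𝒜 F f hcov U.unop τ
          map_zero' := by
            have := Θsec_add 𝒜 F f hcov U.unop 0 0
            rw [add_zero] at this
            exact left_eq_add.mp this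
          map_add' := Θsec_add 𝒜 F f hcov U.unop }
      naturality := fun U V i => by
        ext τ
        exact Θsec_res 𝒜 F f hcov U.unop V.unop i.unop.le τ }
    (fun U c τ => Θsec_smul 𝒜 F f hcov U.unop c τ)⟩ : SheafOfModules.Hom _ _)

theorem Θ_app (W : (Proj 𝒜).Opens) (τ : Γ(F, W)) :
    ((Θ 𝒜 F f hcov).val.app (op W) τ : GrTilde.sect 𝒜 (gr 𝒜 F f) 0 (op W)) =
      Θsec 𝒜 F f hcov W τ := rfl


omit [F.IsQuasicoherent] in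
theorem exists_homogeneous_smul_eq_zero {n : ℕ} {p : GStar 𝒜 F f} (hp : p ∈ gr 𝒜 F f n)
    (x : ProjectiveSpectrum 𝒜) (u : A) (hux : u ∉ x.asHomogeneousIdeal) (hup : u • p = 0) :
    ∃ (c : ℕ) (u' : A), u' ∈ 𝒜 c ∧ u' ∉ x.asHomogeneousIdeal ∧ u' • p = 0 := by
  classical
  have hI := GrTildeLib.ann_isHomogeneous 𝒜 (gr 𝒜 F f) hp
  have hmem : u ∈ GrTildeLib.ann (A := A) p := GrTildeLib.mem_ann.2 hup
  by_contra hcon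
  push Not at hcon
  apply hux
  change u ∈ x.asHomogeneousIdeal.toIdeal
  rw [← DirectSum.sum_support_decompose 𝒜 u]
  refine Ideal.sum_mem _ fun c _ => ?_
  by_contra hc
  exact hcon c _ (decompose 𝒜 u c).2 hc (GrTildeLib.mem_ann.1 (hI c hmem))

theorem Θsec_eq_zero (W : (Proj 𝒜).Opens) (τ : Γ(F, W)) (h : Θsec 𝒜 F f hcov W τ = 0) : τ = 0 := by
  have hloc : ∀ x : W, ∃ (V : (Proj 𝒜).Opens) (_ : x.1 ∈ V) (hVW : V ≤ W),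
      F.presheaf.map (homOfLE hVW).op τ = 0 := by
    intro x
    obtain ⟨r⟩ := nonempty_rep 𝒜 F f hcov W τ x.1 x.2
    have hv : r.val = 0 := by
      rw [← Θsec_val 𝒜 F f hcov W τ x.1 x.2 r, h]
      rfl
    unfold Rep.val at hv
    rw [← LocalizedModule.zero_mk (1 : (x.1 : ProjectiveSpectrum 𝒜).asHomogeneousIdeal.toIdeal.primeCompl),
      LocalizedModule.mk_eq] at hv
    obtain ⟨u, hu⟩ := hv
    rw [one_smul, smul_zero, smul_zero] at hu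
    obtain ⟨c, u', hu', hu'x, hu'p⟩ :=
      exists_homogeneous_smul_eq_zero 𝒜 F f r.hp x.1 u.1 u.2 hu
    have hxu' : (x.1 : ↥(Proj 𝒜)) ∈ Proj.basicOpen 𝒜 u' :=
      (ProjectiveSpectrum.mem_basicOpen 𝒜 _ _).2 hu'x
    refine ⟨r.V ⊓ Proj.basicOpen 𝒜 u', ⟨r.hxV, hxu'⟩, inf_le_left.trans r.hVW, ?_⟩
    have hVi : r.V ⊓ Proj.basicOpen 𝒜 u' ≤ Proj.basicOpen 𝒜 (f r.i).1 := inf_le_left.trans r.hVi
    rw [← res_res 𝒜 F r.hVW inf_le_left, r.eq, res_sF]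
    unfold sF
    have h0 : F.presheaf.map (homOfLE hVi).op (cf 𝒜 F f r.i (c + r.n) (u' • r.p)) = 0 := by
      rw [hu'p, map_zero, map_zero]
    rw [smul_cf' 𝒜 F f hu', Scheme.Modules.map_smul] at h0
    unfold rr q1 at h0
    rw [res_ofr] at h0
    have hunit := isUnit_ofr 𝒜 hu' (pow_mem1 𝒜 (f r.i).2 c) (r.V ⊓ Proj.basicOpen 𝒜 u')
      (hVi.trans (le_basicOpen_pow 𝒜 c)) inf_le_right
    rw [(hunit.smul_eq_zero).1 h0, smul_zero]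
  choose V hxV hVW hV0 using hloc
  refine TopCat.Sheaf.eq_of_locally_eq' ⟨_, F.isSheaf⟩ V W (fun x => homOfLE (hVW x))
    (fun y hy => Opens.mem_iSup.2 ⟨⟨y, hy⟩, hxV ⟨y, hy⟩⟩) τ 0 (fun x => ?_)
  rw [map_zero]
  exact hV0 x

theorem Θ_injective (W : (Proj 𝒜).Opens) :
    Function.Injective ((Θ 𝒜 F f hcov).val.app (op W)).hom := by
  rw [injective_iff_map_eq_zero]
  intro τ h
  exact Θsec_eq_zero 𝒜 F f hcov W τ h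

theorem Θsec_surjective (i : ι) (d : ℕ) (g : A) (hg : g ∈ 𝒜 d) :
    Function.Surjective (Θsec 𝒜 F f hcov (Proj.basicOpen 𝒜 ((f i).1 * g))) := by
  intro σ
  have hh : (f i).1 * g ∈ 𝒜 (1 + d) := SetLike.mul_mem_graded (f i).2 hg
  obtain ⟨L, q, m, hm, hq, hval⟩ := QcohProj.exists_global_frac' 𝒜 (gr 𝒜 F f) 0
    (by omega : 0 < 1 + d) hh (Proj.basicOpen 𝒜 ((f i).1 * g))
    (fun x => ProjectiveSpectrum.mem_basicOpen 𝒜 _ x) σ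
  have hq' : q = L • (1 + d) := by
    rw [smul_eq_mul]
    have : (q : ℤ) = ((L * (1 + d) : ℕ) : ℤ) := by
      rw [hq]
      push_cast
      ring
    exact_mod_cast this
  have hb : ((f i).1 * g) ^ L ∈ 𝒜 q := by
    rw [hq']
    exact SetLike.pow_mem_graded L hh
  have hWi : Proj.basicOpen 𝒜 ((f i).1 * g) ≤ Proj.basicOpen 𝒜 (f i).1 := by
    rw [Proj.basicOpen_mul]
    exact inf_le_left
  have hWb : Proj.basicOpen 𝒜 ((f i).1 * g) ≤ Proj.basicOpen 𝒜 (((f i).1 * g) ^ L) :=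
    le_basicOpen_pow 𝒜 L
  refine ⟨sF 𝒜 F f i q _ hb m _ hWi hWb, ?_⟩
  apply Subtype.ext
  funext y
  apply Subtype.ext
  let r : Rep 𝒜 F f (Proj.basicOpen 𝒜 ((f i).1 * g)) (sF 𝒜 F f i q _ hb m _ hWi hWb) y.1 :=
    ⟨i, q, _, m, Proj.basicOpen 𝒜 ((f i).1 * g), hb, hm, y.2, le_rfl, hWi, hWb,
      by
        have : homOfLE (le_rfl : Proj.basicOpen 𝒜 ((f i).1 * g) ≤ _) = 𝟙 _ := rfl
        rw [this, op_id, F.presheaf.map_id]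
        rfl⟩
  have := Θsec_val 𝒜 F f hcov _ _ y.1 y.2 r
  refine this.trans ?_
  exact (hval y.1 y.2).symm


/-- the basis of opens `D₊(f_i g)`, `g` homogeneous. -/
def Bas (idx : ι × (Σ d, 𝒜 d)) : (Proj 𝒜).Opens :=
  Proj.basicOpen 𝒜 ((f idx.1).1 * (idx.2.2 : A))

omit [F.IsQuasicoherent] [Finite ι] in
include hcov in
theorem isBasis_Bas : Opens.IsBasis (Set.range (Bas 𝒜 f)) := by
  rw [Opens.isBasis_iff_nbhd]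
  intro U x hx
  obtain ⟨i, hi⟩ := hcov x
  have hxi : (x : ↥(Proj 𝒜)) ∈ Proj.basicOpen 𝒜 (f i).1 :=
    (ProjectiveSpectrum.mem_basicOpen 𝒜 _ x).2 hi
  obtain ⟨d, g, hg, hgx, hgV⟩ := exists_homogeneous_basicOpen 𝒜 x (U ⊓ Proj.basicOpen 𝒜 (f i).1)
    ⟨hx, hxi⟩
  have hxg : (x : ↥(Proj 𝒜)) ∈ Proj.basicOpen 𝒜 g := (ProjectiveSpectrum.mem_basicOpen 𝒜 _ x).2 hgx
  refine ⟨_, ⟨(i, ⟨d, ⟨g, hg⟩⟩), rfl⟩, ?_, ?_⟩
  · change (x : ↥(Proj 𝒜)) ∈ Proj.basicOpen 𝒜 ((f i).1 * g)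
    rw [Proj.basicOpen_mul]
    exact ⟨hxi, hxg⟩
  · change Proj.basicOpen 𝒜 ((f i).1 * g) ≤ U
    rw [Proj.basicOpen_mul]
    exact inf_le_right.trans (hgV.trans inf_le_left)

theorem isIso_Θ : IsIso (Θ 𝒜 F f hcov) := by
  rw [← isIso_iff_of_reflects_iso _ (Scheme.Modules.toPresheaf (Proj 𝒜))]
  let ψ : (⟨F.presheaf, F.isSheaf⟩ : TopCat.Sheaf Ab (Proj 𝒜)) ⟶
      ⟨(GrTilde.tilde 𝒜 (gr 𝒜 F f) 0).presheaf, Scheme.Modules.isSheaf _⟩ :=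
    ⟨(Scheme.Modules.toPresheaf _).map (Θ 𝒜 F f hcov)⟩
  have hψ : IsIso ψ := by
    refine TopCat.Sheaf.isIso_iff_isIso_basis (B := Bas 𝒜 f) (isBasis_Bas 𝒜 f hcov) (fun idx => ?_)
    rw [ConcreteCategory.isIso_iff_bijective]
    exact ⟨Θ_injective 𝒜 F f hcov _, Θsec_surjective 𝒜 F f hcov idx.1 idx.2.1 idx.2.2.1 idx.2.2.2⟩
  exact @Functor.map_isIso _ _ _ _ _ _ (TopCat.Sheaf.forget Ab _) ψ hψ

end main

end Groth.Agent.Helper6.GammaStar
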