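import Groth.Agent.Lib.Helper6.GrTildeLib4

set_option autoImplicit false
universe u
open DirectSum CategoryTheory CategoryTheory.Limits AlgebraicGeometry Opposite TopologicalSpace

namespace Groth.Agent.Helper6.GrTildeLib

variable {R A : Type u} [CommRing R] [CommRing A] [Algebra R A] (𝒜 : ℕ → Submodule R A) [GradedAlgebra 𝒜]
variable {M : Type u} [AddCommGroup M] [Module R M] [Module A M] (ℳ : ℕ → Submodule R M)
  [DirectSum.Decomposition ℳ] [SetLike.GradedSMul 𝒜 ℳ]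

omit [GradedAlgebra 𝒜] in
/-- `(a • m)_{j+i} = a • m_i` for `a` homogeneous of degree `j`. -/
theorem proj_smul_left {j : ℕ} {a : A} (ha : a ∈ 𝒜 j) (m : M) (i : ℕ) :
    ((decompose ℳ (a • m) (j + i) : ℳ (j + i)) : M) = a • (decompose ℳ m i : M) := by
  classical
  conv_lhs => rw [← DirectSum.sum_support_decompose ℳ m, Finset.smul_sum, DirectSum.decompose_sum]
  rw [DFinsupp.finsetSum_apply, AddSubmonoidClass.coe_finsetSum]
  have key : ∀ i' ∈ DFinsupp.support (decompose ℳ m),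
      ((decompose ℳ (a • (decompose ℳ m i' : M)) (j + i) : ℳ (j + i)) : M) =
        if i' = i then a • (decompose ℳ m i : M) else 0 := by
    intro i' _
    have hmem : a • (decompose ℳ m i' : M) ∈ ℳ (j + i') :=
      SetLike.GradedSMul.smul_mem ha (decompose ℳ m i').2
    split_ifs with hi
    · subst hi
      exact DirectSum.decompose_of_mem_same ℳ hmem
    · exact DirectSum.decompose_of_mem_ne ℳ hmem (fun e => hi (by omega))
  rw [Finset.sum_congr rfl key, Finset.sum_ite_eq']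
  split_ifs with hi
  · rfl
  · rw [DFinsupp.notMem_support_iff] at hi
    rw [hi]; simp

omit [DirectSum.Decomposition ℳ] in
/-- value of a section over `D₊(f)` at a point. -/
def valAt (n : ℤ) {f : A} (s : GrTilde.sect 𝒜 ℳ n (op (ProjectiveSpectrum.basicOpen 𝒜 f)))
    (y : ProjectiveSpectrum 𝒜) (hy : f ∉ y.asHomogeneousIdeal) : GrTilde.LocMod 𝒜 (M := M) y :=
  (s.1 ⟨y, (ProjectiveSpectrum.mem_basicOpen 𝒜 f y).2 hy⟩).1

omit [DirectSum.Decomposition ℳ] in
theorem exists_local_frac (n : ℤ) {d : ℕ} (hd : 0 < d) {f : A} (hf : f ∈ 𝒜 d)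
    (s : GrTilde.sect 𝒜 ℳ n (op (ProjectiveSpectrum.basicOpen 𝒜 f)))
    (x : ProjectiveSpectrum 𝒜) (hx : f ∉ x.asHomogeneousIdeal) :
    ∃ (e i : ℕ) (h : A) (m : M), 0 < e ∧ h ∈ 𝒜 e ∧ m ∈ ℳ i ∧ (i : ℤ) = e + n ∧
      h ∉ x.asHomogeneousIdeal ∧
      (∀ y : ProjectiveSpectrum 𝒜, h ∉ y.asHomogeneousIdeal → f ∉ y.asHomogeneousIdeal) ∧
      ∀ (y : ProjectiveSpectrum 𝒜) (hy : f ∉ y.asHomogeneousIdeal)
        (hh : h ∉ y.asHomogeneousIdeal),
        valAt 𝒜 ℳ n s y hy = LocalizedModule.mk m ⟨h, hh⟩ := by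
  classical
  obtain ⟨V, hxV, iV, i, j, ⟨m, hm⟩, ⟨t, ht⟩, nin, hor, w⟩ :=
    s.2 ⟨x, (ProjectiveSpectrum.mem_basicOpen 𝒜 f x).2 hx⟩
  obtain ⟨_, ⟨a, rfl⟩, hxa, hsub⟩ :=
    (ProjectiveSpectrum.isTopologicalBasis_basic_opens 𝒜).exists_subset_of_mem_open hxV V.2
  obtain ⟨e', hae'⟩ : ∃ e', (decompose 𝒜 a e' : A) ∉ x.asHomogeneousIdeal := by
    by_contra hcon
    push Not at hcon
    apply (ProjectiveSpectrum.mem_basicOpen 𝒜 a x).1 hxa
    change a ∈ x.asHomogeneousIdeal.toIdeal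
    rw [← DirectSum.sum_support_decompose 𝒜 a]
    exact Ideal.sum_mem _ (fun e _ => hcon e)
  have hgdeg : (decompose 𝒜 a e' : A) * f ∈ 𝒜 (e' + d) :=
    SetLike.mul_mem_graded (decompose 𝒜 a e').2 hf
  have hgV : ∀ y : ProjectiveSpectrum 𝒜,
      (decompose 𝒜 a e' : A) * f ∉ y.asHomogeneousIdeal → y ∈ V := by
    intro y hy
    apply hsub
    rw [SetLike.mem_coe, ProjectiveSpectrum.mem_basicOpen]
    intro hay
    exact hy (Ideal.mul_mem_right _ _ (y.asHomogeneousIdeal.isHomogeneous e' hay))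
  have hgx : (decompose 𝒜 a e' : A) * f ∉ x.asHomogeneousIdeal := fun hmem =>
    (x.isPrime.mem_or_mem hmem).elim hae' hx
  rcases hor with hij | hm0
  · refine ⟨e' + d + j, e' + d + i, (decompose 𝒜 a e' : A) * f * t,
      ((decompose 𝒜 a e' : A) * f) • m, by omega, SetLike.mul_mem_graded hgdeg ht,
      SetLike.GradedSMul.smul_mem hgdeg hm, by push_cast; omega, ?_, ?_, ?_⟩
    · intro hmem
      exact (x.isPrime.mem_or_mem hmem).elim hgx (nin ⟨x, hxV⟩)
    · intro y hy hfy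
      exact hy (Ideal.mul_mem_right _ _ (Ideal.mul_mem_left _ _ hfy))
    · intro y hy hh
      have hgy : (decompose 𝒜 a e' : A) * f ∉ y.asHomogeneousIdeal :=
        fun h1 => hh (Ideal.mul_mem_right _ _ h1)
      have e1 := w ⟨y, hgV y hgy⟩
      refine Eq.trans e1 ?_
      rw [LocalizedModule.mk_eq]
      refine ⟨1, ?_⟩
      rw [one_smul, one_smul]
      change ((decompose 𝒜 a e' : A) * f * t) • m = t • (((decompose 𝒜 a e' : A) * f) • m)
      rw [mul_smul, smul_comm]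
  · have hK : (0 : ℤ) ≤ ((e' + d + n.natAbs * d : ℕ) : ℤ) + n := by
      have h1 := Nat.le_mul_of_pos_right n.natAbs hd
      generalize n.natAbs * d = k at h1 ⊢
      omega
    refine ⟨e' + d + n.natAbs * d, (((e' + d + n.natAbs * d : ℕ) : ℤ) + n).toNat,
      (decompose 𝒜 a e' : A) * f * f ^ n.natAbs, 0, by omega, ?_, zero_mem _,
      Int.toNat_of_nonneg hK, ?_, ?_, ?_⟩
    · have := SetLike.pow_mem_graded n.natAbs hf
      exact SetLike.mul_mem_graded hgdeg (by simpa using this)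
    · intro hmem
      exact (x.isPrime.mem_or_mem hmem).elim hgx (fun h1 => hx (x.isPrime.mem_of_pow_mem _ h1))
    · intro y hy hfy
      exact hy (Ideal.mul_mem_right _ _ (Ideal.mul_mem_left _ _ hfy))
    · intro y hy hh
      have hgy : (decompose 𝒜 a e' : A) * f ∉ y.asHomogeneousIdeal :=
        fun h1 => hh (Ideal.mul_mem_right _ _ h1)
      have e1 := w ⟨y, hgV y hgy⟩
      refine Eq.trans e1 ?_
      change LocalizedModule.mk m _ = _
      rw [show m = 0 from hm0, LocalizedModule.zero_mk, LocalizedModule.zero_mk]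

end Groth.Agent.Helper6.GrTildeLib
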