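import Groth.Agent.Lib.Helper6.QcohProj

set_option autoImplicit false
universe u
open DirectSum CategoryTheory CategoryTheory.Limits AlgebraicGeometry Opposite TopologicalSpace

namespace Groth.Agent.Helper6.QcohProj

variable {R A : Type u} [CommRing R] [CommRing A] [Algebra R A] (𝒜 : ℕ → Submodule R A) [GradedAlgebra 𝒜]
variable {M : Type u} [AddCommGroup M] [Module R M] [Module A M] (ℳ : ℕ → Submodule R M)
  [DirectSum.Decomposition ℳ] [SetLike.GradedSMul 𝒜 ℳ]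

theorem mem_W_iff {f : A}
    (r : Γ(Proj 𝒜, Proj.basicOpen 𝒜 f)) (W : (Proj 𝒜).Opens)
    (hWr : W = (Proj 𝒜).basicOpen r) {k : ℕ} {g : A}
    (hr : ∀ (x : ProjectiveSpectrum 𝒜) (hx : f ∉ x.asHomogeneousIdeal),
        ((r.1 ⟨x, (ProjectiveSpectrum.mem_basicOpen 𝒜 f x).2 hx⟩ : Twist.A0 𝒜 x)).val =
          (Localization.mk g ⟨f ^ k, fun h => hx (x.isPrime.mem_of_pow_mem k h)⟩ : Twist.Loc 𝒜 x))
    (x : ProjectiveSpectrum 𝒜) :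
    (x : ↥(Proj 𝒜)) ∈ W ↔ (f * g) ∉ x.asHomogeneousIdeal := by
  rw [hWr]
  constructor
  · intro hx
    have hxf : f ∉ x.asHomogeneousIdeal :=
      (ProjectiveSpectrum.mem_basicOpen 𝒜 f x).1 (Scheme.basicOpen_le _ _ hx)
    have := (mem_basicOpen_iff 𝒜 r x hxf _ (hr x hxf)).1 hx
    exact fun h => (x.isPrime.mem_or_mem h).elim hxf this
  · intro hx
    have hxf : f ∉ x.asHomogeneousIdeal := fun h => hx (Ideal.mul_mem_right _ _ h)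
    have hxg : g ∉ x.asHomogeneousIdeal := fun h => hx (Ideal.mul_mem_left _ _ h)
    exact (mem_basicOpen_iff 𝒜 r x hxf _ (hr x hxf)).2 hxg

theorem tilde_hE (n : ℤ) {d : ℕ} (hd : 0 < d) {f : A} (hf : f ∈ 𝒜 d)
    (r : Γ(Proj 𝒜, Proj.basicOpen 𝒜 f)) (W U' : (Proj 𝒜).Opens)
    (hU' : U' = Proj.basicOpen 𝒜 f) (hW : W ≤ U')
    (hWr : W = (Proj 𝒜).basicOpen r) (s : Γ(GrTilde.tilde 𝒜 ℳ n, W)) :
    ∃ (N : ℕ) (t : Γ(GrTilde.tilde 𝒜 ℳ n, U')),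
      ((Proj 𝒜).presheaf.map (homOfLE (hW.trans hU'.le)).op r) ^ N • s =
        (GrTilde.tilde 𝒜 ℳ n).presheaf.map (homOfLE hW).op t := by
  subst hU'
  obtain ⟨e, k, g, hg, hfk, hr⟩ := exists_frac_structure 𝒜 hd hf r
  have hmem := mem_W_iff 𝒜 r W hWr hr
  have hfg : f * g ∈ 𝒜 (d + e) := SetLike.mul_mem_graded hf hg
  obtain ⟨L, q, m₀, hm₀, hq, hval⟩ :=
    exists_global_frac' 𝒜 ℳ n (Nat.add_pos_left hd e) hfg W hmem s
  have hden : f ^ L * (f ^ k) ^ L ∈ 𝒜 (L * d + L * e) := by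
    refine SetLike.mul_mem_graded ?_ ?_
    · simpa [smul_eq_mul] using SetLike.pow_mem_graded L hf
    · simpa [smul_eq_mul] using SetLike.pow_mem_graded L hfk
  have hdenx : ∀ x : (Proj.basicOpen 𝒜 f : Opens (ProjectiveSpectrum.top 𝒜)),
      f ^ L * (f ^ k) ^ L ∉ x.1.asHomogeneousIdeal := by
    intro x h
    have hx := (ProjectiveSpectrum.mem_basicOpen 𝒜 f x.1).1 x.2
    rcases x.1.isPrime.mem_or_mem h with h | h
    · exact hx (x.1.isPrime.mem_of_pow_mem L h)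
    · exact hx (x.1.isPrime.mem_of_pow_mem k (x.1.isPrime.mem_of_pow_mem L h))
  refine ⟨L, fracOn 𝒜 ℳ n ⟨m₀, hm₀⟩ ⟨_, hden⟩ (by push_cast at hq ⊢; linarith) _ hdenx, ?_⟩
  apply Subtype.ext
  funext x
  apply Subtype.ext
  have hx := (hmem x.1).1 x.2
  have hxf : f ∉ x.1.asHomogeneousIdeal := fun h => hx (Ideal.mul_mem_right _ _ h)
  have e1 := hval x.1 x.2
  have e2 := hr x.1 hxf
  change ((((((Proj 𝒜).presheaf.map (homOfLE (hW.trans le_rfl)).op r) ^ L).1 x • s.1 x :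
    GrTilde.tildeAt 𝒜 ℳ n x.1)) : GrTilde.LocMod 𝒜 (M := M) x.1) =
    LocalizedModule.mk m₀ ⟨f ^ L * (f ^ k) ^ L, hdenx ⟨x.1, hW x.2⟩⟩
  rw [GrTilde.coe_smul_val]
  have e3 : (((Proj 𝒜).presheaf.map (homOfLE (hW.trans le_rfl)).op r) ^ L).1 x =
      (r.1 ⟨x.1, hW x.2⟩) ^ L := rfl
  rw [e3, HomogeneousLocalization.val_pow, e2, Localization.mk_pow]
  rw [show ((s.1 x).1 : GrTilde.LocMod 𝒜 (M := M) x.1) = _ from e1]
  rw [LocalizedModule.mk_smul_mk, LocalizedModule.mk_eq]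
  refine ⟨1, ?_⟩
  simp only [one_smul, Submonoid.smul_def, Submonoid.coe_mul, SubmonoidClass.coe_pow, smul_smul]
  congr 1
  ring

theorem tilde_hU (n : ℤ) {d : ℕ} (hd : 0 < d) {f : A} (hf : f ∈ 𝒜 d)
    (r : Γ(Proj 𝒜, Proj.basicOpen 𝒜 f)) (W U' : (Proj 𝒜).Opens)
    (hU' : U' = Proj.basicOpen 𝒜 f) (hW : W ≤ U')
    (hWr : W = (Proj 𝒜).basicOpen r) (t : Γ(GrTilde.tilde 𝒜 ℳ n, U'))
    (ht : (GrTilde.tilde 𝒜 ℳ n).presheaf.map (homOfLE hW).op t = 0) :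
    ∃ N : ℕ, ((Proj 𝒜).presheaf.map (homOfLE hU'.le).op r) ^ N • t = 0 := by
  subst hU'
  obtain ⟨e, k, g, hg, hfk, hr⟩ := exists_frac_structure 𝒜 hd hf r
  have hmem := mem_W_iff 𝒜 r W hWr hr
  have hfg : f * g ∈ 𝒜 (d + e) := SetLike.mul_mem_graded hf hg
  obtain ⟨L, q, m₀, hm₀, hq, hval⟩ :=
    exists_global_frac' 𝒜 ℳ n hd hf (Proj.basicOpen 𝒜 f)
      (fun x => ProjectiveSpectrum.mem_basicOpen 𝒜 f x) t
  obtain ⟨N, hN⟩ : ∃ N : ℕ, (f * g) ^ N • m₀ = 0 := by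
    refine GrTildeLib.exists_pow_smul_eq_zero 𝒜 ℳ (Nat.add_pos_left hd e) hfg hm₀ (fun x hx => ?_)
    have hxW : (x : ↥(Proj 𝒜)) ∈ W := (hmem x).2 hx
    have h0 : ((t.1 ⟨x, hW hxW⟩).1 : GrTilde.LocMod 𝒜 (M := M) x) = 0 := by
      have := congrArg (fun σ : GrTilde.sect 𝒜 ℳ n (op W) =>
        ((σ.1 ⟨x, hxW⟩).1 : GrTilde.LocMod 𝒜 (M := M) x)) ht
      exact this
    rw [hval x (hW hxW)] at h0
    rw [← LocalizedModule.zero_mk (1 : x.asHomogeneousIdeal.toIdeal.primeCompl),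
      LocalizedModule.mk_eq] at h0
    obtain ⟨u, hu⟩ := h0
    refine ⟨u.1, u.2, ?_⟩
    simpa [Submonoid.smul_def] using hu
  refine ⟨N, ?_⟩
  apply Subtype.ext
  funext x
  apply Subtype.ext
  have hxf : f ∉ x.1.asHomogeneousIdeal := (ProjectiveSpectrum.mem_basicOpen 𝒜 f x.1).1 x.2
  have e1 := hval x.1 x.2
  have e2 := hr x.1 hxf
  change ((((((Proj 𝒜).presheaf.map (homOfLE (le_refl (Proj.basicOpen 𝒜 f))).op r) ^ N).1 x • t.1 x :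
    GrTilde.tildeAt 𝒜 ℳ n x.1)) : GrTilde.LocMod 𝒜 (M := M) x.1) = 0
  rw [GrTilde.coe_smul_val]
  have e3 : (((Proj 𝒜).presheaf.map (homOfLE (le_refl (Proj.basicOpen 𝒜 f))).op r) ^ N).1 x =
      (r.1 ⟨x.1, x.2⟩) ^ N := rfl
  rw [e3, HomogeneousLocalization.val_pow, e2, Localization.mk_pow]
  rw [show ((t.1 x).1 : GrTilde.LocMod 𝒜 (M := M) x.1) = _ from e1]
  rw [LocalizedModule.mk_smul_mk]
  rw [← LocalizedModule.zero_mk (1 : x.1.asHomogeneousIdeal.toIdeal.primeCompl),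
    LocalizedModule.mk_eq]
  refine ⟨⟨f ^ N, fun h => hxf (x.1.isPrime.mem_of_pow_mem N h)⟩, ?_⟩
  simp only [one_smul, smul_zero, Submonoid.smul_def, smul_smul]
  rw [← mul_pow]
  exact hN

/-- `M(n)~` is quasi-coherent. -/
theorem tilde_isQuasicoherent (n : ℤ) : (GrTilde.tilde 𝒜 ℳ n).IsQuasicoherent := by
  refine QcohLocal.isQuasicoherent_of_affineOpens (X := Proj 𝒜) (GrTilde.tilde 𝒜 ℳ n)
    (ι := Σ d : ℕ, {f : A // 0 < d ∧ f ∈ 𝒜 d})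
    (fun i => Proj.basicOpen 𝒜 i.2.1)
    (fun i => Proj.isAffineOpen_basicOpen 𝒜 i.2.1 i.2.2.2 i.2.2.1)
    (fun x => ?_)
    (fun i r W U' hU' hW hWr s => tilde_hE 𝒜 ℳ n i.2.2.1 i.2.2.2 r W U' hU' hW hWr s)
    (fun i r W U' hU' hW hWr t ht => tilde_hU 𝒜 ℳ n i.2.2.1 i.2.2.2 r W U' hU' hW hWr t ht)
  obtain ⟨d, f, hd, hf, hfx⟩ := GrTildeLib.exists_homogeneous_notMem 𝒜 x
  exact ⟨⟨d, f, hd, hf⟩, (ProjectiveSpectrum.mem_basicOpen 𝒜 f x).2 hfx⟩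

end Groth.Agent.Helper6.QcohProj
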