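import Mathlib
import Groth.Prelude.Def_Coh
import Groth.Prelude.Def_CohB1
import Groth.Prelude.Def_Twist2
import Groth.Prelude.Def_GrMod2
import Groth.Prelude.Def_ega3
import Groth.Agent.Lib.Helper6.GlobSecC
import Groth.Agent.Lib.Helper26.PnGlob
import Groth.Agent.Lib.Helper26.PnH0
import Groth.Agent.Lib.Helper9.AffStrat

/-!
# Euler characteristic of `M(n)~` on `Proj S` for large `n` (helper6)

For `A` Noetherian, `S` generated in degree one, `M` a finite graded `S`-module: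
`H⁰(Proj S, M(n)~) ≃ₗ[A] M_n` and `H^j(Proj S, M(n)~) = 0` (`j > 0`) for large `n`.
-/

set_option autoImplicit false
set_option linter.unusedSectionVars false
set_option linter.unusedVariables false
universe u
open DirectSum CategoryTheory CategoryTheory.Limits AlgebraicGeometry Opposite TopologicalSpace

namespace Groth.Agent.Helper6.GlobSec

section H0

variable {A S : Type u} [CommRing A] [CommRing S] [Algebra A S] (𝒜 : ℕ → Submodule A S)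
  [GradedAlgebra 𝒜]
variable {M : Type u} [AddCommGroup M] [Module A M] [Module S M] (ℳ : ℕ → Submodule A M)
  [SetLike.GradedSMul 𝒜 ℳ]

/-- `H⁰(Proj S, M(n)~)` is the group of global sections. -/
noncomputable def h0EquivT (n : ℤ) :
    Coh.HH (Proj 𝒜) (GrTilde.tilde 𝒜 ℳ n) 0 ≃+ GrTilde.sect 𝒜 ℳ n (op ⊤) :=
  Sheaf.H.equiv₀ (Coh.toAb (GrTilde.tilde 𝒜 ℳ n))
    (Limits.isTerminalTop : IsTerminal (⊤ : Opens (Proj 𝒜)))

theorem h0EquivT_smul_val (n : ℤ) (c : Coh.Γtop (Proj 𝒜))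
    (x : Coh.HH (Proj 𝒜) (GrTilde.tilde 𝒜 ℳ n) 0)
    (y : (⊤ : Opens (ProjectiveSpectrum.top 𝒜))) :
    (((h0EquivT 𝒜 ℳ n (c • x)).1 y).1 : GrTilde.LocMod 𝒜 (M := M) y.1) =
      ((c : (ProjectiveSpectrum.Proj.structureSheaf 𝒜).1.obj (op ⊤)).1 y).val •
        (((h0EquivT 𝒜 ℳ n x).1 y).1 : GrTilde.LocMod 𝒜 (M := M) y.1) := by
  have h := Sheaf.H.equiv₀_naturality (Coh.smulAb (GrTilde.tilde 𝒜 ℳ n) c)
    (hT := (Limits.isTerminalTop : IsTerminal (⊤ : Opens (Proj 𝒜)))) x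
  have h2 : h0EquivT 𝒜 ℳ n (c • x) =
      (Coh.smulAb (GrTilde.tilde 𝒜 ℳ n) c).hom.app (op ⊤) (h0EquivT 𝒜 ℳ n x) := h.symm
  have h3 := Coh.smulAb_app (GrTilde.tilde 𝒜 ℳ n) c (op ⊤) (h0EquivT 𝒜 ℳ n x)
  have h4 := h2.trans h3
  have h5 := congrArg (fun s : GrTilde.sect 𝒜 ℳ n (op ⊤) =>
    ((s.1 y).1 : GrTilde.LocMod 𝒜 (M := M) y.1)) h4
  refine h5.trans ?_
  have h6 := Groth.Agent.Helper26.PnCoh.resTop_top (Proj 𝒜) c
  have h7 := congrArg (fun c' : (ProjectiveSpectrum.Proj.structureSheaf 𝒜).1.obj (op ⊤) =>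
    (c'.1 y).val • (((h0EquivT 𝒜 ℳ n x).1 y).1 : GrTilde.LocMod 𝒜 (M := M) y.1)) h6
  refine Eq.trans ?_ h7
  exact GrTilde.coe_smul_val n y.1 _ _

theorem toGlobal_eq (a : A) :
    Coh.toGlobal ((Proj 𝒜) ↘ Spec (CommRingCat.of A)) a =
      (Proj.toSpecZero 𝒜).appTop.hom
        ((Scheme.ΓSpecIso (CommRingCat.of (𝒜 0))).inv.hom (algebraMap A (𝒜 0) a)) := by
  change (Scheme.Hom.appTop (Proj.toSpecZero 𝒜 ≫
    Spec.map (CommRingCat.ofHom (algebraMap A (𝒜 0))))).hom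
      ((Scheme.ΓSpecIso (CommRingCat.of A)).inv.hom a) = _
  rw [Scheme.Hom.comp_appTop]
  have h := Scheme.ΓSpecIso_inv_naturality (CommRingCat.ofHom (algebraMap A (𝒜 0)))
  have h2 := congrArg (fun φ => φ.hom a) h
  simp only [CommRingCat.hom_comp, RingHom.comp_apply, CommRingCat.hom_ofHom] at h2 ⊢
  rw [h2]

theorem toGlobal_val
    (hcov : ∀ x : ProjectiveSpectrum 𝒜, ∃ (m : ℕ) (f : S), 0 < m ∧ f ∈ 𝒜 m ∧
      f ∉ x.asHomogeneousIdeal)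
    (a : A) (x : ProjectiveSpectrum 𝒜) :
    (((Coh.toGlobal ((Proj 𝒜) ↘ Spec (CommRingCat.of A)) a :
      (ProjectiveSpectrum.Proj.structureSheaf 𝒜).1.obj (op ⊤)).1 ⟨x, trivial⟩).val :
        Localization.AtPrime x.asHomogeneousIdeal.toIdeal) =
      Localization.mk (algebraMap A S a) 1 := by
  obtain ⟨m, f, hm, hf, hfx⟩ := hcov x
  rw [toGlobal_eq]
  exact Groth.Agent.Helper26.PnCoh.toSpecZero_val 𝒜 f hf hm (algebraMap A (𝒜 0) a) x hfx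

theorem globalOf_add (n : ℕ) (m m' : ℳ n) :
    GrTilde.globalOf 𝒜 ℳ (m + m') = GrTilde.globalOf 𝒜 ℳ m + GrTilde.globalOf 𝒜 ℳ m' := by
  refine Subtype.ext (funext fun y => Subtype.ext ?_)
  exact (mk_add_same _ (m : M) (m' : M) (oneC 𝒜 y.1)).symm

variable [IsScalarTower A S M]

theorem globalOf_smul_val
    (hcov : ∀ x : ProjectiveSpectrum 𝒜, ∃ (m : ℕ) (f : S), 0 < m ∧ f ∈ 𝒜 m ∧
      f ∉ x.asHomogeneousIdeal)
    (n : ℕ) (a : A) (m : ℳ n) (x : Coh.HH (Proj 𝒜) (GrTilde.tilde 𝒜 ℳ (n : ℤ)) 0)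
    (hx : h0EquivT 𝒜 ℳ (n : ℤ) x = GrTilde.globalOf 𝒜 ℳ m) :
    h0EquivT 𝒜 ℳ (n : ℤ) (a • x) = GrTilde.globalOf 𝒜 ℳ (a • m) := by
  refine Subtype.ext (funext fun y => Subtype.ext ?_)
  have h1 := h0EquivT_smul_val 𝒜 ℳ (n : ℤ)
    (Coh.toGlobal ((Proj 𝒜) ↘ Spec (CommRingCat.of A)) a) x y
  refine h1.trans ?_
  rw [hx]
  have h2 : ((((Coh.toGlobal ((Proj 𝒜) ↘ Spec (CommRingCat.of A)) a :
      (ProjectiveSpectrum.Proj.structureSheaf 𝒜).1.obj (op ⊤)).1 y).val) :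
        Localization.AtPrime y.1.asHomogeneousIdeal.toIdeal) =
      Localization.mk (algebraMap A S a) 1 := toGlobal_val 𝒜 hcov a y.1
  show ((((Coh.toGlobal ((Proj 𝒜) ↘ Spec (CommRingCat.of A)) a :
      (ProjectiveSpectrum.Proj.structureSheaf 𝒜).1.obj (op ⊤)).1 y).val) :
        Localization.AtPrime y.1.asHomogeneousIdeal.toIdeal) •
      (LocalizedModule.mk (m : M) (oneC 𝒜 y.1) : GrTilde.LocMod 𝒜 (M := M) y.1) =
    (LocalizedModule.mk (a • (m : M)) (oneC 𝒜 y.1) : GrTilde.LocMod 𝒜 (M := M) y.1)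
  rw [h2, LocalizedModule.mk_smul_mk, one_mul, algebraMap_smul]

theorem length_h0_eq
    (hcov : ∀ x : ProjectiveSpectrum 𝒜, ∃ (m : ℕ) (f : S), 0 < m ∧ f ∈ 𝒜 m ∧
      f ∉ x.asHomogeneousIdeal)
    (n : ℕ) (hbij : Function.Bijective (fun m : ℳ n => GrTilde.globalOf 𝒜 ℳ m)) :
    Module.length A (Coh.HH (Proj 𝒜) (GrTilde.tilde 𝒜 ℳ (n : ℤ)) 0) =
      Module.length A ↥(ℳ n) := by
  let ℓ : ℳ n →ₗ[A] Coh.HH (Proj 𝒜) (GrTilde.tilde 𝒜 ℳ (n : ℤ)) 0 :=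
    { toFun := fun m => (h0EquivT 𝒜 ℳ (n : ℤ)).symm (GrTilde.globalOf 𝒜 ℳ m)
      map_add' := fun m m' => by
        rw [← map_add]
        congr 1
        exact globalOf_add 𝒜 ℳ n m m'
      map_smul' := fun a m => by
        apply (h0EquivT 𝒜 ℳ (n : ℤ)).injective
        rw [AddEquiv.apply_symm_apply]
        exact (globalOf_smul_val 𝒜 ℳ hcov n a m _ (AddEquiv.apply_symm_apply _ _)).symm }
  have hb : Function.Bijective ℓ := (h0EquivT 𝒜 ℳ (n : ℤ)).symm.bijective.comp hbij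
  exact (LinearEquiv.ofBijective ℓ hb).length_eq.symm

end H0

set_option maxHeartbeats 1600000 in
/-- the Euler characteristic of `M(n)~` is the length of `M_n` for large `n`. -/
theorem euler_eq_length {A S : Type u} [CommRing A] [IsNoetherianRing A] [CommRing S]
    [Algebra A S] (𝒜 : ℕ → Submodule A S) [GradedAlgebra 𝒜] (r : ℕ) (g : Fin (r + 1) → S)
    (hg1 : ∀ i, g i ∈ 𝒜 1) (hgen : Algebra.adjoin A (Set.range g) = ⊤)
    {M : Type u} [AddCommGroup M] [Module A M] [Module S M] [IsScalarTower A S M]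
    [Module.Finite S M] (ℳ : ℕ → Submodule A M) [DirectSum.Decomposition ℳ]
    [SetLike.GradedSMul 𝒜 ℳ] :
    ∃ N : ℕ, ∀ n : ℕ, N ≤ n →
      ((Finset.range (r + 1)).sum fun j => (-1 : ℤ) ^ j *
          ((Module.length A (Coh.HH (Proj 𝒜) (GrTilde.tilde 𝒜 ℳ (n : ℤ)) j)).toNat : ℤ)) =
        ((Module.length A ↥(ℳ n)).toNat : ℤ) := by
  classical
  have hirr := irrelevant_eq_span_one 𝒜 g hg1 hgen
  haveI : Algebra.FiniteType A S := ⟨⟨Finset.univ.image g, by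
    rw [Finset.coe_image, Finset.coe_univ, Set.image_univ]; exact hgen⟩⟩
  haveI : IsNoetherianRing S := Algebra.FiniteType.isNoetherianRing A S
  haveI : IsNoetherian S M := isNoetherian_of_isNoetherianRing_of_finite S M
  have hcov : ∀ x : ProjectiveSpectrum 𝒜, ∃ (m : ℕ) (f : S), 0 < m ∧ f ∈ 𝒜 m ∧
      f ∉ x.asHomogeneousIdeal := fun x => by
    obtain ⟨i, hi⟩ := SurjTw.exists_g_notMem 𝒜 r g hg1 hgen x
    exact ⟨1, g i, Nat.one_pos, hg1 i, hi⟩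
  obtain ⟨N₁, hN₁⟩ := globalOf_bijective 𝒜 r g hg1 hgen ℳ
  have hcoh : Coh.IsCoh (GrTilde.tilde 𝒜 ℳ 0) :=
    ⟨QcohProj.tilde_isQuasicoherent 𝒜 ℳ 0,
      Groth.Agent.Helper28.GrModFTN.tilde_isFiniteType_of_isNoetherian 𝒜 ℳ 0⟩
  obtain ⟨N₀, hN₀⟩ := SurjTw.serre_vanishing_proj 𝒜 r g hg1 hgen (GrTilde.tilde 𝒜 ℳ 0) hcoh
  refine ⟨max N₁ N₀.toNat, fun n hn => ?_⟩
  have hn1 : N₁ ≤ n := le_trans (le_max_left _ _) hn
  have hn0 : N₀ ≤ (n : ℤ) := by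
    have := le_trans (le_max_right _ _) hn
    omega
  have hvan : ∀ j : ℕ, 0 < j →
      Subsingleton (Coh.HH (Proj 𝒜) (GrTilde.tilde 𝒜 ℳ (n : ℤ)) j) := by
    intro j hj
    obtain ⟨e⟩ := Groth.Agent.Helper28.TildeMul.tilde_iso_twistBy 𝒜 ℳ hirr (n : ℤ)
    exact Groth.Agent.Helper9.AffStrat.HH_subsingleton_of_iso e j (hN₀ (n : ℤ) hn0 j hj)
  have hlen : Module.length A (Coh.HH (Proj 𝒜) (GrTilde.tilde 𝒜 ℳ (n : ℤ)) 0) =
      Module.length A ↥(ℳ n) := length_h0_eq 𝒜 ℳ hcov n (hN₁ n hn1)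
  rw [Finset.sum_eq_single 0]
  · rw [hlen]
    simp
  · intro j _ hj
    haveI := hvan j (Nat.pos_of_ne_zero hj)
    rw [Module.length_eq_zero]
    simp
  · intro h0
    exact absurd (Finset.mem_range.2 (Nat.succ_pos r)) h0

end Groth.Agent.Helper6.GlobSec
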