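import Mathlib
import Groth.Prelude.Def_GrMod2
import Groth.Prelude.Def_GrMod3
import Groth.Prelude.Def_RelProj3
import Groth.Prelude.Def_Twist2
import Groth.Prelude.Def_CohB1
import Groth.Agent.Lib.Helper6.GlobSecC
import Groth.Agent.Lib.Helper7.Graded

/-!
# `M_n → Γ(Proj A, M(n)~)` for a Noetherian graded ring generated in degree one over `A_0`
(helper6)

Here the base ring `R` of the grading is arbitrary; the Noetherian base ring used for the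
polynomial presentation is `A_0`.
-/

set_option autoImplicit false
set_option linter.unusedSectionVars false
set_option linter.unusedVariables false
universe u
open DirectSum CategoryTheory CategoryTheory.Limits AlgebraicGeometry Opposite TopologicalSpace

namespace Groth.Agent.Helper6.GlobSec

section Transfer2

variable {A₁ A₂ P S : Type u} [CommRing A₁] [CommRing A₂] [CommRing P] [CommRing S]
  [Algebra A₁ P] [Algebra A₂ S]
  (Pgr : ℕ → Submodule A₁ P) [GradedAlgebra Pgr] (𝒜 : ℕ → Submodule A₂ S) [GradedAlgebra 𝒜]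
  (φ : Pgr →+*ᵍ 𝒜)
  (hφ : HomogeneousIdeal.irrelevant 𝒜 ≤ (HomogeneousIdeal.irrelevant Pgr).map φ)
  {M : Type u} [AddCommGroup M] [Module A₁ M] [Module A₂ M] [Module P M] [Module S M]
  (ℳ₁ : ℕ → Submodule A₁ M) (ℳ₂ : ℕ → Submodule A₂ M)
  [DirectSum.Decomposition ℳ₁] [DirectSum.Decomposition ℳ₂]
  [SetLike.GradedSMul Pgr ℳ₁] [SetLike.GradedSMul 𝒜 ℳ₂]
  (hsm : ∀ (p : P) (m : M), p • m = φ p • m)
  (hℳ : ∀ (i : ℕ) (m : M), m ∈ ℳ₁ i ↔ m ∈ ℳ₂ i)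

theorem irrelevant_le_map_of_surjective₂ (hsurj : Function.Surjective φ) :
    HomogeneousIdeal.irrelevant 𝒜 ≤ (HomogeneousIdeal.irrelevant Pgr).map φ := by
  intro b hb
  obtain ⟨a, rfl⟩ := hsurj b
  have h0 : (decompose 𝒜 (φ a) 0 : S) = 0 := (HomogeneousIdeal.mem_irrelevant_iff _ _).mp hb
  have h1 : φ a = φ (a - (decompose Pgr a 0 : P)) := by
    rw [map_sub, GradedRingHom.map_directSumDecompose, h0, sub_zero]
  rw [h1]
  apply Ideal.mem_map_of_mem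
  change _ ∈ HomogeneousIdeal.irrelevant Pgr
  rw [HomogeneousIdeal.mem_irrelevant_iff, GradedRing.proj_apply, decompose_sub, decompose_coe,
    DirectSum.sub_apply, DirectSum.of_eq_same, AddSubgroupClass.coe_sub, sub_self]

/-- the identity of `M`, as a map semilinear over `φ`. -/
def idSemi₂ : M →ₛₗ[φ.toRingHom] M where
  toFun := id
  map_add' _ _ := rfl
  map_smul' p m := hsm p m

set_option maxHeartbeats 1600000 in
include hφ hsm hℳ in
/-- transfer of the surjectivity of `M_n → Γ(M(n)~)` along `Proj S ⟶ Proj P` (gradings over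
possibly different base rings). -/
theorem transfer_surjective₂ (n : ℕ)
    (hsurj : Function.Surjective (fun m : ℳ₁ n => GrTilde.globalOf Pgr ℳ₁ m)) :
    Function.Surjective (fun m : ℳ₂ n => GrTilde.globalOf 𝒜 ℳ₂ m) := by
  have hv : ∀ (i : ℕ) (m : M), m ∈ ℳ₁ i → idSemi₂ Pgr 𝒜 φ hsm m ∈ ℳ₂ i :=
    fun i m h => (hℳ i m).1 h
  haveI hiso : IsIso (GrMod.comap (ℳ := ℳ₁) (𝒩 := ℳ₂) φ hφ (idSemi₂ Pgr 𝒜 φ hsm) hv (n : ℤ)) :=
    GrModComap.isIso_comap φ hφ ℳ₁ ℳ₂ (idSemi₂ Pgr 𝒜 φ hsm) hv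
      ⟨fun _ _ h => h, fun m => ⟨m, rfl⟩⟩ (n : ℤ)
  intro t
  have h1 : (GrMod.comap (ℳ := ℳ₁) (𝒩 := ℳ₂) φ hφ (idSemi₂ Pgr 𝒜 φ hsm) hv (n : ℤ)).app ⊤
      ((inv (GrMod.comap (ℳ := ℳ₁) (𝒩 := ℳ₂) φ hφ (idSemi₂ Pgr 𝒜 φ hsm) hv (n : ℤ))).app ⊤
        (t : Γ((Scheme.Modules.pushforward (Proj.map φ hφ)).obj
          (GrMod.tilde 𝒜 ℳ₂ (n : ℤ)), ⊤))) =
      (t : Γ((Scheme.Modules.pushforward (Proj.map φ hφ)).obj (GrMod.tilde 𝒜 ℳ₂ (n : ℤ)), ⊤)) :=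
    congrArg (fun ψ : (Scheme.Modules.pushforward (Proj.map φ hφ)).obj
        (GrMod.tilde 𝒜 ℳ₂ (n : ℤ)) ⟶
      (Scheme.Modules.pushforward (Proj.map φ hφ)).obj (GrMod.tilde 𝒜 ℳ₂ (n : ℤ)) => ψ.app ⊤
        (t : Γ((Scheme.Modules.pushforward (Proj.map φ hφ)).obj
          (GrMod.tilde 𝒜 ℳ₂ (n : ℤ)), ⊤)))
      (IsIso.inv_hom_id
        (GrMod.comap (ℳ := ℳ₁) (𝒩 := ℳ₂) φ hφ (idSemi₂ Pgr 𝒜 φ hsm) hv (n : ℤ)))
  generalize (inv (GrMod.comap (ℳ := ℳ₁) (𝒩 := ℳ₂) φ hφ (idSemi₂ Pgr 𝒜 φ hsm) hv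
    (n : ℤ))).app ⊤
    (t : Γ((Scheme.Modules.pushforward (Proj.map φ hφ)).obj (GrMod.tilde 𝒜 ℳ₂ (n : ℤ)), ⊤)) = s₀
    at h1
  obtain ⟨m, rfl⟩ := hsurj s₀
  refine ⟨⟨m.1, (hℳ n m.1).1 m.2⟩, Eq.trans ?_ h1⟩
  refine Subtype.ext (funext fun y => Subtype.ext ?_)
  show (LocalizedModule.mk m.1 (oneC 𝒜 y.1) : GrTilde.LocMod 𝒜 (M := M) y.1) =
    GrMod.locModMap φ hφ (idSemi₂ Pgr 𝒜 φ hsm) y.1
      (LocalizedModule.mk m.1 (oneC Pgr (ProjectiveSpectrum.comap φ hφ y.1)))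
  rw [GrMod.locModMap_mk]
  congr 1
  exact Subtype.ext (map_one φ).symm

end Transfer2

section Gens

variable {R A : Type u} [CommRing R] [CommRing A] [Algebra R A] (𝒜 : ℕ → Submodule R A)
  [GradedAlgebra 𝒜]

theorem irrelevant_eq_span_one' {ι : Type*} (g : ι → A) (hg1 : ∀ i, g i ∈ 𝒜 1)
    (hadj : Algebra.adjoin (𝒜 0) (Set.range g) = ⊤) :
    (HomogeneousIdeal.irrelevant 𝒜).toIdeal = Ideal.span (𝒜 1 : Set A) := by
  have h1 := Groth.Agent.Helper7.Graded.irrelevant_eq_span_of_adjoin_eq_top 𝒜 (Set.range g)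
    (by rintro _ ⟨i, rfl⟩; exact ⟨1, Nat.one_pos, hg1 i⟩) hadj
  apply le_antisymm
  · rw [h1]
    apply Ideal.span_mono
    rintro _ ⟨i, rfl⟩
    exact hg1 i
  · rw [Ideal.span_le]
    intro a ha
    exact HomogeneousIdeal.mem_irrelevant_of_mem 𝒜 Nat.one_pos ha

theorem adjoin_eq_top_of_hgen (hgen : ∀ i : ℕ, 𝒜 (i + 1) = 𝒜 1 * 𝒜 i) (T : Set A)
    (hT : ∀ x ∈ 𝒜 1, x ∈ Algebra.adjoin (𝒜 0) T) :
    Algebra.adjoin (𝒜 0) T = ⊤ := by
  classical
  have hall : ∀ n : ℕ, ∀ x ∈ 𝒜 n, x ∈ Algebra.adjoin (𝒜 0) T := by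
    intro n
    induction n with
    | zero =>
      intro x hx
      exact Subalgebra.algebraMap_mem _ (⟨x, hx⟩ : 𝒜 0)
    | succ n ih =>
      intro x hx
      rw [hgen n] at hx
      refine Submodule.mul_induction_on hx (fun y hy z hz => ?_) (fun y z hy hz => add_mem hy hz)
      exact mul_mem (hT y hy) (ih z hz)
  rw [eq_top_iff]
  intro a _
  rw [← DirectSum.sum_support_decompose 𝒜 a]
  exact sum_mem (fun i _ => hall i _ (decompose 𝒜 a i).2)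

theorem exists_finset_gens [IsNoetherianRing A] :
    ∃ T : Finset A, (∀ t ∈ T, t ∈ 𝒜 1) ∧ ∀ x ∈ 𝒜 1, x ∈ Algebra.adjoin (𝒜 0) (T : Set A) := by
  classical
  have hfg : (Ideal.span (𝒜 1 : Set A)).FG := IsNoetherian.noetherian _
  obtain ⟨T, hTsub, hTspan⟩ := (Submodule.fg_span_iff_fg_span_finset_subset (𝒜 1 : Set A)).1 hfg
  refine ⟨T, fun t ht => hTsub ht, fun x hx => ?_⟩
  have hx' : x ∈ Submodule.span A (T : Set A) := by
    rw [← hTspan]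
    exact Submodule.subset_span hx
  obtain ⟨f, hf⟩ := Submodule.mem_span_finset'.1 hx'
  have key : x = ∑ a : T, (decompose 𝒜 (f a) 0 : A) * a.1 := by
    have e1 : (decompose 𝒜 x (0 + 1) : A) = x := DirectSum.decompose_of_mem_same 𝒜 hx
    have e2 : (decompose 𝒜 (∑ a : T, f a • a.1) (0 + 1) : A) =
        ∑ a : T, (decompose 𝒜 (f a) 0 : A) * a.1 := by
      rw [DirectSum.decompose_sum, DirectSum.sum_apply, AddSubmonoidClass.coe_finsetSum]
      exact Finset.sum_congr rfl (fun a _ =>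
        DirectSum.coe_decompose_mul_add_of_right_mem 𝒜 (hTsub a.2))
    rw [hf] at e2
    exact e1.symm.trans e2
  rw [key]
  exact sum_mem (fun a _ => mul_mem (Subalgebra.algebraMap_mem _ (decompose 𝒜 (f a) 0))
    (Algebra.subset_adjoin a.2))

theorem exists_gens_fin [IsNoetherianRing A] (hgen : ∀ i : ℕ, 𝒜 (i + 1) = 𝒜 1 * 𝒜 i) :
    ∃ (r : ℕ) (g : Fin (r + 1) → A), (∀ i, g i ∈ 𝒜 1) ∧
      Algebra.adjoin (𝒜 0) (Set.range g) = ⊤ := by
  classical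
  obtain ⟨T, hT1, hT⟩ := exists_finset_gens 𝒜
  refine ⟨T.card, Fin.cons 0 (fun i => ((T.equivFin.symm i : T) : A)), ?_, ?_⟩
  · intro i
    refine Fin.cases ?_ (fun j => ?_) i
    · rw [Fin.cons_zero]
      exact zero_mem _
    · rw [Fin.cons_succ]
      exact hT1 _ (T.equivFin.symm j).2
  · apply adjoin_eq_top_of_hgen 𝒜 hgen
    intro x hx
    refine Algebra.adjoin_mono (fun t ht => ?_) (hT x hx)
    refine ⟨Fin.succ (T.equivFin ⟨t, ht⟩), ?_⟩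
    rw [Fin.cons_succ, Equiv.symm_apply_apply]

section Poly0

variable (r : ℕ) (g : Fin (r + 1) → A) (hg1 : ∀ i, g i ∈ 𝒜 1)

include hg1 in
theorem aeval_mem₀ {k : ℕ} {p : MvPolynomial (Fin (r + 1)) (𝒜 0)}
    (hp : p ∈ CohB1.polyGrading r (𝒜 0) k) : MvPolynomial.aeval g p ∈ 𝒜 k := by
  classical
  have hp' : p.IsHomogeneous k := hp
  rw [p.as_sum, map_sum]
  refine Submodule.sum_mem _ (fun d hd => ?_)
  rw [MvPolynomial.aeval_monomial]
  have hdk : ∑ i ∈ d.support, d i • 1 = k := by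
    have h1 := hp' (MvPolynomial.mem_support_iff.mp hd)
    rw [Finsupp.weight_apply] at h1
    simpa [Finsupp.sum] using h1
  have h2 : (d.prod fun i e => g i ^ e) ∈ 𝒜 k := by
    rw [Finsupp.prod, ← hdk]
    exact SetLike.prod_pow_mem_graded 𝒜 (fun _ => 1) g (fun i => d i) (fun i _ => hg1 i)
  have h3 := SetLike.mul_mem_graded (MvPolynomial.coeff d p).2 h2
  rw [zero_add] at h3
  exact h3

/-- the graded surjection `A_0[T_0..T_r] → A`, `T_i ↦ g_i`. -/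
noncomputable def grHom₀ : CohB1.polyGrading r (𝒜 0) →+*ᵍ 𝒜 :=
  ⟨(MvPolynomial.aeval g : MvPolynomial (Fin (r + 1)) (𝒜 0) →ₐ[𝒜 0] A).toRingHom,
    fun {_ _} hp => aeval_mem₀ 𝒜 r g hg1 hp⟩

theorem grHom₀_surjective (hadj : Algebra.adjoin (𝒜 0) (Set.range g) = ⊤) :
    Function.Surjective (grHom₀ 𝒜 r g hg1) := by
  intro s
  have hs : s ∈ (MvPolynomial.aeval g : MvPolynomial (Fin (r + 1)) (𝒜 0) →ₐ[𝒜 0] A).range := by
    rw [← Algebra.adjoin_range_eq_range_aeval, hadj]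
    exact Algebra.mem_top
  obtain ⟨p, hp⟩ := (AlgHom.mem_range _).mp hs
  exact ⟨p, hp⟩

end Poly0

section Gr0

variable {M : Type u} [AddCommGroup M] [Module R M] [Module A M] (ℳ : ℕ → Submodule R M)
  [SetLike.GradedSMul 𝒜 ℳ] [Module (𝒜 0) M]
  (h0sm : ∀ (c : 𝒜 0) (m : M), c • m = (c : A) • m)

/-- the grading of `M`, with pieces regarded as `𝒜 0`-submodules. -/
def gr0 (i : ℕ) : Submodule (𝒜 0) M where
  carrier := ℳ i
  add_mem' := (ℳ i).add_mem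
  zero_mem' := (ℳ i).zero_mem
  smul_mem' := fun c m hm => by
    rw [h0sm]
    have h := SetLike.GradedSMul.smul_mem (A := 𝒜) (B := ℳ) c.2 (show m ∈ ℳ i from hm)
    rw [vadd_eq_add, zero_add] at h
    exact h

/-- the identity `ℳ i → gr0 i`. -/
def toGr0 (i : ℕ) : ℳ i →+ gr0 𝒜 ℳ h0sm i where
  toFun x := ⟨x.1, x.2⟩
  map_zero' := rfl
  map_add' _ _ := rfl

theorem coe_map_toGr0 [DecidableEq ℕ] (y : ⨁ i, ℳ i) :
    DirectSum.coeAddMonoidHom (gr0 𝒜 ℳ h0sm) (DirectSum.map (toGr0 𝒜 ℳ h0sm) y) =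
      DirectSum.coeAddMonoidHom ℳ y := by
  induction y using DirectSum.induction_on with
  | zero => rw [map_zero, map_zero, map_zero]
  | of i x =>
    rw [DirectSum.map_of, DirectSum.coeAddMonoidHom_of, DirectSum.coeAddMonoidHom_of]
    rfl
  | add x y hx hy => rw [map_add, map_add, map_add, hx, hy]

/-- the decomposition of `M` into the `𝒜 0`-submodules `gr0 i`. -/
@[instance_reducible]
noncomputable def gr0Decomposition [DirectSum.Decomposition ℳ] :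
    DirectSum.Decomposition (gr0 𝒜 ℳ h0sm) :=
  DirectSum.Decomposition.ofAddHom _
    ((DirectSum.map (toGr0 𝒜 ℳ h0sm)).comp (DirectSum.decomposeAddEquiv ℳ).toAddMonoidHom)
    (by
      ext m
      change DirectSum.coeAddMonoidHom (gr0 𝒜 ℳ h0sm)
        (DirectSum.map (toGr0 𝒜 ℳ h0sm) (DirectSum.decompose ℳ m)) = m
      rw [coe_map_toGr0]
      exact DirectSum.Decomposition.left_inv (ℳ := ℳ) m)
    (by
      apply DirectSum.addHom_ext
      intro i z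
      change DirectSum.map (toGr0 𝒜 ℳ h0sm) (DirectSum.decompose ℳ
        (DirectSum.coeAddMonoidHom (gr0 𝒜 ℳ h0sm) (DirectSum.of _ i z))) = DirectSum.of _ i z
      rw [DirectSum.coeAddMonoidHom_of,
        DirectSum.decompose_of_mem ℳ (show (z : M) ∈ ℳ i from z.2), DirectSum.map_of]
      rfl)

end Gr0

end Gens

set_option maxHeartbeats 1600000 in
/-- `M_n → Γ(Proj A, M(n)~)` is bijective for large `n`, for `A` a Noetherian graded ring
generated by `A_1` over `A_0` and `M` a finite graded `A`-module. -/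
theorem globalOf_bijective_noeth {R A : Type u} [CommRing R] [CommRing A] [Algebra R A]
    (𝒜 : ℕ → Submodule R A) [GradedAlgebra 𝒜] [IsNoetherianRing A]
    (hgen : ∀ i : ℕ, 𝒜 (i + 1) = 𝒜 1 * 𝒜 i)
    (M : Type u) [AddCommGroup M] [Module R M] [Module A M] [Module.Finite A M]
    (ℳ : ℕ → Submodule R M) [DirectSum.Decomposition ℳ] [SetLike.GradedSMul 𝒜 ℳ] :
    ∃ n₀ : ℕ, ∀ n : ℕ, n₀ ≤ n →
      Function.Bijective (fun m : ℳ n => GrTilde.globalOf 𝒜 ℳ m) := by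
  classical
  obtain ⟨r, g, hg1, hadj⟩ := exists_gens_fin 𝒜 hgen
  have hirr : (HomogeneousIdeal.irrelevant 𝒜).toIdeal = Ideal.span (𝒜 1 : Set A) :=
    irrelevant_eq_span_one' 𝒜 g hg1 hadj
  obtain ⟨N₁, hN₁⟩ := exists_globalOf_injective 𝒜 ℳ hirr
  letI : Module (𝒜 0) M := Module.compHom M (algebraMap (𝒜 0) A)
  have h0sm : ∀ (c : 𝒜 0) (m : M), c • m = (c : A) • m := fun _ _ => rfl
  letI : Module (MvPolynomial (Fin (r + 1)) (𝒜 0)) M :=
    Module.compHom M (grHom₀ 𝒜 r g hg1).toRingHom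
  have hsm : ∀ (p : MvPolynomial (Fin (r + 1)) (𝒜 0)) (m : M),
      p • m = (grHom₀ 𝒜 r g hg1) p • m := fun _ _ => rfl
  letI : DirectSum.Decomposition (gr0 𝒜 ℳ h0sm) := gr0Decomposition 𝒜 ℳ h0sm
  haveI : SetLike.GradedSMul (CohB1.polyGrading r (𝒜 0)) (gr0 𝒜 ℳ h0sm) := ⟨by
    intro i j p m hp hm
    rw [hsm]
    exact SetLike.GradedSMul.smul_mem (A := 𝒜) (B := ℳ) ((grHom₀ 𝒜 r g hg1).map_mem hp)
      (show m ∈ ℳ j from hm)⟩
  haveI : Module.Finite (MvPolynomial (Fin (r + 1)) (𝒜 0)) M :=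
    finite_compHom (grHom₀ 𝒜 r g hg1).toRingHom (grHom₀_surjective 𝒜 r g hg1 hadj)
  obtain ⟨N₂, hN₂⟩ := exists_globalOf_surjective (CohB1.polyGrading r (𝒜 0)) (gr0 𝒜 ℳ h0sm) r
    (MvPolynomial.X : Fin (r + 1) → MvPolynomial (Fin (r + 1)) (𝒜 0))
    (fun i => MvPolynomial.isHomogeneous_X (𝒜 0) i) MvPolynomial.adjoin_range_X
    (hR_poly r (𝒜 0))
  refine ⟨max N₁ N₂, fun n hn => ⟨hN₁ n (le_trans (le_max_left _ _) hn), ?_⟩⟩
  exact transfer_surjective₂ (CohB1.polyGrading r (𝒜 0)) 𝒜 (grHom₀ 𝒜 r g hg1)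
    (irrelevant_le_map_of_surjective₂ _ _ (grHom₀ 𝒜 r g hg1)
      (grHom₀_surjective 𝒜 r g hg1 hadj))
    (gr0 𝒜 ℳ h0sm) ℳ hsm (fun _ _ => Iff.rfl) n (hN₂ n (le_trans (le_max_right _ _) hn))

end Groth.Agent.Helper6.GlobSec
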