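import Mathlib
import Groth.Prelude.Def_GrMod3

set_option autoImplicit false
set_option linter.style.haveILetI false

open CategoryTheory AlgebraicGeometry

namespace Groth.Agent.Helper6.GrAlpha

universe u

variable {R σ : Type u} [CommRing R] [SetLike σ R] [AddSubgroupClass σ R]
    (𝒜 : ℕ → σ) [GradedRing 𝒜] {M τ : Type u} [AddCommGroup M] [Module R M] [SetLike τ M]
    [AddSubgroupClass τ M]
    (ℳ : ℕ → τ) [SetLike.GradedSMul 𝒜 ℳ] [DirectSum.Decomposition ℳ]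

/-- the annihilator of a homogeneous element is a homogeneous ideal (elementwise form). -/
theorem smul_proj_eq_zero {i : ℕ} (m : ℳ i) (r : R) (hr : r • (m : M) = 0) (d : ℕ) :
    ((DirectSum.decompose 𝒜 r d : 𝒜 d) : R) • (m : M) = 0 := by
  classical
  have h1 : r • (m : M) = ∑ e ∈ (DirectSum.decompose 𝒜 r).support,
      ((DirectSum.decompose 𝒜 r e : 𝒜 e) : R) • (m : M) := by
    conv_lhs => rw [← DirectSum.sum_support_decompose 𝒜 r]
    rw [Finset.sum_smul]
  have h2 : ∀ e, ((DirectSum.decompose ℳ (((DirectSum.decompose 𝒜 r e : 𝒜 e) : R) • (m : M))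
      (d + i) : ℳ (d + i)) : M) =
      if e = d then ((DirectSum.decompose 𝒜 r e : 𝒜 e) : R) • (m : M) else 0 := by
    intro e
    have hm : ((DirectSum.decompose 𝒜 r e : 𝒜 e) : R) • (m : M) ∈ ℳ (e + i) :=
      SetLike.GradedSMul.smul_mem (DirectSum.decompose 𝒜 r e).2 m.2
    split_ifs with h
    · subst h
      exact DirectSum.decompose_of_mem_same ℳ hm
    · exact DirectSum.decompose_of_mem_ne ℳ hm (by omega)
  have h3 : ((DirectSum.decompose ℳ (r • (m : M)) (d + i) : ℳ (d + i)) : M) = 0 := by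
    rw [hr, DirectSum.decompose_zero]
    rfl
  rw [h1, DirectSum.decompose_sum, DirectSum.sum_apply, AddSubmonoidClass.coe_finsetSum] at h3
  simp_rw [h2] at h3
  rw [Finset.sum_ite_eq'] at h3
  split_ifs at h3 with hd
  · exact h3
  · rw [DFinsupp.notMem_support_iff] at hd
    rw [hd, ZeroMemClass.coe_zero, zero_smul]

theorem alpha_eq_zero_iff {i : ℕ} (m : ℳ i) :
    GrMod.alpha 𝒜 ℳ i m = 0 ↔ ∀ x : ProjectiveSpectrum 𝒜,
      (LocalizedModule.mk (m : M) 1 : GrMod.LocMod 𝒜 (M := M) x) = 0 := by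
  constructor
  · intro h x
    have h1 := congrArg (fun t : GrMod.sect 𝒜 ℳ (i : ℤ) (Opposite.op ⊤) =>
      ((t.1 ⟨x, TopologicalSpace.Opens.mem_top x⟩ : GrMod.tildeAt 𝒜 ℳ i x) :
        GrMod.LocMod 𝒜 (M := M) x)) h
    exact h1
  · intro h
    refine Subtype.ext (funext fun x => Subtype.ext ?_)
    exact h x.1

theorem mk_eq_zero_iff (m : M) (x : ProjectiveSpectrum 𝒜) :
    (LocalizedModule.mk m 1 : GrMod.LocMod 𝒜 (M := M) x) = 0 ↔
      ∃ s : R, s ∉ x.asHomogeneousIdeal.toIdeal ∧ s • m = 0 := by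
  have h1 := IsLocalizedModule.eq_zero_iff x.asHomogeneousIdeal.toIdeal.primeCompl
    (LocalizedModule.mkLinearMap x.asHomogeneousIdeal.toIdeal.primeCompl M) (m := m)
  rw [LocalizedModule.mkLinearMap_apply] at h1
  rw [h1]
  constructor
  · rintro ⟨s, hs⟩
    exact ⟨s.1, s.2, hs⟩
  · rintro ⟨s, hs, hsm⟩
    exact ⟨⟨s, hs⟩, hsm⟩

theorem main [IsNoetherianRing R] (i : ℕ) (m : ℳ i) :
    GrMod.alpha 𝒜 ℳ i m = 0 ↔
      ∃ k : ℕ, ∀ r : R, r ∈ (HomogeneousIdeal.irrelevant 𝒜).toIdeal ^ k → r • (m : M) = 0 := by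
  rw [alpha_eq_zero_iff]
  constructor
  · intro h
    let I : Ideal R := LinearMap.ker (LinearMap.toSpanSingleton R M (m : M))
    have hmem : ∀ r : R, r ∈ I ↔ r • (m : M) = 0 := by
      intro r
      rw [LinearMap.mem_ker, LinearMap.toSpanSingleton_apply]
    have hIhom : I.IsHomogeneous 𝒜 := by
      intro d r hr
      rw [hmem] at hr ⊢
      exact smul_proj_eq_zero 𝒜 ℳ m r hr d
    have hle : (HomogeneousIdeal.irrelevant 𝒜).toIdeal ≤ I.radical := by
      rw [hIhom.radical_eq]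
      refine le_sInf ?_
      rintro J ⟨hJhom, hIJ, hJprime⟩
      by_contra hnot
      have hnot' : ¬ HomogeneousIdeal.irrelevant 𝒜 ≤ (⟨J, hJhom⟩ : HomogeneousIdeal 𝒜) := by
        intro hle
        exact hnot (show (HomogeneousIdeal.irrelevant 𝒜).toIdeal ≤ J from hle)
      let x : ProjectiveSpectrum 𝒜 := ⟨⟨J, hJhom⟩, hJprime, hnot'⟩
      obtain ⟨s, hs, hsm⟩ := (mk_eq_zero_iff 𝒜 (m : M) x).1 (h x)
      exact hs (hIJ ((hmem s).2 hsm))
    obtain ⟨k, hk⟩ := Ideal.exists_pow_le_of_le_radical_of_fg hle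
      (IsNoetherian.noetherian _)
    exact ⟨k, fun r hr => (hmem r).1 (hk hr)⟩
  · rintro ⟨k, hk⟩ x
    rw [mk_eq_zero_iff]
    obtain ⟨r, hr, hrx⟩ := SetLike.not_le_iff_exists.1 x.not_irrelevant_le
    refine ⟨r ^ k, ?_, hk _ (Ideal.pow_mem_pow hr k)⟩
    intro hmem
    exact hrx (x.isPrime.mem_of_pow_mem k hmem)

end Groth.Agent.Helper6.GrAlpha
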