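import Groth.Agent.Lib.Helper6.LamGam3

/-!
# Adams operations act by `j^n` on `F^n/F^{n+1}` of the γ-filtration
-/

set_option autoImplicit false
universe u

namespace Groth.Agent.Helper6.LamGam

open LambdaRing Groth.Agent.Helper5.Lam Groth.Agent.Helper6.LamBott Finset

variable {C : Set PosLambdaRing.{u}} (hC : SplitClass C) (L : PosLambdaRing.{u}) (hL : L ∈ C) (j : ℕ)

/-- the Adams operation as a ring homomorphism. -/
noncomputable def adamsRingHom : L.carrier →+* L.carrier where
  toFun := adams L.posStr j
  map_one' := adams_one L.posStr j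
  map_mul' := adams_mul hC L hL j
  map_zero' := adams_zero L.posStr j
  map_add' := adams_add L.posStr j

theorem adamsRingHom_apply (x : L.carrier) : adamsRingHom hC L hL j x = adams L.posStr j x := rfl

include hC hL in
theorem adams_natCast (n : ℕ) : adams L.posStr j (n : L.carrier) = n :=
  map_natCast (adamsRingHom hC L hL j) n

include hC hL in
theorem adams_intCast (n : ℤ) : adams L.posStr j (n : L.carrier) = n :=
  map_intCast (adamsRingHom hC L hL j) n

/-- `z ∈ F^a` and `ψ^j z ≡ j^a z` mod `F^{a+1}`. -/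
def T (a : ℕ) (z : L.carrier) : Prop :=
  z ∈ gammaFiltration L.posStr a ∧
    adams L.posStr j z - (j : L.carrier) ^ a * z ∈ gammaFiltration L.posStr (a + 1)

variable {L j}

theorem T.adams_mem {a : ℕ} {z : L.carrier} (h : T L j a z) :
    adams L.posStr j z ∈ gammaFiltration L.posStr a := by
  have h1 : adams L.posStr j z = (adams L.posStr j z - (j : L.carrier) ^ a * z) +
      (j : L.carrier) ^ a * z := by ring
  rw [h1]
  exact AddSubgroup.add_mem _ (filt_anti L.posStr (Nat.le_succ a) h.2)
    (smul_mem_filt L.posStr _ h.1)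

theorem T.add {a : ℕ} {z w : L.carrier} (hz : T L j a z) (hw : T L j a w) : T L j a (z + w) := by
  refine ⟨AddSubgroup.add_mem _ hz.1 hw.1, ?_⟩
  have : adams L.posStr j (z + w) - (j : L.carrier) ^ a * (z + w) =
      (adams L.posStr j z - (j : L.carrier) ^ a * z) +
      (adams L.posStr j w - (j : L.carrier) ^ a * w) := by
    rw [adams_add]; ring
  rw [this]
  exact AddSubgroup.add_mem _ hz.2 hw.2

theorem T.zero (a : ℕ) : T L j a 0 := by
  refine ⟨AddSubgroup.zero_mem _, ?_⟩
  rw [adams_zero, mul_zero, sub_zero]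
  exact AddSubgroup.zero_mem _

theorem T.neg {a : ℕ} {z : L.carrier} (hz : T L j a z) : T L j a (-z) := by
  refine ⟨AddSubgroup.neg_mem _ hz.1, ?_⟩
  have : adams L.posStr j (-z) - (j : L.carrier) ^ a * (-z) =
      -(adams L.posStr j z - (j : L.carrier) ^ a * z) := by
    have h0 : adams L.posStr j (-z) = -adams L.posStr j z := by
      have := adams_sub L.posStr j 0 z
      rwa [zero_sub, adams_zero, zero_sub] at this
    rw [h0]; ring
  rw [this]
  exact AddSubgroup.neg_mem _ hz.2

theorem T.sum {ι : Type*} {a : ℕ} (s : Finset ι) (z : ι → L.carrier) (h : ∀ i ∈ s, T L j a (z i)) :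
    T L j a (∑ i ∈ s, z i) := by
  classical
  induction s using Finset.induction_on with
  | empty => simpa using T.zero a
  | insert i s hi ih =>
    rw [Finset.sum_insert hi]
    exact (h i (Finset.mem_insert_self i s)).add (ih fun k hk => h k (Finset.mem_insert_of_mem hk))

include hC hL in
theorem T.mul {a b : ℕ} {z w : L.carrier} (hz : T L j a z) (hw : T L j b w) :
    T L j (a + b) (z * w) := by
  refine ⟨mul_mem_filt L.posStr hz.1 hw.1, ?_⟩
  have : adams L.posStr j (z * w) - (j : L.carrier) ^ (a + b) * (z * w) =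
      (adams L.posStr j z - (j : L.carrier) ^ a * z) * adams L.posStr j w +
      ((j : L.carrier) ^ a * z) * (adams L.posStr j w - (j : L.carrier) ^ b * w) := by
    rw [adams_mul hC L hL, pow_add]; ring
  rw [this]
  refine AddSubgroup.add_mem _ ?_ ?_
  · have := mul_mem_filt L.posStr hz.2 hw.adams_mem
    have e : a + 1 + b = a + b + 1 := by omega
    rwa [e] at this
  · have := mul_mem_filt L.posStr (smul_mem_filt L.posStr ((j : L.carrier) ^ a) hz.1) hw.2
    have e : a + (b + 1) = a + b + 1 := by omega
    rwa [e] at this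

theorem T_one : T L j 0 (1 : L.carrier) := by
  refine ⟨one_mem_filt L.posStr, ?_⟩
  rw [adams_one, pow_zero, mul_one, sub_self]
  exact AddSubgroup.zero_mem _

include hC hL in
/-- the key identity: `ψ^j γ^r(e - m) - j^r γ^r(e - m)` is a universal polynomial of weight `> r` in
the `γ^k(e - m)`. -/
theorem key_identity (e : L.carrier) (he : e ∈ L.posStr.pos) (m : ℕ) (hm : L.posStr.aug e = m)
    (r : ℕ) :
    adams L.posStr j (gamma r (e - (m : L.carrier))) -
        (j : L.carrier) ^ r * gamma r (e - (m : L.carrier)) =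
      MvPolynomial.aeval (fun k : Fin m => gamma (k.1 + 1) (e - (m : L.carrier))) (Quniv j r m) := by
  obtain ⟨L', hL', φ, hφ, s, hs, hsum⟩ := hC L hL e he
  apply hφ.injective
  have hcard : Multiset.card s = m := by
    have := aug_lines L'.posStr s hs
    rw [hsum, hφ.aug_comp, hm] at this
    exact_mod_cast this.symm
  obtain ⟨u, hu⟩ : ∃ u : Fin m → L'.carrier, s = Finset.univ.val.map u := by
    obtain ⟨l, rfl⟩ : ∃ l : List L'.carrier, (↑l : Multiset _) = s :=
      ⟨s.toList, Multiset.coe_toList s⟩
    have hm' : m = l.length := by simpa using hcard.symm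
    subst hm'
    exact ⟨l.get, by rw [Fin.univ_val_map, List.ofFn_get]⟩
  have hline : ∀ i, L'.posStr.IsLine (u i) := by
    intro i
    apply hs
    rw [hu]
    exact Multiset.mem_map_of_mem u (Finset.mem_univ_val i)
  set a : Fin m → L'.carrier := fun i => u i - 1 with ha
  have hy : φ (e - (m : L.carrier)) = s.sum - (Multiset.card s : L'.carrier) := by
    rw [map_sub, map_natCast, hsum, hcard]
  have hgam : ∀ k, φ (gamma k (e - (m : L.carrier))) =
      MvPolynomial.aeval a (MvPolynomial.esymm (Fin m) ℤ k) := by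
    intro k
    rw [map_gamma hφ.isLambdaHom, hy, gamma_lines _ s hs, hu, Multiset.map_map,
      MvPolynomial.aeval_esymm_eq_multiset_esymm]
    rfl
  have hadams : adams L'.posStr j (MvPolynomial.aeval a (MvPolynomial.esymm (Fin m) ℤ r)) =
      MvPolynomial.aeval a (MvPolynomial.aeval
        (fun i : Fin m => ((1 : MvPolynomial (Fin m) ℤ) + MvPolynomial.X i) ^ j - 1)
        (MvPolynomial.esymm (Fin m) ℤ r)) := by
    rw [← adamsRingHom_apply hC L' hL' j]
    have h1 := MvPolynomial.comp_aeval_apply (f := a) (adamsRingHom hC L' hL' j).toIntAlgHom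
      (MvPolynomial.esymm (Fin m) ℤ r)
    have h2 := MvPolynomial.comp_aeval_apply
      (f := fun i : Fin m => ((1 : MvPolynomial (Fin m) ℤ) + MvPolynomial.X i) ^ j - 1)
      (MvPolynomial.aeval a : MvPolynomial (Fin m) ℤ →ₐ[ℤ] L'.carrier)
      (MvPolynomial.esymm (Fin m) ℤ r)
    rw [h2]
    refine h1.trans ?_
    congr 2
    funext i
    show adams L'.posStr j (a i) = _
    rw [ha]
    simp only [map_sub, map_pow, map_add, map_one, MvPolynomial.aeval_X]
    rw [adams_sub, adams_one, adams_line L'.posStr (hline i)]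
    ring_nf
  have hR : φ (MvPolynomial.aeval (fun k : Fin m => gamma (k.1 + 1) (e - (m : L.carrier)))
      (Quniv j r m)) = MvPolynomial.aeval a (E m (Quniv j r m)) := by
    have h1 := MvPolynomial.comp_aeval_apply
      (f := fun k : Fin m => gamma (k.1 + 1) (e - (m : L.carrier))) φ.toIntAlgHom (Quniv j r m)
    have h2 := MvPolynomial.comp_aeval_apply
      (f := fun k : Fin m => MvPolynomial.esymm (Fin m) ℤ (k.1 + 1))
      (MvPolynomial.aeval a : MvPolynomial (Fin m) ℤ →ₐ[ℤ] L'.carrier) (Quniv j r m)
    rw [E, h2]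
    refine h1.trans ?_
    congr 2
    funext k
    exact hgam (k.1 + 1)
  rw [hR, E_Quniv, Puniv, map_sub, map_mul, map_pow, map_natCast, map_sub, map_mul, map_pow,
    map_natCast, map_adams hφ, hgam r, hadams]

include hC hL in
theorem T_gamma_pos (e : L.carrier) (he : e ∈ L.posStr.pos) (m : ℕ) (hm : L.posStr.aug e = m)
    (r : ℕ) : T L j r (gamma r (e - (m : L.carrier))) := by
  have haug : L.posStr.aug (e - (m : L.carrier)) = 0 := by
    rw [map_sub, map_natCast, hm]; simp
  refine ⟨gamma_mem L.posStr r _ haug, ?_⟩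
  rw [key_identity hC hL e he m hm r]
  exact aeval_mem L.posStr m (r + 1) _ (Quniv_wtGE j r m) _
    (fun k => gamma_mem L.posStr (k.1 + 1) _ haug)

theorem gamma_zero_arg (r : ℕ) : gamma r (0 : L.carrier) = if r = 0 then 1 else 0 := by
  rw [← coeff_gamSeries, gamSeries_zero, PowerSeries.coeff_one]

include hC hL in
/-- if all `γ^r(y)` satisfy `T`, so do all `γ^r(-y)`. -/
theorem T_gamma_neg (y : L.carrier) (h : ∀ r, T L j r (gamma r y)) :
    ∀ r, T L j r (gamma r (-y)) := by
  intro r
  induction r using Nat.strong_induction_on with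
  | _ r ih =>
    by_cases hr : r = 0
    · subst hr
      have : gamma 0 (-y) = 1 := by simp [gamma]
      rw [this]
      exact T_one
    · have h1 := gamma_add r (-y) y
      rw [neg_add_cancel, gamma_zero_arg, if_neg hr, Finset.sum_range_succ, Nat.sub_self] at h1
      have h2 : gamma 0 y = 1 := by simp [gamma]
      rw [h2, mul_one] at h1
      have h3 : gamma r (-y) = -∑ i ∈ range r, gamma i (-y) * gamma (r - i) y := by
        rw [eq_neg_iff_add_eq_zero, add_comm]; exact h1.symm
      rw [h3]
      apply T.neg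
      apply T.sum
      intro i hi
      have hir : i < r := Finset.mem_range.mp hi
      have := T.mul hC hL (ih i hir) (h (r - i))
      have e : i + (r - i) = r := by omega
      rwa [e] at this

include hC hL in
/-- `T` for `γ^r(x)`, `ε(x) = 0`. -/
theorem T_gamma (x : L.carrier) (hx : L.posStr.aug x = 0) (r : ℕ) : T L j r (gamma r x) := by
  obtain ⟨e, f, he, hf, rfl⟩ := L.posStr.exists_sub x
  have hepos := L.posStr.aug_pos e he
  obtain ⟨m, hm⟩ := Int.eq_ofNat_of_zero_le hepos.le
  have hfm : L.posStr.aug f = m := by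
    rw [map_sub] at hx
    rw [← hm]; omega
  have e1 : e - f = (e - (m : L.carrier)) + -(f - (m : L.carrier)) := by ring
  rw [e1, gamma_add]
  apply T.sum
  intro i hi
  have hir : i ≤ r := by have := Finset.mem_range.mp hi; omega
  have h1 := T_gamma_pos hC hL (j := j) e he m hm i
  have h2 := T_gamma_neg hC hL (j := j) (f - (m : L.carrier))
    (fun k => T_gamma_pos hC hL f hf m hfm k) (r - i)
  have := T.mul hC hL h1 h2
  have e2 : i + (r - i) = r := by omega
  rwa [e2] at this

include hC hL in
theorem T_list (l : List (ℕ × L.carrier)) (hl : ∀ p ∈ l, L.posStr.aug p.2 = 0) :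
    T L j (l.map Prod.fst).sum (l.map fun p => gamma p.1 p.2).prod := by
  induction l with
  | nil => simpa using T_one
  | cons p l ih =>
    rw [List.map_cons, List.map_cons, List.sum_cons, List.prod_cons]
    exact T.mul hC hL (T_gamma hC hL p.2 (hl p List.mem_cons_self) p.1)
      (ih fun q hq => hl q (List.mem_cons_of_mem p hq))

include hC hL in
/-- **Adams operations on the γ-filtration**: `ψ^j x - j^n x ∈ F^{n+1}` for `x ∈ F^n`, `n ≥ 1`. -/
theorem adams_sub_mem_pos (n : ℕ) (hn : n ≠ 0) (x : L.carrier)
    (hx : x ∈ gammaFiltration L.posStr n) :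
    adams L.posStr j x - (j : L.carrier) ^ n * x ∈ gammaFiltration L.posStr (n + 1) := by
  rw [Groth.Agent.S3291.filt_pos L.posStr n hn] at hx
  induction hx using AddSubgroup.closure_induction with
  | mem y hy =>
    obtain ⟨l, hl, hsum, rfl⟩ := hy
    have hT := T_list hC hL (j := j) l hl
    set N := (l.map Prod.fst).sum with hN
    set y := (l.map fun p => gamma p.1 p.2).prod with hy
    by_cases hNn : N = n
    · rw [← hNn]; exact hT.2
    · have hlt : n + 1 ≤ N := by omega
      refine AddSubgroup.sub_mem _ (filt_anti L.posStr hlt hT.adams_mem) ?_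
      exact smul_mem_filt L.posStr _ (filt_anti L.posStr hlt hT.1)
  | zero =>
    rw [adams_zero, mul_zero, sub_zero]
    exact AddSubgroup.zero_mem _
  | add y z _ _ hy hz =>
    have : adams L.posStr j (y + z) - (j : L.carrier) ^ n * (y + z) =
        (adams L.posStr j y - (j : L.carrier) ^ n * y) +
        (adams L.posStr j z - (j : L.carrier) ^ n * z) := by
      rw [adams_add]; ring
    rw [this]
    exact AddSubgroup.add_mem _ hy hz
  | neg y _ hy =>
    have h0 : adams L.posStr j (-y) = -adams L.posStr j y := by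
      have := adams_sub L.posStr j 0 y
      rwa [zero_sub, adams_zero, zero_sub] at this
    have : adams L.posStr j (-y) - (j : L.carrier) ^ n * (-y) =
        -(adams L.posStr j y - (j : L.carrier) ^ n * y) := by
      rw [h0]; ring
    rw [this]
    exact AddSubgroup.neg_mem _ hy

include hC hL in
/-- the case `n = 0`: `ψ^j x - x ∈ F^1`. -/
theorem adams_sub_mem_zero (x : L.carrier) :
    adams L.posStr j x - x ∈ gammaFiltration L.posStr 1 := by
  set x₀ : L.carrier := x - ((L.posStr.aug x : ℤ) : L.carrier) with hx₀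
  have h0 : L.posStr.aug x₀ = 0 := by
    rw [hx₀, map_sub, map_intCast]; simp
  have hT := T_gamma hC hL (j := j) x₀ h0 1
  rw [Groth.Agent.S3291.gamma_one] at hT
  have e : adams L.posStr j x - x = (adams L.posStr j x₀ - (j : L.carrier) ^ 1 * x₀) +
      ((j : L.carrier) ^ 1 * x₀ - x₀) := by
    have hx : x = x₀ + ((L.posStr.aug x : ℤ) : L.carrier) := by rw [hx₀]; ring
    conv_lhs => rw [hx, adams_add, adams_intCast hC L hL j]
    ring
  rw [e]
  refine AddSubgroup.add_mem _ (filt_anti L.posStr (Nat.le_succ 1) hT.2) ?_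
  exact AddSubgroup.sub_mem _ (smul_mem_filt L.posStr _ hT.1) hT.1

include hC hL in
theorem adams_sub_mem (n : ℕ) (x : L.carrier) (hx : x ∈ gammaFiltration L.posStr n) :
    adams L.posStr j x - (j : L.carrier) ^ n * x ∈ gammaFiltration L.posStr (n + 1) := by
  by_cases hn : n = 0
  · subst hn
    rw [pow_zero, one_mul]
    exact adams_sub_mem_zero hC hL x
  · exact adams_sub_mem_pos hC hL n hn x hx

end Groth.Agent.Helper6.LamGam
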