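import Mathlib
import Groth.Agent.Lib.Helper6.LamGam4

/-!
# Newton's identities between γ-operations and finite differences of Adams operations
-/

set_option autoImplicit false
universe u

namespace Groth.Agent.Helper6.GrNewton

open LambdaRing Groth.Agent.Helper5.Lam Groth.Agent.Helper6.LamBott Groth.Agent.Helper6.LamGam Finset

section Series

variable {K : Type u} [CommRing K]

/-- Euler operator `t d/dt` on power series -/
noncomputable def theta (G : PowerSeries K) : PowerSeries K :=
  PowerSeries.mk fun k => (k : K) * PowerSeries.coeff k G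

theorem theta_mul (G H : PowerSeries K) : theta (G * H) = theta G * H + G * theta H := by
  ext k
  simp only [theta, map_add, PowerSeries.coeff_mk, PowerSeries.coeff_mul]
  rw [Finset.mul_sum, ← Finset.sum_add_distrib]
  refine Finset.sum_congr rfl fun a ha => ?_
  have : a.1 + a.2 = k := Finset.HasAntidiagonal.mem_antidiagonal.mp ha
  rw [← this]; push_cast; ring

theorem theta_one : theta (1 : PowerSeries K) = 0 := by
  ext k
  simp only [theta, PowerSeries.coeff_mk, PowerSeries.coeff_one, map_zero]
  split_ifs with h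
  · subst h; simp
  · simp

theorem sign_form (e p : ℕ → K) (k : ℕ) :
    (-1 : K) ^ (k + 1) * ∑ a ∈ (antidiagonal k).filter (fun a => a.1 < k),
        (-1) ^ a.1 * e a.1 * p a.2 =
    ∑ a ∈ antidiagonal k, e a.1 * (if a.2 = 0 then 0 else (-1) ^ (a.2 + 1) * p a.2) := by
  rw [Finset.sum_filter, Finset.mul_sum]
  refine sum_congr rfl fun a ha => ?_
  have hk : a.1 + a.2 = k := Finset.HasAntidiagonal.mem_antidiagonal.mp ha
  by_cases h : a.2 = 0
  · have : ¬ a.1 < k := by omega
    rw [if_neg this, if_pos h]; simp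
  · have h1 : a.1 < k := by omega
    rw [if_pos h1, if_neg h]
    have h2 : (-1 : K) ^ (k + 1) * (-1) ^ a.1 = (-1) ^ (a.2 + 1) := by
      rw [← pow_add, ← hk]
      have : a.1 + a.2 + 1 + a.1 = (a.2 + 1) + 2 * a.1 := by ring
      rw [this, pow_add, pow_mul]; simp
    rw [← h2]; ring

theorem stirling (n : ℕ) :
    ∑ j ∈ range (n + 1), ((-1 : ℤ) ^ (n - j) * (n.choose j : ℤ)) * (j : ℤ) ^ n =
      (n.factorial : ℤ) := by
  have h1 := fwdDiff_iter_eq_sum_shift (1 : ℤ) (fun r : ℤ => r ^ n) n 0
  rw [fwdDiff_iter_eq_factorial] at h1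
  simpa using h1.symm

end Series

section Def

variable {K : Type u} [CommRing K] [LambdaOps K] (P : PosStructure K)

/-- `Q_k(y) = Σ_{j ≤ k} (-1)^{k-j} C(k,j) ψ^j(y)`: the `k`-th finite difference of `j ↦ ψ^j y`. -/
noncomputable def Q (k : ℕ) (y : K) : K :=
  ∑ j ∈ range (k + 1), ((-1 : K) ^ (k - j) * (k.choose j : K)) * adams P j y

theorem Q_add (k : ℕ) (y z : K) : Q P k (y + z) = Q P k y + Q P k z := by
  unfold Q
  rw [← Finset.sum_add_distrib]
  refine sum_congr rfl fun j _ => ?_
  rw [adams_add]; ring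

theorem Q_zero (k : ℕ) : Q P k 0 = 0 := by
  unfold Q
  simp [adams_zero]

theorem Q_neg (k : ℕ) (y : K) : Q P k (-y) = -Q P k y := by
  have := Q_add P k y (-y)
  rw [add_neg_cancel, Q_zero] at this
  rw [eq_neg_iff_add_eq_zero, add_comm]; exact this.symm

theorem Q_sub (k : ℕ) (y z : K) : Q P k (y - z) = Q P k y - Q P k z := by
  rw [sub_eq_add_neg, Q_add, Q_neg, ← sub_eq_add_neg]

/-- signed version of `Q`, vanishing in degree `0`. -/
noncomputable def qs (y : K) (j : ℕ) : K := if j = 0 then 0 else (-1 : K) ^ (j + 1) * Q P j y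

noncomputable def QS (y : K) : PowerSeries K := PowerSeries.mk (qs P y)

theorem QS_add (y z : K) : QS P (y + z) = QS P y + QS P z := by
  ext j
  simp only [QS, qs, PowerSeries.coeff_mk, map_add]
  split_ifs
  · simp
  · rw [Q_add]; ring

theorem QS_neg (y : K) : QS P (-y) = -QS P y := by
  ext j
  simp only [QS, qs, PowerSeries.coeff_mk, map_neg]
  split_ifs
  · simp
  · rw [Q_neg]; ring

/-- Newton's identities in power series form. -/
def NI (y : K) : Prop := theta (gamSeries y) = gamSeries y * QS P y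

variable {P}

theorem NI.add {y z : K} (hy : NI P y) (hz : NI P z) : NI P (y + z) := by
  unfold NI at *
  rw [gamSeries_add, theta_mul, hy, hz, QS_add]
  ring

theorem NI.neg {y : K} (hy : NI P y) : NI P (-y) := by
  unfold NI at *
  have h1 : gamSeries (-y) * gamSeries y = 1 := by
    rw [← gamSeries_add, neg_add_cancel, gamSeries_zero]
  have h2 := congrArg theta h1
  rw [theta_mul, theta_one, hy] at h2
  rw [QS_neg]
  have h3 : theta (gamSeries (-y)) =
      theta (gamSeries (-y)) * (gamSeries (-y) * gamSeries y) := by rw [h1, mul_one]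
  rw [h3]
  linear_combination (gamSeries (-y)) * h2 - (gamSeries (-y) * QS P y) * h1

theorem NI_iff (y : K) : NI P y ↔ ∀ k : ℕ, (k : K) * gamma k y =
    (-1 : K) ^ (k + 1) * ∑ a ∈ (antidiagonal k).filter (fun a => a.1 < k),
        (-1) ^ a.1 * gamma a.1 y * Q P a.2 y := by
  unfold NI
  rw [PowerSeries.ext_iff]
  refine forall_congr' fun k => ?_
  rw [sign_form (fun i => gamma i y) (fun j => Q P j y) k]
  simp only [theta, QS, PowerSeries.coeff_mk, PowerSeries.coeff_mul, coeff_gamSeries, qs]

theorem Q_line_sub_one {v : K} (hv : P.IsLine v) {k : ℕ} (hk : k ≠ 0) :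
    Q P k (v - 1) = (v - 1) ^ k := by
  unfold Q
  have h1 : ∀ j, adams P j (v - 1) = v ^ j - 1 := fun j => by
    rw [adams_sub, adams_line P hv, adams_one]
  simp only [h1]
  have e1 : (v - 1) ^ k = ∑ j ∈ range (k + 1), v ^ j * (-1) ^ (k - j) * (k.choose j : K) := by
    rw [sub_eq_add_neg, add_pow]
  have e2 : (0 : K) = ∑ j ∈ range (k + 1), 1 ^ j * (-1) ^ (k - j) * (k.choose j : K) := by
    have := add_pow (1 : K) (-1) k
    rw [add_neg_cancel, zero_pow hk] at this
    exact this
  have e3 : (v - 1) ^ k = (v - 1) ^ k - 0 := (sub_zero _).symm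
  rw [e3]
  conv_rhs => rw [e1, e2]
  rw [← Finset.sum_sub_distrib]
  refine sum_congr rfl fun j _ => ?_
  ring

theorem Q_lines (s : Multiset K) (hs : ∀ v ∈ s, P.IsLine v) {k : ℕ} (hk : k ≠ 0) :
    Q P k (s.sum - (Multiset.card s : K)) = (s.map fun v => (v - 1) ^ k).sum := by
  induction s using Multiset.induction_on with
  | empty => simp [Q_zero]
  | cons v t ih =>
    have hv : P.IsLine v := hs v (Multiset.mem_cons_self v t)
    have ht : ∀ w ∈ t, P.IsLine w := fun w hw => hs w (Multiset.mem_cons_of_mem hw)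
    have e : (v ::ₘ t).sum - ((Multiset.card (v ::ₘ t) : ℕ) : K) =
        (v - 1) + (t.sum - (Multiset.card t : K)) := by
      rw [Multiset.sum_cons, Multiset.card_cons]; push_cast; ring
    rw [e, Q_add, ih ht, Q_line_sub_one hv hk, Multiset.map_cons, Multiset.sum_cons]

theorem map_Q {K' : Type u} [CommRing K'] [LambdaOps K'] {P' : PosStructure K'} {f : K →+* K'}
    (hf : IsExtension P P' f) (k : ℕ) (y : K) : f (Q P k y) = Q P' k (f y) := by
  unfold Q
  rw [map_sum]
  refine sum_congr rfl fun j _ => ?_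
  rw [map_mul, map_mul, map_pow, map_neg, map_one, map_natCast, map_adams hf]

end Def

section Class

variable {C : Set PosLambdaRing.{u}} (hC : SplitClass C) (L : PosLambdaRing.{u}) (hL : L ∈ C)

include hC hL in
theorem newton_pos (e : L.carrier) (he : e ∈ L.posStr.pos) (m : ℕ) (hm : L.posStr.aug e = m)
    (k : ℕ) :
    (k : L.carrier) * gamma k (e - (m : L.carrier)) =
      (-1 : L.carrier) ^ (k + 1) * ∑ a ∈ (antidiagonal k).filter (fun a => a.1 < k),
        (-1) ^ a.1 * gamma a.1 (e - (m : L.carrier)) * Q L.posStr a.2 (e - (m : L.carrier)) := by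
  obtain ⟨L', hL', φ, hφ, s, hs, hsum⟩ := hC L hL e he
  apply hφ.injective
  have hcard : Multiset.card s = m := by
    have := aug_lines L'.posStr s hs
    rw [hsum, hφ.aug_comp, hm] at this
    exact_mod_cast this.symm
  obtain ⟨u, hu⟩ : ∃ u : Fin m → L'.carrier, s = Finset.univ.val.map u := by
    obtain ⟨l, rfl⟩ : ∃ l : List L'.carrier, (↑l : Multiset _) = s :=
      ⟨s.toList, Multiset.coe_toList s⟩
    have hm' : m = l.length := by simpa using hcard.symm
    subst hm'
    exact ⟨l.get, by rw [Fin.univ_val_map, List.ofFn_get]⟩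
  set a : Fin m → L'.carrier := fun i => u i - 1 with ha
  have hy : φ (e - (m : L.carrier)) = s.sum - (Multiset.card s : L'.carrier) := by
    rw [map_sub, map_natCast, hsum, hcard]
  have hgam : ∀ i, φ (gamma i (e - (m : L.carrier))) =
      MvPolynomial.aeval a (MvPolynomial.esymm (Fin m) ℤ i) := by
    intro i
    rw [map_gamma hφ.isLambdaHom, hy, gamma_lines _ s hs, hu, Multiset.map_map,
      MvPolynomial.aeval_esymm_eq_multiset_esymm]
    rfl
  have hQ : ∀ j, j ≠ 0 → φ (Q L.posStr j (e - (m : L.carrier))) =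
      MvPolynomial.aeval a (MvPolynomial.psum (Fin m) ℤ j) := by
    intro j hj
    rw [map_Q hφ, hy, Q_lines s hs hj, hu, Multiset.map_map, MvPolynomial.psum, map_sum]
    simp only [map_pow, MvPolynomial.aeval_X]
    rfl
  have hN := congrArg (MvPolynomial.aeval a) (MvPolynomial.mul_esymm_eq_sum (Fin m) ℤ k)
  rw [map_mul, map_natCast, map_mul, map_pow, map_neg, map_one, map_sum] at hN
  rw [map_mul, map_natCast, hgam, hN, map_mul, map_pow, map_neg, map_one, map_sum]
  congr 1
  refine sum_congr rfl fun b hb => ?_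
  have hb2 : b.2 ≠ 0 := by
    rw [mem_filter, Finset.HasAntidiagonal.mem_antidiagonal] at hb
    omega
  rw [map_mul, map_mul, map_pow, map_neg, map_one, map_mul, map_mul, map_pow, map_neg, map_one,
    hgam, hQ _ hb2]

include hC hL in
theorem NI_all (x : L.carrier) (hx : L.posStr.aug x = 0) : NI L.posStr x := by
  obtain ⟨e, f, he, hf, rfl⟩ := L.posStr.exists_sub x
  have hepos := L.posStr.aug_pos e he
  obtain ⟨m, hm⟩ := Int.eq_ofNat_of_zero_le hepos.le
  have hfm : L.posStr.aug f = m := by
    rw [map_sub] at hx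
    rw [← hm]; omega
  have e1 : e - f = (e - (m : L.carrier)) + -(f - (m : L.carrier)) := by ring
  rw [e1]
  exact ((NI_iff _).mpr (newton_pos hC L hL e he m hm)).add
    ((NI_iff _).mpr (newton_pos hC L hL f hf m hfm)).neg

include hC hL in
theorem newton (x : L.carrier) (hx : L.posStr.aug x = 0) (k : ℕ) :
    (k : L.carrier) * gamma k x =
      (-1 : L.carrier) ^ (k + 1) * ∑ a ∈ (antidiagonal k).filter (fun a => a.1 < k),
        (-1) ^ a.1 * gamma a.1 x * Q L.posStr a.2 x :=
  (NI_iff x).mp (NI_all hC L hL x hx) k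

end Class

section Tri

variable {C : Set PosLambdaRing.{u}} (hC : SplitClass C) (L : PosLambdaRing.{u}) (hL : L ∈ C)

include hC hL in
theorem adams_mem (n : ℕ) (x : L.carrier) (hx : x ∈ gammaFiltration L.posStr n) (j : ℕ) :
    adams L.posStr j x ∈ gammaFiltration L.posStr n := by
  have h := adams_sub_mem hC hL (j := j) n x hx
  have e : adams L.posStr j x =
      (adams L.posStr j x - (j : L.carrier) ^ n * x) + (j : L.carrier) ^ n * x := by ring
  rw [e]
  exact add_mem (filt_anti L.posStr (Nat.le_succ n) h) (smul_mem_filt L.posStr _ hx)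

include hC hL in
theorem Q_mem_of_mem (n : ℕ) (x : L.carrier) (hx : x ∈ gammaFiltration L.posStr n) (k : ℕ) :
    Q L.posStr k x ∈ gammaFiltration L.posStr n := by
  unfold Q
  exact AddSubgroup.sum_mem _ fun j _ =>
    smul_mem_filt L.posStr _ (adams_mem hC L hL n x hx j)

include hC hL in
theorem Q_sub_factorial (n : ℕ) (x : L.carrier) (hx : x ∈ gammaFiltration L.posStr n) :
    Q L.posStr n x - (n.factorial : L.carrier) * x ∈ gammaFiltration L.posStr (n + 1) := by
  have hst : (n.factorial : L.carrier) = ∑ j ∈ range (n + 1),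
      ((-1 : L.carrier) ^ (n - j) * (n.choose j : L.carrier)) * (j : L.carrier) ^ n := by
    have := congrArg (Int.cast : ℤ → L.carrier) (stirling n)
    push_cast at this
    exact this.symm
  unfold Q
  rw [hst, Finset.sum_mul, ← Finset.sum_sub_distrib]
  refine AddSubgroup.sum_mem _ fun j _ => ?_
  have h := adams_sub_mem hC hL (j := j) n x hx
  have e : (-1 : L.carrier) ^ (n - j) * (n.choose j : L.carrier) * adams L.posStr j x -
      (-1) ^ (n - j) * (n.choose j : L.carrier) * (j : L.carrier) ^ n * x =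
      ((-1) ^ (n - j) * (n.choose j : L.carrier)) *
        (adams L.posStr j x - (j : L.carrier) ^ n * x) := by ring
  rw [e]
  exact smul_mem_filt L.posStr _ h

include hC hL in
theorem qs_mem (y : L.carrier) (hy : L.posStr.aug y = 0) :
    ∀ k, qs L.posStr y k ∈ gammaFiltration L.posStr k := by
  intro k
  induction k using Nat.strong_induction_on with
  | _ k ih =>
    by_cases hk : k = 0
    · subst hk; rw [Groth.Agent.S3291.filt_zero]; trivial
    · have h1 := newton hC L hL y hy k
      rw [sign_form (fun i => gamma i y) (fun j => Q L.posStr j y) k] at h1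
      change (k : L.carrier) * gamma k y =
        ∑ a ∈ antidiagonal k, gamma a.1 y * qs L.posStr y a.2 at h1
      rw [Finset.Nat.sum_antidiagonal_eq_sum_range_succ
        (fun i j => gamma i y * qs L.posStr y j), Finset.sum_range_succ'] at h1
      have hg0 : gamma 0 y = 1 := by simp [gamma]
      rw [hg0, one_mul, Nat.sub_zero] at h1
      have h2 : qs L.posStr y k = (k : L.carrier) * gamma k y -
          ∑ i ∈ range k, gamma (i + 1) y * qs L.posStr y (k - (i + 1)) := by
        rw [h1]; ring
      rw [h2]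
      refine sub_mem (smul_mem_filt _ _ (gamma_mem _ k y hy))
        (AddSubgroup.sum_mem _ fun i hi => ?_)
      have hik : i < k := mem_range.mp hi
      have := mul_mem_filt L.posStr (gamma_mem L.posStr (i + 1) y hy)
        (ih (k - (i + 1)) (by omega))
      have e : i + 1 + (k - (i + 1)) = k := by omega
      rwa [e] at this

theorem Q_eq_qs {K : Type u} [CommRing K] [LambdaOps K] (P : PosStructure K) (y : K) {k : ℕ}
    (hk : k ≠ 0) : Q P k y = (-1) ^ (k + 1) * qs P y k := by
  rw [qs, if_neg hk, ← mul_assoc, ← pow_add, ← two_mul, pow_mul]; simp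

include hC hL in
theorem Q_mem (y : L.carrier) (hy : L.posStr.aug y = 0) (k : ℕ) :
    Q L.posStr k y ∈ gammaFiltration L.posStr k := by
  by_cases hk : k = 0
  · subst hk; rw [Groth.Agent.S3291.filt_zero]; trivial
  · rw [Q_eq_qs _ y hk]
    exact smul_mem_filt _ _ (qs_mem hC L hL y hy k)

end Tri

end Groth.Agent.Helper6.GrNewton
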