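import Groth.Prelude.Def_KRR
import Groth.Agent.Lib.Helper5.Lambda5
import Mathlib.RingTheory.Polynomial.Vieta

/-!
# Bott's cannibalistic class: `ψ^j(λ_{-1} e) = λ_{-1}(e) θ^j(e)`
-/

set_option autoImplicit false
universe v u

namespace Groth.Agent.Helper6.LamBott

open Finset LambdaRing Groth.Agent.Helper5.Lam

section Esymm

variable {R : Type u} [CommRing R]

theorem esymm_zero' (s : Multiset R) : s.esymm 0 = 1 := by
  simp [Multiset.esymm]

theorem esymm_cons (a : R) (s : Multiset R) (n : ℕ) :
    (a ::ₘ s).esymm (n + 1) = s.esymm (n + 1) + a * s.esymm n := by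
  simp only [Multiset.esymm, Multiset.powersetCard_cons, Multiset.map_add, Multiset.sum_add,
    Multiset.map_map, Function.comp_def, Multiset.prod_cons]
  rw [Multiset.sum_map_mul_left]

theorem prod_one_add_CX (s : Multiset R) :
    (s.map fun v => (1 : PowerSeries R) + PowerSeries.C v * PowerSeries.X).prod =
      PowerSeries.mk fun i => s.esymm i := by
  induction s using Multiset.induction_on with
  | empty =>
    ext i
    rcases i with _ | i
    · simp [esymm_zero']
    · simp [Multiset.esymm, Multiset.powersetCard_zero_right, PowerSeries.coeff_one]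
  | cons v t ih =>
    rw [Multiset.map_cons, Multiset.prod_cons, ih]
    ext i
    rcases i with _ | i
    · simp [esymm_zero']
    · rw [add_mul, one_mul, map_add, PowerSeries.coeff_mk, PowerSeries.coeff_mk, esymm_cons,
        mul_comm (PowerSeries.C v) PowerSeries.X, mul_assoc, PowerSeries.coeff_succ_X_mul,
        PowerSeries.coeff_C_mul, PowerSeries.coeff_mk]

/-- `Σ (-1)^i e_i(s) = Π (1 - u)`. -/
theorem sum_neg_esymm (s : Multiset R) :
    ∑ i ∈ range (Multiset.card s + 1), (-1 : R) ^ i * s.esymm i = (s.map fun u => 1 - u).prod := by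
  have h := congrArg (Polynomial.eval (1 : R)) (Multiset.prod_X_sub_X_eq_sum_esymm s)
  rw [Polynomial.eval_multiset_prod, Multiset.map_map, Polynomial.eval_finset_sum] at h
  have e1 : (Polynomial.eval (1 : R) ∘ fun t => (Polynomial.X - Polynomial.C t : Polynomial R)) =
      fun u => 1 - u := by
    funext u; simp
  rw [e1] at h
  rw [h]
  refine Finset.sum_congr rfl fun i _ => ?_
  simp

theorem prod_one_sub_pow (s : Multiset R) (j : ℕ) :
    (s.map fun u => 1 - u ^ j).prod =
      (s.map fun u => 1 - u).prod * (s.map fun u => ∑ k ∈ range j, u ^ k).prod := by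
  rw [← Multiset.prod_map_mul]
  congr 1
  refine Multiset.map_congr rfl fun u _ => ?_
  rw [mul_neg_geom_sum]

theorem aeval_bottPoly (j m : ℕ) (u : Fin m → R) :
    MvPolynomial.aeval (fun i : Fin m => (Finset.univ.val.map u).esymm (i.1 + 1)) (KRR.bottPoly j m) =
      ∏ i : Fin m, ∑ k ∈ range j, (u i) ^ k := by
  have h1 : (fun i : Fin m => (Finset.univ.val.map u).esymm (i.1 + 1)) =
      fun i : Fin m => MvPolynomial.aeval u (MvPolynomial.esymm (Fin m) ℤ (i.1 + 1)) := by
    funext i
    exact (MvPolynomial.aeval_esymm_eq_multiset_esymm _ _ _ _).symm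
  rw [h1, ← MvPolynomial.comp_aeval_apply
    (f := fun i : Fin m => MvPolynomial.esymm (Fin m) ℤ (i.1 + 1)) (MvPolynomial.aeval u)
    (KRR.bottPoly j m)]
  have h2 : MvPolynomial.aeval (fun i : Fin m => MvPolynomial.esymm (Fin m) ℤ (i.1 + 1))
      (KRR.bottPoly j m) = KRR.bottSym j m := by
    rw [← MvPolynomial.esymmAlgHom_apply]
    have : MvPolynomial.esymmAlgHom (Fin m) ℤ m (KRR.bottPoly j m) =
        ⟨KRR.bottSym j m, KRR.bottSym_isSymmetric j m⟩ := by
      unfold KRR.bottPoly
      exact (MvPolynomial.esymmAlgEquiv (Fin m) ℤ (Fintype.card_fin m)).apply_symm_apply _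
    rw [this]
  rw [h2, KRR.bottSym]
  simp

end Esymm

section Lam

variable {K : Type u} [CommRing K] [LambdaOps K]

theorem lam_lines (P : PosStructure K) (s : Multiset K) (hs : ∀ v ∈ s, P.IsLine v) (i : ℕ) :
    LambdaOps.lam i s.sum = s.esymm i := by
  have h := congrArg (PowerSeries.coeff i) (lamSeries_lines P s hs)
  rw [prod_one_add_CX, PowerSeries.coeff_mk] at h
  rw [← h]; simp [lamSeries]

theorem aug_lines (P : PosStructure K) (s : Multiset K) (hs : ∀ v ∈ s, P.IsLine v) :
    P.aug s.sum = Multiset.card s := by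
  have := aug_lam_lines P s hs 1
  rw [LambdaOps.lam_one] at this; simpa using this

theorem lamAlt_lines (P : PosStructure K) (s : Multiset K) (hs : ∀ v ∈ s, P.IsLine v) :
    KRR.lamAlt P s.sum = (s.map fun u => 1 - u).prod := by
  rw [KRR.lamAlt, aug_lines P s hs, Int.toNat_natCast, ← sum_neg_esymm]
  refine Finset.sum_congr rfl fun i _ => ?_
  rw [lam_lines P s hs]

theorem adams_prod_one_sub {C : Set PosLambdaRing.{u}} (hC : SplitClass C) (L : PosLambdaRing.{u})
    (hL : L ∈ C) (j : ℕ) (s : Multiset L.carrier) (hs : ∀ v ∈ s, L.posStr.IsLine v) :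
    adams L.posStr j (s.map fun u => 1 - u).prod = (s.map fun u => 1 - u ^ j).prod := by
  induction s using Multiset.induction_on with
  | empty => simp [adams_one]
  | cons v t ih =>
    rw [Multiset.map_cons, Multiset.prod_cons, adams_mul hC L hL,
      ih (fun w hw => hs w (Multiset.mem_cons_of_mem hw)), adams_sub, adams_one,
      adams_line L.posStr (hs v (Multiset.mem_cons_self v t)), Multiset.map_cons, Multiset.prod_cons]

/-- S3792. -/
theorem adams_lamAlt_eq_mul_bott (P : PosStructure K) (hK : HasSplitting K P) (e : K)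
    (he : e ∈ P.pos) (j : ℕ) :
    adams P j (KRR.lamAlt P e) = KRR.lamAlt P e * KRR.bott P j e := by
  obtain ⟨C, hKC, hC⟩ := hK
  obtain ⟨L', hL', φ, hφ, s, hs, hsum⟩ := hC ⟨K, P⟩ hKC e he
  apply hφ.injective
  have hA : φ (KRR.lamAlt P e) = KRR.lamAlt L'.posStr (φ e) := by
    rw [KRR.lamAlt, KRR.lamAlt, hφ.aug_comp, map_sum]
    refine Finset.sum_congr rfl fun i _ => ?_
    rw [map_mul, map_pow, map_neg, map_one, hφ.isLambdaHom]
  have hcard : (P.aug e).toNat = Multiset.card s := by
    rw [← hφ.aug_comp, ← hsum, aug_lines _ s hs, Int.toNat_natCast]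
  have gen : ∀ (m : ℕ), m = Multiset.card s →
      φ (MvPolynomial.aeval (fun i : Fin m => LambdaOps.lam (i.1 + 1) e) (KRR.bottPoly j m)) =
        (s.map fun u => ∑ k ∈ range j, u ^ k).prod := by
    intro m hm
    obtain ⟨u, hu⟩ : ∃ u : Fin m → L'.carrier, s = Finset.univ.val.map u := by
      obtain ⟨l, rfl⟩ : ∃ l : List L'.carrier, (↑l : Multiset _) = s :=
        ⟨s.toList, Multiset.coe_toList s⟩
      have hm' : m = l.length := by simpa using hm
      subst hm'
      exact ⟨l.get, by rw [Fin.univ_val_map, List.ofFn_get]⟩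
    have h1 := MvPolynomial.comp_aeval_apply (f := fun i : Fin m => LambdaOps.lam (i.1 + 1) e)
      φ.toIntAlgHom (KRR.bottPoly j m)
    have h2 : (fun i : Fin m => φ.toIntAlgHom (LambdaOps.lam (i.1 + 1) e)) =
        fun i : Fin m => (Finset.univ.val.map u).esymm (i.1 + 1) := by
      funext i
      rw [← hu, ← lam_lines _ s hs, hsum, ← hφ.isLambdaHom]
      rfl
    rw [h2, aeval_bottPoly] at h1
    rw [hu, Multiset.map_map]
    exact h1
  have hB : φ (KRR.bott P j e) = (s.map fun u => ∑ k ∈ range j, u ^ k).prod := gen _ hcard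
  rw [map_adams hφ, map_mul, hA, hB, ← hsum, lamAlt_lines _ s hs, adams_prod_one_sub hC L' hL' j s hs,
    prod_one_sub_pow]

end Lam

end Groth.Agent.Helper6.LamBott
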