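import Groth.Agent.Lib.Helper6.LamGam2
import Groth.Agent.Lib.Helper6.LamBott
import Groth.Agent.S3291

/-!
# γ-operations on sums of line elements, and the γ-filtration
-/

set_option autoImplicit false
universe u

namespace Groth.Agent.Helper6.LamGam

open LambdaRing Groth.Agent.Helper5.Lam Groth.Agent.Helper6.LamBott Finset

section Basic

variable {K : Type u} [CommRing K] [LambdaOps K]

theorem gamSeries_zero : gamSeries (0 : K) = 1 := by
  rw [gamSeries, lamSeries_zero, ← map_one (PowerSeries.C (R := K)), PowerSeries.subst_C]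
  rfl

theorem gamSeries_line_sub_one (P : PosStructure K) {u : K} (hu : P.IsLine u) :
    gamSeries (u - 1) = 1 + PowerSeries.C (u - 1) * PowerSeries.X := by
  have h1 := gamSeries_sub_natCast P u 1
  rw [Nat.cast_one, pow_one] at h1
  have hgu : gamSeries u = 1 + PowerSeries.C u * sSer K := by
    rw [gamSeries, lamSeries_line P hu, PowerSeries.subst_add hasSubst_sSer,
      PowerSeries.subst_mul hasSubst_sSer, PowerSeries.subst_X hasSubst_sSer]
    have e1 : PowerSeries.subst (sSer K) (1 : PowerSeries K) = 1 := by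
      rw [← map_one (PowerSeries.C (R := K)), PowerSeries.subst_C]; rfl
    have e2 : PowerSeries.subst (sSer K) (PowerSeries.C u) = PowerSeries.C u := by
      rw [PowerSeries.subst_C]; rfl
    rw [e1, e2]
  have h2 : sSer K * (1 - PowerSeries.X) = PowerSeries.X := by
    rw [sSer, mul_assoc, PowerSeries.mk_one_mul_one_sub_eq_one, mul_one]
  rw [h1, hgu, map_sub, map_one]
  calc (1 + PowerSeries.C u * sSer K) * (1 - PowerSeries.X)
      = (1 - PowerSeries.X) + PowerSeries.C u * (sSer K * (1 - PowerSeries.X)) := by ring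
    _ = _ := by rw [h2]; ring

theorem gamSeries_lines (P : PosStructure K) (s : Multiset K) (hs : ∀ v ∈ s, P.IsLine v) :
    gamSeries (s.sum - (Multiset.card s : K)) =
      (s.map fun v => 1 + PowerSeries.C (v - 1) * PowerSeries.X).prod := by
  induction s using Multiset.induction_on with
  | empty => simp [gamSeries_zero]
  | cons v t ih =>
    have hv : P.IsLine v := hs v (Multiset.mem_cons_self v t)
    have ht : ∀ w ∈ t, P.IsLine w := fun w hw => hs w (Multiset.mem_cons_of_mem hw)
    have e : (v ::ₘ t).sum - ((Multiset.card (v ::ₘ t) : ℕ) : K) =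
        (v - 1) + (t.sum - (Multiset.card t : K)) := by
      rw [Multiset.sum_cons, Multiset.card_cons]; push_cast; ring
    rw [e, gamSeries_add, ih ht, gamSeries_line_sub_one P hv, Multiset.map_cons, Multiset.prod_cons]

theorem gamma_lines (P : PosStructure K) (s : Multiset K) (hs : ∀ v ∈ s, P.IsLine v) (k : ℕ) :
    gamma k (s.sum - (Multiset.card s : K)) = (s.map fun v => v - 1).esymm k := by
  rw [← coeff_gamSeries, gamSeries_lines P s hs]
  have : (s.map fun v => (1 : PowerSeries K) + PowerSeries.C (v - 1) * PowerSeries.X) =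
      (s.map fun v => v - 1).map fun w => (1 : PowerSeries K) + PowerSeries.C w * PowerSeries.X := by
    rw [Multiset.map_map]; rfl
  rw [this, prod_one_add_CX, PowerSeries.coeff_mk]

theorem map_gamma {K' : Type u} [CommRing K'] [LambdaOps K'] {f : K →+* K'} (hf : IsLambdaHom f)
    (k : ℕ) (x : K) : f (gamma k x) = gamma k (f x) := by
  unfold gamma
  split_ifs with h
  · exact map_one f
  · rw [map_sum]
    refine Finset.sum_congr rfl fun i _ => ?_
    rw [map_mul, map_natCast]
    split_ifs with h0
    · rw [map_zero]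
    · rw [hf]

end Basic

section Filt

variable {K : Type u} [CommRing K] [LambdaOps K] (P : PosStructure K)

theorem filt_anti {n N : ℕ} (h : n ≤ N) : gammaFiltration P N ≤ gammaFiltration P n := by
  by_cases hn : n = 0
  · subst hn
    rw [Groth.Agent.S3291.filt_zero]
    exact le_top
  · have hN : N ≠ 0 := by omega
    rw [Groth.Agent.S3291.filt_pos P n hn, Groth.Agent.S3291.filt_pos P N hN]
    apply AddSubgroup.closure_mono
    rintro y ⟨l, hl, hsum, rfl⟩
    exact ⟨l, hl, h.trans hsum, rfl⟩

theorem gamma_mem (r : ℕ) (x : K) (hx : P.aug x = 0) : gamma r x ∈ gammaFiltration P r := by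
  by_cases hr : r = 0
  · subst hr
    rw [Groth.Agent.S3291.filt_zero]
    exact AddSubgroup.mem_top _
  · rw [Groth.Agent.S3291.filt_pos P r hr]
    apply AddSubgroup.subset_closure
    refine ⟨[(r, x)], ?_, ?_, ?_⟩
    · intro p hp
      rw [List.mem_singleton] at hp
      subst hp
      exact hx
    · simp
    · simp

theorem mul_mem_filt {a b : ℕ} {x y : K} (hx : x ∈ gammaFiltration P a)
    (hy : y ∈ gammaFiltration P b) : x * y ∈ gammaFiltration P (a + b) :=
  (Groth.Agent.S3291.result K P).2 a b x y hx hy

theorem smul_mem_filt {n : ℕ} (a : K) {x : K} (hx : x ∈ gammaFiltration P n) :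
    a * x ∈ gammaFiltration P n :=
  (Groth.Agent.S3291.result K P).1 n a x hx

theorem one_mem_filt : (1 : K) ∈ gammaFiltration P 0 := by
  rw [Groth.Agent.S3291.filt_zero]
  exact AddSubgroup.mem_top _

theorem pow_mem_filt {a : ℕ} {x : K} (hx : x ∈ gammaFiltration P a) (k : ℕ) :
    x ^ k ∈ gammaFiltration P (a * k) := by
  induction k with
  | zero => rw [pow_zero, Nat.mul_zero]; exact one_mem_filt P
  | succ k ih =>
    rw [pow_succ, Nat.mul_succ]
    exact mul_mem_filt P ih hx

theorem prod_mem_filt {ι : Type*} [DecidableEq ι] (t : Finset ι) (x : ι → K) (a : ι → ℕ)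
    (h : ∀ i ∈ t, x i ∈ gammaFiltration P (a i)) :
    ∏ i ∈ t, x i ∈ gammaFiltration P (∑ i ∈ t, a i) := by
  induction t using Finset.induction_on with
  | empty => simp only [Finset.prod_empty, Finset.sum_empty]; exact one_mem_filt P
  | insert s t hs ih =>
    rw [Finset.prod_insert hs, Finset.sum_insert hs]
    exact mul_mem_filt P (h s (Finset.mem_insert_self s t))
      (ih fun i hi => h i (Finset.mem_insert_of_mem hi))

theorem aeval_mem (m n : ℕ) (Q : MvPolynomial (Fin m) ℤ) (hQ : WtGE m n Q) (g : Fin m → K)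
    (hg : ∀ k : Fin m, g k ∈ gammaFiltration P (k.1 + 1)) :
    MvPolynomial.aeval g Q ∈ gammaFiltration P n := by
  rw [Q.as_sum, map_sum]
  refine AddSubgroup.sum_mem _ fun d hd => ?_
  rw [MvPolynomial.aeval_monomial]
  apply smul_mem_filt
  apply filt_anti P (hQ d hd)
  rw [Finsupp.weight_apply]
  unfold Finsupp.prod Finsupp.sum
  refine prod_mem_filt P _ _ _ fun k _ => ?_
  have := pow_mem_filt P (hg k) (d k)
  show g k ^ d k ∈ gammaFiltration P (d k • wt m k)
  rwa [smul_eq_mul, mul_comm, wt]

end Filt

end Groth.Agent.Helper6.LamGam
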