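import Mathlib
import Groth.Prelude.Def_KGr
import Groth.Agent.Lib.Helper6.LamGam3

/-!
# Structure of the Rees ring of the γ-filtration and of `KGr.Gr`
-/

set_option autoImplicit false
universe v

namespace Groth.Agent.Helper6.GrRees

open LambdaRing LaurentPolynomial KGr
open scoped TensorProduct
open Groth.Agent.Helper6.LamGam

variable {K : Type v} [CommRing K] [LambdaOps K] (P : PosStructure K)

theorem T_mem : (T 1 : LaurentPolynomial K) ∈ rees P :=
  Subring.subset_closure (Set.mem_insert _ _)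

theorem single_mem (n : ℕ) {x : K} (hx : x ∈ gammaFiltration P n) :
    C x * T (-(n : ℤ)) ∈ rees P :=
  Subring.subset_closure (Set.mem_insert_of_mem _ ⟨n, x, hx, rfl⟩)

theorem coeff_C_mul_T (x : K) (k m : ℤ) :
    (C x * T k : LaurentPolynomial K).coeff m = if k = m then x else 0 := by
  rw [← single_eq_C_mul_T, AddMonoidAlgebra.coeff_single, Finsupp.single_apply]

theorem CT_mem_of_nonneg (c : K) (j : ℕ) : C c * T (j : ℤ) ∈ rees P := by
  have h0 : (C c : LaurentPolynomial K) ∈ rees P := by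
    have := single_mem P 0 (x := c) (by rw [Groth.Agent.S3291.filt_zero]; trivial)
    simpa using this
  have h1 : (T (j : ℤ) : LaurentPolynomial K) = T 1 ^ j := by rw [T_pow]; simp
  rw [h1]
  exact mul_mem h0 (pow_mem (T_mem P) j)

theorem coeff_mem {r : LaurentPolynomial K} (hr : r ∈ rees P) :
    ∀ n : ℕ, r.coeff (-(n : ℤ)) ∈ gammaFiltration P n := by
  refine Subring.closure_induction
    (p := fun r _ => ∀ n : ℕ, r.coeff (-(n : ℤ)) ∈ gammaFiltration P n) ?_ ?_ ?_ ?_ ?_ ?_ hr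
  · rintro x hx n
    rcases hx with rfl | ⟨m, y, hy, rfl⟩
    · rw [T_apply]
      have : ¬ ((1 : ℤ) = -(n : ℤ)) := by omega
      rw [if_neg this]; exact zero_mem _
    · rw [coeff_C_mul_T]
      split_ifs with h
      · have : m = n := by omega
        subst this; exact hy
      · exact zero_mem _
  · intro n
    simp
  · intro n
    have : (1 : LaurentPolynomial K) = C 1 * T 0 := by simp
    rw [this, coeff_C_mul_T]
    split_ifs with h
    · have : n = 0 := by omega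
      subst this; exact one_mem_filt P
    · exact zero_mem _
  · intro x y _ _ hx hy n
    rw [AddMonoidAlgebra.coeff_add, Finsupp.add_apply]
    exact add_mem (hx n) (hy n)
  · intro x _ hx n
    rw [AddMonoidAlgebra.coeff_neg, Finsupp.neg_apply]
    exact neg_mem (hx n)
  · intro x y _ _ hx hy n
    rw [AddMonoidAlgebra.coeff_mul_apply_left]
    unfold Finsupp.sum
    refine AddSubgroup.sum_mem _ fun h _ => ?_
    show x.coeff h * y.coeff (-h + -(n : ℤ)) ∈ gammaFiltration P n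
    rcases le_or_gt h 0 with hh | hh
    · obtain ⟨i, rfl⟩ : ∃ i : ℕ, h = -(i : ℤ) := ⟨(-h).toNat, by omega⟩
      rcases le_or_gt i n with hin | hin
      · have e : (-(-(i : ℤ)) + -(n : ℤ)) = -((n - i : ℕ) : ℤ) := by omega
        rw [e]
        have := mul_mem_filt P (hx i) (hy (n - i))
        have e2 : i + (n - i) = n := by omega
        rwa [e2] at this
      · rw [mul_comm]
        exact smul_mem_filt P _ (filt_anti P hin.le (hx i))
    · obtain ⟨i, rfl⟩ : ∃ i : ℕ, h = (i : ℤ) := ⟨h.toNat, by omega⟩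
      have e : (-(i : ℤ) + -(n : ℤ)) = -((n + i : ℕ) : ℤ) := by omega
      rw [e]
      exact smul_mem_filt P _ (filt_anti P (Nat.le_add_right n i) (hy (n + i)))

theorem term_mem {r : LaurentPolynomial K} (hr : r ∈ rees P) (k : ℤ) :
    C (r.coeff k) * T k ∈ rees P := by
  rcases le_or_gt k 0 with hk | hk
  · obtain ⟨n, rfl⟩ : ∃ n : ℕ, k = -(n : ℤ) := ⟨(-k).toNat, by omega⟩
    exact single_mem P n (coeff_mem P hr n)
  · obtain ⟨n, rfl⟩ : ∃ n : ℕ, k = (n : ℤ) := ⟨k.toNat, by omega⟩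
    exact CT_mem_of_nonneg P _ n

/-- the class of `y t^{-n}` in `Gr^n`. -/
noncomputable def cl (n : ℕ) : gammaFiltration P n →+ GrZ P where
  toFun y := Ideal.Quotient.mk (Ideal.span {tGen P})
    ⟨C (y : K) * T (-(n : ℤ)), single_mem P n y.2⟩
  map_zero' := by
    have : (⟨C ((0 : gammaFiltration P n) : K) * T (-(n : ℤ)),
        single_mem P n (0 : gammaFiltration P n).2⟩ : rees P) = 0 := by
      apply Subtype.ext; simp
    rw [this, map_zero]
  map_add' y z := by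
    rw [← map_add]
    congr 1
    apply Subtype.ext
    simp [add_mul]

theorem cl_apply (n : ℕ) (y : gammaFiltration P n) :
    cl P n y = Ideal.Quotient.mk (Ideal.span {tGen P})
      ⟨C (y : K) * T (-(n : ℤ)), single_mem P n y.2⟩ := rfl

theorem cl_mul (a b : ℕ) (x : gammaFiltration P a) (y : gammaFiltration P b) :
    cl P a x * cl P b y = cl P (a + b) ⟨x * y, mul_mem_filt P x.2 y.2⟩ := by
  rw [cl_apply, cl_apply, cl_apply, ← map_mul]
  congr 1
  apply Subtype.ext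
  show C (x : K) * T (-(a : ℤ)) * (C (y : K) * T (-(b : ℤ))) =
    C ((x : K) * y) * T (-((a + b : ℕ) : ℤ))
  rw [map_mul, Nat.cast_add, neg_add, T_add]
  ring

theorem cl_one : cl P 0 ⟨1, one_mem_filt P⟩ = 1 := by
  rw [cl_apply, ← map_one (Ideal.Quotient.mk (Ideal.span {tGen P}))]
  congr 1
  apply Subtype.ext
  simp

theorem cl_eq_zero (n : ℕ) (y : gammaFiltration P n)
    (hy : (y : K) ∈ gammaFiltration P (n + 1)) : cl P n y = 0 := by
  rw [cl_apply, Ideal.Quotient.eq_zero_iff_mem, Ideal.mem_span_singleton]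
  refine ⟨⟨C (y : K) * T (-((n + 1 : ℕ) : ℤ)), single_mem P (n + 1) hy⟩, ?_⟩
  apply Subtype.ext
  show C (y : K) * T (-(n : ℤ)) = T 1 * (C (y : K) * T (-((n + 1 : ℕ) : ℤ)))
  rw [mul_left_comm, ← T_add]
  congr 2
  push_cast; ring

/-- the coefficient of `t^{-n}` modulo `F^{n+1}`, on the Rees ring. -/
noncomputable def prAux (n : ℕ) : rees P →+ K ⧸ gammaFiltration P (n + 1) where
  toFun r := QuotientAddGroup.mk ((r : LaurentPolynomial K).coeff (-(n : ℤ)))
  map_zero' := by simp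
  map_add' r s := by
    simp [AddMonoidAlgebra.coeff_add]

theorem prAux_ker (n : ℕ) :
    (Ideal.span {tGen P}).toAddSubgroup ≤ (prAux P n).ker := by
  intro r hr
  rw [Submodule.mem_toAddSubgroup, Ideal.mem_span_singleton] at hr
  obtain ⟨s, rfl⟩ := hr
  rw [AddMonoidHom.mem_ker]
  show QuotientAddGroup.mk (((tGen P * s : rees P) : LaurentPolynomial K).coeff (-(n : ℤ))) = 0
  rw [QuotientAddGroup.eq_zero_iff]
  have h1 : ((tGen P * s : rees P) : LaurentPolynomial K) =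
      AddMonoidAlgebra.single (1 : ℤ) (1 : K) * (s : LaurentPolynomial K) := rfl
  rw [h1, AddMonoidAlgebra.coeff_single_mul_apply, one_mul]
  have e : (-(1 : ℤ) + -(n : ℤ)) = -((n + 1 : ℕ) : ℤ) := by push_cast; ring
  rw [e]
  exact coeff_mem P s.2 (n + 1)

/-- the coefficient of `t^{-n}` modulo `F^{n+1}`, on `Gr`. -/
noncomputable def pr (n : ℕ) : GrZ P →+ K ⧸ gammaFiltration P (n + 1) :=
  QuotientAddGroup.lift (Ideal.span {tGen P}).toAddSubgroup (prAux P n) (prAux_ker P n)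

theorem pr_mk (n : ℕ) (r : rees P) :
    pr P n (Ideal.Quotient.mk (Ideal.span {tGen P}) r) =
      QuotientAddGroup.mk ((r : LaurentPolynomial K).coeff (-(n : ℤ))) := rfl

theorem pr_cl (n m : ℕ) (y : gammaFiltration P m) :
    pr P n (cl P m y) = if m = n then QuotientAddGroup.mk (y : K) else 0 := by
  rw [cl_apply, pr_mk]
  show QuotientAddGroup.mk ((C (y : K) * T (-(m : ℤ)) : LaurentPolynomial K).coeff (-(n : ℤ))) = _
  rw [coeff_C_mul_T]
  by_cases h : m = n
  · subst h; simp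
  · have : ¬ (-(m : ℤ) = -(n : ℤ)) := by omega
    rw [if_neg this, if_neg h]; rfl

/-- `x ↦ 1 ⊗ [x t^{-n}]` as an additive map on `F^n`. -/
noncomputable def grHom (n : ℕ) : gammaFiltration P n →+ Gr P :=
  (TensorProduct.mk ℤ ℚ (GrZ P) 1).toAddMonoidHom.comp (cl P n)

theorem grHom_apply (n : ℕ) (y : gammaFiltration P n) :
    grHom P n y = (1 : ℚ) ⊗ₜ[ℤ] cl P n y := rfl

theorem grK_eq (n : ℕ) (x : K) (hx : x ∈ gammaFiltration P n) :
    grK P (n : ℤ) x = grHom P n ⟨x, hx⟩ := by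
  have h : ∃ N : ℕ, 1 ≤ N ∧ C ((N : K) * x) * T (-(n : ℤ)) ∈ rees P :=
    ⟨1, le_rfl, by simpa using single_mem P n hx⟩
  unfold grK
  rw [dif_pos h]
  have hN1 : 1 ≤ h.choose := h.choose_spec.1
  have key : (Ideal.Quotient.mk (Ideal.span {tGen P})
      ⟨C (((h.choose : ℕ) : K) * x) * T (-(n : ℤ)), h.choose_spec.2⟩ : GrZ P) =
      ((h.choose : ℕ) : ℤ) • cl P n ⟨x, hx⟩ := by
    rw [cl_apply, ← map_zsmul]
    congr 1
    apply Subtype.ext
    simp [mul_assoc]
  rw [key, grHom_apply, TensorProduct.tmul_smul, TensorProduct.smul_tmul']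
  congr 1
  have : ((h.choose : ℕ) : ℚ) ≠ 0 := by
    have : 0 < h.choose := hN1
    positivity
  rw [zsmul_eq_mul]
  push_cast
  field_simp

theorem grK_add (n : ℕ) {x y : K} (hx : x ∈ gammaFiltration P n)
    (hy : y ∈ gammaFiltration P n) :
    grK P (n : ℤ) (x + y) = grK P (n : ℤ) x + grK P (n : ℤ) y := by
  rw [grK_eq P n _ (add_mem hx hy), grK_eq P n _ hx, grK_eq P n _ hy, ← map_add]
  rfl

theorem grK_zero (n : ℕ) : grK P (n : ℤ) 0 = 0 := by
  rw [grK_eq P n 0 (zero_mem _)]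
  exact map_zero _

theorem grK_neg (n : ℕ) {x : K} (hx : x ∈ gammaFiltration P n) :
    grK P (n : ℤ) (-x) = -grK P (n : ℤ) x := by
  rw [grK_eq P n _ (neg_mem hx), grK_eq P n _ hx, ← map_neg]
  rfl

theorem grK_sub (n : ℕ) {x y : K} (hx : x ∈ gammaFiltration P n)
    (hy : y ∈ gammaFiltration P n) :
    grK P (n : ℤ) (x - y) = grK P (n : ℤ) x - grK P (n : ℤ) y := by
  rw [sub_eq_add_neg, grK_add P n hx (neg_mem hy), grK_neg P n hy, ← sub_eq_add_neg]

theorem grK_sum (n : ℕ) {ι : Type*} (s : Finset ι) (f : ι → K)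
    (hf : ∀ i ∈ s, f i ∈ gammaFiltration P n) :
    grK P (n : ℤ) (∑ i ∈ s, f i) = ∑ i ∈ s, grK P (n : ℤ) (f i) := by
  classical
  induction s using Finset.induction_on with
  | empty => simpa using grK_zero P n
  | insert a s ha ih =>
    rw [Finset.sum_insert ha, Finset.sum_insert ha,
      grK_add P n (hf a (Finset.mem_insert_self a s))
        (AddSubgroup.sum_mem _ fun i hi => hf i (Finset.mem_insert_of_mem hi)),
      ih fun i hi => hf i (Finset.mem_insert_of_mem hi)]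

theorem grK_zsmul (n : ℕ) (m : ℤ) {x : K} (hx : x ∈ gammaFiltration P n) :
    grK P (n : ℤ) (m • x) = m • grK P (n : ℤ) x := by
  rw [grK_eq P n _ (AddSubgroup.zsmul_mem _ hx m), grK_eq P n _ hx, ← map_zsmul]
  rfl

theorem grK_intCast_mul (n : ℕ) (m : ℤ) {x : K} (hx : x ∈ gammaFiltration P n) :
    grK P (n : ℤ) ((m : K) * x) = m • grK P (n : ℤ) x := by
  rw [← grK_zsmul P n m hx, zsmul_eq_mul]

theorem grK_natCast_mul (n : ℕ) (m : ℕ) {x : K} (hx : x ∈ gammaFiltration P n) :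
    grK P (n : ℤ) ((m : K) * x) = (m : Gr P) * grK P (n : ℤ) x := by
  have := grK_intCast_mul P n (m : ℤ) hx
  rw [Int.cast_natCast, natCast_zsmul, nsmul_eq_mul] at this
  exact this

theorem grK_mul (a b : ℕ) {x y : K} (hx : x ∈ gammaFiltration P a)
    (hy : y ∈ gammaFiltration P b) :
    grK P (a : ℤ) x * grK P (b : ℤ) y = grK P ((a + b : ℕ) : ℤ) (x * y) := by
  rw [grK_eq P a _ hx, grK_eq P b _ hy, grK_eq P (a + b) _ (mul_mem_filt P hx hy), grHom_apply,
    grHom_apply, grHom_apply, Algebra.TensorProduct.tmul_mul_tmul, cl_mul, mul_one]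

theorem grK_one : grK P ((0 : ℕ) : ℤ) 1 = 1 := by
  rw [grK_eq P 0 1 (one_mem_filt P), grHom_apply, cl_one]
  rfl

theorem grK_eq_zero (n : ℕ) {x : K} (hx : x ∈ gammaFiltration P (n + 1)) :
    grK P (n : ℤ) x = 0 := by
  rw [grK_eq P n x (filt_anti P (Nat.le_succ n) hx), grHom_apply, cl_eq_zero P n _ hx,
    TensorProduct.tmul_zero]

theorem grK_intCast (m : ℤ) :
    grK P ((0 : ℕ) : ℤ) (m : K) = algebraMap ℚ (Gr P) m := by
  have h1 : (m : K) = (m : K) * 1 := (mul_one _).symm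
  rw [h1, grK_intCast_mul P 0 m (one_mem_filt P), grK_one, Algebra.TensorProduct.algebraMap_apply,
    Algebra.TensorProduct.one_def, TensorProduct.smul_tmul']
  congr 1
  simp

theorem grK_deg_zero (y : K) (h : y - ((P.aug y : ℤ) : K) ∈ gammaFiltration P 1) :
    grK P ((0 : ℕ) : ℤ) y = algebraMap ℚ (Gr P) (P.aug y) := by
  have h0 : ∀ z : K, z ∈ gammaFiltration P 0 := fun z => by
    rw [Groth.Agent.S3291.filt_zero]; trivial
  have e : y = ((P.aug y : ℤ) : K) + (y - ((P.aug y : ℤ) : K)) := by ring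
  conv_lhs => rw [e]
  rw [grK_add P 0 (h0 _) (h0 _), grK_eq_zero P 0 h, add_zero, grK_intCast]

/-- the degree `n` component, with values in `ℚ ⊗ K/F^{n+1}`. -/
noncomputable def prQ (n : ℕ) : Gr P →ₗ[ℚ] ℚ ⊗[ℤ] (K ⧸ gammaFiltration P (n + 1)) :=
  (pr P n).toIntLinearMap.baseChange ℚ

theorem prQ_grK (n m : ℕ) {x : K} (hx : x ∈ gammaFiltration P m) :
    prQ P n (grK P (m : ℤ) x) =
      if m = n then (1 : ℚ) ⊗ₜ[ℤ] (QuotientAddGroup.mk x : K ⧸ gammaFiltration P (n + 1))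
      else 0 := by
  rw [grK_eq P m x hx, grHom_apply, prQ, LinearMap.baseChange_tmul]
  show (1 : ℚ) ⊗ₜ[ℤ] pr P n (cl P m ⟨x, hx⟩) = _
  rw [pr_cl]
  split_ifs <;> simp

theorem exists_nsmul_eq_zero_of_tmul_eq_zero {A : Type*} [AddCommGroup A] (a : A)
    (h : (1 : ℚ) ⊗ₜ[ℤ] a = 0) : ∃ N : ℕ, 1 ≤ N ∧ N • a = 0 := by
  have h' : TensorProduct.mk ℤ ℚ A 1 a = 0 := h
  obtain ⟨⟨s, hs⟩, hsa⟩ :=
    (IsLocalizedModule.eq_zero_iff (nonZeroDivisors ℤ) (TensorProduct.mk ℤ ℚ A 1) (m := a)).mp h'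
  have hs0 : s ≠ 0 := nonZeroDivisors.ne_zero hs
  have hsa' : s • a = 0 := hsa
  refine ⟨s.natAbs, Int.natAbs_pos.mpr hs0, ?_⟩
  rcases Int.natAbs_eq s with e | e
  · rw [e, natCast_zsmul] at hsa'
    simpa using hsa'
  · rw [e, neg_smul, natCast_zsmul, neg_eq_zero] at hsa'
    simpa using hsa'

/-- the `ℚ`-span of the classes of degree `≥ n`. -/
noncomputable def S (n : ℕ) : Submodule ℚ (Gr P) :=
  Submodule.span ℚ
    {z | ∃ (m : ℕ) (x : K), n ≤ m ∧ x ∈ gammaFiltration P m ∧ z = grK P (m : ℤ) x}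

theorem grK_mem_S {n m : ℕ} (h : n ≤ m) {x : K} (hx : x ∈ gammaFiltration P m) :
    grK P (m : ℤ) x ∈ S P n :=
  Submodule.subset_span ⟨m, x, h, hx, rfl⟩

theorem S_anti {a b : ℕ} (h : a ≤ b) : S P b ≤ S P a :=
  Submodule.span_mono (by
    rintro z ⟨m, x, hm, hx, rfl⟩
    exact ⟨m, x, h.trans hm, hx, rfl⟩)

theorem prQ_S (n : ℕ) {z : Gr P} (hz : z ∈ S P (n + 1)) : prQ P n z = 0 := by
  induction hz using Submodule.span_induction with
  | mem z hz =>
    obtain ⟨m, x, hm, hx, rfl⟩ := hz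
    rw [prQ_grK P n m hx, if_neg (by omega)]
  | zero => exact map_zero _
  | add x y _ _ hx hy => rw [map_add, hx, hy, add_zero]
  | smul a x _ hx => rw [map_smul, hx, smul_zero]

theorem S_eq_bot (d : ℕ) (hd : gammaFiltration P (d + 1) = ⊥) : S P (d + 1) = ⊥ := by
  rw [eq_bot_iff]
  apply Submodule.span_le.mpr
  rintro z ⟨m, x, hm, hx, rfl⟩
  have : x ∈ gammaFiltration P (d + 1) := filt_anti P hm hx
  rw [hd, AddSubgroup.mem_bot] at this
  subst this
  rw [grK_zero]; exact zero_mem _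

theorem mk_term_mem_S (r : rees P) (k : ℤ) :
    (1 : ℚ) ⊗ₜ[ℤ] (Ideal.Quotient.mk (Ideal.span {tGen P})
      ⟨C ((r : LaurentPolynomial K).coeff k) * T k, term_mem P r.2 k⟩ : GrZ P) ∈ S P 0 := by
  rcases le_or_gt k 0 with hk | hk
  · obtain ⟨n, rfl⟩ : ∃ n : ℕ, k = -(n : ℤ) := ⟨(-k).toNat, by omega⟩
    have := grK_mem_S P (Nat.zero_le n) (coeff_mem P r.2 n)
    rwa [grK_eq P n _ (coeff_mem P r.2 n)] at this
  · obtain ⟨n, rfl⟩ : ∃ n : ℕ, k = ((n + 1 : ℕ) : ℤ) := ⟨(k - 1).toNat, by omega⟩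
    have : (Ideal.Quotient.mk (Ideal.span {tGen P})
        ⟨C ((r : LaurentPolynomial K).coeff ((n + 1 : ℕ) : ℤ)) * T ((n + 1 : ℕ) : ℤ),
          term_mem P r.2 _⟩ : GrZ P) = 0 := by
      rw [Ideal.Quotient.eq_zero_iff_mem, Ideal.mem_span_singleton]
      refine ⟨⟨C ((r : LaurentPolynomial K).coeff ((n + 1 : ℕ) : ℤ)) * T (n : ℤ),
        CT_mem_of_nonneg P _ n⟩, ?_⟩
      apply Subtype.ext
      show C _ * T ((n + 1 : ℕ) : ℤ) = T 1 * (C _ * T (n : ℤ))
      rw [mul_left_comm, ← T_add]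
      congr 2
      push_cast; ring
    rw [this, TensorProduct.tmul_zero]; exact zero_mem _

theorem S_zero : S P 0 = ⊤ := by
  rw [eq_top_iff]
  rintro z -
  induction z using TensorProduct.induction_on with
  | zero => exact zero_mem _
  | add x y hx hy => exact add_mem hx hy
  | tmul q w =>
    obtain ⟨r, rfl⟩ := Ideal.Quotient.mk_surjective w
    have h1 : q ⊗ₜ[ℤ] (Ideal.Quotient.mk (Ideal.span {tGen P}) r) =
        q • ((1 : ℚ) ⊗ₜ[ℤ] (Ideal.Quotient.mk (Ideal.span {tGen P}) r : GrZ P)) := by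
      rw [TensorProduct.smul_tmul', smul_eq_mul, mul_one]
    rw [h1]
    apply Submodule.smul_mem
    have h2 : r = ∑ k ∈ (r : LaurentPolynomial K).coeff.support,
        (⟨C ((r : LaurentPolynomial K).coeff k) * T k, term_mem P r.2 k⟩ : rees P) := by
      apply Subtype.ext
      rw [AddSubmonoidClass.coe_finset_sum]
      conv_lhs => rw [← AddMonoidAlgebra.sum_coeff_single (r : LaurentPolynomial K)]
      unfold Finsupp.sum
      refine Finset.sum_congr rfl fun k _ => ?_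
      exact single_eq_C_mul_T _ _
    have h3 : (1 : ℚ) ⊗ₜ[ℤ] (Ideal.Quotient.mk (Ideal.span {tGen P}) r : GrZ P) =
        (1 : ℚ) ⊗ₜ[ℤ] (Ideal.Quotient.mk (Ideal.span {tGen P})
          (∑ k ∈ (r : LaurentPolynomial K).coeff.support,
            (⟨C ((r : LaurentPolynomial K).coeff k) * T k, term_mem P r.2 k⟩ : rees P)) : GrZ P) := by
      rw [← h2]
    rw [h3, map_sum, TensorProduct.tmul_sum]
    exact Submodule.sum_mem _ fun k _ => mk_term_mem_S P r k

end Groth.Agent.Helper6.GrRees
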