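import Groth.Agent.Lib.Helper6.LamGam4

/-!
# The determinant `K → Kˣ` of a λ-ring with positive structure, and `L ≅ Gr^1`
-/

set_option autoImplicit false
universe u

namespace Groth.Agent.Helper6.LamDet

open LambdaRing Groth.Agent.Helper5.Lam Groth.Agent.Helper6.LamBott Groth.Agent.Helper6.LamGam Finset

section Det

variable {K : Type u} [CommRing K] [LambdaOps K] (P : PosStructure K)

/-- `det e = λ^{ε e}(e)` -/
noncomputable def det (e : K) : K := LambdaOps.lam (P.aug e).toNat e

theorem det_add {e f : K} (he : e ∈ P.pos) (hf : f ∈ P.pos) :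
    det P (e + f) = det P e * det P f := by
  unfold det
  have hm := P.aug_pos e he
  have hn := P.aug_pos f hf
  obtain ⟨m, hm'⟩ := Int.eq_ofNat_of_zero_le hm.le
  obtain ⟨n, hn'⟩ := Int.eq_ofNat_of_zero_le hn.le
  rw [map_add, hm', hn']
  have h1 : ((m : ℤ) + (n : ℤ)).toNat = m + n := by omega
  rw [h1, Int.toNat_natCast, Int.toNat_natCast, LambdaOps.lam_add]
  rw [Finset.sum_eq_single m]
  · rw [Nat.add_sub_cancel_left]
  · intro i hi him
    rcases lt_or_gt_of_ne him with h | h
    · have h2 : P.aug f < ((m + n - i : ℕ) : ℤ) := by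
        rw [hn']; exact_mod_cast (by omega : n < m + n - i)
      rw [P.lam_eq_zero f hf (m + n - i) h2, mul_zero]
    · have h2 : P.aug e < (i : ℤ) := by rw [hm']; exact_mod_cast h
      rw [P.lam_eq_zero e he i h2, zero_mul]
  · intro h
    exfalso; apply h; rw [Finset.mem_range]; omega

theorem det_line {u : K} (hu : P.IsLine u) : det P u = u := by
  unfold det
  rw [hu.2, Int.toNat_one, LambdaOps.lam_one]

theorem isUnit_det {e : K} (he : e ∈ P.pos) : IsUnit (det P e) := P.isUnit_lam e he

theorem det_lines (s : Multiset K) (hs : ∀ v ∈ s, P.IsLine v) : det P s.sum = s.prod := by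
  unfold det
  rw [aug_lines P s hs, Int.toNat_natCast, lam_lines P s hs, Multiset.esymm,
    Multiset.powersetCard_self]
  simp

theorem map_det {K' : Type u} [CommRing K'] [LambdaOps K'] {P' : PosStructure K'} {f : K →+* K'}
    (hf : IsExtension P P' f) (e : K) : f (det P e) = det P' (f e) := by
  unfold det
  rw [hf.isLambdaHom, hf.aug_comp]

/-- the determinant of a positive element, as a unit -/
noncomputable def detU (e : K) (he : e ∈ P.pos) : Kˣ := (P.isUnit_lam e he).unit

theorem detU_val (e : K) (he : e ∈ P.pos) : ((detU P e he : Kˣ) : K) = det P e := rfl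

theorem detU_congr {e f : K} (he : e ∈ P.pos) (hf : f ∈ P.pos) (h : e = f) :
    detU P e he = detU P f hf := by
  subst h; rfl

theorem detU_add {e f : K} (he : e ∈ P.pos) (hf : f ∈ P.pos) :
    detU P (e + f) (P.add_mem e f he hf) = detU P e he * detU P f hf := by
  apply Units.ext
  rw [Units.val_mul, detU_val, detU_val, detU_val, det_add P he hf]

/-- the determinant homomorphism `(K,+) → Kˣ`. -/
noncomputable def D (x : K) : Kˣ :=
  detU P (P.exists_sub x).choose (P.exists_sub x).choose_spec.choose_spec.1 /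
    detU P (P.exists_sub x).choose_spec.choose (P.exists_sub x).choose_spec.choose_spec.2.1

theorem D_eq {x e f : K} (he : e ∈ P.pos) (hf : f ∈ P.pos) (hx : x = e - f) :
    D P x = detU P e he / detU P f hf := by
  unfold D
  have he₀ := (P.exists_sub x).choose_spec.choose_spec.1
  have hf₀ := (P.exists_sub x).choose_spec.choose_spec.2.1
  have hx₀ := (P.exists_sub x).choose_spec.choose_spec.2.2
  rw [div_eq_div_iff_mul_eq_mul, ← detU_add, ← detU_add]
  apply detU_congr
  have h := hx₀.symm.trans hx
  linear_combination h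

theorem D_add (x y : K) : D P (x + y) = D P x * D P y := by
  obtain ⟨e, f, he, hf, hx⟩ := P.exists_sub x
  obtain ⟨e', f', he', hf', hy⟩ := P.exists_sub y
  rw [D_eq P he hf hx, D_eq P he' hf' hy,
    D_eq P (P.add_mem e e' he he') (P.add_mem f f' hf hf') (by rw [hx, hy]; ring),
    detU_add, detU_add, div_mul_div_comm]

theorem D_zero : D P (0 : K) = 1 := by
  have h1 : (1 : K) ∈ P.pos := (isLine_one P).1
  rw [D_eq P h1 h1 (sub_self 1).symm, div_self']

theorem D_neg (x : K) : D P (-x) = (D P x)⁻¹ := by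
  obtain ⟨e, f, he, hf, hx⟩ := P.exists_sub x
  rw [D_eq P he hf hx, D_eq P hf he (by rw [hx]; ring), inv_div]

/-- the kernel of the determinant -/
noncomputable def Dker : AddSubgroup K where
  carrier := {x | D P x = 1}
  zero_mem' := D_zero P
  add_mem' := by
    intro a b ha hb
    simp only [Set.mem_ofPred_eq] at ha hb ⊢
    rw [D_add, ha, hb, one_mul]
  neg_mem' := by
    intro a ha
    simp only [Set.mem_ofPred_eq] at ha ⊢
    rw [D_neg, ha, inv_one]

theorem mem_Dker {x : K} : x ∈ Dker P ↔ D P x = 1 := Iff.rfl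

theorem D_map {K' : Type u} [CommRing K'] [LambdaOps K'] {P' : PosStructure K'} {f : K →+* K'}
    (hf : IsExtension P P' f) (x : K) : D P' (f x) = Units.map (f : K →* K') (D P x) := by
  obtain ⟨e, e', he, he', hx⟩ := P.exists_sub x
  rw [D_eq P he he' hx,
    D_eq P' (hf.pos_subset e he) (hf.pos_subset e' he') (by rw [hx, map_sub]), map_div]
  congr 1
  · apply Units.ext
    rw [Units.coe_map, detU_val, detU_val]
    exact (map_det P hf e).symm
  · apply Units.ext
    rw [Units.coe_map, detU_val, detU_val]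
    exact (map_det P hf e').symm

theorem mem_Dker_of_map {K' : Type u} [CommRing K'] [LambdaOps K'] {P' : PosStructure K'}
    {f : K →+* K'} (hf : IsExtension P P' f) {x : K} (h : f x ∈ Dker P') : x ∈ Dker P := by
  rw [mem_Dker] at h ⊢
  rw [D_map P hf] at h
  apply Units.ext
  apply hf.injective
  have := congrArg Units.val h
  rw [Units.coe_map] at this
  rw [Units.val_one, map_one]
  exact this

theorem D_line_sub_one {w : K} (hw : P.IsLine w) : ((D P (w - 1) : Kˣ) : K) = w := by
  have h1 : P.IsLine (1 : K) := isLine_one P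
  have h2 : detU P 1 h1.1 = 1 := Units.ext (by rw [detU_val, det_line P h1, Units.val_one])
  rw [D_eq P hw.1 h1.1 rfl, h2, div_one, detU_val, det_line P hw]

end Det

section Multi

theorem prod_bind_mul {R : Type*} [CommMonoid R] (s t : Multiset R) :
    (s.bind fun a => t.map fun b => a * b).prod =
      s.prod ^ (Multiset.card t) * t.prod ^ (Multiset.card s) := by
  rw [Multiset.prod_bind]
  have h : ∀ a : R, (t.map fun b => a * b).prod = a ^ (Multiset.card t) * t.prod := by
    intro a
    rw [Multiset.prod_map_mul, Multiset.map_const', Multiset.prod_replicate, Multiset.map_id']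
  simp only [h]
  rw [Multiset.prod_map_mul, Multiset.prod_map_pow, Multiset.map_id', Multiset.map_const',
    Multiset.prod_replicate]

theorem sum_bind_mul {R : Type*} [CommSemiring R] (s t : Multiset R) :
    (s.bind fun a => t.map fun b => a * b).sum = s.sum * t.sum := by
  rw [Multiset.sum_bind]
  have h : ∀ a : R, (t.map fun b => a * b).sum = a * t.sum := by
    intro a
    have := Multiset.sum_map_mul_left (s := t) (a := a) (f := fun b => b)
    simpa using this
  simp only [h]
  have := Multiset.sum_map_mul_right (s := s) (a := t.sum) (f := fun b => b)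
  simpa using this

variable {K : Type u} [CommRing K] [LambdaOps K] (P : PosStructure K)

theorem aug_prod_eq_zero (t : Multiset K) (ht : ∀ w ∈ t, P.aug w = 0) (h0 : t ≠ 0) :
    P.aug t.prod = 0 := by
  obtain ⟨a, ha⟩ := Multiset.exists_mem_of_ne_zero h0
  obtain ⟨t', rfl⟩ := Multiset.exists_cons_of_mem ha
  rw [Multiset.prod_cons, map_mul, ht a ha, zero_mul]

theorem aug_esymm_eq_zero (t : Multiset K) (ht : ∀ w ∈ t, P.aug w = 0) (r : ℕ) (hr : 1 ≤ r) :
    P.aug (t.esymm r) = 0 := by
  rw [Multiset.esymm, map_multiset_sum, Multiset.map_map]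
  apply Multiset.sum_eq_zero
  intro x hx
  obtain ⟨v, hv, rfl⟩ := Multiset.mem_map.mp hx
  rw [Multiset.mem_powersetCard] at hv
  apply aug_prod_eq_zero P v (fun w hw => ht w (Multiset.mem_of_le hv.1 hw))
  intro h
  have h2 : Multiset.card v = r := hv.2
  rw [h, Multiset.card_zero] at h2
  omega

theorem mem_filt_one_of_aug {x : K} (hx : P.aug x = 0) : x ∈ gammaFiltration P 1 := by
  have := gamma_mem P 1 x hx
  rwa [Groth.Agent.S3291.gamma_one] at this

end Multi

section Split

variable {C : Set PosLambdaRing.{u}} (hC : SplitClass C) (L : PosLambdaRing.{u}) (hL : L ∈ C)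

include hC hL in
theorem det_mul (e e' : L.carrier) (he : e ∈ L.posStr.pos) (he' : e' ∈ L.posStr.pos) (m n : ℕ)
    (hm : L.posStr.aug e = m) (hn : L.posStr.aug e' = n) :
    det L.posStr (e * e') = det L.posStr e ^ n * det L.posStr e' ^ m := by
  obtain ⟨L', hL', f, hf, s, s', hs, hs', hsum, hsum'⟩ := split_two hC L hL e e' he he'
  apply hf.injective
  have hcs : Multiset.card s = m := by
    have := aug_lines L'.posStr s hs
    rw [hsum, hf.aug_comp, hm] at this
    exact_mod_cast this.symm
  have hcs' : Multiset.card s' = n := by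
    have := aug_lines L'.posStr s' hs'
    rw [hsum', hf.aug_comp, hn] at this
    exact_mod_cast this.symm
  have hlines : ∀ v ∈ (s.bind fun a => s'.map fun b => a * b), L'.posStr.IsLine v := by
    intro v hv
    obtain ⟨a, ha, hv⟩ := Multiset.mem_bind.mp hv
    obtain ⟨b, hb, rfl⟩ := Multiset.mem_map.mp hv
    exact isLine_mul _ (hs a ha) (hs' b hb)
  rw [map_det L.posStr hf, map_mul, map_mul, map_pow, map_pow, map_det L.posStr hf,
    map_det L.posStr hf, ← hsum, ← hsum', ← sum_bind_mul, det_lines _ _ hlines,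
    det_lines _ s hs, det_lines _ s' hs', prod_bind_mul, hcs, hcs']

include hC hL in
theorem mul_mem_Dker {x y : L.carrier} (hx : L.posStr.aug x = 0) (hy : L.posStr.aug y = 0) :
    x * y ∈ Dker L.posStr := by
  obtain ⟨e, f, he, hf, rfl⟩ := L.posStr.exists_sub x
  obtain ⟨e', f', he', hf', rfl⟩ := L.posStr.exists_sub y
  obtain ⟨m, hm⟩ := Int.eq_ofNat_of_zero_le (L.posStr.aug_pos e he).le
  obtain ⟨n, hn⟩ := Int.eq_ofNat_of_zero_le (L.posStr.aug_pos e' he').le
  have hfm : L.posStr.aug f = m := by rw [map_sub] at hx; rw [← hm]; omega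
  have hfn : L.posStr.aug f' = n := by rw [map_sub] at hy; rw [← hn]; omega
  have h1 := L.posStr.mul_mem e e' he he'
  have h2 := L.posStr.mul_mem f f' hf hf'
  have h3 := L.posStr.mul_mem e f' he hf'
  have h4 := L.posStr.mul_mem f e' hf he'
  rw [mem_Dker, D_eq L.posStr (L.posStr.add_mem _ _ h1 h2) (L.posStr.add_mem _ _ h3 h4) (by ring),
    div_eq_one]
  apply Units.ext
  rw [detU_val, detU_val, det_add _ h1 h2, det_add _ h3 h4,
    det_mul hC L hL e e' he he' m n hm hn, det_mul hC L hL f f' hf hf' m n hfm hfn,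
    det_mul hC L hL e f' he hf' m n hm hfn, det_mul hC L hL f e' hf he' m n hfm hn]
  ring

include hC hL in
theorem prod_mem_Dker (t : Multiset L.carrier) (ht : ∀ w ∈ t, L.posStr.aug w = 0)
    (h2 : 2 ≤ Multiset.card t) : t.prod ∈ Dker L.posStr := by
  have h0 : t ≠ 0 := by
    intro h; rw [h] at h2; simp at h2
  obtain ⟨a, ha⟩ := Multiset.exists_mem_of_ne_zero h0
  obtain ⟨t', rfl⟩ := Multiset.exists_cons_of_mem ha
  rw [Multiset.prod_cons]
  apply mul_mem_Dker hC L hL (ht a ha)
  apply aug_prod_eq_zero _ t' (fun w hw => ht w (Multiset.mem_cons_of_mem hw))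
  intro h
  rw [h] at h2
  simp at h2

include hC hL in
theorem esymm_mem_Dker (t : Multiset L.carrier) (ht : ∀ w ∈ t, L.posStr.aug w = 0) (r : ℕ)
    (hr : 2 ≤ r) : t.esymm r ∈ Dker L.posStr := by
  rw [Multiset.esymm]
  apply AddSubgroup.multiset_sum_mem
  intro x hx
  obtain ⟨v, hv, rfl⟩ := Multiset.mem_map.mp hx
  rw [Multiset.mem_powersetCard] at hv
  exact prod_mem_Dker hC L hL v (fun w hw => ht w (Multiset.mem_of_le hv.1 hw)) (by omega)

/-- `ε(γ^r z) = 0` for `r ≥ 1` and `D(γ^r z) = 1` for `r ≥ 2`. -/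
def Q (z : L.carrier) : Prop :=
  (∀ r, 1 ≤ r → L.posStr.aug (gamma r z) = 0) ∧ ∀ r, 2 ≤ r → gamma r z ∈ Dker L.posStr

include hC hL in
theorem Q.add {z z' : L.carrier} (hz : Q L z) (hz' : Q L z') : Q L (z + z') := by
  constructor
  · intro r hr
    rw [gamma_add, map_sum]
    apply Finset.sum_eq_zero
    intro i hi
    rw [map_mul]
    by_cases hi0 : i = 0
    · subst hi0
      rw [Nat.sub_zero, hz'.1 r hr, mul_zero]
    · rw [hz.1 i (by omega), zero_mul]
  · intro r hr
    rw [gamma_add]
    apply AddSubgroup.sum_mem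
    intro i hi
    have hir : i ≤ r := by have := Finset.mem_range.mp hi; omega
    by_cases hi0 : i = 0
    · subst hi0
      have : gamma 0 z = 1 := by simp [gamma]
      rw [this, one_mul, Nat.sub_zero]
      exact hz'.2 r hr
    · by_cases hir' : i = r
      · subst hir'
        have : gamma 0 z' = 1 := by simp [gamma]
        rw [Nat.sub_self, this, mul_one]
        exact hz.2 i hr
      · exact mul_mem_Dker hC L hL (hz.1 i (by omega)) (hz'.1 (r - i) (by omega))

include hC hL in
theorem Q.neg {z : L.carrier} (hz : Q L z) : Q L (-z) := by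
  have hrec : ∀ r, r ≠ 0 → gamma r (-z) = -∑ i ∈ range r, gamma i (-z) * gamma (r - i) z := by
    intro r hr
    have h1 := gamma_add r (-z) z
    rw [neg_add_cancel, gamma_zero_arg, if_neg hr, Finset.sum_range_succ, Nat.sub_self] at h1
    have h2 : gamma 0 z = 1 := by simp [gamma]
    rw [h2, mul_one] at h1
    rw [eq_neg_iff_add_eq_zero, add_comm]; exact h1.symm
  have haug : ∀ r, 1 ≤ r → L.posStr.aug (gamma r (-z)) = 0 := by
    intro r hr
    rw [hrec r (by omega), map_neg, map_sum, neg_eq_zero]
    apply Finset.sum_eq_zero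
    intro i hi
    have := Finset.mem_range.mp hi
    rw [map_mul, hz.1 (r - i) (by omega), mul_zero]
  refine ⟨haug, ?_⟩
  intro r hr
  rw [hrec r (by omega)]
  apply AddSubgroup.neg_mem
  apply AddSubgroup.sum_mem
  intro i hi
  have hir := Finset.mem_range.mp hi
  by_cases hi0 : i = 0
  · subst hi0
    have : gamma 0 (-z) = 1 := by simp [gamma]
    rw [this, one_mul, Nat.sub_zero]
    exact hz.2 r hr
  · exact mul_mem_Dker hC L hL (haug i (by omega)) (hz.1 (r - i) (by omega))

include hC hL in
theorem Q_base (e : L.carrier) (he : e ∈ L.posStr.pos) (m : ℕ) (hm : L.posStr.aug e = m) :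
    Q L (e - (m : L.carrier)) := by
  obtain ⟨L', hL', f, hf, s, hs, hsum⟩ := hC L hL e he
  have hcs : Multiset.card s = m := by
    have := aug_lines L'.posStr s hs
    rw [hsum, hf.aug_comp, hm] at this
    exact_mod_cast this.symm
  have hmap : ∀ r, f (gamma r (e - (m : L.carrier))) = (s.map fun v => v - 1).esymm r := by
    intro r
    rw [map_gamma hf.isLambdaHom, map_sub, map_natCast, ← hsum, ← hcs,
      gamma_lines L'.posStr s hs]
  have haug0 : ∀ w ∈ s.map (fun v => v - 1), L'.posStr.aug w = 0 := by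
    intro w hw
    obtain ⟨v, hv, rfl⟩ := Multiset.mem_map.mp hw
    rw [map_sub, map_one, (hs v hv).2, sub_self]
  constructor
  · intro r hr
    rw [← hf.aug_comp, hmap r]
    exact aug_esymm_eq_zero _ _ haug0 r hr
  · intro r hr
    apply mem_Dker_of_map L.posStr hf
    rw [hmap r]
    exact esymm_mem_Dker hC L' hL' _ haug0 r hr

include hC hL in
theorem Q_of_aug (x : L.carrier) (hx : L.posStr.aug x = 0) : Q L x := by
  obtain ⟨e, f, he, hf, rfl⟩ := L.posStr.exists_sub x
  obtain ⟨m, hm⟩ := Int.eq_ofNat_of_zero_le (L.posStr.aug_pos e he).le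
  have hfm : L.posStr.aug f = m := by rw [map_sub] at hx; rw [← hm]; omega
  have e1 : e - f = (e - (m : L.carrier)) + -(f - (m : L.carrier)) := by ring
  rw [e1]
  exact Q.add hC L hL (Q_base hC L hL e he m hm) (Q.neg hC L hL (Q_base hC L hL f hf m hfm))

include hC hL in
theorem list_props (l : List (ℕ × L.carrier)) (hl : ∀ p ∈ l, L.posStr.aug p.2 = 0) :
    ((l.map Prod.fst).sum = 0 → (l.map fun p => gamma p.1 p.2).prod = 1) ∧
    (1 ≤ (l.map Prod.fst).sum → L.posStr.aug (l.map fun p => gamma p.1 p.2).prod = 0) ∧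
    (2 ≤ (l.map Prod.fst).sum → (l.map fun p => gamma p.1 p.2).prod ∈ Dker L.posStr) := by
  induction l with
  | nil => simp
  | cons p l ih =>
    have hp : L.posStr.aug p.2 = 0 := hl p List.mem_cons_self
    obtain ⟨iha, ihb, ihc⟩ := ih fun q hq => hl q (List.mem_cons_of_mem p hq)
    have hQ := Q_of_aug hC L hL p.2 hp
    simp only [List.map_cons, List.sum_cons, List.prod_cons]
    refine ⟨?_, ?_, ?_⟩
    · intro h
      have h1 : p.1 = 0 := by omega
      have h2 : (l.map Prod.fst).sum = 0 := by omega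
      rw [iha h2, h1, mul_one]
      simp [gamma]
    · intro h
      rw [map_mul]
      by_cases h1 : 1 ≤ p.1
      · rw [hQ.1 p.1 h1, zero_mul]
      · rw [ihb (by omega), mul_zero]
    · intro h
      by_cases h0 : p.1 = 0
      · have : gamma p.1 p.2 = 1 := by rw [h0]; simp [gamma]
        rw [this, one_mul]
        exact ihc (by omega)
      · by_cases h1 : (l.map Prod.fst).sum = 0
        · rw [iha h1, mul_one]
          exact hQ.2 p.1 (by omega)
        · exact mul_mem_Dker hC L hL (hQ.1 p.1 (by omega)) (ihb (by omega))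

include hC hL in
theorem filt_two_le_Dker : gammaFiltration L.posStr 2 ≤ Dker L.posStr := by
  rw [Groth.Agent.S3291.filt_pos L.posStr 2 (by norm_num), AddSubgroup.closure_le]
  rintro y ⟨l, hl, hsum, rfl⟩
  exact (list_props hC L hL l hl).2.2 hsum

include hC hL in
theorem aug_of_mem_filt_one {x : L.carrier} (hx : x ∈ gammaFiltration L.posStr 1) :
    L.posStr.aug x = 0 := by
  rw [Groth.Agent.S3291.filt_pos _ 1 one_ne_zero] at hx
  induction hx using AddSubgroup.closure_induction with
  | mem y hy =>
    obtain ⟨l, hl, hsum, rfl⟩ := hy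
    exact (list_props hC L hL l hl).2.1 hsum
  | zero => exact map_zero _
  | add y z _ _ hy hz => rw [map_add, hy, hz, add_zero]
  | neg y _ hy => rw [map_neg, hy, neg_zero]

include hC hL in
/-- a line element congruent to `1` modulo `F^2` is `1`. -/
theorem line_eq_one_of_sub_mem {w : L.carrier} (hw : L.posStr.IsLine w)
    (h : w - 1 ∈ gammaFiltration L.posStr 2) : w = 1 := by
  have h1 := filt_two_le_Dker hC L hL h
  rw [mem_Dker] at h1
  have h2 := D_line_sub_one L.posStr hw
  rw [h1, Units.val_one] at h2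
  exact h2.symm

include hC hL in
theorem aug_det (e : L.carrier) (he : e ∈ L.posStr.pos) : L.posStr.aug (det L.posStr e) = 1 := by
  obtain ⟨L', hL', f, hf, s, hs, hsum⟩ := hC L hL e he
  rw [← hf.aug_comp, map_det L.posStr hf, ← hsum, det_lines _ s hs, map_multiset_prod]
  have : s.map L'.posStr.aug = s.map (fun _ => (1 : ℤ)) :=
    Multiset.map_congr rfl (fun v hv => (hs v hv).2)
  rw [this]
  simp

theorem sub_det_mem (e : L.carrier) (he : e ∈ L.posStr.pos) (m : ℕ) (hm : L.posStr.aug e = m) :
    (e - (m : L.carrier)) - (det L.posStr e - 1) ∈ gammaFiltration L.posStr 2 := by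
  have hm1 : 1 ≤ m := by
    have := L.posStr.aug_pos e he
    rw [hm] at this
    exact_mod_cast this
  have haug : L.posStr.aug (e - (m : L.carrier)) = 0 := by
    rw [map_sub, map_natCast, hm, sub_self]
  have h := congrArg (Polynomial.eval (1 : L.carrier)) (gamma_poly_identity L.posStr e he m hm)
  simp only [Polynomial.eval_finsetSum, Polynomial.eval_mul, Polynomial.eval_C, Polynomial.eval_pow,
    Polynomial.eval_X, one_pow, mul_one, Polynomial.eval_sub, Polynomial.eval_one, sub_self] at h
  have hR : ∑ i ∈ range (m + 1), LambdaOps.lam i e * (0 : L.carrier) ^ (m - i) = det L.posStr e := by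
    rw [Finset.sum_eq_single m]
    · rw [Nat.sub_self, pow_zero, mul_one]
      unfold det
      rw [hm, Int.toNat_natCast]
    · intro i hi him
      have := Finset.mem_range.mp hi
      rw [zero_pow (by omega), mul_zero]
    · intro h0
      exfalso; apply h0; rw [Finset.mem_range]; omega
  rw [hR] at h
  have hL : ∑ i ∈ range (m + 1), gamma i (e - (m : L.carrier)) =
      1 + (e - (m : L.carrier)) + ∑ i ∈ Finset.Ico 2 (m + 1), gamma i (e - (m : L.carrier)) := by
    rw [Finset.range_eq_Ico, Finset.sum_eq_sum_Ico_succ_bot (by omega),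
      Finset.sum_eq_sum_Ico_succ_bot (by omega)]
    have h0 : gamma 0 (e - (m : L.carrier)) = 1 := by simp [gamma]
    have e2 : (0 + (1 + 1) : ℕ) = 2 := rfl
    rw [h0, Groth.Agent.S3291.gamma_one, e2, add_assoc]
  rw [hL] at h
  have e1 : (e - (m : L.carrier)) - (det L.posStr e - 1) =
      -∑ i ∈ Finset.Ico 2 (m + 1), gamma i (e - (m : L.carrier)) := by
    rw [← h]; ring
  rw [e1]
  apply AddSubgroup.neg_mem
  apply AddSubgroup.sum_mem
  intro i hi
  have hi2 : 2 ≤ i := (Finset.mem_Ico.mp hi).1
  exact filt_anti L.posStr hi2 (gamma_mem L.posStr i _ haug)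

include hC hL in
/-- every element of augmentation zero is congruent modulo `F^2` to `u - 1`, `u` a line. -/
theorem exists_line_of_aug
    (hLinv : ∀ w : L.carrier, L.posStr.IsLine w → ∃ w' : L.carrier, L.posStr.IsLine w' ∧ w * w' = 1)
    (hdet : ∀ e : L.carrier, e ∈ L.posStr.pos →
      LambdaOps.lam (L.posStr.aug e).toNat e ∈ L.posStr.pos)
    (x : L.carrier) (hx : L.posStr.aug x = 0) :
    ∃ u : L.carrier, L.posStr.IsLine u ∧ x - (u - 1) ∈ gammaFiltration L.posStr 2 := by
  obtain ⟨e, f, he, hf, rfl⟩ := L.posStr.exists_sub x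
  obtain ⟨m, hm⟩ := Int.eq_ofNat_of_zero_le (L.posStr.aug_pos e he).le
  have hfm : L.posStr.aug f = m := by rw [map_sub] at hx; rw [← hm]; omega
  have hu₁ : L.posStr.IsLine (det L.posStr e) := ⟨hdet e he, aug_det hC L hL e he⟩
  have hu₂ : L.posStr.IsLine (det L.posStr f) := ⟨hdet f hf, aug_det hC L hL f hf⟩
  obtain ⟨u₂', hu₂', hinv⟩ := hLinv _ hu₂
  refine ⟨det L.posStr e * u₂', isLine_mul _ hu₁ hu₂', ?_⟩
  have h1 := sub_det_mem L e he m hm
  have h2 := sub_det_mem L f hf m hfm
  have h3 : (det L.posStr f - det L.posStr e) * (u₂' - 1) ∈ gammaFiltration L.posStr (1 + 1) := by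
    apply mul_mem_filt
    · apply mem_filt_one_of_aug
      rw [map_sub, hu₁.2, hu₂.2, sub_self]
    · apply mem_filt_one_of_aug
      rw [map_sub, hu₂'.2, map_one, sub_self]
  have e1 : e - f - (det L.posStr e * u₂' - 1) =
      ((e - (m : L.carrier)) - (det L.posStr e - 1)) - ((f - (m : L.carrier)) - (det L.posStr f - 1))
        + (det L.posStr f - det L.posStr e) * (u₂' - 1) := by
    linear_combination -hinv
  rw [e1]
  exact AddSubgroup.add_mem _ (AddSubgroup.sub_mem _ h1 h2) h3

end Split

end Groth.Agent.Helper6.LamDet
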