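import Mathlib
import Groth.Agent.Lib.Helper6.GrRees
import Groth.Agent.Lib.Helper6.GrNewton
import Groth.Agent.Lib.Helper6.LamDet

/-!
# The Chern character `K ⊗ ℚ → Gr K ⊗ ℚ` is bijective
-/

set_option autoImplicit false
universe u

namespace Groth.Agent.Helper6.GrChern

open LambdaRing KGr Finset
open scoped TensorProduct
open Groth.Agent.Helper5.Lam Groth.Agent.Helper6.LamGam Groth.Agent.Helper6.GrRees
  Groth.Agent.Helper6.GrNewton

section Poly

open MvPolynomial

variable (d : ℕ)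

/-- the elementary symmetric polynomials, pulled back to `ℚ[X_1..X_d]`. -/
noncomputable def Epoly (i : ℕ) : MvPolynomial (Fin d) ℚ :=
  (esymmAlgEquiv (Fin d) ℚ (Fintype.card_fin d)).symm
    ⟨esymm (Fin d) ℚ i, esymm_isSymmetric _ _ i⟩

/-- the Newton polynomials. -/
noncomputable def Npoly (k : ℕ) : MvPolynomial (Fin d) ℚ :=
  (esymmAlgEquiv (Fin d) ℚ (Fintype.card_fin d)).symm
    ⟨psum (Fin d) ℚ k, psum_isSymmetric _ _ k⟩

theorem Epoly_zero : Epoly d 0 = 1 := by
  unfold Epoly
  have : (⟨esymm (Fin d) ℚ 0, esymm_isSymmetric _ _ 0⟩ : symmetricSubalgebra (Fin d) ℚ) = 1 := by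
    apply Subtype.ext
    simp [esymm_zero]
  rw [this, map_one]

theorem Epoly_succ (i : Fin d) : Epoly d (i.1 + 1) = X i :=
  esymmAlgEquiv_symm_apply ℚ (Fintype.card_fin d) i

theorem Npoly_zero : Npoly d 0 = (d : MvPolynomial (Fin d) ℚ) := by
  unfold Npoly
  have : (⟨psum (Fin d) ℚ 0, psum_isSymmetric _ _ 0⟩ : symmetricSubalgebra (Fin d) ℚ) =
      ((d : ℕ) : symmetricSubalgebra (Fin d) ℚ) := by
    apply Subtype.ext
    simp [psum_zero]
  rw [this, map_natCast]

theorem newton_poly (k : ℕ) :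
    (k : MvPolynomial (Fin d) ℚ) * Epoly d k =
      (-1) ^ (k + 1) * ∑ a ∈ (antidiagonal k).filter (fun a => a.1 < k),
        (-1) ^ a.1 * Epoly d a.1 * Npoly d a.2 := by
  apply (esymmAlgEquiv (Fin d) ℚ (Fintype.card_fin d)).injective
  simp only [map_mul, map_natCast, map_pow, map_neg, map_one, map_sum, Epoly, Npoly,
    AlgEquiv.apply_symm_apply]
  apply Subtype.ext
  simp only [MulMemClass.coe_mul, SubringClass.coe_natCast, SubmonoidClass.coe_pow,
    NegMemClass.coe_neg, OneMemClass.coe_one, AddSubmonoidClass.coe_finset_sum]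
  exact mul_esymm_eq_sum (Fin d) ℚ k

theorem chPoly_eq : chPoly d =
    ∑ k ∈ range (d + 1), C (1 / (k.factorial : ℚ)) * Npoly d k := by
  have h1 : (∑ k ∈ range (d + 1), C (1 / (k.factorial : ℚ)) * Npoly d k) =
      (esymmAlgEquiv (Fin d) ℚ (Fintype.card_fin d)).symm
        (∑ k ∈ range (d + 1), algebraMap ℚ _ (1 / (k.factorial : ℚ)) *
          ⟨psum (Fin d) ℚ k, psum_isSymmetric _ _ k⟩) := by
    rw [map_sum]
    refine sum_congr rfl fun k _ => ?_
    rw [map_mul, AlgEquiv.commutes]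
    rfl
  rw [h1]
  unfold chPoly
  congr 1
  apply Subtype.ext
  rw [AddSubmonoidClass.coe_finset_sum]
  simp only [MulMemClass.coe_mul, Subalgebra.coe_algebraMap]
  unfold expTrunc psum
  simp only [map_sum, map_mul, map_pow, Polynomial.aeval_C, Polynomial.aeval_X,
    MvPolynomial.algebraMap_eq]
  rw [Finset.sum_comm]
  refine sum_congr rfl fun k _ => ?_
  rw [Finset.mul_sum]

theorem aeval_newton {R : Type*} [CommRing R] (φ : MvPolynomial (Fin d) ℚ →+* R) (e : ℕ → R)
    (hE : ∀ i, i ≤ d → φ (Epoly d i) = e i) (k : ℕ) (hk : k ≤ d) :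
    (k : R) * e k = (-1) ^ (k + 1) * ∑ a ∈ (antidiagonal k).filter (fun a => a.1 < k),
      (-1) ^ a.1 * e a.1 * φ (Npoly d a.2) := by
  have := congrArg φ (newton_poly d k)
  rw [map_mul, map_natCast, map_mul, map_pow, map_neg, map_one, map_sum, hE k hk] at this
  rw [this]
  congr 1
  refine sum_congr rfl fun a ha => ?_
  rw [mem_filter, Finset.HasAntidiagonal.mem_antidiagonal] at ha
  rw [map_mul, map_mul, map_pow, map_neg, map_one, hE a.1 (by omega)]

theorem ch_poly_eval {R : Type*} [CommRing R] (φ : MvPolynomial (Fin d) ℚ →+* R) (q : ℚ) :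
    φ (C (q - d)) + φ (chPoly d) =
      φ (C q) + ∑ k ∈ range d, φ (C (1 / ((k + 1).factorial : ℚ))) * φ (Npoly d (k + 1)) := by
  rw [chPoly_eq, map_sum, Finset.sum_range_succ']
  simp only [map_mul, map_sub, map_natCast, Npoly_zero, Nat.factorial_zero, Nat.cast_one, div_one,
    map_one, one_mul]
  ring

end Poly

section Generic

variable {K : Type u} [CommRing K] [LambdaOps K] (P : PosStructure K)

theorem newton_unique {R : Type*} [CommRing R] (e p p' : ℕ → R) (d : ℕ) (he : e 0 = 1)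
    (h : ∀ k, 1 ≤ k → k ≤ d → (k : R) * e k = (-1) ^ (k + 1) *
      ∑ a ∈ (antidiagonal k).filter (fun a => a.1 < k), (-1) ^ a.1 * e a.1 * p a.2)
    (h' : ∀ k, 1 ≤ k → k ≤ d → (k : R) * e k = (-1) ^ (k + 1) *
      ∑ a ∈ (antidiagonal k).filter (fun a => a.1 < k), (-1) ^ a.1 * e a.1 * p' a.2) :
    ∀ k, 1 ≤ k → k ≤ d → p k = p' k := by
  intro k
  induction k using Nat.strong_induction_on with
  | _ k ih =>
    intro hk1 hkd
    have h1 := h k hk1 hkd
    have h2 := h' k hk1 hkd
    rw [sign_form e p k, Finset.Nat.sum_antidiagonal_eq_sum_range_succ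
      (fun i j => e i * (if j = 0 then 0 else (-1) ^ (j + 1) * p j)),
      Finset.sum_range_succ'] at h1
    rw [sign_form e p' k, Finset.Nat.sum_antidiagonal_eq_sum_range_succ
      (fun i j => e i * (if j = 0 then 0 else (-1) ^ (j + 1) * p' j)),
      Finset.sum_range_succ'] at h2
    simp only [he, one_mul, Nat.sub_zero] at h1 h2
    have hk0 : k ≠ 0 := by omega
    rw [if_neg hk0] at h1 h2
    have hsum : ∑ i ∈ range k, e (i + 1) *
          (if k - (i + 1) = 0 then 0 else (-1) ^ (k - (i + 1) + 1) * p (k - (i + 1))) =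
        ∑ i ∈ range k, e (i + 1) *
          (if k - (i + 1) = 0 then 0 else (-1) ^ (k - (i + 1) + 1) * p' (k - (i + 1))) := by
      refine sum_congr rfl fun i hi => ?_
      have hik := mem_range.mp hi
      by_cases h0 : k - (i + 1) = 0
      · rw [if_pos h0, if_pos h0]
      · rw [if_neg h0, if_neg h0, ih (k - (i + 1)) (by omega) (by omega) (by omega)]
    rw [hsum] at h1
    have h3 : (-1 : R) ^ (k + 1) * p k = (-1) ^ (k + 1) * p' k :=
      add_left_cancel (h1.symm.trans h2)
    have h4 : ((-1 : R) ^ (k + 1)) * ((-1) ^ (k + 1)) = 1 := by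
      rw [← pow_add, ← two_mul, pow_mul]; simp
    calc p k = ((-1 : R) ^ (k + 1) * (-1) ^ (k + 1)) * p k := by rw [h4, one_mul]
      _ = (-1) ^ (k + 1) * ((-1) ^ (k + 1) * p k) := by ring
      _ = (-1) ^ (k + 1) * ((-1) ^ (k + 1) * p' k) := by rw [h3]
      _ = ((-1 : R) ^ (k + 1) * (-1) ^ (k + 1)) * p' k := by ring
      _ = p' k := by rw [h4, one_mul]

section G

variable {R : Type*} [CommRing R] (g : ℕ → K → R)
  (g_add : ∀ n x y, x ∈ gammaFiltration P n → y ∈ gammaFiltration P n →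
    g n (x + y) = g n x + g n y)
  (g_mul : ∀ a b x y, x ∈ gammaFiltration P a → y ∈ gammaFiltration P b →
    g a x * g b y = g (a + b) (x * y))

include g_add in
theorem g_zero (n : ℕ) : g n 0 = 0 := by
  have := g_add n 0 0 (zero_mem _) (zero_mem _)
  rw [add_zero] at this
  exact left_eq_add.mp this

include g_add in
theorem g_neg (n : ℕ) {x : K} (hx : x ∈ gammaFiltration P n) : g n (-x) = -g n x := by
  have := g_add n x (-x) hx (neg_mem hx)
  rw [add_neg_cancel, g_zero P g g_add] at this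
  exact (neg_eq_of_add_eq_zero_right this.symm).symm

include g_add in
theorem g_sum (n : ℕ) {ι : Type*} (s : Finset ι) (f : ι → K)
    (hf : ∀ i ∈ s, f i ∈ gammaFiltration P n) :
    g n (∑ i ∈ s, f i) = ∑ i ∈ s, g n (f i) := by
  classical
  induction s using Finset.induction_on with
  | empty => simpa using g_zero P g g_add n
  | insert a s ha ih =>
    rw [Finset.sum_insert ha, Finset.sum_insert ha,
      g_add n _ _ (hf a (Finset.mem_insert_self a s))
        (AddSubgroup.sum_mem _ fun i hi => hf i (Finset.mem_insert_of_mem hi)),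
      ih fun i hi => hf i (Finset.mem_insert_of_mem hi)]

include g_add in
theorem g_natCast_mul (n m : ℕ) {x : K} (hx : x ∈ gammaFiltration P n) :
    g n ((m : K) * x) = (m : R) * g n x := by
  induction m with
  | zero => simp [g_zero P g g_add]
  | succ m ih =>
    have e : ((m + 1 : ℕ) : K) * x = (m : K) * x + x := by push_cast; ring
    rw [e, g_add n _ _ (smul_mem_filt P _ hx) hx, ih]
    push_cast; ring

include g_add in
theorem g_sign_mul (n j : ℕ) {x : K} (hx : x ∈ gammaFiltration P n) :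
    g n ((-1) ^ j * x) = (-1) ^ j * g n x := by
  induction j with
  | zero => simp
  | succ j ih =>
    have e : (-1 : K) ^ (j + 1) * x = -((-1) ^ j * x) := by rw [pow_succ]; ring
    rw [e, g_neg P g g_add n (smul_mem_filt P _ hx), ih]
    rw [pow_succ]; ring

include g_add g_mul in
theorem g_newton (γ Q : ℕ → K) (hγ : ∀ i, γ i ∈ gammaFiltration P i)
    (hQ : ∀ j, Q j ∈ gammaFiltration P j) (k : ℕ)
    (hN : (k : K) * γ k = (-1) ^ (k + 1) *
      ∑ a ∈ (antidiagonal k).filter (fun a => a.1 < k), (-1) ^ a.1 * γ a.1 * Q a.2) :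
    (k : R) * g k (γ k) = (-1) ^ (k + 1) *
      ∑ a ∈ (antidiagonal k).filter (fun a => a.1 < k),
        (-1) ^ a.1 * g a.1 (γ a.1) * g a.2 (Q a.2) := by
  have hmem : ∀ a ∈ (antidiagonal k).filter (fun a => a.1 < k),
      (-1 : K) ^ a.1 * γ a.1 * Q a.2 ∈ gammaFiltration P k := by
    intro a ha
    rw [mem_filter, Finset.HasAntidiagonal.mem_antidiagonal] at ha
    have := mul_mem_filt P (smul_mem_filt P ((-1 : K) ^ a.1) (hγ a.1)) (hQ a.2)
    rwa [ha.1] at this
  have h1 := congrArg (g k) hN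
  rw [g_natCast_mul P g g_add k k (hγ k),
    g_sign_mul P g g_add k (k + 1) (AddSubgroup.sum_mem _ hmem),
    g_sum P g g_add k _ _ hmem] at h1
  rw [h1]
  congr 1
  refine sum_congr rfl fun a ha => ?_
  rw [mem_filter, Finset.HasAntidiagonal.mem_antidiagonal] at ha
  obtain ⟨hk, -⟩ := ha
  subst hk
  rw [mul_assoc, g_sign_mul P g g_add _ a.1 (mul_mem_filt P (hγ a.1) (hQ a.2)),
    ← g_mul a.1 a.2 _ _ (hγ a.1) (hQ a.2), mul_assoc]

end G

end Generic

end Groth.Agent.Helper6.GrChern
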