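import Mathlib
import Groth.Agent.Lib.Helper6.GrChern

/-!
# The Chern character `K ⊗ ℚ → Gr K ⊗ ℚ` is bijective (main part)
-/

set_option autoImplicit false
universe u

namespace Groth.Agent.Helper6.GrChern

open LambdaRing KGr Finset
open scoped TensorProduct
open Groth.Agent.Helper5.Lam Groth.Agent.Helper6.LamGam Groth.Agent.Helper6.GrRees
  Groth.Agent.Helper6.GrNewton

section Main

variable {C : Set PosLambdaRing.{u}} (hC : SplitClass C) (L : PosLambdaRing.{u}) (hL : L ∈ C)

theorem aug_sub_aug (x : L.carrier) :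
    L.posStr.aug (x - ((L.posStr.aug x : ℤ) : L.carrier)) = 0 := by
  rw [map_sub, map_intCast]; simp

include hC hL in
theorem aeval_Npoly (d : ℕ) (x : L.carrier) (k : ℕ) (hk1 : 1 ≤ k) (hkd : k ≤ d) :
    MvPolynomial.aeval (fun i : Fin d => chern L.posStr (i.1 + 1) x) (Npoly d k) =
      grK L.posStr (k : ℤ) (Q L.posStr k (x - ((L.posStr.aug x : ℤ) : L.carrier))) := by
  set y := x - ((L.posStr.aug x : ℤ) : L.carrier) with hy
  have hy0 : L.posStr.aug y = 0 := aug_sub_aug L x
  have hE : ∀ i, i ≤ d →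
      MvPolynomial.aeval (fun i : Fin d => chern L.posStr (i.1 + 1) x) (Epoly d i) =
        chern L.posStr i x := by
    intro i hi
    rcases Nat.eq_zero_or_pos i with h0 | h0
    · subst h0
      rw [Epoly_zero, map_one]
      have : gamma 0 y = 1 := by simp [gamma]
      show 1 = grK L.posStr ((0 : ℕ) : ℤ) (gamma 0 y)
      rw [this]; exact (grK_one L.posStr).symm
    · obtain ⟨j, rfl⟩ : ∃ j, i = j + 1 := ⟨i - 1, by omega⟩
      have := Epoly_succ d ⟨j, by omega⟩
      rw [this, MvPolynomial.aeval_X]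
  have h := fun k (_ : 1 ≤ k) (hk : k ≤ d) =>
    aeval_newton d (MvPolynomial.aeval (fun i : Fin d => chern L.posStr (i.1 + 1) x) :
        MvPolynomial (Fin d) ℚ →ₐ[ℚ] Gr L.posStr).toRingHom
      (fun i => chern L.posStr i x) hE k hk
  have h' := fun k (_ : 1 ≤ k) (_ : k ≤ d) =>
    g_newton L.posStr (fun n z => grK L.posStr (n : ℤ) z)
      (fun n x y hx hy => grK_add L.posStr n hx hy)
      (fun a b x y hx hy => grK_mul L.posStr a b hx hy)
      (fun i => gamma i y) (fun j => Q L.posStr j y)
      (fun i => gamma_mem L.posStr i y hy0) (fun j => Q_mem hC L hL y hy0 j) k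
      (newton hC L hL y hy0 k)
  have he : chern L.posStr 0 x = 1 := by
    show grK L.posStr ((0 : ℕ) : ℤ) (gamma 0 y) = 1
    have : gamma 0 y = 1 := by simp [gamma]
    rw [this]; exact grK_one L.posStr
  exact newton_unique (fun i => chern L.posStr i x)
    (fun k => MvPolynomial.aeval (fun i : Fin d => chern L.posStr (i.1 + 1) x) (Npoly d k))
    (fun k => grK L.posStr (k : ℤ) (Q L.posStr k y)) d he h h' k hk1 hkd

include hC hL in
theorem ch_formula (d : ℕ) (x : L.carrier) :
    chK L.posStr d x = algebraMap ℚ (Gr L.posStr) (L.posStr.aug x) +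
      ∑ k ∈ range d, (1 / ((k + 1).factorial : ℚ)) •
        grK L.posStr ((k + 1 : ℕ) : ℤ)
          (Q L.posStr (k + 1) (x - ((L.posStr.aug x : ℤ) : L.carrier))) := by
  unfold chK
  set φ := (MvPolynomial.aeval (fun i : Fin d => chern L.posStr (i.1 + 1) x) :
        MvPolynomial (Fin d) ℚ →ₐ[ℚ] Gr L.posStr).toRingHom with hφ
  have h1 := ch_poly_eval d (R := Gr L.posStr) φ (L.posStr.aug x : ℚ)
  have hCq : ∀ r : ℚ, φ (MvPolynomial.C r) = algebraMap ℚ (Gr L.posStr) r := fun r =>
    MvPolynomial.aeval_C _ r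
  have h2 : ∀ k ∈ range d, φ (MvPolynomial.C (1 / ((k + 1).factorial : ℚ))) *
        φ (Npoly d (k + 1)) =
      (1 / ((k + 1).factorial : ℚ)) •
        grK L.posStr ((k + 1 : ℕ) : ℤ)
          (Q L.posStr (k + 1) (x - ((L.posStr.aug x : ℤ) : L.carrier))) := by
    intro k hk
    have e1 : φ (Npoly d (k + 1)) = grK L.posStr ((k + 1 : ℕ) : ℤ)
        (Q L.posStr (k + 1) (x - ((L.posStr.aug x : ℤ) : L.carrier))) :=
      aeval_Npoly hC L hL d x (k + 1) (by omega) (by have := mem_range.mp hk; omega)
    rw [e1, hCq]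
    exact (Algebra.smul_def _ _).symm
  rw [Finset.sum_congr rfl h2, hCq, hCq] at h1
  exact h1

include hC hL in
theorem ch_add (d : ℕ) (x y : L.carrier) :
    chK L.posStr d (x + y) = chK L.posStr d x + chK L.posStr d y := by
  rw [ch_formula hC L hL, ch_formula hC L hL, ch_formula hC L hL]
  have e : x + y - ((L.posStr.aug (x + y) : ℤ) : L.carrier) =
      (x - ((L.posStr.aug x : ℤ) : L.carrier)) + (y - ((L.posStr.aug y : ℤ) : L.carrier)) := by
    rw [map_add]; push_cast; ring
  have hx0 := aug_sub_aug L x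
  have hy0 := aug_sub_aug L y
  rw [e, map_add, Int.cast_add, map_add]
  have h : ∀ k ∈ range d, (1 / ((k + 1).factorial : ℚ)) •
      grK L.posStr ((k + 1 : ℕ) : ℤ) (Q L.posStr (k + 1)
        ((x - ((L.posStr.aug x : ℤ) : L.carrier)) + (y - ((L.posStr.aug y : ℤ) : L.carrier)))) =
      (1 / ((k + 1).factorial : ℚ)) •
        grK L.posStr ((k + 1 : ℕ) : ℤ)
          (Q L.posStr (k + 1) (x - ((L.posStr.aug x : ℤ) : L.carrier))) +
      (1 / ((k + 1).factorial : ℚ)) •
        grK L.posStr ((k + 1 : ℕ) : ℤ)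
          (Q L.posStr (k + 1) (y - ((L.posStr.aug y : ℤ) : L.carrier))) := by
    intro k _
    rw [Q_add, grK_add _ (k + 1) (Q_mem hC L hL _ hx0 (k + 1)) (Q_mem hC L hL _ hy0 (k + 1)),
      smul_add]
  rw [Finset.sum_congr rfl h, Finset.sum_add_distrib]
  abel

include hC hL in
theorem ch_sub_grK (d : ℕ) (hd : gammaFiltration L.posStr (d + 1) = ⊥) (n : ℕ) (y : L.carrier)
    (hy : y ∈ gammaFiltration L.posStr n) :
    chK L.posStr d y - grK L.posStr (n : ℤ) y ∈ S L.posStr (n + 1) := by
  rcases Nat.eq_zero_or_pos n with hn | hn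
  · subst hn
    rw [ch_formula hC L hL, grK_deg_zero L.posStr y
      (Groth.Agent.Helper6.LamDet.mem_filt_one_of_aug _ (aug_sub_aug L y)), add_sub_cancel_left]
    refine Submodule.sum_mem _ fun k _ => Submodule.smul_mem _ _ ?_
    exact grK_mem_S _ (by omega) (Q_mem hC L hL _ (aug_sub_aug L y) (k + 1))
  · rcases le_or_gt n d with hnd | hnd
    swap
    · have h0 : y = 0 := by
        have := filt_anti L.posStr (show d + 1 ≤ n by omega) hy
        rwa [hd, AddSubgroup.mem_bot] at this
      subst h0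
      rw [grK_zero, sub_zero, ch_formula hC L hL]
      simp only [map_zero, Int.cast_zero, sub_zero, Q_zero, grK_zero, smul_zero,
        Finset.sum_const_zero, add_zero]
      exact zero_mem _
    · have haug : L.posStr.aug y = 0 :=
        Groth.Agent.Helper6.LamDet.aug_of_mem_filt_one hC L hL (filt_anti L.posStr hn hy)
      rw [ch_formula hC L hL, haug]
      simp only [Int.cast_zero, map_zero, zero_add, sub_zero]
      have hsplit : grK L.posStr (n : ℤ) y =
          ∑ k ∈ range d, if k + 1 = n then grK L.posStr (n : ℤ) y else 0 := by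
        rw [Finset.sum_eq_single (n - 1)]
        · rw [if_pos (by omega)]
        · intro b _ hb; rw [if_neg (by omega)]
        · intro h; exact absurd (mem_range.mpr (by omega)) h
      rw [hsplit, ← Finset.sum_sub_distrib]
      refine Submodule.sum_mem _ fun k hk => ?_
      rcases lt_trichotomy (k + 1) n with h1 | h1 | h1
      · rw [if_neg (by omega), sub_zero]
        have : Q L.posStr (k + 1) y ∈ gammaFiltration L.posStr (k + 1 + 1) :=
          filt_anti L.posStr (by omega) (Q_mem_of_mem hC L hL n y hy (k + 1))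
        rw [grK_eq_zero L.posStr (k + 1) this, smul_zero]; exact zero_mem _
      · rw [if_pos h1]
        subst h1
        have hQ := Q_sub_factorial hC L hL (k + 1) y hy
        have h2 : Q L.posStr (k + 1) y =
            (Q L.posStr (k + 1) y - ((k + 1).factorial : L.carrier) * y) +
              (((k + 1).factorial : ℤ) : L.carrier) * y := by push_cast; ring
        rw [h2, grK_add L.posStr (k + 1) (filt_anti _ (Nat.le_succ _) hQ)
          (smul_mem_filt _ _ hy), grK_eq_zero L.posStr (k + 1) hQ, zero_add,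
          grK_intCast_mul L.posStr (k + 1) _ hy]
        have h3 : (1 / ((k + 1).factorial : ℚ)) •
            ((((k + 1).factorial : ℕ) : ℤ) • grK L.posStr ((k + 1 : ℕ) : ℤ) y) =
            grK L.posStr ((k + 1 : ℕ) : ℤ) y := by
          rw [← Int.cast_smul_eq_zsmul ℚ, smul_smul]
          have : (1 / ((k + 1).factorial : ℚ)) * ((((k + 1).factorial : ℕ) : ℤ) : ℚ) = 1 := by
            have := Nat.factorial_pos (k + 1)
            push_cast
            field_simp
          rw [this, one_smul]
        rw [h3, sub_self]; exact zero_mem _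
      · rw [if_neg (by omega), sub_zero]
        exact Submodule.smul_mem _ _ (grK_mem_S _ (by omega) (Q_mem hC L hL y haug (k + 1)))

theorem exists_rep {A : Type*} [AddCommGroup A] (v : ℚ ⊗[ℤ] A) :
    ∃ (N : ℕ) (x : A), 1 ≤ N ∧ v = (1 / (N : ℚ)) ⊗ₜ[ℤ] x := by
  induction v using TensorProduct.induction_on with
  | zero => exact ⟨1, 0, le_rfl, by simp⟩
  | tmul q a =>
    refine ⟨q.den, q.num • a, q.den_pos, ?_⟩
    rw [TensorProduct.tmul_smul, TensorProduct.smul_tmul']
    congr 1
    rw [zsmul_eq_mul]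
    have hd : (q.den : ℚ) ≠ 0 := by exact_mod_cast q.den_nz
    field_simp
    exact Rat.mul_den_eq_num q
  | add v w hv hw =>
    obtain ⟨N, x, hN, rfl⟩ := hv
    obtain ⟨M, y, hM, rfl⟩ := hw
    refine ⟨N * M, (M : ℤ) • x + (N : ℤ) • y, Nat.one_le_iff_ne_zero.mpr (by positivity), ?_⟩
    have hN0 : (N : ℚ) ≠ 0 := by positivity
    have hM0 : (M : ℚ) ≠ 0 := by positivity
    rw [TensorProduct.tmul_add, TensorProduct.tmul_smul, TensorProduct.tmul_smul,
      TensorProduct.smul_tmul', TensorProduct.smul_tmul']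
    congr 2
    · rw [zsmul_eq_mul]; push_cast; field_simp
    · rw [zsmul_eq_mul]; push_cast; field_simp

include hC hL in
theorem chern_bijective (d : ℕ) (hd : gammaFiltration L.posStr (d + 1) = ⊥) :
    ∃ Φ : TensorProduct ℤ ℚ L.carrier →ₗ[ℚ] Gr L.posStr,
      (∀ x : L.carrier, Φ ((1 : ℚ) ⊗ₜ[ℤ] x) = chK L.posStr d x) ∧ Function.Bijective Φ := by
  let chHom : L.carrier →+ Gr L.posStr :=
    AddMonoidHom.mk' (chK L.posStr d) (ch_add hC L hL d)
  let Φ : ℚ ⊗[ℤ] L.carrier →ₗ[ℚ] Gr L.posStr := LinearMap.liftBaseChange ℚ chHom.toIntLinearMap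
  have hΦ : ∀ (q : ℚ) (x : L.carrier), Φ (q ⊗ₜ[ℤ] x) = q • chK L.posStr d x := fun q x => by
    simp [Φ, chHom]
  refine ⟨Φ, fun x => by rw [hΦ, one_smul], ?_, ?_⟩
  · rw [injective_iff_map_eq_zero]
    intro v hv
    obtain ⟨N, x, hN, rfl⟩ := exists_rep v
    rw [hΦ] at hv
    have hN0 : (N : ℚ) ≠ 0 := by positivity
    have hch : chK L.posStr d x = 0 := by
      have : chK L.posStr d x = (N : ℚ) • ((1 / (N : ℚ)) • chK L.posStr d x) := by
        rw [smul_smul, mul_one_div_cancel hN0, one_smul]
      rw [this, hv, smul_zero]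
    have key : ∀ n, ∃ M : ℕ, 1 ≤ M ∧ (M : ℤ) • x ∈ gammaFiltration L.posStr n := by
      intro n
      induction n with
      | zero => exact ⟨1, le_rfl, by rw [Groth.Agent.S3291.filt_zero]; trivial⟩
      | succ n ih =>
        obtain ⟨M, hM, hMx⟩ := ih
        have h1 : chK L.posStr d ((M : ℤ) • x) = 0 := by
          have := map_zsmul chHom (M : ℤ) x
          have e : chHom x = 0 := hch
          rw [e, smul_zero] at this
          exact this
        have h2 := ch_sub_grK hC L hL d hd n _ hMx
        rw [h1, zero_sub] at h2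
        have h3 := prQ_S L.posStr n h2
        rw [map_neg, prQ_grK L.posStr n n hMx, if_pos rfl, neg_eq_zero] at h3
        obtain ⟨M', hM', h4⟩ := exists_nsmul_eq_zero_of_tmul_eq_zero _ h3
        refine ⟨M' * M, Nat.one_le_iff_ne_zero.mpr (by positivity), ?_⟩
        have h5 : M' • ((M : ℤ) • x) ∈ gammaFiltration L.posStr (n + 1) := by
          rw [← QuotientAddGroup.eq_zero_iff]
          exact h4
        have e : ((M' * M : ℕ) : ℤ) • x = M' • ((M : ℤ) • x) := by
          rw [Nat.cast_mul, mul_smul, natCast_zsmul]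
        rw [e]; exact h5
    obtain ⟨M, hM, hMx⟩ := key (d + 1)
    rw [hd, AddSubgroup.mem_bot] at hMx
    have hM0 : (M : ℚ) ≠ 0 := by positivity
    have : (1 / (N : ℚ)) ⊗ₜ[ℤ] x = (1 / ((N : ℚ) * M)) ⊗ₜ[ℤ] ((M : ℤ) • x) := by
      rw [TensorProduct.tmul_smul, TensorProduct.smul_tmul']
      congr 1
      rw [zsmul_eq_mul]; push_cast; field_simp
    rw [this, hMx, TensorProduct.tmul_zero]
  · rw [← LinearMap.range_eq_top]
    have key : ∀ m n, n + m = d + 1 → S L.posStr n ≤ LinearMap.range Φ := by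
      intro m
      induction m with
      | zero =>
        intro n hn
        rw [add_zero] at hn
        subst hn
        rw [S_eq_bot L.posStr d hd]; exact bot_le
      | succ m ih =>
        intro n hn
        have ih' := ih (n + 1) (by omega)
        apply Submodule.span_le.mpr
        rintro z ⟨k, x, hk, hx, rfl⟩
        rcases Nat.eq_or_lt_of_le hk with h | h
        · subst h
          have h2 := ch_sub_grK hC L hL d hd n x hx
          have h3 : chK L.posStr d x ∈ LinearMap.range Φ :=
            ⟨(1 : ℚ) ⊗ₜ[ℤ] x, by rw [hΦ, one_smul]⟩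
          have e : grK L.posStr (n : ℤ) x =
              chK L.posStr d x - (chK L.posStr d x - grK L.posStr (n : ℤ) x) := by abel
          rw [e]
          exact sub_mem h3 (ih' h2)
        · exact ih' (grK_mem_S _ (by omega) hx)
    have := key (d + 1) 0 (by omega)
    rw [S_zero] at this
    exact top_le_iff.mp this

end Main

end Groth.Agent.Helper6.GrChern
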