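import Mathlib
import Groth.Prelude.Def_AssocGrMod
import Groth.Agent.Lib.Helper1.LocalCriterion

/-!
# Flatness from injectivity of `gr(A) ⊗ M/IM → gr(M)` for a nilpotent ideal

Helper library (helper6) for S16454.
-/

namespace Groth.Agent.Helper6.GrFlatNil

open TensorProduct Function

universe u

section General

variable {A : Type*} [CommRing A]

/-- If `I` kills `G`, then `G ⊗ M → G ⊗ (M / I M)` is injective. -/
theorem lTensor_mkQ_injective (I : Ideal A) (G M : Type*) [AddCommGroup G] [Module A G]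
    [AddCommGroup M] [Module A M] (hG : ∀ a ∈ I, ∀ g : G, a • g = 0) :
    Injective ((I • (⊤ : Submodule A M)).mkQ.lTensor G) := by
  have hex := lTensor_exact G (LinearMap.exact_subtype_mkQ (I • (⊤ : Submodule A M)))
    (Submodule.mkQ_surjective _)
  have hpure : ∀ (g : G) (n : M), n ∈ I • (⊤ : Submodule A M) → g ⊗ₜ[A] n = 0 := by
    intro g n hn
    refine Submodule.smul_induction_on hn ?_ ?_
    · intro a ha m _
      rw [TensorProduct.tmul_smul, TensorProduct.smul_tmul', hG a ha g, TensorProduct.zero_tmul]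
    · intro x y hx hy
      rw [TensorProduct.tmul_add, hx, hy, add_zero]
  have hzero : ∀ w : G ⊗[A] ↥(I • (⊤ : Submodule A M)),
      (I • (⊤ : Submodule A M)).subtype.lTensor G w = 0 := by
    intro w
    induction w using TensorProduct.induction_on with
    | zero => rw [map_zero]
    | tmul g n =>
      rw [LinearMap.lTensor_tmul]
      exact hpure g _ n.2
    | add x y hx hy => rw [map_add, hx, hy, add_zero]
  rw [injective_iff_map_eq_zero]
  intro z hz
  obtain ⟨w, rfl⟩ := (hex z).mp hz
  exact hzero w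

/-- One step of the descending induction: if `J' ⊗ M → A ⊗ M` is injective, `J' ≤ J`,
`π : J → G` is surjective with kernel `J'`, and every element of the kernel of `J ⊗ M → A ⊗ M`
dies in `G ⊗ M`, then `J ⊗ M → A ⊗ M` is injective. -/
theorem rTensor_subtype_injective_step (J' J : Ideal A) (hle : J' ≤ J)
    (M : Type*) [AddCommGroup M] [Module A M]
    {G : Type*} [AddCommGroup G] [Module A G] (π : ↥J →ₗ[A] G) (hπs : Surjective π)
    (hπ : ∀ b : ↥J, π b = 0 ↔ (b : A) ∈ J')
    (hJ' : Injective (J'.subtype.rTensor M))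
    (hker : ∀ z : ↥J ⊗[A] M, J.subtype.rTensor M z = 0 → π.rTensor M z = 0) :
    Injective (J.subtype.rTensor M) := by
  rw [injective_iff_map_eq_zero]
  intro z hz
  have hex : Exact (Submodule.inclusion hle) π := by
    intro b
    rw [hπ b]
    constructor
    · intro hb
      exact ⟨⟨b, hb⟩, Subtype.ext rfl⟩
    · rintro ⟨c, rfl⟩
      exact c.2
  have hex' := rTensor_exact M hex hπs
  obtain ⟨z', rfl⟩ := (hex' z).mp (hker z hz)
  have hcomp : J.subtype.rTensor M ((Submodule.inclusion hle).rTensor M z') =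
      J'.subtype.rTensor M z' := by
    rw [← LinearMap.comp_apply, ← LinearMap.rTensor_comp, Submodule.subtype_comp_inclusion]
  rw [hcomp] at hz
  rw [hJ' (hz.trans (map_zero _).symm), map_zero]

end General

section Main

variable (A : Type u) [CommRing A] (I : Ideal A) (M : Type u) [AddCommGroup M] [Module A M]

theorem smul_gr_eq_zero (n : ℕ) (a : A) (ha : a ∈ I)
    (g : ↥(AssocGr.gr (FiltBl.IdealFiltration.adic I) n)) : a • g = 0 := by
  obtain ⟨b, rfl⟩ := AssocGr.inDeg_surjective (FiltBl.IdealFiltration.adic I) n g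
  rw [← map_smul, AssocGr.inDeg_eq_zero_iff]
  show a * (b : A) ∈ I ^ (n + 1)
  rw [pow_succ']
  exact Ideal.mul_mem_mul ha (show (b : A) ∈ I ^ n from b.2)

theorem mem_powFilt_zero (m : M) : m ∈ (Rees.powFilt I M).N 0 := by
  show m ∈ I ^ 0 • (⊤ : Submodule A M)
  rw [pow_zero, Ideal.one_eq_top, Submodule.top_smul]
  trivial

/-- The hypothesis of S16454, in the form used: the kernel of `Iⁿ ⊗ M → A ⊗ M` dies in
`grⁿ ⊗ M`. -/
theorem rTensor_inDeg_eq_zero
    (hinj : ∀ (n k : ℕ) (a : Fin k → ↥((FiltBl.IdealFiltration.adic I).F n))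
      (x : Fin k → ↥((Rees.powFilt I M).N 0)),
      (∑ i, (AssocGr.inDeg (FiltBl.IdealFiltration.adic I) n (a i) :
          AssocGr.GrRing (FiltBl.IdealFiltration.adic I)) •
        (AssocGr.inDegM (Rees.powFilt I M) 0 (x i) : AssocGr.GrMod (Rees.powFilt I M))) = 0 →
      (∑ i, (AssocGr.inDeg (FiltBl.IdealFiltration.adic I) n (a i)) ⊗ₜ[A]
          (Submodule.Quotient.mk (x i : M)) :
        ↥(AssocGr.gr (FiltBl.IdealFiltration.adic I) n) ⊗[A] (M ⧸ (I • (⊤ : Submodule A M)))) = 0)
    (n : ℕ) (z : ↥((FiltBl.IdealFiltration.adic I).F n) ⊗[A] M)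
    (hz : ((FiltBl.IdealFiltration.adic I).F n).subtype.rTensor M z = 0) :
    (AssocGr.inDeg (FiltBl.IdealFiltration.adic I) n).rTensor M z = 0 := by
  classical
  obtain ⟨S, hS⟩ := TensorProduct.exists_finset z
  let e : Fin S.card ≃ ↥S := S.equivFin.symm
  let a : Fin S.card → ↥((FiltBl.IdealFiltration.adic I).F n) := fun j => (e j).1.1
  let x : Fin S.card → ↥((Rees.powFilt I M).N 0) :=
    fun j => ⟨(e j).1.2, mem_powFilt_zero A I M _⟩
  have hzsum : z = ∑ j, a j ⊗ₜ[A] ((x j : ↥((Rees.powFilt I M).N 0)) : M) := by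
    rw [hS, ← Finset.sum_coe_sort S (fun p => p.1 ⊗ₜ[A] p.2)]
    exact (Equiv.sum_comp e (fun s : ↥S => s.1.1 ⊗ₜ[A] s.1.2)).symm
  have hz0 : ∑ j, (a j : A) • ((x j : ↥((Rees.powFilt I M).N 0)) : M) = 0 := by
    have h := congrArg (TensorProduct.lid A M) hz
    rw [hzsum, map_sum, map_sum, map_zero] at h
    simp only [LinearMap.rTensor_tmul, Submodule.subtype_apply, TensorProduct.lid_tmul] at h
    exact h
  -- the hypothesis of `hinj`
  have hsum : (∑ i, (AssocGr.inDeg (FiltBl.IdealFiltration.adic I) n (a i) :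
          AssocGr.GrRing (FiltBl.IdealFiltration.adic I)) •
        (AssocGr.inDegM (Rees.powFilt I M) 0 (x i) : AssocGr.GrMod (Rees.powFilt I M))) = 0 := by
    let y : Fin S.card → ↥((Rees.powFilt I M).N (n + 0)) := fun j =>
      ⟨(a j : A) • ((x j : ↥((Rees.powFilt I M).N 0)) : M),
        (Rees.powFilt I M).pow_smul_le n 0
          (Submodule.smul_mem_smul (show (a j : A) ∈ I ^ n from (a j).2) (x j).2)⟩
    let φ : ↥((Rees.powFilt I M).N (n + 0)) →+ AssocGr.GrMod (Rees.powFilt I M) :=
      (AddSubgroup.subtype _).comp (AssocGr.inDegM (Rees.powFilt I M) (n + 0))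
    have hterm : ∀ j, (AssocGr.inDeg (FiltBl.IdealFiltration.adic I) n (a j) :
          AssocGr.GrRing (FiltBl.IdealFiltration.adic I)) •
        (AssocGr.inDegM (Rees.powFilt I M) 0 (x j) : AssocGr.GrMod (Rees.powFilt I M)) =
          φ (y j) := fun j => AssocGr.inDeg_smul_inDegM (Rees.powFilt I M) n 0 (a j) (x j)
    rw [Finset.sum_congr rfl (fun j _ => hterm j), ← map_sum]
    have hy0 : ∑ j, y j = 0 := Subtype.ext (by
      rw [Submodule.coe_sum]
      exact hz0)
    rw [hy0, map_zero]
  have hconcl := hinj n S.card a x hsum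
  apply lTensor_mkQ_injective I _ M (smul_gr_eq_zero A I n)
  rw [map_zero, hzsum, map_sum, map_sum]
  simp only [LinearMap.rTensor_tmul, LinearMap.lTensor_tmul, Submodule.mkQ_apply]
  exact hconcl

/-- S16454: flatness of `M` from flatness of `M/IM` over `A/I` and injectivity of
`gr(A) ⊗ M/IM → gr(M)`, for `I` nilpotent. -/
theorem flat_of_grTensor_injective (hI : IsNilpotent I)
    (hflat : Module.Flat (A ⧸ I) (M ⧸ (I • (⊤ : Submodule A M))))
    (hinj : ∀ (n k : ℕ) (a : Fin k → ↥((FiltBl.IdealFiltration.adic I).F n))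
      (x : Fin k → ↥((Rees.powFilt I M).N 0)),
      (∑ i, (AssocGr.inDeg (FiltBl.IdealFiltration.adic I) n (a i) :
          AssocGr.GrRing (FiltBl.IdealFiltration.adic I)) •
        (AssocGr.inDegM (Rees.powFilt I M) 0 (x i) : AssocGr.GrMod (Rees.powFilt I M))) = 0 →
      (∑ i, (AssocGr.inDeg (FiltBl.IdealFiltration.adic I) n (a i)) ⊗ₜ[A]
          (Submodule.Quotient.mk (x i : M)) :
        ↥(AssocGr.gr (FiltBl.IdealFiltration.adic I) n) ⊗[A] (M ⧸ (I • (⊤ : Submodule A M)))) = 0) :
    Module.Flat A M := by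
  haveI : IsScalarTower A (A ⧸ I) (M ⧸ (I • (⊤ : Submodule A M))) :=
    (Module.isTorsionBySet_quotient_ideal_smul M I).isScalarTower
  haveI H2 : Module.Flat (A ⧸ I) ((A ⧸ I) ⊗[A] M) :=
    Module.Flat.of_linearEquiv
      ((TensorProduct.quotTensorEquivQuotSMul M I).extendScalarsOfSurjective
        Ideal.Quotient.mk_surjective)
  obtain ⟨N, hN⟩ := hI
  have key : ∀ d i, N ≤ i + d →
      Injective (((FiltBl.IdealFiltration.adic I).F i).subtype.rTensor M) := by
    intro d
    induction d with
    | zero =>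
      intro i hi
      have hbot : (FiltBl.IdealFiltration.adic I).F i = ⊥ := by
        obtain ⟨e, rfl⟩ := Nat.exists_eq_add_of_le (show N ≤ i by omega)
        show I ^ (N + e) = ⊥
        rw [pow_add, hN, zero_mul, Ideal.zero_eq_bot]
      have hzero : ∀ z : ↥((FiltBl.IdealFiltration.adic I).F i) ⊗[A] M, z = 0 := by
        intro z
        induction z using TensorProduct.induction_on with
        | zero => rfl
        | tmul b m =>
          have hb : b = 0 := by
            have h2 : (b : A) ∈ (⊥ : Ideal A) := hbot.le b.2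
            exact Subtype.ext ((Submodule.mem_bot A).mp h2)
          rw [hb, TensorProduct.zero_tmul]
        | add x y hx hy => rw [hx, hy, add_zero]
      intro z w _
      rw [hzero z, hzero w]
    | succ d ih =>
      intro i hi
      refine rTensor_subtype_injective_step ((FiltBl.IdealFiltration.adic I).F (i + 1))
        ((FiltBl.IdealFiltration.adic I).F i)
        ((FiltBl.IdealFiltration.adic I).antitone (Nat.le_succ i)) M
        (AssocGr.inDeg (FiltBl.IdealFiltration.adic I) i)
        (AssocGr.inDeg_surjective _ i)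
        (fun b => AssocGr.inDeg_eq_zero_iff _ i b) (ih (i + 1) (by omega)) ?_
      intro z hz
      exact rTensor_inDeg_eq_zero A I M hinj i z hz
  have h1 := key N 1 (by omega)
  have hI1 : (FiltBl.IdealFiltration.adic I).F 1 = I := pow_one I
  have gen : ∀ J : Ideal A, J = (FiltBl.IdealFiltration.adic I).F 1 →
      Injective (J.subtype.rTensor M) := by
    rintro J rfl
    exact h1
  exact Groth.Agent.Helper1.flat_of_isNilpotent I ⟨N, hN⟩ (gen I hI1.symm)

end Main

end Groth.Agent.Helper6.GrFlatNil
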