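import Mathlib
import Groth.Agent.Lib.Helper6.TorBalance

set_option autoImplicit false
set_option linter.style.haveILetI false

open CategoryTheory MvPolynomial TensorProduct

namespace Groth.Agent.Helper6.GrFree

universe u

section tor

variable {R : Type u} [CommRing R]

/-- If `Tor₁(M, R/I) = 0` and `φ : F → M` is a surjection from a flat module, then
`ker φ ∩ I F = I (ker φ)`. -/
theorem mem_smul_top_ker_of_tor (I : Ideal R) {F M : Type u} [AddCommGroup F] [Module R F]
    [Module.Flat R F] [AddCommGroup M] [Module R M] (φ : F →ₗ[R] M)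
    (hφ : Function.Surjective φ)
    (h : Limits.IsZero (((Tor (ModuleCat.{u} R) 1).obj (ModuleCat.of R M)).obj
      (ModuleCat.of R (R ⧸ I))))
    (a : F) (ha : a ∈ LinearMap.ker φ) (ha' : a ∈ I • (⊤ : Submodule R F)) :
    (⟨a, ha⟩ : LinearMap.ker φ) ∈ I • (⊤ : Submodule R (LinearMap.ker φ)) := by
  let T := φ.shortComplexKer
  have hT : T.ShortExact := LinearMap.shortExact_shortComplexKer hφ
  haveI : Module.Flat R T.X₂ := (inferInstance : Module.Flat R F)
  obtain ⟨e⟩ := Groth.Agent.Helper6.TorBalance.tor_one_iso_ker hT (ModuleCat.of R (R ⧸ I))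
  have hz : Limits.IsZero (ModuleCat.of R
      (LinearMap.ker (T.f.hom.rTensor (ModuleCat.of R (R ⧸ I))))) :=
    Limits.IsZero.of_iso h e.symm
  have hsub : Subsingleton (LinearMap.ker ((LinearMap.ker φ).subtype.rTensor (R ⧸ I))) :=
    ModuleCat.subsingleton_of_isZero hz
  have hx : ((⟨a, ha⟩ : LinearMap.ker φ) ⊗ₜ[R] (1 : R ⧸ I)) ∈
      LinearMap.ker ((LinearMap.ker φ).subtype.rTensor (R ⧸ I)) := by
    rw [LinearMap.mem_ker, LinearMap.rTensor_tmul]
    have h1 : (a ⊗ₜ[R] (1 : R ⧸ I) : F ⊗[R] (R ⧸ I)) =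
        (TensorProduct.tensorQuotEquivQuotSMul F I).symm (Submodule.Quotient.mk a) := rfl
    rw [Submodule.subtype_apply, h1, (Submodule.Quotient.mk_eq_zero _).2 ha', map_zero]
  have hx0 : ((⟨a, ha⟩ : LinearMap.ker φ) ⊗ₜ[R] (1 : R ⧸ I)) = 0 := by
    have := Subsingleton.elim (⟨_, hx⟩ : LinearMap.ker
      ((LinearMap.ker φ).subtype.rTensor (R ⧸ I))) 0
    exact congrArg Subtype.val this
  have h2 : (TensorProduct.tensorQuotEquivQuotSMul (LinearMap.ker φ) I).symm
      (Submodule.Quotient.mk (⟨a, ha⟩ : LinearMap.ker φ)) = 0 := hx0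
  rw [LinearEquiv.map_eq_zero_iff] at h2
  exact (Submodule.Quotient.mk_eq_zero _).1 h2

/-- Krull intersection: a submodule `K` of a finite free module over a Noetherian domain with
`K = I K` (elementwise form), `I` proper, is zero. -/
theorem eq_bot_of_forall_mem_smul_top {R : Type*} [CommRing R] [IsNoetherianRing R] [IsDomain R]
    (I : Ideal R) (hI : I ≠ ⊤) {ι : Type*} (K : Submodule R (ι → R))
    (hK : ∀ (a : ι → R) (ha : a ∈ K), (⟨a, ha⟩ : K) ∈ I • (⊤ : Submodule R K)) : K = ⊥ := by
  have key : ∀ j : ℕ, ∀ a ∈ K, ∀ i, a i ∈ I ^ j := by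
    intro j
    induction j with
    | zero =>
      intro a _ i
      rw [pow_zero, Ideal.one_eq_top]
      exact Submodule.mem_top
    | succ j ih =>
      intro a ha i
      have h1 := hK a ha
      have h2 : ∀ x : K, x ∈ I • (⊤ : Submodule R K) → (x : ι → R) i ∈ I ^ (j + 1) := by
        intro x hx
        refine Submodule.smul_induction_on hx ?_ ?_
        · intro c hc y _
          have h3 : ((c • y : K) : ι → R) i = c * (y : ι → R) i := rfl
          rw [h3, pow_succ']
          exact Ideal.mul_mem_mul hc (ih _ y.2 i)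
        · intro x y hx hy
          have h3 : ((x + y : K) : ι → R) i = (x : ι → R) i + (y : ι → R) i := rfl
          rw [h3]
          exact Ideal.add_mem _ hx hy
      exact h2 ⟨a, ha⟩ h1
  rw [eq_bot_iff]
  intro a ha
  rw [Submodule.mem_bot]
  funext i
  have h4 : a i ∈ (⨅ j : ℕ, I ^ j : Ideal R) := by
    rw [Ideal.mem_iInf]
    intro j
    exact key j a ha i
  rw [Ideal.iInf_pow_eq_bot_of_isDomain I hI] at h4
  exact Ideal.mem_bot.1 h4

end tor

section graded

variable {k : Type u} [Field k] {n : ℕ}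
  {M : Type u} [AddCommGroup M] [Module (MvPolynomial (Fin (n + 1)) k) M]
  (ℳ : ℕ → AddSubgroup M)
  [SetLike.GradedSMul (MvPolynomial.homogeneousSubmodule (Fin (n + 1)) k) ℳ]
  [DirectSum.Decomposition ℳ]

/-- degree `d` component of `a • x` for `x` homogeneous of degree `e`. -/
theorem proj_smul_of_mem (a : MvPolynomial (Fin (n + 1)) k) {x : M} {e : ℕ} (hx : x ∈ ℳ e)
    (d : ℕ) :
    ((DirectSum.decompose ℳ (a • x) d : ℳ d) : M) =
      (if e ≤ d then homogeneousComponent (d - e) a else 0) • x := by
  classical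
  have h1 : a • x = ∑ t ∈ Finset.range (a.totalDegree + 1), homogeneousComponent t a • x := by
    conv_lhs => rw [← sum_homogeneousComponent a]
    rw [Finset.sum_smul]
  have h2 : ∀ t, ((DirectSum.decompose ℳ (homogeneousComponent t a • x) d : ℳ d) : M) =
      if t + e = d then homogeneousComponent t a • x else 0 := by
    intro t
    have hm : homogeneousComponent t a • x ∈ ℳ (t + e) :=
      SetLike.GradedSMul.smul_mem (homogeneousComponent_mem t a) hx
    split_ifs with h
    · subst h
      exact DirectSum.decompose_of_mem_same ℳ hm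
    · exact DirectSum.decompose_of_mem_ne ℳ hm h
  rw [h1, DirectSum.decompose_sum, DirectSum.sum_apply, AddSubmonoidClass.coe_finsetSum]
  simp_rw [h2]
  split_ifs with hed
  · by_cases hr : d - e ∈ Finset.range (a.totalDegree + 1)
    · rw [Finset.sum_eq_single_of_mem (d - e) hr]
      · rw [if_pos (Nat.sub_add_cancel hed)]
      · intro t _ htne
        rw [if_neg]
        omega
    · rw [Finset.mem_range] at hr
      rw [homogeneousComponent_eq_zero (d - e) a (by omega), zero_smul]
      apply Finset.sum_eq_zero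
      intro t ht
      rw [Finset.mem_range] at ht
      rw [if_neg]
      omega
  · rw [zero_smul]
    apply Finset.sum_eq_zero
    intro t _
    rw [if_neg]
    omega

/-- a finitely generated graded module is generated by finitely many homogeneous elements. -/
theorem exists_homogeneous_span [Module.Finite (MvPolynomial (Fin (n + 1)) k) M] :
    ∃ T : Finset M, (∀ x ∈ T, SetLike.IsHomogeneousElem ℳ x) ∧
      Submodule.span (MvPolynomial (Fin (n + 1)) k) (T : Set M) = ⊤ := by
  classical
  obtain ⟨G, hG⟩ := (Module.Finite.fg_top : (⊤ : Submodule (MvPolynomial (Fin (n + 1)) k) M).FG)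
  refine ⟨G.biUnion (fun g => (DirectSum.decompose ℳ g).support.image
    (fun d => ((DirectSum.decompose ℳ g d : ℳ d) : M))), ?_, ?_⟩
  · intro x hx
    rw [Finset.mem_biUnion] at hx
    obtain ⟨g, _, hx⟩ := hx
    rw [Finset.mem_image] at hx
    obtain ⟨d, _, rfl⟩ := hx
    exact ⟨d, (DirectSum.decompose ℳ g d).2⟩
  · rw [eq_top_iff, ← hG, Submodule.span_le]
    intro g hg
    have hs := DirectSum.sum_support_decompose ℳ g
    rw [SetLike.mem_coe, ← hs]
    refine Submodule.sum_mem _ (fun d hd => Submodule.subset_span ?_)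
    rw [Finset.mem_coe, Finset.mem_biUnion]
    exact ⟨g, hg, Finset.mem_image.2 ⟨d, hd, rfl⟩⟩

/-- relations among a minimal homogeneous generating set have coefficients in the irrelevant
ideal. -/
theorem coeff_mem_of_minimal (T : Finset M) (hT : ∀ x ∈ T, SetLike.IsHomogeneousElem ℳ x)
    (hspan : Submodule.span (MvPolynomial (Fin (n + 1)) k) (T : Set M) = ⊤)
    (hmin : ∀ T' : Finset M, (∀ x ∈ T', SetLike.IsHomogeneousElem ℳ x) →
      Submodule.span (MvPolynomial (Fin (n + 1)) k) (T' : Set M) = ⊤ → T.card ≤ T'.card)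
    (a : T → MvPolynomial (Fin (n + 1)) k) (ha : ∑ i, a i • (i : M) = 0) (j : T) :
    a j ∈ RingHom.ker (MvPolynomial.constantCoeff : MvPolynomial (Fin (n + 1)) k →+* k) := by
  classical
  by_contra hj
  rw [RingHom.mem_ker] at hj
  choose e he using fun i : T => hT i.1 i.2
  set d := e j with hd
  set b : T → MvPolynomial (Fin (n + 1)) k :=
    fun i => if e i ≤ d then homogeneousComponent (d - e i) (a i) else 0 with hb
  have hrel : ∑ i, b i • (i : M) = 0 := by
    have h0 : ((DirectSum.decompose ℳ (∑ i, a i • (i : M)) d : ℳ d) : M) = 0 := by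
      rw [ha, DirectSum.decompose_zero]
      rfl
    rw [DirectSum.decompose_sum, DirectSum.sum_apply, AddSubmonoidClass.coe_finsetSum] at h0
    rw [← h0]
    exact Finset.sum_congr rfl (fun i _ => (proj_smul_of_mem ℳ (a i) (he i) d).symm)
  have hbj : b j = C (constantCoeff (a j)) := by
    have h1 : b j = if e j ≤ d then homogeneousComponent (d - e j) (a j) else 0 := rfl
    rw [h1, if_pos le_rfl, hd, Nat.sub_self, homogeneousComponent_zero]
    rfl
  have hjspan : (j : M) ∈ Submodule.span (MvPolynomial (Fin (n + 1)) k)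
      ((T.erase (j : M) : Finset M) : Set M) := by
    have h1 : b j • (j : M) = - ∑ i ∈ Finset.univ.erase j, b i • (i : M) := by
      rw [eq_neg_iff_add_eq_zero]
      exact (Finset.add_sum_erase Finset.univ (fun i : T => b i • (i : M))
        (Finset.mem_univ j)).trans hrel
    have h2 : (j : M) = (C (constantCoeff (a j))⁻¹ : MvPolynomial (Fin (n + 1)) k) •
        (b j • (j : M)) := by
      rw [smul_smul, hbj, ← C_mul, inv_mul_cancel₀ hj, C_1, one_smul]
    have h3 : (C (constantCoeff (a j))⁻¹ : MvPolynomial (Fin (n + 1)) k) •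
        (b j • (j : M)) ∈ Submodule.span (MvPolynomial (Fin (n + 1)) k)
          ((T.erase (j : M) : Finset M) : Set M) := by
      rw [h1]
      refine Submodule.smul_mem _ _ (Submodule.neg_mem _ (Submodule.sum_mem _ ?_))
      intro i hi
      refine Submodule.smul_mem _ _ (Submodule.subset_span ?_)
      rw [Finset.mem_coe, Finset.mem_erase]
      exact ⟨fun h => (Finset.mem_erase.1 hi).1 (Subtype.ext h), i.2⟩
    exact (congrArg (fun x => x ∈ Submodule.span (MvPolynomial (Fin (n + 1)) k)
      ((T.erase (j : M) : Finset M) : Set M)) h2).mpr h3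
  have hspan' : Submodule.span (MvPolynomial (Fin (n + 1)) k)
      ((T.erase (j : M) : Finset M) : Set M) = ⊤ := by
    rw [eq_top_iff, ← hspan, Submodule.span_le]
    intro x hx
    by_cases hxj : x = (j : M)
    · rw [hxj]
      exact hjspan
    · exact Submodule.subset_span (Finset.mem_coe.2 (Finset.mem_erase.2 ⟨hxj, hx⟩))
  have hcard := hmin (T.erase (j : M)) (fun x hx => hT x (Finset.mem_of_mem_erase hx)) hspan'
  rw [Finset.card_erase_of_mem j.2] at hcard
  have hpos : 0 < T.card := Finset.card_pos.2 ⟨j, j.2⟩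
  omega

theorem main [Module.Finite (MvPolynomial (Fin (n + 1)) k) M]
    (h : Limits.IsZero (((Tor (ModuleCat.{u} (MvPolynomial (Fin (n + 1)) k)) 1).obj
      (ModuleCat.of (MvPolynomial (Fin (n + 1)) k) M)).obj
      (ModuleCat.of (MvPolynomial (Fin (n + 1)) k)
        (MvPolynomial (Fin (n + 1)) k ⧸
          RingHom.ker (MvPolynomial.constantCoeff : MvPolynomial (Fin (n + 1)) k →+* k))))) :
    ∃ (ι : Type u) (b : Module.Basis ι (MvPolynomial (Fin (n + 1)) k) M),
      ∀ i, SetLike.IsHomogeneousElem ℳ (b i) := by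
  classical
  have hex : ∃ r : ℕ, ∃ T : Finset M, (∀ x ∈ T, SetLike.IsHomogeneousElem ℳ x) ∧
      Submodule.span (MvPolynomial (Fin (n + 1)) k) (T : Set M) = ⊤ ∧ T.card = r := by
    obtain ⟨T, h1, h2⟩ := exists_homogeneous_span (k := k) (n := n) ℳ
    exact ⟨T.card, T, h1, h2, rfl⟩
  obtain ⟨T, hT, hspan, hcard⟩ := Nat.find_spec hex
  have hmin : ∀ T' : Finset M, (∀ x ∈ T', SetLike.IsHomogeneousElem ℳ x) →
      Submodule.span (MvPolynomial (Fin (n + 1)) k) (T' : Set M) = ⊤ → T.card ≤ T'.card := by
    intro T' h1 h2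
    rw [hcard]
    exact Nat.find_min' hex ⟨T', h1, h2, rfl⟩
  let v : T → M := Subtype.val
  have hrange : Set.range v = (T : Set M) := by
    ext x
    constructor
    · rintro ⟨y, rfl⟩
      exact y.2
    · intro hx
      exact ⟨⟨x, hx⟩, rfl⟩
  let φ : (T → MvPolynomial (Fin (n + 1)) k) →ₗ[MvPolynomial (Fin (n + 1)) k] M :=
    Fintype.linearCombination (MvPolynomial (Fin (n + 1)) k) v
  have hφ : Function.Surjective φ := by
    rw [← LinearMap.range_eq_top, Fintype.range_linearCombination, hrange, hspan]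
  have hI : RingHom.ker (MvPolynomial.constantCoeff : MvPolynomial (Fin (n + 1)) k →+* k) ≠ ⊤ :=
    RingHom.ker_ne_top _
  have hK : LinearMap.ker φ = ⊥ := by
    apply eq_bot_of_forall_mem_smul_top _ hI
    intro a ha
    apply mem_smul_top_ker_of_tor _ φ hφ h a ha
    have hsum : ∑ i, a i • (i : M) = 0 := by
      have h1 := LinearMap.mem_ker.1 ha
      rwa [Fintype.linearCombination_apply] at h1
    have hcoef : ∀ i, a i ∈ RingHom.ker
        (MvPolynomial.constantCoeff : MvPolynomial (Fin (n + 1)) k →+* k) :=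
      fun i => coeff_mem_of_minimal ℳ T hT hspan hmin a hsum i
    have hdec : a = ∑ i, a i • (Pi.single i 1 : T → MvPolynomial (Fin (n + 1)) k) := by
      funext t
      simp [Finset.sum_apply, Pi.single_apply]
    rw [hdec]
    exact Submodule.sum_mem _ (fun i _ => Submodule.smul_mem_smul (hcoef i) Submodule.mem_top)
  have hli : LinearIndependent (MvPolynomial (Fin (n + 1)) k) v := by
    rw [Fintype.linearIndependent_iff]
    intro g hg
    have hgk : g ∈ LinearMap.ker φ := by
      rw [LinearMap.mem_ker, Fintype.linearCombination_apply]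
      exact hg
    rw [hK, Submodule.mem_bot] at hgk
    intro i
    rw [hgk]
    rfl
  have hsp : ⊤ ≤ Submodule.span (MvPolynomial (Fin (n + 1)) k) (Set.range v) := by
    rw [hrange, hspan]
  refine ⟨T, Module.Basis.mk hli hsp, ?_⟩
  intro i
  rw [Module.Basis.mk_apply]
  exact hT i.1 i.2

end graded

end Groth.Agent.Helper6.GrFree
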