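import Mathlib
import Groth.Agent.Lib.Helper6.GrChern2

/-!
# The Chern character is multiplicative
-/

set_option autoImplicit false
universe u

namespace Groth.Agent.Helper6.GrMul

open LambdaRing KGr Finset
open scoped TensorProduct
open Groth.Agent.Helper5.Lam Groth.Agent.Helper6.LamGam Groth.Agent.Helper6.GrRees
  Groth.Agent.Helper6.GrNewton Groth.Agent.Helper6.GrChern
open fwdDiff

section Comb

/-- `c(n;k,l) = Σ_j (-1)^(n-j) C(n,j) C(j,k) C(j,l)`. -/
def cc (n k l : ℕ) : ℤ :=
  ∑ j ∈ range (n + 1),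
    ((-1 : ℤ) ^ (n - j) * (n.choose j : ℤ)) * ((j.choose k : ℤ) * (j.choose l : ℤ))

theorem cc_fact (n k l : ℕ) :
    ((k.factorial : ℤ) * (l.factorial : ℤ)) * cc n k l =
      (Δ_[(1 : ℤ)] ^[n] (descPochhammer ℤ k * descPochhammer ℤ l).eval) 0 := by
  rw [fwdDiff_iter_eq_sum_shift, cc, Finset.mul_sum]
  refine sum_congr rfl fun j _ => ?_
  rw [zero_add, nsmul_eq_mul, mul_one, Polynomial.eval_mul, descPochhammer_eval_eq_descFactorial,
    descPochhammer_eval_eq_descFactorial, Nat.descFactorial_eq_factorial_mul_choose,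
    Nat.descFactorial_eq_factorial_mul_choose, smul_eq_mul]
  push_cast; ring

theorem natDegree_PP (k l : ℕ) :
    (descPochhammer ℤ k * descPochhammer ℤ l).natDegree = k + l := by
  rw [Polynomial.Monic.natDegree_mul (monic_descPochhammer ℤ k) (monic_descPochhammer ℤ l),
    descPochhammer_natDegree, descPochhammer_natDegree]

theorem cc_eq_zero {n k l : ℕ} (h : k + l < n) : cc n k l = 0 := by
  have h1 := cc_fact n k l
  rw [Polynomial.fwdDiff_iter_eq_zero_of_degree_lt (by rw [natDegree_PP]; exact h)] at h1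
  have : ((k.factorial : ℤ) * (l.factorial : ℤ)) ≠ 0 := by positivity
  exact (mul_eq_zero.mp h1).resolve_left this

theorem cc_eq_choose (k l : ℕ) : cc (k + l) k l = ((k + l).choose k : ℤ) := by
  have h1 := cc_fact (k + l) k l
  have h2 := Polynomial.fwdDiff_iter_degree_eq_factorial
    (descPochhammer ℤ k * descPochhammer ℤ l)
  rw [natDegree_PP] at h2
  rw [h2] at h1
  have hm : (descPochhammer ℤ k * descPochhammer ℤ l).leadingCoeff = 1 :=
    ((monic_descPochhammer ℤ k).mul (monic_descPochhammer ℤ l))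
  rw [hm] at h1
  simp only [one_smul] at h1
  have h3 := Nat.add_choose_mul_factorial_mul_factorial k l
  have hne : ((k.factorial : ℤ) * (l.factorial : ℤ)) ≠ 0 := by positivity
  apply mul_left_cancel₀ hne
  rw [h1]
  have : (((k + l).factorial : ℕ) : ℤ) =
      (k.factorial : ℤ) * (l.factorial : ℤ) * ((k + l).choose k : ℤ) := by
    rw [Nat.choose_symm_add, ← h3]; push_cast; ring
  rw [← this]
  rfl

end Comb

section Lam

variable {K : Type u} [CommRing K] [LambdaOps K] (P : PosStructure K)

theorem adams_zero_index (x : K) : adams P 0 x = ((P.aug x : ℤ) : K) := by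
  unfold adams adamsSeries
  rw [map_sub, mul_assoc, PowerSeries.coeff_zero_X_mul, sub_zero, PowerSeries.coeff_zero_C]

theorem Q_eq_fwdDiff (n : ℕ) (x : K) :
    Q P n x = (Δ_[(1 : ℕ)] ^[n] (fun j : ℕ => adams P j x)) 0 := by
  rw [fwdDiff_iter_eq_sum_shift]
  unfold Q
  refine sum_congr rfl fun j _ => ?_
  rw [zero_add, smul_eq_mul, mul_one, zsmul_eq_mul]
  push_cast; rfl

theorem adams_eq_sum_Q (j : ℕ) (x : K) :
    adams P j x = ∑ k ∈ range (j + 1), (j.choose k : K) * Q P k x := by
  have := shift_eq_sum_fwdDiff_iter (1 : ℕ) (fun j : ℕ => adams P j x) j 0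
  simp only [zero_add, smul_eq_mul, mul_one] at this
  rw [this]
  refine sum_congr rfl fun k _ => ?_
  rw [Q_eq_fwdDiff, nsmul_eq_mul]

theorem adams_eq_sum_Q' {j n : ℕ} (hj : j ≤ n) (x : K) :
    adams P j x = ∑ k ∈ range (n + 1), (j.choose k : K) * Q P k x := by
  rw [adams_eq_sum_Q]
  apply Finset.sum_subset
  · intro k hk
    rw [mem_range] at hk ⊢
    omega
  · intro k _ hk
    rw [mem_range] at hk
    rw [Nat.choose_eq_zero_of_lt (by omega)]
    simp

end Lam

section Class

variable {C : Set PosLambdaRing.{u}} (hC : SplitClass C) (L : PosLambdaRing.{u}) (hL : L ∈ C)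

include hC hL in
theorem Q_mul (n : ℕ) (x y : L.carrier) :
    Q L.posStr n (x * y) = ∑ k ∈ range (n + 1), ∑ l ∈ range (n + 1),
      (cc n k l : L.carrier) * (Q L.posStr k x * Q L.posStr l y) := by
  have e1 : ∀ j ∈ range (n + 1), adams L.posStr j (x * y) =
      ∑ k ∈ range (n + 1), ∑ l ∈ range (n + 1),
        ((j.choose k : L.carrier) * (j.choose l : L.carrier)) *
          (Q L.posStr k x * Q L.posStr l y) := by
    intro j hj
    have hjn : j ≤ n := by rw [mem_range] at hj; omega
    rw [adams_mul hC L hL, adams_eq_sum_Q' L.posStr hjn x, adams_eq_sum_Q' L.posStr hjn y,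
      Finset.sum_mul_sum]
    refine sum_congr rfl fun k _ => sum_congr rfl fun l _ => ?_
    ring
  calc Q L.posStr n (x * y)
      = ∑ j ∈ range (n + 1), ((-1 : L.carrier) ^ (n - j) * (n.choose j : L.carrier)) *
          adams L.posStr j (x * y) := rfl
    _ = ∑ j ∈ range (n + 1), ∑ k ∈ range (n + 1), ∑ l ∈ range (n + 1),
          ((-1 : L.carrier) ^ (n - j) * (n.choose j : L.carrier)) *
            (((j.choose k : L.carrier) * (j.choose l : L.carrier)) *
              (Q L.posStr k x * Q L.posStr l y)) := by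
        refine sum_congr rfl fun j hj => ?_
        rw [e1 j hj, Finset.mul_sum]
        refine sum_congr rfl fun k _ => ?_
        rw [Finset.mul_sum]
    _ = ∑ k ∈ range (n + 1), ∑ l ∈ range (n + 1), ∑ j ∈ range (n + 1),
          ((-1 : L.carrier) ^ (n - j) * (n.choose j : L.carrier)) *
            (((j.choose k : L.carrier) * (j.choose l : L.carrier)) *
              (Q L.posStr k x * Q L.posStr l y)) := by
        rw [Finset.sum_comm]
        refine sum_congr rfl fun k _ => ?_
        rw [Finset.sum_comm]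
    _ = _ := by
        refine sum_congr rfl fun k _ => sum_congr rfl fun l _ => ?_
        rw [cc]
        push_cast
        rw [Finset.sum_mul]
        refine sum_congr rfl fun j _ => ?_
        ring

include hC hL in
theorem Q_intCast {k : ℕ} (hk : k ≠ 0) (m : ℤ) : Q L.posStr k (m : L.carrier) = 0 := by
  unfold Q
  have h1 : ∀ j, adams L.posStr j (m : L.carrier) = m := fun j => adams_intCast hC L hL j m
  simp only [h1]
  have := add_pow (1 : L.carrier) (-1) k
  rw [add_neg_cancel, zero_pow hk] at this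
  rw [← Finset.sum_mul]
  have e : ∑ j ∈ range (k + 1), ((-1 : L.carrier) ^ (k - j) * (k.choose j : L.carrier)) = 0 := by
    rw [this]
    refine sum_congr rfl fun j _ => ?_
    rw [one_pow, one_mul]
  rw [e, zero_mul]

include hC hL in
theorem Q_sub_aug {k : ℕ} (hk : k ≠ 0) (x : L.carrier) :
    Q L.posStr k (x - ((L.posStr.aug x : ℤ) : L.carrier)) = Q L.posStr k x := by
  rw [Q_sub, Q_intCast hC L hL hk, sub_zero]

include hC hL in
theorem Q_mem' (x : L.carrier) (k : ℕ) : Q L.posStr k x ∈ gammaFiltration L.posStr k := by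
  by_cases hk : k = 0
  · subst hk; rw [Groth.Agent.S3291.filt_zero]; trivial
  · rw [← Q_sub_aug hC L hL hk x]
    exact Q_mem hC L hL _ (aug_sub_aug L x) k

include hC hL in
theorem Q_mul_mem (n : ℕ) (x y : L.carrier) :
    Q L.posStr n (x * y) - ∑ k ∈ range (n + 1),
      (n.choose k : L.carrier) * (Q L.posStr k x * Q L.posStr (n - k) y) ∈
        gammaFiltration L.posStr (n + 1) := by
  rw [Q_mul hC L hL, ← Finset.sum_sub_distrib]
  refine AddSubgroup.sum_mem _ fun k hk => ?_
  have hkn : k ≤ n := by rw [mem_range] at hk; omega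
  have hsplit : (n.choose k : L.carrier) * (Q L.posStr k x * Q L.posStr (n - k) y) =
      ∑ l ∈ range (n + 1), if l = n - k then
        (n.choose k : L.carrier) * (Q L.posStr k x * Q L.posStr (n - k) y) else 0 := by
    rw [Finset.sum_ite_eq' (range (n + 1)) (n - k), if_pos (mem_range.mpr (by omega))]
  rw [hsplit, ← Finset.sum_sub_distrib]
  refine AddSubgroup.sum_mem _ fun l hl => ?_
  rcases lt_trichotomy (k + l) n with h | h | h
  · rw [cc_eq_zero h, if_neg (by omega)]
    simp
  · have hl' : l = n - k := by omega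
    rw [if_pos hl']
    subst h
    rw [cc_eq_choose, ← hl']
    simp
  · rw [if_neg (by omega), sub_zero]
    apply smul_mem_filt
    exact filt_anti L.posStr (by omega)
      (mul_mem_filt L.posStr (Q_mem' hC L hL x k) (Q_mem' hC L hL y l))

end Class

section Cauchy

theorem cauchy {R : Type*} [CommRing R] [Algebra ℚ R] (a b c : ℕ → R) (d : ℕ)
    (hc : ∀ n, n ≤ d → c n = ∑ i ∈ range (n + 1), (n.choose i : ℚ) • (a i * b (n - i)))
    (h0 : ∀ i j, i ≤ d → j ≤ d → d < i + j → a i * b j = 0) :
    (∑ i ∈ range (d + 1), (1 / (i.factorial : ℚ)) • a i) *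
        (∑ j ∈ range (d + 1), (1 / (j.factorial : ℚ)) • b j) =
      ∑ n ∈ range (d + 1), (1 / (n.factorial : ℚ)) • c n := by
  rw [Finset.sum_mul_sum]
  have h1 : ∀ i ∈ range (d + 1),
      ∑ j ∈ range (d + 1), ((1 / (i.factorial : ℚ)) • a i) * ((1 / (j.factorial : ℚ)) • b j) =
      ∑ j ∈ range (d + 1 - i),
        ((1 / (i.factorial : ℚ)) • a i) * ((1 / (j.factorial : ℚ)) • b j) := by
    intro i hi
    symm
    apply Finset.sum_subset
    · intro j hj
      rw [mem_range] at hj ⊢
      omega
    · intro j hj hj'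
      rw [mem_range] at hi hj hj'
      rw [smul_mul_smul_comm, h0 i j (by omega) (by omega) (by omega), smul_zero]
  rw [Finset.sum_congr rfl h1]
  rw [← Finset.sum_range_diag_flip (d + 1)
    (fun i j => ((1 / (i.factorial : ℚ)) • a i) * ((1 / (j.factorial : ℚ)) • b j))]
  refine sum_congr rfl fun n hn => ?_
  rw [mem_range] at hn
  rw [hc n (by omega), Finset.smul_sum]
  refine sum_congr rfl fun i hi => ?_
  rw [mem_range] at hi
  rw [smul_mul_smul_comm, smul_smul]
  congr 1
  have := Nat.choose_mul_factorial_mul_factorial (show i ≤ n by omega)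
  have h2 : (n.factorial : ℚ) =
      (n.choose i : ℚ) * (i.factorial : ℚ) * ((n - i).factorial : ℚ) := by
    exact_mod_cast this.symm
  have h3 : (i.factorial : ℚ) ≠ 0 := by positivity
  have h4 : ((n - i).factorial : ℚ) ≠ 0 := by positivity
  have h5 : (n.choose i : ℚ) ≠ 0 := by
    have := Nat.choose_pos (show i ≤ n by omega)
    positivity
  rw [h2]
  field_simp

end Cauchy

section Ch

variable {C : Set PosLambdaRing.{u}} (hC : SplitClass C) (L : PosLambdaRing.{u}) (hL : L ∈ C)

include hC hL in
theorem ch_formula' (d : ℕ) (z : L.carrier) :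
    chK L.posStr d z = ∑ n ∈ range (d + 1),
      (1 / (n.factorial : ℚ)) • grK L.posStr (n : ℤ) (Q L.posStr n z) := by
  rw [ch_formula hC L hL, Finset.sum_range_succ', add_comm]
  congr 1
  · refine sum_congr rfl fun k _ => ?_
    rw [Q_sub_aug hC L hL (Nat.succ_ne_zero k)]
  · have hQ0 : Q L.posStr 0 z = ((L.posStr.aug z : ℤ) : L.carrier) := by
      unfold Q; simp [adams_zero_index]
    rw [hQ0, grK_intCast]
    simp

include hC hL in
theorem ch_mul (d : ℕ) (hd : gammaFiltration L.posStr (d + 1) = ⊥) (x y : L.carrier) :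
    chK L.posStr d (x * y) = chK L.posStr d x * chK L.posStr d y := by
  rw [ch_formula' hC L hL d (x * y), ch_formula' hC L hL d x, ch_formula' hC L hL d y]
  symm
  refine cauchy (fun i => grK L.posStr (i : ℤ) (Q L.posStr i x))
    (fun j => grK L.posStr (j : ℤ) (Q L.posStr j y))
    (fun n => grK L.posStr (n : ℤ) (Q L.posStr n (x * y))) d ?_ ?_
  · intro n hn
    have hmem := Q_mul_mem hC L hL n x y
    have hsum_mem : ∀ k ∈ range (n + 1),
        (n.choose k : L.carrier) * (Q L.posStr k x * Q L.posStr (n - k) y) ∈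
          gammaFiltration L.posStr n := by
      intro k hk
      rw [mem_range] at hk
      apply smul_mem_filt
      have := mul_mem_filt L.posStr (Q_mem' hC L hL x k) (Q_mem' hC L hL y (n - k))
      have e2 : k + (n - k) = n := by omega
      rwa [e2] at this
    have e : Q L.posStr n (x * y) =
        (Q L.posStr n (x * y) - ∑ k ∈ range (n + 1),
          (n.choose k : L.carrier) * (Q L.posStr k x * Q L.posStr (n - k) y)) +
        ∑ k ∈ range (n + 1),
          (n.choose k : L.carrier) * (Q L.posStr k x * Q L.posStr (n - k) y) := by ring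
    show grK L.posStr (n : ℤ) (Q L.posStr n (x * y)) =
      ∑ i ∈ range (n + 1), (n.choose i : ℚ) •
        (grK L.posStr (i : ℤ) (Q L.posStr i x) *
          grK L.posStr ((n - i : ℕ) : ℤ) (Q L.posStr (n - i) y))
    rw [e, grK_add _ n (filt_anti _ (Nat.le_succ n) hmem) (AddSubgroup.sum_mem _ hsum_mem),
      grK_eq_zero _ n hmem, zero_add, grK_sum _ n _ _ hsum_mem]
    refine sum_congr rfl fun k hk => ?_
    rw [mem_range] at hk
    have e2 : k + (n - k) = n := by omega
    have hxy := mul_mem_filt L.posStr (Q_mem' hC L hL x k) (Q_mem' hC L hL y (n - k))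
    rw [e2] at hxy
    have hcast : ((n.choose k : ℕ) : L.carrier) = (((n.choose k : ℕ) : ℤ) : L.carrier) := by
      push_cast; rfl
    have hm := grK_mul L.posStr k (n - k) (Q_mem' hC L hL x k) (Q_mem' hC L hL y (n - k))
    rw [e2] at hm
    rw [hcast, grK_intCast_mul _ n _ hxy, ← Int.cast_smul_eq_zsmul ℚ, Int.cast_natCast, ← hm]
  · intro i j hi hj hij
    show grK L.posStr (i : ℤ) (Q L.posStr i x) * grK L.posStr (j : ℤ) (Q L.posStr j y) = 0
    rw [grK_mul _ i j (Q_mem' hC L hL x i) (Q_mem' hC L hL y j)]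
    have : Q L.posStr i x * Q L.posStr j y = 0 := by
      have := filt_anti L.posStr (show d + 1 ≤ i + j by omega)
        (mul_mem_filt L.posStr (Q_mem' hC L hL x i) (Q_mem' hC L hL y j))
      rwa [hd, AddSubgroup.mem_bot] at this
    rw [this, grK_zero]

include hC hL in
theorem ch_one (d : ℕ) : chK L.posStr d (1 : L.carrier) = 1 := by
  rw [ch_formula hC L hL]
  have h1 : (1 : L.carrier) - ((L.posStr.aug (1 : L.carrier) : ℤ) : L.carrier) = 0 := by
    rw [map_one]; simp
  rw [h1]
  simp only [Q_zero, grK_zero, smul_zero, Finset.sum_const_zero, add_zero]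
  rw [map_one L.posStr.aug, Int.cast_one]
  exact map_one _

end Ch

end Groth.Agent.Helper6.GrMul
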