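import Mathlib
import Groth.Prelude.Def_GrMod2

set_option autoImplicit false
universe u
open DirectSum

namespace Groth.Agent.Helper6.GrTildeLib

variable {R A : Type u} [CommRing R] [CommRing A] [Algebra R A] (𝒜 : ℕ → Submodule R A) [GradedAlgebra 𝒜]
variable {M : Type u} [AddCommGroup M] [Module R M] [Module A M] (ℳ : ℕ → Submodule R M)
  [DirectSum.Decomposition ℳ] [SetLike.GradedSMul 𝒜 ℳ]

theorem proj_smul {i : ℕ} {m : M} (hm : m ∈ ℳ i) (a : A) (j : ℕ) :
    ((decompose ℳ (a • m) (j + i) : ℳ (j + i)) : M) = (decompose 𝒜 a j : A) • m := by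
  classical
  conv_lhs => rw [← DirectSum.sum_support_decompose 𝒜 a, Finset.sum_smul, DirectSum.decompose_sum]
  rw [DFinsupp.finsetSum_apply, AddSubmonoidClass.coe_finsetSum]
  have key : ∀ j' ∈ DFinsupp.support (decompose 𝒜 a),
      ((decompose ℳ ((decompose 𝒜 a j' : A) • m) (j + i) : ℳ (j + i)) : M) =
        if j' = j then (decompose 𝒜 a j : A) • m else 0 := by
    intro j' _
    have hmem : (decompose 𝒜 a j' : A) • m ∈ ℳ (j' + i) :=
      SetLike.GradedSMul.smul_mem (decompose 𝒜 a j').2 hm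
    split_ifs with hj
    · subst hj
      exact DirectSum.decompose_of_mem_same ℳ hmem
    · exact DirectSum.decompose_of_mem_ne ℳ hmem (fun e => hj (by omega))
  rw [Finset.sum_congr rfl key, Finset.sum_ite_eq']
  split_ifs with hj
  · rfl
  · rw [DFinsupp.notMem_support_iff] at hj
    rw [hj]; simp

/-- The annihilator ideal of an element. -/
def ann (m : M) : Ideal A := LinearMap.ker (LinearMap.toSpanSingleton A M m)

omit [Module R M] in
theorem mem_ann {m : M} {a : A} : a ∈ ann (A := A) m ↔ a • m = 0 := by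
  rw [ann, LinearMap.mem_ker, LinearMap.toSpanSingleton_apply]

/-- The annihilator of a homogeneous element is a homogeneous ideal. -/
theorem ann_isHomogeneous {i : ℕ} {m : M} (hm : m ∈ ℳ i) :
    (ann (A := A) m).IsHomogeneous 𝒜 := by
  intro j a ha
  rw [mem_ann] at ha ⊢
  rw [← proj_smul 𝒜 ℳ hm a j, ha]
  simp

/-- Key lemma: a homogeneous element killed locally on `D₊(f)` is killed by a power of `f`. -/
theorem exists_pow_smul_eq_zero {i d : ℕ} (hd : 0 < d) {f : A} (hf : f ∈ 𝒜 d) {m : M} (hm : m ∈ ℳ i)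
    (h : ∀ x : ProjectiveSpectrum 𝒜, f ∉ x.asHomogeneousIdeal →
      ∃ s : A, s ∉ x.asHomogeneousIdeal ∧ s • m = 0) :
    ∃ N : ℕ, f ^ N • m = 0 := by
  have hIh : (ann (A := A) m).IsHomogeneous 𝒜 := ann_isHomogeneous 𝒜 ℳ hm
  by_contra hcon
  have hfr : f ∉ (ann (A := A) m).radical := by
    rintro ⟨N, hN⟩
    exact hcon ⟨N, mem_ann.1 hN⟩
  rw [hIh.radical_eq, Ideal.mem_sInf] at hfr
  push Not at hfr
  obtain ⟨P, ⟨hPh, hIP, hPp⟩, hfP⟩ := hfr
  let x : ProjectiveSpectrum 𝒜 := ⟨⟨P, hPh⟩, hPp, fun hle =>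
    hfP (hle (HomogeneousIdeal.mem_irrelevant_of_mem 𝒜 hd hf))⟩
  obtain ⟨s, hs, hsm⟩ := h x hfP
  exact hs (hIP (mem_ann.2 hsm))

omit [Module R M] [DirectSum.Decomposition ℳ] [SetLike.GradedSMul 𝒜 ℳ] in
/-- Every point of `Proj` misses some homogeneous element of positive degree. -/
theorem exists_homogeneous_notMem (x : ProjectiveSpectrum 𝒜) :
    ∃ (d : ℕ) (f : A), 0 < d ∧ f ∈ 𝒜 d ∧ f ∉ x.asHomogeneousIdeal := by
  classical
  by_contra hcon
  push Not at hcon
  apply x.not_irrelevant_le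
  intro a ha
  change a ∈ x.asHomogeneousIdeal.toIdeal
  rw [← DirectSum.sum_support_decompose 𝒜 a]
  refine Ideal.sum_mem _ (fun j _ => ?_)
  rcases Nat.eq_zero_or_pos j with rfl | hj
  · have h0 : (decompose 𝒜 a 0 : A) = 0 := ha
    rw [h0]; exact zero_mem _
  · exact hcon j _ hj (decompose 𝒜 a j).2

omit [Module R M] in
theorem locMod_subsingleton (x : ProjectiveSpectrum 𝒜)
    (h : ∀ z : M, ∃ s : A, s ∉ x.asHomogeneousIdeal ∧ s • z = 0) :
    Subsingleton (GrTilde.LocMod 𝒜 (M := M) x) := by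
  refine ⟨fun a b => ?_⟩
  have key : ∀ c : GrTilde.LocMod 𝒜 (M := M) x, c = 0 := by
    intro c
    induction c using LocalizedModule.induction_on with
    | h z t =>
      obtain ⟨s, hs, hsz⟩ := h z
      rw [← LocalizedModule.zero_mk 1, LocalizedModule.mk_eq]
      refine ⟨⟨s, hs⟩, ?_⟩
      rw [one_smul, smul_zero, smul_zero]
      exact hsz
  rw [key a, key b]

omit [DirectSum.Decomposition ℳ] in
theorem isZero_tilde_of_subsingleton (n : ℤ)
    (h : ∀ x : ProjectiveSpectrum 𝒜, Subsingleton (GrTilde.LocMod 𝒜 (M := M) x)) :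
    CategoryTheory.Limits.IsZero (GrTilde.tilde 𝒜 ℳ n) := by
  rw [CategoryTheory.Limits.IsZero.iff_id_eq_zero]
  apply SheafOfModules.hom_ext
  apply PresheafOfModules.hom_ext
  intro U
  apply ModuleCat.hom_ext
  apply LinearMap.ext
  intro s
  have key : ∀ t : GrTilde.sect 𝒜 ℳ n U, t = 0 := by
    intro t
    apply Subtype.ext
    funext x
    apply Subtype.ext
    have := h x.1
    exact Subsingleton.elim _ _
  exact (key s).trans (key _).symm

end Groth.Agent.Helper6.GrTildeLib
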