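import Groth.Agent.Lib.Helper6.GrTildeLib

set_option autoImplicit false
universe u
open DirectSum CategoryTheory CategoryTheory.Limits AlgebraicGeometry Opposite TopologicalSpace

namespace Groth.Agent.Helper6.GrTildeLib

variable {R A : Type u} [CommRing R] [CommRing A] [Algebra R A] (𝒜 : ℕ → Submodule R A) [GradedAlgebra 𝒜]
variable {M : Type u} [AddCommGroup M] [Module R M] [Module A M] (ℳ : ℕ → Submodule R M)
  [SetLike.GradedSMul 𝒜 ℳ]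

theorem sect_eq_zero_of_isZero (n : ℤ) (h : IsZero (GrTilde.tilde 𝒜 ℳ n))
    (U : (Opens (ProjectiveSpectrum.top 𝒜))ᵒᵖ) (t : GrTilde.sect 𝒜 ℳ n U) : t = 0 := by
  have e : 𝟙 (GrTilde.tilde 𝒜 ℳ n) = 0 := h.eq_of_src _ _
  have e2 := congrArg (fun φ : GrTilde.tilde 𝒜 ℳ n ⟶ GrTilde.tilde 𝒜 ℳ n => (φ.val.app U).hom t) e
  exact e2

/-- The section `m / s` of `M(n)~` over `D₊(s)`. -/
def fracSect (n : ℤ) {i j : ℕ} (m : ℳ i) (s : 𝒜 j) (hij : (i : ℤ) = j + n) :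
    GrTilde.sect 𝒜 ℳ n (op (ProjectiveSpectrum.basicOpen 𝒜 s.1)) :=
  ⟨fun x => ⟨LocalizedModule.mk m.1 ⟨s.1, (ProjectiveSpectrum.mem_basicOpen 𝒜 _ _).1 x.2⟩,
      Submodule.subset_span ⟨i, j, m, s, _, hij, rfl⟩⟩,
   fun x => ⟨_, x.2, 𝟙 _, i, j, m, s, fun y => (ProjectiveSpectrum.mem_basicOpen 𝒜 _ _).1 y.2,
      Or.inl hij, fun _ => rfl⟩⟩

theorem fracSect_apply (n : ℤ) {i j : ℕ} (m : ℳ i) (s : 𝒜 j) (hij : (i : ℤ) = j + n)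
    (x : ProjectiveSpectrum.basicOpen 𝒜 s.1) :
    (((fracSect 𝒜 ℳ n m s hij).1 x).1 : GrTilde.LocMod 𝒜 (M := M) x.1) =
      LocalizedModule.mk m.1 ⟨s.1, (ProjectiveSpectrum.mem_basicOpen 𝒜 _ _).1 x.2⟩ := rfl

omit [Algebra R A] [GradedAlgebra 𝒜] [SetLike.GradedSMul 𝒜 ℳ] in
theorem exists_pow_smul_eq_zero_of_forall_homogeneous [DirectSum.Decomposition ℳ] (f : A)
    (H : ∀ (i : ℕ) (m : M), m ∈ ℳ i → ∃ N : ℕ, f ^ N • m = 0) (z : M) : ∃ N : ℕ, f ^ N • z = 0 := by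
  classical
  rw [← DirectSum.sum_support_decompose ℳ z]
  choose N hN using fun i => H i _ (decompose ℳ z i).2
  refine ⟨(DFinsupp.support (decompose ℳ z)).sup N, ?_⟩
  rw [Finset.smul_sum]
  refine Finset.sum_eq_zero (fun i hi => ?_)
  have hle : N i ≤ (DFinsupp.support (decompose ℳ z)).sup N := Finset.le_sup hi
  rw [← Nat.sub_add_cancel hle, pow_add, mul_smul, hN, smul_zero]

theorem exists_pow_smul_eq_zero_of_isZero [DirectSum.Decomposition ℳ]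
    (hgen : (HomogeneousIdeal.irrelevant 𝒜).toIdeal = Ideal.span (𝒜 1 : Set A))
    (h : IsZero (GrTilde.tilde 𝒜 ℳ 0)) {i d : ℕ} (hd : 0 < d) {f : A} (hf : f ∈ 𝒜 d)
    {m : M} (hm : m ∈ ℳ i) : ∃ N : ℕ, f ^ N • m = 0 := by
  refine exists_pow_smul_eq_zero 𝒜 ℳ hd hf hm (fun x hx => ?_)
  obtain ⟨g, hg1, hgx⟩ : ∃ g ∈ 𝒜 1, g ∉ x.asHomogeneousIdeal := by
    by_contra hcon
    push Not at hcon
    apply x.not_irrelevant_le
    intro a ha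
    have ha' : a ∈ Ideal.span (𝒜 1 : Set A) := hgen ▸ ha
    exact (Ideal.span_le.2 (fun g hg => hcon g hg)) ha'
  have hgi : g ^ i ∈ 𝒜 i := by simpa using SetLike.pow_mem_graded i hg1
  have hgix : g ^ i ∉ x.asHomogeneousIdeal := fun hmem => hgx (x.isPrime.mem_of_pow_mem i hmem)
  have e := sect_eq_zero_of_isZero 𝒜 ℳ 0 h _ (fracSect 𝒜 ℳ 0 ⟨m, hm⟩ ⟨g ^ i, hgi⟩ (by simp))
  have hxU : x ∈ ProjectiveSpectrum.basicOpen 𝒜 (g ^ i) :=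
    (ProjectiveSpectrum.mem_basicOpen 𝒜 _ x).mpr hgix
  have e2 : (LocalizedModule.mk m ⟨g ^ i, hgix⟩ : GrTilde.LocMod 𝒜 (M := M) x) = 0 := by
    have e3 := fracSect_apply 𝒜 ℳ 0 ⟨m, hm⟩ ⟨g ^ i, hgi⟩ (by simp) ⟨x, hxU⟩
    rw [e] at e3
    exact e3.symm
  rw [← LocalizedModule.zero_mk 1, LocalizedModule.mk_eq] at e2
  obtain ⟨u, hu⟩ := e2
  refine ⟨u.1, u.2, ?_⟩
  rw [one_smul, smul_zero, smul_zero] at hu
  exact hu

end Groth.Agent.Helper6.GrTildeLib
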