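import Groth.Agent.Lib.Helper6.GrTildeLib2

set_option autoImplicit false
universe u
open DirectSum CategoryTheory CategoryTheory.Limits AlgebraicGeometry Opposite TopologicalSpace

namespace Groth.Agent.Helper6.GrTildeLib

variable {R A : Type u} [CommRing R] [CommRing A] [Algebra R A] (𝒜 : ℕ → Submodule R A) [GradedAlgebra 𝒜]
variable {M : Type u} [AddCommGroup M] [Module R M] [Module A M] (ℳ : ℕ → Submodule R M)
  [SetLike.GradedSMul 𝒜 ℳ]

/-- Every element of `tildeAt` is one fraction. -/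
theorem exists_frac_of_mem_tildeAt (n : ℤ) (p : ProjectiveSpectrum 𝒜)
    (q : GrTilde.LocMod 𝒜 (M := M) p) (hq : q ∈ GrTilde.tildeAt 𝒜 ℳ n p) :
    ∃ (i j : ℕ) (m : ℳ i) (s : 𝒜 j) (hs : s.1 ∉ p.asHomogeneousIdeal),
      ((i : ℤ) = j + n ∨ m.1 = 0) ∧ q = LocalizedModule.mk m.1 ⟨s.1, hs⟩ := by
  induction hq using Submodule.span_induction with
  | mem q hq =>
    obtain ⟨i, j, m, s, hs, hij, rfl⟩ := hq
    exact ⟨i, j, m, s, hs, Or.inl hij, rfl⟩
  | zero =>
    exact ⟨0, 0, 0, ⟨1, SetLike.GradedOne.one_mem⟩,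
      fun h => p.isPrime.ne_top ((Ideal.eq_top_iff_one _).mpr h), Or.inr rfl, by simp⟩
  | add x y hx hy hx' hy' =>
    obtain ⟨i, j, ⟨a, a_mem⟩, ⟨s, s_mem⟩, hs, ca, rfl⟩ := hx'
    obtain ⟨i', j', ⟨b, b_mem⟩, ⟨t, t_mem⟩, ht, cb, rfl⟩ := hy'
    replace ca : (i : ℤ) = j + n ∨ a = 0 := ca
    replace cb : (i' : ℤ) = j' + n ∨ b = 0 := cb
    have nin : s * t ∉ p.asHomogeneousIdeal := fun h => (p.isPrime.mem_or_mem h).elim hs ht
    have key : (LocalizedModule.mk a ⟨s, hs⟩ + LocalizedModule.mk b ⟨t, ht⟩ :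
        GrTilde.LocMod 𝒜 (M := M) p) = LocalizedModule.mk (t • a + s • b) ⟨s * t, nin⟩ := by
      rw [LocalizedModule.mk_add_mk]
      rfl
    have hsb : s • b ∈ ℳ (j + i') := SetLike.GradedSMul.smul_mem s_mem b_mem
    rcases ca with ha | ha
    · rcases cb with hb | hb
      · refine ⟨j + i', j + j', ⟨t • a + s • b, add_mem ?_ hsb⟩,
          ⟨s * t, SetLike.mul_mem_graded s_mem t_mem⟩, nin, Or.inl (by push_cast; omega), key⟩
        have e : j' + i = j + i' := by omega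
        exact e ▸ SetLike.GradedSMul.smul_mem t_mem a_mem
      · refine ⟨j' + i, j + j', ⟨t • a + s • b, ?_⟩, ⟨s * t, SetLike.mul_mem_graded s_mem t_mem⟩,
          nin, Or.inl (by push_cast; omega), key⟩
        rw [hb, smul_zero, add_zero]
        exact SetLike.GradedSMul.smul_mem t_mem a_mem
    · refine ⟨j + i', j + j', ⟨t • a + s • b, ?_⟩, ⟨s * t, SetLike.mul_mem_graded s_mem t_mem⟩,
        nin, ?_, key⟩
      · rw [ha, smul_zero, zero_add]
        exact hsb
      · rcases cb with hb | hb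
        · exact Or.inl (by push_cast; omega)
        · exact Or.inr (show t • a + s • b = 0 by rw [ha, hb, smul_zero, smul_zero, add_zero])
  | smul c x hx hx' =>
    obtain ⟨i, j, ⟨a, a_mem⟩, ⟨s, s_mem⟩, hs, ca, rfl⟩ := hx'
    replace ca : (i : ℤ) = j + n ∨ a = 0 := ca
    obtain ⟨⟨k, ⟨r, r_mem⟩, ⟨t, t_mem⟩, ht⟩, rfl⟩ := HomogeneousLocalization.mk_surjective c
    have nin : t * s ∉ p.asHomogeneousIdeal := fun h => (p.isPrime.mem_or_mem h).elim ht hs
    refine ⟨k + i, k + j, ⟨r • a, SetLike.GradedSMul.smul_mem r_mem a_mem⟩,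
      ⟨t * s, SetLike.mul_mem_graded t_mem s_mem⟩, nin, ?_, ?_⟩
    · rcases ca with ha | ha
      · exact Or.inl (by push_cast; omega)
      · exact Or.inr (show r • a = 0 by rw [ha, smul_zero])
    · rw [GrTilde.a0_smul_def, HomogeneousLocalization.val_mk, LocalizedModule.mk_smul_mk]
      rfl

end Groth.Agent.Helper6.GrTildeLib
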