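import Groth.Agent.Lib.Helper6.GrTildeLib5

set_option autoImplicit false
universe u
open DirectSum CategoryTheory CategoryTheory.Limits AlgebraicGeometry Opposite TopologicalSpace

namespace Groth.Agent.Helper6.GrTildeLib

variable {R A : Type u} [CommRing R] [CommRing A] [Algebra R A] (𝒜 : ℕ → Submodule R A) [GradedAlgebra 𝒜]
variable {M : Type u} [AddCommGroup M] [Module R M] [Module A M] (ℳ : ℕ → Submodule R M)
  [DirectSum.Decomposition ℳ] [SetLike.GradedSMul 𝒜 ℳ]

set_option maxHeartbeats 1600000 in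
/-- Every section of `M(n)~` over `D₊(f)` is one fraction `m / f^L`. -/
theorem exists_global_frac (n : ℤ) {d : ℕ} (hd : 0 < d) {f : A} (hf : f ∈ 𝒜 d)
    (s : GrTilde.sect 𝒜 ℳ n (op (ProjectiveSpectrum.basicOpen 𝒜 f))) :
    ∃ (L q : ℕ) (m : M), m ∈ ℳ q ∧ (q : ℤ) = L * d + n ∧
      ∀ (y : ProjectiveSpectrum 𝒜) (hy : f ∉ y.asHomogeneousIdeal),
        valAt 𝒜 ℳ n s y hy =
          (LocalizedModule.mk m ⟨f ^ L, fun h => hy (y.isPrime.mem_of_pow_mem L h)⟩ :
            GrTilde.LocMod 𝒜 (M := M) y) := by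
  classical
  have H := fun x : {x : ProjectiveSpectrum 𝒜 // f ∉ x.asHomogeneousIdeal} =>
    exists_local_frac 𝒜 ℳ n hd hf s x.1 x.2
  choose e i h m he hh hm hi hhx hsub hval using H
  -- Step 3: f ∈ radical (span (range h))
  have hrad : f ∈ (Ideal.span (Set.range h)).radical := by
    by_contra hcon
    have hhom : (Ideal.span (Set.range h)).IsHomogeneous 𝒜 := by
      apply Ideal.homogeneous_span
      rintro _ ⟨x, rfl⟩
      exact ⟨e x, hh x⟩
    rw [hhom.radical_eq, Ideal.mem_sInf] at hcon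
    push Not at hcon
    obtain ⟨P, ⟨hPh, hIP, hPp⟩, hfP⟩ := hcon
    let y : ProjectiveSpectrum 𝒜 := ⟨⟨P, hPh⟩, hPp, fun hle =>
      hfP (hle (HomogeneousIdeal.mem_irrelevant_of_mem 𝒜 hd hf))⟩
    exact hhx ⟨y, hfP⟩ (hIP (Ideal.subset_span ⟨⟨y, hfP⟩, rfl⟩))
  obtain ⟨L₀, hL₀⟩ := hrad
  obtain ⟨c₀, hc₀⟩ := Finsupp.mem_span_range_iff_exists_finsupp.1 hL₀
  have hcover : ∀ y : ProjectiveSpectrum 𝒜, f ∉ y.asHomogeneousIdeal →
      ∃ x ∈ c₀.support, h x ∉ y.asHomogeneousIdeal := by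
    intro y hy
    by_contra hcon
    push Not at hcon
    apply hy
    apply y.isPrime.mem_of_pow_mem L₀
    rw [← hc₀]
    exact Ideal.sum_mem _ (fun x hx => Ideal.mul_mem_left _ _ (hcon x hx))
  -- Step 4
  have hN : ∀ x x' : {x : ProjectiveSpectrum 𝒜 // f ∉ x.asHomogeneousIdeal},
      ∃ N : ℕ, (h x * h x') ^ N • (h x' • m x - h x • m x') = 0 := by
    intro x x'
    have hdeg : e x + i x' = e x' + i x := by
      have := hi x; have := hi x'; omega
    have hw : h x' • m x - h x • m x' ∈ ℳ (e x' + i x) :=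
      sub_mem (SetLike.GradedSMul.smul_mem (hh x') (hm x))
        (hdeg ▸ SetLike.GradedSMul.smul_mem (hh x) (hm x'))
    refine exists_pow_smul_eq_zero 𝒜 ℳ (Nat.add_pos_left (he x) _)
      (SetLike.mul_mem_graded (hh x) (hh x')) hw (fun y hy => ?_)
    have hy1 : h x ∉ y.asHomogeneousIdeal := fun h1 => hy (Ideal.mul_mem_right _ _ h1)
    have hy2 : h x' ∉ y.asHomogeneousIdeal := fun h1 => hy (Ideal.mul_mem_left _ _ h1)
    have hyf : f ∉ y.asHomogeneousIdeal := hsub x y hy1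
    have e1 := hval x y hyf hy1
    have e2 := hval x' y hyf hy2
    rw [e1, LocalizedModule.mk_eq] at e2
    obtain ⟨u, hu⟩ := e2
    refine ⟨u.1, u.2, ?_⟩
    rw [smul_sub, sub_eq_zero]
    exact hu
  choose N hN using hN
  have hNmax : ∀ x ∈ c₀.support, ∀ x' ∈ c₀.support,
      (h x * h x') ^ (c₀.support.sup (fun x => c₀.support.sup (fun x' => N x x'))) •
        (h x' • m x - h x • m x') = 0 := by
    intro x hx x' hx'
    have hle : N x x' ≤ c₀.support.sup (fun x => c₀.support.sup (fun x' => N x x')) :=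
      le_trans (Finset.le_sup (f := fun x' => N x x') hx')
        (Finset.le_sup (f := fun x => c₀.support.sup (fun x' => N x x')) hx)
    rw [← Nat.sub_add_cancel hle, pow_add, mul_smul, hN, smul_zero]
  generalize c₀.support.sup (fun x => c₀.support.sup (fun x' => N x x')) = Nmax at hNmax
  -- Step 5
  have hrad' : f ∈ (Ideal.span ((fun x => h x ^ (Nmax + 1)) '' (c₀.support : Set _))).radical := by
    have h1 : Ideal.span (h '' (c₀.support : Set _)) ≤
        (Ideal.span ((fun x => h x ^ (Nmax + 1)) '' (c₀.support : Set _))).radical := by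
      rw [Ideal.span_le]
      rintro _ ⟨x, hx, rfl⟩
      exact ⟨Nmax + 1, Ideal.subset_span ⟨x, hx, rfl⟩⟩
    have h2 : f ^ L₀ ∈ Ideal.span (h '' (c₀.support : Set _)) := by
      rw [← hc₀]
      exact Ideal.sum_mem _ (fun x hx => Ideal.mul_mem_left _ _ (Ideal.subset_span ⟨x, hx, rfl⟩))
    exact (Ideal.radical_isRadical _) ⟨L₀, h1 h2⟩
  obtain ⟨L₁, hL₁⟩ := hrad'
  obtain ⟨L, hLge, hL⟩ : ∃ L : ℕ, n.natAbs ≤ L ∧ f ^ L ∈
      Ideal.span ((fun x => h x ^ (Nmax + 1)) '' (c₀.support : Set _)) :=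
    ⟨L₁ + n.natAbs, Nat.le_add_left _ _, by rw [pow_add]; exact Ideal.mul_mem_right _ _ hL₁⟩
  obtain ⟨c, hcsupp, hc⟩ := (Finsupp.mem_span_image_iff_linearCombination A).1 hL
  rw [Finsupp.linearCombination_apply,
    Finsupp.sum_of_support_subset c ((Finsupp.mem_supported A c).1 hcsupp) _ (by simp)] at hc
  have hc' : ∑ x ∈ c₀.support, c x * h x ^ (Nmax + 1) = f ^ L := hc
  have hq0 : (0 : ℤ) ≤ (L : ℤ) * d + n := by
    have h1 := Nat.le_mul_of_pos_right L hd
    have h2 : ((L * d : ℕ) : ℤ) = (L : ℤ) * d := by push_cast; rfl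
    rw [← h2]
    generalize L * d = k at h1 ⊢
    omega
  have hq : (((L : ℤ) * d + n).toNat : ℤ) = L * d + n := Int.toNat_of_nonneg hq0
  generalize ((L : ℤ) * d + n).toNat = q at hq
  -- the (possibly non-homogeneous) candidate
  have key : ∀ x' ∈ c₀.support,
      h x' ^ (Nmax + 1) • (∑ x ∈ c₀.support, c x • (h x ^ Nmax • m x)) =
        f ^ L • (h x' ^ Nmax • m x') := by
    intro x' hx'
    rw [Finset.smul_sum, ← hc', Finset.sum_smul]
    refine Finset.sum_congr rfl (fun x hx => ?_)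
    have e1 : (h x * h x') ^ Nmax • (h x' • m x) = (h x * h x') ^ Nmax • (h x • m x') := by
      have := hNmax x hx x' hx'
      rwa [smul_sub, sub_eq_zero] at this
    calc h x' ^ (Nmax + 1) • (c x • (h x ^ Nmax • m x))
        = c x • ((h x * h x') ^ Nmax • (h x' • m x)) := by
          simp only [smul_smul]; congr 1; ring
      _ = c x • ((h x * h x') ^ Nmax • (h x • m x')) := by rw [e1]
      _ = (c x * h x ^ (Nmax + 1)) • (h x' ^ Nmax • m x') := by
          simp only [smul_smul]; congr 1; ring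
  have key' : ∀ x' ∈ c₀.support,
      h x' ^ (Nmax + 1) •
        ((decompose ℳ (∑ x ∈ c₀.support, c x • (h x ^ Nmax • m x)) q : ℳ q) : M) =
        f ^ L • (h x' ^ Nmax • m x') := by
    intro x' hx'
    have hidx : L • d + (Nmax • e x' + i x') = (Nmax + 1) • e x' + q := by
      simp only [smul_eq_mul]
      zify
      rw [hq, hi x']
      ring
    have hmem : f ^ L • (h x' ^ Nmax • m x') ∈ ℳ ((Nmax + 1) • e x' + q) :=
      hidx ▸ SetLike.GradedSMul.smul_mem (SetLike.pow_mem_graded L hf)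
        (SetLike.GradedSMul.smul_mem (SetLike.pow_mem_graded Nmax (hh x')) (hm x'))
    rw [← proj_smul_left 𝒜 ℳ (SetLike.pow_mem_graded (Nmax + 1) (hh x')) _ q, key x' hx']
    exact DirectSum.decompose_of_mem_same ℳ hmem
  refine ⟨L, q, _, (decompose ℳ (∑ x ∈ c₀.support, c x • (h x ^ Nmax • m x)) q).2, hq,
    fun y hy => ?_⟩
  obtain ⟨x', hx', hx'y⟩ := hcover y hy
  rw [hval x' y hy hx'y, LocalizedModule.mk_eq]
  refine ⟨⟨h x' ^ Nmax, fun hmem => hx'y (y.isPrime.mem_of_pow_mem _ hmem)⟩, ?_⟩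
  change h x' ^ Nmax • (f ^ L • m x') = h x' ^ Nmax • (h x' •
    ((decompose ℳ (∑ x ∈ c₀.support, c x • (h x ^ Nmax • m x)) q : ℳ q) : M))
  rw [smul_comm, ← key' x' hx', smul_smul, pow_succ]

end Groth.Agent.Helper6.GrTildeLib
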