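import Groth.Agent.Lib.Helper6.GrModComapA
import Groth.Agent.Lib.Helper28.GrModQcoh

/-!
# `O_A(n) → Φ_* O_B(n)` and its adjunct are isomorphisms for an eventually bijective graded map

For `ψ : 𝒜 →+*ᵍ ℬ` bijective in all degrees `≥ d₀`: `Proj.map ψ` is an isomorphism, the canonical
maps `M(n)~ → Φ_* N(n)~` (for eventually bijective `v`) and `GrTwist.comap ψ hψ n` are
isomorphisms, and so is the adjunct of the latter.
-/

set_option autoImplicit false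
set_option linter.style.haveILetI false
set_option linter.unusedSectionVars false
universe u
open DirectSum CategoryTheory CategoryTheory.Limits AlgebraicGeometry Opposite TopologicalSpace
open scoped HomogeneousIdeal
open HomogeneousLocalization

namespace Groth.Agent.Helper6.GrTwistComapIso

open Groth.Agent.Helper6.GrModFrac Groth.Agent.Helper6.GrModComap
open Groth.Agent.Helper28.GrModQcoh

variable {A σ : Type u} [CommRing A] [SetLike σ A] [AddSubgroupClass σ A] {𝒜 : ℕ → σ}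
    [GradedRing 𝒜] {B σ' : Type u} [CommRing B] [SetLike σ' B] [AddSubgroupClass σ' B] {ℬ : ℕ → σ'} [GradedRing ℬ]
    (ψ : 𝒜 →+*ᵍ ℬ) (hψ : ℬ₊ ≤ (𝒜₊).map ψ)

section Part1

variable {M τ : Type u} [AddCommGroup M] [Module A M] [SetLike τ M] [AddSubgroupClass τ M] (ℳ : ℕ → τ)
    [SetLike.GradedSMul 𝒜 ℳ] [DirectSum.Decomposition ℳ]
    {N τ' : Type u} [AddCommGroup N] [Module B N] [SetLike τ' N] [AddSubgroupClass τ' N] (𝒩 : ℕ → τ')
    [SetLike.GradedSMul ℬ 𝒩] [DirectSum.Decomposition 𝒩]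
    (v : M →ₛₗ[ψ.toRingHom] N) (hv : ∀ (i : ℕ) (m : M), m ∈ ℳ i → v m ∈ 𝒩 i)

set_option maxHeartbeats 800000 in
theorem comapApp_bijective_of_eventually (d₀ : ℕ)
    (hinj : ∀ i, d₀ ≤ i → ∀ m ∈ ℳ i, v m = 0 → m = 0)
    (hsurj : ∀ i, d₀ ≤ i → ∀ y ∈ 𝒩 i, ∃ m ∈ ℳ i, v m = y)
    (n : ℤ) {d : ℕ} (hd : 0 < d) {f : A} (hf : f ∈ 𝒜 d) :
    Function.Bijective (GrMod.comapApp ψ hψ v hv n (ProjectiveSpectrum.basicOpen 𝒜 f)
        (ProjectiveSpectrum.basicOpen ℬ (ψ f)) (basicOpen_subset ψ hψ f)) := by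
  have hψf : ψ f ∈ ℬ d := ψ.map_mem hf
  constructor
  · rw [injective_iff_map_eq_zero]
    intro s hs
    obtain ⟨L, q, m, hm, hq, hval⟩ := exists_global_frac 𝒜 ℳ n hd hf s
    have hkill : ∀ y : ProjectiveSpectrum ℬ, ψ f ∉ y.asHomogeneousIdeal →
        ∃ t : B, t ∉ y.asHomogeneousIdeal ∧ t • v m = 0 := by
      intro y hy
      have h1 : valAt ℬ 𝒩 n (GrMod.comapApp ψ hψ v hv n (ProjectiveSpectrum.basicOpen 𝒜 f)
          (ProjectiveSpectrum.basicOpen ℬ (ψ f)) (basicOpen_subset ψ hψ f) s) y hy = 0 := by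
        rw [hs]
        rfl
      rw [valAt_comapApp, hval _ (notMem_comap ψ hψ y hy), GrMod.locModMap_mk] at h1
      rw [← LocalizedModule.zero_mk 1, LocalizedModule.mk_eq] at h1
      obtain ⟨t, ht⟩ := h1
      refine ⟨t.1, t.2, ?_⟩
      rw [one_smul, smul_zero, smul_zero] at ht
      exact ht
    obtain ⟨K, hK⟩ := exists_pow_smul_eq_zero ℬ 𝒩 hd hψf (hv q m hm) hkill
    have h3 : v (f ^ (K + d₀) • m) = 0 := by
      rw [LinearMap.map_smulₛₗ]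
      change ψ (f ^ (K + d₀)) • v m = 0
      rw [map_pow, pow_add, mul_comm, mul_smul, hK, smul_zero]
    have hmem : f ^ (K + d₀) • m ∈ ℳ ((K + d₀) • d + q) :=
      SetLike.GradedSMul.smul_mem (SetLike.pow_mem_graded (K + d₀) hf) hm
    have hdeg : d₀ ≤ (K + d₀) • d + q :=
      le_trans (le_trans (Nat.le_add_left d₀ K) (Nat.le_mul_of_pos_right (K + d₀) hd))
        (Nat.le_add_right _ _)
    have h4 : f ^ (K + d₀) • m = 0 := hinj _ hdeg _ hmem h3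
    refine Subtype.ext (funext fun x => Subtype.ext ?_)
    have hx : f ∉ x.1.asHomogeneousIdeal := (ProjectiveSpectrum.mem_basicOpen 𝒜 f x.1).1 x.2
    have h5 := hval x.1 hx
    change valAt 𝒜 ℳ n s x.1 hx = 0
    rw [h5, ← LocalizedModule.zero_mk 1, LocalizedModule.mk_eq]
    refine ⟨⟨f ^ (K + d₀), pow_mem_primeCompl 𝒜 x.1 hx (K + d₀)⟩, ?_⟩
    rw [one_smul, smul_zero, smul_zero]
    exact h4
  · intro t
    obtain ⟨L, q, n', hn', hq, hval⟩ := exists_global_frac ℬ 𝒩 n hd hψf t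
    have hmem' : ψ f ^ d₀ • n' ∈ 𝒩 (d₀ • d + q) :=
      SetLike.GradedSMul.smul_mem (SetLike.pow_mem_graded d₀ hψf) hn'
    have hdeg : d₀ ≤ d₀ • d + q :=
      le_trans (Nat.le_mul_of_pos_right d₀ hd) (Nat.le_add_right _ _)
    obtain ⟨m, hm, hvm⟩ := hsurj _ hdeg _ hmem'
    have hij : ((d₀ • d + q : ℕ) : ℤ) = (((L + d₀) • d : ℕ) : ℤ) + n := by
      simp only [smul_eq_mul]
      push_cast
      rw [hq]; ring
    refine ⟨fracPow 𝒜 ℳ n hf (L + d₀) ⟨m, hm⟩ hij, ?_⟩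
    refine Subtype.ext (funext fun ⟨y0, hyV⟩ => Subtype.ext ?_)
    obtain ⟨y, rfl⟩ : ∃ y : ProjectiveSpectrum ℬ, y = y0 := ⟨y0, rfl⟩
    have hy : ψ f ∉ y.asHomogeneousIdeal := (ProjectiveSpectrum.mem_basicOpen ℬ (ψ f) y).1 hyV
    change valAt ℬ 𝒩 n (GrMod.comapApp ψ hψ v hv n (ProjectiveSpectrum.basicOpen 𝒜 f)
        (ProjectiveSpectrum.basicOpen ℬ (ψ f)) (basicOpen_subset ψ hψ f)
        (fracPow 𝒜 ℳ n hf (L + d₀) ⟨m, hm⟩ hij)) y hy = valAt ℬ 𝒩 n t y hy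
    refine (valAt_comapApp ψ hψ ℳ 𝒩 v hv n f _ y hy).trans ?_
    rw [fracPow_apply]
    refine (GrMod.locModMap_mk ψ hψ v y _ _).trans (Eq.trans ?_ (hval y hy).symm)
    rw [LocalizedModule.mk_eq]
    refine ⟨1, ?_⟩
    rw [one_smul, one_smul]
    change ψ f ^ L • v m = ψ (f ^ (L + d₀)) • n'
    rw [hvm, map_pow, pow_add, mul_smul]

theorem isIso_comap_of_eventually (d₀ : ℕ)
    (hinj : ∀ i, d₀ ≤ i → ∀ m ∈ ℳ i, v m = 0 → m = 0)
    (hsurj : ∀ i, d₀ ≤ i → ∀ y ∈ 𝒩 i, ∃ m ∈ ℳ i, v m = y) (n : ℤ) :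
    IsIso (GrMod.comap (ℳ := ℳ) (𝒩 := 𝒩) ψ hψ v hv n) := by
  apply Groth.Agent.Helper13.LocFree.isIso_of_app_bijective_of_isBasis _ (isBasis_pos (𝒜 := 𝒜))
  rintro V ⟨d, f, hd, hf, rfl⟩
  exact comapApp_bijective_of_eventually ψ hψ ℳ 𝒩 v hv d₀ hinj hsurj n hd hf

end Part1

section Part2

/-- `ψ` as a `ψ`-semilinear map. -/
def ψlin : A →ₛₗ[ψ.toRingHom] B where
  toFun := ψ
  map_add' := map_add ψ
  map_smul' a x := by
    simp only [smul_eq_mul, map_mul]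
    rfl

theorem ψlin_apply (a : A) : ψlin ψ a = ψ a := rfl

theorem ψlin_mem (i : ℕ) (m : A) (hm : m ∈ 𝒜 i) : ψlin ψ m ∈ ℬ i := ψ.map_mem hm

theorem φ_locModMap (y : ProjectiveSpectrum ℬ)
    (q : GrMod.LocMod 𝒜 (M := A) (ProjectiveSpectrum.comap ψ hψ y)) :
    φ ℬ y (GrMod.locModMap ψ hψ (ψlin ψ) y q) =
      GrTwist.locMap ψ hψ y (φ 𝒜 (ProjectiveSpectrum.comap ψ hψ y) q) := by
  induction q using LocalizedModule.induction_on with
  | h a s =>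
    rw [GrMod.locModMap_mk, φ_mk, φ_mk, GrTwist.locMap_mk]
    rfl

variable (n : ℤ) (U : Opens (ProjectiveSpectrum.top 𝒜)) (V : Opens (ProjectiveSpectrum.top ℬ))
  (hUV : V.1 ⊆ ProjectiveSpectrum.comap ψ hψ ⁻¹' U.1)

theorem comapApp_toTwist (s : GrMod.sect 𝒜 𝒜 n (op U)) :
    GrTwist.comapApp ψ hψ n U V hUV (toTwist 𝒜 n (op U) s) =
      toTwist ℬ n (op V) (GrMod.comapApp ψ hψ (ψlin ψ) (ψlin_mem ψ) n U V hUV s) := by
  refine Subtype.ext (funext fun y => Subtype.ext ?_)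
  show GrTwist.locMap ψ hψ y.1
      (φ 𝒜 _ (s.1 ⟨ProjectiveSpectrum.comap ψ hψ y.1, hUV y.2⟩).1) =
    φ ℬ y.1 (GrMod.locModMap ψ hψ (ψlin ψ) y.1
      (s.1 ⟨ProjectiveSpectrum.comap ψ hψ y.1, hUV y.2⟩).1)
  exact (φ_locModMap ψ hψ y.1 _).symm

theorem twist_comapApp_bijective
    (h : Function.Bijective (GrMod.comapApp ψ hψ (ψlin ψ) (ψlin_mem ψ) n U V hUV)) :
    Function.Bijective (GrTwist.comapApp ψ hψ n U V hUV) := by
  constructor
  · intro t₁ t₂ ht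
    rw [← toTwist_ofTwist 𝒜 n (op U) t₁, ← toTwist_ofTwist 𝒜 n (op U) t₂,
      comapApp_toTwist, comapApp_toTwist] at ht
    have h2 := congrArg (ofTwist ℬ n (op V)) ht
    rw [ofTwist_toTwist, ofTwist_toTwist] at h2
    have h3 := h.1 h2
    rw [← toTwist_ofTwist 𝒜 n (op U) t₁, ← toTwist_ofTwist 𝒜 n (op U) t₂, h3]
  · intro t'
    obtain ⟨s, hs⟩ := h.2 (ofTwist ℬ n (op V) t')
    refine ⟨toTwist 𝒜 n (op U) s, ?_⟩
    rw [comapApp_toTwist, hs, toTwist_ofTwist]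

end Part2

section Part3

variable (d₀ : ℕ) (hinj : ∀ i, d₀ ≤ i → ∀ a ∈ 𝒜 i, ψ a = 0 → a = 0)
  (hsurj : ∀ i, d₀ ≤ i → ∀ b ∈ ℬ i, ∃ a ∈ 𝒜 i, ψ a = b)

include hinj hsurj in
theorem isIso_twist_comap (n : ℤ) : IsIso (GrTwist.comap ψ hψ n) := by
  apply Groth.Agent.Helper13.LocFree.isIso_of_app_bijective_of_isBasis _ (isBasis_pos (𝒜 := 𝒜))
  rintro V ⟨d, f, hd, hf, rfl⟩
  exact twist_comapApp_bijective ψ hψ n (ProjectiveSpectrum.basicOpen 𝒜 f)
    (ProjectiveSpectrum.basicOpen ℬ (ψ f)) (basicOpen_subset ψ hψ f)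
    (comapApp_bijective_of_eventually ψ hψ 𝒜 ℬ (ψlin ψ) (ψlin_mem ψ) d₀ hinj hsurj n hd hf)

include hinj hsurj in
theorem away_map_bijective {i : ℕ} (hi : 0 < i) {g : A} (hg : g ∈ 𝒜 i) :
    Function.Bijective (Away.map ψ g : Away 𝒜 g →+* Away ℬ (ψ g)) := by
  have hψg : ψ g ∈ ℬ i := ψ.map_mem hg
  constructor
  · rw [injective_iff_map_eq_zero]
    intro x hx
    obtain ⟨k, a, ha, rfl⟩ := Away.mk_surjective 𝒜 hg x
    rw [Away.map_mk] at hx
    have hx' := congrArg HomogeneousLocalization.val hx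
    rw [Away.val_mk, HomogeneousLocalization.val_zero, Localization.mk_eq_mk',
      IsLocalization.mk'_eq_zero_iff] at hx'
    obtain ⟨⟨_, j, rfl⟩, hj⟩ := hx'
    have hj' : ψ (g ^ (j + d₀) * a) = 0 := by
      rw [map_mul, map_pow, pow_add, mul_comm (ψ g ^ j), mul_assoc]
      change ψ g ^ d₀ * (ψ g ^ j * ψ a) = 0
      rw [hj, mul_zero]
    have hmem : g ^ (j + d₀) * a ∈ 𝒜 ((j + d₀) • i + k • i) :=
      SetLike.mul_mem_graded (SetLike.pow_mem_graded (j + d₀) hg) ha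
    have hdeg : d₀ ≤ (j + d₀) • i + k • i :=
      le_trans (le_trans (Nat.le_add_left d₀ j) (Nat.le_mul_of_pos_right (j + d₀) hi))
        (Nat.le_add_right _ _)
    have h0 : g ^ (j + d₀) * a = 0 := hinj _ hdeg _ hmem hj'
    apply HomogeneousLocalization.val_injective
    rw [Away.val_mk, HomogeneousLocalization.val_zero, Localization.mk_eq_mk',
      IsLocalization.mk'_eq_zero_iff]
    exact ⟨⟨g ^ (j + d₀), j + d₀, rfl⟩, h0⟩
  · intro y
    obtain ⟨k, b, hb, rfl⟩ := Away.mk_surjective ℬ hψg y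
    have hmem : ψ g ^ d₀ * b ∈ ℬ ((d₀ + k) • i) := by
      rw [add_smul]
      exact SetLike.mul_mem_graded (SetLike.pow_mem_graded d₀ hψg) hb
    have hdeg : d₀ ≤ (d₀ + k) • i :=
      le_trans (Nat.le_add_right d₀ k) (Nat.le_mul_of_pos_right (d₀ + k) hi)
    obtain ⟨a, ha, hab⟩ := hsurj _ hdeg _ hmem
    refine ⟨Away.mk 𝒜 hg (d₀ + k) a ha, ?_⟩
    rw [Away.map_mk]
    apply HomogeneousLocalization.val_injective
    rw [Away.val_mk, Away.val_mk, Localization.mk_eq_mk_iff, Localization.r_iff_exists]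
    refine ⟨1, ?_⟩
    simp only [OneMemClass.coe_one, one_mul]
    rw [hab, pow_add]
    ring

include hinj hsurj in
theorem isIso_projMap : IsIso (Proj.map ψ hψ) := by
  rw [← MorphismProperty.isomorphisms.iff,
    IsZariskiLocalAtTarget.iff_of_openCover (P := .isomorphisms Scheme)
      (Proj.affineOpenCover 𝒜).openCover]
  rintro ⟨⟨i, hi⟩, ⟨g, hg0⟩⟩
  have hg : g ∈ 𝒜 i := hg0
  have hbij := away_map_bijective ψ d₀ hinj hsurj hi hg
  have hpb := IsOpenImmersion.isPullback (Spec.map (CommRingCat.ofHom (Away.map ψ g)))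
      (Proj.awayι ℬ (ψ g) (ψ.map_mem hg) hi) (Proj.awayι 𝒜 g hg hi) (Proj.map ψ hψ)
      (Proj.awayι_comp_map ψ hψ hi g hg)
      (by rw [Proj.opensRange_awayι, Proj.opensRange_awayι, Proj.map_preimage_basicOpen])
  haveI : IsIso (Spec.map (CommRingCat.ofHom (Away.map ψ g))) := by
    haveI : IsIso (CommRingCat.ofHom (Away.map ψ g)) :=
      (ConcreteCategory.isIso_iff_bijective _).mpr hbij
    infer_instance
  have h2 : pullback.snd (Proj.map ψ hψ) (Proj.awayι 𝒜 g hg hi) =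
      hpb.flip.isoPullback.inv ≫ Spec.map (CommRingCat.ofHom (Away.map ψ g)) := by
    rw [Iso.eq_inv_comp]; exact hpb.flip.isoPullback_hom_snd
  change IsIso (pullback.snd (Proj.map ψ hψ) (Proj.awayι 𝒜 g hg hi))
  rw [h2]; infer_instance

end Part3

/-- the adjunct of an isomorphism `M ⟶ f_* N` along an isomorphism `f` is an isomorphism -/
theorem isIso_adjunct {X Y : Scheme.{u}} (f : X ⟶ Y) [IsIso f] {M : Y.Modules} {N : X.Modules}
    (g : M ⟶ (Scheme.Modules.pushforward f).obj N) [IsIso g] :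
    IsIso (((Scheme.Modules.pullbackPushforwardAdjunction f).homEquiv _ _).symm g) := by
  rw [Adjunction.homEquiv_counit]
  infer_instance

theorem isIso_adjunct_twist_comap (d₀ : ℕ) (hinj : ∀ i, d₀ ≤ i → ∀ a ∈ 𝒜 i, ψ a = 0 → a = 0)
    (hsurj : ∀ i, d₀ ≤ i → ∀ b ∈ ℬ i, ∃ a ∈ 𝒜 i, ψ a = b) (n : ℤ) :
    IsIso (((Scheme.Modules.pullbackPushforwardAdjunction (Proj.map ψ hψ)).homEquiv _ _).symm
      (GrTwist.comap ψ hψ n)) := by
  haveI := isIso_projMap ψ hψ d₀ hinj hsurj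
  haveI := isIso_twist_comap ψ hψ d₀ hinj hsurj n
  exact isIso_adjunct _ _

end Groth.Agent.Helper6.GrTwistComapIso
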