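import Mathlib
import Groth.Agent.Lib.Helper6.HopfEtale

/-!
# Helper6: finite locally free group schemes whose order is invertible on the base are étale

Ring-level statement for Hopf algebras, and the bridge from group objects of `Over (Spec R)`
to Hopf algebras of global sections.
-/

set_option autoImplicit false
universe u

namespace Groth.Agent.Helper6.GrpSchEt

open TensorProduct

/-- a ring homomorphism between fields preserves non-vanishing of natural numbers -/
theorem natCast_ne_zero_of_ringHom {K L : Type*} [Field K] [Field L] (φ : K →+* L) (n : ℕ)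
    (h : (n : K) ≠ 0) : (n : L) ≠ 0 := by
  intro h0
  apply h
  apply φ.injective
  rw [map_natCast, h0, map_zero]

/-- A finite flat finitely presented commutative Hopf algebra whose rank is invertible in all
residue fields is étale. -/
theorem etale_of_rankAtStalk_ne_zero (R A : Type u) [CommRing R] [CommRing A] [HopfAlgebra R A]
    [Module.Finite R A] [Module.Flat R A] [Algebra.FinitePresentation R A]
    (h : ∀ p : PrimeSpectrum R, (Module.rankAtStalk A p : p.asIdeal.ResidueField) ≠ 0) :
    Algebra.Etale R A := by
  haveI : Algebra.FormallyUnramified R A := by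
    constructor
    haveI : Module.Finite R (Ω[A⁄R]) := Module.Finite.trans A _
    rw [← Module.support_eq_empty_iff (R := R), Set.eq_empty_iff_forall_notMem]
    intro p hp
    rw [Module.mem_support_iff_nontrivial_residueField_tensorProduct] at hp
    have hfr : Module.finrank p.asIdeal.ResidueField (p.asIdeal.ResidueField ⊗[R] A) =
        Module.rankAtStalk A p := (Module.rankAtStalk_eq p).symm
    haveI : Algebra.Etale p.asIdeal.ResidueField (p.asIdeal.ResidueField ⊗[R] A) :=
      Groth.Agent.Lib.Helper6.HopfEtale.etale_of_finrank_ne_zero (by rw [hfr]; exact h p)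
    let _ : Algebra A (p.asIdeal.ResidueField ⊗[R] A) := Algebra.TensorProduct.rightAlgebra
    have hs : Subsingleton (p.asIdeal.ResidueField ⊗[R] Ω[A⁄R]) :=
      (KaehlerDifferential.tensorKaehlerEquivBase R p.asIdeal.ResidueField A
        (p.asIdeal.ResidueField ⊗[R] A)).subsingleton
    exact not_subsingleton _ hs
  exact Algebra.Etale.of_formallyUnramified_of_flat


open CategoryTheory Limits AlgebraicGeometry MonoidalCategory CartesianMonoidalCategory MonObj GrpObj

section Affine
variable {R : CommRingCat.{u}} (G : Over (Spec R))

/-- the structure morphism of an object of `Over (Spec R)` as an `OverClass` instance -/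
@[reducible] noncomputable def ovr : G.left.Over (Spec R) := ⟨G.hom⟩

attribute [local instance] ovr

@[reducible] noncomputable def grpAs [GrpObj G] : GrpObj (G.left.asOver (Spec R)) :=
  inferInstanceAs (GrpObj G)

attribute [local instance] grpAs

/-- the Hopf algebra structure on the global sections of an affine group scheme over `Spec R` -/
@[reducible] noncomputable def hopfΓ [GrpObj G] [IsAffine G.left] : HopfAlgebra R Γ(G.left, ⊤) :=
  inferInstance

/-- `Spec` of the structure map of global sections is the structure morphism -/
theorem isoSpec_inv_hom [IsAffine G.left] :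
    G.left.isoSpec.inv ≫ G.hom =
      Spec.map (CommRingCat.ofHom (algebraMap R Γ(G.left, ⊤))) := by
  have h1 : algebraMap R Γ(G.left, ⊤) =
    CommRingCat.Hom.hom (Spec.fullyFaithful.preimage
      (G.left.isoSpec.inv ≫ G.left ↘ Spec R)).unop := rfl
  rw [h1]
  have := Spec.fullyFaithful.map_preimage (G.left.isoSpec.inv ≫ G.left ↘ Spec R)
  exact this.symm

/-- A finite locally free group scheme over an affine base whose rank is invertible in all
residue fields is étale. -/
theorem etale_of_affine [GrpObj G] [IsFinite G.hom] [Flat G.hom]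
    [LocallyOfFinitePresentation G.hom]
    (h : ∀ s : Spec R, (Scheme.Hom.finrank G.hom s : (Spec R).residueField s) ≠ 0) :
    Etale G.hom := by
  haveI : IsAffine G.left := isAffine_of_isAffineHom G.hom
  letI := hopfΓ G
  have e := isoSpec_inv_hom G
  have hfin : IsFinite (Spec.map (CommRingCat.ofHom (algebraMap R Γ(G.left, ⊤)))) := by
    rw [← e]; infer_instance
  have hflat : Flat (Spec.map (CommRingCat.ofHom (algebraMap R Γ(G.left, ⊤)))) := by
    rw [← e]; infer_instance
  have hfp : LocallyOfFinitePresentation
      (Spec.map (CommRingCat.ofHom (algebraMap R Γ(G.left, ⊤)))) := by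
    rw [← e]; infer_instance
  rw [IsFinite.SpecMap_iff] at hfin
  rw [Flat.SpecMap_iff] at hflat
  rw [LocallyOfFinitePresentation.SpecMap_iff] at hfp
  haveI : Module.Finite R Γ(G.left, ⊤) := RingHom.finite_algebraMap.1 hfin
  haveI : Module.Flat R Γ(G.left, ⊤) := RingHom.flat_algebraMap_iff.1 hflat
  haveI : Algebra.FinitePresentation R Γ(G.left, ⊤) := RingHom.finitePresentation_algebraMap.1 hfp
  have hrank : ∀ p : PrimeSpectrum R,
      (Module.rankAtStalk Γ(G.left, ⊤) p : p.asIdeal.ResidueField) ≠ 0 := by
    intro p
    have h1 := h p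
    have h2 : Scheme.Hom.finrank G.hom p = Module.rankAtStalk Γ(G.left, ⊤) p := by
      rw [← Scheme.Hom.finrank_comp_left_of_isIso G.left.isoSpec.inv G.hom]
      rw [e]
      exact Scheme.Hom.finrank_SpecMap_algebraMap R Γ(G.left, ⊤) p
    rw [h2] at h1
    exact natCast_ne_zero_of_ringHom (Scheme.Spec.residueFieldIso R p).hom.hom _ h1
  have key : @Algebra.Etale R Γ(G.left, ⊤) _ _ (hopfΓ G).toBialgebra.toAlgebra :=
    @etale_of_rankAtStalk_ne_zero R Γ(G.left, ⊤) _ _ (hopfΓ G) ‹_› ‹_› ‹_› hrank
  rw [← MorphismProperty.cancel_left_of_respectsIso @Etale G.left.isoSpec.inv G.hom, e,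
    HasRingHomProperty.Spec_iff (P := @Etale)]
  exact RingHom.etale_algebraMap.2 key

end Affine

/-- variant of `etale_of_affine` over a base which is propositionally an affine scheme -/
theorem etale_of_affine' {T : Scheme.{u}} (hT : ∃ R : CommRingCat.{u}, T = Spec R) (G : Over T)
    [GrpObj G] [IsFinite G.hom] [Flat G.hom] [LocallyOfFinitePresentation G.hom]
    (h : ∀ s : T, (Scheme.Hom.finrank G.hom s : T.residueField s) ≠ 0) :
    Etale G.hom := by
  obtain ⟨R, rfl⟩ := hT
  exact etale_of_affine G h

end Groth.Agent.Helper6.GrpSchEt
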