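import Mathlib
import Groth.Agent.Lib.Helper6.Deligne3
import Groth.Agent.Lib.Helper6.GrpSchEtA

/-!
# Helper6: a finite locally free group scheme is killed by its rank (scheme-level bridge)
-/

set_option autoImplicit false
universe u

namespace Groth.Agent.Helper6.GrpSchPow

open CategoryTheory Limits AlgebraicGeometry MonoidalCategory CartesianMonoidalCategory MonObj GrpObj
open TensorProduct

section Cat
universe v w
variable {C : Type w} [Category.{v} C] [CartesianMonoidalCategory C]

/-- transport of `𝟙 ^ n = 1` along an isomorphism of monoid objects -/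
theorem id_pow_eq_one_of_iso {X G : C} [MonObj X] [MonObj G] (i : X ⟶ G) [IsMonHom i] [IsIso i]
    (n : ℕ) (h : (𝟙 X : X ⟶ X) ^ n = 1) : (𝟙 G : G ⟶ G) ^ n = 1 := by
  have h1 : i ≫ (𝟙 G) ^ n = i ≫ 1 := by
    rw [MonObj.comp_pow, MonObj.comp_one, Category.comp_id]
    have h2 : ((𝟙 X : X ⟶ X) ^ n) ≫ i = (𝟙 X ≫ i) ^ n :=
      map_pow (IsMonHom.monoidHom i X) (𝟙 X) n
    rw [Category.id_comp] at h2
    rw [← h2, h]
    exact map_one (IsMonHom.monoidHom i X)
  exact (cancel_epi i).1 h1

/-- commutativity of hom-monoids is inherited along a monomorphism of monoid objects -/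
theorem mul_comm_of_mono [BraidedCategory C] {X G : C} [MonObj X] [MonObj G] [IsCommMonObj G]
    (i : X ⟶ G) [IsMonHom i] [Mono i] {T : C} (a b : T ⟶ X) : a * b = b * a := by
  have h1 : (a * b) ≫ i = (b * a) ≫ i := by
    have e1 : (a * b) ≫ i = (a ≫ i) * (b ≫ i) := map_mul (IsMonHom.monoidHom i T) a b
    have e2 : (b * a) ≫ i = (b ≫ i) * (a ≫ i) := map_mul (IsMonHom.monoidHom i T) b a
    rw [e1, e2, mul_comm]
  exact (cancel_mono i).1 h1

end Cat


section Alg
variable {R A : Type u} [CommRing R] [CommRing A]

/-- if all convolution monoids of algebra maps out of a bialgebra into `A ⊗ A` are commutative,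
the bialgebra is cocommutative -/
theorem isCocomm_of_comm [Bialgebra R A]
    (hc : ∀ f g : WithConv (A →ₐ[R] A ⊗[R] A), f * g = g * f) : Coalgebra.IsCocomm R A := by
  constructor
  ext a
  have h := hc (WithConv.toConv Algebra.TensorProduct.includeLeft)
    (WithConv.toConv Algebra.TensorProduct.includeRight)
  have h1 := congrArg (fun F : WithConv (A →ₐ[R] A ⊗[R] A) => F a) h
  rw [AlgHom.convMul_apply, AlgHom.convMul_apply] at h1
  have e1 : ∀ z : A ⊗[R] A, Algebra.TensorProduct.lift
      (WithConv.toConv (Algebra.TensorProduct.includeLeft : A →ₐ[R] A ⊗[R] A)).ofConv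
      (WithConv.toConv (Algebra.TensorProduct.includeRight : A →ₐ[R] A ⊗[R] A)).ofConv
      (fun _ _ => Commute.all _ _) z = z := by
    intro z
    induction z using TensorProduct.induction_on with
    | zero => simp
    | tmul x y => simp
    | add x y hx hy => rw [map_add, hx, hy]
  have e2 : ∀ z : A ⊗[R] A, Algebra.TensorProduct.lift
      (WithConv.toConv (Algebra.TensorProduct.includeRight : A →ₐ[R] A ⊗[R] A)).ofConv
      (WithConv.toConv (Algebra.TensorProduct.includeLeft : A →ₐ[R] A ⊗[R] A)).ofConv
      (fun _ _ => Commute.all _ _) z = TensorProduct.comm R A A z := by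
    intro z
    induction z using TensorProduct.induction_on with
    | zero => simp
    | tmul x y => simp
    | add x y hx hy => rw [map_add, map_add, hx, hy]
  rw [e1, e2] at h1
  exact h1.symm

/-- the identity of `Spec A` is `Spec.mapMulEquiv` of the identity algebra map -/
theorem mapMulEquiv_id [Bialgebra R A] :
    Spec.mapMulEquiv (R := R) (S := A) (T := A) (WithConv.toConv (AlgHom.id R A)) =
      𝟙 ((Spec (CommRingCat.of A)).asOver (Spec (CommRingCat.of R))) := by
  ext1
  show Spec.map (CommRingCat.ofHom (AlgHom.id R A).toRingHom) = 𝟙 _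
  exact Spec.map_id _

/-- if the identity algebra map has convolution order dividing `n`, so does the identity of
`Spec A` in its hom-monoid -/
theorem spec_id_pow_eq_one [Bialgebra R A] (n : ℕ)
    (h : (WithConv.toConv (AlgHom.id R A)) ^ n = 1) :
    (𝟙 ((Spec (CommRingCat.of A)).asOver (Spec (CommRingCat.of R))) :
      (Spec (CommRingCat.of A)).asOver (Spec (CommRingCat.of R)) ⟶ _) ^ n = 1 := by
  rw [← mapMulEquiv_id, ← map_pow, h, map_one]

/-- commutativity of the group scheme `Spec A` forces cocommutativity of `A` -/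
theorem isCocomm_of_hom_comm [Bialgebra R A]
    (hc : ∀ a b : (Spec (CommRingCat.of (A ⊗[R] A))).asOver (Spec (CommRingCat.of R)) ⟶
      (Spec (CommRingCat.of A)).asOver (Spec (CommRingCat.of R)), a * b = b * a) :
    Coalgebra.IsCocomm R A := by
  apply isCocomm_of_comm
  intro f g
  apply (Spec.mapMulEquiv (R := R) (S := A) (T := A ⊗[R] A)).injective
  rw [map_mul, map_mul]
  exact hc _ _

end Alg

section Affine
variable {R : CommRingCat.{u}}

/-- an affine group scheme over `Spec R` is isomorphic, as a group object, to the spectrum of a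
Hopf algebra -/
theorem exists_hopf_iso (G : Over (Spec R)) [GrpObj G] [IsAffine G.left] :
    ∃ (A : Type u) (_ : CommRing A) (_ : HopfAlgebra R A)
      (i : (Spec (CommRingCat.of A)).asOver (Spec R) ⟶ G), IsIso i ∧ IsMonHom i := by
  obtain ⟨Y, ⟨e⟩⟩ := (essImage_hopfSpec (R := R) (G := Grp.mk G)).2 ‹_›
  refine ⟨Y.unop, inferInstance, inferInstance, e.hom.hom.hom, ?_, ?_⟩
  · refine ⟨e.inv.hom.hom, ?_, ?_⟩
    · exact congrArg (fun f => f.hom.hom) e.hom_inv_id
    · exact congrArg (fun f => f.hom.hom) e.inv_hom_id
  · exact e.hom.hom.isMonHom_hom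

/-- A commutative finite locally free group scheme of constant rank `r` over an affine base is
killed by `r`. -/
theorem pow_eq_one_of_affine (G : Over (Spec R)) [GrpObj G] [IsCommMonObj G]
    [IsFinite G.hom] [Flat G.hom] [LocallyOfFinitePresentation G.hom] (r : ℕ)
    (hr : ∀ s : Spec R, Scheme.Hom.finrank G.hom s = r) : (𝟙 G : G ⟶ G) ^ r = 1 := by
  haveI : IsAffine G.left := isAffine_of_isAffineHom G.hom
  obtain ⟨A, _, _, i, hi, hm⟩ := exists_hopf_iso G
  haveI := hi
  haveI := hm
  refine id_pow_eq_one_of_iso i r ?_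
  have hw : i.left ≫ G.hom = Spec.map (CommRingCat.ofHom (algebraMap R A)) := Over.w i
  haveI : IsIso i.left := (Over.forget (Spec R)).map_isIso i
  have hfin : IsFinite (Spec.map (CommRingCat.ofHom (algebraMap R A))) := by
    rw [← hw]
    exact (MorphismProperty.cancel_left_of_respectsIso @IsFinite i.left G.hom).2 inferInstance
  have hflat : Flat (Spec.map (CommRingCat.ofHom (algebraMap R A))) := by
    rw [← hw]
    exact (MorphismProperty.cancel_left_of_respectsIso @Flat i.left G.hom).2 inferInstance
  have hfp : LocallyOfFinitePresentation (Spec.map (CommRingCat.ofHom (algebraMap R A))) := by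
    rw [← hw]
    exact (MorphismProperty.cancel_left_of_respectsIso @LocallyOfFinitePresentation
      i.left G.hom).2 inferInstance
  rw [IsFinite.SpecMap_iff] at hfin
  rw [Flat.SpecMap_iff] at hflat
  rw [LocallyOfFinitePresentation.SpecMap_iff] at hfp
  haveI : Module.Finite R A := RingHom.finite_algebraMap.1 hfin
  haveI : Module.Flat R A := RingHom.flat_algebraMap_iff.1 hflat
  haveI : Algebra.FinitePresentation R A := RingHom.finitePresentation_algebraMap.1 hfp
  haveI : Module.FinitePresentation R A :=
    Module.FinitePresentation.of_finite_of_finitePresentation R A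
  haveI : Module.Projective R A := Module.Flat.projective_of_finitePresentation
  have hrank : ∀ p : PrimeSpectrum R, Module.rankAtStalk A p = r := by
    intro p
    rw [← hr p, ← Scheme.Hom.finrank_comp_left_of_isIso i.left G.hom, hw]
    exact (Scheme.Hom.finrank_SpecMap_algebraMap R A p).symm
  haveI : Coalgebra.IsCocomm R A := isCocomm_of_hom_comm (fun a b => mul_comm_of_mono i a b)
  exact spec_id_pow_eq_one r (Groth.Agent.Helper6.Deligne.convPow_rank_eq_one R A r hrank)

end Affine


/-- variant of `pow_eq_one_of_affine` over a base which is propositionally an affine scheme -/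
theorem pow_eq_one_of_affine' {T : Scheme.{u}} (hT : ∃ R : CommRingCat.{u}, T = Spec R)
    (G : Over T) [GrpObj G] [IsCommMonObj G]
    [IsFinite G.hom] [Flat G.hom] [LocallyOfFinitePresentation G.hom] (r : ℕ)
    (hr : ∀ s : T, Scheme.Hom.finrank G.hom s = r) : (𝟙 G : G ⟶ G) ^ r = 1 := by
  obtain ⟨R, rfl⟩ := hT
  exact pow_eq_one_of_affine G r hr

section Global
variable {S : Scheme.{u}}

/-- endomorphisms of an `S`-scheme agreeing after base change to an affine open cover of `S`
are equal -/
theorem hom_ext_pullback_affineCover {G H : Over S} (a b : G ⟶ H)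
    (h : ∀ i, (Over.pullback (S.affineCover.f i)).map a =
      (Over.pullback (S.affineCover.f i)).map b) : a = b := by
  ext1
  refine Scheme.Cover.hom_ext (S.affineCover.pullback₁ G.hom) _ _ (fun i => ?_)
  have h1 := congrArg (fun m => m.left ≫ pullback.fst H.hom (S.affineCover.f i)) (h i)
  simp only [Over.pullback_map_left] at h1
  erw [pullback.lift_fst, pullback.lift_fst] at h1
  exact h1

open scoped Obj in
/-- if all base changes of `G` to an affine open cover of `S` are killed by `r`, so is `G` -/
theorem id_pow_eq_one_of_pullback (G : Over S) [GrpObj G] (r : ℕ)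
    (h : ∀ i, (𝟙 ((Over.pullback (S.affineCover.f i)).obj G) :
      (Over.pullback (S.affineCover.f i)).obj G ⟶ _) ^ r = 1) :
    (𝟙 G : G ⟶ G) ^ r = 1 := by
  apply hom_ext_pullback_affineCover
  intro i
  have h1 := map_pow (Over.pullback (S.affineCover.f i)).homMonoidHom (𝟙 G) r
  have h2 := map_one ((Over.pullback (S.affineCover.f i)).homMonoidHom (X := G) (M := G))
  rw [Functor.homMonoidHom_apply] at h1 h2
  rw [h1, h2, Functor.homMonoidHom_apply, CategoryTheory.Functor.map_id]
  exact h i

open scoped Obj in
/-- A commutative finite locally free group scheme of constant rank `r` is killed by `r`: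
the `r`-th power of the identity is trivial. -/
theorem id_pow_eq_one (G : Over S) [GrpObj G] [IsCommMonObj G]
    [IsFinite G.hom] [Flat G.hom] [LocallyOfFinitePresentation G.hom] (r : ℕ)
    (hr : ∀ s : S, Scheme.Hom.finrank G.hom s = r) : (𝟙 G : G ⟶ G) ^ r = 1 := by
  apply id_pow_eq_one_of_pullback
  intro i
  have hfin : IsFinite (pullback.snd G.hom (S.affineCover.f i)) := inferInstance
  have hflat : Flat (pullback.snd G.hom (S.affineCover.f i)) := inferInstance
  have hfp : LocallyOfFinitePresentation (pullback.snd G.hom (S.affineCover.f i)) :=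
    inferInstance
  refine @pow_eq_one_of_affine' _ ⟨_, rfl⟩ ((Over.pullback (S.affineCover.f i)).obj G)
    (Functor.grpObjObj (F := Over.pullback (S.affineCover.f i)) (G := G))
    (Functor.isCommMonObj_obj (F := Over.pullback (S.affineCover.f i)) (M := G))
    hfin hflat hfp r (fun y => ?_)
  exact (Scheme.Hom.finrank_pullback_snd G.hom (S.affineCover.f i) y).trans (hr _)

/-- A commutative finite locally free group scheme of constant rank `r` is killed by `r`. -/
theorem hom_pow_eq_one (G : Over S) [GrpObj G] [IsCommMonObj G]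
    [IsFinite G.hom] [Flat G.hom] [LocallyOfFinitePresentation G.hom] (r : ℕ)
    (hr : ∀ s : S, Scheme.Hom.finrank G.hom s = r) (T : Over S) (g : T ⟶ G) : g ^ r = 1 := by
  have key := id_pow_eq_one G r hr
  calc g ^ r = (g ≫ 𝟙 G) ^ r := by rw [Category.comp_id]
    _ = g ≫ (𝟙 G) ^ r := (MonObj.comp_pow _ _ _).symm
    _ = g ≫ 1 := by rw [key]
    _ = 1 := MonObj.comp_one g

end Global

end Groth.Agent.Helper6.GrpSchPow
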