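import Mathlib
import Groth.Agent.Lib.Helper6.FinKill4
import Groth.Agent.Lib.Helper6.GrpSchPowA

/-!
# Helper6: a finite locally free group scheme of constant rank over a reduced base is killed by
its rank (no commutativity assumption)
-/

set_option autoImplicit false
universe u

namespace Groth.Agent.Helper6.GrpSchPow

open CategoryTheory Limits AlgebraicGeometry MonoidalCategory CartesianMonoidalCategory MonObj GrpObj
open TensorProduct

section Sep
variable {R : Type u} [CommRing R] [IsReduced R] {M : Type u} [AddCommGroup M] [Module R M]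
  [Module.Projective R M]

/-- an element of a projective module over a reduced ring vanishing in all fibres is zero -/
theorem eq_zero_of_forall_tmul_eq_zero (z : M)
    (h : ∀ p : PrimeSpectrum R, ((1 : p.asIdeal.ResidueField) ⊗ₜ[R] z :
      p.asIdeal.ResidueField ⊗[R] M) = 0) : z = 0 := by
  obtain ⟨s, hs⟩ := Module.Projective.out (R := R) (P := M)
  have hφ : ∀ φ : M →ₗ[R] R, φ z = 0 := by
    intro φ
    apply IsReduced.eq_zero
    rw [nilpotent_iff_mem_prime]
    intro J hJ
    have h1 := h ⟨J, hJ⟩
    have h2 := congrArg ((TensorProduct.rid R J.ResidueField).toLinearMap ∘ₗ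
      (LinearMap.lTensor J.ResidueField φ)) h1
    rw [LinearMap.comp_apply, LinearMap.lTensor_tmul, map_zero] at h2
    have h3 : (TensorProduct.rid R J.ResidueField).toLinearMap ((1 : J.ResidueField) ⊗ₜ[R] φ z) =
        algebraMap R J.ResidueField (φ z) := by
      rw [LinearEquiv.coe_coe, TensorProduct.rid_tmul, Algebra.algebraMap_eq_smul_one]
    rw [h3] at h2
    exact (Ideal.algebraMap_residueField_eq_zero).1 h2
  have hsz : s z = 0 := by
    ext m
    exact hφ (Finsupp.lapply m ∘ₗ s)
  rw [← hs z, hsz, map_zero]

theorem eq_of_forall_tmul_eq (x y : M)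
    (h : ∀ p : PrimeSpectrum R, ((1 : p.asIdeal.ResidueField) ⊗ₜ[R] x :
      p.asIdeal.ResidueField ⊗[R] M) = 1 ⊗ₜ[R] y) : x = y := by
  rw [← sub_eq_zero]
  apply eq_zero_of_forall_tmul_eq_zero (R := R)
  intro p
  rw [TensorProduct.tmul_sub, h p, sub_self]

end Sep

section Red
open Groth.Agent.Helper6.FinKill

/-- a finite locally free Hopf algebra of constant rank `n` over a reduced ring is killed by
`n` -/
theorem convPow_rank_eq_one_of_isReduced (R : Type u) [CommRing R] [IsReduced R] (A : Type u)
    [CommRing A] [HopfAlgebra R A] [Module.Finite R A] [Module.Projective R A] (n : ℕ)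
    (hn : ∀ p : PrimeSpectrum R, Module.rankAtStalk A p = n) :
    (WithConv.toConv (AlgHom.id R A)) ^ n = 1 := by
  apply WithConv.ofConv_injective
  apply AlgHom.toLinearMap_injective
  apply WithConv.toConv_injective
  rw [AlgHom.toLinearMap_convPow, AlgHom.toLinearMap_convOne, WithConv.ofConv_toConv]
  apply WithConv.ofConv_injective
  ext a
  apply eq_of_forall_tmul_eq (R := R) (M := A)
  intro p
  have h1 := convPow_finrank_eq_one' p.asIdeal.ResidueField (p.asIdeal.ResidueField ⊗[R] A)
  have hfr : Module.finrank p.asIdeal.ResidueField (p.asIdeal.ResidueField ⊗[R] A) = n := by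
    rw [← hn p, Module.rankAtStalk_eq]
  rw [hfr] at h1
  have h2 := congrArg (fun F : WithConv ((p.asIdeal.ResidueField ⊗[R] A) →ₐ[p.asIdeal.ResidueField]
      (p.asIdeal.ResidueField ⊗[R] A)) =>
    WithConv.toConv F.ofConv.toLinearMap) h1
  simp only [AlgHom.toLinearMap_convPow, AlgHom.toLinearMap_convOne] at h2
  rw [← bc_id R p.asIdeal.ResidueField A, ← bc_pow, ← bc_one R p.asIdeal.ResidueField A] at h2
  have h3 := congrArg (fun H => H.ofConv ((1 : p.asIdeal.ResidueField) ⊗ₜ[R] a)) h2
  exact h3

end Red


section Affine
variable {R : CommRingCat.{u}}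

/-- A finite locally free group scheme of constant rank `r` over a reduced affine base is killed
by `r`. -/
theorem id_pow_eq_one_of_affine_reduced (G : Over (Spec R)) [GrpObj G] [IsReduced (Spec R)]
    [IsFinite G.hom] [Flat G.hom] [LocallyOfFinitePresentation G.hom] (r : ℕ)
    (hr : ∀ s : Spec R, Scheme.Hom.finrank G.hom s = r) : (𝟙 G : G ⟶ G) ^ r = 1 := by
  haveI : IsAffine G.left := isAffine_of_isAffineHom G.hom
  obtain ⟨A, _, _, i, hi, hm⟩ := exists_hopf_iso G
  haveI := hi
  haveI := hm
  refine id_pow_eq_one_of_iso i r ?_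
  have hw : i.left ≫ G.hom = Spec.map (CommRingCat.ofHom (algebraMap R A)) := Over.w i
  haveI : IsIso i.left := (Over.forget (Spec R)).map_isIso i
  have hfin : IsFinite (Spec.map (CommRingCat.ofHom (algebraMap R A))) := by
    rw [← hw]
    exact (MorphismProperty.cancel_left_of_respectsIso @IsFinite i.left G.hom).2 inferInstance
  have hflat : Flat (Spec.map (CommRingCat.ofHom (algebraMap R A))) := by
    rw [← hw]
    exact (MorphismProperty.cancel_left_of_respectsIso @Flat i.left G.hom).2 inferInstance
  have hfp : LocallyOfFinitePresentation (Spec.map (CommRingCat.ofHom (algebraMap R A))) := by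
    rw [← hw]
    exact (MorphismProperty.cancel_left_of_respectsIso @LocallyOfFinitePresentation
      i.left G.hom).2 inferInstance
  rw [IsFinite.SpecMap_iff] at hfin
  rw [Flat.SpecMap_iff] at hflat
  rw [LocallyOfFinitePresentation.SpecMap_iff] at hfp
  haveI : Module.Finite R A := RingHom.finite_algebraMap.1 hfin
  haveI : Module.Flat R A := RingHom.flat_algebraMap_iff.1 hflat
  haveI : Algebra.FinitePresentation R A := RingHom.finitePresentation_algebraMap.1 hfp
  haveI : Module.FinitePresentation R A :=
    Module.FinitePresentation.of_finite_of_finitePresentation R A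
  haveI : Module.Projective R A := Module.Flat.projective_of_finitePresentation
  have hrank : ∀ p : PrimeSpectrum R, Module.rankAtStalk A p = r := by
    intro p
    rw [← hr p, ← Scheme.Hom.finrank_comp_left_of_isIso i.left G.hom, hw]
    exact (Scheme.Hom.finrank_SpecMap_algebraMap R A p).symm
  haveI : _root_.IsReduced R := (affine_isReduced_iff R).1 inferInstance
  exact spec_id_pow_eq_one r (convPow_rank_eq_one_of_isReduced R A r hrank)

end Affine

/-- variant of `id_pow_eq_one_of_affine_reduced` over a base which is propositionally affine -/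
theorem id_pow_eq_one_of_affine_reduced' {T : Scheme.{u}} (hT : ∃ R : CommRingCat.{u}, T = Spec R)
    (G : Over T) [GrpObj G] [IsReduced T]
    [IsFinite G.hom] [Flat G.hom] [LocallyOfFinitePresentation G.hom] (r : ℕ)
    (hr : ∀ s : T, Scheme.Hom.finrank G.hom s = r) : (𝟙 G : G ⟶ G) ^ r = 1 := by
  obtain ⟨R, rfl⟩ := hT
  exact id_pow_eq_one_of_affine_reduced G r hr

section Global
variable {S : Scheme.{u}}

open scoped Obj in
/-- A finite locally free group scheme of constant rank `r` over a reduced base is killed by
`r`: the `r`-th power of the identity is trivial. -/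
theorem id_pow_eq_one_of_reduced (G : Over S) [GrpObj G] [IsReduced S]
    [IsFinite G.hom] [Flat G.hom] [LocallyOfFinitePresentation G.hom] (r : ℕ)
    (hr : ∀ s : S, Scheme.Hom.finrank G.hom s = r) : (𝟙 G : G ⟶ G) ^ r = 1 := by
  apply id_pow_eq_one_of_pullback
  intro i
  have hfin : IsFinite (pullback.snd G.hom (S.affineCover.f i)) := inferInstance
  have hflat : Flat (pullback.snd G.hom (S.affineCover.f i)) := inferInstance
  have hfp : LocallyOfFinitePresentation (pullback.snd G.hom (S.affineCover.f i)) :=
    inferInstance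
  have hred : IsReduced (S.affineCover.X i) := isReduced_of_isOpenImmersion (S.affineCover.f i)
  refine @id_pow_eq_one_of_affine_reduced' _ ⟨_, rfl⟩ ((Over.pullback (S.affineCover.f i)).obj G)
    (Functor.grpObjObj (F := Over.pullback (S.affineCover.f i)) (G := G))
    hred hfin hflat hfp r (fun y => ?_)
  exact (Scheme.Hom.finrank_pullback_snd G.hom (S.affineCover.f i) y).trans (hr _)

end Global

end Groth.Agent.Helper6.GrpSchPow
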