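import Mathlib

/-!
# Henselian couples of schemes: auxiliary lemmas (helper6)

* idempotent global sections of a scheme vs clopen subsets
* kernel of the second inclusion of a pushout along a flat ring map
* flat base change of global sections, `appTop` form
-/

set_option autoImplicit false

open CategoryTheory CategoryTheory.Limits AlgebraicGeometry TopologicalSpace Opposite

universe u

namespace Groth.Agent.Helper6.HensCouple

section Idem

theorem mem_or_mem (Y : Scheme.{u}) (e : Γ(Y, ⊤)) (x : Y) :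
    x ∈ Y.basicOpen e ∨ x ∈ Y.basicOpen (1 - e) := by
  rw [Y.mem_basicOpen_top, Y.mem_basicOpen_top, map_sub, map_one]
  exact IsLocalRing.isUnit_or_isUnit_of_add_one (add_sub_cancel _ _)

theorem inf_eq_bot (Y : Scheme.{u}) (e : Γ(Y, ⊤)) (he : IsIdempotentElem e) :
    Y.basicOpen e ⊓ Y.basicOpen (1 - e) = ⊥ := by
  rw [← Y.basicOpen_mul, mul_sub, mul_one, he.eq, sub_self, Y.basicOpen_zero]

theorem coe_compl (Y : Scheme.{u}) (e : Γ(Y, ⊤)) (he : IsIdempotentElem e) :
    ((Y.basicOpen e : Y.Opens) : Set Y)ᶜ = ((Y.basicOpen (1 - e) : Y.Opens) : Set Y) := by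
  ext x
  constructor
  · intro hx
    rcases mem_or_mem Y e x with h | h
    · exact absurd h hx
    · exact h
  · intro hx h
    have h3 : x ∈ Y.basicOpen e ⊓ Y.basicOpen (1 - e) := ⟨h, hx⟩
    rw [inf_eq_bot Y e he] at h3
    exact h3

theorem isClopen_basicOpen (Y : Scheme.{u}) (e : Γ(Y, ⊤)) (he : IsIdempotentElem e) :
    IsClopen ((Y.basicOpen e : Y.Opens) : Set Y) := by
  refine ⟨?_, (Y.basicOpen e).isOpen⟩
  rw [← isOpen_compl_iff, coe_compl Y e he]
  exact (Y.basicOpen (1 - e)).isOpen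

theorem eq_zero_of_basicOpen_eq_bot (Y : Scheme.{u}) (w : Γ(Y, ⊤)) (hw : IsIdempotentElem w)
    (h : Y.basicOpen w = ⊥) : w = 0 := by
  have hu : IsUnit (1 - w) := by
    refine Y.toLocallyRingedSpace.toRingedSpace.isUnit_of_isUnit_germ ⊤ (1 - w) ?_
    intro x hx
    rcases mem_or_mem Y w x with h1 | h1
    · rw [h] at h1
      exact absurd h1 (by simp)
    · exact (Y.mem_basicOpen_top _ x).mp h1
  have hid : IsIdempotentElem (1 - w) := hw.one_sub
  have h1 : (1 - w) * (1 - w) = (1 - w) * 1 := by rw [hid.eq, mul_one]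
  have h2 := hu.mul_left_cancel h1
  have h3 : w = 1 - (1 - w) := by ring
  rw [h3, h2, sub_self]

theorem idem_eq_of_basicOpen_eq (Y : Scheme.{u}) (e e' : Γ(Y, ⊤)) (he : IsIdempotentElem e)
    (he' : IsIdempotentElem e') (h : Y.basicOpen e = Y.basicOpen e') : e = e' := by
  have h1 : e * (1 - e') = 0 := by
    apply eq_zero_of_basicOpen_eq_bot Y _ (he.mul he'.one_sub)
    rw [Y.basicOpen_mul, h, inf_eq_bot Y e' he']
  have h2 : e' * (1 - e) = 0 := by
    apply eq_zero_of_basicOpen_eq_bot Y _ (he'.mul he.one_sub)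
    rw [Y.basicOpen_mul, ← h, inf_eq_bot Y e he]
  linear_combination h1 - h2

/-- A clopen subset of a scheme is the non-vanishing locus of an idempotent global section. -/
theorem exists_idem_of_isClopen (Y : Scheme.{u}) (s : Set Y) (hs : IsClopen s) :
    ∃ e : Γ(Y, ⊤), IsIdempotentElem e ∧ ((Y.basicOpen e : Y.Opens) : Set Y) = s := by
  let U : Y.Opens := ⟨s, hs.isOpen⟩
  let V : Y.Opens := ⟨sᶜ, hs.isClosed.isOpen_compl⟩
  let Uf : Bool → Y.Opens := fun b => bif b then U else V
  let sf : ∀ b, Γ(Y, Uf b) := fun b => bif b then 1 else 0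
  have hbot : U ⊓ V = ⊥ := by
    ext x
    simp [U, V]
  have hbot' : V ⊓ U = ⊥ := by rw [inf_comm]; exact hbot
  have hsub : ∀ W : Y.Opens, W = ⊥ → Subsingleton Γ(Y, W) := by
    rintro _ rfl; infer_instance
  have compat : TopCat.Presheaf.IsCompatible Y.sheaf.1 Uf sf := by
    intro i j
    cases i <;> cases j
    · rfl
    · haveI := hsub _ hbot'
      exact Subsingleton.elim (α := Γ(Y, V ⊓ U)) _ _
    · haveI := hsub _ hbot
      exact Subsingleton.elim (α := Γ(Y, U ⊓ V)) _ _
    · rfl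
  have hcover : (⊤ : Y.Opens) ≤ iSup Uf := by
    intro x _
    by_cases hx : x ∈ s
    · exact TopologicalSpace.Opens.mem_iSup.mpr ⟨true, hx⟩
    · exact TopologicalSpace.Opens.mem_iSup.mpr ⟨false, hx⟩
  obtain ⟨e0, he0, -⟩ := Y.sheaf.existsUnique_gluing' Uf ⊤ (fun b => homOfLE le_top) hcover sf compat
  let e : Γ(Y, ⊤) := e0
  have he : ∀ b, (Y.presheaf.map (homOfLE (le_top : Uf b ≤ ⊤)).op).hom e = sf b := he0
  have heU : (Y.presheaf.map (homOfLE (le_top : U ≤ ⊤)).op).hom e = 1 := he true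
  have heV : (Y.presheaf.map (homOfLE (le_top : V ≤ ⊤)).op).hom e = 0 := he false
  refine ⟨e, ?_, ?_⟩
  · refine Y.sheaf.eq_of_locally_eq' Uf ⊤ (fun b => homOfLE le_top) hcover (e * e) e (fun b => ?_)
    show (Y.presheaf.map (homOfLE (le_top : Uf b ≤ ⊤)).op).hom (e * e) =
      (Y.presheaf.map (homOfLE (le_top : Uf b ≤ ⊤)).op).hom e
    rw [map_mul, he b]
    cases b
    · exact mul_zero (0 : Γ(Y, V))
    · exact mul_one (1 : Γ(Y, U))
  · ext x
    rw [SetLike.mem_coe, Y.mem_basicOpen_top]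
    by_cases hx : x ∈ s
    · have h1 : Y.presheaf.germ U x hx ((Y.presheaf.map (homOfLE (le_top : U ≤ ⊤)).op).hom e) =
          Y.presheaf.germ ⊤ x trivial e :=
        Y.presheaf.germ_res_apply (homOfLE (le_top : U ≤ ⊤)) x hx e
      rw [heU, map_one] at h1
      rw [← h1]
      exact ⟨fun _ => hx, fun _ => isUnit_one⟩
    · have hx' : x ∈ V := hx
      have h1 : Y.presheaf.germ V x hx' ((Y.presheaf.map (homOfLE (le_top : V ≤ ⊤)).op).hom e) =
          Y.presheaf.germ ⊤ x trivial e :=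
        Y.presheaf.germ_res_apply (homOfLE (le_top : V ≤ ⊤)) x hx' e
      rw [heV, map_zero] at h1
      rw [← h1]
      exact ⟨fun h0 => absurd h0 not_isUnit_zero, fun h0 => absurd h0 hx⟩

end Idem

section Pushout

open TensorProduct

/-- In a pushout square of commutative rings along a flat map `φ`, the kernel of the second
inclusion is generated by the kernel of `α`. -/
theorem ker_inr_le {R R₀ C P : CommRingCat.{u}} {α : R ⟶ R₀} {φ : R ⟶ C} {inl : R₀ ⟶ P}
    {inr : C ⟶ P} (H : IsPushout α φ inl inr) (hφ : φ.hom.Flat) :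
    RingHom.ker inr.hom ≤ (RingHom.ker α.hom).map φ.hom := by
  algebraize [α.hom, φ.hom]
  intro z hz
  rw [RingHom.mem_ker] at hz
  have hz1 : (1 : R₀) ⊗ₜ[R] z = 0 := by
    have h1 := congr($(H.inr_isoIsPushout_hom _ _ (CommRingCat.isPushout_tensorProduct R R₀ C)).hom z)
    simp only [CommRingCat.hom_comp, RingHom.coe_comp, Function.comp_apply,
      CommRingCat.hom_ofHom] at h1
    rw [hz, map_zero] at h1
    exact h1.symm
  let F : R →ₐ[R] R₀ := Algebra.ofId R R₀
  have hinj : Function.Injective ((Ideal.kerLiftAlg F).toLinearMap.rTensor C) :=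
    Module.Flat.rTensor_preserves_injective_linearMap _ (Ideal.kerLiftAlg_injective F)
  have hq : (Ideal.Quotient.mk (RingHom.ker F) (1 : R)) ⊗ₜ[R] z = 0 := by
    apply hinj
    rw [LinearMap.rTensor_tmul, map_zero, AlgHom.toLinearMap_apply, Ideal.kerLiftAlg_mk, map_one]
    exact hz1
  have h2 := congrArg (TensorProduct.quotTensorEquivQuotSMul C (RingHom.ker F)) hq
  rw [TensorProduct.quotTensorEquivQuotSMul_mk_tmul, map_zero, one_smul,
    Submodule.Quotient.mk_eq_zero, Ideal.smul_top_eq_map] at h2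
  have h3 : z ∈ (RingHom.ker F).map (algebraMap R C) := h2
  refine Ideal.map_mono ?_ h3
  intro r hr
  exact hr

theorem map_ker_le_ker_inr {R R₀ C P : CommRingCat.{u}} {α : R ⟶ R₀} {φ : R ⟶ C} {inl : R₀ ⟶ P}
    {inr : C ⟶ P} (H : IsPushout α φ inl inr) :
    (RingHom.ker α.hom).map φ.hom ≤ RingHom.ker inr.hom := by
  rw [Ideal.map_le_iff_le_comap]
  intro r hr
  rw [RingHom.mem_ker] at hr
  rw [Ideal.mem_comap, RingHom.mem_ker]
  have h1 := congr($(H.w).hom r)
  simp only [CommRingCat.hom_comp, RingHom.coe_comp, Function.comp_apply] at h1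
  rw [← h1, hr, map_zero]

end Pushout

section FlatBC

/-- Flat base change of global sections in `appTop` form. -/
theorem isPushout_appTop {X Y S T : Scheme.{u}} {f : T ⟶ S} {g : Y ⟶ X} {iX : X ⟶ S}
    {iY : Y ⟶ T} (H : IsPullback g iY iX f) [Flat f] [IsAffine S] [IsAffine T]
    [CompactSpace X] [QuasiSeparatedSpace X] :
    IsPushout iX.appTop f.appTop g.appTop iY.appTop := by
  have hiso := isIso_pushoutSection_of_isQuasiSeparated_of_flat_right H
    (US := ⊤) (UT := ⊤) (UX := ⊤) (UY := ⊤) (by simp) (by simp) (by simp)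
    (isAffineOpen_top S) (isAffineOpen_top T) isCompact_univ isQuasiSeparated_univ
  have h2 := (isIso_pushoutSection_iff H (US := ⊤) (UT := ⊤) (UX := ⊤) (UY := ⊤)
    (by simp) (by simp) (by simp)).mp hiso
  convert h2 using 1 <;> simp [Scheme.Hom.appLE, Scheme.Hom.appTop]

end FlatBC

end Groth.Agent.Helper6.HensCouple
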