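import Mathlib
import Groth.Agent.Lib.Helper6.HensCoupleA

/-!
# Henselian couples of schemes: global sections form a henselian pair, key steps (helper6)
-/

set_option autoImplicit false

open CategoryTheory CategoryTheory.Limits AlgebraicGeometry TopologicalSpace Opposite

universe u

namespace Groth.Agent.Helper6.HensCouple

variable {X X₀ : Scheme.{u}} (i : X₀ ⟶ X)

/-- The kernel of `Γ(X) → Γ(X₀)` is contained in the Jacobson radical if `(X, X₀)` is a
henselian couple. -/
theorem jac_le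
    (hX : ∀ (Y : Scheme.{u}) (g : Y ⟶ X), IsFinite g →
      ∀ V : Set ↥(pullback g i), IsClopen V →
        ∃! U : Set ↥Y, IsClopen U ∧ (pullback.fst g i).base ⁻¹' U = V) :
    RingHom.ker i.appTop.hom ≤ Ideal.jacobson ⊥ := by
  intro c hc
  rw [Ideal.mem_jacobson_bot]
  intro y
  have hcy : c * y ∈ RingHom.ker i.appTop.hom := Ideal.mul_mem_right _ _ hc
  rw [RingHom.mem_ker] at hcy
  obtain ⟨s, hs⟩ : ∃ s : Γ(X, ⊤), s = c * y + 1 := ⟨_, rfl⟩
  rw [← hs]
  have his : i.appTop.hom s = 1 := by rw [hs, map_add, hcy, map_one, zero_add]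
  have his' : i.appTop s = 1 := his
  let q : Γ(X, ⊤) ⟶ CommRingCat.of (Γ(X, ⊤) ⧸ Ideal.span {s}) :=
    CommRingCat.ofHom (Ideal.Quotient.mk (Ideal.span {s}))
  haveI : IsClosedImmersion (Spec.map q) :=
    IsClosedImmersion.spec_of_surjective _ Ideal.Quotient.mk_surjective
  have hg : IsFinite (pullback.fst X.toSpecΓ (Spec.map q)) := inferInstance
  have hrange : Set.range (pullback.fst X.toSpecΓ (Spec.map q)).base =
      ((X.basicOpen s : X.Opens) : Set X)ᶜ := by
    have h1 : Set.range (Spec.map q).base = PrimeSpectrum.zeroLocus {s} := by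
      have := range_comap_of_surjective _ (Ideal.Quotient.mk (Ideal.span {s}))
        Ideal.Quotient.mk_surjective
      rw [Ideal.mk_ker, PrimeSpectrum.zeroLocus_span] at this
      exact this
    rw [Scheme.Pullback.range_fst, h1]
    ext x
    rw [Set.mem_preimage, Set.mem_compl_iff, SetLike.mem_coe, ← X.toSpecΓ_preimage_basicOpen s]
    constructor
    · intro h h'
      exact h' (h (Set.mem_singleton s))
    · intro h r hr
      rw [Set.mem_singleton_iff] at hr
      rw [hr]
      by_contra h'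
      exact h h'
  have hempty : IsEmpty ↥(pullback (pullback.fst X.toSpecΓ (Spec.map q)) i) := by
    rw [Scheme.isEmpty_pullback_iff]
    have hr2 : Set.range (pullback.fst X.toSpecΓ (Spec.map q)) =
      ((X.basicOpen s : X.Opens) : Set X)ᶜ := hrange
    rw [hr2, Set.disjoint_compl_left_iff_subset]
    rintro _ ⟨x₀, rfl⟩
    have h3 : x₀ ∈ i ⁻¹ᵁ X.basicOpen s := by
      rw [Scheme.preimage_basicOpen_top, his', Scheme.basicOpen_one]
      trivial
    exact h3
  obtain ⟨U, -, huniq⟩ := hX _ (pullback.fst X.toSpecΓ (Spec.map q)) hg ∅ isClopen_empty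
  have e1 := huniq ∅ ⟨isClopen_empty, Set.preimage_empty⟩
  have e2 := huniq Set.univ ⟨isClopen_univ, by ext z; exact hempty.elim z⟩
  have hYempty : (Set.univ : Set ↥(pullback X.toSpecΓ (Spec.map q))) = ∅ := e2.trans e1.symm
  have hr : Set.range (pullback.fst X.toSpecΓ (Spec.map q)).base = ∅ := by
    rw [Set.range_eq_empty_iff]
    constructor
    intro y
    have hy : y ∈ (Set.univ : Set ↥(pullback X.toSpecΓ (Spec.map q))) := trivial
    rw [hYempty] at hy
    exact hy
  rw [hrange, Set.compl_empty_iff] at hr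
  refine X.toLocallyRingedSpace.toRingedSpace.isUnit_of_isUnit_germ ⊤ s ?_
  intro x hx
  have hxs : x ∈ X.basicOpen s := by
    rw [← SetLike.mem_coe, hr]
    trivial
  exact (X.mem_basicOpen_top s x).mp hxs

/-- Idempotents lift along `C → C / J C` for finite flat `Γ(X)`-algebras `C` if `(X, X₀)` is a
henselian couple with `X` qcqs. -/
theorem surjOn_idem [IsClosedImmersion i] [CompactSpace X] [QuasiSeparatedSpace X]
    (hX : ∀ (Y : Scheme.{u}) (g : Y ⟶ X), IsFinite g →
      ∀ V : Set ↥(pullback g i), IsClopen V →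
        ∃! U : Set ↥Y, IsClopen U ∧ (pullback.fst g i).base ⁻¹' U = V)
    (C : Type u) [CommRing C] [Algebra Γ(X, ⊤) C] [Module.Finite Γ(X, ⊤) C]
    [Module.Flat Γ(X, ⊤) C] :
    Set.SurjOn (Ideal.Quotient.mk ((RingHom.ker i.appTop.hom).map (algebraMap Γ(X, ⊤) C)))
      {e : C | IsIdempotentElem e} {e | IsIdempotentElem e} := by
  intro ebar hebar
  obtain ⟨c, rfl⟩ := Ideal.Quotient.mk_surjective ebar
  have hc : c * c - c ∈ (RingHom.ker i.appTop.hom).map (algebraMap Γ(X, ⊤) C) := by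
    rw [← Ideal.Quotient.eq_zero_iff_mem, map_sub, map_mul, sub_eq_zero]
    exact hebar
  let φ : Γ(X, ⊤) ⟶ CommRingCat.of C := CommRingCat.ofHom (algebraMap Γ(X, ⊤) C)
  have hφflat : φ.hom.Flat := RingHom.flat_algebraMap_iff.2 inferInstance
  haveI hf : IsFinite (Spec.map φ) := by
    rw [IsFinite.SpecMap_iff]
    exact RingHom.finite_algebraMap.2 inferInstance
  haveI hfl : Flat (Spec.map φ) := by
    rw [Flat.SpecMap_iff]
    exact hφflat
  haveI hg : IsFinite (pullback.fst X.toSpecΓ (Spec.map φ)) := inferInstance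
  haveI : CompactSpace X₀ := QuasiCompact.compactSpace_of_compactSpace i
  haveI : QuasiSeparatedSpace X₀ := quasiSeparatedSpace_of_quasiSeparated i
  have H₁ : IsPullback (pullback.fst X.toSpecΓ (Spec.map φ)) (pullback.snd X.toSpecΓ (Spec.map φ))
      X.toSpecΓ (Spec.map φ) := IsPullback.of_hasPullback _ _
  have H₀ : IsPullback (pullback.snd (pullback.fst X.toSpecΓ (Spec.map φ)) i)
      (pullback.fst (pullback.fst X.toSpecΓ (Spec.map φ)) i) i
      (pullback.fst X.toSpecΓ (Spec.map φ)) := (IsPullback.of_hasPullback _ i).flip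
  have H₂ := H₀.paste_vert H₁
  have P₁ := isPushout_appTop H₁
  have P₂ := isPushout_appTop H₂
  haveI : IsIso X.toSpecΓ.appTop := by
    rw [Scheme.toSpecΓ_appTop]
    infer_instance
  haveI hq : IsIso (pullback.snd X.toSpecΓ (Spec.map φ)).appTop := P₁.isIso_inr_of_isIso
  -- the identification `C ≅ Γ(Y)`
  let ψ : CommRingCat.of C ⟶ Γ(pullback X.toSpecΓ (Spec.map φ), ⊤) :=
    (Scheme.ΓSpecIso (CommRingCat.of C)).inv ≫ (pullback.snd X.toSpecΓ (Spec.map φ)).appTop
  haveI : IsIso ψ := inferInstance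
  have hψbij : Function.Bijective ψ.hom := ConcreteCategory.bijective_of_isIso ψ
  -- the map `C → Γ(Y₀)`
  let Ψ₀ : CommRingCat.of C ⟶ Γ(pullback (pullback.fst X.toSpecΓ (Spec.map φ)) i, ⊤) :=
    (Scheme.ΓSpecIso (CommRingCat.of C)).inv ≫
      (pullback.fst (pullback.fst X.toSpecΓ (Spec.map φ)) i ≫
        pullback.snd X.toSpecΓ (Spec.map φ)).appTop
  have hΨ : ψ ≫ (pullback.fst (pullback.fst X.toSpecΓ (Spec.map φ)) i).appTop = Ψ₀ := by
    simp only [ψ, Ψ₀, Scheme.Hom.comp_appTop, Category.assoc]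
  have P₂' : IsPushout i.appTop φ
      (pullback.snd (pullback.fst X.toSpecΓ (Spec.map φ)) i).appTop Ψ₀ := by
    refine IsPushout.of_iso P₂ (Scheme.ΓSpecIso Γ(X, ⊤)) (Iso.refl _)
      (Scheme.ΓSpecIso (CommRingCat.of C)) (Iso.refl _) ?_ ?_ ?_ ?_
    · rw [Scheme.Hom.comp_appTop, Scheme.toSpecΓ_appTop]
      simp
    · exact Scheme.ΓSpecIso_naturality φ
    · simp
    · simp only [Ψ₀, Iso.refl_hom, Category.comp_id, Iso.hom_inv_id_assoc]
  have K1 := map_ker_le_ker_inr P₂'
  have K2 := ker_inr_le P₂' hφflat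
  -- the idempotent section `c₀` of `Y₀`
  have hc0 : Ψ₀.hom (c * c - c) = 0 := K1 hc
  have hc₀ : IsIdempotentElem (Ψ₀.hom c) := by
    unfold IsIdempotentElem
    rw [← sub_eq_zero, ← map_mul, ← map_sub]
    exact hc0
  obtain ⟨U, ⟨hUc, hUV⟩, -⟩ := hX _ (pullback.fst X.toSpecΓ (Spec.map φ)) hg _
    (isClopen_basicOpen _ (Ψ₀.hom c) hc₀)
  obtain ⟨eY, heY, heYU⟩ := exists_idem_of_isClopen _ U hUc
  obtain ⟨e, he⟩ := hψbij.2 eY
  have he_idem : IsIdempotentElem e := by
    apply hψbij.1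
    rw [map_mul, he]
    exact heY
  have hΨe : Ψ₀.hom e = (pullback.fst (pullback.fst X.toSpecΓ (Spec.map φ)) i).appTop.hom eY := by
    rw [← he, ← hΨ]
    rfl
  have heq : Ψ₀.hom e = Ψ₀.hom c := by
    rw [hΨe]
    apply idem_eq_of_basicOpen_eq _ _ _ (heY.map _) hc₀
    apply SetLike.coe_injective
    rw [← hUV, ← heYU]
    exact congrArg
      (fun W : (pullback (pullback.fst X.toSpecΓ (Spec.map φ)) i).Opens =>
        (W : Set ↥(pullback (pullback.fst X.toSpecΓ (Spec.map φ)) i)))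
      (Scheme.preimage_basicOpen_top (pullback.fst (pullback.fst X.toSpecΓ (Spec.map φ)) i) eY).symm
  have hmem : e - c ∈ (RingHom.ker i.appTop.hom).map (algebraMap Γ(X, ⊤) C) := by
    apply K2
    rw [RingHom.mem_ker, map_sub, heq, sub_self]
  refine ⟨e, he_idem, ?_⟩
  rw [← sub_eq_zero, ← map_sub, Ideal.Quotient.eq_zero_iff_mem]
  exact hmem

end Groth.Agent.Helper6.HensCouple
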