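import Mathlib

/-!
# Henselian local rings from an ambient separably closed field (helper6)

Abstract criterion used for S11105 / S11106: a local integrally closed domain `V` with fraction
field `L ⊆ E`, `E` separably closed, dominated by an integrally closed local subring `W` of `E` with
fraction field `E`, such that `V` is the set of elements of `W` fixed by a family of endomorphisms of
`E` preserving `W` and its maximal ideal, is Henselian.
-/

set_option autoImplicit false
set_option linter.style.haveILetI false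
universe u
open Polynomial IsLocalRing

namespace Groth.Agent.Helper6.HensDec

theorem isUnit_add_of_mem {W : Type*} [CommRing W] [IsLocalRing W] {x y : W} (hx : IsUnit x)
    (hy : y ∈ maximalIdeal W) : IsUnit (x + y) := by
  by_contra h
  have h1 : x + y ∈ maximalIdeal W := (mem_maximalIdeal _).mpr h
  have h2 : x ∈ maximalIdeal W := by
    have := Ideal.sub_mem _ h1 hy
    rwa [add_sub_cancel_right] at this
  exact (mem_maximalIdeal _).mp h2 hx

theorem root_unique {W : Type*} [CommRing W] [IsLocalRing W] (g : W[X]) (a α β : W)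
    (hu : IsUnit (g.derivative.eval a)) (hα : g.eval α = 0) (hβ : g.eval β = 0)
    (hαa : α - a ∈ maximalIdeal W) (hβa : β - a ∈ maximalIdeal W) : α = β := by
  have h1 : IsUnit (g.derivative.eval α) := by
    have hdvd : α - a ∣ g.derivative.eval α - g.derivative.eval a :=
      Polynomial.sub_dvd_eval_sub α a _
    have hmem : g.derivative.eval α - g.derivative.eval a ∈ maximalIdeal W := by
      obtain ⟨c, hc⟩ := hdvd
      rw [hc]
      exact Ideal.mul_mem_right _ _ hαa
    have := isUnit_add_of_mem hu hmem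
    rwa [add_sub_cancel] at this
  obtain ⟨k, hk⟩ := g.binomExpansion α (β - α)
  have hk' : g.derivative.eval α * (β - α) + k * (β - α) ^ 2 = 0 := by
    have := hk
    rw [add_sub_cancel, hβ, hα, zero_add] at this
    exact this.symm
  have hδ : β - α ∈ maximalIdeal W := by
    have := Ideal.sub_mem _ hβa hαa
    rwa [sub_sub_sub_cancel_right] at this
  have h2 : IsUnit (g.derivative.eval α + k * (β - α)) :=
    isUnit_add_of_mem h1 (Ideal.mul_mem_left _ _ hδ)
  have h3 : (g.derivative.eval α + k * (β - α)) * (β - α) = 0 := by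
    rw [← hk']
    ring
  have h4 : β - α = 0 := (h2.mul_right_eq_zero).mp h3
  exact (sub_eq_zero.mp h4).symm

theorem exists_mem_of_prod_mem {E A : Type*} [Field E] [CommRing A] [Algebra A E]
    (W : Subalgebra A E) (𝔪 : Ideal W) [𝔪.IsPrime]
    (s : Multiset E) (hs : ∀ y ∈ s, y ∈ W) (hprod : ∃ w : W, w ∈ 𝔪 ∧ (w : E) = s.prod) :
    ∃ y ∈ s, ∃ w : W, w ∈ 𝔪 ∧ (w : E) = y := by
  induction s using Multiset.induction_on with
  | empty =>
    obtain ⟨w, hw, hw1⟩ := hprod
    rw [Multiset.prod_zero] at hw1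
    have hw' : w = 1 := Subtype.ext hw1
    rw [hw'] at hw
    exact absurd hw ((Ideal.ne_top_iff_one 𝔪).mp (Ideal.IsPrime.ne_top inferInstance))
  | cons y t ih =>
    obtain ⟨w, hw, hwp⟩ := hprod
    rw [Multiset.prod_cons] at hwp
    have hy : y ∈ W := hs y (Multiset.mem_cons_self y t)
    have ht : t.prod ∈ W :=
      Subalgebra.multiset_prod_mem W (fun z hz => hs z (Multiset.mem_cons_of_mem hz))
    have hw' : w = ⟨y, hy⟩ * ⟨t.prod, ht⟩ := Subtype.ext hwp
    rw [hw'] at hw
    rcases Ideal.IsPrime.mem_or_mem inferInstance hw with h | h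
    · exact ⟨y, Multiset.mem_cons_self y t, ⟨y, hy⟩, h, rfl⟩
    · obtain ⟨z, hz, hz'⟩ := ih (fun z hz => hs z (Multiset.mem_cons_of_mem hz))
        ⟨⟨t.prod, ht⟩, h, rfl⟩
      exact ⟨z, Multiset.mem_cons_of_mem hz, hz'⟩

theorem exists_irreducible_factor {V : Type*} [CommRing V] [IsDomain V] [IsLocalRing V] (a₀ : V) :
    ∀ (n : ℕ) (f : V[X]), f.Monic → f.natDegree = n → f.eval a₀ ∈ maximalIdeal V →
      ∃ g : V[X], g.Monic ∧ Irreducible g ∧ g ∣ f ∧ g.eval a₀ ∈ maximalIdeal V := by
  intro n
  induction n using Nat.strong_induction_on with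
  | _ n ih =>
    intro f hf hn hfa
    by_cases hirr : Irreducible f
    · exact ⟨f, hf, hirr, dvd_rfl, hfa⟩
    · rw [hf.irreducible_iff_natDegree] at hirr
      have hf1 : f ≠ 1 := by
        rintro rfl
        rw [Polynomial.eval_one] at hfa
        exact (Ideal.ne_top_iff_one _).mp (maximalIdeal.isMaximal V).ne_top hfa
      have hex : ∃ f₁ f₂ : V[X], f₁.Monic ∧ f₂.Monic ∧ f₁ * f₂ = f ∧
          f₁.natDegree ≠ 0 ∧ f₂.natDegree ≠ 0 := by
        by_contra hcon
        apply hirr
        refine ⟨hf1, fun f₁ f₂ h₁ h₂ h12 => ?_⟩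
        by_contra hor
        rw [not_or] at hor
        exact hcon ⟨f₁, f₂, h₁, h₂, h12, hor.1, hor.2⟩
      obtain ⟨f₁, f₂, hf₁, hf₂, rfl, hd₁, hd₂⟩ := hex
      have hdeg : (f₁ * f₂).natDegree = f₁.natDegree + f₂.natDegree := hf₁.natDegree_mul hf₂
      rw [Polynomial.eval_mul] at hfa
      rcases Ideal.IsPrime.mem_or_mem (maximalIdeal.isMaximal V).isPrime hfa with h | h
      · obtain ⟨g, hg1, hg2, hg3, hg4⟩ := ih f₁.natDegree (by omega) f₁ hf₁ rfl h
        exact ⟨g, hg1, hg2, hg3.trans (dvd_mul_right _ _), hg4⟩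
      · obtain ⟨g, hg1, hg2, hg3, hg4⟩ := ih f₂.natDegree (by omega) f₂ hf₂ rfl h
        exact ⟨g, hg1, hg2, hg3.trans (dvd_mul_left _ _), hg4⟩

theorem henselian_of_ambient
    {V L E A : Type u} [CommRing V] [IsDomain V] [IsLocalRing V] [IsIntegrallyClosed V]
    [Field L] [Algebra V L] [IsFractionRing V L]
    [Field E] [IsSepClosed E] [Algebra L E] [Algebra V E] [IsScalarTower V L E]
    [CommRing A] [Algebra A E] (W : Subalgebra A E) [IsLocalRing W] [IsIntegrallyClosed W]
    [IsFractionRing W E]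
    (hVW : ∀ v : V, algebraMap V E v ∈ W)
    (hmVW : ∀ v : V, v ∈ maximalIdeal V → (⟨algebraMap V E v, hVW v⟩ : W) ∈ maximalIdeal W)
    {ι : Type*} (σ : ι → E →+* E)
    (hσV : ∀ i (v : V), σ i (algebraMap V E v) = algebraMap V E v)
    (hσW : ∀ i (x : W), ∃ h : σ i (x : E) ∈ W,
      (x ∈ maximalIdeal W → (⟨σ i x, h⟩ : W) ∈ maximalIdeal W))
    (hdesc : ∀ x : W, (∀ i, σ i (x : E) = x) → ∃ v : V, algebraMap V E v = x) :
    HenselianLocalRing V := by
  classical
  have hinjVE : Function.Injective (algebraMap V E) := by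
    rw [IsScalarTower.algebraMap_eq V L E]
    exact (algebraMap L E).injective.comp (IsFractionRing.injective V L)
  obtain ⟨φW, hφW⟩ : ∃ φW : V →+* W, ∀ v, ((φW v : W) : E) = algebraMap V E v :=
    ⟨(algebraMap V E).codRestrict W hVW, fun v => rfl⟩
  have hcomp : (algebraMap W E).comp φW = algebraMap V E := RingHom.ext fun v => hφW v
  have hφWm : ∀ v : V, v ∈ maximalIdeal V → φW v ∈ maximalIdeal W := by
    intro v hv
    have h1 := hmVW v hv
    have h2 : φW v = ⟨algebraMap V E v, hVW v⟩ := Subtype.ext (hφW v)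
    rw [h2]
    exact h1
  refine { is_henselian := ?_ }
  intro f hf a₀ h₁ h₂
  obtain ⟨g, hgm, hgirr, ⟨h, rfl⟩, hga⟩ := exists_irreducible_factor a₀ _ f hf rfl h₁
  have hg' : IsUnit (g.derivative.eval a₀) := by
    by_contra hnu
    have hmem : g.derivative.eval a₀ ∈ maximalIdeal V := (mem_maximalIdeal _).mpr hnu
    have hmem2 : (g * h).derivative.eval a₀ ∈ maximalIdeal V := by
      rw [Polynomial.derivative_mul, Polynomial.eval_add, Polynomial.eval_mul,
        Polynomial.eval_mul]
      exact Ideal.add_mem _ (Ideal.mul_mem_right _ _ hmem) (Ideal.mul_mem_right _ _ hga)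
    exact (mem_maximalIdeal _).mp hmem2 h₂
  have hirrL : Irreducible (g.map (algebraMap V L)) :=
    (hgm.irreducible_iff_irreducible_map_fraction_map (K := L)).mp hgirr
  have hder : (g.map (algebraMap V L)).derivative ≠ 0 := by
    rw [Polynomial.derivative_map]
    intro h0
    have hd0 : g.derivative = 0 :=
      Polynomial.map_injective _ (IsFractionRing.injective V L)
        (by rw [h0, Polynomial.map_zero])
    rw [hd0, Polynomial.eval_zero] at hg'
    exact not_isUnit_zero hg'
  have hsep : (g.map (algebraMap V L)).Separable :=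
    (Polynomial.separable_iff_derivative_ne_zero hirrL).mpr hder
  have hsplit : (g.map (algebraMap V E)).Splits := by
    have := IsSepClosed.splits_codomain (f := algebraMap L E) _ hsep
    rwa [Polynomial.map_map, ← IsScalarTower.algebraMap_eq] at this
  have hev := hsplit.eval_eq_prod_roots_of_monic (hgm.map _) (algebraMap V E a₀)
  rw [Polynomial.eval_map, Polynomial.eval₂_hom] at hev
  have hrootW : ∀ α ∈ (g.map (algebraMap V E)).roots, α ∈ W := by
    intro α hα
    have hα0 : (g.map (algebraMap V E)).eval α = 0 := (Polynomial.mem_roots'.mp hα).2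
    have hintV : IsIntegral V α := ⟨g, hgm, by rw [← Polynomial.eval_map]; exact hα0⟩
    have hintW : IsIntegral W α := by
      obtain ⟨p, hp, hpα⟩ := hintV
      refine ⟨p.map φW, hp.map _, ?_⟩
      rw [Polynomial.eval₂_map, hcomp]
      exact hpα
    obtain ⟨w, hw⟩ := IsIntegrallyClosed.algebraMap_eq_of_integral hintW
    rw [← hw]
    exact w.2
  obtain ⟨y, hy, w, hw, hwy⟩ := exists_mem_of_prod_mem W (maximalIdeal W)
    ((g.map (algebraMap V E)).roots.map (algebraMap V E a₀ - ·)) (by
      intro y hy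
      obtain ⟨α, hα, rfl⟩ := Multiset.mem_map.mp hy
      exact W.sub_mem (hVW a₀) (hrootW α hα))
    ⟨φW (g.eval a₀), hφWm _ hga, (hφW _).trans hev⟩
  obtain ⟨α, hα, rfl⟩ := Multiset.mem_map.mp hy
  have hα0 : (g.map (algebraMap V E)).eval α = 0 := (Polynomial.mem_roots'.mp hα).2
  obtain ⟨αW, hαW⟩ : ∃ αW : W, (αW : E) = α := ⟨⟨α, hrootW α hα⟩, rfl⟩
  have hGeval : ∀ x : W, (((g.map φW).eval x : W) : E) =
      (g.map (algebraMap V E)).eval (x : E) := by
    intro x
    rw [Polynomial.eval_map, Polynomial.eval_map]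
    have h3 := Polynomial.hom_eval₂ g φW (algebraMap W E) x
    rw [hcomp] at h3
    exact h3
  have hGα : (g.map φW).eval αW = 0 := by
    apply Subtype.ext
    rw [hGeval, hαW, hα0]
    rfl
  have hαa : αW - φW a₀ ∈ maximalIdeal W := by
    have h3 : αW - φW a₀ = -w := by
      apply Subtype.ext
      change (αW : E) - ((φW a₀ : W) : E) = -(w : E)
      rw [hwy, hαW, hφW]
      ring
    rw [h3]
    exact Ideal.neg_mem_iff _ |>.mpr hw
  have hu : IsUnit ((g.map φW).derivative.eval (φW a₀)) := by
    rw [Polynomial.derivative_map, Polynomial.eval_map, Polynomial.eval₂_hom]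
    exact hg'.map φW
  have hfix : ∀ i, σ i (αW : E) = αW := by
    intro i
    obtain ⟨hσα, -⟩ := hσW i αW
    obtain ⟨hσd, hσm⟩ := hσW i (αW - φW a₀)
    have hGβ : (g.map φW).eval (⟨σ i αW, hσα⟩ : W) = 0 := by
      apply Subtype.ext
      rw [hGeval]
      change (g.map (algebraMap V E)).eval (σ i (αW : E)) = 0
      have h3 := Polynomial.hom_eval₂ g (algebraMap V E) (σ i) (αW : E)
      have h4 : (σ i).comp (algebraMap V E) = algebraMap V E := RingHom.ext fun v => hσV i v
      rw [h4, ← Polynomial.eval_map, ← Polynomial.eval_map, hαW, hα0, map_zero] at h3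
      rw [hαW]
      exact h3.symm
    have hβa : (⟨σ i αW, hσα⟩ : W) - φW a₀ ∈ maximalIdeal W := by
      have h3 : (⟨σ i αW, hσα⟩ : W) - φW a₀ = ⟨σ i ((αW - φW a₀ : W) : E), hσd⟩ := by
        apply Subtype.ext
        change σ i (αW : E) - ((φW a₀ : W) : E) = σ i ((αW : E) - ((φW a₀ : W) : E))
        rw [map_sub, hφW, hσV]
      rw [h3]
      exact hσm hαa
    have h5 := root_unique (g.map φW) (φW a₀) αW ⟨σ i αW, hσα⟩ hu hGα hGβ hαa hβa
    exact (congrArg Subtype.val h5).symm
  obtain ⟨v, hv⟩ := hdesc αW hfix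
  refine ⟨v, ?_, ?_⟩
  · rw [Polynomial.IsRoot.def, Polynomial.eval_mul]
    have hgv : g.eval v = 0 := by
      apply hinjVE
      rw [map_zero, ← Polynomial.eval₂_hom, ← Polynomial.eval_map, hv, hαW, hα0]
    rw [hgv, zero_mul]
  · by_contra hnm
    have hunit : IsUnit (v - a₀) := by
      by_contra hnu
      exact hnm ((mem_maximalIdeal _).mpr hnu)
    have hunit' : IsUnit (φW (v - a₀)) := hunit.map φW
    have h6 : φW (v - a₀) = αW - φW a₀ := by
      apply Subtype.ext
      rw [map_sub]
      change ((φW v : W) : E) - ((φW a₀ : W) : E) = (αW : E) - ((φW a₀ : W) : E)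
      rw [hφW, hv]
    rw [h6] at hunit'
    exact (mem_maximalIdeal _).mp hαa hunit'

end Groth.Agent.Helper6.HensDec
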