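import Groth.Agent.Lib.Helper6.HensDecA

/-!
# Localizations of integral closures in decomposition / inertia fields are Henselian (helper6)

Concrete part for S11105 / S11106.
-/

set_option autoImplicit false
set_option linter.style.haveILetI false
universe u
open Polynomial IsLocalRing

namespace Groth.Agent.Helper6.HensDec

theorem isIntegrallyClosed_integralClosure (R X : Type*) [CommRing R] [Field X] [Algebra R X]
    [IsFractionRing (integralClosure R X) X] : IsIntegrallyClosed (integralClosure R X) := by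
  rw [isIntegrallyClosed_iff X]
  intro x hx
  have hxR : IsIntegral R x := isIntegral_trans x hx
  exact ⟨⟨x, hxR⟩, rfl⟩

section Concrete

variable (R K Ks : Type u) [CommRing R] [IsDomain R] [Field K] [Algebra R K] [IsFractionRing R K]
  [Field Ks] [Algebra K Ks] [IsSepClosure K Ks] [Algebra R Ks] [IsScalarTower R K Ks]

omit [IsDomain R] [IsFractionRing R K] [IsSepClosure K Ks] in
theorem sigma_integral (σ : Ks ≃ₐ[K] Ks) (a : integralClosure R Ks) :
    σ (a : Ks) ∈ integralClosure R Ks := by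
  change IsIntegral R (((σ : Ks →ₐ[K] Ks).restrictScalars R) (a : Ks))
  exact IsIntegral.map ((σ : Ks →ₐ[K] Ks).restrictScalars R) a.2

set_option maxHeartbeats 1600000 in
set_option synthInstance.maxHeartbeats 200000 in
theorem henselian_localization_of_fixed
    (L : Type u) [Field L] [Algebra K L] [Algebra L Ks] [IsScalarTower K L Ks]
    [Algebra R L] [IsScalarTower R K L] [IsScalarTower R L Ks]
    (Ps : Ideal (integralClosure R Ks)) [Ps.IsPrime]
    (H : Subgroup (Ks ≃ₐ[K] Ks))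
    (hH : ∀ σ ∈ H, ∀ x : integralClosure R Ks, x ∈ Ps →
      ∃ h : σ (x : Ks) ∈ integralClosure R Ks, (⟨σ (x : Ks), h⟩ : integralClosure R Ks) ∈ Ps)
    (hfixL : ∀ (z : L), ∀ σ ∈ H, σ (algebraMap L Ks z) = algebraMap L Ks z)
    (hdescL : ∀ z : Ks, (∀ σ ∈ H, σ z = z) → ∃ l : L, algebraMap L Ks l = z)
    (Q : Ideal (integralClosure R L)) [Q.IsPrime]
    (hQ : ∀ y : integralClosure R L, y ∈ Q ↔
      ∃ x : integralClosure R Ks, x ∈ Ps ∧ (x : Ks) = algebraMap L Ks (y : L)) :
    HenselianLocalRing (Localization.AtPrime Q) := by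
  classical
  haveI hKalg : Algebra.IsAlgebraic K Ks := inferInstance
  haveI hRalg : Algebra.IsAlgebraic R Ks := IsFractionRing.comap_isAlgebraic_iff.mpr hKalg
  have hinj : Function.Injective (algebraMap L Ks) := (algebraMap L Ks).injective
  haveI hKLalg : Algebra.IsAlgebraic K L := Algebra.IsAlgebraic.tower_bot_of_injective hinj
  haveI hRLalg : Algebra.IsAlgebraic R L := IsFractionRing.comap_isAlgebraic_iff.mpr hKLalg
  have injKs : ∀ x, algebraMap R Ks x = 0 → x = 0 := by
    intro x hx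
    rw [IsScalarTower.algebraMap_apply R K Ks] at hx
    have h1 : algebraMap R K x = 0 := (algebraMap K Ks).injective (by rw [hx, map_zero])
    exact IsFractionRing.injective R K (by rw [h1, map_zero])
  have injL : ∀ x, algebraMap R L x = 0 → x = 0 := by
    intro x hx
    apply injKs
    rw [IsScalarTower.algebraMap_apply R L Ks, hx, map_zero]
  haveI hfrRs : IsFractionRing (integralClosure R Ks) Ks :=
    integralClosure.isFractionRing_of_algebraic injKs
  haveI hfrO : IsFractionRing (integralClosure R L) L :=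
    integralClosure.isFractionRing_of_algebraic injL
  haveI hicRs : IsIntegrallyClosed (integralClosure R Ks) :=
    isIntegrallyClosed_integralClosure R Ks
  haveI hicO : IsIntegrallyClosed (integralClosure R L) :=
    isIntegrallyClosed_integralClosure R L
  haveI : IsSepClosed Ks := IsSepClosure.sep_closed K
  -- structures on V
  have hQunit : ∀ y : Q.primeCompl, IsUnit (algebraMap (integralClosure R L) L y) := by
    intro y
    apply IsUnit.mk0
    intro h0
    have h1 : (y : integralClosure R L) = 0 :=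
      (IsFractionRing.injective (integralClosure R L) L) (by rw [h0, map_zero])
    exact y.2 (h1 ▸ Q.zero_mem)
  letI algVL : Algebra (Localization.AtPrime Q) L :=
    (IsLocalization.lift (M := Q.primeCompl)
      (g := algebraMap (integralClosure R L) L) hQunit).toAlgebra
  haveI towOVL : IsScalarTower (integralClosure R L) (Localization.AtPrime Q) L :=
    IsScalarTower.of_algebraMap_eq (fun x => (IsLocalization.lift_eq hQunit x).symm)
  haveI hfrV : IsFractionRing (Localization.AtPrime Q) L :=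
    IsFractionRing.isFractionRing_of_isDomain_of_isLocalization Q.primeCompl _ _
  haveI hicV : IsIntegrallyClosed (Localization.AtPrime Q) :=
    isIntegrallyClosed_of_isLocalization _ Q.primeCompl (Ideal.primeCompl_le_nonZeroDivisors Q)
  letI algVKs : Algebra (Localization.AtPrime Q) Ks :=
    ((algebraMap L Ks).comp (algebraMap (Localization.AtPrime Q) L)).toAlgebra
  haveI towVLKs : IsScalarTower (Localization.AtPrime Q) L Ks :=
    IsScalarTower.of_algebraMap_eq (fun _ => rfl)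
  have hOV : ∀ z : integralClosure R L,
      algebraMap (Localization.AtPrime Q) Ks
        (algebraMap (integralClosure R L) (Localization.AtPrime Q) z) =
          algebraMap L Ks (z : L) := by
    intro z
    change algebraMap L Ks (algebraMap (Localization.AtPrime Q) L
        (algebraMap (integralClosure R L) (Localization.AtPrime Q) z)) = _
    rw [← IsScalarTower.algebraMap_apply (integralClosure R L) (Localization.AtPrime Q) L]
    rfl
  -- the map 𝒪 → Rs
  have hyint : ∀ y : integralClosure R L, algebraMap L Ks (y : L) ∈ integralClosure R Ks := by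
    intro y
    change IsIntegral R (algebraMap L Ks (y : L))
    exact y.2.algebraMap
  have hQ' : ∀ y : integralClosure R L,
      y ∈ Q ↔ (⟨algebraMap L Ks (y : L), hyint y⟩ : integralClosure R Ks) ∈ Ps := by
    intro y
    rw [hQ y]
    constructor
    · rintro ⟨x, hx, hxy⟩
      have hxe : x = ⟨algebraMap L Ks (y : L), hyint y⟩ := Subtype.ext hxy
      rw [← hxe]
      exact hx
    · intro h
      exact ⟨_, h, rfl⟩
  have hne0 : ∀ s : integralClosure R Ks, s ∈ Ps.primeCompl → (s : Ks) ≠ 0 := by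
    intro s hs h0
    have hs0 : s = 0 := Subtype.ext h0
    exact hs (hs0 ▸ Ps.zero_mem)
  have hVval : ∀ (y : integralClosure R L) (t : Q.primeCompl),
      algebraMap (Localization.AtPrime Q) Ks (IsLocalization.mk' (Localization.AtPrime Q) y t) =
        algebraMap L Ks (y : L) * (algebraMap L Ks ((t : integralClosure R L) : L))⁻¹ := by
    intro y t
    have h1 := IsLocalization.mk'_spec (Localization.AtPrime Q) y t
    have h2 := congrArg (algebraMap (Localization.AtPrime Q) Ks) h1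
    rw [map_mul, hOV, hOV] at h2
    have ht0 : algebraMap L Ks ((t : integralClosure R L) : L) ≠ 0 := by
      apply hne0 ⟨_, hyint t⟩
      intro hmem
      exact t.2 ((hQ' t).mpr hmem)
    rw [eq_mul_inv_iff_mul_eq₀ ht0]
    exact h2
  -- W
  have hPle : Ps.primeCompl ≤ nonZeroDivisors (integralClosure R Ks) :=
    Ideal.primeCompl_le_nonZeroDivisors Ps
  obtain ⟨W, hW⟩ : ∃ W : Subalgebra (integralClosure R Ks) Ks,
      W = Localization.subalgebra.ofField Ks Ps.primeCompl hPle := ⟨_, rfl⟩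
  have hmemW : ∀ x : Ks, x ∈ W ↔ ∃ (a s : integralClosure R Ks) (_ : s ∈ Ps.primeCompl),
      x = (a : Ks) * (s : Ks)⁻¹ := by
    intro x
    rw [hW]
    exact Iff.rfl
  haveI hWloc : IsLocalization.AtPrime W Ps := by
    rw [hW]
    exact Localization.subalgebra.isLocalization_ofField Ks Ps.primeCompl hPle
  haveI hWlocal : IsLocalRing W := IsLocalization.AtPrime.isLocalRing W Ps
  haveI hWic : IsIntegrallyClosed W := isIntegrallyClosed_of_isLocalization W Ps.primeCompl hPle
  haveI hWfr : IsFractionRing W Ks := inferInstance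
  have hmaxW : ∀ (x : W) (a s : integralClosure R Ks) (hs : s ∈ Ps.primeCompl),
      (x : Ks) = (a : Ks) * (s : Ks)⁻¹ → (x ∈ maximalIdeal W ↔ a ∈ Ps) := by
    intro x a s hs hx
    have hxmk : x = IsLocalization.mk' W a ⟨s, hs⟩ := by
      rw [IsLocalization.eq_mk'_iff_mul_eq]
      apply Subtype.ext
      change (x : Ks) * (s : Ks) = (a : Ks)
      rw [hx, mul_assoc, inv_mul_cancel₀ (hne0 s hs), mul_one]
    rw [hxmk]
    exact IsLocalization.AtPrime.mk'_mem_maximal_iff W Ps a ⟨s, hs⟩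
  -- σ-action
  have hσPs : ∀ σ ∈ H, ∀ a : integralClosure R Ks,
      ((⟨σ (a : Ks), sigma_integral R K Ks σ a⟩ : integralClosure R Ks) ∈ Ps ↔ a ∈ Ps) := by
    intro σ hσ a
    constructor
    · intro hmem
      obtain ⟨h, hm⟩ := hH σ⁻¹ (H.inv_mem hσ) _ hmem
      have he : (⟨σ⁻¹ (σ (a : Ks)), h⟩ : integralClosure R Ks) = a :=
        Subtype.ext (σ.symm_apply_apply _)
      rw [he] at hm
      exact hm
    · intro ha
      obtain ⟨h, hm⟩ := hH σ hσ a ha
      exact hm
  -- hypotheses of the abstract lemma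
  have hVW : ∀ v : Localization.AtPrime Q, algebraMap (Localization.AtPrime Q) Ks v ∈ W := by
    intro v
    obtain ⟨y, t, rfl⟩ := IsLocalization.exists_mk'_eq Q.primeCompl v
    rw [hVval, hmemW]
    refine ⟨⟨_, hyint y⟩, ⟨_, hyint t⟩, ?_, rfl⟩
    intro hmem
    exact t.2 ((hQ' t).mpr hmem)
  have hmVW : ∀ v : Localization.AtPrime Q, v ∈ maximalIdeal (Localization.AtPrime Q) →
      (⟨algebraMap (Localization.AtPrime Q) Ks v, hVW v⟩ : W) ∈ maximalIdeal W := by
    intro v hv
    obtain ⟨y, t, rfl⟩ := IsLocalization.exists_mk'_eq Q.primeCompl v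
    have hyQ : y ∈ Q :=
      (IsLocalization.AtPrime.mk'_mem_maximal_iff (Localization.AtPrime Q) Q y t).mp hv
    have hts : (⟨_, hyint t⟩ : integralClosure R Ks) ∈ Ps.primeCompl := by
      intro hmem
      exact t.2 ((hQ' t).mpr hmem)
    exact (hmaxW _ ⟨_, hyint y⟩ ⟨_, hyint t⟩ hts (hVval y t)).mpr ((hQ' y).mp hyQ)
  have hσV : ∀ (i : H) (v : Localization.AtPrime Q),
      (RingHomClass.toRingHom (i : Ks ≃ₐ[K] Ks)) (algebraMap (Localization.AtPrime Q) Ks v) =
        algebraMap (Localization.AtPrime Q) Ks v := by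
    intro i v
    exact hfixL (algebraMap (Localization.AtPrime Q) L v) i i.2
  have hσW : ∀ (i : H) (x : W), ∃ h : (RingHomClass.toRingHom (i : Ks ≃ₐ[K] Ks)) (x : Ks) ∈ W,
      (x ∈ maximalIdeal W →
        (⟨(RingHomClass.toRingHom (i : Ks ≃ₐ[K] Ks)) (x : Ks), h⟩ : W) ∈ maximalIdeal W) := by
    intro i x
    obtain ⟨a, s, hs, hxas⟩ := (hmemW _).mp x.2
    have hs' : (⟨(i : Ks ≃ₐ[K] Ks) (s : Ks), sigma_integral R K Ks i s⟩ :
        integralClosure R Ks) ∈ Ps.primeCompl := by
      intro hmem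
      exact hs ((hσPs i i.2 s).mp hmem)
    have hσx : (RingHomClass.toRingHom (i : Ks ≃ₐ[K] Ks)) (x : Ks) =
        (i : Ks ≃ₐ[K] Ks) (a : Ks) * ((i : Ks ≃ₐ[K] Ks) (s : Ks))⁻¹ := by
      change (i : Ks ≃ₐ[K] Ks) (x : Ks) = _
      rw [hxas, map_mul, map_inv₀]
    have hmem : (RingHomClass.toRingHom (i : Ks ≃ₐ[K] Ks)) (x : Ks) ∈ W :=
      (hmemW _).mpr ⟨⟨_, sigma_integral R K Ks i a⟩, ⟨_, sigma_integral R K Ks i s⟩, hs', hσx⟩
    refine ⟨hmem, fun hxm => ?_⟩
    have haPs : a ∈ Ps := (hmaxW x a s hs hxas).mp hxm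
    exact (hmaxW _ ⟨_, sigma_integral R K Ks i a⟩ ⟨_, sigma_integral R K Ks i s⟩ hs' hσx).mpr
      ((hσPs i i.2 a).mpr haPs)
  have hdesc : ∀ x : W, (∀ i : H, (RingHomClass.toRingHom (i : Ks ≃ₐ[K] Ks)) (x : Ks) = x) →
      ∃ v : Localization.AtPrime Q, algebraMap (Localization.AtPrime Q) Ks v = x := by
    intro x hx
    have hxfix : ∀ σ ∈ H, σ (x : Ks) = x := fun σ hσ => hx ⟨σ, hσ⟩
    obtain ⟨a, s, hs, hxas⟩ := (hmemW _).mp x.2
    have hs0 : (s : Ks) ≠ 0 := hne0 s hs
    have hfin : {t : Ks | ∃ σ ∈ H, σ (s : Ks) = t}.Finite := by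
      refine ((minpoly K (s : Ks)).rootSet_finite Ks).subset ?_
      rintro t ⟨σ, -, rfl⟩
      rw [Polynomial.mem_rootSet]
      refine ⟨minpoly.ne_zero (Algebra.IsIntegral.isIntegral _), ?_⟩
      have h1 := Polynomial.aeval_algHom_apply (σ : Ks →ₐ[K] Ks) (s : Ks) (minpoly K (s : Ks))
      rw [minpoly.aeval, map_zero] at h1
      exact h1
    obtain ⟨F, hF⟩ : ∃ F : Finset Ks, F = hfin.toFinset := ⟨_, rfl⟩
    have hmemF : ∀ t, t ∈ F ↔ ∃ σ ∈ H, σ (s : Ks) = t := fun t => by
      rw [hF, Set.Finite.mem_toFinset]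
      exact Iff.rfl
    have hsF : (s : Ks) ∈ F := (hmemF _).mpr ⟨1, H.one_mem, rfl⟩
    obtain ⟨N, hN⟩ : ∃ N : Ks, N = ∏ t ∈ F, t := ⟨_, rfl⟩
    have hNfix : ∀ σ ∈ H, σ N = N := by
      intro σ hσ
      rw [hN, map_prod]
      refine Finset.prod_bij (fun t _ => σ t) ?_ ?_ ?_ ?_
      · intro t ht
        obtain ⟨τ, hτ, rfl⟩ := (hmemF t).mp ht
        exact (hmemF _).mpr ⟨σ * τ, H.mul_mem hσ hτ, rfl⟩
      · intro t₁ _ t₂ _ h12
        exact σ.injective h12
      · intro t ht
        obtain ⟨τ, hτ, rfl⟩ := (hmemF t).mp ht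
        refine ⟨σ⁻¹ (τ (s : Ks)), (hmemF _).mpr ⟨σ⁻¹ * τ, H.mul_mem (H.inv_mem hσ) hτ, rfl⟩, ?_⟩
        exact σ.apply_symm_apply _
      · intro t _
        rfl
    have hFmon : ∀ t ∈ F, t ∈ Submonoid.map
        ((algebraMap (integralClosure R Ks) Ks : integralClosure R Ks →+* Ks) :
          integralClosure R Ks →* Ks) Ps.primeCompl := by
      intro t ht
      obtain ⟨τ, hτ, rfl⟩ := (hmemF t).mp ht
      refine ⟨⟨τ (s : Ks), sigma_integral R K Ks τ s⟩, ?_, rfl⟩
      intro hmem
      exact hs ((hσPs τ hτ s).mp hmem)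
    obtain ⟨n, hnPs, hnN⟩ : ∃ n : integralClosure R Ks, n ∈ Ps.primeCompl ∧ (n : Ks) = N := by
      obtain ⟨n, hn, hn'⟩ := Submonoid.prod_mem _ hFmon
      exact ⟨n, hn, hn'.trans hN.symm⟩
    have hN0 : N ≠ 0 := hnN ▸ hne0 n hnPs
    have hM' : ∏ t ∈ F.erase (s : Ks), t ∈ integralClosure R Ks := by
      refine Subalgebra.prod_mem _ (fun t ht => ?_)
      obtain ⟨τ, hτ, rfl⟩ := (hmemF t).mp (Finset.mem_of_mem_erase ht)
      exact sigma_integral R K Ks τ s
    have hNs : N = (s : Ks) * ∏ t ∈ F.erase (s : Ks), t := by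
      rw [hN]
      exact (Finset.mul_prod_erase F (fun t => t) hsF).symm
    have hNx : N * (x : Ks) = (∏ t ∈ F.erase (s : Ks), t) * (a : Ks) := by
      rw [hxas, hNs]
      field_simp
    obtain ⟨lN, hlN⟩ := hdescL N hNfix
    obtain ⟨lx, hlx⟩ := hdescL (x : Ks) hxfix
    have hNint : IsIntegral R lN := by
      rw [← isIntegral_algebraMap_iff hinj, hlN, ← hnN]
      exact n.2
    have hNxint : IsIntegral R (lN * lx) := by
      rw [← isIntegral_algebraMap_iff hinj, map_mul, hlN, hlx, hNx]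
      exact (integralClosure R Ks).mul_mem hM' a.2
    have hyNQ : (⟨lN, hNint⟩ : integralClosure R L) ∈ Q.primeCompl := by
      intro hmem
      obtain ⟨x', hx'Ps, hx'eq⟩ := (hQ _).mp hmem
      have hx'n : x' = n := Subtype.ext (hx'eq.trans (hlN.trans hnN.symm))
      exact hnPs (hx'n ▸ hx'Ps)
    refine ⟨IsLocalization.mk' (Localization.AtPrime Q)
      (⟨lN * lx, hNxint⟩ : integralClosure R L) ⟨⟨lN, hNint⟩, hyNQ⟩, ?_⟩
    rw [hVval]
    change algebraMap L Ks (lN * lx) * (algebraMap L Ks lN)⁻¹ = (x : Ks)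
    rw [map_mul, hlN, hlx, mul_comm N, mul_assoc, mul_inv_cancel₀ hN0, mul_one]
  exact henselian_of_ambient (V := Localization.AtPrime Q) (L := L)
    (E := Ks) W hVW hmVW (fun i : H => RingHomClass.toRingHom (i : Ks ≃ₐ[K] Ks)) hσV hσW hdesc


omit [IsDomain R] [IsFractionRing R K] [IsSepClosure K Ks] in
theorem forward_of_closure (Ps : Ideal (integralClosure R Ks)) (S : Set (Ks ≃ₐ[K] Ks))
    (hS : ∀ σ ∈ S, ∀ a : integralClosure R Ks,
      ((⟨σ (a : Ks), sigma_integral R K Ks σ a⟩ : integralClosure R Ks) ∈ Ps ↔ a ∈ Ps)) :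
    ∀ σ ∈ Subgroup.closure S, ∀ x : integralClosure R Ks, x ∈ Ps →
      ∃ h : σ (x : Ks) ∈ integralClosure R Ks,
        (⟨σ (x : Ks), h⟩ : integralClosure R Ks) ∈ Ps := by
  intro σ hσ
  have key : ∀ a : integralClosure R Ks,
      ((⟨σ (a : Ks), sigma_integral R K Ks σ a⟩ : integralClosure R Ks) ∈ Ps ↔ a ∈ Ps) := by
    induction hσ using Subgroup.closure_induction with
    | mem τ hτ => exact hS τ hτ
    | one =>
      intro a
      exact Iff.rfl
    | mul τ₁ τ₂ h₁ h₂ ih₁ ih₂ =>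
      intro a
      have h3 := ih₁ ⟨τ₂ (a : Ks), sigma_integral R K Ks τ₂ a⟩
      exact h3.trans (ih₂ a)
    | inv τ hτ ih =>
      intro a
      have h1 := ih ⟨τ⁻¹ (a : Ks), sigma_integral R K Ks τ⁻¹ a⟩
      have he : (⟨τ (τ⁻¹ (a : Ks)), sigma_integral R K Ks τ
          ⟨τ⁻¹ (a : Ks), sigma_integral R K Ks τ⁻¹ a⟩⟩ : integralClosure R Ks) = a :=
        Subtype.ext (τ.apply_symm_apply _)
      exact ⟨fun h => he ▸ (h1.mpr h), fun h => h1.mp (he.symm ▸ h)⟩
  intro x hx
  exact ⟨sigma_integral R K Ks σ x, (key x).mpr hx⟩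

omit [IsDomain R] [IsFractionRing R K] [IsSepClosure K Ks] in
theorem decomp_gen_iff (Ps : Ideal (integralClosure R Ks)) [Ps.IsMaximal] (σ : Ks ≃ₐ[K] Ks)
    (hσ : ∀ x : integralClosure R Ks, x ∈ Ps →
      ∃ h : σ (x : Ks) ∈ integralClosure R Ks, (⟨σ (x : Ks), h⟩ : integralClosure R Ks) ∈ Ps)
    (a : integralClosure R Ks) :
    ((⟨σ (a : Ks), sigma_integral R K Ks σ a⟩ : integralClosure R Ks) ∈ Ps ↔ a ∈ Ps) := by
  obtain ⟨φ, hφ⟩ : ∃ φ : integralClosure R Ks →+* integralClosure R Ks,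
      ∀ x, φ x = ⟨σ (x : Ks), sigma_integral R K Ks σ x⟩ :=
    ⟨RingHom.codRestrict ((RingHomClass.toRingHom σ).comp
      (algebraMap (integralClosure R Ks) Ks)) (integralClosure R Ks)
      (fun x => sigma_integral R K Ks σ x), fun x => rfl⟩
  have hle : Ps ≤ Ps.comap φ := by
    intro x hx
    obtain ⟨h, hm⟩ := hσ x hx
    rw [Ideal.mem_comap, hφ]
    exact hm
  have hne : Ps.comap φ ≠ ⊤ := (Ideal.comap_isPrime φ Ps).ne_top
  have heq : Ps = Ps.comap φ := Ideal.IsMaximal.eq_of_le inferInstance hne hle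
  constructor
  · intro h
    have h2 : a ∈ Ps.comap φ := by
      rw [Ideal.mem_comap, hφ]
      exact h
    exact heq.symm ▸ h2
  · intro h
    obtain ⟨h', hm⟩ := hσ a h
    exact hm

omit [IsDomain R] [IsFractionRing R K] [IsSepClosure K Ks] in
theorem inertia_gen_iff (Ps : Ideal (integralClosure R Ks)) (σ : Ks ≃ₐ[K] Ks)
    (hσ : ∀ x : integralClosure R Ks,
      ∃ h : σ (x : Ks) ∈ integralClosure R Ks,
        (⟨σ (x : Ks), h⟩ : integralClosure R Ks) - x ∈ Ps)
    (a : integralClosure R Ks) :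
    ((⟨σ (a : Ks), sigma_integral R K Ks σ a⟩ : integralClosure R Ks) ∈ Ps ↔ a ∈ Ps) := by
  obtain ⟨h, hd⟩ := hσ a
  constructor
  · intro hm
    have h2 := Ps.sub_mem hm hd
    rwa [sub_sub_cancel] at h2
  · intro ha
    have h2 := Ps.add_mem hd ha
    rwa [sub_add_cancel] at h2

set_option synthInstance.maxHeartbeats 200000 in
theorem henselian_of_closure (Ps : Ideal (integralClosure R Ks)) [Ps.IsMaximal]
    (S : Set (Ks ≃ₐ[K] Ks))
    (hS : ∀ σ ∈ S, ∀ a : integralClosure R Ks,
      ((⟨σ (a : Ks), sigma_integral R K Ks σ a⟩ : integralClosure R Ks) ∈ Ps ↔ a ∈ Ps))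
    (L : IntermediateField K Ks) (hL : L = IntermediateField.fixedField (Subgroup.closure S))
    (Q : Ideal (integralClosure R L)) [Q.IsPrime]
    (hQ : ∀ y : integralClosure R L, y ∈ Q ↔
      ∃ x : integralClosure R Ks, x ∈ Ps ∧ (x : Ks) = ((y : L) : Ks)) :
    HenselianLocalRing (Localization.AtPrime Q) := by
  subst hL
  haveI : IsScalarTower R (IntermediateField.fixedField (Subgroup.closure S)) Ks :=
    IsScalarTower.of_algebraMap_eq (fun _ => rfl)
  exact henselian_localization_of_fixed R K Ks (IntermediateField.fixedField (Subgroup.closure S))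
    Ps (Subgroup.closure S) (forward_of_closure R K Ks Ps S hS)
    (fun z σ hσ => (IntermediateField.mem_fixedField_iff _ _).mp z.2 σ hσ)
    (fun z hz => ⟨⟨z, (IntermediateField.mem_fixedField_iff _ _).mpr hz⟩, rfl⟩)
    Q hQ

end Concrete

end Groth.Agent.Helper6.HensDec
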