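import Mathlib
import Groth.Prelude.Def_Hens2
import Groth.Agent.Lib.Helper26.PHQuick1
import Groth.Agent.Lib.Helper1.HPBasic

set_option autoImplicit false
set_option linter.style.haveILetI false
set_option linter.unusedSectionVars false

open Polynomial

namespace Groth.Agent.Helper6.HensLaurIdem

universe u

section general

variable {P : Type u} [CommRing P] (t : P) {B : Type u} [CommRing B] [Algebra P B]

theorem map_span_eq : (Ideal.span {t}).map (algebraMap P B) = Ideal.span {algebraMap P B t} := by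
  rw [Ideal.map_span, Set.image_singleton]

variable (hB : Hens2.IsPairHenselization P (Ideal.span {t}) B)

include hB

theorem inj1 (p : P) (hp : algebraMap P B p ∈ Ideal.span {algebraMap P B t}) :
    p ∈ Ideal.span {t} := by
  have h1 : algebraMap P B p ∈ (Ideal.span {t} ^ 1).map (algebraMap P B) := by
    rw [pow_one, map_span_eq]
    exact hp
  have h2 := Groth.Agent.Helper26.PH.pow_inj hB 1 p h1
  rwa [pow_one] at h2

theorem surj1 (b : B) : ∃ p : P, b - algebraMap P B p ∈ Ideal.span {algebraMap P B t} := by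
  obtain ⟨p, hp⟩ := Groth.Agent.Helper26.PH.pow_surj hB 1 b
  refine ⟨p, ?_⟩
  rwa [pow_one, map_span_eq] at hp

theorem nzd_map (hnzd : t ∈ nonZeroDivisors P) : algebraMap P B t ∈ nonZeroDivisors B := by
  haveI : Module.Flat P B := Groth.Agent.Helper26.PH.flat hB
  have hreg : IsSMulRegular B t := Module.Flat.isSMulRegular_of_nonZeroDivisors hnzd
  rw [mem_nonZeroDivisors_iff_left]
  intro b hb
  apply hreg
  change t • b = t • (0 : B)
  rw [smul_zero, Algebra.smul_def]
  exact hb

theorem red_map (hred : ∀ p : P, p * p ∈ Ideal.span {t} → p ∈ Ideal.span {t}) (b : B)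
    (hb : b * b ∈ Ideal.span {algebraMap P B t}) : b ∈ Ideal.span {algebraMap P B t} := by
  obtain ⟨p, hp⟩ := surj1 t hB b
  have h1 : algebraMap P B (p * p) ∈ Ideal.span {algebraMap P B t} := by
    have h0 : algebraMap P B (p * p) =
        b * b - (b - algebraMap P B p) * (b + algebraMap P B p) := by
      rw [map_mul]
      ring
    rw [h0]
    exact Ideal.sub_mem _ hb (Ideal.mul_mem_right _ _ hp)
  have h2 := hred p (inj1 t hB _ h1)
  have h3 : algebraMap P B p ∈ Ideal.span {algebraMap P B t} := by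
    rw [← map_span_eq]
    exact Ideal.mem_map_of_mem _ h2
  have h4 : b = (b - algebraMap P B p) + algebraMap P B p := by ring
  rw [h4]
  exact Ideal.add_mem _ hp h3

/-- reduced case: idempotents of `B[1/t]` come from `B`. -/
theorem exists_idem_of_reduced (hnzd : t ∈ nonZeroDivisors P)
    (hred : ∀ p : P, p * p ∈ Ideal.span {t} → p ∈ Ideal.span {t})
    (L : Type*) [CommRing L] [Algebra B L] [IsLocalization.Away (algebraMap P B t) L]
    (e : L) (he : IsIdempotentElem e) : ∃ ε : B, IsIdempotentElem ε ∧ algebraMap B L ε = e := by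
  classical
  have hnz := nzd_map t hB hnzd
  have hinjL : Function.Injective (algebraMap B L) :=
    IsLocalization.injective L (M := Submonoid.powers (algebraMap P B t))
      (Submonoid.powers_le.2 hnz)
  have hunit : IsUnit (algebraMap B L (algebraMap P B t)) :=
    IsLocalization.Away.algebraMap_isUnit (algebraMap P B t)
  have hex : ∃ n : ℕ, ∃ b : B, e * algebraMap B L (algebraMap P B t) ^ n = algebraMap B L b := by
    obtain ⟨⟨b, s⟩, hs⟩ := IsLocalization.surj (Submonoid.powers (algebraMap P B t)) e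
    obtain ⟨n, hn⟩ := s.2
    have hn' : algebraMap P B t ^ n = (s : B) := hn
    refine ⟨n, b, ?_⟩
    rw [← map_pow, hn']
    exact hs
  obtain ⟨b, hb⟩ := Nat.find_spec hex
  rcases Nat.eq_zero_or_pos (Nat.find hex) with h0 | hpos
  · rw [h0, pow_zero, mul_one] at hb
    refine ⟨b, ?_, hb.symm⟩
    apply hinjL
    rw [map_mul, ← hb]
    exact he
  · exfalso
    obtain ⟨m, hm⟩ : ∃ m, Nat.find hex = m + 1 := ⟨Nat.find hex - 1, by omega⟩
    rw [hm] at hb
    have h1 : b * b = b * algebraMap P B t ^ (m + 1) := by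
      apply hinjL
      rw [map_mul, map_mul, map_pow, ← hb]
      have hee : e * e = e := he
      calc e * algebraMap B L (algebraMap P B t) ^ (m + 1) *
            (e * algebraMap B L (algebraMap P B t) ^ (m + 1))
          = (e * e) * algebraMap B L (algebraMap P B t) ^ (m + 1) *
            algebraMap B L (algebraMap P B t) ^ (m + 1) := by ring
        _ = e * algebraMap B L (algebraMap P B t) ^ (m + 1) *
            algebraMap B L (algebraMap P B t) ^ (m + 1) := by rw [hee]
    have h2 : b * b ∈ Ideal.span {algebraMap P B t} := by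
      rw [h1, pow_succ]
      exact Ideal.mul_mem_left _ _ (Ideal.mul_mem_left _ _ (Ideal.mem_span_singleton_self _))
    have h3 := red_map t hB hred b h2
    obtain ⟨c, hc⟩ := Ideal.mem_span_singleton'.1 h3
    have h4 : e * algebraMap B L (algebraMap P B t) ^ m = algebraMap B L c := by
      apply (hunit.mul_left_inj).1
      rw [mul_assoc, ← pow_succ, hb, ← hc, map_mul]
    have h5 := Nat.find_min' hex ⟨c, h4⟩
    omega

/-- reduction modulo a nil ideal. -/
theorem exists_idem_of_nil (𝔞 : Ideal P) (hnil : ∀ x ∈ 𝔞, IsNilpotent x)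
    (hnzd : ∀ p : P, t * p ∈ 𝔞 → p ∈ 𝔞)
    (hred : ∀ p : P, p * p ∈ Ideal.span {t} ⊔ 𝔞 → p ∈ Ideal.span {t} ⊔ 𝔞)
    (L : Type u) [CommRing L] [Algebra B L] [IsLocalization.Away (algebraMap P B t) L]
    (e : L) (he : IsIdempotentElem e) : ∃ ε : B, IsIdempotentElem ε ∧ algebraMap B L ε = e := by
  have h𝔟nil : ∀ x ∈ 𝔞.map (algebraMap P B), IsNilpotent x := by
    have hle : 𝔞.map (algebraMap P B) ≤ nilradical B := by
      rw [Ideal.map_le_iff_le_comap]
      intro x hx
      rw [Ideal.mem_comap, mem_nilradical]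
      exact (hnil x hx).map (algebraMap P B)
    intro x hx
    exact mem_nilradical.1 (hle hx)
  have hBq := Groth.Agent.Helper26.PH.isPairHenselization_quotient hB 𝔞
  have hspan : (Ideal.span {t}).map (Ideal.Quotient.mk 𝔞) =
      Ideal.span {Ideal.Quotient.mk 𝔞 t} := by
    rw [Ideal.map_span, Set.image_singleton]
  rw [hspan] at hBq
  have hnzdq : Ideal.Quotient.mk 𝔞 t ∈ nonZeroDivisors (P ⧸ 𝔞) := by
    rw [mem_nonZeroDivisors_iff_left]
    intro x hx
    obtain ⟨p, rfl⟩ := Ideal.Quotient.mk_surjective x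
    rw [← map_mul, Ideal.Quotient.eq_zero_iff_mem] at hx
    exact Ideal.Quotient.eq_zero_iff_mem.2 (hnzd p hx)
  have hredq : ∀ x : P ⧸ 𝔞, x * x ∈ Ideal.span {Ideal.Quotient.mk 𝔞 t} →
      x ∈ Ideal.span {Ideal.Quotient.mk 𝔞 t} := by
    intro x hx
    obtain ⟨p, rfl⟩ := Ideal.Quotient.mk_surjective x
    rw [← hspan] at hx ⊢
    rw [← map_mul, Ideal.mem_quotient_iff_mem_sup] at hx
    rw [Ideal.mem_quotient_iff_mem_sup]
    exact hred p hx
  have htq : algebraMap (P ⧸ 𝔞) (B ⧸ 𝔞.map (algebraMap P B)) (Ideal.Quotient.mk 𝔞 t) =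
      Ideal.Quotient.mk (𝔞.map (algebraMap P B)) (algebraMap P B t) := rfl
  have hunit : IsUnit (((algebraMap (B ⧸ 𝔞.map (algebraMap P B))
      (Localization.Away (algebraMap (P ⧸ 𝔞) (B ⧸ 𝔞.map (algebraMap P B))
        (Ideal.Quotient.mk 𝔞 t)))).comp
      (Ideal.Quotient.mk (𝔞.map (algebraMap P B)))) (algebraMap P B t)) := by
    rw [RingHom.comp_apply, ← htq]
    exact IsLocalization.Away.algebraMap_isUnit _
  have hφ : ∀ b : B, IsLocalization.Away.lift (S := L) (algebraMap P B t) hunit
      (algebraMap B L b) = algebraMap (B ⧸ 𝔞.map (algebraMap P B))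
      (Localization.Away (algebraMap (P ⧸ 𝔞) (B ⧸ 𝔞.map (algebraMap P B))
        (Ideal.Quotient.mk 𝔞 t))) (Ideal.Quotient.mk (𝔞.map (algebraMap P B)) b) :=
    fun b => IsLocalization.Away.lift_eq _ hunit b
  obtain ⟨εq, hεq, hεqe⟩ := exists_idem_of_reduced (Ideal.Quotient.mk 𝔞 t) hBq hnzdq hredq
    (Localization.Away (algebraMap (P ⧸ 𝔞) (B ⧸ 𝔞.map (algebraMap P B))
        (Ideal.Quotient.mk 𝔞 t)))
    (IsLocalization.Away.lift (S := L) (algebraMap P B t) hunit e) (he.map _)
  obtain ⟨ε, hε, hεεq⟩ := exists_isIdempotentElem_eq_of_ker_isNilpotent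
    (Ideal.Quotient.mk (𝔞.map (algebraMap P B)))
    (by rw [Ideal.mk_ker]; exact h𝔟nil) εq
    (by obtain ⟨x, hx⟩ := Ideal.Quotient.mk_surjective εq; exact ⟨x, hx⟩) hεq
  refine ⟨ε, hε, ?_⟩
  symm
  apply eq_of_isNilpotent_sub_of_isIdempotentElem he (hε.map (algebraMap B L))
  have hφd : IsLocalization.Away.lift (S := L) (algebraMap P B t) hunit
      (e - algebraMap B L ε) = 0 := by
    rw [map_sub, hφ, hεεq, hεqe, sub_self]
  obtain ⟨⟨b, s⟩, hs⟩ := IsLocalization.surj (Submonoid.powers (algebraMap P B t))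
    (e - algebraMap B L ε)
  obtain ⟨n, hn⟩ := s.2
  have hn' : algebraMap P B t ^ n = (s : B) := hn
  have hs' : (e - algebraMap B L ε) * algebraMap B L (algebraMap P B t) ^ n =
      algebraMap B L b := by
    rw [← map_pow, hn']
    exact hs
  have h1 : algebraMap (B ⧸ 𝔞.map (algebraMap P B))
      (Localization.Away (algebraMap (P ⧸ 𝔞) (B ⧸ 𝔞.map (algebraMap P B))
        (Ideal.Quotient.mk 𝔞 t))) (Ideal.Quotient.mk (𝔞.map (algebraMap P B)) b) = 0 := by
    rw [← hφ, ← hs', map_mul, hφd, zero_mul]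
  rw [IsLocalization.map_eq_zero_iff (Submonoid.powers (algebraMap (P ⧸ 𝔞)
    (B ⧸ 𝔞.map (algebraMap P B)) (Ideal.Quotient.mk 𝔞 t)))] at h1
  obtain ⟨⟨_, m, rfl⟩, hm⟩ := h1
  have h2 : algebraMap P B t ^ m * b ∈ 𝔞.map (algebraMap P B) := by
    rw [← Ideal.Quotient.eq_zero_iff_mem, map_mul, map_pow, ← htq]
    exact hm
  obtain ⟨k, hk⟩ := h𝔟nil _ h2
  have hT : IsUnit (algebraMap B L (algebraMap P B t)) :=
    IsLocalization.Away.algebraMap_isUnit _
  have h3 : (algebraMap B L (algebraMap P B t) ^ (m + n)) ^ k *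
      (e - algebraMap B L ε) ^ k = 0 := by
    have h4 : algebraMap B L ((algebraMap P B t ^ m * b) ^ k) = 0 := by rw [hk, map_zero]
    rw [map_pow, map_mul, map_pow, ← hs'] at h4
    rw [← h4, ← mul_pow]
    congr 1
    ring
  exact ⟨k, (((hT.pow (m + n)).pow k).mul_right_eq_zero).1 h3⟩

end general

theorem main (R : Type u) [CommRing R] (B : Type u) [CommRing B] [Algebra R[X] B]
    (hB : Hens2.IsPairHenselization R[X] (Ideal.span {(X : R[X])}) B)
    (e : Localization.Away (algebraMap R[X] B X)) (he : IsIdempotentElem e) :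
    ∃! r : R, IsIdempotentElem r ∧
      algebraMap B (Localization.Away (algebraMap R[X] B X))
        (algebraMap R[X] B (Polynomial.C r)) = e := by
  have hmem : ∀ p : R[X], p ∈ (nilradical R).map (C : R →+* R[X]) ↔
      ∀ n, p.coeff n ∈ nilradical R := fun p => Ideal.mem_map_C_iff
  have hnil : ∀ x ∈ (nilradical R).map (C : R →+* R[X]), IsNilpotent x := by
    have hle : (nilradical R).map (C : R →+* R[X]) ≤ nilradical R[X] := by
      rw [Ideal.map_le_iff_le_comap]
      intro x hx
      rw [Ideal.mem_comap, mem_nilradical]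
      exact (mem_nilradical.1 hx).map C
    intro x hx
    exact mem_nilradical.1 (hle hx)
  have hnzd : ∀ p : R[X], X * p ∈ (nilradical R).map (C : R →+* R[X]) →
      p ∈ (nilradical R).map (C : R →+* R[X]) := by
    intro p hp
    rw [hmem] at hp ⊢
    intro n
    have h1 := hp (n + 1)
    rwa [coeff_X_mul] at h1
  have hsup : ∀ p : R[X], p ∈ Ideal.span {(X : R[X])} ⊔ (nilradical R).map (C : R →+* R[X]) ↔
      p.coeff 0 ∈ nilradical R := by
    intro p
    constructor
    · intro hp
      obtain ⟨q, hq, a, ha, rfl⟩ := Submodule.mem_sup.1 hp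
      obtain ⟨c, rfl⟩ := Ideal.mem_span_singleton'.1 hq
      rw [coeff_add, coeff_mul_X_zero, zero_add]
      exact (hmem a).1 ha 0
    · intro hp
      have h1 : p = divX p * X + C (p.coeff 0) := (divX_mul_X_add p).symm
      rw [h1]
      exact Ideal.add_mem _
        (Ideal.mem_sup_left (Ideal.mul_mem_left _ _ (Ideal.mem_span_singleton_self X)))
        (Ideal.mem_sup_right (Ideal.mem_map_of_mem C hp))
  have hred : ∀ p : R[X],
      p * p ∈ Ideal.span {(X : R[X])} ⊔ (nilradical R).map (C : R →+* R[X]) →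
      p ∈ Ideal.span {(X : R[X])} ⊔ (nilradical R).map (C : R →+* R[X]) := by
    intro p hp
    rw [hsup] at hp ⊢
    rw [mul_coeff_zero, mem_nilradical, ← pow_two] at hp
    rw [mem_nilradical]
    exact IsNilpotent.of_pow hp
  obtain ⟨ε, hε, hεe⟩ := exists_idem_of_nil X hB _ hnil hnzd hred _ e he
  obtain ⟨p, hp⟩ := surj1 X hB ε
  have hpr : algebraMap R[X] B p - algebraMap R[X] B (C (p.coeff 0)) ∈
      Ideal.span {algebraMap R[X] B X} := by
    rw [← map_sub, ← map_span_eq]
    apply Ideal.mem_map_of_mem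
    rw [Ideal.mem_span_singleton]
    exact X_dvd_sub_C
  have hεr : ε - algebraMap R[X] B (C (p.coeff 0)) ∈ Ideal.span {algebraMap R[X] B X} := by
    have h1 : ε - algebraMap R[X] B (C (p.coeff 0)) = (ε - algebraMap R[X] B p) +
        (algebraMap R[X] B p - algebraMap R[X] B (C (p.coeff 0))) := by ring
    rw [h1]
    exact Ideal.add_mem _ hp hpr
  have hCmem : ∀ a : R, C a ∈ Ideal.span {(X : R[X])} → a = 0 := by
    intro a ha
    rw [Ideal.mem_span_singleton, X_dvd_iff, coeff_C_zero] at ha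
    exact ha
  have hridem : IsIdempotentElem (p.coeff 0) := by
    have h1 : algebraMap R[X] B (C (p.coeff 0 * p.coeff 0 - p.coeff 0)) ∈
        Ideal.span {algebraMap R[X] B X} := by
      have h0 : algebraMap R[X] B (C (p.coeff 0 * p.coeff 0 - p.coeff 0)) = (ε * ε - ε) -
          ((ε - algebraMap R[X] B (C (p.coeff 0))) *
            (ε + algebraMap R[X] B (C (p.coeff 0)) - 1)) := by
        rw [C_sub, C_mul, map_sub, map_mul]
        ring
      rw [h0, hε.eq, sub_self, zero_sub]
      exact Ideal.neg_mem_iff _ |>.2 (Ideal.mul_mem_right _ _ hεr)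
    have h2 := hCmem _ (inj1 X hB _ h1)
    exact sub_eq_zero.1 h2
  have hρ : IsIdempotentElem (algebraMap R[X] B (C (p.coeff 0))) :=
    (hridem.map C).map (algebraMap R[X] B)
  have hjac : Ideal.span {algebraMap R[X] B X} ≤ Ideal.jacobson ⊥ := by
    rw [← map_span_eq]
    haveI := hB.1
    exact HenselianRing.jac
  have heq : ε = algebraMap R[X] B (C (p.coeff 0)) :=
    Groth.Agent.Helper1.eq_of_isIdempotentElem_of_sub_mem_jacobson hε hρ (hjac hεr)
  refine ⟨p.coeff 0, ⟨hridem, by rw [← heq]; exact hεe⟩, ?_⟩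
  rintro r' ⟨-, hr'e⟩
  have hnz : algebraMap R[X] B X ∈ nonZeroDivisors B := nzd_map X hB X_mem_nonzeroDivisors
  have hinjL : Function.Injective (algebraMap B (Localization.Away (algebraMap R[X] B X))) :=
    IsLocalization.injective _ (M := Submonoid.powers (algebraMap R[X] B X))
      (Submonoid.powers_le.2 hnz)
  have h3 : algebraMap R[X] B (C r') = algebraMap R[X] B (C (p.coeff 0)) := by
    apply hinjL
    rw [hr'e, ← heq, hεe]
  have h4 : algebraMap R[X] B (C (r' - p.coeff 0)) ∈ Ideal.span {algebraMap R[X] B X} := by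
    rw [C_sub, map_sub, h3, sub_self]
    exact Ideal.zero_mem _
  exact sub_eq_zero.1 (hCmem _ (inj1 X hB _ h4))

end Groth.Agent.Helper6.HensLaurIdem
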