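import Mathlib
import Groth.Agent.Lib.Helper1.IH1

set_option autoImplicit false
universe u v

/-!
# Transfer of the henselian property along ring isomorphisms, and a universe-polymorphic form of
"finite local over henselian is henselian"
-/

namespace Groth.Agent.Lib.Helper6.HenselTransfer

open Polynomial IsLocalRing

theorem henselianLocalRing_of_ringEquiv {S : Type u} {S' : Type v} [CommRing S] [CommRing S']
    [HenselianLocalRing S] (e : S ≃+* S') : HenselianLocalRing S' := by
  haveI : IsLocalRing S' := e.isLocalRing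
  have hmem : ∀ x : S', x ∈ maximalIdeal S' ↔ e.symm x ∈ maximalIdeal S := by
    intro x
    rw [mem_maximalIdeal, mem_maximalIdeal, mem_nonunits_iff, mem_nonunits_iff]
    exact not_congr (isUnit_map_iff e.symm x).symm
  constructor
  intro f hf a₀ h₁ h₂
  have hf' : (f.map (e.symm : S' →+* S)).Monic := hf.map _
  have hev : ∀ (g : S'[X]) (x : S'), (g.map (e.symm : S' →+* S)).eval (e.symm x) =
      e.symm (g.eval x) := by
    intro g x
    have := Polynomial.eval₂_hom (p := g) (e.symm : S' →+* S) x
    rw [Polynomial.eval_map]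
    exact this
  have h₁' : (f.map (e.symm : S' →+* S)).eval (e.symm a₀) ∈ maximalIdeal S := by
    rw [hev]
    exact (hmem _).1 h₁
  have h₂' : IsUnit ((f.map (e.symm : S' →+* S)).derivative.eval (e.symm a₀)) := by
    rw [Polynomial.derivative_map, hev]
    exact h₂.map (e.symm : S' →+* S)
  obtain ⟨a, ha, ha'⟩ := HenselianLocalRing.is_henselian _ hf' (e.symm a₀) h₁' h₂'
  refine ⟨e a, ?_, ?_⟩
  · rw [Polynomial.IsRoot.def] at ha ⊢
    have h3 : (f.map (e.symm : S' →+* S)).eval a = e.symm (f.eval (e a)) := by
      rw [← hev, RingEquiv.symm_apply_apply]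
    rw [h3] at ha
    exact (EmbeddingLike.map_eq_zero_iff (f := e.symm)).1 ha
  · rw [hmem, map_sub, RingEquiv.symm_apply_apply]
    exact ha'

/-- a finite local algebra over a henselian local ring is henselian (universe-polymorphic) -/
theorem henselianLocalRing_of_finite (S : Type u) [CommRing S] [HenselianLocalRing S]
    (C : Type v) [CommRing C] [IsLocalRing C] [Algebra S C] [Module.Finite S C] :
    HenselianLocalRing C := by
  let eS : ULift.{v} S ≃+* S := ULift.ringEquiv
  let eC : ULift.{u} C ≃+* C := ULift.ringEquiv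
  haveI : HenselianLocalRing (ULift.{v} S) := henselianLocalRing_of_ringEquiv eS.symm
  haveI : IsLocalRing (ULift.{u} C) := eC.symm.isLocalRing
  let alg : Algebra (ULift.{v} S) (ULift.{u} C) :=
    ((eC.symm : C →+* ULift.{u} C).comp ((algebraMap S C).comp (eS : ULift.{v} S →+* S))).toAlgebra
  have fin : @Module.Finite (ULift.{v} S) (ULift.{u} C) _ _ alg.toModule :=
    @Module.Finite.of_equiv_equiv S C (ULift.{v} S) (ULift.{u} C) _ _ _ _ _ alg eS.symm eC.symm
      (by ext x; rfl) _
  haveI : HenselianLocalRing (ULift.{u} C) :=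
    @Groth.Agent.Helper1.IH.henselianLocalRing_of_finite (ULift.{v} S) _ _ (ULift.{u} C) _ _ alg fin
  exact henselianLocalRing_of_ringEquiv eC

end Groth.Agent.Lib.Helper6.HenselTransfer
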