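import Mathlib
import Groth.Prelude.Def_HilbD

/-!
# Helper6: the Hilbert functor of points of degree one of a separated `X/S` is `X`
-/

set_option autoImplicit false
universe u

namespace Groth.Agent.Helper6.HilbDOne

open CategoryTheory Limits AlgebraicGeometry

noncomputable section

variable {X S : Scheme.{u}} (f : X ⟶ S)

/-- the graph `(x, id) : T ⟶ X ×_S T` of an `S`-morphism `x : T ⟶ X` -/
def graph (T : Over S) (x : T.left ⟶ X) (hx : x ≫ f = T.hom) : T.left ⟶ PicF.XT f T :=
  pullback.lift x (𝟙 T.left) (by simpa using hx)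

theorem secGraph_eq (T : Over S) (x : T.left ⟶ X) (hx : x ≫ f = T.hom) :
    HilbD.secGraph f T x hx = (graph f T x hx).ker := rfl

@[reassoc (attr := simp)]
theorem graph_fst (T : Over S) (x : T.left ⟶ X) (hx : x ≫ f = T.hom) :
    graph f T x hx ≫ pullback.fst f T.hom = x := pullback.lift_fst _ _ _

@[reassoc (attr := simp)]
theorem graph_snd (T : Over S) (x : T.left ⟶ X) (hx : x ≫ f = T.hom) :
    graph f T x hx ≫ pullback.snd f T.hom = 𝟙 _ := pullback.lift_snd _ _ _

/-- the diagonal, as the graph of the identity -/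
abbrev diag : (Over.mk f).left ⟶ PicF.XT f (Over.mk f) :=
  graph f (Over.mk f) (𝟙 X) (Category.id_comp f)

instance isClosedImmersion_diag [IsSeparated f] : IsClosedImmersion (diag f) :=
  inferInstanceAs (IsClosedImmersion (pullback.diagonal f))

@[reassoc]
theorem XTmap_fst (T : Over S) (g : T ⟶ Over.mk f) :
    PicF.XTmap f g ≫ pullback.fst f (Over.mk f).hom = pullback.fst f T.hom := by
  unfold PicF.XTmap
  rw [pullback.lift_fst]
  simp

@[reassoc]
theorem XTmap_snd (T : Over S) (g : T ⟶ Over.mk f) :
    PicF.XTmap f g ≫ pullback.snd f (Over.mk f).hom = pullback.snd f T.hom ≫ g.left := by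
  unfold PicF.XTmap
  rw [pullback.lift_snd]

/-- the graph of `g` is the pullback of the diagonal along `id × g` -/
theorem isPullback_graph (T : Over S) (g : T ⟶ Over.mk f) :
    IsPullback g.left (graph f T g.left (Over.w g)) (diag f) (PicF.XTmap f g) := by
  have hw : g.left ≫ diag f = graph f T g.left (Over.w g) ≫ PicF.XTmap f g := by
    apply pullback.hom_ext
    · rw [Category.assoc, Category.assoc, XTmap_fst, graph_fst, graph_fst]
      exact Category.comp_id _
    · rw [Category.assoc, Category.assoc, XTmap_snd, graph_snd, graph_snd_assoc, Category.comp_id]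
  refine ⟨⟨hw⟩, ⟨PullbackCone.IsLimit.mk hw (fun s => s.snd ≫ pullback.snd f T.hom) ?_ ?_ ?_⟩⟩
  · intro s
    have h2 := congrArg (fun k => k ≫ pullback.snd f (Over.mk f).hom) s.condition
    simp only [Category.assoc, XTmap_snd, graph_snd, Category.comp_id] at h2
    rw [Category.assoc]
    exact h2.symm
  · intro s
    have h1 := congrArg (fun k => k ≫ pullback.fst f (Over.mk f).hom) s.condition
    have h2 := congrArg (fun k => k ≫ pullback.snd f (Over.mk f).hom) s.condition
    simp only [Category.assoc, XTmap_fst, graph_fst] at h1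
    have h1' : s.fst = s.snd ≫ pullback.fst f T.hom := (Category.comp_id _).symm.trans h1
    simp only [Category.assoc, XTmap_snd, graph_snd, Category.comp_id] at h2
    apply pullback.hom_ext
    · rw [Category.assoc, graph_fst, Category.assoc, ← h2]
      exact h1'
    · rw [Category.assoc, graph_snd, Category.comp_id]
  · intro s m _ h2
    have h3 := congrArg (fun k => k ≫ pullback.snd f T.hom) h2
    simp only [Category.assoc, graph_snd, Category.comp_id] at h3
    exact h3

instance isClosedImmersion_graph [IsSeparated f] (T : Over S) (g : T ⟶ Over.mk f) :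
    IsClosedImmersion (graph f T g.left (Over.w g)) :=
  MorphismProperty.of_isPullback (P := @IsClosedImmersion) (isPullback_graph f T g) inferInstance

/-- a closed subscheme which is the image of a section is finite locally free of degree one -/
theorem finLocFree_one_of_section {Y T : Scheme.{u}} (p : Y ⟶ T) (s : T ⟶ Y) [IsClosedImmersion s]
    (hs : s ≫ p = 𝟙 T) : Mor2.IsFinLocFreeOfDeg 1 (s.ker.subschemeι ≫ p) := by
  have e : s.toImage ≫ (s.ker.subschemeι ≫ p) = 𝟙 T := by
    rw [← Category.assoc, s.toImage_imageι, hs]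
  have h1 : s.ker.subschemeι ≫ p = inv s.toImage := by
    rw [← cancel_epi s.toImage, e, IsIso.hom_inv_id]
  haveI hiso : IsIso (s.ker.subschemeι ≫ p) := by
    rw [h1]
    infer_instance
  refine ⟨⟨inferInstance, inferInstance, inferInstance⟩, fun y => ?_⟩
  rw [Scheme.Hom.finrank_eq_one_of_isIso]
  rfl

/-- every closed subscheme of `X_T` of degree one over `T` is the graph of a unique morphism -/
theorem exists_graph_of_obj (T : Over S) (I' : (PicF.XT f T).IdealSheafData)
    (h : Mor2.IsFinLocFreeOfDeg 1 (I'.subschemeι ≫ PicF.XTproj f T)) :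
    ∃ g : T ⟶ Over.mk f, (graph f T g.left (Over.w g)).ker = I' := by
  obtain ⟨⟨h1, h2, h3⟩, h4⟩ := h
  haveI := h1
  haveI := h2
  haveI := h3
  haveI hiso : IsIso (I'.subschemeι ≫ PicF.XTproj f T) := by
    rw [Scheme.Hom.isIso_iff_finrank_eq]
    ext y
    exact h4 y
  have hs : (inv (I'.subschemeι ≫ PicF.XTproj f T) ≫ I'.subschemeι) ≫ pullback.snd f T.hom =
      𝟙 _ := by
    rw [Category.assoc]
    exact IsIso.inv_hom_id _
  have hx : ((inv (I'.subschemeι ≫ PicF.XTproj f T) ≫ I'.subschemeι) ≫ pullback.fst f T.hom) ≫ f =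
      T.hom := by
    rw [Category.assoc, pullback.condition, ← Category.assoc, hs, Category.id_comp]
  refine ⟨Over.homMk _ hx, ?_⟩
  have hgr : graph f T ((inv (I'.subschemeι ≫ PicF.XTproj f T) ≫ I'.subschemeι) ≫
      pullback.fst f T.hom) hx = inv (I'.subschemeι ≫ PicF.XTproj f T) ≫ I'.subschemeι := by
    apply pullback.hom_ext
    · simp
    · rw [graph_snd, hs]
  show (graph f T _ hx).ker = I'
  rw [hgr, Scheme.Hom.ker_comp_of_isIso, Scheme.IdealSheafData.ker_subschemeι]

/-- pulling back the diagonal along `id × g` gives the graph of `g` -/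
theorem pull_diag_eq [IsSeparated f] (T : Over S) (g : T ⟶ Over.mk f) :
    HilbD.pull f g (diag f).ker = (graph f T g.left (Over.w g)).ker := by
  unfold HilbD.pull
  have base := IsPullback.of_hasPullback (diag f).ker.subschemeι (PicF.XTmap f g)
  have sq : IsPullback
      (pullback.fst (diag f).ker.subschemeι (PicF.XTmap f g) ≫
        inv (diag f).toImage)
      (pullback.snd (diag f).ker.subschemeι (PicF.XTmap f g))
      (diag f) (PicF.XTmap f g) := by
    refine IsPullback.of_iso base (Iso.refl _) (asIso (diag f).toImage).symm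
      (Iso.refl _) (Iso.refl _) ?_ ?_ ?_ ?_
    · simp
    · simp
    · simp only [Iso.refl_hom, Category.comp_id, Iso.symm_hom, asIso_inv]
      rw [IsIso.eq_inv_comp]
      exact (diag f).toImage_imageι
    · simp
  have h := sq.isoIsPullback_hom_snd _ _ (isPullback_graph f T g)
  rw [← h, Scheme.Hom.ker_comp_of_isIso]

/-- the diagonal is the universal closed subscheme of degree one -/
theorem main [IsSeparated f] : ∃ Δ : HilbD.Obj f 1 (Over.mk f),
    Δ.1 = HilbD.secGraph f (Over.mk f) (𝟙 X) (Category.id_comp f) ∧
      HilbD.IsUniversal f 1 (Over.mk f) Δ := by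
  have hD : HilbD.secGraph f (Over.mk f) (𝟙 X) (Category.id_comp f) =
      (diag f).ker := rfl
  have hobj : Mor2.IsFinLocFreeOfDeg 1
      ((diag f).ker.subschemeι ≫ PicF.XTproj f (Over.mk f)) :=
    finLocFree_one_of_section (pullback.snd f (Over.mk f).hom) (diag f) (graph_snd f _ _ _)
  refine ⟨⟨HilbD.secGraph f (Over.mk f) (𝟙 X) (Category.id_comp f), by rw [hD]; exact hobj⟩,
    rfl, ?_⟩
  intro T Z'
  obtain ⟨g, hg⟩ := exists_graph_of_obj f T Z'.1 Z'.2
  refine ⟨g, ?_, ?_⟩
  · show HilbD.pull f g (HilbD.secGraph f (Over.mk f) (𝟙 X) (Category.id_comp f)) = Z'.1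
    rw [hD, pull_diag_eq, hg]
  · intro g' hg'
    have hg'' : (graph f T g'.left (Over.w g')).ker = Z'.1 := by
      rw [← pull_diag_eq, ← hD]
      exact hg'
    have hk : (graph f T g.left (Over.w g)).ker ≤ (graph f T g'.left (Over.w g')).ker := by
      rw [hg, hg'']
    have hfac := IsClosedImmersion.lift_fac (graph f T g.left (Over.w g))
      (graph f T g'.left (Over.w g')) hk
    have hφ : IsClosedImmersion.lift (graph f T g.left (Over.w g))
        (graph f T g'.left (Over.w g')) hk = 𝟙 _ := by
      have h3 : (IsClosedImmersion.lift (graph f T g.left (Over.w g))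
          (graph f T g'.left (Over.w g')) hk ≫ graph f T g.left (Over.w g)) ≫
            pullback.snd f T.hom = graph f T g'.left (Over.w g') ≫ pullback.snd f T.hom := by
        rw [hfac]
      rw [Category.assoc, graph_snd, graph_snd, Category.comp_id] at h3
      exact h3
    rw [hφ, Category.id_comp] at hfac
    apply Over.OverMorphism.ext
    have h4 := congrArg (fun k => k ≫ pullback.fst f T.hom) hfac
    simpa using h4.symm

end

end Groth.Agent.Helper6.HilbDOne
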