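import Groth.Prelude.Def_Hoch
import Groth.Prelude.Def_CoactBr2
import Groth.Agent.Lib.Helper6.FlatCohBC

/-!
# Base change of the Hochschild complex of a comodule along a flat extension (helper6)
-/

set_option autoImplicit false
universe u v w
open scoped TensorProduct

namespace Groth.Agent.Lib.Helper6.HochBC

variable (K : Type u) [CommRing K] (A : Type v) [CommRing A] [Bialgebra K A]
  (V : Type v) [AddCommGroup V] [Module K V]
  (R : Type w) [CommRing R] [Algebra K R]

/-- The canonical identification `R ⊗ C^n(A, V) ≃ C^n(R ⊗ A, R ⊗ V)`. -/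
noncomputable def psi : (n : ℕ) →
    (R ⊗[K] (Hoch.cochain K A V n : Type v)) ≃ₗ[R]
      (Hoch.cochain R (R ⊗[K] A) (R ⊗[K] V) n : Type (max w v))
  | 0 => LinearEquiv.refl R (R ⊗[K] V)
  | n + 1 =>
    (TensorProduct.AlgebraTensorModule.distribBaseChange K R
      (Hoch.cochain K A V n : Type v) A).trans
      (TensorProduct.congr (psi n) (LinearEquiv.refl R (R ⊗[K] A)))

theorem psi_zero (x : R ⊗[K] V) : psi K A V R 0 x = x := rfl

theorem psi_succ_tmul (n : ℕ) (r : R) (c : (Hoch.cochain K A V n : Type v)) (a : A) :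
    psi K A V R (n + 1) (r ⊗ₜ[K] (c ⊗ₜ[K] a)) =
      (psi K A V R n (r ⊗ₜ[K] c)) ⊗ₜ[R] ((1 : R) ⊗ₜ[K] a) := rfl

/-- Any family `φ` satisfying the two defining equations is `psi`. -/
theorem eq_psi
    (φ : ∀ n : ℕ, R ⊗[K] (Hoch.cochain K A V n : Type v) →ₗ[R]
      (Hoch.cochain R (R ⊗[K] A) (R ⊗[K] V) n : Type (max w v)))
    (hφ0 : ∀ x : R ⊗[K] V, φ 0 x = x)
    (hφs : ∀ (n : ℕ) (r : R) (c : (Hoch.cochain K A V n : Type v)) (a : A),
      φ (n + 1) (r ⊗ₜ[K] (c ⊗ₜ[K] a)) = (φ n (r ⊗ₜ[K] c)) ⊗ₜ[R] ((1 : R) ⊗ₜ[K] a)) :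
    ∀ (n : ℕ) (x : R ⊗[K] (Hoch.cochain K A V n : Type v)), φ n x = psi K A V R n x := by
  intro n
  induction n with
  | zero => exact hφ0
  | succ n ih =>
    have key : ∀ (r : R) (y : (Hoch.cochain K A V n : Type v) ⊗[K] A),
        φ (n + 1) (r ⊗ₜ[K] y) = psi K A V R (n + 1) (r ⊗ₜ[K] y) := by
      intro r y
      induction y using TensorProduct.induction_on with
      | zero => rw [TensorProduct.tmul_zero, map_zero, map_zero]
      | tmul c a => rw [hφs, ih, psi_succ_tmul]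
      | add y1 y2 h1 h2 => rw [TensorProduct.tmul_add, map_add, map_add, h1, h2]
    intro x
    induction x using TensorProduct.induction_on with
    | zero => rw [map_zero, map_zero]
    | tmul r y => exact key r y
    | add x1 x2 h1 h2 => rw [map_add, map_add, h1, h2]

section Comod

variable [HopfRep.Comod K A V]

/-- `a ⊗ a' ↦ (1 ⊗ a) ⊗ (1 ⊗ a')`. -/
noncomputable def phi2 : (A ⊗[K] A) →ₗ[K] ((R ⊗[K] A) ⊗[R] (R ⊗[K] A)) :=
  ((TensorProduct.AlgebraTensorModule.tensorTensorTensorComm K R K R R R A A).toLinearMap.restrictScalars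
      K).comp
    ((TensorProduct.mk K (R ⊗[R] R) (A ⊗[K] A)) ((1 : R) ⊗ₜ[R] (1 : R)))

theorem phi2_tmul (a a' : A) :
    phi2 K A R (a ⊗ₜ[K] a') = ((1 : R) ⊗ₜ[K] a) ⊗ₜ[R] ((1 : R) ⊗ₜ[K] a') := rfl

theorem comul_one_tmul (a : A) :
    Coalgebra.comul (R := R) (A := R ⊗[K] A) ((1 : R) ⊗ₜ[K] a) =
      phi2 K A R (Coalgebra.comul (R := K) a) := rfl

theorem redComul_one_tmul (a : A) :
    Hoch.redComul R (R ⊗[K] A) ((1 : R) ⊗ₜ[K] a) = phi2 K A R (Hoch.redComul K A a) := by
  rw [Hoch.redComul_apply, Hoch.redComul_apply, map_sub, map_sub, phi2_tmul, phi2_tmul,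
    comul_one_tmul]
  rfl

/-- compatibility of `psi` with reassociation. -/
theorem psi_assoc_symm (n : ℕ) (r : R) (c : (Hoch.cochain K A V n : Type v)) (z : A ⊗[K] A) :
    psi K A V R (n + 2)
        (r ⊗ₜ[K] ((TensorProduct.assoc K (Hoch.cochain K A V n : Type v) A A).symm (c ⊗ₜ[K] z))) =
      (TensorProduct.assoc R (Hoch.cochain R (R ⊗[K] A) (R ⊗[K] V) n : Type (max w v))
        (R ⊗[K] A) (R ⊗[K] A)).symm
        ((psi K A V R n (r ⊗ₜ[K] c)) ⊗ₜ[R] (phi2 K A R z)) := by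
  induction z using TensorProduct.induction_on with
  | zero =>
    rw [TensorProduct.tmul_zero, map_zero, TensorProduct.tmul_zero, map_zero, map_zero,
      TensorProduct.tmul_zero, map_zero]
  | tmul a a' => rfl
  | add z1 z2 h1 h2 =>
    rw [TensorProduct.tmul_add, map_add, TensorProduct.tmul_add, map_add, h1, h2, map_add,
      TensorProduct.tmul_add, map_add]

theorem psi_tail (n : ℕ) (r : R) (c : (Hoch.cochain K A V n : Type v)) (a : A) :
    psi K A V R (n + 2)
        (r ⊗ₜ[K] (Hoch.tail K A (Hoch.cochain K A V n : Type v) (c ⊗ₜ[K] a))) =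
      Hoch.tail R (R ⊗[K] A) (Hoch.cochain R (R ⊗[K] A) (R ⊗[K] V) n : Type (max w v))
        ((psi K A V R n (r ⊗ₜ[K] c)) ⊗ₜ[R] ((1 : R) ⊗ₜ[K] a)) := by
  have h1 : Hoch.tail K A (Hoch.cochain K A V n : Type v) (c ⊗ₜ[K] a) =
      (TensorProduct.assoc K (Hoch.cochain K A V n : Type v) A A).symm
        (c ⊗ₜ[K] Hoch.redComul K A a) := rfl
  have h2 : Hoch.tail R (R ⊗[K] A) (Hoch.cochain R (R ⊗[K] A) (R ⊗[K] V) n : Type (max w v))
        ((psi K A V R n (r ⊗ₜ[K] c)) ⊗ₜ[R] ((1 : R) ⊗ₜ[K] a)) =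
      (TensorProduct.assoc R (Hoch.cochain R (R ⊗[K] A) (R ⊗[K] V) n : Type (max w v))
        (R ⊗[K] A) (R ⊗[K] A)).symm
        ((psi K A V R n (r ⊗ₜ[K] c)) ⊗ₜ[R] Hoch.redComul R (R ⊗[K] A) ((1 : R) ⊗ₜ[K] a)) := rfl
  rw [h1, h2, redComul_one_tmul, psi_assoc_symm]

/-- value of `psi 1` in terms of the exchange isomorphism. -/
theorem psi_one_eq (r : R) (z : V ⊗[K] A) :
    psi K A V R 1 (r ⊗ₜ[K] z) =
      TensorProduct.AlgebraTensorModule.tensorTensorTensorComm K R K R R R V A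
        (((1 : R) ⊗ₜ[R] r) ⊗ₜ[K] z) := by
  induction z using TensorProduct.induction_on with
  | zero => rw [TensorProduct.tmul_zero, map_zero, TensorProduct.tmul_zero, map_zero]
  | tmul v a =>
    rw [psi_succ_tmul, psi_zero, TensorProduct.AlgebraTensorModule.tensorTensorTensorComm_tmul]
    have e1 : (r ⊗ₜ[K] a : R ⊗[K] A) = r • ((1 : R) ⊗ₜ[K] a) := by
      rw [TensorProduct.smul_tmul', smul_eq_mul, mul_one]
    have e2 : (r ⊗ₜ[K] v : R ⊗[K] V) = r • ((1 : R) ⊗ₜ[K] v) := by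
      rw [TensorProduct.smul_tmul', smul_eq_mul, mul_one]
    rw [e1, e2, TensorProduct.smul_tmul]
  | add z1 z2 h1 h2 =>
    rw [TensorProduct.tmul_add, map_add, h1, h2, TensorProduct.tmul_add, map_add]

attribute [local instance] CoactBr.Comod.baseChange

theorem psi_d_zero (x : R ⊗[K] V) :
    psi K A V R 1 ((Hoch.d K A V 0).baseChange R x) =
      Hoch.d R (R ⊗[K] A) (R ⊗[K] V) 0 (psi K A V R 0 x) := by
  induction x using TensorProduct.induction_on with
  | zero => rw [map_zero, map_zero, map_zero, map_zero]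
  | tmul r v =>
    rw [LinearMap.baseChange_tmul, psi_zero, Hoch.d_zero_apply, Hoch.d_zero_apply,
      TensorProduct.tmul_sub, map_sub, psi_one_eq, psi_succ_tmul, psi_zero]
    rfl
  | add x1 x2 h1 h2 => rw [map_add, map_add, h1, h2, map_add, map_add]

theorem psi_d (n : ℕ) (x : R ⊗[K] (Hoch.cochain K A V n : Type v)) :
    psi K A V R (n + 1) ((Hoch.d K A V n).baseChange R x) =
      Hoch.d R (R ⊗[K] A) (R ⊗[K] V) n (psi K A V R n x) := by
  induction n with
  | zero => exact psi_d_zero K A V R x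
  | succ n ih =>
    have key : ∀ (r : R) (y : (Hoch.cochain K A V n : Type v) ⊗[K] A),
        psi K A V R (n + 2) (r ⊗ₜ[K] (Hoch.d K A V (n + 1) y)) =
          Hoch.d R (R ⊗[K] A) (R ⊗[K] V) (n + 1) (psi K A V R (n + 1) (r ⊗ₜ[K] y)) := by
      intro r y
      induction y using TensorProduct.induction_on with
      | zero => simp only [map_zero, TensorProduct.tmul_zero]
      | tmul c a =>
        have hL : Hoch.d K A V (n + 1) (c ⊗ₜ[K] a) = (Hoch.d K A V n c) ⊗ₜ[K] a +
            ((-1 : K) ^ (n + 1)) •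
              Hoch.tail K A (Hoch.cochain K A V n : Type v) (c ⊗ₜ[K] a) := rfl
        have hR : ∀ (m : (Hoch.cochain R (R ⊗[K] A) (R ⊗[K] V) n : Type (max w v)))
            (b : R ⊗[K] A),
            Hoch.d R (R ⊗[K] A) (R ⊗[K] V) (n + 1) (m ⊗ₜ[R] b) =
              (Hoch.d R (R ⊗[K] A) (R ⊗[K] V) n m) ⊗ₜ[R] b + ((-1 : R) ^ (n + 1)) •
                Hoch.tail R (R ⊗[K] A)
                  (Hoch.cochain R (R ⊗[K] A) (R ⊗[K] V) n : Type (max w v)) (m ⊗ₜ[R] b) :=
          fun m b => rfl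
        rw [hL, psi_succ_tmul, hR, TensorProduct.tmul_add, map_add, psi_succ_tmul,
          TensorProduct.tmul_smul]
        have h1 := ih (r ⊗ₜ[K] c)
        rw [LinearMap.baseChange_tmul] at h1
        have h2 : ((-1 : K) ^ (n + 1)) •
            (r ⊗ₜ[K] (Hoch.tail K A (Hoch.cochain K A V n : Type v) (c ⊗ₜ[K] a)) :
              R ⊗[K] (Hoch.cochain K A V (n + 2) : Type v)) =
            ((-1 : R) ^ (n + 1)) •
              (r ⊗ₜ[K] (Hoch.tail K A (Hoch.cochain K A V n : Type v) (c ⊗ₜ[K] a))) := by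
          rw [← algebraMap_smul R ((-1 : K) ^ (n + 1)), map_pow, map_neg, map_one]
        rw [h1, h2, map_smul, psi_tail]
      | add y1 y2 h1 h2 =>
        rw [map_add, TensorProduct.tmul_add, map_add, h1, h2, TensorProduct.tmul_add, map_add,
          map_add]
    induction x using TensorProduct.induction_on with
    | zero => rw [map_zero, map_zero, map_zero, map_zero]
    | tmul r y =>
      rw [LinearMap.baseChange_tmul]
      exact key r y
    | add x1 x2 h1 h2 => rw [map_add, map_add, h1, h2, map_add, map_add]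

end Comod

section Final

variable [HopfRep.Comod K A V] [Module.Flat K R]

attribute [local instance] CoactBr.Comod.baseChange

theorem coboundaries_cond (n : ℕ) :
    (∀ (r : R) (b : (Hoch.cochain K A V n : Type v)), b ∈ Hoch.coboundaries K A V n →
        psi K A V R n (r ⊗ₜ[K] b) ∈ Hoch.coboundaries R (R ⊗[K] A) (R ⊗[K] V) n) ∧
      (∀ x' ∈ Hoch.coboundaries R (R ⊗[K] A) (R ⊗[K] V) n,
        ∃ t : R ⊗[K] (Hoch.coboundaries K A V n),
          psi K A V R n ((Hoch.coboundaries K A V n).subtype.baseChange R t) = x') := by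
  cases n with
  | zero =>
    constructor
    · intro r b hb
      have hb' : b ∈ (⊥ : Submodule K V) := hb
      rw [Submodule.mem_bot] at hb'
      subst hb'
      show _ ∈ (⊥ : Submodule R (R ⊗[K] V))
      rw [Submodule.mem_bot, TensorProduct.tmul_zero, map_zero]
    · intro x' hx'
      have hx'' : x' ∈ (⊥ : Submodule R (R ⊗[K] V)) := hx'
      rw [Submodule.mem_bot] at hx''
      refine ⟨0, ?_⟩
      rw [map_zero, map_zero, hx'']
  | succ n =>
    constructor
    · intro r b hb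
      have hb' : b ∈ LinearMap.range (Hoch.d K A V n) := hb
      obtain ⟨c, rfl⟩ := hb'
      show _ ∈ LinearMap.range (Hoch.d R (R ⊗[K] A) (R ⊗[K] V) n)
      refine ⟨psi K A V R n (r ⊗ₜ[K] c), ?_⟩
      have h := psi_d K A V R n (r ⊗ₜ[K] c)
      rw [LinearMap.baseChange_tmul] at h
      exact h.symm
    · intro x' hx'
      have hx'' : x' ∈ LinearMap.range (Hoch.d R (R ⊗[K] A) (R ⊗[K] V) n) := hx'
      obtain ⟨c', rfl⟩ := hx''
      let t : R ⊗[K] (LinearMap.range (Hoch.d K A V n)) :=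
        (Hoch.d K A V n).rangeRestrict.baseChange R ((psi K A V R n).symm c')
      refine ⟨t, ?_⟩
      have h1 : (LinearMap.range (Hoch.d K A V n)).subtype ∘ₗ (Hoch.d K A V n).rangeRestrict =
          Hoch.d K A V n := LinearMap.ext fun _ => rfl
      have h2 : (LinearMap.range (Hoch.d K A V n)).subtype.baseChange R t =
          (Hoch.d K A V n).baseChange R ((psi K A V R n).symm c') := by
        show (LinearMap.range (Hoch.d K A V n)).subtype.baseChange R
          ((Hoch.d K A V n).rangeRestrict.baseChange R ((psi K A V R n).symm c')) = _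
        rw [Groth.Agent.Lib.Helper6.FlatCohBC.bc_comp_apply, h1]
      show psi K A V R (n + 1) ((LinearMap.range (Hoch.d K A V n)).subtype.baseChange R t) = _
      rw [h2, psi_d, LinearEquiv.apply_symm_apply]

theorem exists_H_equiv (n : ℕ) :
    ∃ e : R ⊗[K] Hoch.H K A V n ≃ₗ[R] Hoch.H R (R ⊗[K] A) (R ⊗[K] V) n,
      ∀ (r : R) (z : Hoch.cocycles K A V n)
        (hz : psi K A V R n (r ⊗ₜ[K] (z : (Hoch.cochain K A V n : Type v))) ∈
          Hoch.cocycles R (R ⊗[K] A) (R ⊗[K] V) n),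
        e (r ⊗ₜ[K] Hoch.H.mk K A V n z) =
          Hoch.H.mk R (R ⊗[K] A) (R ⊗[K] V) n
            ⟨psi K A V R n (r ⊗ₜ[K] (z : (Hoch.cochain K A V n : Type v))), hz⟩ := by
  have hB := coboundaries_cond K A V R n
  exact Groth.Agent.Lib.Helper6.FlatCohBC.exists_equiv_of_flat (Hoch.d K A V n)
    (Hoch.d R (R ⊗[K] A) (R ⊗[K] V) n) (Hoch.cocycles K A V n) (Hoch.coboundaries K A V n)
    (Hoch.cocycles R (R ⊗[K] A) (R ⊗[K] V) n) (Hoch.coboundaries R (R ⊗[K] A) (R ⊗[K] V) n)
    (fun _ => LinearMap.mem_ker) (fun _ => LinearMap.mem_ker)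
    (psi K A V R n) (psi K A V R (n + 1)).toLinearMap (psi K A V R (n + 1)).injective
    (psi_d K A V R n) hB.1 hB.2

end Final

end Groth.Agent.Lib.Helper6.HochBC
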