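import Mathlib
import Groth.Prelude.Def_HopfRep
import Groth.Prelude.Def_Hoch
import Groth.Agent.Lib.Helper12.Kleisli

/-!
# The comodule `Hom_k(V, W)` for comodules over a commutative Hopf algebra over a commutative ring
(`V` finite projective); generalization of `Helper12.HomComod` (same proofs) from fields to rings

Coaction `f ↦ ρ_W ∘ f ∘ ρ_V⁻¹` (Kleisli composition); its invariants are the comodule maps;
precomposition with a comodule map is a comodule map.
-/

set_option autoImplicit false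
set_option linter.unusedSectionVars false
set_option linter.unusedSimpArgs false

open TensorProduct

namespace Groth.Agent.Helper6.HomComodProj

open Groth.Agent.Helper12.Kleisli

variable (k : Type*) [CommRing k] (A : Type*) [CommRing A] [HopfAlgebra k A]
variable (V : Type*) [AddCommGroup V] [Module k V] [HopfRep.Comod k A V] [Module.Finite k V] [Module.Projective k V]
variable (W : Type*) [AddCommGroup W] [Module k W] [HopfRep.Comod k A W]

/-- `M ⊗ B ≃ Hom(V, W ⊗ B)` for `M = Hom(V, W)`, `V` finite-dimensional -/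
noncomputable abbrev Psi (B : Type*) [AddCommGroup B] [Module k B] :
    (V →ₗ[k] W) ⊗[k] B ≃ₗ[k] (V →ₗ[k] W ⊗[k] B) :=
  rTensorHomEquivHomRTensor k V W B

variable {k V W} in
theorem Psi_tmul {B : Type*} [AddCommGroup B] [Module k B] (f : V →ₗ[k] W) (b : B) (v : V) :
    Psi k V W B (f ⊗ₜ b) v = f v ⊗ₜ b := by
  rw [rTensorHomEquivHomRTensor_apply, rTensorHomToHomRTensor_apply]

variable {k V W} in
theorem Psi_lTensor {B B' : Type*} [AddCommGroup B] [Module k B] [AddCommGroup B'] [Module k B']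
    (g : B →ₗ[k] B') (x : (V →ₗ[k] W) ⊗[k] B) :
    Psi k V W B' (g.lTensor (V →ₗ[k] W) x) = g.lTensor W ∘ₗ Psi k V W B x := by
  induction x using TensorProduct.induction_on with
  | zero => simp
  | tmul f b =>
    ext v
    simp [Psi_tmul]
  | add x y hx hy => simp only [map_add, hx, hy, LinearMap.comp_add]

/-- the coaction of `Hom(V, W)`, as a map into `Hom(V, W ⊗ A)` -/
noncomputable def c (f : V →ₗ[k] W) : V →ₗ[k] W ⊗[k] A :=
  (rho k A W ∘ₗ f) ⊚ sigma k A V

/-- `c` as a linear map -/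
noncomputable def cLin : (V →ₗ[k] W) →ₗ[k] (V →ₗ[k] W ⊗[k] A) where
  toFun := c k A V W
  map_add' f g := by
    simp only [c, LinearMap.comp_add, kcomp_add_left]
  map_smul' a f := by
    simp only [c, LinearMap.comp_smul, kcomp_smul_left, RingHom.id_apply]

/-- the coaction of `Hom(V, W)` -/
noncomputable def homCoact : (V →ₗ[k] W) →ₗ[k] (V →ₗ[k] W) ⊗[k] A :=
  (Psi k V W A).symm.toLinearMap ∘ₗ cLin k A V W

theorem Psi_homCoact (f : V →ₗ[k] W) : Psi k V W A (homCoact k A V W f) = c k A V W f := by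
  simp only [homCoact, LinearMap.comp_apply, LinearEquiv.coe_coe, LinearEquiv.apply_symm_apply]
  rfl

theorem kmap_counit_c (f : V →ₗ[k] W) :
    kmap (Bialgebra.counitAlgHom k A) (c k A V W f) = keta k f := by
  rw [c, kmap_kcomp, kmap_counit_sigma, kmap_comp, kmap_counit_rho, kcomp_id]
  rfl

/-- `y ↦ assoc (y ⊗ a)` -/
noncomputable def Ra (a : A) : W ⊗[k] A →ₗ[k] W ⊗[k] (A ⊗[k] A) :=
  (TensorProduct.assoc k W A A).toLinearMap ∘ₗ (TensorProduct.mk k (W ⊗[k] A) A).flip a

variable {k A W} in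
theorem Ra_apply (a : A) (y : W ⊗[k] A) :
    Ra k A W a y = TensorProduct.assoc k W A A (y ⊗ₜ a) := rfl

variable {k A V W} in
theorem Psi_assoc_tmul (y : (V →ₗ[k] W) ⊗[k] A) (a : A) :
    Psi k V W (A ⊗[k] A) (TensorProduct.assoc k (V →ₗ[k] W) A A (y ⊗ₜ a)) =
      Ra k A W a ∘ₗ Psi k V W A y := by
  induction y using TensorProduct.induction_on with
  | zero => simp
  | tmul f b =>
    ext v
    simp [Psi_tmul, Ra_apply]
  | add x y hx hy => simp only [TensorProduct.add_tmul, map_add, hx, hy, LinearMap.comp_add]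

variable {k A W} in
theorem Ra_mu2_aux (a : A) (t : W ⊗[k] A) (b : A) :
    Ra k A W a (mu2 W A (t ⊗ₜ b)) =
      mu2 W (A ⊗[k] A) (Ra k A W a t ⊗ₜ (b ⊗ₜ[k] (1 : A))) := by
  induction t using TensorProduct.induction_on with
  | zero => simp [Ra_apply]
  | tmul w c' => simp [Ra_apply]
  | add t₁ t₂ h₁ h₂ => simp only [TensorProduct.add_tmul, map_add, h₁, h₂]

variable {k A V W} in
theorem Ra_kcomp {U : Type*} [AddCommGroup U] [Module k U] (a : A) (ψ : V →ₗ[k] W ⊗[k] A)
    (φ : U →ₗ[k] V ⊗[k] A) :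
    Ra k A W a ∘ₗ (ψ ⊚ φ) = (Ra k A W a ∘ₗ ψ) ⊚ kmap (p1 k A) φ := by
  have H : Ra k A W a ∘ₗ mu2 W A ∘ₗ ψ.rTensor A =
      mu2 W (A ⊗[k] A) ∘ₗ (Ra k A W a ∘ₗ ψ).rTensor (A ⊗[k] A) ∘ₗ
        (p1 k A).toLinearMap.lTensor V := by
    apply TensorProduct.ext'
    intro v b
    simp only [LinearMap.comp_apply, LinearMap.rTensor_tmul, LinearMap.lTensor_tmul,
      AlgHom.toLinearMap_apply, Algebra.TensorProduct.includeLeft_apply]
    exact Ra_mu2_aux a _ b
  ext u
  exact LinearMap.congr_fun H (φ u)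

variable {k A V W} in
theorem Ra_rho (a : A) (f : V →ₗ[k] W) :
    Ra k A W a ∘ₗ rho k A W ∘ₗ f =
      kmap (p1 k A) (rho k A W) ⊚ kmap (p2 k A) (Psi k V W A (f ⊗ₜ a)) := by
  ext v
  rw [kcomp_apply, kmap_apply, Psi_tmul]
  simp only [LinearMap.comp_apply, LinearMap.lTensor_tmul, AlgHom.toLinearMap_apply,
    Algebra.TensorProduct.includeRight_apply, LinearMap.rTensor_tmul, kmap_apply]
  rw [mu2_p1_aux]
  rfl

/-- the iterated coaction in Kleisli form -/
noncomputable def E (φ : V →ₗ[k] W ⊗[k] A) : V →ₗ[k] W ⊗[k] (A ⊗[k] A) :=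
  (kmap (p1 k A) (rho k A W) ⊚ kmap (p2 k A) φ) ⊚ kmap (p1 k A) (sigma k A V)

theorem E_add (φ φ' : V →ₗ[k] W ⊗[k] A) : E k A V W (φ + φ') = E k A V W φ + E k A V W φ' := by
  simp only [E, kmap_add, kcomp_add_right, kcomp_add_left]

theorem E_zero : E k A V W 0 = 0 := by
  simp only [E, kmap_zero, kcomp_zero_right, kcomp_zero_left]

theorem Psi_assoc_rTensor (x : (V →ₗ[k] W) ⊗[k] A) :
    Psi k V W (A ⊗[k] A) (TensorProduct.assoc k (V →ₗ[k] W) A A
      ((homCoact k A V W).rTensor A x)) = E k A V W (Psi k V W A x) := by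
  induction x using TensorProduct.induction_on with
  | zero => simp [E_zero]
  | tmul f a =>
    rw [LinearMap.rTensor_tmul, Psi_assoc_tmul, Psi_homCoact, c, Ra_kcomp, E]
    congr 1
    exact Ra_rho a f
  | add x y hx hy => simp only [map_add, hx, hy, E_add]

theorem E_c (f : V →ₗ[k] W) :
    E k A V W (c k A V W f) = kmap (Bialgebra.comulAlgHom k A) (c k A V W f) := by
  rw [c, kmap_kcomp, kmap_comul_sigma, kmap_comp, kmap_comul_rho, E, kmap_kcomp, kmap_comp,
    kcomp_comp]
  simp only [kcomp_assoc]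

/-- The comodule structure on `Hom(V, W)`. -/
@[reducible] noncomputable def homComod : HopfRep.Comod k A (V →ₗ[k] W) where
  coact := homCoact k A V W
  coassoc := by
    ext f
    apply (Psi k V W (A ⊗[k] A)).injective
    simp only [LinearMap.comp_apply, LinearEquiv.coe_coe]
    rw [Psi_assoc_rTensor, Psi_homCoact, E_c, Psi_lTensor, Psi_homCoact]
    rfl
  counit_comp := by
    ext f
    apply (Psi k V W k).injective
    simp only [LinearMap.comp_apply]
    rw [Psi_lTensor, Psi_homCoact]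
    have h := kmap_counit_c k A V W f
    rw [kmap, Bialgebra.toLinearMap_counitAlgHom] at h
    rw [h]
    ext v
    simp [Psi_tmul]

/-- invariants of `Hom(V, W)` are comodule maps -/
theorem isComodHom_of_invariant (f : V →ₗ[k] W)
    (hf : homCoact k A V W f = f ⊗ₜ[k] (1 : A)) : Hoch.IsComodHom A f := by
  have h1 : c k A V W f = keta A f := by
    rw [← Psi_homCoact, hf]
    ext v
    simp [Psi_tmul]
  have h2 : (c k A V W f) ⊚ rho k A V = rho k A W ∘ₗ f := by
    rw [c, kcomp_assoc, sigma_kcomp_rho, kcomp_id]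
  rw [h1, keta_kcomp] at h2
  exact h2.symm

/-- comodule maps are invariants of `Hom(V, W)` -/
theorem invariant_of_isComodHom (f : V →ₗ[k] W) (hf : Hoch.IsComodHom A f) :
    homCoact k A V W f = f ⊗ₜ[k] (1 : A) := by
  apply (Psi k V W A).injective
  rw [Psi_homCoact, c]
  have h1 : rho k A W ∘ₗ f = keta A f ⊚ rho k A V := by
    rw [keta_kcomp]
    exact hf
  rw [h1, kcomp_assoc, rho_kcomp_sigma, kcomp_id]
  ext v
  simp [Psi_tmul]

section Precomp

variable (V' : Type*) [AddCommGroup V'] [Module k V'] [HopfRep.Comod k A V'] [Module.Finite k V'] [Module.Projective k V']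

variable {k V W V'} in
theorem Psi_lcomp {B : Type*} [AddCommGroup B] [Module k B] (j : V' →ₗ[k] V)
    (x : (V →ₗ[k] W) ⊗[k] B) :
    Psi k V' W B ((LinearMap.lcomp k W j).rTensor B x) = Psi k V W B x ∘ₗ j := by
  induction x using TensorProduct.induction_on with
  | zero => simp
  | tmul f b =>
    ext v
    simp [Psi_tmul]
  | add x y hx hy => simp only [map_add, hx, hy, LinearMap.add_comp]

variable {V V'} in
theorem sigma_comp (j : V' →ₗ[k] V) (hj : Hoch.IsComodHom A j) :
    sigma k A V ∘ₗ j = j.rTensor A ∘ₗ sigma k A V' := by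
  unfold sigma
  rw [← kmap_comp]
  have h : rho k A V ∘ₗ j = j.rTensor A ∘ₗ rho k A V' := hj
  rw [h, kmap_rTensor_comp]

variable {V V'} in
theorem c_comp (j : V' →ₗ[k] V) (hj : Hoch.IsComodHom A j) (f : V →ₗ[k] W) :
    c k A V' W (f ∘ₗ j) = c k A V W f ∘ₗ j := by
  rw [c, c, kcomp_comp, sigma_comp k A j hj, ← keta_kcomp, ← kcomp_assoc, kcomp_keta,
    LinearMap.comp_assoc]

variable {V V'} in
/-- precomposition with a comodule map is a comodule map `Hom(V, W) → Hom(V', W)` -/
theorem homCoact_lcomp (j : V' →ₗ[k] V) (hj : Hoch.IsComodHom A j) :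
    homCoact k A V' W ∘ₗ LinearMap.lcomp k W j =
      (LinearMap.lcomp k W j).rTensor A ∘ₗ homCoact k A V W := by
  ext f
  apply (Psi k V' W A).injective
  simp only [LinearMap.comp_apply]
  rw [Psi_lcomp, Psi_homCoact, Psi_homCoact]
  exact c_comp k A W j hj f

end Precomp

end Groth.Agent.Helper6.HomComodProj
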