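import Mathlib
import Groth.Agent.Lib.Helper6.HopfEtale

set_option autoImplicit false
universe u v w

/-!
# Extensions of finite flat group schemes: connectedness and étaleness
-/

namespace Groth.Agent.Lib.Helper6.HopfExt

section aug

variable {R : Type u} [CommRing R] {B : Type v} [CommRing B] [Algebra R B]

/-- A formally unramified augmented algebra has idempotent augmentation ideal. -/
theorem augIdeal_sq_eq_of_formallyUnramified (ε : B →ₐ[R] R) [Algebra.FormallyUnramified R B] :
    RingHom.ker ε ^ 2 = RingHom.ker ε := by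
  set I := RingHom.ker ε with hI
  apply le_antisymm (Ideal.pow_le_self (by norm_num))
  intro a ha
  have hle : I ^ 2 ≤ RingHom.ker ε.toRingHom := Ideal.pow_le_self (by norm_num)
  let f : B ⧸ I ^ 2 →+* R := Ideal.Quotient.lift (I ^ 2) ε.toRingHom (fun x hx => hle hx)
  have hf : ∀ x : B, f (Ideal.Quotient.mk (I ^ 2) x) = ε x := fun x => rfl
  have hnil : IsNilpotent (RingHom.ker f) := by
    refine ⟨2, ?_⟩
    rw [Ideal.zero_eq_bot, eq_bot_iff, pow_two (RingHom.ker f), Ideal.mul_le]
    intro x hx y hy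
    obtain ⟨x, rfl⟩ := Ideal.Quotient.mk_surjective x
    obtain ⟨y, rfl⟩ := Ideal.Quotient.mk_surjective y
    rw [RingHom.mem_ker, hf] at hx hy
    rw [Ideal.mem_bot, ← map_mul, Ideal.Quotient.eq_zero_iff_mem, pow_two]
    exact Ideal.mul_mem_mul hx hy
  let g₁ : B →ₐ[R] B ⧸ I ^ 2 := Ideal.Quotient.mkₐ R (I ^ 2)
  let g₂ : B →ₐ[R] B ⧸ I ^ 2 := (Algebra.ofId R (B ⧸ I ^ 2)).comp ε
  have h12 : g₁ = g₂ := by
    apply Algebra.FormallyUnramified.ext' f hnil
    intro x
    show f (Ideal.Quotient.mk (I ^ 2) x) = f (algebraMap R (B ⧸ I ^ 2) (ε x))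
    rw [hf]
    have : algebraMap R (B ⧸ I ^ 2) (ε x) = Ideal.Quotient.mk (I ^ 2) (algebraMap R B (ε x)) := rfl
    rw [this, hf, AlgHom.commutes]
    rfl
  have h3 := DFunLike.congr_fun h12 a
  have h4 : g₂ a = 0 := by
    show algebraMap R (B ⧸ I ^ 2) (ε a) = 0
    have : ε a = 0 := ha
    rw [this, map_zero]
  rw [h4] at h3
  exact Ideal.Quotient.eq_zero_iff_mem.1 h3

end aug

section ext

variable {R : Type u} [CommRing R] {A : Type v} [CommRing A] [HopfAlgebra R A]
  {A'' : Type w} [CommRing A''] [HopfAlgebra R A''] [Algebra A'' A] [IsScalarTower R A'' A]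

theorem map_ker_le_ker
    (hε : (Bialgebra.counitAlgHom R A).comp (IsScalarTower.toAlgHom R A'' A) =
      Bialgebra.counitAlgHom R A'') :
    (RingHom.ker (Bialgebra.counitAlgHom R A'')).map (algebraMap A'' A) ≤
      RingHom.ker (Bialgebra.counitAlgHom R A) := by
  rw [Ideal.map_le_iff_le_comap]
  intro c hc
  rw [Ideal.mem_comap, RingHom.mem_ker]
  have h := DFunLike.congr_fun hε c
  rw [RingHom.mem_ker] at hc
  rw [hc] at h
  exact h

/-- If kernel and quotient are unramified then the augmentation ideal of the extension is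
idempotent. -/
theorem augIdeal_sq_of_ext
    (hε : (Bialgebra.counitAlgHom R A).comp (IsScalarTower.toAlgHom R A'' A) =
      Bialgebra.counitAlgHom R A'')
    (h1 : RingHom.ker (Bialgebra.counitAlgHom R A'') ^ 2 = RingHom.ker (Bialgebra.counitAlgHom R A''))
    [Algebra.FormallyUnramified R
      (A ⧸ (RingHom.ker (Bialgebra.counitAlgHom R A'')).map (algebraMap A'' A))] :
    RingHom.ker (Bialgebra.counitAlgHom R A) ^ 2 = RingHom.ker (Bialgebra.counitAlgHom R A) := by
  set I'' := RingHom.ker (Bialgebra.counitAlgHom R A'') with hI''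
  set J := I''.map (algebraMap A'' A) with hJ
  set I := RingHom.ker (Bialgebra.counitAlgHom R A) with hI
  have hJI : J ≤ I := map_ker_le_ker hε
  have hJ2 : J ≤ I ^ 2 := by
    calc J = (I'' ^ 2).map (algebraMap A'' A) := by rw [h1]
      _ = J ^ 2 := Ideal.map_pow _ _ _
      _ ≤ I ^ 2 := Ideal.pow_right_mono hJI 2
  let εbar : A ⧸ J →ₐ[R] R := Ideal.Quotient.liftₐ J (Bialgebra.counitAlgHom R A)
    (fun a ha => hJI ha)
  have hεbar : ∀ a : A, εbar (Ideal.Quotient.mk J a) = Bialgebra.counitAlgHom R A a := fun a => rfl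
  have h2 := augIdeal_sq_eq_of_formallyUnramified εbar
  apply le_antisymm (Ideal.pow_le_self (by norm_num))
  intro a ha
  have hker : RingHom.ker εbar = I.map (Ideal.Quotient.mk J) := by
    apply le_antisymm
    · intro y hy
      obtain ⟨b, rfl⟩ := Ideal.Quotient.mk_surjective y
      rw [RingHom.mem_ker, hεbar] at hy
      exact Ideal.mem_map_of_mem _ hy
    · rw [Ideal.map_le_iff_le_comap]
      intro b hb
      rw [Ideal.mem_comap, RingHom.mem_ker, hεbar]
      exact hb
  have h3 : Ideal.Quotient.mk J a ∈ RingHom.ker εbar ^ 2 := by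
    rw [h2, hker]
    exact Ideal.mem_map_of_mem _ ha
  rw [hker, ← Ideal.map_pow, Ideal.mem_map_iff_of_surjective _ Ideal.Quotient.mk_surjective] at h3
  obtain ⟨b, hb, hab⟩ := h3
  have h4 : a - b ∈ J := by
    rw [← Ideal.Quotient.eq_zero_iff_mem, map_sub, hab, sub_self]
  have h5 : a = (a - b) + b := by ring
  rw [h5]
  exact Ideal.add_mem _ (hJ2 h4) hb

/-- An extension of connected groups is connected. -/
theorem isLocalRing_of_ext [Nontrivial R] [Algebra.IsIntegral A'' A]
    (hε : (Bialgebra.counitAlgHom R A).comp (IsScalarTower.toAlgHom R A'' A) =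
      Bialgebra.counitAlgHom R A'')
    [IsLocalRing A'']
    [IsLocalRing (A ⧸ (RingHom.ker (Bialgebra.counitAlgHom R A'')).map (algebraMap A'' A))] :
    IsLocalRing A := by
  set I'' := RingHom.ker (Bialgebra.counitAlgHom R A'') with hI''
  set J := I''.map (algebraMap A'' A) with hJ
  have hI''ne : I'' ≠ ⊤ := by
    intro htop
    have h1 : (1 : A'') ∈ I'' := by rw [htop]; exact Submodule.mem_top
    rw [hI'', RingHom.mem_ker, map_one] at h1
    exact one_ne_zero h1
  have hI''le : I'' ≤ IsLocalRing.maximalIdeal A'' := IsLocalRing.le_maximalIdeal hI''ne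
  haveI : Nontrivial A := by
    have : Nontrivial (A ⧸ J) := inferInstance
    exact (Ideal.Quotient.mk J).domain_nontrivial
  set N := IsLocalRing.maximalIdeal (A ⧸ J) with hN
  set M0 := N.comap (Ideal.Quotient.mk J) with hM0
  have hM0max : M0.IsMaximal := Ideal.comap_isMaximal_of_surjective _ Ideal.Quotient.mk_surjective
  apply IsLocalRing.of_unique_max_ideal
  refine ⟨M0, hM0max, ?_⟩
  intro M hM
  haveI := hM
  -- the contraction of `M` is the maximal ideal of `A''`
  have hc : (M.comap (algebraMap A'' A)).IsMaximal :=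
    Ideal.isMaximal_comap_of_isIntegral_of_isMaximal M
  have hc2 : M.comap (algebraMap A'' A) = IsLocalRing.maximalIdeal A'' :=
    IsLocalRing.eq_maximalIdeal hc
  have hJM : J ≤ M := by
    rw [hJ, Ideal.map_le_iff_le_comap, hc2]
    exact hI''le
  have hne : M.map (Ideal.Quotient.mk J) ≠ ⊤ := by
    intro htop
    have h1 : (Ideal.Quotient.mk J (1 : A)) ∈ M.map (Ideal.Quotient.mk J) := by
      rw [htop]; exact Submodule.mem_top
    rw [Ideal.mem_map_iff_of_surjective _ Ideal.Quotient.mk_surjective] at h1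
    obtain ⟨b, hb, hb1⟩ := h1
    have h2 : b - 1 ∈ J := by
      rw [← Ideal.Quotient.eq_zero_iff_mem, map_sub, hb1, sub_self]
    have h3 : (1 : A) ∈ M := by
      have : (1 : A) = b - (b - 1) := by ring
      rw [this]
      exact Ideal.sub_mem _ hb (hJM h2)
    exact hM.ne_top ((Ideal.eq_top_iff_one M).2 h3)
  have hle : M ≤ M0 := by
    intro x hx
    rw [hM0, Ideal.mem_comap]
    exact IsLocalRing.le_maximalIdeal hne (Ideal.mem_map_of_mem _ hx)
  exact hM.eq_of_le hM0max.ne_top hle

end ext

end Groth.Agent.Lib.Helper6.HopfExt
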