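import Mathlib
import Groth.Agent.Lib.Helper6.HopfExt

set_option autoImplicit false
universe u v w

/-!
# Splitting of an extension of a connected group by an étale group: `G⁰ ≅ G''`
-/

namespace Groth.Agent.Lib.Helper6.HopfExt

section split

variable {R : Type u} [CommRing R] [Nontrivial R] {A : Type v} [CommRing A] [HopfAlgebra R A]
  {A'' : Type w} [CommRing A''] [HopfAlgebra R A''] [Algebra A'' A] [IsScalarTower R A'' A]

/-- Step (a): the unit component meets the étale kernel trivially: `e · I_A ⊆ J`. -/
theorem idem_mul_mem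
    (hε : (Bialgebra.counitAlgHom R A).comp (IsScalarTower.toAlgHom R A'' A) =
      Bialgebra.counitAlgHom R A'')
    [IsNoetherianRing A]
    [Algebra.FormallyUnramified R
      (A ⧸ (RingHom.ker (Bialgebra.counitAlgHom R A'')).map (algebraMap A'' A))]
    (e : A) (he : IsIdempotentElem e) (heε : Bialgebra.counitAlgHom R A e = 1)
    [IsLocalRing (A ⧸ Ideal.span ({1 - e} : Set A))]
    (x : A) (hx : x ∈ RingHom.ker (Bialgebra.counitAlgHom R A)) :
    e * x ∈ (RingHom.ker (Bialgebra.counitAlgHom R A'')).map (algebraMap A'' A) := by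
  set I'' := RingHom.ker (Bialgebra.counitAlgHom R A'') with hI''
  set J := I''.map (algebraMap A'' A) with hJ
  set I := RingHom.ker (Bialgebra.counitAlgHom R A) with hI
  have hJI : J ≤ I := map_ker_le_ker hε
  let εbar : A ⧸ J →ₐ[R] R := Ideal.Quotient.liftₐ J (Bialgebra.counitAlgHom R A)
    (fun a ha => hJI ha)
  have hεbar : ∀ a : A, εbar (Ideal.Quotient.mk J a) = Bialgebra.counitAlgHom R A a := fun a => rfl
  have h2 := augIdeal_sq_eq_of_formallyUnramified εbar
  have hfg : (RingHom.ker εbar).FG := IsNoetherian.noetherian _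
  have hidem : IsIdempotentElem (RingHom.ker εbar) := by
    show RingHom.ker εbar * RingHom.ker εbar = RingHom.ker εbar
    rw [← pow_two]; exact h2
  obtain ⟨f, hf, hIf⟩ := (Ideal.isIdempotentElem_iff_of_fg _ hfg).1 hidem
  have hfmem : f ∈ RingHom.ker εbar := by rw [hIf]; exact Ideal.mem_span_singleton_self f
  have hεf : εbar f = 0 := hfmem
  set eb : A ⧸ J := Ideal.Quotient.mk J e with heb
  have hebidem : eb * eb = eb := by rw [heb, ← map_mul, he.eq]
  have hεeb : εbar eb = 1 := by rw [heb, hεbar, heε]
  have hff : f * f = f := hf.eq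
  -- Claim 1
  have claim1 : eb * (1 - f) = 1 - f := by
    have hmem : eb * (1 - f) - (1 - f) ∈ RingHom.ker εbar := by
      rw [RingHom.mem_ker, map_sub, map_mul, map_sub, map_one, hεf, hεeb]
      ring
    rw [hIf, Ideal.mem_span_singleton'] at hmem
    obtain ⟨y, hy⟩ := hmem
    have h3 : eb * (1 - f) - (1 - f) = (eb * (1 - f) - (1 - f)) * (1 - f) := by
      have : (1 - f) * (1 - f) = 1 - f := by
        have : (1 - f) * (1 - f) = 1 - 2 * f + f * f := by ring
        rw [this, hff]; ring
      calc eb * (1 - f) - (1 - f) = eb * ((1 - f) * (1 - f)) - (1 - f) * (1 - f) := by rw [this]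
        _ = _ := by ring
    have h4 : eb * (1 - f) - (1 - f) = 0 := by
      rw [h3, ← hy]
      have : y * f * (1 - f) = y * (f - f * f) := by ring
      rw [this, hff, sub_self, mul_zero]
    exact sub_eq_zero.1 h4
  -- Claim 2
  have claim2 : eb * f = 0 := by
    obtain ⟨a, ha⟩ := Ideal.Quotient.mk_surjective f
    rcases IsLocalRing.isUnit_or_isUnit_one_sub_self
      (Ideal.Quotient.mk (Ideal.span ({1 - e} : Set A)) a) with hu | hu
    · exfalso
      obtain ⟨u', hu'⟩ := hu.exists_right_inv
      obtain ⟨u, rfl⟩ := Ideal.Quotient.mk_surjective u'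
      rw [← map_mul, ← map_one (Ideal.Quotient.mk (Ideal.span ({1 - e} : Set A))),
        Ideal.Quotient.eq, Ideal.mem_span_singleton'] at hu'
      obtain ⟨v, hv⟩ := hu'
      have h5 := congrArg (Ideal.Quotient.mk J) hv
      rw [map_mul, map_sub, map_sub, map_one, map_mul, ha, ← heb] at h5
      -- h5 : mk v * (1 - eb) = f * mk u - 1
      have h6 : eb * (1 - f) * (Ideal.Quotient.mk J v * (1 - eb)) =
          eb * (1 - f) * (f * Ideal.Quotient.mk J u - 1) := by rw [h5]
      have h7 : eb * (1 - f) * (Ideal.Quotient.mk J v * (1 - eb)) = 0 := by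
        have : eb * (1 - f) * (Ideal.Quotient.mk J v * (1 - eb)) =
            (eb - eb * eb) * ((1 - f) * Ideal.Quotient.mk J v) := by ring
        rw [this, hebidem, sub_self, zero_mul]
      have h8 : eb * (1 - f) * (f * Ideal.Quotient.mk J u - 1) = -(eb * (1 - f)) := by
        have : eb * (1 - f) * (f * Ideal.Quotient.mk J u - 1) =
            eb * Ideal.Quotient.mk J u * (f - f * f) - eb * (1 - f) := by ring
        rw [this, hff, sub_self, mul_zero, zero_sub]
      rw [h7, h8, claim1] at h6
      have h9 : (1 : A ⧸ J) - f = 0 := by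
        have := h6.symm
        rwa [neg_eq_zero] at this
      have h10 := congrArg εbar h9
      rw [map_sub, map_one, hεf, sub_zero, map_zero] at h10
      exact one_ne_zero h10
    · obtain ⟨u', hu'⟩ := hu.exists_right_inv
      obtain ⟨u, rfl⟩ := Ideal.Quotient.mk_surjective u'
      rw [← map_one (Ideal.Quotient.mk (Ideal.span ({1 - e} : Set A))), ← map_sub, ← map_mul,
        Ideal.Quotient.eq, Ideal.mem_span_singleton'] at hu'
      obtain ⟨v, hv⟩ := hu'
      have h5 := congrArg (Ideal.Quotient.mk J) hv
      rw [map_mul, map_sub, map_sub, map_one, map_mul, map_sub, map_one, ha, ← heb] at h5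
      -- h5 : mk v * (1 - eb) = (1 - f) * mk u - 1
      have h6 : eb * f * (Ideal.Quotient.mk J v * (1 - eb)) =
          eb * f * ((1 - f) * Ideal.Quotient.mk J u - 1) := by rw [h5]
      have h7 : eb * f * (Ideal.Quotient.mk J v * (1 - eb)) = 0 := by
        have : eb * f * (Ideal.Quotient.mk J v * (1 - eb)) =
            (eb - eb * eb) * (f * Ideal.Quotient.mk J v) := by ring
        rw [this, hebidem, sub_self, zero_mul]
      have h8 : eb * f * ((1 - f) * Ideal.Quotient.mk J u - 1) = -(eb * f) := by
        have : eb * f * ((1 - f) * Ideal.Quotient.mk J u - 1) =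
            eb * Ideal.Quotient.mk J u * (f - f * f) - eb * f := by ring
        rw [this, hff, sub_self, mul_zero, zero_sub]
      rw [h7, h8] at h6
      have := h6.symm
      rwa [neg_eq_zero] at this
  -- conclusion
  rw [← Ideal.Quotient.eq_zero_iff_mem, map_mul, ← heb]
  have hxmem : Ideal.Quotient.mk J x ∈ RingHom.ker εbar := by
    rw [RingHom.mem_ker, hεbar]; exact hx
  rw [hIf, Ideal.mem_span_singleton'] at hxmem
  obtain ⟨y, hy⟩ := hxmem
  rw [← hy]
  have : eb * (y * f) = y * (eb * f) := by ring
  rw [this, claim2, mul_zero]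

end split

section bij

variable {R : Type u} [CommRing R] [Nontrivial R] {A : Type v} [CommRing A] [HopfAlgebra R A]
  {A'' : Type w} [CommRing A''] [HopfAlgebra R A''] [Algebra A'' A] [IsScalarTower R A'' A]

/-- `G⁰ → G''` is an isomorphism when `G''` is connected and the kernel is étale. -/
theorem bijective_of_ext
    (hε : (Bialgebra.counitAlgHom R A).comp (IsScalarTower.toAlgHom R A'' A) =
      Bialgebra.counitAlgHom R A'')
    [IsNoetherianRing A] [Module.Finite A'' A] [Module.Flat A'' A] [IsLocalRing A'']
    [Algebra.FormallyUnramified R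
      (A ⧸ (RingHom.ker (Bialgebra.counitAlgHom R A'')).map (algebraMap A'' A))]
    (e : A) (he : IsIdempotentElem e) (heε : Bialgebra.counitAlgHom R A e = 1)
    [IsLocalRing (A ⧸ Ideal.span ({1 - e} : Set A))] :
    Function.Bijective (algebraMap A'' (A ⧸ Ideal.span ({1 - e} : Set A))) := by
  set I'' := RingHom.ker (Bialgebra.counitAlgHom R A'') with hI''
  set J := I''.map (algebraMap A'' A) with hJ
  set K := Ideal.span ({1 - e} : Set A) with hK
  have hI''ne : I'' ≠ ⊤ := by
    intro htop
    have h1 : (1 : A'') ∈ I'' := by rw [htop]; exact Submodule.mem_top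
    rw [hI'', RingHom.mem_ker, map_one] at h1
    exact one_ne_zero h1
  have hI''le : I'' ≤ IsLocalRing.maximalIdeal A'' := IsLocalRing.le_maximalIdeal hI''ne
  haveI : Module.Finite A'' (A ⧸ K) :=
    Module.Finite.of_surjective ((Ideal.Quotient.mkₐ A'' K).toLinearMap)
      Ideal.Quotient.mk_surjective
  constructor
  · -- injectivity: finite flat nonzero over a local ring
    haveI : IsLocalization.Away e (A ⧸ K) := IsLocalization.Away.quotient_of_isIdempotentElem he
    haveI : Module.Flat A (A ⧸ K) := IsLocalization.flat (A ⧸ K) (Submonoid.powers e)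
    haveI : Module.Flat A'' (A ⧸ K) := Module.Flat.trans A'' A (A ⧸ K)
    haveI : Module.Free A'' (A ⧸ K) := Module.free_of_flat_of_isLocalRing
    exact FaithfulSMul.algebraMap_injective A'' (A ⧸ K)
  · -- surjectivity: Nakayama
    have hsurj : (⊤ : Submodule A'' (A ⧸ K)) ≤ LinearMap.range (Algebra.linearMap A'' (A ⧸ K)) := by
      apply Submodule.le_of_le_smul_of_le_jacobson_bot (I := IsLocalRing.maximalIdeal A'')
        Module.Finite.fg_top
      · rw [IsLocalRing.jacobson_eq_maximalIdeal ⊥ bot_ne_top]
      · intro y _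
        obtain ⟨a, rfl⟩ := Ideal.Quotient.mk_surjective y
        set x := a - algebraMap R A (Bialgebra.counitAlgHom R A a) with hx
        have hxI : x ∈ RingHom.ker (Bialgebra.counitAlgHom R A) := by
          rw [RingHom.mem_ker, hx, map_sub, AlgHom.commutes]
          exact sub_self _
        have hex : e * x ∈ J := idem_mul_mem hε e he heε x hxI
        have h1 : Ideal.Quotient.mk K a =
            Ideal.Quotient.mk K (algebraMap R A (Bialgebra.counitAlgHom R A a)) +
              Ideal.Quotient.mk K (e * x) := by
          rw [← map_add, Ideal.Quotient.eq, hK, Ideal.mem_span_singleton']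
          refine ⟨x, ?_⟩
          rw [hx]; ring
        rw [h1]
        apply Submodule.add_mem_sup
        · refine ⟨algebraMap R A'' (Bialgebra.counitAlgHom R A a), ?_⟩
          rw [Algebra.linearMap_apply, IsScalarTower.algebraMap_apply R A'' A]
          rfl
        · have h2 : e * x ∈ (I'' • (⊤ : Submodule A'' A)) := by
            rw [Ideal.smul_top_eq_map]
            exact hex
          have key : ∀ z ∈ (I'' • (⊤ : Submodule A'' A)),
              Ideal.Quotient.mk K z ∈ IsLocalRing.maximalIdeal A'' • (⊤ : Submodule A'' (A ⧸ K)) := by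
            intro z hz
            refine Submodule.smul_induction_on hz ?_ ?_
            · intro c hc b _
              have : Ideal.Quotient.mk K (c • b) = c • Ideal.Quotient.mk K b := by
                rw [Algebra.smul_def, map_mul, Algebra.smul_def]
                rfl
              rw [this]
              exact Submodule.smul_mem_smul (hI''le hc) Submodule.mem_top
            · intro z w hz hw
              rw [map_add]
              exact Submodule.add_mem _ hz hw
          exact key _ h2
    intro y
    obtain ⟨c, hc⟩ := hsurj (Submodule.mem_top (x := y))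
    exact ⟨c, hc⟩

end bij

end Groth.Agent.Lib.Helper6.HopfExt
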