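import Mathlib
import Groth.Agent.Lib.Helper6.HtOneField
import Groth.Agent.Lib.Helper6.TruncPoly

set_option autoImplicit false
universe u v

/-!
# Flat Hopf algebras of height at most one over a local ring of characteristic `p`
are truncated polynomial algebras
-/

namespace Groth.Agent.Lib.Helper6.HtOneLocal

open MvPolynomial TensorProduct IsLocalRing

variable (p : ℕ) [Fact p.Prime] (R : Type u) [CommRing R] [IsLocalRing R] [CharP R p]
  (A : Type v) [CommRing A] [HopfAlgebra R A]

/-- integrality of a Hopf algebra of height at most one -/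
theorem isIntegral_of_height_one
    (h1 : ∀ a : A, Bialgebra.counitAlgHom R A a = 0 → a ^ p = 0) : Algebra.IsIntegral R A := by
  refine ⟨fun a => ?_⟩
  have h : a = algebraMap R A (Bialgebra.counitAlgHom R A a) +
      (a - algebraMap R A (Bialgebra.counitAlgHom R A a)) := by ring
  rw [h]
  refine IsIntegral.add isIntegral_algebraMap ?_
  have h0 : Bialgebra.counitAlgHom R A (a - algebraMap R A (Bialgebra.counitAlgHom R A a)) = 0 := by
    rw [map_sub, AlgHom.commutes, Algebra.algebraMap_self, RingHom.id_apply, sub_self]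
  have hp : 0 < p := (Fact.out : p.Prime).pos
  apply IsIntegral.of_pow hp
  rw [h1 _ h0]
  exact isIntegral_zero

theorem counit_one_tmul (a : A) :
    Bialgebra.counitAlgHom (ResidueField R) (ResidueField R ⊗[R] A) ((1 : ResidueField R) ⊗ₜ[R] a) =
      residue R (Bialgebra.counitAlgHom R A a) := by
  show Coalgebra.counit (R := ResidueField R) ((1 : ResidueField R) ⊗ₜ[R] a) = _
  rw [TensorProduct.counit_tmul]
  show Coalgebra.counit (R := R) a • (1 : ResidueField R) = _
  rw [Algebra.smul_def, mul_one]
  rfl

theorem exists_algEquiv [Algebra.FiniteType R A] [Module.Flat R A]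
    (h1 : ∀ a : A, Bialgebra.counitAlgHom R A a = 0 → a ^ p = 0) :
    ∃ n : ℕ, Nonempty (A ≃ₐ[R] (MvPolynomial (Fin n) R ⧸
      Ideal.span (Set.range fun i : Fin n => (MvPolynomial.X i : MvPolynomial (Fin n) R) ^ p))) := by
  classical
  have hp : p.Prime := Fact.out
  haveI : Algebra.IsIntegral R A := isIntegral_of_height_one p R A h1
  haveI hfin : Module.Finite R A := Algebra.IsIntegral.finite
  -- the residue field has characteristic `p`
  haveI : CharP (ResidueField R) p := by
    rw [CharP.charP_iff_prime_eq_zero hp]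
    have : ((p : R) : R) = 0 := CharP.cast_eq_zero R p
    have h2 := congrArg (residue R) this
    rwa [map_natCast, map_zero] at h2
  -- every element of the special fibre is of the form `1 ⊗ a`
  have hmk : Function.Surjective (TensorProduct.mk R (ResidueField R) A 1) :=
    TensorProduct.mk_surjective R A (ResidueField R) Ideal.Quotient.mk_surjective
  -- elements of the augmentation ideal of the fibre lift to the augmentation ideal
  have hlift : ∀ f : ResidueField R ⊗[R] A,
      Bialgebra.counitAlgHom (ResidueField R) (ResidueField R ⊗[R] A) f = 0 →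
      ∃ a : A, Bialgebra.counitAlgHom R A a = 0 ∧ (1 : ResidueField R) ⊗ₜ[R] a = f := by
    intro f hf
    obtain ⟨a, rfl⟩ := hmk f
    refine ⟨a - algebraMap R A (Bialgebra.counitAlgHom R A a), ?_, ?_⟩
    · rw [map_sub, AlgHom.commutes, Algebra.algebraMap_self, RingHom.id_apply, sub_self]
    · change Bialgebra.counitAlgHom (ResidueField R) (ResidueField R ⊗[R] A)
        ((1 : ResidueField R) ⊗ₜ[R] a) = 0 at hf
      rw [counit_one_tmul] at hf
      rw [TensorProduct.tmul_sub]
      have h2 : (1 : ResidueField R) ⊗ₜ[R] (algebraMap R A (Bialgebra.counitAlgHom R A a)) =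
          (0 : ResidueField R ⊗[R] A) := by
        rw [Algebra.algebraMap_eq_smul_one, ← TensorProduct.smul_tmul, Algebra.smul_def, mul_one]
        have : algebraMap R (ResidueField R) (Bialgebra.counitAlgHom R A a) = 0 := hf
        rw [this, TensorProduct.zero_tmul]
      rw [h2, sub_zero]
      rfl
  have h1κ : ∀ f : ResidueField R ⊗[R] A,
      Bialgebra.counitAlgHom (ResidueField R) (ResidueField R ⊗[R] A) f = 0 → f ^ p = 0 := by
    intro f hf
    obtain ⟨a, ha, rfl⟩ := hlift f hf
    rw [Algebra.TensorProduct.tmul_pow, h1 a ha, TensorProduct.tmul_zero]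
  obtain ⟨n, xbar, hxbar, hli, hsp⟩ : ∃ (n : ℕ) (xbar : Fin n → ResidueField R ⊗[R] A),
      (∀ i, Bialgebra.counitAlgHom (ResidueField R) (ResidueField R ⊗[R] A) (xbar i) = 0) ∧
      LinearIndependent (ResidueField R) (fun β : Fin n → Fin p => ∏ i, xbar i ^ (β i : ℕ)) ∧
      ⊤ ≤ Submodule.span (ResidueField R)
        (Set.range (fun β : Fin n → Fin p => ∏ i, xbar i ^ (β i : ℕ))) :=
    ⟨_, HtOneField.exists_gens (k := ResidueField R) p (A := ResidueField R ⊗[R] A) h1κ⟩
  choose x hx0 hx using fun i => hlift (xbar i) (hxbar i)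
  let v : (Fin n → Fin p) → A := fun β => ∏ i, x i ^ (β i : ℕ)
  have hv : (TensorProduct.mk R (ResidueField R) A 1 ∘ v) = fun β : Fin n → Fin p =>
      ∏ i, xbar i ^ (β i : ℕ) := by
    funext β
    show (1 : ResidueField R) ⊗ₜ[R] (∏ i, x i ^ (β i : ℕ)) = _
    have h2 : ∀ a : A, (1 : ResidueField R) ⊗ₜ[R] a =
        (Algebra.TensorProduct.includeRight : A →ₐ[R] ResidueField R ⊗[R] A) a := fun a => rfl
    rw [h2, map_prod]
    refine Finset.prod_congr rfl (fun i _ => ?_)
    rw [map_pow, ← h2, hx]
  have hbij : Function.Bijective (Finsupp.linearCombination (ResidueField R)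
      (TensorProduct.mk R (ResidueField R) A 1 ∘ v)) := by
    rw [hv]
    refine ⟨hli, ?_⟩
    rw [← LinearMap.range_eq_top, Finsupp.range_linearCombination]
    exact top_le_iff.1 hsp
  have hbijR := Module.IsLocalRing.linearCombination_bijective_of_flat v hbij
  have hliR : LinearIndependent R v := hbijR.1
  have hspR : ⊤ ≤ Submodule.span R (Set.range v) := by
    rw [← Finsupp.range_linearCombination, LinearMap.range_eq_top.2 hbijR.2]
  exact ⟨n, TruncPoly.nonempty_algEquiv x (fun i => h1 _ (hx0 i)) hliR hspR⟩

end Groth.Agent.Lib.Helper6.HtOneLocal
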