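import Groth.Agent.Lib.Helper6.KRCotC

/-!
# The Jacobian determinant annihilates `Ext^1(NL, N)`: algebra and two-term complexes (helper6)
-/

set_option autoImplicit false
set_option linter.style.haveILetI false

open MvPolynomial CategoryTheory CategoryTheory.Limits HomologicalComplex
open Groth.Agent.Helper6.NLDbl

attribute [local instance] HasDerivedCategory.standard

universe u

namespace Groth.Agent.Helper6.JacNL

section Alg

variable {R S : Type u} [CommRing R] [CommRing S] [Algebra R S] {n m : ℕ}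
  (G : Algebra.Generators R S (Fin n)) (s : Fin m → G.toExtension.Ring)
  (hs : Ideal.span (Set.range s) = G.toExtension.ker)

/-- the classes of the `s j` in `I/I²` -/
noncomputable def kap (j : Fin m) : G.toExtension.Cotangent :=
  Algebra.Extension.Cotangent.mk ⟨s j, hs.le (Ideal.subset_span ⟨j, rfl⟩)⟩

theorem span_kap : Submodule.span S (Set.range (kap G s hs)) = ⊤ :=
  Algebra.Extension.Cotangent.span_eq_top_of_span_eq_ker s hs

/-- the Jacobian matrix -/
noncomputable def jac : Matrix (Fin n) (Fin m) S :=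
  fun i j => aeval G.val (pderiv i (s j))

theorem d_kap (j : Fin m) :
    G.toExtension.cotangentComplex (kap G s hs j) =
      ∑ i, jac G s i j • G.cotangentSpaceBasis i := by
  rw [← G.cotangentSpaceBasis.sum_repr (G.toExtension.cotangentComplex (kap G s hs j))]
  refine Finset.sum_congr rfl (fun i _ => ?_)
  congr 1
  rw [kap, Algebra.Extension.cotangentComplex_mk]
  exact G.cotangentSpaceBasis_repr_one_tmul _ i

/-- the map `S^n → I/I²` attached to an `m × n` matrix -/
noncomputable def hE (E : Matrix (Fin m) (Fin n) S) :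
    G.toExtension.CotangentSpace →ₗ[S] G.toExtension.Cotangent :=
  G.cotangentSpaceBasis.constr S (fun i => ∑ k, E k i • kap G s hs k)

theorem hE_basis (E : Matrix (Fin m) (Fin n) S) (i : Fin n) :
    hE G s hs E (G.cotangentSpaceBasis i) = ∑ k, E k i • kap G s hs k :=
  G.cotangentSpaceBasis.constr_basis S _ i

theorem hE_d_kap (E : Matrix (Fin m) (Fin n) S) (j : Fin m) :
    hE G s hs E (G.toExtension.cotangentComplex (kap G s hs j)) =
      ∑ k, (E * jac G s) k j • kap G s hs k := by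
  rw [d_kap, map_sum]
  simp only [map_smul, hE_basis, Finset.smul_sum, smul_smul]
  rw [Finset.sum_comm]
  refine Finset.sum_congr rfl (fun k _ => ?_)
  rw [← Finset.sum_smul, Matrix.mul_apply]
  congr 1
  exact Finset.sum_congr rfl (fun i _ => mul_comm _ _)

theorem d_hE_basis (E : Matrix (Fin m) (Fin n) S) (i : Fin n) :
    G.toExtension.cotangentComplex (hE G s hs E (G.cotangentSpaceBasis i)) =
      ∑ l, (jac G s * E) l i • G.cotangentSpaceBasis l := by
  rw [hE_basis, map_sum]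
  simp only [map_smul, d_kap, Finset.smul_sum, smul_smul]
  rw [Finset.sum_comm]
  refine Finset.sum_congr rfl (fun l _ => ?_)
  rw [← Finset.sum_smul, Matrix.mul_apply]
  congr 1
  exact Finset.sum_congr rfl (fun k _ => mul_comm _ _)

theorem hE_comp_d (E : Matrix (Fin m) (Fin n) S) (γ : S)
    (hγ : E * jac G s = γ • (1 : Matrix (Fin m) (Fin m) S)) :
    hE G s hs E ∘ₗ G.toExtension.cotangentComplex = γ • LinearMap.id := by
  apply LinearMap.ext_on (span_kap G s hs)
  rintro _ ⟨j, rfl⟩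
  rw [LinearMap.comp_apply, hE_d_kap, hγ, LinearMap.smul_apply, LinearMap.id_apply]
  rw [Finset.sum_eq_single j]
  · simp [Matrix.smul_apply]
  · intro k _ hk
    simp [Matrix.smul_apply, Matrix.one_apply_ne hk]
  · intro h
    exact absurd (Finset.mem_univ j) h

theorem d_comp_hE (E : Matrix (Fin m) (Fin n) S) (γ : S)
    (hγ : jac G s * E = γ • (1 : Matrix (Fin n) (Fin n) S)) :
    G.toExtension.cotangentComplex ∘ₗ hE G s hs E = γ • LinearMap.id := by
  apply G.cotangentSpaceBasis.ext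
  intro i
  rw [LinearMap.comp_apply, d_hE_basis, hγ, LinearMap.smul_apply, LinearMap.id_apply]
  rw [Finset.sum_eq_single i]
  · simp [Matrix.smul_apply]
  · intro k _ hk
    simp [Matrix.smul_apply, Matrix.one_apply_ne hk]
  · intro h
    exact absurd (Finset.mem_univ i) h

end Alg

section Derived

variable {B : Type u} [CommRing B] {M₁ M₀ : ModuleCat.{u} B} (d : M₁ ⟶ M₀) (h : M₀ ⟶ M₁) (γ : B)

theorem smul_comm_sq : (γ • 𝟙 M₁) ≫ d = d ≫ (γ • 𝟙 M₀) := by
  rw [Linear.smul_comp, Linear.comp_smul, Category.id_comp, Category.comp_id]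

theorem smul_id_dbl :
    γ • 𝟙 (dbl d) = dmap (γ • 𝟙 M₁) (γ • 𝟙 M₀) (smul_comm_sq d γ) := by
  apply from_double_hom_ext
  · rw [dmap_f₀, HomologicalComplex.smul_f_apply, HomologicalComplex.id_f, Linear.smul_comp,
      Linear.comp_smul, Category.id_comp, Iso.hom_inv_id]
  · rw [dmap_f₁, HomologicalComplex.smul_f_apply, HomologicalComplex.id_f, Linear.smul_comp,
      Linear.comp_smul, Category.id_comp, Iso.hom_inv_id]

theorem dmap_zero_zero (c : (0 : M₁ ⟶ M₁) ≫ d = d ≫ (0 : M₀ ⟶ M₀)) :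
    dmap (f := d) (g := d) 0 0 c = 0 := by
  apply from_double_hom_ext
  · rw [dmap_f₀]
    simp
  · rw [dmap_f₁]
    simp

theorem smul_id_Q_eq_zero (hd : d ≫ h = γ • 𝟙 M₁) (hd' : h ≫ d = γ • 𝟙 M₀) :
    γ • 𝟙 (DerivedCategory.Q.obj (dbl d)) = 0 := by
  have H : Homotopy (dmap (γ • 𝟙 M₁) (γ • 𝟙 M₀) (smul_comm_sq d γ))
      (dmap (f := d) (g := d) 0 0 (by simp)) :=
    dhomotopy _ _ h (by rw [hd, add_zero]) (by rw [hd', add_zero])
  rw [← CategoryTheory.Functor.map_id, ← CategoryTheory.Functor.map_smul, smul_id_dbl,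
    DerivedCategory.Q_map_eq_of_homotopy _ H, dmap_zero_zero, CategoryTheory.Functor.map_zero]

theorem hom_single_proj_eq_zero (P N : ModuleCat.{u} B) [Projective P]
    (ξ : DerivedCategory.Q.obj ((CochainComplex.singleFunctor (ModuleCat.{u} B) 0).obj P) ⟶
      ((DerivedCategory.singleFunctor (ModuleCat.{u} B) 0).obj N)⟦(1 : ℤ)⟧) : ξ = 0 := by
  let L : CochainComplex (ModuleCat.{u} B) ℤ :=
    ((CochainComplex.singleFunctor (ModuleCat.{u} B) 0).obj N)⟦(1 : ℤ)⟧
  haveI : L.IsStrictlyLE (-1) :=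
    CochainComplex.isStrictlyLE_shift _ 0 1 (-1) (by norm_num)
  let θ : ((DerivedCategory.singleFunctor (ModuleCat.{u} B) 0).obj N)⟦(1 : ℤ)⟧ ≅
      DerivedCategory.Q.obj L :=
    (shiftFunctor (DerivedCategory (ModuleCat.{u} B)) (1 : ℤ)).mapIso
      ((DerivedCategory.singleFunctorIsoCompQ (ModuleCat.{u} B) 0).app N) ≪≫
      ((DerivedCategory.Q.commShiftIso (1 : ℤ)).app _).symm
  have h0 : ξ ≫ θ.hom = 0 :=
    DerivedCategory.from_singleFunctor_obj_eq_zero_of_projective (ξ ≫ θ.hom) (-1)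
      (by norm_num)
  rw [← cancel_mono θ.hom, h0, zero_comp]

theorem smul_comp_eq_zero (hd : d ≫ h = γ • 𝟙 M₁) [Projective M₀] (N : ModuleCat.{u} B)
    (φ : DerivedCategory.Q.obj (dbl d) ⟶
      ((DerivedCategory.singleFunctor (ModuleCat.{u} B) 0).obj N)⟦(1 : ℤ)⟧) :
    γ • φ = 0 := by
  obtain ⟨ψ₀, hψ₀⟩ : ∃ ψ₀ : M₀ ⟶ M₀, ψ₀ = γ • 𝟙 M₀ - h ≫ d := ⟨_, rfl⟩
  have hdψ : d ≫ ψ₀ = 0 := by
    rw [hψ₀, Preadditive.comp_sub, Linear.comp_smul, Category.comp_id, ← Category.assoc, hd,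
      Linear.smul_comp, Category.id_comp, sub_self]
  have cb : (0 : M₁ ⟶ M₁) ≫ d = d ≫ ψ₀ := by rw [zero_comp, hdψ]
  have H : Homotopy (dmap (γ • 𝟙 M₁) (γ • 𝟙 M₀) (smul_comm_sq d γ)) (dmap 0 ψ₀ cb) :=
    dhomotopy _ cb h (by rw [hd, add_zero]) (by rw [hψ₀, add_sub_cancel])
  let ι : (CochainComplex.singleFunctor (ModuleCat.{u} B) 0).obj M₀ ⟶ dbl d :=
    mkHomFromSingle (doubleXIso₁ d rel ne).inv (fun k hk =>
      (isZero_double_X d rel k (by simp at hk; omega) (by simp at hk; omega)).eq_of_tgt _ _)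
  let ρ : dbl d ⟶ (CochainComplex.singleFunctor (ModuleCat.{u} B) 0).obj M₀ :=
    mkHomToSingle ((doubleXIso₁ d rel ne).hom ≫ ψ₀) (fun i hi => by
      have hi' : i = -1 := by simp at hi; omega
      subst hi'
      rw [double_d d rel ne, Category.assoc, Category.assoc, Iso.inv_hom_id_assoc, hdψ,
        comp_zero])
  have hρι : ρ ≫ ι = dmap 0 ψ₀ cb := by
    apply from_double_hom_ext
    · have hz : IsZero (((CochainComplex.singleFunctor (ModuleCat.{u} B) 0).obj M₀).X (-1)) :=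
        isZero_single_obj_X _ _ _ _ (by decide)
      rw [dmap_f₀, HomologicalComplex.comp_f, hz.eq_of_tgt (ρ.f (-1)) 0, zero_comp, zero_comp,
        comp_zero]
    · rw [dmap_f₁, HomologicalComplex.comp_f]
      show (mkHomToSingle ((doubleXIso₁ d rel ne).hom ≫ ψ₀) _).f 0 ≫
        (mkHomFromSingle (doubleXIso₁ d rel ne).inv _).f 0 = _
      rw [mkHomToSingle_f, mkHomFromSingle_f]
      simp only [Category.assoc, Iso.inv_hom_id_assoc]
  have hzero : DerivedCategory.Q.map ι ≫ φ = 0 := hom_single_proj_eq_zero M₀ N _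
  calc γ • φ = (γ • 𝟙 _) ≫ φ := by rw [Linear.smul_comp, Category.id_comp]
    _ = DerivedCategory.Q.map (γ • 𝟙 (dbl d)) ≫ φ := by
      rw [CategoryTheory.Functor.map_smul, CategoryTheory.Functor.map_id]
    _ = DerivedCategory.Q.map (dmap 0 ψ₀ cb) ≫ φ := by
      rw [smul_id_dbl, DerivedCategory.Q_map_eq_of_homotopy _ H]
    _ = DerivedCategory.Q.map ρ ≫ (DerivedCategory.Q.map ι ≫ φ) := by
      rw [← hρι, CategoryTheory.Functor.map_comp, Category.assoc]
    _ = 0 := by rw [hzero, comp_zero]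

theorem smul_id_eq_zero_of_iso {X Y : DerivedCategory (ModuleCat.{u} B)} (e : X ≅ Y)
    (hX : γ • 𝟙 X = 0) : γ • 𝟙 Y = 0 := by
  have h1 : γ • e.inv = 0 := by
    rw [← Category.comp_id e.inv, ← Linear.comp_smul, hX, comp_zero]
  rw [← e.inv_hom_id, ← Linear.smul_comp, h1, zero_comp]

end Derived

end Groth.Agent.Helper6.JacNL
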