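import Groth.Agent.Lib.Helper6.JacNLA

/-!
# The Jacobian determinant annihilates `Ext^1(NL, N)`: main theorem (helper6)
-/

set_option autoImplicit false
set_option linter.style.haveILetI false

open MvPolynomial CategoryTheory CategoryTheory.Limits HomologicalComplex
open Groth.Agent.Helper6.NLDbl

attribute [local instance] HasDerivedCategory.standard

universe u

namespace Groth.Agent.Helper6.JacNL

section Main

variable (A : Type u) [CommRing A] (n m : ℕ) (hmn : m ≤ n)
  (f : Fin m → MvPolynomial (Fin n) A)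

/-- the naive presentation of `A[x]/(f)` -/
noncomputable def gens :
    Algebra.Generators A (MvPolynomial (Fin n) A ⧸ Ideal.span (Set.range f)) (Fin n) :=
  Algebra.Generators.naive

theorem gens_ker : Ideal.span (Set.range f) = (gens A n m f).toExtension.ker :=
  (Algebra.Generators.ker_naive _ _).symm

theorem aeval_gens (p : MvPolynomial (Fin n) A) :
    aeval (gens A n m f).val p = Ideal.Quotient.mk (Ideal.span (Set.range f)) p := by
  rw [← (gens A n m f).algebraMap_apply]
  rfl

/-- the `m × m` minor of the Jacobian, over the quotient -/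
noncomputable def Mmat :
    Matrix (Fin m) (Fin m) (MvPolynomial (Fin n) A ⧸ Ideal.span (Set.range f)) :=
  fun i j => Ideal.Quotient.mk _ (pderiv (Fin.castLE hmn i) (f j))

noncomputable def Eproj :
    Matrix (Fin m) (Fin n) (MvPolynomial (Fin n) A ⧸ Ideal.span (Set.range f)) :=
  fun k i => if i = Fin.castLE hmn k then 1 else 0

theorem jac_apply (i : Fin n) (j : Fin m) :
    jac (gens A n m f) f i j = Ideal.Quotient.mk _ (pderiv i (f j)) :=
  aeval_gens A n m f _

theorem Eproj_mul_jac :
    Eproj A n m hmn f * jac (gens A n m f) f = Mmat A n m hmn f := by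
  ext k j
  rw [Matrix.mul_apply, Finset.sum_eq_single (Fin.castLE hmn k)]
  · rw [jac_apply]
    simp [Eproj, Mmat]
  · intro i _ hi
    simp [Eproj, hi]
  · intro h
    exact absurd (Finset.mem_univ _) h

noncomputable def Emat :
    Matrix (Fin m) (Fin n) (MvPolynomial (Fin n) A ⧸ Ideal.span (Set.range f)) :=
  (Mmat A n m hmn f).adjugate * Eproj A n m hmn f

theorem Emat_mul_jac :
    Emat A n m hmn f * jac (gens A n m f) f = (Mmat A n m hmn f).det • 1 := by
  rw [Emat, Matrix.mul_assoc, Eproj_mul_jac, Matrix.adjugate_mul]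

theorem jac_mul_Emat (hnm : n = m) :
    jac (gens A n m f) f * Emat A n m hmn f = (Mmat A n m hmn f).det • 1 := by
  subst hnm
  have h1 : Eproj A n n hmn f = 1 := by
    ext k i
    simp [Eproj, Matrix.one_apply, eq_comm]
  have h2 : jac (gens A n n f) f = Mmat A n n hmn f := by
    ext i j
    rw [jac_apply]
    simp [Mmat]
  rw [Emat, h1, Matrix.mul_one, h2, Matrix.mul_adjugate]

theorem mk_det_eq :
    Ideal.Quotient.mk (Ideal.span (Set.range f))
      (Matrix.det (Matrix.of (fun i j : Fin m => pderiv (Fin.castLE hmn i) (f j)))) =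
      (Mmat A n m hmn f).det := by
  rw [RingHom.map_det]
  rfl

/-- S8806 -/
theorem main :
    (∀ (N : Type u) [AddCommGroup N]
      [Module (MvPolynomial (Fin n) A ⧸ Ideal.span (Set.range f)) N]
      (φ : LCI.NL A (MvPolynomial (Fin n) A ⧸ Ideal.span (Set.range f)) ⟶
        (Dual.inD (MvPolynomial (Fin n) A ⧸ Ideal.span (Set.range f)) N)⟦(1 : ℤ)⟧),
      (Ideal.Quotient.mk (Ideal.span (Set.range f))
        (Matrix.det (Matrix.of (fun i j : Fin m => pderiv (Fin.castLE hmn i) (f j))))) • φ = 0) ∧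
    (n = m → (Ideal.Quotient.mk (Ideal.span (Set.range f))
        (Matrix.det (Matrix.of (fun i j : Fin m => pderiv (Fin.castLE hmn i) (f j))))) •
      𝟙 (LCI.NL A (MvPolynomial (Fin n) A ⧸ Ideal.span (Set.range f))) = 0) := by
  rw [mk_det_eq]
  obtain ⟨γ, hγ⟩ : ∃ γ, γ = (Mmat A n m hmn f).det := ⟨_, rfl⟩
  rw [← hγ]
  obtain ⟨G, hG⟩ : ∃ G, G = gens A n m f := ⟨_, rfl⟩
  have hs : Ideal.span (Set.range f) = G.toExtension.ker := by
    rw [hG]
    exact gens_ker A n m f
  obtain ⟨E, hE1, hE2⟩ : ∃ E : Matrix (Fin m) (Fin n)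
      (MvPolynomial (Fin n) A ⧸ Ideal.span (Set.range f)),
      E * jac G f = γ • 1 ∧ (n = m → jac G f * E = γ • 1) := by
    refine ⟨Emat A n m hmn f, ?_, ?_⟩
    · rw [hG, hγ]
      exact Emat_mul_jac A n m hmn f
    · intro hnm
      rw [hG, hγ]
      exact jac_mul_Emat A n m hmn f hnm
  -- the two-term complex
  have hd : ModuleCat.ofHom G.toExtension.cotangentComplex ≫ ModuleCat.ofHom (hE G f hs E) =
      γ • 𝟙 _ := by
    apply ModuleCat.hom_ext
    exact hE_comp_d G f hs E γ hE1
  haveI : Projective (ModuleCat.of (MvPolynomial (Fin n) A ⧸ Ideal.span (Set.range f))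
      G.toExtension.CotangentSpace) := ModuleCat.projective_of_free G.cotangentSpaceBasis
  -- comparison with the presentation on all elements
  let he : HomotopyEquiv (NLCx.cx G.toExtension)
      (LCI.NLcx A (MvPolynomial (Fin n) A ⧸ Ideal.span (Set.range f))) :=
    Groth.Agent.Helper6.NLFlat.homotopyEquiv
      (G.defaultHom (Algebra.Generators.self A _)).toExtensionHom
      ((Algebra.Generators.self A _).defaultHom G).toExtensionHom
  have hq : IsIso (DerivedCategory.Q.map he.hom) :=
    (DerivedCategory.isIso_Q_map_iff_quasiIso _ he.hom).mpr inferInstance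
  have e : DerivedCategory.Q.obj (NLCx.cx G.toExtension) ≅
      LCI.NL A (MvPolynomial (Fin n) A ⧸ Ideal.span (Set.range f)) := @asIso _ _ _ _ _ hq
  refine ⟨fun N _ _ φ => ?_, fun hnm => ?_⟩
  · have h0 : γ • (e.hom ≫ φ) = 0 :=
      smul_comp_eq_zero (ModuleCat.ofHom G.toExtension.cotangentComplex)
        (ModuleCat.ofHom (hE G f hs E)) γ hd (ModuleCat.of _ N) (e.hom ≫ φ)
    have h1 : φ = e.inv ≫ (e.hom ≫ φ) := by rw [Iso.inv_hom_id_assoc]
    rw [h1, ← Linear.comp_smul, h0, comp_zero]
  · have hd' : ModuleCat.ofHom (hE G f hs E) ≫ ModuleCat.ofHom G.toExtension.cotangentComplex =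
        γ • 𝟙 _ := by
      apply ModuleCat.hom_ext
      exact d_comp_hE G f hs E γ (hE2 hnm)
    exact smul_id_eq_zero_of_iso γ e
      (smul_id_Q_eq_zero (ModuleCat.ofHom G.toExtension.cotangentComplex)
        (ModuleCat.ofHom (hE G f hs E)) γ hd hd')

end Main

end Groth.Agent.Helper6.JacNL
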