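import Groth.Agent.Lib.Helper5.KosReg1
import Groth.Prelude.Def_LCI2

/-!
# Koszul-regular ideals have a finite projective conormal module `I/I²` (helper6)

* `cotangent_free_of_relations`: if every relation among the elements of a list `l` has its
  coefficients in `J = (l)`, then `J/J²` is a finite free `R/J`-module.
* `LocData`, `finite_projective_of_locData`: local-global principle for finite projective modules
  (on a cover by basic opens, with arbitrary models of the localizations).
* `cotLocData`: `I/I²` localizes to `I_g/I_g²`.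
* `cotangent_finite_projective_of_kr`: the conormal module of a Koszul-regular ideal is finite
  projective.
-/

set_option autoImplicit false

universe u

namespace Groth.Agent.Helper6.KRCot

section Free

variable {R : Type u} [CommRing R]

theorem exists_coeff (l : List R) (x : R) (hx : x ∈ Ideal.ofList l) :
    ∃ c : Fin l.length → R, x = ∑ i, c i * l.get i := by
  refine Submodule.span_induction
    (p := fun x _ => ∃ c : Fin l.length → R, x = ∑ i, c i * l.get i) ?_ ?_ ?_ ?_ hx
  · intro y hy
    obtain ⟨i, rfl⟩ := List.mem_iff_get.mp hy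
    refine ⟨Pi.single i 1, ?_⟩
    rw [Finset.sum_eq_single i]
    · simp
    · intro j _ hj
      simp [Pi.single_apply, hj]
    · intro h
      exact absurd (Finset.mem_univ i) h
  · exact ⟨0, by simp⟩
  · rintro a b _ _ ⟨c, rfl⟩ ⟨c', rfl⟩
    exact ⟨c + c', by simp [add_mul, Finset.sum_add_distrib]⟩
  · rintro r a _ ⟨c, rfl⟩
    exact ⟨fun i => r * c i, by simp [Finset.mul_sum, mul_assoc]⟩

theorem exists_coeff_sq (l : List R) (x : R) (hx : x ∈ Ideal.ofList l ^ 2) :
    ∃ c : Fin l.length → R, (∀ i, c i ∈ Ideal.ofList l) ∧ x = ∑ i, c i * l.get i := by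
  rw [pow_two] at hx
  refine Submodule.smul_induction_on
    (p := fun x => ∃ c : Fin l.length → R, (∀ i, c i ∈ Ideal.ofList l) ∧
      x = ∑ i, c i * l.get i) hx ?_ ?_
  · intro a ha b hb
    obtain ⟨c, rfl⟩ := exists_coeff l b hb
    exact ⟨fun i => a * c i, fun i => Ideal.mul_mem_right _ _ ha,
      by simp [Finset.mul_sum, mul_assoc]⟩
  · rintro a b ⟨c, hc, rfl⟩ ⟨c', hc', rfl⟩
    exact ⟨c + c', fun i => Ideal.add_mem _ (hc i) (hc' i),
      by simp [add_mul, Finset.sum_add_distrib]⟩

/-- If every relation among the elements of `l` has coefficients in `J = (l)`, then `J/J²` is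
finite free over `R/J`. -/
theorem cotangent_free_of_relations (l : List R)
    (H : ∀ c : Fin l.length → R, ∑ i, c i * l.get i = 0 → ∀ i, c i ∈ Ideal.ofList l) :
    Module.Finite (R ⧸ Ideal.ofList l) (Ideal.ofList l).Cotangent ∧
      Module.Free (R ⧸ Ideal.ofList l) (Ideal.ofList l).Cotangent := by
  obtain ⟨J, hJ⟩ : ∃ J : Ideal R, J = Ideal.ofList l := ⟨_, rfl⟩
  rw [← hJ]
  have hmem : ∀ i : Fin l.length, l.get i ∈ J := fun i =>
    hJ ▸ Ideal.subset_span (List.get_mem l i)
  let gen : Fin l.length → J := fun i => ⟨l.get i, hmem i⟩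
  let v : Fin l.length → J.Cotangent := fun i => J.toCotangent (gen i)
  let φ : (Fin l.length → R ⧸ J) →ₗ[R ⧸ J] J.Cotangent := Fintype.linearCombination (R ⧸ J) v
  have hφ : ∀ c : Fin l.length → R, φ (fun i => Ideal.Quotient.mk J (c i)) =
      J.toCotangent (∑ i, c i • gen i) := by
    intro c
    show Fintype.linearCombination (R ⧸ J) v (fun i => Ideal.Quotient.mk J (c i)) = _
    rw [Fintype.linearCombination_apply, map_sum]
    refine Finset.sum_congr rfl (fun i _ => ?_)
    rw [map_smul]
    exact algebraMap_smul (R ⧸ J) (c i) (v i)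
  have hval : ∀ c : Fin l.length → R, ((∑ i, c i • gen i : J) : R) = ∑ i, c i * l.get i := by
    intro c
    rw [Submodule.coe_sum]
    rfl
  have hsurj : Function.Surjective φ := by
    intro y
    obtain ⟨x, rfl⟩ := J.toCotangent_surjective y
    obtain ⟨c, hc⟩ := exists_coeff l x.1 (hJ ▸ x.2)
    refine ⟨fun i => Ideal.Quotient.mk J (c i), ?_⟩
    rw [hφ]
    congr 1
    apply Subtype.ext
    rw [hval, hc]
  have hinj : Function.Injective φ := by
    rw [injective_iff_map_eq_zero]
    intro cb hcb
    obtain ⟨c, rfl⟩ : ∃ c : Fin l.length → R, cb = fun i => Ideal.Quotient.mk J (c i) :=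
      ⟨fun i => (Ideal.Quotient.mk_surjective (cb i)).choose,
        funext fun i => (Ideal.Quotient.mk_surjective (cb i)).choose_spec.symm⟩
    rw [hφ, Ideal.toCotangent_eq_zero, hval] at hcb
    obtain ⟨b, hb, hsum⟩ := exists_coeff_sq l _ (hJ ▸ hcb)
    have hrel : ∑ i, (c i - b i) * l.get i = 0 := by
      simp only [sub_mul, Finset.sum_sub_distrib]
      rw [hsum, sub_self]
    have hcJ := H (fun i => c i - b i) hrel
    funext i
    show Ideal.Quotient.mk J (c i) = 0
    rw [Ideal.Quotient.eq_zero_iff_mem]
    have h1 : c i - b i ∈ J := hJ ▸ hcJ i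
    have h2 : b i ∈ J := hJ ▸ hb i
    have := J.add_mem h1 h2
    rwa [sub_add_cancel] at this
  let e := LinearEquiv.ofBijective φ ⟨hinj, hsurj⟩
  exact ⟨Module.Finite.equiv e, Module.Free.of_equiv e⟩

end Free

section LocalGlobal

/-- Local data for a module on a basic open `D(r)`: a model of the localization of the ring
and of the module, the latter being finite projective. -/
structure LocData (S : Type u) [CommRing S] (M : Type u) [AddCommGroup M] [Module S M]
    (r : S) where
  S' : Type u
  M' : Type u
  [cr : CommRing S']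
  [alg : Algebra S S']
  [loc : IsLocalization.Away r S']
  [acg : AddCommGroup M']
  [modS : Module S M']
  [modS' : Module S' M']
  [tower : IsScalarTower S S' M']
  ϕ : M →ₗ[S] M'
  [locM : IsLocalizedModule (Submonoid.powers r) ϕ]
  fin : Module.Finite S' M'
  proj : Module.Projective S' M'

attribute [instance] LocData.cr LocData.alg LocData.loc LocData.acg LocData.modS LocData.modS'
  LocData.tower LocData.locM

theorem finite_projective_of_locData {S : Type u} [CommRing S] {M : Type u} [AddCommGroup M]
    [Module S M] (s : Set S) (hs : Ideal.span s = ⊤) (D : ∀ r : s, LocData S M r.1) :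
    Module.Finite S M ∧ Module.Projective S M := by
  have hfp : Module.FinitePresentation S M :=
    Module.FinitePresentation.of_localizationSpan' s hs (Rₚ := fun r => (D r).S')
      (Mₚ := fun r => (D r).M') (fun r => (D r).ϕ) (fun r => by
        haveI := (D r).fin
        haveI := (D r).proj
        exact Module.finitePresentation_of_projective _ _)
  have hflat : Module.Flat S M :=
    Module.flat_of_isLocalized_span S M s hs (fun r => (D r).M') (fun r => (D r).ϕ) (fun r => by
      haveI := (D r).proj
      haveI : Module.Flat (D r).S' (D r).M' := inferInstance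
      haveI : Module.Flat S (D r).S' := IsLocalization.flat (D r).S' (Submonoid.powers r.1)
      exact Module.Flat.trans S (D r).S' (D r).M')
  haveI := hfp
  haveI := hflat
  exact ⟨inferInstance, Module.Flat.projective_of_finitePresentation⟩

end LocalGlobal

end Groth.Agent.Helper6.KRCot
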