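import Groth.Agent.Lib.Helper6.KRCotA

/-!
# Koszul-regular ideals have a finite projective conormal module, part B (helper6)
-/

set_option autoImplicit false
set_option linter.style.haveILetI false

universe u

namespace Groth.Agent.Helper6.KRCot

section Loc

variable {R : Type u} [CommRing R] (I : Ideal R) (g : R)
  (R' : Type u) [CommRing R'] [Algebra R R']

/-- `R'/IR'` is the localization of `R/I` at the image of `g`. -/
theorem away_quotient [IsLocalization.Away g R'] :
    IsLocalization.Away (Ideal.Quotient.mk I g) (R' ⧸ I.map (algebraMap R R')) := by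
  have h : IsLocalization (Algebra.algebraMapSubmonoid (R ⧸ I) (Submonoid.powers g))
      (R' ⧸ I.map (algebraMap R R')) := inferInstance
  have e : Algebra.algebraMapSubmonoid (R ⧸ I) (Submonoid.powers g) =
      Submonoid.powers (Ideal.Quotient.mk I g) := by
    simp [Algebra.algebraMapSubmonoid, Submonoid.map_powers]
  rw [e] at h
  exact h

/-- `R/I`-module structure on `I'/I'²`, `I' = IR'`. -/
@[reducible] noncomputable def cotModule :
    Module (R ⧸ I) (I.map (algebraMap R R')).Cotangent :=
  Module.compHom _ (algebraMap (R ⧸ I) (R' ⧸ I.map (algebraMap R R')))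

theorem cot_smul (a : R) (y : (I.map (algebraMap R R')).Cotangent) :
    letI := cotModule I R'
    (Ideal.Quotient.mk I a) • y = a • y := by
  letI := cotModule I R'
  show (algebraMap (R ⧸ I) (R' ⧸ I.map (algebraMap R R')) (Ideal.Quotient.mk I a)) • y = a • y
  rw [Ideal.Quotient.algebraMap_quotient_map_quotient, ← Ideal.Quotient.algebraMap_eq,
    algebraMap_smul, algebraMap_smul]

/-- the `R/I`-linear map `I/I² → I'/I'²`. -/
noncomputable def cotMap :
    letI := cotModule I R'
    I.Cotangent →ₗ[R ⧸ I] (I.map (algebraMap R R')).Cotangent :=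
  letI := cotModule I R'
  { toFun := Ideal.mapCotangent I (I.map (algebraMap R R')) (Algebra.ofId R R')
      (fun _ hx => Ideal.mem_map_of_mem _ hx)
    map_add' := map_add _
    map_smul' := by
      intro m x
      obtain ⟨a, rfl⟩ := Ideal.Quotient.mk_surjective m
      rw [RingHom.id_apply, cot_smul, ← Ideal.Quotient.algebraMap_eq, algebraMap_smul, map_smul] }

theorem cotMap_toCotangent (a : I) :
    cotMap I R' (I.toCotangent a) =
      (I.map (algebraMap R R')).toCotangent ⟨algebraMap R R' a, Ideal.mem_map_of_mem _ a.2⟩ :=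
  rfl

theorem mk_mem_powers {m : R} (hm : m ∈ Submonoid.powers g) :
    Ideal.Quotient.mk I m ∈ Submonoid.powers (Ideal.Quotient.mk I g) := by
  obtain ⟨n, hn⟩ := (Submonoid.mem_powers_iff _ _).mp hm
  exact (Submonoid.mem_powers_iff _ _).mpr ⟨n, by rw [← map_pow, hn]⟩

theorem cot_isLocalizedModule [IsLocalization.Away g R'] :
    letI := cotModule I R'
    IsLocalizedModule (Submonoid.powers (Ideal.Quotient.mk I g)) (cotMap I R') := by
  letI := cotModule I R'
  haveI : IsScalarTower (R ⧸ I) (R' ⧸ I.map (algebraMap R R'))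
      (I.map (algebraMap R R')).Cotangent :=
    IsScalarTower.of_algebraMap_smul (fun _ _ => rfl)
  haveI := away_quotient I g R'
  refine ⟨?_, ?_, ?_⟩
  · exact (isLocalizedModule_id (Submonoid.powers (Ideal.Quotient.mk I g))
      (I.map (algebraMap R R')).Cotangent (R' ⧸ I.map (algebraMap R R'))).map_units
  · intro y
    obtain ⟨⟨z, hz⟩, rfl⟩ := Ideal.toCotangent_surjective _ y
    obtain ⟨⟨a, t⟩, hat⟩ :=
      (IsLocalization.mem_map_algebraMap_iff (Submonoid.powers g) R').mp hz
    refine ⟨(I.toCotangent a, ⟨Ideal.Quotient.mk I (t : R), mk_mem_powers I g t.2⟩), ?_⟩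
    show Ideal.Quotient.mk I (t : R) • (I.map (algebraMap R R')).toCotangent ⟨z, hz⟩ =
      cotMap I R' (I.toCotangent a)
    rw [cot_smul, ← LinearMap.map_smul_of_tower, cotMap_toCotangent]
    congr 1
    apply Subtype.ext
    show (t : R) • z = algebraMap R R' a
    rw [Algebra.smul_def, mul_comm]
    exact hat
  · intro x₁ x₂ h
    obtain ⟨a₁, rfl⟩ := I.toCotangent_surjective x₁
    obtain ⟨a₂, rfl⟩ := I.toCotangent_surjective x₂
    rw [cotMap_toCotangent, cotMap_toCotangent, Ideal.toCotangent_eq] at h
    have h2 : algebraMap R R' ((a₁ : R) - a₂) ∈ (I ^ 2).map (algebraMap R R') := by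
      rw [Ideal.map_pow, map_sub]
      exact h
    obtain ⟨m, hm, hmem⟩ := (IsLocalization.algebraMap_mem_map_algebraMap_iff
      (Submonoid.powers g) R' (I ^ 2) _).mp h2
    refine ⟨⟨Ideal.Quotient.mk I m, mk_mem_powers I g hm⟩, ?_⟩
    show Ideal.Quotient.mk I m • I.toCotangent a₁ = Ideal.Quotient.mk I m • I.toCotangent a₂
    rw [← Ideal.Quotient.algebraMap_eq, algebraMap_smul, algebraMap_smul, ← map_smul,
      ← map_smul, Ideal.toCotangent_eq]
    show m * (a₁ : R) - m * (a₂ : R) ∈ I ^ 2
    rw [← mul_sub]
    exact hmem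

/-- Local data for `I/I²` on `D(g)`. -/
noncomputable def cotLocData [IsLocalization.Away g R']
    (hfin : Module.Finite (R' ⧸ I.map (algebraMap R R')) (I.map (algebraMap R R')).Cotangent)
    (hproj : Module.Projective (R' ⧸ I.map (algebraMap R R'))
      (I.map (algebraMap R R')).Cotangent) :
    LocData (R ⧸ I) I.Cotangent (Ideal.Quotient.mk I g) :=
  letI := cotModule I R'
  haveI : IsScalarTower (R ⧸ I) (R' ⧸ I.map (algebraMap R R'))
      (I.map (algebraMap R R')).Cotangent :=
    IsScalarTower.of_algebraMap_smul (fun _ _ => rfl)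
  haveI := away_quotient I g R'
  haveI := cot_isLocalizedModule I g R'
  { S' := R' ⧸ I.map (algebraMap R R')
    M' := (I.map (algebraMap R R')).Cotangent
    ϕ := cotMap I R'
    fin := hfin
    proj := hproj }

end Loc

section Global

variable {R : Type u} [CommRing R]

/-- The conormal module `I/I²` of a Koszul-regular ideal is finite projective over `R/I`. -/
theorem cotangent_finite_projective_of_kr (I : Ideal R) (h : LCI.IsKoszulRegularIdeal I) :
    Module.Finite (R ⧸ I) I.Cotangent ∧ Module.Projective (R ⧸ I) I.Cotangent := by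
  let s : Set (R ⧸ I) := {r | Nonempty (LocData (R ⧸ I) I.Cotangent r)}
  have hs : Ideal.span s = ⊤ := by
    by_contra hne
    obtain ⟨𝔪, h𝔪, hle⟩ := Ideal.exists_le_maximal _ hne
    haveI := h𝔪.isPrime
    let 𝔭 : PrimeSpectrum R := ⟨𝔪.comap (Ideal.Quotient.mk I), inferInstance⟩
    have hI𝔭 : I ≤ 𝔭.asIdeal := by
      intro x hx
      show Ideal.Quotient.mk I x ∈ 𝔪
      rw [Ideal.Quotient.eq_zero_iff_mem.mpr hx]
      exact 𝔪.zero_mem
    obtain ⟨g, hg, l, hl, hspan⟩ := h 𝔭 hI𝔭
    have hrel : ∀ c : Fin l.length → Localization.Away g, ∑ i, c i * l.get i = 0 →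
        ∀ i, c i ∈ Ideal.ofList l := fun c hc i =>
      Groth.Agent.Helper5.KR.coeff_mem_of_relation l (hl (-1) (by norm_num)) c hc i
    obtain ⟨hfin, hfree⟩ : Module.Finite
        (Localization.Away g ⧸ I.map (algebraMap R (Localization.Away g)))
        (I.map (algebraMap R (Localization.Away g))).Cotangent ∧
        Module.Free (Localization.Away g ⧸ I.map (algebraMap R (Localization.Away g)))
        (I.map (algebraMap R (Localization.Away g))).Cotangent := by
      rw [hspan]
      exact cotangent_free_of_relations l hrel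
    haveI := hfree
    have hmem : Ideal.Quotient.mk I g ∈ s :=
      ⟨cotLocData I g (Localization.Away g) hfin inferInstance⟩
    exact hg (hle (Ideal.subset_span hmem))
  exact finite_projective_of_locData s hs (fun r => r.2.some)

end Global

end Groth.Agent.Helper6.KRCot
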