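import Mathlib
import Groth.Prelude.Def_PLie

/-!
# Killing-orthogonal of a normalizer (helper6)

If `U` is a Lie subalgebra of ad-nilpotent elements, then `U` is Killing-orthogonal to its
normalizer (Engel). With nondegeneracy and `U^⊥` a subalgebra: `U = N(U)^⊥`.
-/

set_option autoImplicit false
universe u v

namespace Groth.Agent.Lib.Helper6.KillingOrth

section PMap
variable {k : Type u} [Field k] {p : ℕ} [CharP k p]
variable {L : Type v} [LieRing L] [LieAlgebra k L]

theorem ad_iterate (φ : PLie.PMap k p L) (x : L) (n : ℕ) :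
    LieAlgebra.ad k L (φ.toFun^[n] x) = LieAlgebra.ad k L x ^ (p ^ n) := by
  induction n with
  | zero => simp
  | succ n ih =>
    rw [Function.iterate_succ_apply', φ.ad_map, ih, ← pow_mul, pow_succ]

theorem isNilpotent_ad (φ : PLie.PMap k p L) {x : L} (hx : PLie.IsPNilpotent φ x) :
    IsNilpotent (LieAlgebra.ad k L x) := by
  obtain ⟨n, hn⟩ := hx
  refine ⟨p ^ n, ?_⟩
  rw [← ad_iterate, hn, map_zero]

end PMap

section Engel
variable {k : Type u} [Field k] {L : Type v} [LieRing L] [LieAlgebra k L] [Module.Finite k L]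

/-- Engel + normalizer: `trace (ad h ∘ ad u) = 0`. -/
theorem killingForm_eq_zero_of_mem_normalizer (U : LieSubalgebra k L)
    (hU : ∀ x ∈ U, IsNilpotent (LieAlgebra.ad k L x)) {h u : L} (hh : h ∈ U.normalizer)
    (hu : u ∈ U) : killingForm k L h u = 0 := by
  haveI : LieModule.IsNilpotent ↥U L := by
    rw [LieModule.isNilpotent_iff_forall' (R := k)]
    intro x
    have e1 : LieModule.toEnd k ↥U L x = LieAlgebra.ad k L (x : L) := LinearMap.ext fun m => rfl
    rw [e1]
    exact hU x.1 x.2
  obtain ⟨n, hn⟩ := LieModule.IsNilpotent.nilpotent k ↥U L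
  have F1 : ∀ (i : ℕ) (w : L), w ∈ U → ∀ m ∈ LieModule.lowerCentralSeries k ↥U L i,
      ⁅w, m⁆ ∈ LieModule.lowerCentralSeries k ↥U L (i + 1) := by
    intro i w hw m hm
    rw [LieModule.lowerCentralSeries_succ]
    exact LieSubmodule.lie_mem_lie (LieSubmodule.mem_top (⟨w, hw⟩ : ↥U)) hm
  have F2 : ∀ (i : ℕ), ∀ m ∈ LieModule.lowerCentralSeries k ↥U L i,
      ⁅h, m⁆ ∈ LieModule.lowerCentralSeries k ↥U L i := by
    intro i
    induction i with
    | zero => intro m _; exact LieSubmodule.mem_top _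
    | succ i ih =>
      intro m hm
      rw [LieModule.lowerCentralSeries_succ, ← LieSubmodule.mem_toSubmodule,
        LieSubmodule.lieIdeal_oper_eq_linear_span'] at hm
      refine Submodule.span_induction
        (p := fun m _ => ⁅h, m⁆ ∈ LieModule.lowerCentralSeries k ↥U L (i + 1)) ?_ ?_ ?_ ?_ hm
      · rintro _ ⟨x, -, m', hm', rfl⟩
        have e : ⁅h, ⁅x, m'⁆⁆ = ⁅⁅h, (x : L)⁆, m'⁆ + ⁅(x : L), ⁅h, m'⁆⁆ := leibniz_lie h (x : L) m'
        rw [e]
        exact add_mem (F1 i _ ((LieSubalgebra.mem_normalizer_iff U h).mp hh _ x.2) m' hm')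
          (F1 i _ x.2 _ (ih m' hm'))
      · rw [lie_zero]; exact zero_mem _
      · intro a b _ _ ha hb; rw [lie_add]; exact add_mem ha hb
      · intro c a _ ha; rw [lie_smul]; exact (LieModule.lowerCentralSeries k ↥U L (i + 1)).smul_mem c ha
  have F3 : ∀ (j : ℕ) (m : L),
      ((LieAlgebra.ad k L h ∘ₗ LieAlgebra.ad k L u : Module.End k L) ^ j) m ∈
        LieModule.lowerCentralSeries k ↥U L j := by
    intro j
    induction j with
    | zero => intro m; exact LieSubmodule.mem_top _
    | succ j ih =>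
      intro m
      rw [pow_succ', Module.End.mul_apply]
      exact F2 (j + 1) _ (F1 j u hu _ (ih m))
  have hnil : IsNilpotent (LieAlgebra.ad k L h ∘ₗ LieAlgebra.ad k L u : Module.End k L) := by
    refine ⟨n, LinearMap.ext fun m => ?_⟩
    have h3 := F3 n m
    rw [hn, LieSubmodule.mem_bot] at h3
    rw [h3]; rfl
  rw [killingForm_apply_apply]
  exact (LinearMap.isNilpotent_trace_of_isNilpotent hnil).eq_zero

end Engel

section Main

theorem main (k : Type u) [Field k] (p : ℕ) [Fact p.Prime] [CharP k p]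
    (L : Type v) [LieRing L] [LieAlgebra k L] [Module.Finite k L]
    (φ : PLie.PMap k p L) (hκ : (killingForm k L).Nondegenerate)
    (U H : LieSubalgebra k L) (hH : H = U.normalizer)
    (hU : ∀ x : L, x ∈ U ↔ ∃ hx : x ∈ H, (⟨x, hx⟩ : ↥H) ∈ LieAlgebra.radical k ↥H ∧
      PLie.IsPNilpotent φ x)
    (hperp : ∀ a b : L, (∀ y ∈ U, killingForm k L a y = 0) → (∀ y ∈ U, killingForm k L b y = 0) →
      ∀ y ∈ U, killingForm k L ⁅a, b⁆ y = 0) :
    ∀ x : L, x ∈ U ↔ ∀ h ∈ H, killingForm k L h x = 0 := by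
  have hsymm : ∀ a b : L, killingForm k L a b = killingForm k L b a :=
    LieModule.traceForm_comm k L L
  have hnilU : ∀ x ∈ U, IsNilpotent (LieAlgebra.ad k L x) := by
    intro x hx
    obtain ⟨_, _, h⟩ := (hU x).mp hx
    exact isNilpotent_ad φ h
  have hdd : (killingForm k L).orthogonal ((killingForm k L).orthogonal U.toSubmodule) =
      U.toSubmodule :=
    LinearMap.BilinForm.orthogonal_orthogonal hκ (LieModule.traceForm_isSymm k L L).isRefl
      U.toSubmodule
  have hP : ∀ n : L, (∀ y ∈ U, killingForm k L n y = 0) → n ∈ H := by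
    intro n hn
    rw [hH, LieSubalgebra.mem_normalizer_iff]
    intro u hu
    have h1 : ⁅n, u⁆ ∈ U.toSubmodule := by
      rw [← hdd, LinearMap.BilinForm.mem_orthogonal_iff]
      intro b hb
      rw [LinearMap.BilinForm.mem_orthogonal_iff] at hb
      have hb' : ∀ y ∈ U, killingForm k L b y = 0 := fun y hy => (hsymm b y).trans (hb y hy)
      rw [← LieModule.traceForm_apply_lie_apply]
      exact hperp b n hb' hn u hu
    exact h1
  intro x
  constructor
  · intro hx h hh
    exact killingForm_eq_zero_of_mem_normalizer U hnilU (hH ▸ hh) hx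
  · intro hx
    have h1 : x ∈ U.toSubmodule := by
      rw [← hdd, LinearMap.BilinForm.mem_orthogonal_iff]
      intro b hb
      rw [LinearMap.BilinForm.mem_orthogonal_iff] at hb
      exact hx b (hP b (fun y hy => (hsymm b y).trans (hb y hy)))
    exact h1

end Main

end Groth.Agent.Lib.Helper6.KillingOrth
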