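import Mathlib
import Groth.Agent.Lib.Helper13.TwistSES
import Groth.Agent.Lib.Helper13.GlobGen
import Groth.Agent.Lib.Helper13.GenLocus
import Groth.Agent.Lib.Helper13.FreeMod
import Groth.Agent.Lib.Helper13.EpiStalk

/-!
# The kernel of `O^{n+1} ↠ L` twisted by `L` is globally generated (Koszul relations)
-/

set_option autoImplicit false
set_option maxHeartbeats 400000
universe u
open CategoryTheory CategoryTheory.Limits AlgebraicGeometry Opposite TopologicalSpace TensorProduct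
open Groth.Agent.Helper13.QCoh Groth.Agent.Helper13.FinType Groth.Agent.Helper13.Inv
open Groth.Agent.Helper13.Tensor Groth.Agent.Helper13.GenLoc Groth.Agent.Helper13

namespace Groth.Agent.Helper6.KoszGen

/-- every tensor is a pure tensor against a generator. -/
lemma exists_tmul_gen {R : Type*} [CommRing R] {A B : Type*} [AddCommGroup A] [Module R A]
    [AddCommGroup B] [Module R B]
    (ε : B) (hε : Function.Surjective (fun r : R => r • ε)) (ζ : A ⊗[R] B) :
    ∃ a : A, ζ = a ⊗ₜ[R] ε := by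
  induction ζ using TensorProduct.induction_on with
  | zero => exact ⟨0, (TensorProduct.zero_tmul _ _).symm⟩
  | tmul a b =>
    obtain ⟨r, rfl⟩ := hε b
    exact ⟨r • a, (TensorProduct.smul_tmul r a ε).symm⟩
  | add a b ha hb =>
    obtain ⟨ka, rfl⟩ := ha
    obtain ⟨kb, rfl⟩ := hb
    exact ⟨ka + kb, (TensorProduct.add_tmul _ _ _).symm⟩

/-- the Koszul identity. -/
lemma alg_key {R : Type*} [CommRing R] {A B : Type*} [AddCommGroup A] [Module R A]
    [AddCommGroup B] [Module R B]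
    {N : ℕ} (φ : Fin N → A) (ε : B) (α γ ρ : Fin N → R)
    (h1 : ∑ i, γ i * α i = 1) (h0 : ∑ j, ρ j * α j = 0) :
    (∑ j, ρ j • φ j) ⊗ₜ[R] ε =
      ∑ i, ∑ j, (γ i * ρ j) • (φ j ⊗ₜ[R] (α i • ε) - φ i ⊗ₜ[R] (α j • ε)) := by
  have hsum : ∀ i j, (γ i * ρ j) • (φ j ⊗ₜ[R] (α i • ε) - φ i ⊗ₜ[R] (α j • ε)) =
      (γ i * α i) • (ρ j • (φ j ⊗ₜ[R] ε)) - (ρ j * α j) • (γ i • (φ i ⊗ₜ[R] ε)) := by
    intro i j
    rw [TensorProduct.tmul_smul, TensorProduct.tmul_smul, smul_sub, smul_smul, smul_smul,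
      smul_smul, smul_smul]
    congr 2 <;> ring
  have h2 : ∀ i, ∑ j, ((γ i * α i) • (ρ j • (φ j ⊗ₜ[R] ε)) -
      (ρ j * α j) • (γ i • (φ i ⊗ₜ[R] ε))) = (γ i * α i) • ∑ j, ρ j • (φ j ⊗ₜ[R] ε) := by
    intro i
    rw [Finset.sum_sub_distrib, ← Finset.smul_sum, ← Finset.sum_smul, h0, zero_smul, sub_zero]
  calc (∑ j, ρ j • φ j) ⊗ₜ[R] ε = ∑ j, ρ j • (φ j ⊗ₜ[R] ε) := by
        rw [TensorProduct.sum_tmul]
        exact Finset.sum_congr rfl (fun j _ => (TensorProduct.smul_tmul' _ _ _).symm)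
    _ = ∑ i, ∑ j, ((γ i * α i) • (ρ j • (φ j ⊗ₜ[R] ε)) -
          (ρ j * α j) • (γ i • (φ i ⊗ₜ[R] ε))) := by
        rw [Finset.sum_congr rfl (fun i _ => h2 i), ← Finset.sum_smul, h1, one_smul]
    _ = _ :=
        Finset.sum_congr rfl (fun i _ => Finset.sum_congr rfl (fun j _ => (hsum i j).symm))

variable {X : Scheme.{u}}

/-- pure tensors of sections of an invertible module commute. -/
lemma tmul_comm (L : X.Modules) (hL : PicF.IsInvertible L) {U : X.Opens} (a b : Γ(L, U)) :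
    tmul L L a b = tmul L L b a := by
  apply TopCat.Presheaf.section_ext ⟨(CohB1.tensorMod L L).presheaf, (CohB1.tensorMod L L).isSheaf⟩ U
  intro x hx
  rw [← stalkTensorEquiv_germ, ← stalkTensorEquiv_germ]
  congr 1
  obtain ⟨U₀, hx₀, e, he⟩ := (isInvertible_iff_exists_isGen L).1 hL x
  obtain ⟨α, hα⟩ := (he x hx₀).2 (L.presheaf.germ U x hx a)
  obtain ⟨β, hβ⟩ := (he x hx₀).2 (L.presheaf.germ U x hx b)
  simp only at hα hβ
  rw [← hα, ← hβ, TensorProduct.smul_tmul_smul, TensorProduct.smul_tmul_smul, mul_comm]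

/-- the basis sections of the free module. -/
noncomputable def eps (N : ℕ) (i : Fin N) : Γ(FlatMod.freeMod X N, ⊤) :=
  sec (FlatMod.freeMod X N) (LocFree.ι N i)

lemma desc_app_eps {N : ℕ} (L : X.Modules) (s : Fin N → (Coh.structureModule X ⟶ L)) (i : Fin N) :
    (Sigma.desc s : FlatMod.freeMod X N ⟶ L).app ⊤ (eps N i) = sec L (s i) := by
  have h : LocFree.ι N i ≫ (Sigma.desc s : FlatMod.freeMod X N ⟶ L) = s i := by
    simp [LocFree.ι]
  have h2 : sec L (s i) = sec L (LocFree.ι N i ≫ (Sigma.desc s : FlatMod.freeMod X N ⟶ L)) := by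
    rw [h]
  rw [h2]
  rfl

/-- germs of the basis sections span the stalk of the free module. -/
lemma exists_coord (N : ℕ) (y : X) (f : (FlatMod.freeMod X N).presheaf.stalk y) :
    ∃ ρ : Fin N → X.presheaf.stalk y,
      f = ∑ k, ρ k • (FlatMod.freeMod X N).presheaf.germ ⊤ y trivial (eps N k) := by
  obtain ⟨V, hyV, t, rfl⟩ := TopCat.Presheaf.exists_germ_eq (FlatMod.freeMod X N).presheaf f
  have hid : LocFree.descSec (FlatMod.freeMod X N) (fun k => eps (X := X) N k) = 𝟙 _ := by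
    apply LocFree.hom_ext
    intro i
    rw [LocFree.ι_descSec, Category.comp_id]
    exact homOfSec_sec _ _
  have ht : t = ∑ k, LocFree.coordOfSec N V t k •
      (FlatMod.freeMod X N).presheaf.map (homOfLE (le_top : V ≤ ⊤)).op (eps N k) := by
    have h1 := LocFree.descSec_app_secOfCoord (FlatMod.freeMod X N) (fun k => eps (X := X) N k) V
      (LocFree.coordOfSec N V t)
    rw [hid, LocFree.secOfCoord_coordOfSec] at h1
    exact h1
  refine ⟨fun k => X.presheaf.germ V y hyV (LocFree.coordOfSec N V t k), ?_⟩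
  conv_lhs => rw [ht]
  rw [map_sum]
  refine Finset.sum_congr rfl (fun k _ => ?_)
  rw [Tensor.germ_smul, TopCat.Presheaf.germ_res_apply]

/-- the Koszul relation sections of `O^N ⊗ L`. -/
noncomputable def wsec {N : ℕ} (L : X.Modules) (s : Fin N → (Coh.structureModule X ⟶ L))
    (i j : Fin N) : Γ(CohB1.tensorMod (FlatMod.freeMod X N) L, ⊤) :=
  tmul (FlatMod.freeMod X N) L (eps N j) (sec L (s i)) -
    tmul (FlatMod.freeMod X N) L (eps N i) (sec L (s j))

lemma map_wsec {N : ℕ} (L : X.Modules) (hL : PicF.IsInvertible L)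
    (s : Fin N → (Coh.structureModule X ⟶ L)) (i j : Fin N) :
    (Tensor.map (Sigma.desc s : FlatMod.freeMod X N ⟶ L) (𝟙 L)).app ⊤ (wsec L s i j) = 0 := by
  unfold wsec
  rw [map_sub, map_app_tmul, map_app_tmul, desc_app_eps, desc_app_eps]
  show tmul L L (sec L (s j)) (sec L (s i)) - tmul L L (sec L (s i)) (sec L (s j)) = 0
  rw [tmul_comm L hL (sec L (s j)) (sec L (s i)), sub_self]

theorem kernel_tensor_globGen (L : X.Modules) (hL : PicF.IsInvertible L)
    (n : ℕ) (s : Fin (n + 1) → (Coh.structureModule X ⟶ L))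
    (hs : Epi (Sigma.desc s : FlatMod.freeMod X (n + 1) ⟶ L)) :
    Curv2.IsGloballyGenerated
      (CohB1.tensorMod (kernel (Sigma.desc s : FlatMod.freeMod X (n + 1) ⟶ L)) L) := by
  obtain ⟨Sg, hSg⟩ : ∃ Sg : FlatMod.freeMod X (n + 1) ⟶ L, Sg = Sigma.desc s := ⟨_, rfl⟩
  rw [← hSg] at hs ⊢
  haveI := hs
  let S : ShortComplex X.Modules := ShortComplex.mk (kernel.ι Sg) Sg (kernel.condition Sg)
  have hSex : S.ShortExact :=
    ShortComplex.ShortExact.mk' (S.exact_of_f_is_kernel (kernelIsKernel Sg))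
      (inferInstance : Mono (kernel.ι Sg)) hs
  have hT := Groth.Agent.Helper13.TwistSES.tensorSC_shortExact S hSex L hL
  haveI hmono : Mono (Tensor.map (kernel.ι Sg) (𝟙 L)) := hT.mono_f
  have hκ : ∀ i j : Fin (n + 1), ∃ κ : Γ(CohB1.tensorMod (kernel Sg) L, ⊤),
      (Tensor.map (kernel.ι Sg) (𝟙 L)).app ⊤ κ = wsec L s i j := by
    intro i j
    haveI : Mono (Groth.Agent.Helper13.TwistSES.tensorSC S L).f := hT.mono_f
    have hw : (Groth.Agent.Helper13.TwistSES.tensorSC S L).g.app ⊤ (wsec L s i j) = 0 := by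
      have := map_wsec L hL s i j
      rw [← hSg] at this
      exact this
    exact app_exact_of_exact_of_mono (Groth.Agent.Helper13.TwistSES.tensorSC S L) hT.exact ⊤
      (wsec L s i j) hw
  choose κ hκ using hκ
  rw [Groth.Agent.Helper13.GlobGen.isGloballyGenerated_iff]
  intro y
  unfold Groth.Agent.Helper13.GlobGen.GGAt
  rw [eq_top_iff]
  intro z _
  obtain ⟨ζ, rfl⟩ := (stalkTensorEquiv (kernel Sg) L y).surjective z
  obtain ⟨U₀, hy₀, e, he⟩ := (isInvertible_iff_exists_isGen L).1 hL y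
  obtain ⟨ε₀, hε₀⟩ : ∃ ε₀ : L.presheaf.stalk y, ε₀ = L.presheaf.germ U₀ y hy₀ e := ⟨_, rfl⟩
  have hbij : Function.Bijective (fun r : X.presheaf.stalk y => r • ε₀) := by
    rw [hε₀]; exact he y hy₀
  obtain ⟨k₀, rfl⟩ := exists_tmul_gen ε₀ hbij.2 ζ
  have hf0S : stalkMap Sg y (stalkMap (kernel.ι Sg) y k₀) = 0 := by
    rw [← Groth.Agent.Helper18.BasisCrit.stalkMap_comp, kernel.condition]
    exact Groth.Agent.Helper18.BasisCrit.stalkMap_zero y k₀
  obtain ⟨ρ, hρ⟩ := exists_coord (n + 1) y (stalkMap (kernel.ι Sg) y k₀)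
  have hα : ∀ k : Fin (n + 1), ∃ a : X.presheaf.stalk y,
      a • ε₀ = L.presheaf.germ ⊤ y trivial (sec L (s k)) := fun k => hbij.2 _
  choose α hα using hα
  have hφ : ∀ k : Fin (n + 1),
      stalkMap Sg y ((FlatMod.freeMod X (n + 1)).presheaf.germ ⊤ y trivial (eps (n + 1) k)) =
        α k • ε₀ := by
    intro k
    rw [stalkMap_germ, hSg, desc_app_eps, hα]
  have hstalk_sum : ∀ c : Fin (n + 1) → X.presheaf.stalk y,
      stalkMap Sg y (∑ k, c k • (FlatMod.freeMod X (n + 1)).presheaf.germ ⊤ y trivial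
        (eps (n + 1) k)) = (∑ k, c k * α k) • ε₀ := by
    intro c
    rw [map_sum, Finset.sum_smul]
    refine Finset.sum_congr rfl (fun k _ => ?_)
    rw [stalkMap_smul, hφ, mul_smul]
  have h0 : ∑ k, ρ k * α k = 0 := by
    have h := hstalk_sum ρ
    rw [← hρ, hf0S] at h
    apply hbij.1
    show (∑ k, ρ k * α k) • ε₀ = (0 : X.presheaf.stalk y) • ε₀
    rw [zero_smul]
    exact h.symm
  obtain ⟨f₁, hf₁⟩ := stalkMap_surjective_of_epi Sg y ε₀
  obtain ⟨γ, hγ⟩ := exists_coord (n + 1) y f₁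
  have h1 : ∑ k, γ k * α k = 1 := by
    have h := hstalk_sum γ
    rw [← hγ, hf₁] at h
    apply hbij.1
    show (∑ k, γ k * α k) • ε₀ = (1 : X.presheaf.stalk y) • ε₀
    rw [one_smul]
    exact h.symm
  have hinjG : Function.Injective (stalkMap (Tensor.map (kernel.ι Sg) (𝟙 L)) y) :=
    (mono_iff_stalk_injective _).1 hmono y
  have hz : stalkTensorEquiv (kernel Sg) L y (k₀ ⊗ₜ ε₀) =
      ∑ i, ∑ j, (γ i * ρ j) •
        (CohB1.tensorMod (kernel Sg) L).presheaf.germ ⊤ y trivial (κ i j) := by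
    apply hinjG
    rw [Groth.Agent.Helper13.TwistSES.stalkMap_map_id, LinearMap.rTensor_tmul,
      stalkLinearMap_apply, hρ]
    rw [alg_key (fun k => (FlatMod.freeMod X (n + 1)).presheaf.germ ⊤ y trivial (eps (n + 1) k))
      ε₀ α γ ρ h1 h0]
    rw [map_sum, map_sum]
    refine Finset.sum_congr rfl (fun i _ => ?_)
    rw [map_sum, map_sum]
    refine Finset.sum_congr rfl (fun j _ => ?_)
    have hR : stalkMap (Tensor.map (kernel.ι Sg) (𝟙 L)) y ((γ i * ρ j) •
        (CohB1.tensorMod (kernel Sg) L).presheaf.germ ⊤ y trivial (κ i j)) =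
        (γ i * ρ j) • (CohB1.tensorMod (FlatMod.freeMod X (n + 1)) L).presheaf.germ ⊤ y trivial
          (wsec L s i j) := by
      rw [stalkMap_smul, stalkMap_germ, hκ]
    have hLt : stalkTensorEquiv (FlatMod.freeMod X (n + 1)) L y ((γ i * ρ j) •
        ((FlatMod.freeMod X (n + 1)).presheaf.germ ⊤ y trivial (eps (n + 1) j) ⊗ₜ (α i • ε₀) -
          (FlatMod.freeMod X (n + 1)).presheaf.germ ⊤ y trivial (eps (n + 1) i) ⊗ₜ (α j • ε₀))) =
        (γ i * ρ j) • (CohB1.tensorMod (FlatMod.freeMod X (n + 1)) L).presheaf.germ ⊤ y trivial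
          (wsec L s i j) := by
      rw [map_smul, map_sub, hα, hα, stalkTensorEquiv_germ, stalkTensorEquiv_germ, ← map_sub]
      rfl
    rw [hR]
    exact hLt
  rw [hz]
  exact Submodule.sum_mem _ (fun i _ => Submodule.sum_mem _ (fun j _ =>
    Submodule.smul_mem _ _ (Submodule.subset_span ⟨κ i j, rfl⟩)))

end Groth.Agent.Helper6.KoszGen
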