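import Mathlib

/-!
# Polynomial lemmas for the Adams–Riemann–Roch formula for an elementary projection
-/

set_option autoImplicit false

namespace Groth.Agent.Helper6.LamARR

open Polynomial Finset

section General

variable {R : Type*} [CommRing R]

/-- a polynomial whose values at the `b ∈ s` are units is a unit modulo `∏ (X - b)`. -/
theorem exists_mul_eq_one_add (s : Multiset R) (x : R[X]) (hx : ∀ b ∈ s, IsUnit (x.eval b)) :
    ∃ y z : R[X], x * y = 1 + (s.map fun b => X - C b).prod * z := by
  induction s using Multiset.induction_on with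
  | empty => exact ⟨0, -1, by simp⟩
  | cons b s ih =>
    obtain ⟨y₁, z₁, h₁⟩ := ih (fun c hc => hx c (Multiset.mem_cons_of_mem hc))
    obtain ⟨v, hv⟩ := (hx b (Multiset.mem_cons_self b s)).exists_right_inv
    obtain ⟨d, hd⟩ := Polynomial.X_sub_C_dvd_sub_C_eval (a := b) (p := x)
    have h₂ : x * C v = 1 + (X - C b) * (d * C v) := by
      have h3 : x = C (x.eval b) + (X - C b) * d := by rw [← hd]; ring
      calc x * C v = (C (x.eval b) + (X - C b) * d) * C v := by rw [← h3]
        _ = C (x.eval b * v) + (X - C b) * (d * C v) := by rw [C_mul]; ring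
        _ = _ := by rw [hv, C_1]
    refine ⟨y₁ + C v - x * y₁ * C v, -(z₁ * (d * C v)), ?_⟩
    rw [Multiset.map_cons, Multiset.prod_cons]
    linear_combination (1 - x * C v) * h₁ - ((s.map fun b => X - C b).prod * z₁) * h₂

theorem one_sub_CX_cancel (a : R) {y z : R[X]} (h : (1 - C a * X) * y = (1 - C a * X) * z) :
    y = z := by
  have h' := congrArg (fun p : R[X] => (p : PowerSeries R)) h
  simp only [Polynomial.coe_mul] at h'
  have hu : IsUnit ((1 - C a * X : R[X]) : PowerSeries R) := by
    rw [PowerSeries.isUnit_iff_constantCoeff]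
    simp
  exact Polynomial.coe_injective R (hu.mul_left_cancel h')

/-- uniqueness: a polynomial `G` of degree `< card s` with `∏ (1 - a t) ∣ H(t) G(t^j)` vanishes. -/
theorem peel (j : ℕ) (s : Multiset Rˣ)
    (hΦ : ∀ a ∈ s, ∀ a' ∈ s, IsUnit (∑ m ∈ range j, ((a : R) * ((a'⁻¹ : Rˣ) : R)) ^ m)) :
    ∀ (H G : R[X]), (∀ a ∈ s, IsUnit (H.eval ((a⁻¹ : Rˣ) : R))) →
      (G ≠ 0 → G.natDegree < Multiset.card s) →
      (s.map fun a : Rˣ => 1 - C (a : R) * X).prod ∣ H * expand R j G → G = 0 := by
  induction s using Multiset.induction_on with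
  | empty =>
    intro H G _ hG _
    by_contra h
    have := hG h
    simp at this
  | cons a s ih =>
    intro H G hH hG hdvd
    by_contra hG0
    have hs : ∀ a₁ ∈ s, ∀ a' ∈ s, IsUnit (∑ m ∈ range j, ((a₁ : R) * ((a'⁻¹ : Rˣ) : R)) ^ m) :=
      fun a₁ h₁ a' h' => hΦ a₁ (Multiset.mem_cons_of_mem h₁) a' (Multiset.mem_cons_of_mem h')
    set b : R := ((a⁻¹ : Rˣ) : R) with hb
    have hab : (a : R) * b = 1 := by rw [hb]; exact Units.mul_inv a
    -- evaluate at b
    rw [Multiset.map_cons, Multiset.prod_cons] at hdvd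
    obtain ⟨q, hq⟩ := hdvd
    have hev := congrArg (Polynomial.eval b) hq
    simp only [eval_mul, eval_sub, eval_one, eval_C, eval_X, hab, sub_self, zero_mul,
      expand_eval] at hev
    have hroot : G.eval (b ^ j) = 0 := by
      exact (hH a (Multiset.mem_cons_self a s)).mul_right_eq_zero.mp hev
    have hG' : (X - C (b ^ j)) * (G /ₘ (X - C (b ^ j))) = G :=
      Polynomial.mul_divByMonic_eq_iff_isRoot.mpr hroot
    set G' := G /ₘ (X - C (b ^ j)) with hG'def
    have hG'0 : G' ≠ 0 := by
      intro h0
      rw [h0, mul_zero] at hG'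
      exact hG0 hG'.symm
    have hdeg : G.natDegree = 1 + G'.natDegree := by
      haveI : Nontrivial R := by
        by_contra hnt
        rw [not_nontrivial_iff_subsingleton] at hnt
        exact hG0 (Subsingleton.elim _ _)
      rw [← hG', (monic_X_sub_C (b ^ j)).natDegree_mul' hG'0, natDegree_X_sub_C]
    -- factor the expansion
    have hexp : expand R j G =
        (1 - C (a : R) * X) * (-C b * (∑ m ∈ range j, X ^ m * (C b) ^ (j - 1 - m)) * expand R j G') := by
      rw [← hG', map_mul, map_sub, expand_X, expand_C]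
      have h1 : (X : R[X]) ^ j - C (b ^ j) =
          (∑ m ∈ range j, X ^ m * (C b) ^ (j - 1 - m)) * (X - C b) := by
        rw [geom_sum₂_mul, C_pow]
      have h2 : (X : R[X]) - C b = -C b * (1 - C (a : R) * X) := by
        have : C b * C (a : R) = (1 : R[X]) := by rw [← C_mul, mul_comm, hab, C_1]
        linear_combination (-X : R[X]) * this
      rw [h1, h2]
      ring
    rw [hexp] at hq
    have hq' : (1 - C (a : R) * X) *
        (H * (-C b * (∑ m ∈ range j, X ^ m * (C b) ^ (j - 1 - m))) * expand R j G') =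
        (1 - C (a : R) * X) * ((s.map fun a : Rˣ => 1 - C (a : R) * X).prod * q) := by
      rw [← mul_assoc (1 - C (a : R) * X) _ q, ← hq]; ring
    have hq'' := one_sub_CX_cancel _ hq'
    refine hG'0 (ih hs _ G' ?_ ?_ ⟨q, hq''⟩)
    · intro a' ha'
      rw [eval_mul, eval_mul, eval_neg, eval_C, eval_finsetSum]
      simp only [eval_mul, eval_pow, eval_X, eval_C]
      refine ((hH a' (Multiset.mem_cons_of_mem ha')).mul ?_)
      refine (IsUnit.mul ?_ ?_)
      · exact (Units.isUnit (a⁻¹)).neg
      · have key : ∑ m ∈ range j, ((a'⁻¹ : Rˣ) : R) ^ m * b ^ (j - 1 - m) =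
            b ^ (j - 1) * ∑ m ∈ range j, ((a : R) * ((a'⁻¹ : Rˣ) : R)) ^ m := by
          rw [Finset.mul_sum]
          refine Finset.sum_congr rfl fun m hm => ?_
          have hm' : m ≤ j - 1 := by have := Finset.mem_range.mp hm; omega
          have e1 : b ^ (j - 1) = b ^ (j - 1 - m) * b ^ m := by
            rw [← pow_add]; congr 1; omega
          rw [e1, mul_pow]
          have e2 : b ^ m * (a : R) ^ m = 1 := by rw [← mul_pow, mul_comm, hab, one_pow]
          linear_combination (-(b ^ (j - 1 - m) * ((a'⁻¹ : Rˣ) : R) ^ m)) * e2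
        rw [key]
        exact ((Units.isUnit (a⁻¹)).pow _).mul
          (hΦ a (Multiset.mem_cons_self a s) a' (Multiset.mem_cons_of_mem ha'))
    · intro _
      have := hG hG0
      rw [Multiset.card_cons] at this
      omega

end General

end Groth.Agent.Helper6.LamARR
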