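import Groth.Agent.Lib.Helper6.LamARR1

/-!
# The core identity for the Adams–Riemann–Roch formula for an elementary projection
-/

set_option autoImplicit false

namespace Groth.Agent.Helper6.LamARR

open Polynomial Finset

section Aux

variable {S : Type*} [CommRing S]

theorem prod_add_eq {α : Type*} (x : S) (t : Multiset α) (f : α → S) :
    ∃ z, (t.map fun a => x + f a).prod = x * z + (t.map f).prod := by
  induction t using Multiset.induction_on with
  | empty => exact ⟨0, by simp⟩
  | cons y t ih =>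
    obtain ⟨z, hz⟩ := ih
    refine ⟨(x + f y) * z + (t.map f).prod, ?_⟩
    rw [Multiset.map_cons, Multiset.prod_cons, Multiset.map_cons, Multiset.prod_cons, hz]
    ring

theorem prod_C_mul_X {α : Type*} (t : Multiset α) (f : α → S) :
    (t.map fun a => C (f a) * X).prod = C ((t.map f).prod) * X ^ (Multiset.card t) := by
  induction t using Multiset.induction_on with
  | empty => simp
  | cons y t ih =>
    rw [Multiset.map_cons, Multiset.prod_cons, ih, Multiset.map_cons, Multiset.prod_cons,
      Multiset.card_cons, C_mul]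
    ring

theorem natDegree_prod_one_sub_le {α : Type*} (t : Multiset α) (f : α → S) :
    ((t.map fun a => 1 - C (f a) * X).prod).natDegree ≤ Multiset.card t := by
  induction t using Multiset.induction_on with
  | empty => simp
  | cons y t ih =>
    rw [Multiset.map_cons, Multiset.prod_cons, Multiset.card_cons]
    refine natDegree_mul_le.trans ?_
    have h1 : (1 - C (f y) * X : S[X]).natDegree ≤ 1 := by
      refine (natDegree_sub_le _ _).trans ?_
      rw [natDegree_one]
      exact max_le (by omega) ((natDegree_C_mul_le _ _).trans natDegree_X_le)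
    omega

/-- coefficients of `q` when `(1 - c X) q = π`. -/
theorem coeff_of_one_sub_CX_mul (c : S) (q π : S[X]) (h : (1 - C c * X) * q = π) (m : ℕ) :
    q.coeff m = ∑ i ∈ range (m + 1), π.coeff i * c ^ (m - i) := by
  have h0 : q = π + C c * (X * q) := by rw [← h]; ring
  induction m with
  | zero =>
    rw [h0]
    simp
  | succ m ih =>
    rw [Finset.sum_range_succ, Nat.sub_self, pow_zero, mul_one]
    have h1 : q.coeff (m + 1) = π.coeff (m + 1) + c * q.coeff m := by
      conv_lhs => rw [h0]
      rw [coeff_add, coeff_C_mul, coeff_X_mul]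
    rw [h1, ih, Finset.mul_sum, add_comm]
    congr 1
    refine Finset.sum_congr rfl fun i hi => ?_
    have := Finset.mem_range.mp hi
    have e : m + 1 - i = (m - i) + 1 := by omega
    rw [e, pow_succ]
    ring

theorem natDegree_lt_of_one_sub_CX_mul (c : S) (hc : IsUnit c) (q π : S[X])
    (h : (1 - C c * X) * q = π) (n : ℕ) (_hn : 1 ≤ n) (hπ : π.natDegree ≤ n) (hq : q ≠ 0) :
    q.natDegree < n := by
  by_contra hcon
  rw [not_lt] at hcon
  have h0 : q = π + C c * (X * q) := by rw [← h]; ring
  have hgen : ∀ k, q.coeff (k + 1) = π.coeff (k + 1) + c * q.coeff k := by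
    intro k
    conv_lhs => rw [h0]
    rw [coeff_add, coeff_C_mul, coeff_X_mul]
  have h1 := hgen q.natDegree
  rw [coeff_eq_zero_of_natDegree_lt (Nat.lt_succ_self _),
    coeff_eq_zero_of_natDegree_lt (by omega : π.natDegree < q.natDegree + 1), zero_add] at h1
  have h2 : q.coeff q.natDegree = 0 := (hc.mul_right_eq_zero).mp h1.symm
  exact hq (leadingCoeff_eq_zero.mp h2)

end Aux

section GX

variable {B E : Type*} [CommRing B] [CommRing E] [Algebra B E]

/-- apply a linear functional coefficientwise. -/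
noncomputable def gX (g : E →ₗ[B] B) (Y : E[X]) : B[X] :=
  ∑ m ∈ range (Y.natDegree + 1), monomial m (g (Y.coeff m))

theorem coeff_gX (g : E →ₗ[B] B) (Y : E[X]) (m : ℕ) : (gX g Y).coeff m = g (Y.coeff m) := by
  rw [gX, finsetSum_coeff]
  simp only [coeff_monomial]
  rw [Finset.sum_ite_eq' (range (Y.natDegree + 1)) m]
  split_ifs with h
  · rfl
  · rw [Finset.mem_range, not_lt] at h
    rw [coeff_eq_zero_of_natDegree_lt (by omega), map_zero]

theorem gX_add (g : E →ₗ[B] B) (Y Z : E[X]) : gX g (Y + Z) = gX g Y + gX g Z := by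
  ext m
  rw [coeff_add, coeff_gX, coeff_gX, coeff_gX, coeff_add, map_add]

theorem gX_map_mul (g : E →ₗ[B] B) (b : B[X]) (Y : E[X]) :
    gX g (b.map (algebraMap B E) * Y) = b * gX g Y := by
  ext m
  rw [coeff_gX, coeff_mul, coeff_mul, map_sum]
  refine Finset.sum_congr rfl fun p _ => ?_
  rw [coeff_map, coeff_gX, ← Algebra.smul_def, map_smul, smul_eq_mul]

theorem gX_C_mul_expand (g : E →ₗ[B] B) (j : ℕ) (hj : 0 < j) (y : E) (Z : E[X]) :
    gX g (C y * expand E j Z) = expand B j (gX g (C y * Z)) := by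
  ext m
  rw [coeff_gX, coeff_C_mul, coeff_expand hj, coeff_expand hj]
  split_ifs with h
  · rw [coeff_gX, coeff_C_mul]
  · rw [mul_zero, map_zero]

end GX

section Core

variable {B E : Type*} [CommRing B] [CommRing E] [Algebra B E]
variable (j : ℕ) (s : Multiset Bˣ)

/-- `∏ (1 - a t)` -/
noncomputable def pt : B[X] := (s.map fun a : Bˣ => 1 - C (a : B) * X).prod

/-- `∏ Φ_j(a t)` -/
noncomputable def Qt : B[X] := (s.map fun a : Bˣ => ∑ m ∈ range j, (C (a : B) * X) ^ m).prod

/-- `∏ (1 - a^j t)` -/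
noncomputable def ptj : B[X] := (s.map fun a : Bˣ => 1 - C ((a : B) ^ j) * X).prod

theorem expand_ptj : expand B j (ptj j s) = pt s * Qt j s := by
  unfold ptj pt Qt
  rw [map_multiset_prod, Multiset.map_map, ← Multiset.prod_map_mul]
  congr 1
  refine Multiset.map_congr rfl fun a _ => ?_
  simp only [Function.comp_apply, map_sub, map_one, map_mul, expand_C, expand_X]
  rw [mul_neg_geom_sum, mul_pow, ← C_pow]

theorem core (hj : 0 < j)
    (hΦ : ∀ a ∈ s, ∀ a' ∈ s, IsUnit (∑ m ∈ range j, ((a : B) * ((a'⁻¹ : Bˣ) : B)) ^ m))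
    (l linv : E) (hl : linv * l = 1)
    (hroot : (s.map fun a : Bˣ => l - algebraMap B E (a : B)).prod = 0)
    (g : E →ₗ[B] B) (H Hj : PowerSeries B) (hH : H * (pt s : B[X]) = 1)
    (hHj : Hj * (ptj j s : B[X]) = 1)
    (hg : ∀ i, g (l ^ i) = PowerSeries.coeff i H)
    (w : E)
    (hw : w * (s.map fun a : Bˣ => ∑ m ∈ range j, (algebraMap B E (a : B) * linv) ^ m).prod = 1)
    (hs : 1 ≤ Multiset.card s) (i : ℕ) :
    g ((j : E) * w * l ^ (i * j)) = PowerSeries.coeff i Hj := by
  classical
  set ι := algebraMap B E with hι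
  -- (i) the polynomial q̃
  have hptE : (pt s).map ι = (s.map fun a : Bˣ => (1 - C l * X) + C (l - ι (a : B)) * X).prod := by
    unfold pt
    rw [Polynomial.map_multiset_prod, Multiset.map_map]
    congr 1
    refine Multiset.map_congr rfl fun a _ => ?_
    simp only [Function.comp_apply, Polynomial.map_sub, Polynomial.map_one, Polynomial.map_mul,
      Polynomial.map_C, Polynomial.map_X, C_sub]
    ring
  obtain ⟨qt, hqt⟩ : ∃ qt : E[X], (1 - C l * X) * qt = (pt s).map ι := by
    obtain ⟨z, hz⟩ := prod_add_eq (1 - C l * X : E[X]) s (fun a : Bˣ => C (l - ι (a : B)) * X)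
    refine ⟨z, ?_⟩
    rw [hptE, hz, prod_C_mul_X s (fun a : Bˣ => l - ι (a : B)), hroot, C_0, zero_mul, add_zero]
  -- (ii) the polynomial q̃_j
  have hrootj : (s.map fun a : Bˣ => l ^ j - ι ((a : B) ^ j)).prod = 0 := by
    have h1 : (s.map fun a : Bˣ => l ^ j - ι ((a : B) ^ j)) =
        s.map fun a : Bˣ => (∑ m ∈ range j, l ^ m * (ι (a : B)) ^ (j - 1 - m)) * (l - ι (a : B)) := by
      refine Multiset.map_congr rfl fun a _ => ?_
      rw [geom_sum₂_mul, map_pow]
    rw [h1, Multiset.prod_map_mul, hroot, mul_zero]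
  have hptjE : (ptj j s).map ι =
      (s.map fun a : Bˣ => (1 - C (l ^ j) * X) + C (l ^ j - ι ((a : B) ^ j)) * X).prod := by
    unfold ptj
    rw [Polynomial.map_multiset_prod, Multiset.map_map]
    congr 1
    refine Multiset.map_congr rfl fun a _ => ?_
    simp only [Function.comp_apply, Polynomial.map_sub, Polynomial.map_one, Polynomial.map_mul,
      Polynomial.map_C, Polynomial.map_X, C_sub]
    ring
  obtain ⟨qtj, hqtj⟩ : ∃ qtj : E[X], (1 - C (l ^ j) * X) * qtj = (ptj j s).map ι := by
    obtain ⟨z, hz⟩ := prod_add_eq (1 - C (l ^ j) * X : E[X]) s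
      (fun a : Bˣ => C (l ^ j - ι ((a : B) ^ j)) * X)
    refine ⟨z, ?_⟩
    rw [hptjE, hz, prod_C_mul_X s (fun a : Bˣ => l ^ j - ι ((a : B) ^ j)), hrootj, C_0, zero_mul,
      add_zero]
  -- (b)
  set Φl : E[X] := ∑ m ∈ range j, (C l * X) ^ m with hΦl
  have hb : Φl * expand E j qtj = qt * (Qt j s).map ι := by
    apply one_sub_CX_cancel l
    have e1 : (1 - C l * X) * (Φl * expand E j qtj) = expand E j ((1 - C (l ^ j) * X) * qtj) := by
      rw [← mul_assoc, hΦl, mul_neg_geom_sum, map_mul, map_sub, map_one, map_mul, expand_C, expand_X,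
        mul_pow, ← C_pow]
    rw [e1, hqtj, ← Polynomial.map_expand, expand_ptj, Polynomial.map_mul, ← hqt]
    ring
  -- (c)
  have hcl : (C linv * C l : E[X]) = 1 := by rw [← C_mul, hl, C_1]
  have hc : ∀ c : E[X], ∃ d : E[X], c * qt = C (c.eval linv) * qt + (pt s).map ι * d := by
    intro c
    obtain ⟨d₀, hd₀⟩ := Polynomial.X_sub_C_dvd_sub_C_eval (a := linv) (p := c)
    have h2 : (X - C linv) * qt = -C linv * (pt s).map ι := by
      rw [← hqt]
      linear_combination (-(X * qt)) * hcl
    refine ⟨-C linv * d₀, ?_⟩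
    linear_combination qt * hd₀ + d₀ * h2
  -- (d)
  have hunitE : ∀ a' ∈ s, IsUnit (∑ m ∈ range j, (l * ι ((a'⁻¹ : Bˣ) : B)) ^ m) := by
    intro a' ha'
    obtain ⟨y, z, hyz⟩ := exists_mul_eq_one_add (s.map fun a : Bˣ => (a : B))
      (∑ m ∈ range j, (X * C ((a'⁻¹ : Bˣ) : B)) ^ m) (by
        intro b hb
        obtain ⟨a, ha, rfl⟩ := Multiset.mem_map.mp hb
        simp only [eval_finsetSum, eval_pow, eval_mul, eval_X, eval_C]
        exact hΦ a ha a' ha')
    have h1 := congrArg (Polynomial.aeval l) hyz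
    rw [map_mul, map_add, map_one, map_mul, map_multiset_prod, Multiset.map_map, Multiset.map_map,
      map_sum] at h1
    have h2 : ∀ a : Bˣ, ((⇑(Polynomial.aeval l) ∘ fun b : B => (X - C b : B[X])) ∘
        fun a : Bˣ => (a : B)) a = l - ι (a : B) := by
      intro a
      simp [hι]
    rw [Multiset.map_congr rfl (fun a _ => h2 a), hroot, zero_mul, add_zero] at h1
    have h3 : ∀ m, (Polynomial.aeval l) ((X * C ((a'⁻¹ : Bˣ) : B)) ^ m : B[X]) =
        (l * ι ((a'⁻¹ : Bˣ) : B)) ^ m := by
      intro m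
      rw [map_pow, map_mul, Polynomial.aeval_X, Polynomial.aeval_C]
    simp only [h3] at h1
    exact IsUnit.of_mul_eq_one _ h1
  obtain ⟨A, z, hAz⟩ := exists_mul_eq_one_add (s.map fun a : Bˣ => ι ((a⁻¹ : Bˣ) : B)) Φl (by
    intro b hb
    obtain ⟨a', ha', rfl⟩ := Multiset.mem_map.mp hb
    rw [hΦl]
    simp only [eval_finsetSum, eval_pow, eval_mul, eval_X, eval_C]
    exact hunitE a' ha')
  have hT : ((s.map fun a : Bˣ => ι ((a⁻¹ : Bˣ) : B)).map fun b => (X - C b : E[X])).prod =
      (pt s).map ι * C ((s.map fun a : Bˣ => -ι ((a⁻¹ : Bˣ) : B)).prod) := by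
    unfold pt
    rw [Polynomial.map_multiset_prod, Multiset.map_map, Multiset.map_map, map_multiset_prod,
      Multiset.map_map, ← Multiset.prod_map_mul]
    congr 1
    refine Multiset.map_congr rfl fun a _ => ?_
    simp only [Function.comp_apply, Polynomial.map_sub, Polynomial.map_one, Polynomial.map_mul,
      Polynomial.map_C, Polynomial.map_X]
    have : (C (ι (a : B)) * C (ι ((a⁻¹ : Bˣ) : B)) : E[X]) = 1 := by
      rw [← C_mul, ← map_mul, Units.mul_inv, map_one, C_1]
    rw [C_neg]
    linear_combination (-X : E[X]) * this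
  rw [hT] at hAz
  -- values at linv
  have hΦlinv : Φl.eval linv = (j : E) := by
    rw [hΦl]
    simp only [eval_finsetSum, eval_pow, eval_mul, eval_X, eval_C]
    rw [mul_comm l linv, hl]
    simp
  have hptlinv : ((pt s).map ι).eval linv = 0 := by
    rw [← hqt, eval_mul]
    simp only [eval_sub, eval_one, eval_mul, eval_C, eval_X]
    rw [mul_comm l linv, hl, sub_self, zero_mul]
  have hAlinv : (j : E) * A.eval linv = 1 := by
    have := congrArg (Polynomial.eval linv) hAz
    rw [eval_mul, eval_add, eval_one, eval_mul, eval_mul, hptlinv, zero_mul, zero_mul, add_zero,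
      hΦlinv] at this
    exact this
  have hQlinv : ((Qt j s).map ι).eval linv =
      (s.map fun a : Bˣ => ∑ m ∈ range j, (ι (a : B) * linv) ^ m).prod := by
    unfold Qt
    rw [Polynomial.map_multiset_prod, eval_multiset_prod, Multiset.map_map, Multiset.map_map]
    congr 1
    refine Multiset.map_congr rfl fun a _ => ?_
    simp only [Function.comp_apply, Polynomial.map_sum, Polynomial.map_pow, Polynomial.map_mul,
      Polynomial.map_C, Polynomial.map_X, eval_finsetSum, eval_pow, eval_mul, eval_C, eval_X]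
  -- (e)
  obtain ⟨d, hd⟩ := hc (A * (Qt j s).map ι)
  rw [eval_mul, hQlinv] at hd
  have hmain : C ((j : E) * w) * expand E j qtj = qt + (pt s).map ι *
      (C ((j : E) * w) * (d - C ((s.map fun a : Bˣ => -ι ((a⁻¹ : Bˣ) : B)).prod) * z *
        expand E j qtj)) := by
    have e1 : C ((j : E) * w) * C (A.eval linv *
        (s.map fun a : Bˣ => ∑ m ∈ range j, (ι (a : B) * linv) ^ m).prod) = (1 : E[X]) := by
      rw [← C_mul, ← C_1]
      congr 1
      linear_combination w * (s.map fun a : Bˣ => ∑ m ∈ range j, (ι (a : B) * linv) ^ m).prod *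
        hAlinv + hw
    linear_combination (-(C ((j : E) * w) * expand E j qtj)) * hAz +
      (C ((j : E) * w) * A) * hb + (C ((j : E) * w)) * hd + qt * e1
  have hgqt : gX g qt = 1 := by
    ext m
    rw [coeff_gX, coeff_of_one_sub_CX_mul l qt _ hqt m, map_sum]
    have h1 : ∀ k ∈ range (m + 1), g (((pt s).map ι).coeff k * l ^ (m - k)) =
        (pt s).coeff k * PowerSeries.coeff (m - k) H := by
      intro k _
      rw [coeff_map, ← Algebra.smul_def, map_smul, hg, smul_eq_mul]
    rw [Finset.sum_congr rfl h1]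
    have h2 := congrArg (PowerSeries.coeff m) hH
    rw [mul_comm, PowerSeries.coeff_mul, Finset.Nat.sum_antidiagonal_eq_sum_range_succ_mk] at h2
    simp only [Polynomial.coeff_coe] at h2
    rw [h2, PowerSeries.coeff_one, coeff_one]
  set G₀ : B[X] := gX g (C ((j : E) * w) * qtj) with hG₀
  have hexpG : expand B j (G₀ - 1) = pt s * gX g (C ((j : E) * w) *
      (d - C ((s.map fun a : Bˣ => -ι ((a⁻¹ : Bˣ) : B)).prod) * z * expand E j qtj)) := by
    rw [map_sub, map_one, hG₀, ← gX_C_mul_expand g j hj, hmain, gX_add, hgqt, gX_map_mul]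
    ring
  -- degree bound
  have hdeg : G₀ - 1 ≠ 0 → (G₀ - 1).natDegree < Multiset.card s := by
    intro _
    have h1 : G₀.natDegree < Multiset.card s := by
      by_cases hq0 : qtj = 0
      · rw [hG₀, hq0, mul_zero]
        have : gX g (0 : E[X]) = 0 := by
          ext m; rw [coeff_gX]; simp
        rw [this, natDegree_zero]; omega
      · have hlj : IsUnit (l ^ j) :=
          (IsUnit.of_mul_eq_one _ (by rw [mul_comm]; exact hl)).pow j
        have h2 := natDegree_lt_of_one_sub_CX_mul (l ^ j) hlj qtj _ hqtj (Multiset.card s) hs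
          ((natDegree_map_le).trans (natDegree_prod_one_sub_le s _)) hq0
        refine lt_of_le_of_lt ?_ h2
        rw [natDegree_le_iff_coeff_eq_zero]
        intro m hm
        rw [hG₀, coeff_gX, coeff_C_mul, coeff_eq_zero_of_natDegree_lt hm, mul_zero, map_zero]
    refine lt_of_le_of_lt (natDegree_sub_le _ _) ?_
    rw [natDegree_one]
    exact max_lt h1 (by omega)
  have hG1 : G₀ - 1 = 0 := by
    apply peel j s hΦ 1 (G₀ - 1)
    · intro a _
      rw [eval_one]; exact isUnit_one
    · exact hdeg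
    · rw [one_mul, hexpG]
      exact ⟨_, rfl⟩
  have hG : G₀ = 1 := sub_eq_zero.mp hG1
  -- (f) read off the coefficients
  have hcoef : ∀ m, ∑ k ∈ range (m + 1), (ptj j s).coeff k * g ((j : E) * w * l ^ ((m - k) * j)) =
      if m = 0 then 1 else 0 := by
    intro m
    have h1 := congrArg (fun p : B[X] => p.coeff m) hG
    simp only [hG₀, coeff_gX, coeff_C_mul, coeff_one] at h1
    rw [coeff_of_one_sub_CX_mul (l ^ j) qtj _ hqtj m, Finset.mul_sum, map_sum] at h1
    rw [← h1]
    refine Finset.sum_congr rfl fun k _ => ?_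
    rw [coeff_map, ← pow_mul, mul_comm j (m - k)]
    have : (j : E) * w * (ι ((ptj j s).coeff k) * l ^ ((m - k) * j)) =
        (ptj j s).coeff k • ((j : E) * w * l ^ ((m - k) * j)) := by
      rw [Algebra.smul_def]; ring
    rw [this, map_smul, smul_eq_mul]
  have hser : (PowerSeries.mk fun k => g ((j : E) * w * l ^ (k * j))) * (ptj j s : B[X]) = 1 := by
    ext m
    rw [mul_comm, PowerSeries.coeff_mul, Finset.Nat.sum_antidiagonal_eq_sum_range_succ_mk,
      PowerSeries.coeff_one]
    simp only [Polynomial.coeff_coe, PowerSeries.coeff_mk]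
    exact hcoef m
  have : (PowerSeries.mk fun k => g ((j : E) * w * l ^ (k * j))) = Hj := by
    calc (PowerSeries.mk fun k => g ((j : E) * w * l ^ (k * j)))
        = (PowerSeries.mk fun k => g ((j : E) * w * l ^ (k * j))) * ((ptj j s : B[X]) * Hj) := by
          rw [mul_comm _ Hj, hHj, mul_one]
      _ = Hj := by rw [← mul_assoc, hser, one_mul]
  rw [← this, PowerSeries.coeff_mk]

end Core

end Groth.Agent.Helper6.LamARR
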