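import Groth.Agent.Lib.Helper6.LamExt

/-!
# Annihilator of `1 - ℓ` in the elementary extension `K_e`
-/

set_option autoImplicit false
universe v u

namespace Groth.Agent.Helper6.LamExt

open Finset LambdaRing Groth.Agent.Helper5.Lam Polynomial

section Poly

variable {K : Type v} [CommRing K]

/-- `S c n = Σ_{i ≤ n} c_i X^(n-i)`. -/
noncomputable def SS (c : ℕ → K) (n : ℕ) : K[X] := ∑ i ∈ range (n + 1), C (c i) * X ^ (n - i)

/-- `T c n = Σ_{k < n} S c k`. -/
noncomputable def TT (c : ℕ → K) (n : ℕ) : K[X] := ∑ k ∈ range n, SS c k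

theorem SS_succ (c : ℕ → K) (n : ℕ) : SS c (n + 1) = X * SS c n + C (c (n + 1)) := by
  rw [SS, Finset.sum_range_succ, Nat.sub_self, pow_zero, mul_one, SS, Finset.mul_sum]
  congr 1
  refine Finset.sum_congr rfl fun i hi => ?_
  have := Finset.mem_range.mp hi
  have e1 : n + 1 - i = (n - i) + 1 := by omega
  rw [e1, pow_succ]; ring

theorem TT_rel (c : ℕ → K) (n : ℕ) :
    (X - 1) * TT c n = SS c n - C (∑ k ∈ range (n + 1), c k) := by
  induction n with
  | zero => simp [TT, SS]
  | succ n ih =>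
    rw [TT, Finset.sum_range_succ, mul_add, ← TT, ih, SS_succ, Finset.sum_range_succ _ (n + 1), map_add]
    ring

theorem SS_eq (c : ℕ → K) (hc0 : c 0 = 1) (m : ℕ) :
    SS c m = X ^ m + ∑ i ∈ range m, C (c (i + 1)) * X ^ (m - (i + 1)) := by
  rw [SS, Finset.sum_range_succ', hc0, map_one, one_mul, Nat.sub_zero, add_comm]

theorem degree_rest_lt (c : ℕ → K) (m : ℕ) :
    (∑ i ∈ range m, C (c (i + 1)) * X ^ (m - (i + 1))).degree < (m : WithBot ℕ) := by
  refine (Polynomial.degree_sum_le _ _).trans_lt ?_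
  refine (Finset.sup_lt_iff (WithBot.bot_lt_coe m)).mpr ?_
  intro i hi
  refine (Polynomial.degree_C_mul_X_pow_le _ _).trans_lt ?_
  have := Finset.mem_range.mp hi
  exact WithBot.coe_lt_coe.mpr (by omega : m - (i + 1) < m)

theorem SS_monic (c : ℕ → K) (hc0 : c 0 = 1) (m : ℕ) : (SS c m).Monic := by
  rw [SS_eq c hc0]
  exact Polynomial.monic_X_pow_add (degree_rest_lt c m)

theorem SS_natDegree [Nontrivial K] (c : ℕ → K) (hc0 : c 0 = 1) (m : ℕ) : (SS c m).natDegree = m := by
  rw [SS_eq c hc0, Polynomial.natDegree_add_eq_left_of_degree_lt, natDegree_X_pow]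
  rw [degree_X_pow]
  exact degree_rest_lt c m

/-- Key polynomial lemma: if `S_m ∣ g (1 - X)` with `deg g < m` then `g = -a T_m` for a scalar `a`
with `a S_m(1) = 0`. -/
theorem exists_scalar [Nontrivial K] (c : ℕ → K) (hc0 : c 0 = 1) (m : ℕ) (hm : 1 ≤ m) (g : K[X])
    (hg : g.degree < (SS c m).degree) (hdvd : SS c m ∣ g * (1 - X)) :
    ∃ a : K, g = -(C a * TT c m) := by
  have hmon := SS_monic c hc0 m
  have hnd := SS_natDegree c hc0 m
  obtain ⟨a', ha'⟩ := hdvd
  -- a' is constant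
  have hconst : ∃ a : K, a' = C a := by
    by_cases h0 : a' = 0
    · exact ⟨0, by simp [h0]⟩
    · have h1 : (SS c m * a').natDegree = m + a'.natDegree := by rw [hmon.natDegree_mul' h0, hnd]
      have h2 : (g * (1 - X)).natDegree ≤ g.natDegree + 1 := by
        refine (Polynomial.natDegree_mul_le).trans ?_
        have : (1 - X : K[X]).natDegree ≤ 1 := by
          refine (Polynomial.natDegree_sub_le _ _).trans ?_
          simp
        omega
      have h3 : g.natDegree < m := by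
        by_cases hg0 : g = 0
        · rw [hg0, natDegree_zero]; omega
        · have := Polynomial.natDegree_lt_natDegree hg0 hg
          rwa [hnd] at this
      rw [ha'] at h2
      have h4 : a'.natDegree = 0 := by omega
      exact ⟨a'.coeff 0, Polynomial.eq_C_of_natDegree_eq_zero h4⟩
  obtain ⟨a, rfl⟩ := hconst
  refine ⟨a, ?_⟩
  -- evaluate at 1
  have hev : a * ∑ k ∈ range (m + 1), c k = 0 := by
    have h := congrArg (Polynomial.eval 1) ha'
    have h5 : (SS c m).eval 1 = ∑ k ∈ range (m + 1), c k := by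
      simp [SS, Polynomial.eval_finsetSum]
    rw [eval_mul, eval_mul, eval_C, h5] at h
    simp only [eval_sub, eval_one, eval_X, sub_self, mul_zero] at h
    rw [mul_comm]; exact h.symm
  have h6 : (X - 1) * (C a * TT c m) = (X - 1) * (-g) := by
    calc (X - 1) * (C a * TT c m) = C a * ((X - 1) * TT c m) := by ring
      _ = C a * SS c m - C (a * ∑ k ∈ range (m + 1), c k) := by rw [TT_rel, map_mul]; ring
      _ = SS c m * C a := by rw [hev, map_zero, sub_zero, mul_comm]
      _ = g * (1 - X) := ha'.symm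
      _ = (X - 1) * (-g) := by ring
  have hreg : IsLeftRegular (X - 1 : K[X]) := by
    have := (Polynomial.monic_X_sub_C (1 : K)).isRegular.left
    simpa using this
  have := hreg h6
  rw [this, neg_neg]

end Poly

section Specific

variable {K : Type v} [CommRing K] [LambdaOps K]

theorem extPoly_eq_SS (P : PosStructure K) (e : K) (m : ℕ) (hm : (P.aug e).toNat = m) :
    KRR.extPoly P e = SS (cc e) m := by
  subst hm; rfl

theorem extPoly_monic (P : PosStructure K) (e : K) : (KRR.extPoly P e).Monic := by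
  rw [extPoly_eq_SS P e _ rfl]
  exact SS_monic _ (cc_zero e) _

theorem extPoly_natDegree (P : PosStructure K) (e : K) :
    (KRR.extPoly P e).natDegree = (P.aug e).toNat := by
  haveI : Nontrivial K := P.aug.domain_nontrivial
  rw [extPoly_eq_SS P e _ rfl]
  exact SS_natDegree _ (cc_zero e) _

/-- `(-1)^k λ^k(e - ℓ)` is the class of `S_k`. -/
theorem neg_pow_lam_sub_root (P : PosStructure K) (e : K)
    (inst : LambdaOps (AdjoinRoot (KRR.extPoly P e)))
    (hext : ∀ (i : ℕ) (x : K), @LambdaOps.lam _ _ inst i (AdjoinRoot.of (KRR.extPoly P e) x) =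
      AdjoinRoot.of (KRR.extPoly P e) (LambdaOps.lam i x))
    (hroot : ∀ i : ℕ, 2 ≤ i → @LambdaOps.lam _ _ inst i (AdjoinRoot.root (KRR.extPoly P e)) = 0)
    (k : ℕ) :
    (-1 : AdjoinRoot (KRR.extPoly P e)) ^ k * @LambdaOps.lam _ _ inst k
        (AdjoinRoot.of (KRR.extPoly P e) e - AdjoinRoot.root (KRR.extPoly P e)) =
      AdjoinRoot.mk (KRR.extPoly P e) (SS (cc e) k) := by
  rw [lam_sub_root _ _ hroot k, SS, map_sum, Finset.mul_sum]
  refine Finset.sum_congr rfl fun i hi => ?_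
  have hik : i ≤ k := by have := Finset.mem_range.mp hi; omega
  rw [hext, map_mul, map_pow, AdjoinRoot.mk_C, AdjoinRoot.mk_X, cc, map_mul, map_pow, map_neg, map_one,
    neg_pow (AdjoinRoot.root (KRR.extPoly P e))]
  have e2 : (-1 : AdjoinRoot (KRR.extPoly P e)) ^ k * (-1) ^ (k - i) = (-1) ^ i := by
    rw [← pow_add]
    have : k + (k - i) = i + 2 * (k - i) := by omega
    rw [this, pow_add, pow_mul]; simp
  calc (-1 : AdjoinRoot (KRR.extPoly P e)) ^ k * (AdjoinRoot.of (KRR.extPoly P e) (LambdaOps.lam i e) *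
        ((-1) ^ (k - i) * AdjoinRoot.root (KRR.extPoly P e) ^ (k - i)))
      = ((-1) ^ k * (-1) ^ (k - i)) * AdjoinRoot.of (KRR.extPoly P e) (LambdaOps.lam i e) *
        AdjoinRoot.root (KRR.extPoly P e) ^ (k - i) := by ring
    _ = _ := by rw [e2]

/-- S3802. -/
theorem eq_of_mul_one_sub_root_eq_zero (P : PosStructure K) (c : K) (hc : c ∈ P.pos) (r : ℕ)
    (hr : P.aug c = r + 1)
    (inst : LambdaOps (AdjoinRoot (KRR.extPoly P c))) (Pc : @PosStructure _ _ inst)
    (hext : @IsExtension K _ _ _ _ inst P Pc (AdjoinRoot.of (KRR.extPoly P c)))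
    (hroot : ∀ i : ℕ, 2 ≤ i → @LambdaOps.lam _ _ inst i (AdjoinRoot.root (KRR.extPoly P c)) = 0)
    (hline : @PosStructure.IsLine _ _ inst Pc (AdjoinRoot.root (KRR.extPoly P c)))
    (f : AdjoinRoot (KRR.extPoly P c) →ₗ[K] K)
    (hf : ∀ i : ℕ, i ≤ r → f (AdjoinRoot.root (KRR.extPoly P c) ^ i) = KRR.sigma i c)
    (z : AdjoinRoot (KRR.extPoly P c)) (hz : z * (1 - AdjoinRoot.root (KRR.extPoly P c)) = 0) :
    z = AdjoinRoot.of (KRR.extPoly P c) (f z) *
      @KRR.lamAlt _ _ inst Pc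
        (AdjoinRoot.of (KRR.extPoly P c) c - AdjoinRoot.root (KRR.extPoly P c)) := by
  haveI : Nontrivial K := P.aug.domain_nontrivial
  have hm : (P.aug c).toNat = r + 1 := by rw [hr]; rfl
  have hp : KRR.extPoly P c = SS (cc c) (r + 1) := extPoly_eq_SS P c (r + 1) hm
  have hmon : (KRR.extPoly P c).Monic := extPoly_monic P c
  have hext' : ∀ (i : ℕ) (x : K), @LambdaOps.lam _ _ inst i (AdjoinRoot.of (KRR.extPoly P c) x) =
      AdjoinRoot.of (KRR.extPoly P c) (LambdaOps.lam i x) := fun i x => (hext.isLambdaHom i x).symm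
  obtain ⟨g₀, rfl⟩ := AdjoinRoot.mk_surjective z
  have hgz : AdjoinRoot.mk (KRR.extPoly P c) (g₀ %ₘ KRR.extPoly P c) =
      AdjoinRoot.mk (KRR.extPoly P c) g₀ := by
    rw [AdjoinRoot.mk_eq_mk]
    refine ⟨-(g₀ /ₘ KRR.extPoly P c), ?_⟩
    have := Polynomial.modByMonic_add_div g₀ (KRR.extPoly P c)
    calc g₀ %ₘ KRR.extPoly P c - g₀
        = g₀ %ₘ KRR.extPoly P c - (g₀ %ₘ KRR.extPoly P c + KRR.extPoly P c * (g₀ /ₘ KRR.extPoly P c)) := by
          rw [this]
      _ = _ := by ring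
  have hdeg : (g₀ %ₘ KRR.extPoly P c).degree < (KRR.extPoly P c).degree :=
    Polynomial.degree_modByMonic_lt _ hmon
  have hdvd : KRR.extPoly P c ∣ (g₀ %ₘ KRR.extPoly P c) * (1 - X) := by
    rw [← AdjoinRoot.mk_eq_zero, map_mul, hgz, map_sub, map_one, AdjoinRoot.mk_X]
    exact hz
  generalize g₀ %ₘ KRR.extPoly P c = g at hgz hdeg hdvd
  rw [hp] at hdeg hdvd
  obtain ⟨a, ha⟩ := exists_scalar (cc c) (cc_zero c) (r + 1) (by omega) g hdeg hdvd
  have haug : @PosStructure.aug _ _ inst Pc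
      (AdjoinRoot.of (KRR.extPoly P c) c - AdjoinRoot.root (KRR.extPoly P c)) = (r : ℤ) := by
    rw [map_sub, hext.aug_comp, hline.2, hr]; ring
  have hw : @KRR.lamAlt _ _ inst Pc
      (AdjoinRoot.of (KRR.extPoly P c) c - AdjoinRoot.root (KRR.extPoly P c)) =
      AdjoinRoot.mk (KRR.extPoly P c) (TT (cc c) (r + 1)) := by
    rw [KRR.lamAlt, haug, Int.toNat_natCast, TT, map_sum]
    exact Finset.sum_congr rfl fun k _ => neg_pow_lam_sub_root P c inst hext' hroot k
  have hfw : f (@KRR.lamAlt _ _ inst Pc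
      (AdjoinRoot.of (KRR.extPoly P c) c - AdjoinRoot.root (KRR.extPoly P c))) = 1 := by
    rw [KRR.lamAlt, haug, Int.toNat_natCast, map_sum, Finset.sum_eq_single 0]
    · rw [pow_zero, one_mul, functional_lam_sub_root P c hc r hr inst hext' hroot f hf 0, if_pos rfl]
    · intro k _ hk0
      have e1 : (-1 : AdjoinRoot (KRR.extPoly P c)) ^ k * @LambdaOps.lam _ _ inst k
          (AdjoinRoot.of (KRR.extPoly P c) c - AdjoinRoot.root (KRR.extPoly P c)) =
          ((-1 : K) ^ k) • @LambdaOps.lam _ _ inst k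
          (AdjoinRoot.of (KRR.extPoly P c) c - AdjoinRoot.root (KRR.extPoly P c)) := by
        rw [Algebra.smul_def, map_pow, map_neg, map_one]
      rw [e1, map_smul, functional_lam_sub_root P c hc r hr inst hext' hroot f hf k, if_neg hk0,
        smul_zero]
    · intro h0; exact absurd (Finset.mem_range.mpr (Nat.succ_pos r)) h0
  rw [← hgz, ha, map_neg, map_mul, AdjoinRoot.mk_C, ← hw]
  have e3 : AdjoinRoot.of (KRR.extPoly P c) a * @KRR.lamAlt _ _ inst Pc
      (AdjoinRoot.of (KRR.extPoly P c) c - AdjoinRoot.root (KRR.extPoly P c)) =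
      a • @KRR.lamAlt _ _ inst Pc
      (AdjoinRoot.of (KRR.extPoly P c) c - AdjoinRoot.root (KRR.extPoly P c)) := by
    rw [Algebra.smul_def, AdjoinRoot.algebraMap_eq]
  rw [e3, map_neg, map_smul, hfw, smul_eq_mul, mul_one, map_neg, neg_mul, ← e3]

end Specific

end Groth.Agent.Helper6.LamExt
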