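import Groth.Agent.Lib.Helper6.LamDet
import Groth.Agent.Lib.Helper6.LamExt2

/-!
# λ-ring input for the Adams–Riemann–Roch formula for an elementary projection
-/

set_option autoImplicit false
universe u

namespace Groth.Agent.Helper6.LamARR

open LambdaRing Groth.Agent.Helper5.Lam Groth.Agent.Helper6.LamBott Groth.Agent.Helper6.LamGam Finset

section Esymm

variable {R S : Type*} [CommRing R] [CommRing S]

theorem esymm_map_ringHom (f : R →+* S) (t : Multiset R) (i : ℕ) :
    (t.map f).esymm i = f (t.esymm i) := by
  rw [Multiset.esymm, Multiset.esymm, Multiset.powersetCard_map, Multiset.map_map, map_multiset_sum,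
    Multiset.map_map]
  congr 1
  refine Multiset.map_congr rfl fun v _ => ?_
  simp only [Function.comp_apply, map_multiset_prod]

theorem esymm_map_mul_right (c : R) (t : Multiset R) (i : ℕ) :
    (t.map fun a => a * c).esymm i = t.esymm i * c ^ i := by
  have h := Multiset.pow_smul_esymm (R := R) c i t
  simp only [smul_eq_mul] at h
  rw [mul_comm, h]
  congr 1
  refine Multiset.map_congr rfl fun a _ => ?_
  rw [mul_comm]

theorem aeval_bottPoly_multiset (j m : ℕ) (t : Multiset R) (ht : Multiset.card t = m) :
    MvPolynomial.aeval (fun i : Fin m => t.esymm (i.1 + 1)) (KRR.bottPoly j m) =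
      (t.map fun a => ∑ k ∈ range j, a ^ k).prod := by
  obtain ⟨u, hu⟩ : ∃ u : Fin m → R, t = Finset.univ.val.map u := by
    obtain ⟨l, rfl⟩ : ∃ l : List R, (↑l : Multiset _) = t := ⟨t.toList, Multiset.coe_toList t⟩
    have hm' : m = l.length := by simpa using ht.symm
    subst hm'
    exact ⟨l.get, by rw [Fin.univ_val_map, List.ofFn_get]⟩
  rw [hu, aeval_bottPoly, Multiset.map_map]
  rfl

end Esymm

section Lam

variable {K : Type u} [CommRing K] [LambdaOps K]

theorem isUnit_of_isLine (P : PosStructure K) {a : K} (ha : P.IsLine a) : IsUnit a := by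
  have := P.isUnit_lam a ha.1
  rwa [ha.2, Int.toNat_one, LambdaOps.lam_one] at this

theorem negLam_lines (P : PosStructure K) (s : Multiset K) (hs : ∀ v ∈ s, P.IsLine v) :
    negLam s.sum = (s.map fun v => 1 - PowerSeries.C v * PowerSeries.X).prod := by
  rw [negLam, lamSeries_lines P s hs, map_multiset_prod, Multiset.map_map]
  congr 1
  refine Multiset.map_congr rfl fun v _ => ?_
  simp only [Function.comp_apply, map_add, map_one, map_mul, PowerSeries.rescale_X]
  have : PowerSeries.rescale (-1 : K) (PowerSeries.C v) = PowerSeries.C v := by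
    ext n
    rw [PowerSeries.coeff_rescale, PowerSeries.coeff_C]
    split_ifs with h
    · subst h; simp
    · simp
  rw [this, map_neg, map_one]
  ring

end Lam

section Split

variable {C : Set PosLambdaRing.{u}} (hC : SplitClass C) (L : PosLambdaRing.{u}) (hL : L ∈ C)

include hC hL in
/-- `λ^i(u e) = u^i λ^i(e)` for a line `u` and a positive `e`. -/
theorem lam_line_mul_pos {a : L.carrier} (ha : L.posStr.IsLine a) (e : L.carrier)
    (he : e ∈ L.posStr.pos) (i : ℕ) :
    LambdaOps.lam i (e * a) = LambdaOps.lam i e * a ^ i := by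
  obtain ⟨L', hL', f, hf, s, hs, hsum⟩ := hC L hL e he
  apply hf.injective
  rw [hf.isLambdaHom, map_mul, map_mul, map_pow, hf.isLambdaHom, ← hsum]
  have h1 : s.sum * f a = (s.map fun v => v * f a).sum := by
    rw [Multiset.sum_map_mul_right, Multiset.map_id']
  have h2 : ∀ v ∈ s.map (fun v => v * f a), L'.posStr.IsLine v := by
    intro v hv
    obtain ⟨w, hw, rfl⟩ := Multiset.mem_map.mp hv
    exact isLine_mul _ (hs w hw) (isLine_map hf ha)
  rw [h1, lam_lines _ _ h2, lam_lines _ s hs, esymm_map_mul_right]

include hC hL in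
theorem lamSeries_line_mul {a : L.carrier} (ha : L.posStr.IsLine a) (z : L.carrier) :
    lamSeries (z * a) = PowerSeries.rescale a (lamSeries z) := by
  have hpos : ∀ e ∈ L.posStr.pos, lamSeries (e * a) = PowerSeries.rescale a (lamSeries e) := by
    intro e he
    ext i
    rw [PowerSeries.coeff_rescale]
    simp only [lamSeries, PowerSeries.coeff_mk]
    rw [lam_line_mul_pos hC L hL ha e he i, mul_comm]
  obtain ⟨e, e', he, he', rfl⟩ := L.posStr.exists_sub z
  have h1 : lamSeries (e * a) = lamSeries ((e - e') * a) * lamSeries (e' * a) := by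
    rw [← lamSeries_add]; congr 1; ring
  have h2 : lamSeries e = lamSeries (e - e') * lamSeries e' := by
    rw [← lamSeries_add]; congr 1; ring
  rw [hpos e he, hpos e' he', h2, map_mul] at h1
  have hu : IsUnit (PowerSeries.rescale a (lamSeries e')) := by
    rw [PowerSeries.isUnit_iff_constantCoeff, ← PowerSeries.coeff_zero_eq_constantCoeff_apply,
      PowerSeries.coeff_rescale, pow_zero, one_mul, PowerSeries.coeff_zero_eq_constantCoeff_apply,
      constantCoeff_lamSeries]
    exact isUnit_one
  exact (hu.mul_left_inj.mp h1).symm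

include hC hL in
/-- `λ^i(x v) = λ^i(x) v^i` when `v` is the inverse of a line element. -/
theorem lam_mul_inv_line {a v : L.carrier} (ha : L.posStr.IsLine a) (hv : v * a = 1)
    (x : L.carrier) (i : ℕ) :
    LambdaOps.lam i (x * v) = LambdaOps.lam i x * v ^ i := by
  have h := congrArg (PowerSeries.coeff i) (lamSeries_line_mul hC L hL ha (x * v))
  rw [PowerSeries.coeff_rescale] at h
  simp only [lamSeries, PowerSeries.coeff_mk] at h
  have e1 : x * v * a = x := by rw [mul_assoc, hv, mul_one]
  rw [e1] at h
  rw [h]
  have : a ^ i * v ^ i = 1 := by rw [← mul_pow, mul_comm, hv, one_pow]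
  linear_combination (-(LambdaOps.lam i (x * v))) * this

include hC hL in
/-- the image of Bott's class `θ^j(x v)` under a ring homomorphism splitting `x`. -/
theorem map_bott {S : Type*} [CommRing S] (j : ℕ) {a v : L.carrier} (ha : L.posStr.IsLine a)
    (hv : v * a = 1) (x : L.carrier) (n : ℕ) (hn : L.posStr.aug x = n)
    (γ : L.carrier →+* S) (t : Multiset S) (ht : Multiset.card t = n)
    (hγ : ∀ i, γ (LambdaOps.lam i x) = t.esymm i) :
    γ (KRR.bott L.posStr j (x * v)) = (t.map fun b => ∑ m ∈ range j, (b * γ v) ^ m).prod := by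
  have haugv : L.posStr.aug v = 1 := by
    have := congrArg L.posStr.aug hv
    rw [map_mul, ha.2, mul_one, map_one] at this
    exact this
  have haug : (L.posStr.aug (x * v)).toNat = n := by
    rw [map_mul, haugv, mul_one, hn, Int.toNat_natCast]
  have gen : ∀ (m : ℕ), m = n →
      γ (MvPolynomial.aeval (fun i : Fin m => LambdaOps.lam (i.1 + 1) (x * v)) (KRR.bottPoly j m)) =
        (t.map fun b => ∑ k ∈ range j, (b * γ v) ^ k).prod := by
    intro m hm
    subst hm
    have h1 := MvPolynomial.comp_aeval_apply
      (f := fun i : Fin m => LambdaOps.lam (i.1 + 1) (x * v)) γ.toIntAlgHom (KRR.bottPoly j m)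
    have h2 : (fun i : Fin m => γ.toIntAlgHom (LambdaOps.lam (i.1 + 1) (x * v))) =
        fun i : Fin m => (t.map fun b => b * γ v).esymm (i.1 + 1) := by
      funext i
      rw [esymm_map_mul_right, ← hγ, lam_mul_inv_line hC L hL ha hv]
      simp
    rw [h2, aeval_bottPoly_multiset j m _ (by rw [Multiset.card_map]; exact ht), Multiset.map_map]
      at h1
    exact h1
  exact gen _ haug

end Split

end Groth.Agent.Helper6.LamARR
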