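import Groth.Agent.Lib.Helper6.LamARR2
import Groth.Agent.Lib.Helper6.LamARR3

/-!
# Adams–Riemann–Roch for an elementary projection: assembling the pieces
-/

set_option autoImplicit false
universe v

open scoped TensorProduct

namespace Groth.Agent.Helper6.LamARR

open LambdaRing Groth.Agent.Helper5.Lam Groth.Agent.Helper6.LamBott Groth.Agent.Helper6.LamGam Finset

section Abstract

theorem isUnit_map_of_nilpotent_sub {A T : Type*} [CommRing A] [CommRing T] (iA : A →+* T) (θ : A)
    (c k N : ℕ) (hc : IsUnit ((c : ℕ) : T)) (h : (θ - (c : A) ^ k) ^ N = 0) : IsUnit (iA θ) := by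
  have e1 : iA θ = (c : T) ^ k + iA (θ - (c : A) ^ k) := by
    rw [map_sub, map_pow, map_natCast]; ring
  rw [e1]
  exact IsNilpotent.isUnit_add_left_of_commute ⟨N, by rw [← map_pow, h, map_zero]⟩ (hc.pow k)
    (Commute.all _ _)


/-- semilinear reduction to powers of `ℓ`. -/
theorem semilinear_reduction
    {K : Type v} [CommRing K] [LambdaOps K] (P : PosStructure K)
    {CK : Set PosLambdaRing.{v}} (hCK : SplitClass CK) (hKC : (⟨K, P⟩ : PosLambdaRing.{v}) ∈ CK)
    {A : Type v} [CommRing A] [Algebra K A] [LambdaOps A] (Pe : PosStructure A)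
    {CA : Set PosLambdaRing.{v}} (hCA : SplitClass CA) (hAC : (⟨A, Pe⟩ : PosLambdaRing.{v}) ∈ CA)
    (hext : IsExtension P Pe (algebraMap K A))
    (l : A) (hspan : ∀ x : A, ∃ q : Polynomial K, x = Polynomial.aeval l q)
    (f : A →ₗ[K] K) (j : ℕ)
    {R T TK : Type*} [CommRing R] [CommRing T] [CommRing TK]
    (iR : R →+* T) (iA : A →+* T) (jR : R →+* TK) (iK : K →+* TK) (F : T →+ TK)
    (hspanT : ∀ y : T, y ∈ AddSubmonoid.closure {z | ∃ ρ x, z = iR ρ * iA x})
    (hF : ∀ ρ x, F (iR ρ * iA x) = jR ρ * iK (f x))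
    (w : T)
    (hpow : ∀ i : ℕ, iK (adams P j (f (l ^ i))) = F ((j : T) * w * iA (adams Pe j (l ^ i))))
    (x : A) :
    iK (adams P j (f x)) = F ((j : T) * w * iA (adams Pe j x)) := by
  -- F is semilinear over K
  have hLT : ∀ (c : K) (y : T), F (iA (algebraMap K A c) * y) = iK c * F y := by
    intro c y
    induction hspanT y using AddSubmonoid.closure_induction with
    | mem y hy =>
      obtain ⟨ρ, x, rfl⟩ := hy
      have e1 : iA (algebraMap K A c) * (iR ρ * iA x) = iR ρ * iA (algebraMap K A c * x) := by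
        rw [map_mul]; ring
      have e2 : f (algebraMap K A c * x) = c * f x := by
        rw [← Algebra.smul_def, map_smul, smul_eq_mul]
      rw [e1, hF, hF, e2, map_mul]
      ring
    | zero => rw [mul_zero, map_zero, mul_zero]
    | add y z _ _ hy hz => rw [mul_add, map_add, hy, hz, map_add, mul_add]
  have hadd : ∀ x y : A, iK (adams P j (f x)) = F ((j : T) * w * iA (adams Pe j x)) →
      iK (adams P j (f y)) = F ((j : T) * w * iA (adams Pe j y)) →
      iK (adams P j (f (x + y))) = F ((j : T) * w * iA (adams Pe j (x + y))) := by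
    intro x y hx hy
    rw [map_add, adams_add, map_add, hx, hy, adams_add, map_add, mul_add, map_add]
  have hsmul : ∀ (c : K) (x : A), iK (adams P j (f x)) = F ((j : T) * w * iA (adams Pe j x)) →
      iK (adams P j (f (algebraMap K A c * x))) =
        F ((j : T) * w * iA (adams Pe j (algebraMap K A c * x))) := by
    intro c x hx
    have e2 : f (algebraMap K A c * x) = c * f x := by
      rw [← Algebra.smul_def, map_smul, smul_eq_mul]
    have e3 : adams P j (c * f x) = adams P j c * adams P j (f x) :=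
      adams_mul hCK ⟨K, P⟩ hKC j c (f x)
    have e4 : adams Pe j (algebraMap K A c * x) = algebraMap K A (adams P j c) * adams Pe j x := by
      have := adams_mul hCA ⟨A, Pe⟩ hAC j (algebraMap K A c) x
      rw [this]
      congr 1
      exact (map_adams hext j c).symm
    rw [e2, e3, map_mul iK, hx, e4, map_mul iA]
    have e5 : (j : T) * w * (iA (algebraMap K A (adams P j c)) * iA (adams Pe j x)) =
        iA (algebraMap K A (adams P j c)) * ((j : T) * w * iA (adams Pe j x)) := by ring
    rw [e5, hLT]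
  obtain ⟨q, rfl⟩ := hspan x
  induction q using Polynomial.induction_on' with
  | add p q hp hq =>
    rw [map_add]
    exact hadd _ _ hp hq
  | monomial n c =>
    have e6 : Polynomial.aeval l (Polynomial.monomial n c) = algebraMap K A c * l ^ n := by
      rw [Polynomial.aeval_monomial]
    rw [e6]
    exact hsmul c _ (hpow n)


theorem exists_units_multiset {M : Type*} [Monoid M] (s : Multiset M) (h : ∀ u ∈ s, IsUnit u) :
    ∃ t : Multiset Mˣ, t.map Units.val = s := by
  induction s using Multiset.induction_on with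
  | empty => exact ⟨0, rfl⟩
  | cons a s ih =>
    obtain ⟨t, ht⟩ := ih fun u hu => h u (Multiset.mem_cons_of_mem hu)
    refine ⟨(h a (Multiset.mem_cons_self a s)).unit ::ₘ t, ?_⟩
    rw [Multiset.map_cons, ht, IsUnit.unit_spec]

/-- the key identity on powers of `ℓ`. -/
theorem key_pow
    {K : Type v} [CommRing K] [LambdaOps K] (P : PosStructure K)
    {CK : Set PosLambdaRing.{v}} (hCK : SplitClass CK)
    (L' : PosLambdaRing.{v}) (hL' : L' ∈ CK) (φ : K →+* L'.carrier) (hφ : IsExtension P L'.posStr φ)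
    (e : K) (r : ℕ) (hr : P.aug e = r + 1)
    (s : Multiset L'.carrier) (hs : ∀ u ∈ s, L'.posStr.IsLine u) (hsum : s.sum = φ e)
    {A : Type v} [CommRing A] [Algebra K A] [LambdaOps A] (Pe : PosStructure A)
    {CA : Set PosLambdaRing.{v}} (hCA : SplitClass CA) (hAC : (⟨A, Pe⟩ : PosLambdaRing.{v}) ∈ CA)
    (hext : IsExtension P Pe (algebraMap K A))
    (l linv : A) (hline : Pe.IsLine l) (hlinv : linv * l = 1)
    (hrel : Polynomial.aeval l (KRR.extPoly P e) = 0)
    (hlift : ∀ a : L'.carrier, Polynomial.eval₂ φ a (KRR.extPoly P e) = 0 →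
      ∃ χ : A →+* L'.carrier, χ l = a ∧ ∀ c, χ (algebraMap K A c) = φ c)
    (f : A →ₗ[K] K) (hf : ∀ i, f (l ^ i) = KRR.sigma i e)
    (j : ℕ) (hj : 1 ≤ j)
    {R T TK : Type*} {B : Type v} [CommRing R] [CommRing T] [CommRing TK] [CommRing B]
    (iR : R →+* T) (iA : A →+* T) (jR : R →+* TK) (iK : K →+* TK) (F : T →+ TK)
    (hspanT : ∀ y : T, y ∈ AddSubmonoid.closure {z | ∃ ρ x, z = iR ρ * iA x})
    (hF : ∀ ρ x, F (iR ρ * iA x) = jR ρ * iK (f x))
    (hTlift : ∀ (S : Type v) [CommRing S] (g₁ : R →+* S) (g₂ : A →+* S),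
      ∃ Γ : T →+* S, (∀ ρ, Γ (iR ρ) = g₁ ρ) ∧ ∀ x, Γ (iA x) = g₂ x)
    (bR : R →+* B) (bK : L'.carrier →+* B) (β : TK →+* B) (hβinj : Function.Injective β)
    (hβR : ∀ ρ, β (jR ρ) = bR ρ) (hβK : ∀ c, β (iK c) = bK (φ c))
    (w : T) (hw : w * iA (KRR.bott Pe j (algebraMap K A e * linv)) = 1) (i : ℕ) :
    iK (adams P j (KRR.sigma i e)) = F ((j : T) * w * iA (l ^ (i * j))) := by
  classical
  have hn : (P.aug e).toNat = r + 1 := by rw [hr]; rfl
  have haug_e : Pe.aug (algebraMap K A e) = ((r + 1 : ℕ) : ℤ) := by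
    rw [hext.aug_comp, hr]; push_cast; rfl
  have hcard : Multiset.card s = r + 1 := by
    have := aug_lines L'.posStr s hs
    rw [hsum, hφ.aug_comp, hr] at this
    exact_mod_cast this.symm
  have hlamφ : ∀ i, φ (LambdaOps.lam i e) = s.esymm i := fun i => by
    rw [hφ.isLambdaHom, ← hsum, lam_lines _ s hs]
  have hVieta : (KRR.extPoly P e).map φ = (s.map fun u => Polynomial.X - Polynomial.C u).prod := by
    rw [Multiset.prod_X_sub_X_eq_sum_esymm, hcard]
    unfold KRR.extPoly
    rw [hn, Polynomial.map_sum]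
    refine Finset.sum_congr rfl fun i _ => ?_
    rw [Polynomial.map_mul, Polynomial.map_C, Polynomial.map_pow, Polynomial.map_X, map_mul, map_pow,
      map_neg, map_one, hlamφ, Polynomial.C_mul, Polynomial.C_pow, Polynomial.C_neg, Polynomial.C_1]
    ring
  obtain ⟨t, ht⟩ := exists_units_multiset s (fun u hu => isUnit_of_isLine L'.posStr (hs u hu))
  set sB : Multiset Bˣ := t.map (Units.map (bK : L'.carrier →* B)) with hsB
  have hsBval : sB.map (fun a : Bˣ => (a : B)) = s.map bK := by
    rw [hsB, Multiset.map_map, ← ht, Multiset.map_map]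
    rfl
  have hcardB : Multiset.card sB = r + 1 := by
    rw [hsB, Multiset.card_map, ← hcard, ← ht, Multiset.card_map]
  letI algKB : Algebra K B := (bK.comp φ).toAlgebra
  have halgKB : ∀ c : K, algebraMap K B c = bK (φ c) := fun c => rfl
  let incA : A →+* B ⊗[K] A :=
    (Algebra.TensorProduct.includeRight : A →ₐ[K] B ⊗[K] A).toRingHom
  have hincA : ∀ x : A, incA x = (1 : B) ⊗ₜ[K] x := fun x => rfl
  have hincK : ∀ c : K, incA (algebraMap K A c) = algebraMap B (B ⊗[K] A) (bK (φ c)) := by
    intro c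
    have h1 := (Algebra.TensorProduct.includeRight : A →ₐ[K] B ⊗[K] A).commutes c
    rw [IsScalarTower.algebraMap_apply K B (B ⊗[K] A)] at h1
    exact h1
  obtain ⟨Γ, hΓR, hΓA⟩ := hTlift (B ⊗[K] A) ((algebraMap B (B ⊗[K] A)).comp bR) incA
  let gE : B ⊗[K] A →ₗ[B] B :=
    (TensorProduct.AlgebraTensorModule.rid K B B).toLinearMap ∘ₗ (f.baseChange B)
  have hgE : ∀ (b : B) (x : A), gE (b ⊗ₜ[K] x) = bK (φ (f x)) * b := by
    intro b x
    simp only [gE, LinearMap.coe_comp, Function.comp_apply, LinearMap.baseChange_tmul,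
      LinearEquiv.coe_coe, TensorProduct.AlgebraTensorModule.rid_tmul]
    rw [Algebra.smul_def, halgKB]
  have hcompat : ∀ y : T, gE (Γ y) = β (F y) := by
    intro y
    induction hspanT y using AddSubmonoid.closure_induction with
    | mem y hy =>
      obtain ⟨ρ, x, rfl⟩ := hy
      rw [map_mul Γ, hΓR, hΓA, hF, map_mul β, hβR, hβK, RingHom.comp_apply, hincA,
        Algebra.TensorProduct.algebraMap_apply, Algebra.TensorProduct.tmul_mul_tmul, mul_one, one_mul]
      rw [hgE]
      simp only [Algebra.algebraMap_self, RingHom.id_apply]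
      ring
    | zero => rw [map_zero, map_zero, map_zero, map_zero]
    | add y z _ _ hy hz => rw [map_add, map_add, hy, hz, map_add, map_add]
  -- the power series
  have hHs : negLamInv (φ e) * (s.map fun u => 1 - PowerSeries.C u * PowerSeries.X).prod = 1 := by
    rw [← negLam_lines L'.posStr s hs, hsum, mul_comm]
    exact negLam_mul_inv (φ e)
  have hptcoe : ∀ (ψ : L'.carrier →+* L'.carrier) (k : ℕ) (hk : ∀ u ∈ s, ψ u = u ^ k),
      PowerSeries.map bK (PowerSeries.map ψ
        (s.map fun u => 1 - PowerSeries.C u * PowerSeries.X).prod) =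
      (((sB.map fun a : Bˣ => 1 - Polynomial.C ((a : B) ^ k) * Polynomial.X).prod : Polynomial B) :
        PowerSeries B) := by
    intro ψ k hk
    rw [map_multiset_prod, map_multiset_prod, Multiset.map_map, Multiset.map_map,
      ← Polynomial.coeToPowerSeries.ringHom_apply, map_multiset_prod, Multiset.map_map, hsB,
      Multiset.map_map, ← ht, Multiset.map_map]
    congr 1
    refine Multiset.map_congr rfl fun u hu => ?_
    have hu' : (u : L'.carrier) ∈ s := by rw [← ht]; exact Multiset.mem_map_of_mem _ hu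
    simp only [Function.comp_apply, map_sub, map_one, map_mul, PowerSeries.map_C, PowerSeries.map_X,
      Polynomial.coeToPowerSeries.ringHom_apply, Polynomial.coe_sub, Polynomial.coe_one,
      Polynomial.coe_mul, Polynomial.coe_C, Polynomial.coe_X, Units.coe_map, MonoidHom.coe_coe,
      hk _ hu', map_pow]
  set H : PowerSeries B := PowerSeries.map bK (negLamInv (φ e)) with hHdef
  have hH : H * ((pt sB : Polynomial B) : PowerSeries B) = 1 := by
    have h1 := congrArg (PowerSeries.map bK) (congrArg (PowerSeries.map (RingHom.id _)) hHs)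
    rw [map_mul, map_mul, hptcoe (RingHom.id _) 1 (fun u _ => by simp), map_one, map_one] at h1
    simp only [pow_one, PowerSeries.map_id, RingHom.id_apply] at h1
    exact h1
  set ψ' : L'.carrier →+* L'.carrier := adamsRingHom hCK L' hL' j with hψ'
  set Hj : PowerSeries B := PowerSeries.map bK (PowerSeries.map ψ' (negLamInv (φ e))) with hHjdef
  have hHj : Hj * ((ptj j sB : Polynomial B) : PowerSeries B) = 1 := by
    have h1 := congrArg (PowerSeries.map bK) (congrArg (PowerSeries.map ψ') hHs)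
    rw [map_mul, map_mul, hptcoe ψ' j (fun u hu => adams_line L'.posStr (hs u hu) j), map_one,
      map_one] at h1
    exact h1
  have hcoefH : ∀ i, PowerSeries.coeff i H = bK (φ (KRR.sigma i e)) := by
    intro i
    rw [hHdef, PowerSeries.coeff_map, ← map_negLamInv hφ.isLambdaHom, PowerSeries.coeff_map]
    rfl
  have hcoefHj : PowerSeries.coeff i Hj = bK (φ (adams P j (KRR.sigma i e))) := by
    rw [hHjdef, PowerSeries.coeff_map, PowerSeries.coeff_map, ← map_negLamInv hφ.isLambdaHom,
      PowerSeries.coeff_map, map_adams hφ]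
    rfl
  -- hypotheses of the core lemma
  have hg : ∀ i, gE (((1 : B) ⊗ₜ[K] l) ^ i) = PowerSeries.coeff i H := by
    intro i
    rw [Algebra.TensorProduct.tmul_pow, one_pow, hgE, hf, hcoefH, mul_one]
  have hlE : ((1 : B) ⊗ₜ[K] linv) * ((1 : B) ⊗ₜ[K] l) = 1 := by
    rw [Algebra.TensorProduct.tmul_mul_tmul, hlinv, one_mul]
    rfl
  have hrootE : (sB.map fun a : Bˣ => ((1 : B) ⊗ₜ[K] l) - algebraMap B (B ⊗[K] A) (a : B)).prod = 0 := by
    have h1 : (sB.map fun a : Bˣ => (Polynomial.X - Polynomial.C (a : B) : Polynomial B)).prod =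
        (KRR.extPoly P e).map (algebraMap K B) := by
      have : (algebraMap K B) = bK.comp φ := rfl
      rw [this, ← Polynomial.map_map, hVieta, Polynomial.map_multiset_prod, Multiset.map_map,
        Multiset.map_map, ← ht, Multiset.map_map]
      congr 1
      refine Multiset.map_congr rfl fun u _ => ?_
      simp
    have h2 := congrArg (Polynomial.aeval ((1 : B) ⊗ₜ[K] l)) h1
    rw [Polynomial.aeval_map_algebraMap, map_multiset_prod, Multiset.map_map] at h2
    have h3 : Polynomial.aeval ((1 : B) ⊗ₜ[K] l) (KRR.extPoly P e) = 0 := by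
      have := Polynomial.aeval_algHom_apply
        (Algebra.TensorProduct.includeRight : A →ₐ[K] B ⊗[K] A) l (KRR.extPoly P e)
      rw [hrel, map_zero] at this
      exact this
    rw [h3] at h2
    rw [← h2]
    congr 1
    refine Multiset.map_congr rfl fun a _ => ?_
    simp
  have hθE : incA (KRR.bott Pe j (algebraMap K A e * linv)) =
      (sB.map fun a : Bˣ => ∑ m ∈ range j,
        (algebraMap B (B ⊗[K] A) (a : B) * ((1 : B) ⊗ₜ[K] linv)) ^ m).prod := by
    have h1 := map_bott hCA ⟨A, Pe⟩ hAC j hline hlinv (algebraMap K A e) (r + 1) haug_e incA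
      (sB.map fun a : Bˣ => algebraMap B (B ⊗[K] A) (a : B)) (by rw [Multiset.card_map, hcardB])
      (fun i => by
        rw [← hext.isLambdaHom, hincK, hlamφ, ← esymm_map_ringHom, ← esymm_map_ringHom, ← hsBval,
          Multiset.map_map]
        rfl)
    rw [h1, Multiset.map_map]
    rfl
  have hwE : Γ w * (sB.map fun a : Bˣ => ∑ m ∈ range j,
      (algebraMap B (B ⊗[K] A) (a : B) * ((1 : B) ⊗ₜ[K] linv)) ^ m).prod = 1 := by
    rw [← hθE, ← hΓA, ← map_mul, hw, map_one]
  have hΦ : ∀ a ∈ sB, ∀ a' ∈ sB,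
      IsUnit (∑ m ∈ range j, ((a : B) * ((a'⁻¹ : Bˣ) : B)) ^ m) := by
    intro a ha a' ha'
    obtain ⟨u, hu, rfl⟩ := Multiset.mem_map.mp ha
    obtain ⟨u', hu', rfl⟩ := Multiset.mem_map.mp ha'
    have hus : (u : L'.carrier) ∈ s := by rw [← ht]; exact Multiset.mem_map_of_mem _ hu
    have hu's : (u' : L'.carrier) ∈ s := by rw [← ht]; exact Multiset.mem_map_of_mem _ hu'
    have hroot' : Polynomial.eval₂ φ (u' : L'.carrier) (KRR.extPoly P e) = 0 := by
      rw [← Polynomial.eval_map, hVieta, Polynomial.eval_multiset_prod]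
      apply Multiset.prod_eq_zero
      rw [Multiset.mem_map]
      refine ⟨Polynomial.X - Polynomial.C (u' : L'.carrier), Multiset.mem_map_of_mem _ hu's, ?_⟩
      simp
    obtain ⟨χ, hχl, hχK⟩ := hlift _ hroot'
    obtain ⟨ev, hevR, hevA⟩ := hTlift B bR (bK.comp χ)
    have hχθ := map_bott hCA ⟨A, Pe⟩ hAC j hline hlinv (algebraMap K A e) (r + 1) haug_e χ s hcard
      (fun i => by rw [← hext.isLambdaHom, hχK, hlamφ])
    have hχlinv : χ linv * (u' : L'.carrier) = 1 := by
      rw [← hχl, ← map_mul, hlinv, map_one]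
    have hev : ev w * bK (χ (KRR.bott Pe j (algebraMap K A e * linv))) = 1 := by
      have := congrArg ev hw
      rw [map_mul, hevA, map_one] at this
      exact this
    have hunit : IsUnit (bK (χ (KRR.bott Pe j (algebraMap K A e * linv)))) :=
      IsUnit.of_mul_eq_one _ (by rw [mul_comm]; exact hev)
    rw [hχθ, map_multiset_prod, Multiset.map_map] at hunit
    have hdvd : (bK ∘ fun b => ∑ m ∈ range j, (b * χ linv) ^ m) (u : L'.carrier) ∣
        (s.map (bK ∘ fun b => ∑ m ∈ range j, (b * χ linv) ^ m)).prod :=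
      Multiset.dvd_prod (Multiset.mem_map_of_mem _ hus)
    have hunit2 := isUnit_of_dvd_unit hdvd hunit
    have hinv : ((Units.map (bK : L'.carrier →* B) u')⁻¹ : Bˣ).val = bK (χ linv) := by
      apply Units.inv_eq_of_mul_eq_one_right
      rw [Units.coe_map, MonoidHom.coe_coe, ← map_mul, mul_comm, hχlinv, map_one]
    rw [hinv]
    simpa [map_sum, map_pow, map_mul] using hunit2
  have hcore := core j sB hj hΦ ((1 : B) ⊗ₜ[K] l) ((1 : B) ⊗ₜ[K] linv) hlE hrootE gE H Hj hH hHj hg
    (Γ w) hwE (by rw [hcardB]; omega) i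
  have e1 : Γ ((j : T) * w * iA (l ^ (i * j))) =
      (j : B ⊗[K] A) * Γ w * ((1 : B) ⊗ₜ[K] l) ^ (i * j) := by
    rw [map_mul Γ, map_mul Γ, map_natCast Γ, hΓA, hincA, Algebra.TensorProduct.tmul_pow, one_pow]
  apply hβinj
  rw [hβK, ← hcoefHj, ← hcore, ← e1, hcompat]

end Abstract

section Final

variable {K : Type v} [CommRing K] [LambdaOps K] (P : PosStructure K)
variable {A : Type v} [CommRing A] [Algebra K A] [LambdaOps A] (Pe : PosStructure A)

theorem aug_inv_line {l linv : A} (hline : Pe.IsLine l) (hlinv : linv * l = 1) : Pe.aug linv = 1 := by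
  have := congrArg Pe.aug hlinv
  rw [map_mul, hline.2, mul_one, map_one] at this
  exact this

/-- Part 1: `θ^j(e ℓ⁻¹)` becomes invertible after inverting `j`. -/
theorem exists_inv_bott (hsplit : HasSplitting A Pe) (hext : IsExtension P Pe (algebraMap K A))
    (e : K) (he : e ∈ P.pos) (r : ℕ) (hr : P.aug e = r + 1) (l linv : A) (hline : Pe.IsLine l)
    (hlinv : linv * l = 1) (N : ℕ) (hN : gammaFiltration Pe N = ⊥) (j : ℕ) (hj : 1 ≤ j) :
    ∃ w : Localization.Away (j : ℤ) ⊗[ℤ] A,
      w * ((1 : Localization.Away (j : ℤ)) ⊗ₜ[ℤ] KRR.bott Pe j (algebraMap K A e * linv)) = 1 := by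
  obtain ⟨CA, hAC, hCA⟩ := hsplit
  have hCA' : SplitClass CA := hCA
  have hepos : algebraMap K A e ∈ Pe.pos := hext.pos_subset e he
  obtain ⟨L'', hL'', ψ, hψ, s'', hs'', hsum''⟩ := hCA ⟨A, Pe⟩ hAC _ hepos
  have haug_e : Pe.aug (algebraMap K A e) = ((r + 1 : ℕ) : ℤ) := by
    rw [hext.aug_comp, hr]; push_cast; rfl
  have hcard : Multiset.card s'' = r + 1 := by
    have := aug_lines L''.posStr s'' hs''
    rw [hsum'', hψ.aug_comp, haug_e] at this
    exact_mod_cast this.symm
  have hθ := map_bott hCA' ⟨A, Pe⟩ hAC j hline hlinv (algebraMap K A e) (r + 1) haug_e ψ s'' hcard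
    (fun i => by rw [hψ.isLambdaHom, ← hsum'', lam_lines _ s'' hs''])
  have haugψ : L''.posStr.aug (ψ linv) = 1 := by
    rw [hψ.aug_comp]; exact aug_inv_line Pe hline hlinv
  have haugθ : Pe.aug (KRR.bott Pe j (algebraMap K A e * linv)) = (j : ℤ) ^ (r + 1) := by
    rw [← hψ.aug_comp, hθ, map_multiset_prod, Multiset.map_map]
    have : ∀ b ∈ s'', ((L''.posStr.aug) ∘ fun b => ∑ m ∈ range j, (b * ψ linv) ^ m) b = (j : ℤ) := by
      intro b hb
      simp only [Function.comp_apply, map_sum, map_pow, map_mul, (hs'' b hb).2, haugψ]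
      simp
    rw [Multiset.map_congr rfl this, Multiset.map_const', Multiset.prod_replicate, hcard]
  set θ := KRR.bott Pe j (algebraMap K A e * linv) with hθdef
  set ν : A := θ - (j : A) ^ (r + 1) with hν
  have hνaug : Pe.aug ν = 0 := by
    rw [hν, map_sub, haugθ, map_pow, map_natCast, sub_self]
  have hνN : ν ^ N = 0 := by
    have h1 := pow_mem_filt Pe (Groth.Agent.Helper6.LamDet.mem_filt_one_of_aug Pe hνaug) N
    rw [one_mul, hN, AddSubgroup.mem_bot] at h1
    exact h1
  have hjR : IsUnit ((j : ℕ) : Localization.Away (j : ℤ)) := by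
    have h1 := IsLocalization.Away.algebraMap_isUnit (S := Localization.Away (j : ℤ)) (j : ℤ)
    rw [eq_intCast, Int.cast_natCast] at h1
    exact h1
  letI : Algebra ℤ (Localization.Away (j : ℤ)) := Ring.toIntAlgebra _
  letI instT : CommRing (Localization.Away (j : ℤ) ⊗[ℤ] A) := inferInstance
  let iA : A →+* Localization.Away (j : ℤ) ⊗[ℤ] A :=
    (Algebra.TensorProduct.includeRight : A →ₐ[ℤ] Localization.Away (j : ℤ) ⊗[ℤ] A).toRingHom
  let iR : Localization.Away (j : ℤ) →+* Localization.Away (j : ℤ) ⊗[ℤ] A :=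
    (Algebra.TensorProduct.includeLeft :
      Localization.Away (j : ℤ) →ₐ[ℤ] Localization.Away (j : ℤ) ⊗[ℤ] A).toRingHom
  have hjT : IsUnit ((j : ℕ) : Localization.Away (j : ℤ) ⊗[ℤ] A) := by
    have := hjR.map iR
    rwa [map_natCast] at this
  have hu := isUnit_map_of_nilpotent_sub iA θ j (r + 1) N hjT hνN
  obtain ⟨w, hw⟩ := hu.exists_left_inv
  exact ⟨w, hw⟩

end Final

end Groth.Agent.Helper6.LamARR
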