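import Groth.Agent.Lib.Helper5.Lambda5
import Groth.Prelude.Def_KRR

set_option autoImplicit false
universe u

namespace Groth.Agent.Helper6.LamAmple

open PowerSeries LambdaRing Finset Groth.Agent.Helper5.Lam

variable {K : Type u} [CommRing K] [LambdaOps K]

theorem isUnit_of_isLine (P : PosStructure K) {w : K} (hw : P.IsLine w) : IsUnit w := by
  have := P.isUnit_lam w hw.1
  rw [hw.2] at this
  simpa [LambdaOps.lam_one] using this

/-- if `-w = e - m` with `w` a line element, `e` positive and `m` a natural number then `w - 1` is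
nilpotent. -/
theorem isNilpotent_of_neg_line (P : PosStructure K) {w : K} (hw : P.IsLine w) {e : K} {m : ℕ}
    (he : e ∈ P.pos) (h : -w = e - m) : IsNilpotent (w - 1) := by
  have hew : e + w = (m : K) := by linear_combination -h
  have haug : P.aug e = ((m - 1 : ℕ) : ℤ) := by
    have h1 : P.aug e + P.aug w = (m : ℤ) := by
      rw [← map_add, hew, map_natCast]
    have h2 := P.aug_pos e he
    rw [hw.2] at h1
    omega
  have hser : lamSeries e * lamSeries w = (1 + PowerSeries.X) ^ m := by
    rw [← lamSeries_add, hew, lamSeries_natCast P]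
  rw [lamSeries_eq_coe P e he (m - 1) haug, lamSeries_line P hw] at hser
  have hpoly : lamPoly e (m - 1) * (1 + Polynomial.C w * Polynomial.X) =
      (1 + Polynomial.X) ^ m := by
    apply Polynomial.coe_injective
    rw [Polynomial.coe_mul, Polynomial.coe_pow, Polynomial.coe_add, Polynomial.coe_add,
      Polynomial.coe_one, Polynomial.coe_mul, Polynomial.coe_C, Polynomial.coe_X]
    exact hser
  obtain ⟨w', hw'⟩ := (isUnit_of_isLine P hw).exists_right_inv
  have hev := congrArg (Polynomial.eval (-w')) hpoly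
  rw [Polynomial.eval_mul, Polynomial.eval_pow, Polynomial.eval_add, Polynomial.eval_add,
    Polynomial.eval_one, Polynomial.eval_mul, Polynomial.eval_C, Polynomial.eval_X] at hev
  have h0 : (1 : K) + w * -w' = 0 := by rw [mul_neg, hw']; ring
  rw [h0, mul_zero] at hev
  refine ⟨m, ?_⟩
  have : w - 1 = w * (1 + -w') := by rw [mul_add, mul_neg, hw']; ring
  rw [this, mul_pow, ← hev, mul_zero]

theorem isNilpotent_of_ample (P : PosStructure K) (u : K) (hu : KRR.IsAmpleElt P u) (w : K)
    (hw : P.IsLine w) : IsNilpotent (w - 1) := by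
  obtain ⟨hul, hamp⟩ := hu
  obtain ⟨n₁, h₁⟩ := hamp (-1)
  obtain ⟨n₂, h₂⟩ := hamp (-w)
  -- membership in the nilradical
  have key : ∀ n, n₁ ≤ n → u ^ n - 1 ∈ nilradical K := by
    intro n hn
    obtain ⟨e, m, he, hem⟩ := h₁ n hn
    exact isNilpotent_of_neg_line P (isLine_pow P hul n) he (by rw [← hem]; ring)
  have key2 : ∀ n, n₂ ≤ n → u ^ n * w - 1 ∈ nilradical K := by
    intro n hn
    obtain ⟨e, m, he, hem⟩ := h₂ n hn
    exact isNilpotent_of_neg_line P (isLine_mul P (isLine_pow P hul n) hw) he (by rw [← hem]; ring)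
  set n := max n₁ n₂ with hn
  have a1 := key n (le_max_left _ _)
  have a2 := key (n + 1) ((le_max_left _ _).trans (Nat.le_succ _))
  have a3 := key2 n (le_max_right _ _)
  -- u - 1 ∈ nilradical
  have hu1 : u - 1 ∈ nilradical K := by
    have : u - 1 = (u ^ (n + 1) - 1) - u * (u ^ n - 1) := by ring
    rw [this]
    exact Ideal.sub_mem _ a2 (Ideal.mul_mem_left _ _ a1)
  have : w - 1 = (u ^ n * w - 1) - w * (u ^ n - 1) := by ring
  change w - 1 ∈ nilradical K
  rw [this]
  exact Ideal.sub_mem _ a3 (Ideal.mul_mem_left _ _ a1)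

end Groth.Agent.Helper6.LamAmple
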