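import Mathlib
import Groth.Agent.Lib.Helper6.LamGam4
import Groth.Agent.Lib.Helper6.LamDet
import Groth.Agent.Lib.Helper6.FiltEigen

/-!
# Eigenspaces of the Adams operations on `ℚ ⊗ K` (γ-filtration finite)
-/

set_option autoImplicit false
universe u

namespace Groth.Agent.Helper6.LamEigen

open TensorProduct LambdaRing Finset
open Groth.Agent.Helper5.Lam Groth.Agent.Helper6.LamGam Groth.Agent.Helper6.LamDet

variable {K : Type u} [CommRing K] [LambdaOps K] (P : PosStructure K)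

/-- the `ℚ`-span of the image of `F^n K` in `ℚ ⊗ K`. -/
noncomputable def QF (n : ℕ) : Submodule ℚ (ℚ ⊗[ℤ] K) :=
  Submodule.span ℚ ((fun x : K => (1 : ℚ) ⊗ₜ[ℤ] x) '' (gammaFiltration P n : Set K))

theorem one_tmul_mem {n : ℕ} {x : K} (hx : x ∈ gammaFiltration P n) :
    (1 : ℚ) ⊗ₜ[ℤ] x ∈ QF P n :=
  Submodule.subset_span ⟨x, hx, rfl⟩

theorem tmul_eq_smul (q : ℚ) (x : K) : q ⊗ₜ[ℤ] x = q • ((1 : ℚ) ⊗ₜ[ℤ] x) := by
  rw [TensorProduct.smul_tmul', smul_eq_mul, mul_one]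

theorem tmul_mem {n : ℕ} {x : K} (q : ℚ) (hx : x ∈ gammaFiltration P n) :
    q ⊗ₜ[ℤ] x ∈ QF P n := by
  rw [tmul_eq_smul]
  exact Submodule.smul_mem _ _ (one_tmul_mem P hx)

theorem QF_zero : QF P 0 = ⊤ := by
  rw [eq_top_iff]
  intro z hz
  clear hz
  induction z using TensorProduct.induction_on with
  | zero => exact Submodule.zero_mem _
  | tmul q x =>
    refine tmul_mem P q ?_
    rw [Groth.Agent.S3291.filt_zero]; exact AddSubgroup.mem_top _
  | add a b ha hb => exact Submodule.add_mem _ ha hb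

theorem QF_anti (n : ℕ) : QF P (n + 1) ≤ QF P n := by
  unfold QF
  refine Submodule.span_mono (Set.image_mono ?_)
  exact fun x hx => filt_anti P (Nat.le_succ n) hx

theorem QF_bot {d : ℕ} (hd : gammaFiltration P (d + 1) = ⊥) : QF P (d + 1) = ⊥ := by
  unfold QF
  rw [hd, Submodule.span_eq_bot]
  rintro _ ⟨x, hx, rfl⟩
  have : x = 0 := hx
  simp [this]

theorem natCast_smul_one_tmul (a : ℕ) (x : K) :
    (a : ℚ) • ((1 : ℚ) ⊗ₜ[ℤ] x) = (1 : ℚ) ⊗ₜ[ℤ] ((a : K) * x) := by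
  rw [TensorProduct.smul_tmul', smul_eq_mul, mul_one]
  have h1 : ((a : ℚ)) = (a : ℤ) • (1 : ℚ) := by simp
  have h2 : (a : K) * x = (a : ℤ) • x := by simp
  rw [h1, h2, TensorProduct.smul_tmul]

theorem data (hK : HasSplitting K P) (d : ℕ) (hd : gammaFiltration P (d + 1) = ⊥)
    (j : ℕ) (hj : 2 ≤ j) (Ψ : ℚ ⊗[ℤ] K →ₗ[ℚ] ℚ ⊗[ℤ] K)
    (hΨ : ∀ x : K, Ψ (1 ⊗ₜ[ℤ] x) = 1 ⊗ₜ[ℤ] adams P j x) :
    FiltEigen.Data Ψ (QF P) (fun n => (j : ℚ) ^ n) d where
  top := QF_zero P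
  anti := QF_anti P
  bot := QF_bot P hd
  inj := by
    intro a b hab
    have hab' : (j : ℚ) ^ a = (j : ℚ) ^ b := hab
    have h2 : (j ^ a : ℕ) = j ^ b := by exact_mod_cast hab'
    exact Nat.pow_right_injective hj h2
  step := by
    intro n x hx
    obtain ⟨C, hKC, hC⟩ := hK
    unfold QF at hx
    induction hx using Submodule.span_induction with
    | mem y hy =>
      obtain ⟨x, hx, rfl⟩ := hy
      have key := adams_sub_mem hC (L := ⟨K, P⟩) hKC (j := j) n x hx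
      have : Ψ ((1 : ℚ) ⊗ₜ[ℤ] x) - (j : ℚ) ^ n • ((1 : ℚ) ⊗ₜ[ℤ] x) =
          (1 : ℚ) ⊗ₜ[ℤ] (adams P j x - (j : K) ^ n * x) := by
        rw [hΨ, TensorProduct.tmul_sub]
        congr 1
        have := natCast_smul_one_tmul (j ^ n) x
        push_cast at this
        exact this
      rw [this]
      exact one_tmul_mem P key
    | zero =>
      rw [map_zero, smul_zero, sub_zero]; exact Submodule.zero_mem _
    | add a b _ _ ha hb =>
      have : Ψ (a + b) - (j : ℚ) ^ n • (a + b) =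
          (Ψ a - (j : ℚ) ^ n • a) + (Ψ b - (j : ℚ) ^ n • b) := by
        rw [map_add, smul_add]; abel
      rw [this]; exact Submodule.add_mem _ ha hb
    | smul q a _ ha =>
      have : Ψ (q • a) - (j : ℚ) ^ n • (q • a) = q • (Ψ a - (j : ℚ) ^ n • a) := by
        rw [map_smul, smul_sub, smul_comm]
      rw [this]; exact Submodule.smul_mem _ _ ha

theorem commute (hK : HasSplitting K P) (j l : ℕ)
    (Ψj Ψl : ℚ ⊗[ℤ] K →ₗ[ℚ] ℚ ⊗[ℤ] K)
    (hΨj : ∀ x : K, Ψj (1 ⊗ₜ[ℤ] x) = 1 ⊗ₜ[ℤ] adams P j x)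
    (hΨl : ∀ x : K, Ψl (1 ⊗ₜ[ℤ] x) = 1 ⊗ₜ[ℤ] adams P l x) (z : ℚ ⊗[ℤ] K) :
    Ψj (Ψl z) = Ψl (Ψj z) := by
  obtain ⟨C, hKC, hC⟩ := hK
  induction z using TensorProduct.induction_on with
  | zero => simp
  | tmul q x =>
    rw [tmul_eq_smul, map_smul, map_smul, map_smul, map_smul, hΨj, hΨl, hΨj, hΨl]
    congr 2
    have h1 := adams_adams hC (⟨K, P⟩ : PosLambdaRing) hKC j l x
    have h2 := adams_adams hC (⟨K, P⟩ : PosLambdaRing) hKC l j x
    exact h1.trans ((congrArg (fun i => adams P i x) (Nat.mul_comm j l)).trans h2.symm)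
  | add a b ha hb => rw [map_add, map_add, map_add, map_add, ha, hb]

end Groth.Agent.Helper6.LamEigen
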