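import Groth.Prelude.Def_KRR
import Groth.Agent.Lib.Helper5.Lambda5

/-!
# Linear functionals on elementary extensions `K_e = K[T]/(p_e)` of λ-rings
-/

set_option autoImplicit false
universe v u

namespace Groth.Agent.Helper6.LamExt

open Finset LambdaRing Groth.Agent.Helper5.Lam

section General

variable {K : Type v} {A : Type u} [CommRing K] [CommRing A] [Algebra K A]

/-- Upward recurrence: a linear functional with prescribed values on `l^i`, `i < m`, where `l`
satisfies a monic relation of degree `m`, is determined on all powers. -/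
theorem up (m : ℕ) (hm : 1 ≤ m) (c : ℕ → K) (hc0 : c 0 = 1) (s : ℕ → K)
    (hrec : ∀ k : ℕ, m ≤ k → ∑ i ∈ range (m + 1), c i * s (k - i) = 0)
    (l : A) (hl : ∑ i ∈ range (m + 1), c i • l ^ (m - i) = 0)
    (f : A →ₗ[K] K) (hf : ∀ i : ℕ, i < m → f (l ^ i) = s i) : ∀ i : ℕ, f (l ^ i) = s i := by
  intro k
  induction k using Nat.strong_induction_on with
  | _ k ih =>
    by_cases hk : k < m
    · exact hf k hk
    · have hmk : m ≤ k := by omega
      have h1 : l ^ (k - m) * ∑ i ∈ range (m + 1), c i • l ^ (m - i) = 0 := by rw [hl, mul_zero]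
      rw [Finset.mul_sum] at h1
      have h2 := congrArg f h1
      rw [map_sum, map_zero] at h2
      have h3 : ∑ i ∈ range (m + 1), c i * f (l ^ (k - i)) = 0 := by
        rw [← h2]
        refine Finset.sum_congr rfl fun i hi => ?_
        have him : i ≤ m := by have := Finset.mem_range.mp hi; omega
        rw [mul_smul_comm, map_smul, smul_eq_mul, ← pow_add]
        congr 3
        omega
      have h4 := hrec k hmk
      rw [Finset.sum_range_succ'] at h3 h4
      have h5 : ∑ i ∈ range m, c (i + 1) * f (l ^ (k - (i + 1))) =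
          ∑ i ∈ range m, c (i + 1) * s (k - (i + 1)) := by
        refine Finset.sum_congr rfl fun i hi => ?_
        have him : i < m := Finset.mem_range.mp hi
        rw [ih (k - (i + 1)) (by omega)]
      rw [h5] at h3
      rw [hc0, one_mul, Nat.sub_zero] at h3 h4
      have := h3.trans h4.symm
      exact add_left_cancel this

/-- Downward recurrence: negative powers of a unit root of the relation are killed. -/
theorem down (m : ℕ) (c : ℕ → K) (hcm : IsUnit (c m)) (s : ℕ → K)
    (hrec : ∀ k : ℕ, 1 ≤ k → k ≤ m → ∑ i ∈ range (k + 1), c i * s (k - i) = 0)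
    (u : Aˣ) (hu : ∑ i ∈ range (m + 1), c i • ((u : A) ^ (m - i)) = 0)
    (f : A →ₗ[K] K) (hf : ∀ i : ℕ, i < m → f ((u : A) ^ i) = s i) :
    ∀ n : ℕ, 1 ≤ n → n < m → f (((u⁻¹ : Aˣ) : A) ^ n) = 0 := by
  intro n
  induction n using Nat.strong_induction_on with
  | _ n ih =>
    intro hn1 hnm
    have h1 : ((u⁻¹ : Aˣ) : A) ^ n * ∑ i ∈ range (m + 1), c i • ((u : A) ^ (m - i)) = 0 := by
      rw [hu, mul_zero]
    rw [Finset.mul_sum] at h1
    have h2 := congrArg f h1
    rw [map_sum, map_zero] at h2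
    -- split the sum
    have hsplit : range (m + 1) = range (m - n + 1) ∪ (Finset.Ico (m - n + 1) m) ∪ {m} := by
      ext i
      simp only [Finset.mem_range, Finset.mem_union, Finset.mem_Ico, Finset.mem_singleton]
      omega
    rw [hsplit, Finset.sum_union, Finset.sum_union] at h2
    · have e1 : ∑ i ∈ range (m - n + 1), f (((u⁻¹ : Aˣ) : A) ^ n * c i • ((u : A) ^ (m - i))) = 0 := by
        rw [← hrec (m - n) (by omega) (by omega)]
        refine Finset.sum_congr rfl fun i hi => ?_
        have him : i ≤ m - n := by have := Finset.mem_range.mp hi; omega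
        rw [mul_smul_comm, map_smul, smul_eq_mul]
        congr 1
        rw [← hf (m - n - i) (by omega)]
        congr 1
        have : m - i = n + (m - n - i) := by omega
        rw [this, pow_add, ← mul_assoc, ← mul_pow, Units.inv_mul, one_pow, one_mul]
      have e2 : ∑ i ∈ Finset.Ico (m - n + 1) m, f (((u⁻¹ : Aˣ) : A) ^ n * c i • ((u : A) ^ (m - i))) = 0 := by
        refine Finset.sum_eq_zero fun i hi => ?_
        have him := Finset.mem_Ico.mp hi
        rw [mul_smul_comm, map_smul, smul_eq_mul]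
        have : n = (n - (m - i)) + (m - i) := by omega
        have h3 : ((u⁻¹ : Aˣ) : A) ^ n * (u : A) ^ (m - i) = ((u⁻¹ : Aˣ) : A) ^ (n - (m - i)) := by
          conv_lhs => rw [this, pow_add, mul_assoc, ← mul_pow, Units.inv_mul, one_pow, mul_one]
        rw [h3, ih (n - (m - i)) (by omega) (by omega) (by omega), mul_zero]
      rw [e1, e2, Finset.sum_singleton, Nat.sub_self, pow_zero, mul_smul_comm, mul_one, map_smul,
        smul_eq_mul, zero_add, zero_add] at h2
      exact (hcm.mul_right_eq_zero).mp h2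
    · rw [Finset.disjoint_left]
      intro i hi hi'
      simp only [Finset.mem_range, Finset.mem_union, Finset.mem_Ico, Finset.mem_singleton] at hi hi'
      omega
    · rw [Finset.disjoint_left]
      intro i hi hi'
      simp only [Finset.mem_range, Finset.mem_union, Finset.mem_Ico, Finset.mem_singleton] at hi hi'
      omega

end General

section Specific

variable {K : Type v} [CommRing K] [LambdaOps K]

/-- the coefficients `(-1)^i λ^i(e)` of `λ_{-t}(e)` and of `p_e`. -/
def cc (e : K) (i : ℕ) : K := (-1 : K) ^ i * LambdaOps.lam i e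

theorem cc_zero (e : K) : cc e 0 = 1 := by simp [cc, LambdaOps.lam_zero]

theorem coeff_negLam (e : K) (i : ℕ) : PowerSeries.coeff i (negLam e) = cc e i := by
  rw [negLam, PowerSeries.coeff_rescale]; simp [lamSeries, cc]

theorem sigmaSeries_eq (e : K) : KRR.sigmaSeries e = negLamInv e := rfl

theorem sigma_eq (e : K) (i : ℕ) : KRR.sigma i e = PowerSeries.coeff i (negLamInv e) := rfl

theorem rec_full (e : K) (k : ℕ) (hk : 1 ≤ k) :
    ∑ i ∈ range (k + 1), cc e i * KRR.sigma (k - i) e = 0 := by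
  have h := congrArg (PowerSeries.coeff k) (negLam_mul_inv e)
  rw [PowerSeries.coeff_mul, Finset.Nat.sum_antidiagonal_eq_sum_range_succ_mk, PowerSeries.coeff_one,
    if_neg (by omega)] at h
  rw [← h]
  refine Finset.sum_congr rfl fun i _ => ?_
  rw [coeff_negLam]; rfl

theorem cc_eq_zero (P : PosStructure K) (e : K) (he : e ∈ P.pos) (m : ℕ) (hm : P.aug e = m) (i : ℕ)
    (hi : m < i) : cc e i = 0 := by
  rw [cc, P.lam_eq_zero e he i (by rw [hm]; exact_mod_cast hi), mul_zero]

theorem rec_trunc (P : PosStructure K) (e : K) (he : e ∈ P.pos) (m : ℕ) (hm : P.aug e = m) (k : ℕ)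
    (hk : m ≤ k) (hk1 : 1 ≤ k) : ∑ i ∈ range (m + 1), cc e i * KRR.sigma (k - i) e = 0 := by
  rw [← rec_full e k hk1]
  refine Finset.sum_subset (fun i hi => ?_) (fun i _ hi => ?_)
  · rw [Finset.mem_range] at hi ⊢; omega
  · rw [Finset.mem_range] at hi
    rw [cc_eq_zero P e he m hm i (by omega), zero_mul]

theorem isUnit_cc (P : PosStructure K) (e : K) (he : e ∈ P.pos) (m : ℕ) (hm : (P.aug e).toNat = m) :
    IsUnit (cc e m) := by
  subst hm
  exact ((isUnit_one.neg).pow _).mul (P.isUnit_lam e he)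

theorem extPoly_rel (P : PosStructure K) (e : K) (m : ℕ) (hm : (P.aug e).toNat = m) :
    ∑ i ∈ range (m + 1), cc e i • (AdjoinRoot.root (KRR.extPoly P e)) ^ (m - i) = 0 := by
  have h := AdjoinRoot.eval₂_root (KRR.extPoly P e)
  have h2 : Polynomial.eval₂ (AdjoinRoot.of (KRR.extPoly P e)) (AdjoinRoot.root (KRR.extPoly P e))
      (∑ i ∈ range (m + 1), Polynomial.C (cc e i) * Polynomial.X ^ (m - i)) = 0 := by
    subst hm; exact h
  rw [Polynomial.eval₂_finset_sum] at h2
  rw [← h2]
  refine Finset.sum_congr rfl fun i _ => ?_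
  rw [Polynomial.eval₂_mul, Polynomial.eval₂_C, Polynomial.eval₂_pow, Polynomial.eval₂_X,
    Algebra.smul_def, AdjoinRoot.algebraMap_eq]

/-- S3779, first half: the functional is `σ^i(e)` on all powers of `ℓ`. -/
theorem functional_pow (P : PosStructure K) (e : K) (he : e ∈ P.pos) (r : ℕ) (hr : P.aug e = r + 1)
    (f : AdjoinRoot (KRR.extPoly P e) →ₗ[K] K)
    (hf : ∀ i : ℕ, i ≤ r → f (AdjoinRoot.root (KRR.extPoly P e) ^ i) = KRR.sigma i e) (i : ℕ) :
    f (AdjoinRoot.root (KRR.extPoly P e) ^ i) = KRR.sigma i e := by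
  have hm : (P.aug e).toNat = r + 1 := by rw [hr]; rfl
  exact up (r + 1) (by omega) (cc e) (cc_zero e) (fun i => KRR.sigma i e)
    (fun k hk => rec_trunc P e he (r + 1) (by rw [hr]; push_cast; rfl) k hk (by omega)) _
    (extPoly_rel P e (r + 1) hm) f (fun i hi => hf i (by omega)) i

/-- S3779, second half. -/
theorem functional_inv_pow (P : PosStructure K) (e : K) (he : e ∈ P.pos) (r : ℕ) (hr : P.aug e = r + 1)
    (f : AdjoinRoot (KRR.extPoly P e) →ₗ[K] K)
    (hf : ∀ i : ℕ, i ≤ r → f (AdjoinRoot.root (KRR.extPoly P e) ^ i) = KRR.sigma i e)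
    (linv : AdjoinRoot (KRR.extPoly P e)) (hlinv : linv * AdjoinRoot.root (KRR.extPoly P e) = 1)
    (n : ℕ) (hn1 : 1 ≤ n) (hnr : n ≤ r) : f (linv ^ n) = 0 := by
  have hm : (P.aug e).toNat = r + 1 := by rw [hr]; rfl
  let u : (AdjoinRoot (KRR.extPoly P e))ˣ :=
    Units.mkOfMulEqOne (AdjoinRoot.root (KRR.extPoly P e)) linv (by rw [mul_comm]; exact hlinv)
  exact down (r + 1) (cc e) (isUnit_cc P e he (r + 1) hm) (fun i => KRR.sigma i e)
    (fun k hk1 _ => rec_full e k hk1) u (extPoly_rel P e (r + 1) hm) f (fun i hi => hf i (by omega))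
    n hn1 (by omega)

theorem rec_full' (e : K) (k : ℕ) :
    ∑ i ∈ range (k + 1), cc e i * KRR.sigma (k - i) e = if k = 0 then 1 else 0 := by
  have h := congrArg (PowerSeries.coeff k) (negLam_mul_inv e)
  rw [PowerSeries.coeff_mul, Finset.Nat.sum_antidiagonal_eq_sum_range_succ_mk, PowerSeries.coeff_one] at h
  rw [← h]
  refine Finset.sum_congr rfl fun i _ => ?_
  rw [coeff_negLam]; rfl

/-- `λ^k(x - l) = Σ λ^i(x) (-l)^(k-i)` when `λ^i(l) = 0` for `i ≥ 2`. -/
theorem lam_sub_root {A : Type u} [CommRing A] [LambdaOps A] (x l : A)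
    (hl : ∀ i : ℕ, 2 ≤ i → LambdaOps.lam i l = 0) (k : ℕ) :
    LambdaOps.lam k (x - l) = ∑ i ∈ range (k + 1), LambdaOps.lam i x * (-l) ^ (k - i) := by
  induction k with
  | zero => simp [LambdaOps.lam_zero]
  | succ k ih =>
    have h := LambdaOps.lam_add (k + 1) (x - l) l
    rw [sub_add_cancel, Finset.sum_range_succ, Finset.sum_range_succ] at h
    have h0 : ∑ i ∈ range k, LambdaOps.lam i (x - l) * LambdaOps.lam (k + 1 - i) l = 0 := by
      refine Finset.sum_eq_zero fun i hi => ?_
      have := Finset.mem_range.mp hi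
      rw [hl (k + 1 - i) (by omega), mul_zero]
    rw [h0, zero_add, Nat.add_sub_cancel_left, LambdaOps.lam_one, Nat.sub_self, LambdaOps.lam_zero,
      mul_one] at h
    rw [Finset.sum_range_succ, Nat.sub_self, pow_zero, mul_one, h]
    have h1 : ∑ i ∈ range (k + 1), LambdaOps.lam i x * (-l) ^ (k + 1 - i) =
        (-l) * LambdaOps.lam k (x - l) := by
      rw [ih, Finset.mul_sum]
      refine Finset.sum_congr rfl fun i hi => ?_
      have := Finset.mem_range.mp hi
      have e1 : k + 1 - i = (k - i) + 1 := by omega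
      rw [e1, pow_succ]; ring
    rw [h1]; ring

/-- S3780. -/
theorem functional_lam_sub_root (P : PosStructure K) (e : K) (he : e ∈ P.pos) (r : ℕ)
    (hr : P.aug e = r + 1)
    (inst : LambdaOps (AdjoinRoot (KRR.extPoly P e)))
    (hext : ∀ (i : ℕ) (x : K), @LambdaOps.lam _ _ inst i (AdjoinRoot.of (KRR.extPoly P e) x) =
      AdjoinRoot.of (KRR.extPoly P e) (LambdaOps.lam i x))
    (hroot : ∀ i : ℕ, 2 ≤ i → @LambdaOps.lam _ _ inst i (AdjoinRoot.root (KRR.extPoly P e)) = 0)
    (f : AdjoinRoot (KRR.extPoly P e) →ₗ[K] K)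
    (hf : ∀ i : ℕ, i ≤ r → f (AdjoinRoot.root (KRR.extPoly P e) ^ i) = KRR.sigma i e) (i : ℕ) :
    f (@LambdaOps.lam _ _ inst i
        (AdjoinRoot.of (KRR.extPoly P e) e - AdjoinRoot.root (KRR.extPoly P e))) =
      if i = 0 then 1 else 0 := by
  rw [lam_sub_root _ _ hroot i, map_sum]
  have key : ∀ j ∈ range (i + 1),
      f (@LambdaOps.lam _ _ inst j (AdjoinRoot.of (KRR.extPoly P e) e) *
        (-AdjoinRoot.root (KRR.extPoly P e)) ^ (i - j)) =
      (-1 : K) ^ i * (cc e j * KRR.sigma (i - j) e) := by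
    intro j hj
    have hji : j ≤ i := by have := Finset.mem_range.mp hj; omega
    have e1 : @LambdaOps.lam _ _ inst j (AdjoinRoot.of (KRR.extPoly P e) e) *
        (-AdjoinRoot.root (KRR.extPoly P e)) ^ (i - j) =
        (LambdaOps.lam j e * (-1 : K) ^ (i - j)) • (AdjoinRoot.root (KRR.extPoly P e)) ^ (i - j) := by
      rw [hext, neg_pow, Algebra.smul_def, AdjoinRoot.algebraMap_eq, map_mul, map_pow, map_neg,
        map_one, mul_assoc]
    rw [e1, map_smul, smul_eq_mul, functional_pow P e he r hr f hf, cc]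
    have e2 : (-1 : K) ^ (i - j) = (-1) ^ i * (-1) ^ j := by
      rw [← pow_add]
      have : i + j = (i - j) + 2 * j := by omega
      rw [this, pow_add, pow_mul]; simp
    rw [e2]; ring
  rw [Finset.sum_congr rfl key, ← Finset.mul_sum, rec_full']
  split_ifs with h
  · subst h; simp
  · simp

end Specific

end Groth.Agent.Helper6.LamExt
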