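import Mathlib.RingTheory.MvPolynomial.Symmetric.FundamentalTheorem
import Mathlib.RingTheory.MvPolynomial.Ideal
import Mathlib.RingTheory.MvPolynomial.Homogeneous
import Mathlib.RingTheory.MvPolynomial.WeightedHomogeneous

/-!
# Weight control in the fundamental theorem of symmetric polynomials
-/

set_option autoImplicit false

namespace Groth.Agent.Helper6.LamGam

open MvPolynomial Finset

variable (m : ℕ)

/-- the weights of the variables: `X_k` has weight `k + 1`. -/
def wt : Fin m → ℕ := fun k => k.1 + 1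

/-- `X_k ↦ e_{k+1}`. -/
noncomputable def E : MvPolynomial (Fin m) ℤ →ₐ[ℤ] MvPolynomial (Fin m) ℤ :=
  aeval (fun k : Fin m => esymm (Fin m) ℤ (k.1 + 1))

theorem E_eq (p : MvPolynomial (Fin m) ℤ) : E m p = (esymmAlgHom (Fin m) ℤ m p).val :=
  (esymmAlgHom_apply p).symm

theorem E_injective : Function.Injective (E m) := by
  intro p q h
  rw [E_eq, E_eq] at h
  exact esymmAlgHom_fin_injective ℤ (le_refl m) (Subtype.ext h)

theorem esymm_isHomogeneous (k : ℕ) : (esymm (Fin m) ℤ k).IsHomogeneous k := by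
  unfold esymm
  refine IsHomogeneous.sum _ _ _ fun t ht => ?_
  have h := IsHomogeneous.prod t (fun i => (X i : MvPolynomial (Fin m) ℤ)) (fun _ => 1)
    (fun i _ => isHomogeneous_X ℤ i)
  have hc : ∑ i ∈ t, 1 = k := by
    rw [Finset.sum_const, smul_eq_mul, mul_one]
    exact (Finset.mem_powersetCard.mp ht).2
  rwa [hc] at h

theorem E_monomial_isHomogeneous (d : Fin m →₀ ℕ) (r : ℤ) :
    (E m (monomial d r)).IsHomogeneous (Finsupp.weight (wt m) d) := by
  rw [E, aeval_monomial, Finsupp.weight_apply]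
  have h1 : (algebraMap ℤ (MvPolynomial (Fin m) ℤ) r).IsHomogeneous 0 := isHomogeneous_C _ r
  have h2 : (d.prod fun i k => esymm (Fin m) ℤ (i.1 + 1) ^ k).IsHomogeneous
      (d.sum fun i c => c • wt m i) := by
    unfold Finsupp.prod Finsupp.sum
    refine IsHomogeneous.prod _ _ _ fun i _ => ?_
    have := (esymm_isHomogeneous m (i.1 + 1)).pow (d i)
    show (esymm (Fin m) ℤ (i.1 + 1) ^ d i).IsHomogeneous (d i • wt m i)
    rwa [smul_eq_mul, mul_comm, wt]
  have := h1.mul h2
  rwa [zero_add] at this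

/-- every monomial of `Q` has weight at least `n`. -/
def WtGE (n : ℕ) (Q : MvPolynomial (Fin m) ℤ) : Prop :=
  ∀ d ∈ Q.support, n ≤ Finsupp.weight (wt m) d

/-- the part of weight `w`. -/
noncomputable def wpart (w : ℕ) (Q : MvPolynomial (Fin m) ℤ) : MvPolynomial (Fin m) ℤ :=
  ∑ d ∈ Q.support with Finsupp.weight (wt m) d = w, monomial d (coeff d Q)

theorem E_wpart (w : ℕ) (Q : MvPolynomial (Fin m) ℤ) :
    E m (wpart m w Q) = homogeneousComponent w (E m Q) := by
  conv_rhs => rw [Q.as_sum, map_sum, map_sum]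
  rw [wpart, map_sum, Finset.sum_filter]
  refine Finset.sum_congr rfl fun d _ => ?_
  have h := E_monomial_isHomogeneous m d (coeff d Q)
  rw [homogeneousComponent_of_mem h]
  by_cases hw : Finsupp.weight (wt m) d = w
  · rw [if_pos hw, if_pos hw.symm]
  · rw [if_neg hw, if_neg (fun h' => hw h'.symm)]

theorem wtGE_of_E_mem (n : ℕ) (Q : MvPolynomial (Fin m) ℤ)
    (h : E m Q ∈ idealOfVars (Fin m) ℤ ^ n) : WtGE m n Q := by
  intro d₀ hd₀
  by_contra hlt
  rw [not_le] at hlt
  set w₀ := Finsupp.weight (wt m) d₀ with hw₀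
  have h0 : homogeneousComponent w₀ (E m Q) = 0 := by
    ext d
    rw [coeff_homogeneousComponent, coeff_zero]
    split_ifs with hd
    · exact (mem_pow_idealOfVars_iff' n _).mp h d (by rw [hd]; exact hlt)
    · rfl
  have h1 : wpart m w₀ Q = 0 := by
    apply E_injective m
    rw [E_wpart, h0, map_zero]
  have h2 : coeff d₀ (wpart m w₀ Q) = coeff d₀ Q := by
    classical
    rw [wpart, coeff_sum]
    simp only [coeff_monomial]
    rw [Finset.sum_eq_single d₀]
    · rw [if_pos rfl]
    · intro b _ hb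
      rw [if_neg hb]
    · intro hn
      exact absurd (Finset.mem_filter.mpr ⟨hd₀, hw₀.symm⟩) hn
  rw [h1, coeff_zero] at h2
  exact (mem_support_iff.mp hd₀) h2.symm

end Groth.Agent.Helper6.LamGam
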