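import Groth.Agent.Lib.Helper6.LamGam1
import Mathlib.Algebra.Ring.GeomSum

/-!
# The universal polynomial for `ψ^j γ^r - j^r γ^r`
-/

set_option autoImplicit false

namespace Groth.Agent.Helper6.LamGam

open MvPolynomial Finset

section IdealLemma

variable {R : Type*} [CommRing R]

theorem prod_sub_prod_mem (I : Ideal R) {ι : Type*} [DecidableEq ι] (t : Finset ι) (A B : ι → R)
    (hA : ∀ i, A i ∈ I) (hB : ∀ i, B i ∈ I) (hAB : ∀ i, A i - B i ∈ I ^ 2) :
    ∏ i ∈ t, A i - ∏ i ∈ t, B i ∈ I ^ (t.card + 1) := by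
  induction t using Finset.induction_on with
  | empty => simp
  | insert s t hs ih =>
    rw [Finset.prod_insert hs, Finset.prod_insert hs, Finset.card_insert_of_notMem hs]
    have e : A s * ∏ i ∈ t, A i - B s * ∏ i ∈ t, B i =
        (A s - B s) * ∏ i ∈ t, A i + B s * (∏ i ∈ t, A i - ∏ i ∈ t, B i) := by ring
    rw [e]
    refine Ideal.add_mem _ ?_ ?_
    · have h1 : ∏ i ∈ t, A i ∈ I ^ t.card := by
        have := Ideal.prod_mem_prod (s := t) (I := fun _ => I) (x := A) (fun i _ => hA i)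
        rwa [Finset.prod_const] at this
      have h2 := Ideal.mul_mem_mul (hAB s) h1
      rw [← pow_add] at h2
      have e2 : t.card + 1 + 1 = 2 + t.card := by omega
      rw [e2]; exact h2
    · have h2 := Ideal.mul_mem_mul (hB s) ih
      rw [← pow_succ'] at h2
      exact h2

end IdealLemma

variable (j r m : ℕ)

theorem one_add_X_pow_sub_one (k : ℕ) (i : Fin m) :
    ((1 : MvPolynomial (Fin m) ℤ) + X i) ^ k - 1 = X i * ∑ l ∈ range k, (1 + X i) ^ l := by
  have := mul_geom_sum ((1 : MvPolynomial (Fin m) ℤ) + X i) k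
  rw [add_sub_cancel_left] at this
  exact this.symm

theorem A_mem (k : ℕ) (i : Fin m) :
    ((1 : MvPolynomial (Fin m) ℤ) + X i) ^ k - 1 ∈ idealOfVars (Fin m) ℤ := by
  rw [one_add_X_pow_sub_one]
  exact Ideal.mul_mem_right _ _ (Ideal.subset_span ⟨i, rfl⟩)

theorem B_mem (i : Fin m) : (j : MvPolynomial (Fin m) ℤ) * X i ∈ idealOfVars (Fin m) ℤ :=
  Ideal.mul_mem_left _ _ (Ideal.subset_span ⟨i, rfl⟩)

theorem A_sub_B_mem (i : Fin m) :
    (((1 : MvPolynomial (Fin m) ℤ) + X i) ^ j - 1) - (j : MvPolynomial (Fin m) ℤ) * X i ∈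
      idealOfVars (Fin m) ℤ ^ 2 := by
  have e : (((1 : MvPolynomial (Fin m) ℤ) + X i) ^ j - 1) - (j : MvPolynomial (Fin m) ℤ) * X i =
      X i * ∑ l ∈ range j, ((1 + X i) ^ l - 1) := by
    rw [Finset.sum_sub_distrib, mul_sub, ← one_add_X_pow_sub_one]
    simp
    ring
  rw [e, pow_two]
  refine Ideal.mul_mem_mul (Ideal.subset_span ⟨i, rfl⟩) ?_
  exact Ideal.sum_mem _ fun l _ => A_mem m l i

/-- the universal polynomial `e_r((1+a)^j - 1) - j^r e_r(a)`. -/
noncomputable def Puniv : MvPolynomial (Fin m) ℤ :=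
  aeval (fun i : Fin m => ((1 : MvPolynomial (Fin m) ℤ) + X i) ^ j - 1) (esymm (Fin m) ℤ r) -
    (j : MvPolynomial (Fin m) ℤ) ^ r * esymm (Fin m) ℤ r

theorem Puniv_eq : Puniv j r m = ∑ t ∈ powersetCard r (univ : Finset (Fin m)),
    (∏ i ∈ t, (((1 : MvPolynomial (Fin m) ℤ) + X i) ^ j - 1) -
      ∏ i ∈ t, ((j : MvPolynomial (Fin m) ℤ) * X i)) := by
  rw [Puniv, esymm, map_sum, Finset.mul_sum, ← Finset.sum_sub_distrib]
  refine Finset.sum_congr rfl fun t ht => ?_
  rw [map_prod, Finset.prod_mul_distrib, Finset.prod_const, (Finset.mem_powersetCard.mp ht).2]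
  simp only [aeval_X]

theorem Puniv_mem : Puniv j r m ∈ idealOfVars (Fin m) ℤ ^ (r + 1) := by
  rw [Puniv_eq]
  refine Ideal.sum_mem _ fun t ht => ?_
  have h := prod_sub_prod_mem (idealOfVars (Fin m) ℤ) t
    (fun i => ((1 : MvPolynomial (Fin m) ℤ) + X i) ^ j - 1)
    (fun i => (j : MvPolynomial (Fin m) ℤ) * X i)
    (fun i => A_mem m j i) (fun i => B_mem j m i) (fun i => A_sub_B_mem j m i)
  rwa [(Finset.mem_powersetCard.mp ht).2] at h

theorem Puniv_symm : (Puniv j r m).IsSymmetric := by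
  intro e
  rw [Puniv, map_sub, map_mul, map_pow, map_natCast, (esymm_isSymmetric (Fin m) ℤ r) e]
  congr 1
  rw [comp_aeval_apply (f := fun i : Fin m => ((1 : MvPolynomial (Fin m) ℤ) + X i) ^ j - 1)
    (rename e : MvPolynomial (Fin m) ℤ →ₐ[ℤ] MvPolynomial (Fin m) ℤ) (esymm (Fin m) ℤ r)]
  have h1 : (fun i : Fin m => (rename e : MvPolynomial (Fin m) ℤ →ₐ[ℤ] MvPolynomial (Fin m) ℤ)
      (((1 : MvPolynomial (Fin m) ℤ) + X i) ^ j - 1)) =
      (fun i : Fin m => ((1 : MvPolynomial (Fin m) ℤ) + X i) ^ j - 1) ∘ e := by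
    funext i
    simp
  rw [h1, ← aeval_rename, (esymm_isSymmetric (Fin m) ℤ r) e]

/-- the polynomial in the elementary symmetric functions expressing `Puniv`. -/
noncomputable def Quniv : MvPolynomial (Fin m) ℤ :=
  (esymmAlgEquiv (Fin m) ℤ (Fintype.card_fin m)).symm ⟨Puniv j r m, Puniv_symm j r m⟩

theorem E_Quniv : E m (Quniv j r m) = Puniv j r m := by
  rw [E_eq]
  have : esymmAlgHom (Fin m) ℤ m (Quniv j r m) = ⟨Puniv j r m, Puniv_symm j r m⟩ := by
    unfold Quniv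
    exact (esymmAlgEquiv (Fin m) ℤ (Fintype.card_fin m)).apply_symm_apply _
  rw [this]

theorem Quniv_wtGE : WtGE m (r + 1) (Quniv j r m) := by
  apply wtGE_of_E_mem
  rw [E_Quniv]
  exact Puniv_mem j r m

end Groth.Agent.Helper6.LamGam
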