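import Mathlib
import Groth.Prelude.Def_W4bkmilneecrracsp2Inv
import Groth.Agent.Lib.Helper6.LamGam4
import Groth.Agent.Lib.Helper6.LamDet

/-!
# λ-rings with involution: duality formulas
-/

set_option autoImplicit false
universe u

namespace Groth.Agent.Helper6.LamInv

open LambdaRing Finset
open Groth.Agent.Helper5.Lam Groth.Agent.Helper6.LamBott Groth.Agent.Helper6.LamGam

section Multi

variable {R : Type*} [CommRing R]

theorem esymm_eq_zero_of_card_lt (s : Multiset R) {k : ℕ} (h : Multiset.card s < k) :
    s.esymm k = 0 := by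
  unfold Multiset.esymm
  rw [Multiset.powersetCard_eq_empty k h]
  simp

theorem esymm_card (s : Multiset R) : s.esymm (Multiset.card s) = s.prod := by
  unfold Multiset.esymm
  rw [Multiset.powersetCard_self]
  simp

theorem esymm_inv (ι : R → R) (s : Multiset R) (hs : ∀ v ∈ s, ι v * v = 1) :
    ∀ i, i ≤ Multiset.card s →
      s.esymm i = (s.map ι).esymm (Multiset.card s - i) * s.prod := by
  induction s using Multiset.induction_on with
  | empty =>
    intro i hi
    have : i = 0 := by simpa using hi
    subst this
    simp [esymm_zero']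
  | cons a t ih =>
    have ha : ι a * a = 1 := hs a (Multiset.mem_cons_self a t)
    have ht : ∀ v ∈ t, ι v * v = 1 := fun v hv => hs v (Multiset.mem_cons_of_mem hv)
    have IH := ih ht
    intro i hi
    rw [Multiset.card_cons] at hi ⊢
    rw [Multiset.map_cons, Multiset.prod_cons]
    have hcm : Multiset.card (t.map ι) = Multiset.card t := Multiset.card_map _ _
    rcases i with _ | j
    · rw [esymm_zero', Nat.sub_zero, esymm_cons,
        esymm_eq_zero_of_card_lt (t.map ι) (by rw [hcm]; omega), zero_add]
      have h0 := IH 0 (Nat.zero_le _)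
      rw [esymm_zero', Nat.sub_zero] at h0
      calc (1 : R) = (ι a * a) * ((t.map ι).esymm (Multiset.card t) * t.prod) := by
            rw [ha, ← h0, one_mul]
        _ = _ := by ring
    · have hj : j ≤ Multiset.card t := by omega
      rw [esymm_cons]
      have e1 : Multiset.card t + 1 - (j + 1) = Multiset.card t - j := by omega
      rw [e1]
      rcases Nat.eq_zero_or_pos (Multiset.card t - j) with h0 | hpos
      · have hjn : j = Multiset.card t := by omega
        rw [h0, esymm_zero', one_mul, hjn, esymm_eq_zero_of_card_lt t (by omega), zero_add,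
          esymm_card]
      · obtain ⟨k, hk⟩ : ∃ k, Multiset.card t - j = k + 1 :=
          ⟨Multiset.card t - j - 1, by omega⟩
        rw [hk, esymm_cons]
        have h1 := IH j hj
        have h2 := IH (j + 1) (by omega)
        rw [hk] at h1
        have e2 : Multiset.card t - (j + 1) = k := by omega
        rw [e2] at h2
        rw [h1, h2]
        linear_combination (-(t.map ι).esymm k * t.prod) * ha

end Multi

section Inv

variable {K : Type u} [CommRing K] [LambdaOps K] {P : PosStructure K} {inv : K → K}

theorem inv_zero (hV : IsInvolution P inv) : inv 0 = 0 := by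
  have := hV.map_add 0 0
  rw [add_zero] at this
  exact left_eq_add.mp this

theorem inv_multiset_sum (hV : IsInvolution P inv) (s : Multiset K) :
    inv s.sum = (s.map inv).sum := by
  induction s using Multiset.induction_on with
  | empty => simpa using inv_zero hV
  | cons a t ih => rw [Multiset.sum_cons, hV.map_add, ih, Multiset.map_cons, Multiset.sum_cons]

end Inv

section Main

variable {K : Type u} [CommRing K] [LambdaOps K] (P : PosStructure K) (inv : K → K)

/-- the data extracted from an involutive splitting. -/
theorem split_data (hS : HasInvSplitting P inv) (e : K) (he : e ∈ P.pos) :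
    ∃ (L : PosLambdaRing.{u}) (inv' : L.carrier → L.carrier) (f : K →+* L.carrier)
      (s : Multiset L.carrier),
      IsExtension P L.posStr f ∧ (∀ v ∈ s, L.posStr.IsLine v) ∧
      (∀ v ∈ s.map inv', L.posStr.IsLine v) ∧ (∀ v ∈ s, inv' v * v = 1) ∧
      s.sum = f e ∧ (s.map inv').sum = f (inv e) ∧ Multiset.card s = (P.aug e).toNat := by
  obtain ⟨L, inv', f, hf, hV', hcompat, s, hs, hsum⟩ := hS e he
  refine ⟨L, inv', f, s, hf, hs, ?_, ?_, hsum, ?_, ?_⟩
  · intro v hv
    obtain ⟨w, hw, rfl⟩ := Multiset.mem_map.mp hv
    exact hV'.inv_line w (hs w hw)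
  · intro v hv
    exact hV'.inv_mul_self v (hs v hv)
  · rw [hcompat, ← hsum, inv_multiset_sum hV']
  · have := aug_lines L.posStr s hs
    rw [hsum, hf.aug_comp] at this
    rw [this]; simp

theorem lam_eq (hS : HasInvSplitting P inv) (e : K) (he : e ∈ P.pos) (i : ℕ)
    (hi : i ≤ (P.aug e).toNat) :
    LambdaOps.lam i e =
      LambdaOps.lam ((P.aug e).toNat - i) (inv e) * LambdaOps.lam (P.aug e).toNat e := by
  obtain ⟨L, inv', f, s, hf, hs, hs', hinv, hsum, hsum', hcard⟩ := split_data P inv hS e he
  apply hf.injective
  rw [map_mul, hf.isLambdaHom, hf.isLambdaHom, hf.isLambdaHom, ← hsum, ← hsum', lam_lines _ s hs,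
    lam_lines _ _ hs', lam_lines _ s hs, ← hcard, esymm_card]
  exact esymm_inv inv' s hinv i (by rw [hcard]; exact hi)

theorem gamma_top_eq (hS : HasInvSplitting P inv) (e : K) (he : e ∈ P.pos) :
    gamma (P.aug e).toNat (e - ((P.aug e).toNat : K)) =
      (∑ i ∈ range ((P.aug e).toNat + 1), (-1 : K) ^ i * LambdaOps.lam i (inv e)) *
        LambdaOps.lam (P.aug e).toNat e := by
  obtain ⟨L, inv', f, s, hf, hs, hs', hinv, hsum, hsum', hcard⟩ := split_data P inv hS e he
  apply hf.injective
  have hcard' : Multiset.card (s.map inv') = (P.aug e).toNat := by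
    rw [Multiset.card_map, hcard]
  have h1 : f (∑ i ∈ range ((P.aug e).toNat + 1), (-1 : K) ^ i * LambdaOps.lam i (inv e)) =
      ((s.map inv').map fun u => 1 - u).prod := by
    rw [map_sum, ← hcard', ← sum_neg_esymm]
    refine sum_congr rfl fun i _ => ?_
    rw [map_mul, map_pow, map_neg, map_one, hf.isLambdaHom, ← hsum', lam_lines _ _ hs']
  have h2 : f (gamma (P.aug e).toNat (e - ((P.aug e).toNat : K))) =
      (s.map fun v => v - 1).prod := by
    rw [map_gamma hf.isLambdaHom, map_sub, map_natCast, ← hsum, ← hcard, gamma_lines _ s hs]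
    have hc : Multiset.card (s.map fun v => v - 1) = Multiset.card s := Multiset.card_map _ _
    rw [← hc, esymm_card]
  rw [map_mul, h1, h2, hf.isLambdaHom, ← hsum, lam_lines _ s hs, ← hcard, esymm_card,
    Multiset.map_map]
  have h3 : s.prod = (s.map fun v => v).prod := by rw [Multiset.map_id']
  rw [h3, ← Multiset.prod_map_mul]
  congr 1
  refine Multiset.map_congr rfl fun v hv => ?_
  simp only [Function.comp_apply]
  have := hinv v hv
  linear_combination (1 : L.carrier) * this

theorem gamma_inv_sub_mem (hV : IsInvolution P inv) (hS : HasInvSplitting P inv) (q : K)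
    (hq : q ∈ P.pos) :
    gamma (P.aug q).toNat (inv q - ((P.aug q).toNat : K)) -
        (∑ i ∈ range ((P.aug q).toNat + 1), (-1 : K) ^ i * LambdaOps.lam i q) ∈
      gammaFiltration P ((P.aug q).toNat + 1) := by
  obtain ⟨L, inv', f, s, hf, hs, hs', hinv, hsum, hsum', hcard⟩ := split_data P inv hS q hq
  set d := (P.aug q).toNat with hd
  have hdq : P.aug q = (d : ℤ) := (Int.toNat_of_nonneg (P.aug_pos q hq).le).symm
  have hcard' : Multiset.card (s.map inv') = d := by rw [Multiset.card_map, hcard]
  -- the identity in K
  have hid : gamma d (inv q - (d : K)) - (∑ i ∈ range (d + 1), (-1 : K) ^ i * LambdaOps.lam i q) =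
      (LambdaOps.lam d (inv q) - 1) *
        (∑ i ∈ range (d + 1), (-1 : K) ^ i * LambdaOps.lam i q) := by
    apply hf.injective
    have h1 : f (∑ i ∈ range (d + 1), (-1 : K) ^ i * LambdaOps.lam i q) =
        (s.map fun u => 1 - u).prod := by
      rw [map_sum, ← hcard, ← sum_neg_esymm]
      refine sum_congr rfl fun i _ => ?_
      rw [map_mul, map_pow, map_neg, map_one, hf.isLambdaHom, ← hsum, lam_lines _ s hs]
    have h2 : f (gamma d (inv q - (d : K))) = ((s.map inv').map fun v => v - 1).prod := by
      rw [map_gamma hf.isLambdaHom, map_sub, map_natCast, ← hsum', ← hcard',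
        gamma_lines _ _ hs']
      have hc : Multiset.card ((s.map inv').map fun v => v - 1) = Multiset.card (s.map inv') :=
        Multiset.card_map _ _
      rw [← hc, esymm_card]
    have h3 : f (LambdaOps.lam d (inv q)) = (s.map inv').prod := by
      rw [hf.isLambdaHom, ← hsum', lam_lines _ _ hs', ← hcard', esymm_card]
    rw [map_sub, map_mul, map_sub, map_one, h1, h2, h3, sub_mul, one_mul, sub_left_inj,
      Multiset.map_map, ← Multiset.prod_map_mul]
    congr 1
    refine Multiset.map_congr rfl fun v hv => ?_
    simp only [Function.comp_apply]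
    have := hinv v hv
    linear_combination (1 : L.carrier) * this
  rw [hid]
  have haug1 : P.aug (LambdaOps.lam d (inv q) - 1) = 0 := by
    have : P.aug (LambdaOps.lam d (inv q)) = 1 := by
      rw [← hf.aug_comp, hf.isLambdaHom, ← hsum', lam_lines _ _ hs', ← hcard', esymm_card]
      have hline : ∀ (t : Multiset L.carrier), (∀ v ∈ t, L.posStr.IsLine v) →
          L.posStr.aug t.prod = 1 := by
        intro t
        induction t using Multiset.induction_on with
        | empty => intro _; simp
        | cons a t ih =>
          intro h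
          rw [Multiset.prod_cons, map_mul, (h a (Multiset.mem_cons_self a t)).2,
            ih fun v hv => h v (Multiset.mem_cons_of_mem hv), mul_one]
      exact hline _ hs'
    rw [map_sub, this, map_one, sub_self]
  have h1 := Groth.Agent.Helper6.LamDet.mem_filt_one_of_aug P haug1
  -- λ_{-1}(q) ∈ F^d: via its expression as ± γ^d(q - d), proved through the splitting
  have h2 : (∑ i ∈ range (d + 1), (-1 : K) ^ i * LambdaOps.lam i q) =
      (-1) ^ d * gamma d (q - (d : K)) := by
    apply hf.injective
    have h1 : f (∑ i ∈ range (d + 1), (-1 : K) ^ i * LambdaOps.lam i q) =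
        (s.map fun u => 1 - u).prod := by
      rw [map_sum, ← hcard, ← sum_neg_esymm]
      refine sum_congr rfl fun i _ => ?_
      rw [map_mul, map_pow, map_neg, map_one, hf.isLambdaHom, ← hsum, lam_lines _ s hs]
    rw [h1, map_mul, map_pow, map_neg, map_one, map_gamma hf.isLambdaHom, map_sub, map_natCast,
      ← hsum, ← hcard, gamma_lines _ s hs]
    have hc : Multiset.card (s.map fun v => v - 1) = Multiset.card s := Multiset.card_map _ _
    rw [← hc, esymm_card]
    have h3 : (s.map fun u => 1 - u) = (s.map fun v => v - 1).map Neg.neg := by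
      rw [Multiset.map_map]
      refine Multiset.map_congr rfl fun v _ => ?_
      simp
    rw [h3, Multiset.prod_map_neg, Multiset.card_map]
  have h3 : (∑ i ∈ range (d + 1), (-1 : K) ^ i * LambdaOps.lam i q) ∈ gammaFiltration P d := by
    rw [h2]
    apply smul_mem_filt
    apply gamma_mem
    rw [map_sub, map_natCast, hdq, sub_self]
  have := mul_mem_filt P h1 h3
  rwa [add_comm] at this

end Main

end Groth.Agent.Helper6.LamInv
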