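import Mathlib

/-!
# The truncated logarithm: `log((1+X)^j) ≡ j log(1+X)` modulo `X^(d+2)` in `ℚ[X]`.
-/

set_option autoImplicit false

namespace Groth.Agent.Helper6.LogPoly

open Polynomial Finset

/-- truncated logarithm `∑_{n ≤ d} (-1)^n/(n+1) Y^(n+1)`. -/
noncomputable def ell (d : ℕ) (Y : ℚ[X]) : ℚ[X] :=
  ∑ n ∈ range (d + 1), C ((-1 : ℚ) ^ n / ((n : ℚ) + 1)) * Y ^ (n + 1)

theorem derivative_ell (d : ℕ) (Y : ℚ[X]) :
    derivative (ell d Y) = (∑ n ∈ range (d + 1), (-Y) ^ n) * derivative Y := by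
  unfold ell
  rw [derivative_sum, Finset.sum_mul]
  refine sum_congr rfl fun n _ => ?_
  rw [derivative_mul, derivative_C, zero_mul, zero_add, derivative_pow_succ]
  have h1 : (C ((-1 : ℚ) ^ n / ((n : ℚ) + 1)) : ℚ[X]) * (C ((n : ℚ) + 1)) = C ((-1 : ℚ) ^ n) := by
    rw [← C_mul]
    congr 1
    have : ((n : ℚ) + 1) ≠ 0 := by positivity
    field_simp
  have h2 : (-Y) ^ n = C ((-1 : ℚ) ^ n) * Y ^ n := by
    rw [neg_pow, C_pow, C_neg, C_1]
  rw [h2, ← h1]
  ring

theorem one_add_mul_derivative_ell (d : ℕ) (Y : ℚ[X]) :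
    (1 + Y) * derivative (ell d Y) = (1 - (-Y) ^ (d + 1)) * derivative Y := by
  rw [derivative_ell, ← mul_assoc]
  have := mul_neg_geom_sum (-Y) (d + 1)
  rw [sub_neg_eq_add] at this
  rw [this]

theorem X_dvd (j : ℕ) : (X : ℚ[X]) ∣ (1 + X) ^ j - 1 := by
  have := sub_one_dvd_pow_sub_one ((1 : ℚ[X]) + X) j
  rwa [add_sub_cancel_left] at this

theorem key (d j : ℕ) :
    (X : ℚ[X]) ^ (d + 2) ∣ ell d ((1 + X) ^ j - 1) - C (j : ℚ) * ell d X := by
  set Y : ℚ[X] := (1 + X) ^ j - 1 with hY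
  set D : ℚ[X] := ell d Y - C (j : ℚ) * ell d X with hD
  have hY1 : 1 + Y = (1 + X) ^ j := by rw [hY]; ring
  have E : (1 + X) * derivative Y = C (j : ℚ) * (1 + Y) := by
    rw [hY1, hY, derivative_sub, derivative_one, sub_zero]
    cases j with
    | zero => simp
    | succ j =>
      rw [derivative_pow_succ, derivative_add, derivative_one, derivative_X, zero_add, mul_one,
        pow_succ]
      push_cast
      ring
  have A := one_add_mul_derivative_ell d Y
  have B := one_add_mul_derivative_ell d (X : ℚ[X])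
  rw [derivative_X, mul_one] at B
  have hmain : derivative D * ((1 + X) * (1 + Y)) =
      C (j : ℚ) * (1 + Y) * ((-X) ^ (d + 1) - (-Y) ^ (d + 1)) := by
    rw [hD, derivative_sub, derivative_mul, derivative_C, zero_mul, zero_add]
    linear_combination (1 + X) * A - C (j : ℚ) * (1 + Y) * B + (1 - (-Y) ^ (d + 1)) * E
  have hdvd : (X : ℚ[X]) ^ (d + 1) ∣ derivative D * ((1 + X) * (1 + Y)) := by
    rw [hmain]
    refine Dvd.dvd.mul_left (dvd_sub ?_ ?_) _
    · rw [neg_pow]; exact Dvd.intro_left _ rfl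
    · exact pow_dvd_pow_of_dvd ((dvd_neg).mpr (X_dvd j)) _
  have hcop : IsCoprime ((X : ℚ[X]) ^ (d + 1)) ((1 + X) * (1 + Y)) := by
    have h0 : IsCoprime (X : ℚ[X]) (1 + X) := ⟨-1, 1, by ring⟩
    rw [hY1]
    exact (h0.mul_right (h0.pow_right)).pow_left
  have hD' : (X : ℚ[X]) ^ (d + 1) ∣ derivative D := hcop.dvd_of_dvd_mul_right hdvd
  rw [X_pow_dvd_iff] at hD' ⊢
  intro i hi
  cases i with
  | zero =>
    rw [coeff_zero_eq_eval_zero, hD, eval_sub, eval_mul]
    have h1 : ∀ Z : ℚ[X], eval 0 Z = 0 → eval 0 (ell d Z) = 0 := by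
      intro Z hZ
      unfold ell
      rw [eval_finset_sum]
      refine Finset.sum_eq_zero fun n _ => ?_
      rw [eval_mul, eval_pow, hZ, zero_pow (Nat.succ_ne_zero n), mul_zero]
    rw [h1 Y (by rw [hY]; simp), h1 X (by simp)]
    simp
  | succ i =>
    have := hD' i (by omega)
    rw [coeff_derivative] at this
    rcases mul_eq_zero.mp this with h | h
    · exact h
    · exfalso
      have : ((i : ℚ) + 1) ≠ 0 := by positivity
      exact this h

end Groth.Agent.Helper6.LogPoly
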