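import Mathlib
import Groth.Agent.Lib.Helper6.LamEigen
import Groth.Agent.Lib.Helper6.LogPoly

/-!
# `log u` is an eigenvector of `Ψ^j` on `ℚ ⊗ K` for a line element `u`.
-/

set_option autoImplicit false
universe u

namespace Groth.Agent.Helper6.LamLog

open TensorProduct LambdaRing Finset Polynomial
open Groth.Agent.Helper5.Lam Groth.Agent.Helper6.LamGam Groth.Agent.Helper6.LamDet
open Groth.Agent.Helper6.LamEigen Groth.Agent.Helper6.LogPoly

section phi

variable {K : Type u} [CommRing K]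

/-- "evaluation" `ℚ[X] → ℚ ⊗ K`, `X^n ↦ 1 ⊗ x^n`, as a `ℚ`-linear map. -/
noncomputable def phi (x : K) : ℚ[X] →ₗ[ℚ] ℚ ⊗[ℤ] K :=
  Polynomial.lsum fun n => LinearMap.toSpanSingleton ℚ (ℚ ⊗[ℤ] K) ((1 : ℚ) ⊗ₜ[ℤ] (x ^ n))

theorem phi_monomial (x : K) (n : ℕ) (a : ℚ) : phi x (monomial n a) = a ⊗ₜ[ℤ] (x ^ n) := by
  unfold phi
  rw [Polynomial.lsum_apply, Polynomial.sum_monomial_index _ _ (by simp)]
  rw [LinearMap.toSpanSingleton_apply, TensorProduct.smul_tmul', smul_eq_mul, mul_one]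

theorem phi_C_mul_map (x : K) (q : ℚ) (g : ℤ[X]) :
    phi x (C q * g.map (Int.castRingHom ℚ)) = q ⊗ₜ[ℤ] (aeval x g) := by
  induction g using Polynomial.induction_on' with
  | add p r hp hr =>
    rw [Polynomial.map_add, mul_add, map_add, hp, hr, map_add, TensorProduct.tmul_add]
  | monomial n a =>
    rw [Polynomial.map_monomial, C_mul_monomial, phi_monomial, aeval_monomial]
    have h1 : q * (Int.castRingHom ℚ) a = a • q := by simp [mul_comm]
    have h2 : (algebraMap ℤ K) a * x ^ n = a • x ^ n := by simp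
    rw [h1, h2, TensorProduct.smul_tmul]

theorem phi_eq_zero (x : K) (N : ℕ) (hx : x ^ N = 0) (p : ℚ[X]) (hp : X ^ N ∣ p) :
    phi x p = 0 := by
  unfold phi
  rw [Polynomial.lsum_apply, Polynomial.sum_def]
  refine Finset.sum_eq_zero fun i _ => ?_
  rw [LinearMap.toSpanSingleton_apply]
  by_cases hi : i < N
  · rw [X_pow_dvd_iff] at hp
    rw [hp i hi, zero_smul]
  · have : x ^ i = 0 := by
      have : i = N + (i - N) := by omega
      rw [this, pow_add, hx, zero_mul]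
    rw [this, TensorProduct.tmul_zero, smul_zero]

end phi

variable {K : Type u} [CommRing K] [LambdaOps K] (P : PosStructure K)

theorem log_eigen (hK : HasSplitting K P) (d : ℕ)
    (hd : gammaFiltration P (d + 1) = ⊥)
    (j : ℕ) (Ψ : ℚ ⊗[ℤ] K →ₗ[ℚ] ℚ ⊗[ℤ] K)
    (hΨ : ∀ x : K, Ψ (1 ⊗ₜ[ℤ] x) = 1 ⊗ₜ[ℤ] adams P j x)
    (u : K) (hu : P.IsLine u) :
    (∑ n ∈ range (d + 1), ((-1 : ℚ) ^ n / ((n : ℚ) + 1)) ⊗ₜ[ℤ] ((u - 1) ^ (n + 1))) ∈
        Module.End.eigenspace Ψ (j : ℚ) ∧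
      (∑ n ∈ range (d + 1), ((-1 : ℚ) ^ n / ((n : ℚ) + 1)) ⊗ₜ[ℤ] ((u - 1) ^ (n + 1))) -
          (1 : ℚ) ⊗ₜ[ℤ] (u - 1) ∈ QF P 2 := by
  obtain ⟨C', hKC, hC⟩ := hK
  set x : K := u - 1 with hx
  have hx1 : x ∈ gammaFiltration P 1 := by
    apply mem_filt_one_of_aug
    rw [hx, map_sub, hu.2, map_one, sub_self]
  have hpow : ∀ k, x ^ k ∈ gammaFiltration P k := by
    intro k
    have := pow_mem_filt P hx1 k
    rwa [one_mul] at this
  have hx0 : x ^ (d + 2) = 0 := by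
    have h1 : x ^ (d + 1) = 0 := by
      have := hpow (d + 1)
      rw [hd] at this
      exact this
    rw [pow_succ, h1, zero_mul]
  constructor
  · rw [Module.End.mem_eigenspace_iff]
    -- both sides as values of `phi x`
    have hL : (∑ n ∈ range (d + 1), ((-1 : ℚ) ^ n / ((n : ℚ) + 1)) ⊗ₜ[ℤ] (x ^ (n + 1))) =
        phi x (ell d X) := by
      unfold ell
      rw [map_sum]
      refine sum_congr rfl fun n _ => ?_
      have := phi_C_mul_map x ((-1 : ℚ) ^ n / ((n : ℚ) + 1)) ((X : ℤ[X]) ^ (n + 1))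
      rw [Polynomial.map_pow, Polynomial.map_X, map_pow, aeval_X] at this
      exact this.symm
    have hadams : ∀ n : ℕ, adams P j (x ^ (n + 1)) =
        aeval x ((((1 : ℤ[X]) + X) ^ j - 1) ^ (n + 1)) := by
      intro n
      have h1 : adams P j (x ^ (n + 1)) = (adams P j x) ^ (n + 1) :=
        map_pow (adamsRingHom hC (⟨K, P⟩ : PosLambdaRing) hKC j) x (n + 1)
      have h2 : adams P j x = u ^ j - 1 := by
        rw [hx, adams_sub, adams_line P hu, adams_one]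
      rw [h1, h2, map_pow, map_sub, map_pow, map_add, map_one, aeval_X, hx]
      congr 2
      ring
    have hR : Ψ (∑ n ∈ range (d + 1), ((-1 : ℚ) ^ n / ((n : ℚ) + 1)) ⊗ₜ[ℤ] (x ^ (n + 1))) =
        phi x (ell d ((1 + X) ^ j - 1)) := by
      unfold ell
      rw [map_sum, map_sum]
      refine sum_congr rfl fun n _ => ?_
      rw [tmul_eq_smul, map_smul, hΨ, ← tmul_eq_smul, hadams]
      have := phi_C_mul_map x ((-1 : ℚ) ^ n / ((n : ℚ) + 1))
        ((((1 : ℤ[X]) + X) ^ j - 1) ^ (n + 1))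
      rw [← this]
      congr 2
      simp
    rw [hR, hL, ← map_smul, ← sub_eq_zero, ← map_sub]
    apply phi_eq_zero x (d + 2) hx0
    have := key d j
    rwa [← smul_eq_C_mul] at this
  · rw [Finset.sum_range_succ']
    have h0 : ((-1 : ℚ) ^ 0 / (((0 : ℕ) : ℚ) + 1)) ⊗ₜ[ℤ] (x ^ (0 + 1)) = (1 : ℚ) ⊗ₜ[ℤ] x := by
      simp
    rw [h0, add_sub_cancel_right]
    refine Submodule.sum_mem _ fun n _ => ?_
    refine tmul_mem P _ ?_
    exact filt_anti P (by omega) (hpow (n + 1 + 1))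

end Groth.Agent.Helper6.LamLog
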