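import Mathlib
import Groth.Agent.Lib.Helper6.LamGam4

/-!
# `λ_{-1}(q) = (-1)^d γ^d(q - d)` and push-forwards with the projection formula
-/

set_option autoImplicit false
universe u

namespace Groth.Agent.Helper6.LamPush

open LambdaRing Finset
open Groth.Agent.Helper5.Lam Groth.Agent.Helper6.LamBott Groth.Agent.Helper6.LamGam

section Class

variable {C : Set PosLambdaRing.{u}} (hC : SplitClass C) (L : PosLambdaRing.{u}) (hL : L ∈ C)

include hC hL in
theorem lamAlt_eq_gamma (q : L.carrier) (hq : q ∈ L.posStr.pos) (d : ℕ)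
    (hd : L.posStr.aug q = d) :
    ∑ i ∈ range (d + 1), (-1 : L.carrier) ^ i * LambdaOps.lam i q =
      (-1) ^ d * gamma d (q - (d : L.carrier)) := by
  obtain ⟨L', hL', φ, hφ, s, hs, hsum⟩ := hC L hL q hq
  apply hφ.injective
  have hcard : Multiset.card s = d := by
    have := aug_lines L'.posStr s hs
    rw [hsum, hφ.aug_comp, hd] at this
    exact_mod_cast this.symm
  subst hcard
  have h1 : φ (∑ i ∈ range (Multiset.card s + 1), (-1 : L.carrier) ^ i * LambdaOps.lam i q) =
      (s.map fun u => 1 - u).prod := by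
    rw [map_sum, ← sum_neg_esymm]
    refine sum_congr rfl fun i _ => ?_
    rw [map_mul, map_pow, map_neg, map_one, hφ.isLambdaHom, ← hsum, lam_lines _ s hs]
  have h2 : φ ((-1) ^ (Multiset.card s) *
      gamma (Multiset.card s) (q - ((Multiset.card s : ℕ) : L.carrier))) =
      (-1) ^ (Multiset.card s) * (s.map fun v => v - 1).prod := by
    rw [map_mul, map_pow, map_neg, map_one, map_gamma hφ.isLambdaHom, map_sub, map_natCast, ← hsum,
      gamma_lines _ s hs]
    congr 1
    have hc : Multiset.card (s.map fun v => v - 1) = Multiset.card s := Multiset.card_map _ _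
    rw [← hc]
    unfold Multiset.esymm
    rw [Multiset.powersetCard_self]
    simp
  rw [h1, h2]
  have h3 : (s.map fun u => 1 - u) = (s.map fun v => v - 1).map Neg.neg := by
    rw [Multiset.map_map]
    refine Multiset.map_congr rfl fun v _ => ?_
    simp
  rw [h3, Multiset.prod_map_neg, Multiset.card_map]

end Class

section Push

variable {KY KX : Type u} [CommRing KY] [LambdaOps KY] [CommRing KX] [LambdaOps KX]
  (PY : PosStructure KY) (PX : PosStructure KX)

theorem exists_lift_of_mem_filt (g : KY →+* KX) (hg : IsLambdaHom g)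
    (hgaug : ∀ y : KY, PX.aug (g y) = PY.aug y) (hgsurj : Function.Surjective g)
    (m : ℕ) (x : KX) (hx : x ∈ gammaFiltration PX m) :
    ∃ y ∈ gammaFiltration PY m, g y = x := by
  by_cases hm : m = 0
  · subst hm
    obtain ⟨y, rfl⟩ := hgsurj x
    exact ⟨y, by rw [Groth.Agent.S3291.filt_zero]; trivial, rfl⟩
  · rw [Groth.Agent.S3291.filt_pos PX m hm] at hx
    induction hx using AddSubgroup.closure_induction with
    | mem z hz =>
      obtain ⟨l, hl, hsum, rfl⟩ := hz
      let l' : List (ℕ × KY) := l.map fun p => (p.1, Classical.choose (hgsurj p.2))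
      have hl'g : ∀ p : ℕ × KX, g (Classical.choose (hgsurj p.2)) = p.2 := fun p =>
        Classical.choose_spec (hgsurj p.2)
      refine ⟨(l'.map fun p => gamma p.1 p.2).prod, ?_, ?_⟩
      · rw [Groth.Agent.S3291.filt_pos PY m hm]
        apply AddSubgroup.subset_closure
        refine ⟨l', ?_, ?_, rfl⟩
        · intro p hp
          obtain ⟨p0, hp0, rfl⟩ := List.mem_map.mp hp
          show PY.aug (Classical.choose (hgsurj p0.2)) = 0
          rw [← hgaug, hl'g]
          exact hl p0 hp0
        · have : (l'.map Prod.fst) = l.map Prod.fst := by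
            rw [List.map_map]; rfl
          rw [this]; exact hsum
      · rw [map_list_prod, List.map_map, List.map_map]
        congr 1
        refine List.map_congr_left fun p _ => ?_
        show g (gamma p.1 (Classical.choose (hgsurj p.2))) = gamma p.1 p.2
        rw [map_gamma hg, hl'g]
    | zero => exact ⟨0, zero_mem _, map_zero g⟩
    | add a b _ _ ha hb =>
      obtain ⟨ya, hya, rfl⟩ := ha
      obtain ⟨yb, hyb, rfl⟩ := hb
      exact ⟨ya + yb, add_mem hya hyb, map_add g _ _⟩
    | neg a _ ha =>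
      obtain ⟨ya, hya, rfl⟩ := ha
      exact ⟨-ya, neg_mem hya, map_neg g _⟩

theorem push_mem (hY : HasSplitting KY PY)
    (g : KY →+* KX) (hg : IsLambdaHom g) (hgaug : ∀ y : KY, PX.aug (g y) = PY.aug y)
    (hgsurj : Function.Surjective g)
    (p : KX →+ KY) (hproj : ∀ (y : KY) (x : KX), p (g y * x) = y * p x)
    (q : KY) (hq : q ∈ PY.pos)
    (hp1 : p 1 = ∑ i ∈ range ((PY.aug q).toNat + 1), (-1 : KY) ^ i * LambdaOps.lam i q)
    (m : ℕ) (x : KX) (hx : x ∈ gammaFiltration PX m) :
    p x ∈ gammaFiltration PY (m + (PY.aug q).toNat) := by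
  obtain ⟨C, hKC, hC⟩ := hY
  obtain ⟨y, hy, rfl⟩ := exists_lift_of_mem_filt PY PX g hg hgaug hgsurj m x hx
  have hd : PY.aug q = ((PY.aug q).toNat : ℤ) := (Int.toNat_of_nonneg (PY.aug_pos q hq).le).symm
  have h1 := lamAlt_eq_gamma hC ⟨KY, PY⟩ hKC q hq (PY.aug q).toNat hd
  have h2 : p (g y) = y * p 1 := by
    have := hproj y 1
    rwa [mul_one] at this
  rw [h2, hp1]
  have h3 : ∑ i ∈ range ((PY.aug q).toNat + 1), (-1 : KY) ^ i * LambdaOps.lam i q ∈
      gammaFiltration PY (PY.aug q).toNat := by
    rw [show (∑ i ∈ range ((PY.aug q).toNat + 1), (-1 : KY) ^ i * LambdaOps.lam i q) = _ from h1]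
    apply smul_mem_filt
    apply gamma_mem
    rw [map_sub, map_natCast, ← hd, sub_self]
  exact mul_mem_filt PY hy h3

end Push

end Groth.Agent.Helper6.LamPush
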