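import Mathlib
import Groth.Agent.Lib.Helper6.LamExt
import Groth.Agent.Lib.Helper6.LamBott

/-!
# Augmentations of `σ^j(e)`
-/

set_option autoImplicit false
universe u

namespace Groth.Agent.Helper6.LamSigma

open LambdaRing Finset
open Groth.Agent.Helper5.Lam Groth.Agent.Helper6.LamBott Groth.Agent.Helper6.LamExt
open fwdDiff

theorem comb_id (r : ℕ) :
    ∑ i ∈ range (r + 1), ((-1 : ℤ) ^ (r - i) * (r.choose i : ℤ)) * ((r + i).choose i : ℤ) = 1 := by
  have h1 := fwdDiff_iter_eq_sum_shift (1 : ℕ) (fun x : ℕ => ((x + r).choose r : ℤ)) r 0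
  have h2 := fwdDiff_iter_comp_add (1 : ℕ) (fun x : ℕ => (x.choose r : ℤ)) r r 0
  have h3 := fwdDiff_iter_choose 0 r
  rw [add_zero] at h3
  rw [h3] at h2
  simp only [Nat.choose_zero_right, Nat.cast_one] at h2
  rw [h2] at h1
  refine (sum_congr rfl fun i _ => ?_).trans h1.symm
  rw [zero_add, smul_eq_mul, smul_eq_mul, mul_one, add_comm i r, Nat.choose_symm_add]

section Class

variable {C : Set PosLambdaRing.{u}} (hC : SplitClass C) (L : PosLambdaRing.{u}) (hL : L ∈ C)

include hC hL in
theorem map_aug_lamSeries (e : L.carrier) (he : e ∈ L.posStr.pos) (m : ℕ)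
    (hm : L.posStr.aug e = m) :
    PowerSeries.map L.posStr.aug (lamSeries e) = (1 + PowerSeries.X) ^ m := by
  obtain ⟨L', hL', φ, hφ, s, hs, hsum⟩ := hC L hL e he
  have hcard : Multiset.card s = m := by
    have := aug_lines L'.posStr s hs
    rw [hsum, hφ.aug_comp, hm] at this
    exact_mod_cast this.symm
  have h1 : PowerSeries.map L.posStr.aug (lamSeries e) =
      PowerSeries.map L'.posStr.aug (PowerSeries.map φ (lamSeries e)) := by
    ext i
    simp only [PowerSeries.coeff_map]
    exact (hφ.aug_comp _).symm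
  rw [h1, map_lamSeries hφ.isLambdaHom, ← hsum, lamSeries_lines _ s hs, map_multiset_prod,
    Multiset.map_map]
  have : ∀ v ∈ s, ((PowerSeries.map L'.posStr.aug) ∘
      fun v => 1 + PowerSeries.C v * PowerSeries.X) v = (1 + PowerSeries.X : PowerSeries ℤ) := by
    intro v hv
    simp only [Function.comp_apply, map_add, map_one, map_mul, PowerSeries.map_C, PowerSeries.map_X,
      (hs v hv).2]
    simp
  rw [Multiset.map_congr rfl this, Multiset.map_const', Multiset.prod_replicate, hcard]

include hC hL in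
theorem map_aug_negLam (e : L.carrier) (he : e ∈ L.posStr.pos) (m : ℕ)
    (hm : L.posStr.aug e = m) :
    PowerSeries.map L.posStr.aug (negLam e) = (1 - PowerSeries.X) ^ m := by
  rw [negLam, ← PowerSeries.rescale_map, map_aug_lamSeries hC L hL e he m hm]
  simp only [map_neg, map_one, map_pow, map_add, PowerSeries.rescale_X]
  congr 1
  ring

include hC hL in
theorem aug_sigma (e : L.carrier) (he : e ∈ L.posStr.pos) (r : ℕ)
    (hr : L.posStr.aug e = r + 1) (j : ℕ) :
    L.posStr.aug (KRR.sigma j e) = ((r + j).choose j : ℤ) := by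
  have hA := map_aug_negLam hC L hL e he (r + 1) (by exact_mod_cast hr)
  have hAB : PowerSeries.map L.posStr.aug (negLam e) *
      PowerSeries.map L.posStr.aug (negLamInv e) = 1 := by
    rw [← map_mul, negLam_mul_inv, map_one]
  rw [hA] at hAB
  have hM : (PowerSeries.mk 1 : PowerSeries ℤ) ^ (r + 1) * (1 - PowerSeries.X) ^ (r + 1) = 1 := by
    rw [← mul_pow, PowerSeries.mk_one_mul_one_sub_eq_one, one_pow]
  have hB : PowerSeries.map L.posStr.aug (negLamInv e) = (PowerSeries.mk 1) ^ (r + 1) := by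
    calc PowerSeries.map L.posStr.aug (negLamInv e)
        = ((PowerSeries.mk 1) ^ (r + 1) * (1 - PowerSeries.X) ^ (r + 1)) *
            PowerSeries.map L.posStr.aug (negLamInv e) := by rw [hM, one_mul]
      _ = (PowerSeries.mk 1) ^ (r + 1) * ((1 - PowerSeries.X) ^ (r + 1) *
            PowerSeries.map L.posStr.aug (negLamInv e)) := by ring
      _ = _ := by rw [hAB, mul_one]
  have := congrArg (PowerSeries.coeff j) hB
  rw [PowerSeries.coeff_map, PowerSeries.mk_one_pow_eq_mk_choose_add, PowerSeries.coeff_mk] at this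
  rw [sigma_eq, this, Nat.choose_symm_add]

include hC hL in
theorem aug_functional (e : L.carrier) (he : e ∈ L.posStr.pos) (r : ℕ)
    (hr : L.posStr.aug e = r + 1)
    (f : AdjoinRoot (KRR.extPoly L.posStr e) →ₗ[L.carrier] L.carrier)
    (hf : ∀ i : ℕ, i ≤ r → f (AdjoinRoot.root (KRR.extPoly L.posStr e) ^ i) = KRR.sigma i e) :
    L.posStr.aug (f ((AdjoinRoot.root (KRR.extPoly L.posStr e) - 1) ^ r)) = 1 := by
  set l := AdjoinRoot.root (KRR.extPoly L.posStr e) with hl
  have h1 : (l - 1) ^ r = ∑ i ∈ range (r + 1),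
      (((-1 : ℤ) ^ (r - i) * (r.choose i : ℤ)) : ℤ) • l ^ i := by
    rw [sub_eq_add_neg, add_pow]
    refine sum_congr rfl fun i _ => ?_
    rw [zsmul_eq_mul]
    push_cast
    ring
  rw [h1, map_sum, map_sum]
  refine (sum_congr rfl fun i hi => ?_).trans (comb_id r)
  rw [mem_range] at hi
  rw [map_zsmul, hf i (by omega), zsmul_eq_mul, map_mul, map_intCast,
    aug_sigma hC L hL e he r hr i]
  simp

end Class

end Groth.Agent.Helper6.LamSigma
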