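import Mathlib
import Groth.Prelude.Def_LCI2
import Groth.Prelude.Def_ega3
import Groth.Agent.Lib.Helper6.LciBCB
import Groth.Agent.Lib.Helper6.KRCotC
import Groth.Agent.Lib.Helper28.GorLink
import Groth.Agent.Lib.Helper3.AssFlat

/-!
# `H¹` of the naive cotangent complex of a flat lci algebra with generically smooth fibres

Over a Noetherian base `A`, a flat lci algebra `P` all of whose fibres are generically smooth has
`H₁(NL_{P/A}) = 0`.
-/

set_option autoImplicit false
set_option linter.style.haveILetI false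
set_option linter.unusedSectionVars false
universe u

namespace Groth.Agent.Helper6.LciBC

open TensorProduct

/-- The fibres of a flat local complete intersection algebra are Gorenstein (`κ` on the left). -/
theorem isGorensteinRing_fibre' (A B : Type u) [CommRing A] [CommRing B] [Algebra A B]
    [Module.Flat A B] (hl : LCI.IsLCI A B) (κ : Type u) [Field κ] [Algebra A κ] :
    LocCoh.IsGorensteinRing (κ ⊗[A] B) :=
  Groth.Agent.Helper12.LciGor.isGorensteinRing_of_isLCI κ (κ ⊗[A] B)
    (Groth.Agent.Helper12.GorFib.isGorensteinRing_of_isRegularRing κ)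
    (isLCI_baseChange A B hl κ)

section AssGeneral

variable {A : Type u} [CommRing A] [IsNoetherianRing A]

/-- an element killed near every associated prime vanishes. -/
theorem eq_zero_of_forall_ass (a : A)
    (h : ∀ Q : Ideal A, Q ∈ associatedPrimes A A → ∃ s : A, s ∉ Q ∧ s * a = 0) : a = 0 := by
  by_contra ha
  obtain ⟨Q, hQ, hle⟩ := exists_le_isAssociatedPrime_of_isNoetherianRing A a ha
  obtain ⟨s, hs, hsa⟩ := h Q hQ
  apply hs
  apply hle
  rw [Submodule.mem_colon_singleton, Submodule.mem_bot]
  simpa [smul_eq_mul] using hsa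

/-- module-level version for projective modules. -/
theorem eq_zero_of_forall_ass_module
    {N : Type u} [AddCommGroup N] [Module A N] [Module.Projective A N]
    (y : N) (h : ∀ Q : Ideal A, Q ∈ associatedPrimes A A → ∃ s : A, s ∉ Q ∧ s • y = 0) :
    y = 0 := by
  obtain ⟨σ, hσ⟩ := Module.projective_def'.mp (inferInstance : Module.Projective A N)
  have h0 : σ y = 0 := by
    ext m
    refine eq_zero_of_forall_ass _ (fun p hp => ?_)
    obtain ⟨s, hs, hsy⟩ := h p hp
    refine ⟨s, hs, ?_⟩
    have h1 : σ (s • y) = 0 := by rw [hsy, map_zero]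
    rw [map_smul] at h1
    have h2 := DFunLike.congr_fun h1 m
    simpa [smul_eq_mul] using h2
  have h3 := LinearMap.congr_fun hσ y
  simp only [LinearMap.comp_apply, h0, map_zero, LinearMap.id_apply] at h3
  exact h3.symm

theorem mem_ass_iff {M : Type*} [AddCommGroup M] [Module A M]
    {I : Ideal A} :
    I ∈ associatedPrimes A M ↔ I.IsPrime ∧ ∃ x : M, ∀ r, r ∈ I ↔ r • x = 0 := by
  rw [AssociatedPrimes.mem_iff, isAssociatedPrime_iff]
  constructor
  · rintro ⟨h, x, rfl⟩
    exact ⟨h, x, fun r => by rw [Submodule.mem_colon_singleton, Submodule.mem_bot]⟩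
  · rintro ⟨h, x, hx⟩
    refine ⟨h, x, ?_⟩
    ext r
    rw [hx, Submodule.mem_colon_singleton, Submodule.mem_bot]

theorem le_of_mem_ass_quot {I Q : Ideal A}
    (hQ : Q ∈ associatedPrimes A (A ⧸ I)) : I ≤ Q := by
  have h := IsAssociatedPrime.annihilator_le hQ
  rwa [Submodule.annihilator_top, Ideal.annihilator_quotient] at h

end AssGeneral

section Flat

variable {A P : Type u} [CommRing A] [CommRing P] [Algebra A P] [Module.Flat A P]

/-- associated primes of `P/pP` lie over `p` (as in helper7's `FibEmb`). -/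
theorem comap_eq_of_mem_ass [IsNoetherianRing P] (p : Ideal A) [p.IsPrime] {Q : Ideal P}
    (hQ : Q ∈ associatedPrimes P (P ⧸ p.map (algebraMap A P))) :
    Q.comap (algebraMap A P) = p := by
  have hle := le_of_mem_ass_quot hQ
  obtain ⟨hprime, x, hx⟩ := mem_ass_iff.mp hQ
  apply le_antisymm
  · intro a ha
    by_contra hap
    rw [Ideal.mem_comap, hx] at ha
    haveI : Module.Flat (A ⧸ p) (P ⧸ p.map (algebraMap A P)) :=
      Module.Flat.of_linearEquiv
        (Algebra.TensorProduct.quotIdealMapEquivQuotTensor P p).toLinearEquiv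
    have hne : (Ideal.Quotient.mk p a) ≠ 0 := fun h => hap (Ideal.Quotient.eq_zero_iff_mem.mp h)
    have h1 : IsSMulRegular (P ⧸ p.map (algebraMap A P)) (Ideal.Quotient.mk p a) :=
      Module.Flat.isSMulRegular_of_nonZeroDivisors (mem_nonZeroDivisors_of_ne_zero hne)
    have h2 : x = 0 := by
      apply h1
      show (Ideal.Quotient.mk p a) • x = (Ideal.Quotient.mk p a) • 0
      rw [smul_zero]
      obtain ⟨b, rfl⟩ := Ideal.Quotient.mk_surjective x
      rw [← ha, Ideal.Quotient.mk_smul_mk_quotient_map_quotient]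
      rfl
    apply hprime.ne_top
    rw [Ideal.eq_top_iff_one, hx, h2, smul_zero]
  · intro a ha
    exact hle (Ideal.mem_map_of_mem _ ha)

theorem ass_self_subset [IsNoetherianRing A] :
    associatedPrimes P P ⊆
      ⋃ p ∈ associatedPrimes A A, associatedPrimes P (P ⧸ p.map (algebraMap A P)) := by
  rw [← LinearEquiv.AssociatedPrimes.eq (TensorProduct.AlgebraTensorModule.rid A P P),
    Groth.Agent.Helper3.AssFlat.s2069 (R := A) (S := P) (N := P) (M := A)]
  intro Q hQ
  simp only [Set.mem_iUnion] at hQ ⊢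
  obtain ⟨p, hp, hQ⟩ := hQ
  refine ⟨p, hp, ?_⟩
  have heq : (p.map (algebraMap A P) • (⊤ : Submodule P P)) = p.map (algebraMap A P) := by
    rw [smul_eq_mul, Ideal.mul_top]
  rwa [LinearEquiv.AssociatedPrimes.eq (Submodule.quotEquivOfEq _ _ heq)] at hQ

/-- If the fibre over `p` is Gorenstein, an associated prime of `P/pP` is minimal among the primes
of `P` lying over `p`. -/
theorem eq_of_le_of_mem_ass [IsNoetherianRing P] (p : Ideal A) [p.IsPrime]
    (hG : LocCoh.IsGorensteinRing (p.Fiber P))
    {Q : Ideal P} (hQ : Q ∈ associatedPrimes P (P ⧸ p.map (algebraMap A P)))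
    (Q₂ : Ideal P) [hQ₂ : Q₂.IsPrime] (hle : Q₂ ≤ Q) (hc : Q₂.comap (algebraMap A P) = p) :
    Q₂ = Q := by
  have hQp : Q.IsPrime := hQ.1
  have hQc : Q.comap (algebraMap A P) = p := comap_eq_of_mem_ass p hQ
  have hdisj : ∀ (I : Ideal P), I.comap (algebraMap A P) = p →
      Disjoint ((Algebra.algebraMapSubmonoid P p.primeCompl : Submonoid P) : Set P) (I : Set P) := by
    intro I hI
    rw [Set.disjoint_left]
    rintro _ ⟨a, ha, rfl⟩ hx
    apply ha
    rw [← hI]
    exact hx
  have hG' : LocCoh.IsGorensteinRing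
      (Localization (Algebra.algebraMapSubmonoid P p.primeCompl) ⧸
        (p.map (algebraMap A P)).map
          (algebraMap P (Localization (Algebra.algebraMapSubmonoid P p.primeCompl)))) :=
    letI : Algebra P (p.Fiber P) := Algebra.TensorProduct.rightAlgebra
    Groth.Agent.Helper12.GorField.isGorensteinRing_of_ringEquiv
      (AlgEquiv.toRingEquiv (Ideal.Fiber.algEquivAux₁ (S := P) p)) hG
  have hCM : ∀ (q : Ideal (Localization (Algebra.algebraMapSubmonoid P p.primeCompl) ⧸
        (p.map (algebraMap A P)).map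
          (algebraMap P (Localization (Algebra.algebraMapSubmonoid P p.primeCompl)))))
      [q.IsPrime], LocCoh.IsCohenMacaulayLocalRing (Localization.AtPrime q) := by
    intro q _
    haveI := hG'
    exact Groth.Agent.Helper28.GorLink.isCM_of_isGorensteinRing _ q
  haveI : IsNoetherianRing (Localization (Algebra.algebraMapSubmonoid P p.primeCompl)) :=
    IsLocalization.isNoetherianRing (Algebra.algebraMapSubmonoid P p.primeCompl) _ inferInstance
  have hQ'c : (Q.map (algebraMap P (Localization (Algebra.algebraMapSubmonoid P p.primeCompl)))).comap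
      (algebraMap P (Localization (Algebra.algebraMapSubmonoid P p.primeCompl))) = Q :=
    IsLocalization.under_map_of_isPrime_disjoint (Algebra.algebraMapSubmonoid P p.primeCompl) _
      hQp (hdisj Q hQc)
  have hQ' : Q.map (algebraMap P (Localization (Algebra.algebraMapSubmonoid P p.primeCompl))) ∈
      associatedPrimes (Localization (Algebra.algebraMapSubmonoid P p.primeCompl))
        (Localization (Algebra.algebraMapSubmonoid P p.primeCompl) ⧸
          (p.map (algebraMap A P)).map
            (algebraMap P (Localization (Algebra.algebraMapSubmonoid P p.primeCompl)))) := by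
    haveI : IsLocalizedModule (Algebra.algebraMapSubmonoid P p.primeCompl)
        (IsScalarTower.toAlgHom P (P ⧸ p.map (algebraMap A P))
          (Localization (Algebra.algebraMapSubmonoid P p.primeCompl) ⧸
            (p.map (algebraMap A P)).map
              (algebraMap P (Localization (Algebra.algebraMapSubmonoid P p.primeCompl))))).toLinearMap :=
      isLocalizedModule_iff_isLocalization.mpr inferInstance
    apply Module.associatedPrimes.mem_associatedPrimes_of_comap_mem_associatedPrimes_of_isLocalizedModule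
      (Algebra.algebraMapSubmonoid P p.primeCompl)
      (IsScalarTower.toAlgHom P (P ⧸ p.map (algebraMap A P))
          (Localization (Algebra.algebraMapSubmonoid P p.primeCompl) ⧸
            (p.map (algebraMap A P)).map
              (algebraMap P (Localization (Algebra.algebraMapSubmonoid P p.primeCompl))))).toLinearMap
    rw [hQ'c]
    exact hQ
  have hmin := Groth.Agent.Helper28.GorLink.mem_minimalPrimes_of_mem_associatedPrimes _ _ hCM _ hQ'
  have hQ₂prime : (Q₂.map
      (algebraMap P (Localization (Algebra.algebraMapSubmonoid P p.primeCompl)))).IsPrime :=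
    IsLocalization.isPrime_of_isPrime_disjoint (Algebra.algebraMapSubmonoid P p.primeCompl) _ Q₂
      hQ₂ (hdisj Q₂ hc)
  have hQ₂c : (Q₂.map
      (algebraMap P (Localization (Algebra.algebraMapSubmonoid P p.primeCompl)))).comap
      (algebraMap P (Localization (Algebra.algebraMapSubmonoid P p.primeCompl))) = Q₂ :=
    IsLocalization.under_map_of_isPrime_disjoint (Algebra.algebraMapSubmonoid P p.primeCompl) _
      hQ₂ (hdisj Q₂ hc)
  have hpQ₂ : p.map (algebraMap A P) ≤ Q₂ := by
    rw [Ideal.map_le_iff_le_comap, hc]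
  have h1 := hmin.2 ⟨hQ₂prime, Ideal.map_mono hpQ₂⟩ (Ideal.map_mono hle)
  have heq : Q₂.map (algebraMap P (Localization (Algebra.algebraMapSubmonoid P p.primeCompl))) =
      Q.map (algebraMap P (Localization (Algebra.algebraMapSubmonoid P p.primeCompl))) :=
    le_antisymm (Ideal.map_mono hle) h1
  rw [← hQ₂c, heq, hQ'c]

end Flat

section Main

variable (A : Type u) [CommRing A] [IsNoetherianRing A]
  (P : Type u) [CommRing P] [Algebra A P] [Module.Flat A P]

theorem mem_smoothLocus_of_mem_ass (hlci : LCI.IsLCI A P)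
    (hgs : ∀ 𝔓 : PrimeSpectrum P,
      (∀ 𝔔 : PrimeSpectrum P, 𝔔 ≤ 𝔓 →
          𝔔.asIdeal.comap (algebraMap A P) = 𝔓.asIdeal.comap (algebraMap A P) → 𝔔 = 𝔓) →
        𝔓 ∈ Algebra.smoothLocus A P)
    (Q : Ideal P) [hQp : Q.IsPrime] (hQ : Q ∈ associatedPrimes P P) :
    (⟨Q, hQp⟩ : PrimeSpectrum P) ∈ Algebra.smoothLocus A P := by
  haveI : Algebra.FiniteType A P := hlci.1
  haveI : IsNoetherianRing P := Algebra.FiniteType.isNoetherianRing A P
  obtain ⟨p, hp, hQ'⟩ : ∃ p ∈ associatedPrimes A A,
      Q ∈ associatedPrimes P (P ⧸ p.map (algebraMap A P)) := by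
    have := ass_self_subset (A := A) (P := P) hQ
    simpa only [Set.mem_iUnion, exists_prop] using this
  haveI : p.IsPrime := hp.1
  have hG : LocCoh.IsGorensteinRing (p.Fiber P) :=
    isGorensteinRing_fibre' A P hlci p.ResidueField
  have hQc : Q.comap (algebraMap A P) = p := comap_eq_of_mem_ass p hQ'
  apply hgs ⟨Q, hQp⟩
  intro 𝔔 hle hc
  have := eq_of_le_of_mem_ass p hG hQ' 𝔔.asIdeal hle (hc.trans hQc)
  exact PrimeSpectrum.ext this

/-- `H₁(NL_{P/A}) = 0` for a flat lci algebra with generically smooth fibres over a Noetherian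
ring. -/
theorem h1_subsingleton_of_flat (hlci : LCI.IsLCI A P)
    (hgs : ∀ 𝔓 : PrimeSpectrum P,
      (∀ 𝔔 : PrimeSpectrum P, 𝔔 ≤ 𝔓 →
          𝔔.asIdeal.comap (algebraMap A P) = 𝔓.asIdeal.comap (algebraMap A P) → 𝔔 = 𝔓) →
        𝔓 ∈ Algebra.smoothLocus A P) :
    Subsingleton (Algebra.H1Cotangent A P) := by
  obtain ⟨hft, n, f, hf, hker⟩ := id hlci
  haveI := hft
  haveI : IsNoetherianRing P := Algebra.FiniteType.isNoetherianRing A P
  obtain ⟨hfin, hproj⟩ := Groth.Agent.Helper6.KRCot.gens_cotangent_finite_projective n f hf hker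
  haveI := hproj
  have hloc : ∀ (x : Algebra.H1Cotangent A P) (Q : Ideal P), Q ∈ associatedPrimes P P →
      ∃ s : P, s ∉ Q ∧ s • x = 0 := by
    intro x Q hQ
    haveI hQp : Q.IsPrime := hQ.1
    have hsm := mem_smoothLocus_of_mem_ass A P hlci hgs Q hQ
    rw [Algebra.smoothLocus_eq_compl_support_inter] at hsm
    have hns : (⟨Q, hQp⟩ : PrimeSpectrum P) ∉ Module.support P (Algebra.H1Cotangent A P) := hsm.1
    rw [Module.notMem_support_iff'] at hns
    exact hns x
  refine ⟨fun x x' => ?_⟩
  suffices h : ∀ x : Algebra.H1Cotangent A P, x = 0 by rw [h x, h x']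
  intro x
  have hy : (Algebra.Generators.ofAlgHom f hf).toExtension.h1Cotangentι
      ((Algebra.Generators.ofAlgHom f hf).equivH1Cotangent.symm x) = 0 := by
    refine eq_zero_of_forall_ass_module (A := P) _ (fun p hp => ?_)
    obtain ⟨s, hs, hsx⟩ := hloc x p hp
    refine ⟨s, hs, ?_⟩
    rw [← map_smul, ← map_smul, hsx, map_zero, map_zero]
  have h1 : (Algebra.Generators.ofAlgHom f hf).equivH1Cotangent.symm x = 0 := by
    apply (Algebra.Generators.ofAlgHom f hf).toExtension.h1Cotangentι_injective
    rw [hy, map_zero]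
  exact (LinearEquiv.map_eq_zero_iff _).mp h1

end Main

end Groth.Agent.Helper6.LciBC
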