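import Mathlib
import Groth.Prelude.Def_LCI2
import Groth.Agent.Lib.Helper12.LciGor3
import Groth.Agent.Lib.Helper28.GorLink
import Groth.Agent.Lib.Helper6.KRCotC

/-!
# `H¹` of the cotangent complex of a generically smooth lci algebra over a field vanishes
-/

set_option autoImplicit false
set_option linter.style.haveILetI false
universe u

namespace Groth.Agent.Helper6.LciH1

open Algebra

section Unmixed

variable {A : Type u} [CommRing A] [IsNoetherianRing A]

/-- ring-level: an element killed near every minimal prime vanishes if `Ass ⊆ Min`. -/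
theorem eq_zero_of_forall_minimal
    (hmin : ∀ Q : Ideal A, Q ∈ associatedPrimes A A → Q ∈ minimalPrimes A)
    (a : A) (h : ∀ p : Ideal A, p ∈ minimalPrimes A → ∃ s : A, s ∉ p ∧ s * a = 0) : a = 0 := by
  by_contra ha
  obtain ⟨P, hP, hle⟩ := exists_le_isAssociatedPrime_of_isNoetherianRing A a ha
  obtain ⟨s, hs, hsa⟩ := h P (hmin P hP)
  apply hs
  apply hle
  rw [Submodule.mem_colon_singleton, Submodule.mem_bot]
  simpa [smul_eq_mul] using hsa

/-- module-level version for projective modules. -/
theorem eq_zero_of_forall_minimal_module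
    (hmin : ∀ Q : Ideal A, Q ∈ associatedPrimes A A → Q ∈ minimalPrimes A)
    {N : Type u} [AddCommGroup N] [Module A N] [Module.Projective A N]
    (y : N) (h : ∀ p : Ideal A, p ∈ minimalPrimes A → ∃ s : A, s ∉ p ∧ s • y = 0) : y = 0 := by
  obtain ⟨σ, hσ⟩ := Module.projective_def'.mp (inferInstance : Module.Projective A N)
  have h0 : σ y = 0 := by
    ext m
    refine eq_zero_of_forall_minimal hmin _ (fun p hp => ?_)
    obtain ⟨s, hs, hsy⟩ := h p hp
    refine ⟨s, hs, ?_⟩
    have h1 : σ (s • y) = 0 := by rw [hsy, map_zero]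
    rw [map_smul] at h1
    have h2 := DFunLike.congr_fun h1 m
    simpa [smul_eq_mul] using h2
  have h3 := LinearMap.congr_fun hσ y
  simp only [LinearMap.comp_apply, h0, map_zero, LinearMap.id_apply] at h3
  exact h3.symm

end Unmixed

theorem h1_subsingleton (k : Type u) [Field k] (A : Type u) [CommRing A] [Algebra k A]
    (hlci : LCI.IsLCI k A)
    (hgs : ∀ (p : Ideal A) [p.IsPrime], p ∈ minimalPrimes A →
      Algebra.FormallySmooth k (Localization.AtPrime p)) :
    Subsingleton (Algebra.H1Cotangent k A) := by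
  obtain ⟨hft, n, f, hf, hker⟩ := id hlci
  haveI := hft
  haveI : IsNoetherianRing A := Algebra.FiniteType.isNoetherianRing k A
  have hkG : LocCoh.IsGorensteinRing k :=
    Groth.Agent.Helper12.GorFib.isGorensteinRing_of_isRegularRing k
  haveI hG : LocCoh.IsGorensteinRing A :=
    Groth.Agent.Helper12.LciGor.isGorensteinRing_of_isLCI k A hkG hlci
  have hCM : ∀ (p : Ideal A) [p.IsPrime],
      LocCoh.IsCohenMacaulayLocalRing (Localization.AtPrime p) :=
    fun p _ => Groth.Agent.Helper28.GorLink.isCM_of_isGorensteinRing A p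
  have hmin := Groth.Agent.Helper28.GorLink.mem_minimalPrimes_of_mem_associatedPrimes_self A hCM
  obtain ⟨hfin, hproj⟩ := Groth.Agent.Helper6.KRCot.gens_cotangent_finite_projective n f hf hker
  haveI := hproj
  have hloc : ∀ (x : Algebra.H1Cotangent k A) (p : Ideal A), p ∈ minimalPrimes A →
      ∃ s : A, s ∉ p ∧ s • x = 0 := by
    intro x p hp
    haveI : p.IsPrime := hp.1.1
    haveI := hgs p hp
    haveI : Subsingleton (Algebra.H1Cotangent k (Localization.AtPrime p)) :=
      Algebra.FormallySmooth.subsingleton_h1Cotangent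
    have h0 : Algebra.H1Cotangent.map k k A (Localization.AtPrime p) x = 0 :=
      Subsingleton.elim _ _
    obtain ⟨s, hs⟩ := (IsLocalizedModule.eq_zero_iff p.primeCompl
      (Algebra.H1Cotangent.map k k A (Localization.AtPrime p))).mp h0
    exact ⟨s.1, s.2, hs⟩
  refine ⟨fun x x' => ?_⟩
  suffices h : ∀ x : Algebra.H1Cotangent k A, x = 0 by rw [h x, h x']
  intro x
  have hy : (Algebra.Generators.ofAlgHom f hf).toExtension.h1Cotangentι
      ((Algebra.Generators.ofAlgHom f hf).equivH1Cotangent.symm x) = 0 := by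
    refine eq_zero_of_forall_minimal_module hmin _ (fun p hp => ?_)
    obtain ⟨s, hs, hsx⟩ := hloc x p hp
    refine ⟨s, hs, ?_⟩
    rw [← map_smul, ← map_smul, hsx, map_zero, map_zero]
  have h1 : (Algebra.Generators.ofAlgHom f hf).equivH1Cotangent.symm x = 0 := by
    apply (Algebra.Generators.ofAlgHom f hf).toExtension.h1Cotangentι_injective
    rw [hy, map_zero]
  exact (LinearEquiv.map_eq_zero_iff _).mp h1

end Groth.Agent.Helper6.LciH1
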