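import Mathlib

/-!
# Fibrewise nilpotent finite Lie algebras are nilpotent (helper6)

Zorn argument: a maximal ideal `P` among those modulo which `L` is not nilpotent is prime, and
nilpotency of the fibre at `P` gives a contradiction. Only finiteness of `L` is used.
-/

set_option autoImplicit false
universe u

open scoped TensorProduct

namespace Groth.Agent.Lib.Helper6.LieFibNil

section KL
variable {A : Type u} [CommRing A] (P : Ideal A) [P.IsPrime] {M : Type u} [AddCommGroup M]
  [Module A M]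

/-- kernel of `M → κ(P) ⊗ M` -/
theorem exists_smul_mem_of_tmul_eq_zero (x : M) (hx : (1 : P.ResidueField) ⊗ₜ[A] x = 0) :
    ∃ s : A, s ∉ P ∧ s • x ∈ (P • (⊤ : Submodule A M)) := by
  have h1 : (1 : P.ResidueField) ⊗ₜ[A ⧸ P] ((1 : A ⧸ P) ⊗ₜ[A] x) = 0 := by
    have := congrArg (TensorProduct.AlgebraTensorModule.cancelBaseChange A (A ⧸ P)
      P.ResidueField P.ResidueField M).symm hx
    rw [TensorProduct.AlgebraTensorModule.cancelBaseChange_symm_tmul, map_zero] at this
    exact this
  haveI : IsLocalizedModule (nonZeroDivisors (A ⧸ P))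
      (TensorProduct.mk (A ⧸ P) P.ResidueField ((A ⧸ P) ⊗[A] M) 1) :=
    (isLocalizedModule_iff_isBaseChange (nonZeroDivisors (A ⧸ P)) P.ResidueField _).mpr
      (TensorProduct.isBaseChange (A ⧸ P) ((A ⧸ P) ⊗[A] M) P.ResidueField)
  obtain ⟨⟨d, hd⟩, hds⟩ := (IsLocalizedModule.eq_zero_iff (nonZeroDivisors (A ⧸ P))
    (TensorProduct.mk (A ⧸ P) P.ResidueField ((A ⧸ P) ⊗[A] M) 1)).mp h1
  obtain ⟨s, rfl⟩ := Ideal.Quotient.mk_surjective d
  refine ⟨s, ?_, ?_⟩
  · intro hs
    have h0 : Ideal.Quotient.mk P s = 0 := Ideal.Quotient.eq_zero_iff_mem.mpr hs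
    rw [h0] at hd
    exact zero_notMem_nonZeroDivisors hd
  · have h2 : (Ideal.Quotient.mk P s) • ((1 : A ⧸ P) ⊗ₜ[A] x) = 0 := hds
    rw [TensorProduct.smul_tmul', smul_eq_mul, mul_one] at h2
    have h3 := congrArg (TensorProduct.quotTensorEquivQuotSMul M P) h2
    rw [TensorProduct.quotTensorEquivQuotSMul_mk_tmul, map_zero,
      Submodule.Quotient.mk_eq_zero] at h3
    exact h3

end KL

section Main
variable {A : Type u} [CommRing A] {L : Type u} [LieRing L] [LieAlgebra A L]

theorem lie_mem_smul (I : Ideal A) (j : ℕ) (x : L) {m : L}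
    (hm : m ∈ I • (LieModule.lowerCentralSeries A L L j).toSubmodule) :
    ⁅x, m⁆ ∈ I • (LieModule.lowerCentralSeries A L L (j + 1)).toSubmodule := by
  refine Submodule.smul_induction_on
    (p := fun m => ⁅x, m⁆ ∈ I • (LieModule.lowerCentralSeries A L L (j + 1)).toSubmodule) hm ?_ ?_
  · intro a ha n hn
    rw [lie_smul]
    refine Submodule.smul_mem_smul ha ?_
    rw [LieSubmodule.mem_toSubmodule, LieModule.lowerCentralSeries_succ]
    exact LieSubmodule.lie_mem_lie (LieSubmodule.mem_top x) hn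
  · intro a b ha hb
    rw [lie_add]; exact add_mem ha hb

theorem shift (I : Ideal A) (j : ℕ)
    (h : (LieModule.lowerCentralSeries A L L j).toSubmodule ≤ I • (⊤ : Submodule A L)) (i : ℕ) :
    (LieModule.lowerCentralSeries A L L (j + i)).toSubmodule ≤
      I • (LieModule.lowerCentralSeries A L L i).toSubmodule := by
  induction i with
  | zero =>
    rw [LieModule.lowerCentralSeries_zero, LieSubmodule.top_toSubmodule]; exact h
  | succ i ih =>
    intro y hy
    rw [← add_assoc, LieSubmodule.mem_toSubmodule, LieModule.lowerCentralSeries_succ,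
      ← LieSubmodule.mem_toSubmodule, LieSubmodule.lieIdeal_oper_eq_linear_span'] at hy
    refine Submodule.span_induction
      (p := fun y _ => y ∈ I • (LieModule.lowerCentralSeries A L L (i + 1)).toSubmodule)
      ?_ ?_ ?_ ?_ hy
    · rintro _ ⟨x, -, n, hn, rfl⟩
      exact lie_mem_smul I i x (ih hn)
    · exact zero_mem _
    · intro a b _ _ ha hb; exact add_mem ha hb
    · intro c a _ ha; exact Submodule.smul_mem _ c ha

theorem lcs_fg [Module.Finite A L] (j : ℕ) :
    (LieModule.lowerCentralSeries A L L j).toSubmodule.FG := by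
  induction j with
  | zero =>
    rw [LieModule.lowerCentralSeries_zero, LieSubmodule.top_toSubmodule]; exact Module.Finite.fg_top
  | succ j ih =>
    have e : (LieModule.lowerCentralSeries A L L (j + 1)).toSubmodule =
        Submodule.map₂ (LieAlgebra.ad A L : L →ₗ[A] Module.End A L) ⊤
          (LieModule.lowerCentralSeries A L L j).toSubmodule := by
      rw [LieModule.lowerCentralSeries_succ, LieSubmodule.lieIdeal_oper_eq_linear_span',
        Submodule.map₂_eq_span_image2]
      congr 1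
    rw [e]
    exact Submodule.FG.map₂ _ Module.Finite.fg_top ih

variable (A L) in
/-- nilpotent modulo `I` -/
def NilMod (I : Ideal A) : Prop :=
  ∃ j, (LieModule.lowerCentralSeries A L L j).toSubmodule ≤ I • (⊤ : Submodule A L)

theorem mem_smul_top_of_sSup {c : Set (Ideal A)} (hc : IsChain (· ≤ ·) c) (hne : c.Nonempty)
    {g : L} (hg : g ∈ (sSup c) • (⊤ : Submodule A L)) :
    ∃ I ∈ c, g ∈ I • (⊤ : Submodule A L) := by
  refine Submodule.smul_induction_on
    (p := fun g => ∃ I ∈ c, g ∈ I • (⊤ : Submodule A L)) hg ?_ ?_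
  · intro a ha n _
    obtain ⟨I, hI, haI⟩ := (Submodule.mem_sSup_of_directed hne hc.directedOn).mp ha
    exact ⟨I, hI, Submodule.smul_mem_smul haI Submodule.mem_top⟩
  · rintro x y ⟨I, hI, hx⟩ ⟨J, hJ, hy⟩
    rcases hc.total hI hJ with h | h
    · exact ⟨J, hJ, add_mem (Submodule.smul_mono_left h hx) hy⟩
    · exact ⟨I, hI, add_mem hx (Submodule.smul_mono_left h hy)⟩

theorem exists_le_of_fg_sSup {c : Set (Ideal A)} (hc : IsChain (· ≤ ·) c) (hne : c.Nonempty)
    {N : Submodule A L} (hN : N.FG) (h : N ≤ (sSup c) • (⊤ : Submodule A L)) :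
    ∃ I ∈ c, N ≤ I • (⊤ : Submodule A L) := by
  classical
  obtain ⟨G, rfl⟩ := hN
  induction G using Finset.induction_on with
  | empty =>
    obtain ⟨I, hI⟩ := hne
    exact ⟨I, hI, by simp⟩
  | insert g G hg ih =>
    have hG : Submodule.span A (G : Set L) ≤ sSup c • (⊤ : Submodule A L) :=
      (Submodule.span_mono (by simp)).trans h
    obtain ⟨I, hI, hIG⟩ := ih hG
    obtain ⟨J, hJ, hJg⟩ := mem_smul_top_of_sSup hc hne
      (h (Submodule.subset_span (by simp : g ∈ ((insert g G : Finset L) : Set L))))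
    rcases hc.total hI hJ with h' | h'
    · refine ⟨J, hJ, Submodule.span_le.mpr ?_⟩
      intro y hy
      rw [Finset.coe_insert, Set.mem_insert_iff] at hy
      rcases hy with rfl | hy
      · exact hJg
      · exact Submodule.smul_mono_left h' (hIG (Submodule.subset_span hy))
    · refine ⟨I, hI, Submodule.span_le.mpr ?_⟩
      intro y hy
      rw [Finset.coe_insert, Set.mem_insert_iff] at hy
      rcases hy with rfl | hy
      · exact Submodule.smul_mono_left h' hJg
      · exact hIG (Submodule.subset_span hy)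

theorem lt_sup_span {P : Ideal A} {a : A} (ha : a ∉ P) : P < P ⊔ Ideal.span {a} := by
  refine lt_of_le_of_ne le_sup_left (fun h => ha ?_)
  rw [h]
  exact Ideal.mem_sup_right (Ideal.mem_span_singleton_self a)

theorem isNilpotent_of_fibres [Module.Finite A L]
    (hfib : ∀ P : Ideal A, P.IsPrime → ∃ N : ℕ, ∃ s : A, s ∉ P ∧
      ∀ w ∈ LieModule.lowerCentralSeries A L L N, s • w ∈ P • (⊤ : Submodule A L)) :
    LieRing.IsNilpotent L := by
  by_contra hnil
  let S : Set (Ideal A) := {I | ¬ NilMod A L I}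
  have h0 : (⊥ : Ideal A) ∈ S := by
    rintro ⟨j, hj⟩
    apply hnil
    show LieModule.IsNilpotent L L
    rw [LieModule.isNilpotent_iff A]
    refine ⟨j, ?_⟩
    rw [Submodule.bot_smul, le_bot_iff] at hj
    exact (LieSubmodule.toSubmodule_eq_bot _).mp hj
  have hchain : ∀ c ⊆ S, IsChain (· ≤ ·) c → ∀ y ∈ c, ∃ ub ∈ S, ∀ z ∈ c, z ≤ ub := by
    intro c hcS hc y hy
    refine ⟨sSup c, ?_, fun z hz => le_sSup hz⟩
    rintro ⟨j, hj⟩
    obtain ⟨I, hI, hIj⟩ := exists_le_of_fg_sSup hc ⟨y, hy⟩ (lcs_fg j) hj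
    exact hcS hI ⟨j, hIj⟩
  obtain ⟨P, -, hP⟩ := zorn_le_nonempty₀ S hchain ⊥ h0
  have hPS : P ∈ S := hP.prop
  have hmax : ∀ I : Ideal A, P < I → NilMod A L I := by
    intro I hI
    by_contra hn
    exact absurd (hP.le_of_ge (show I ∈ S from hn) hI.le) (not_le_of_gt hI)
  have hprime : P.IsPrime := by
    rw [Ideal.isPrime_iff]
    refine ⟨?_, ?_⟩
    · rintro rfl
      apply hPS
      refine ⟨0, ?_⟩
      rw [Submodule.top_smul]
      exact le_top
    · intro a b hab
      by_contra hcon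
      rw [not_or] at hcon
      obtain ⟨ha, hb⟩ := hcon
      obtain ⟨j1, h1⟩ := hmax (P ⊔ Ideal.span {a}) (lt_sup_span ha)
      obtain ⟨j2, h2⟩ := hmax (P ⊔ Ideal.span {b}) (lt_sup_span hb)
      apply hPS
      refine ⟨j1 + j2, ?_⟩
      refine (shift _ j1 h1 j2).trans ?_
      refine (Submodule.smul_mono le_rfl h2).trans ?_
      rw [← Submodule.mul_smul]
      refine Submodule.smul_mono_left ?_
      rw [Ideal.mul_le]
      intro r hr s hs
      obtain ⟨q1, hq1, t1, ht1, rfl⟩ := Submodule.mem_sup.mp hr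
      obtain ⟨q2, hq2, t2, ht2, rfl⟩ := Submodule.mem_sup.mp hs
      obtain ⟨c1, rfl⟩ := Ideal.mem_span_singleton'.mp ht1
      obtain ⟨c2, rfl⟩ := Ideal.mem_span_singleton'.mp ht2
      have e : (q1 + c1 * a) * (q2 + c2 * b) =
          q1 * (q2 + c2 * b) + (c1 * a) * q2 + (c1 * c2) * (a * b) := by ring
      rw [e]
      exact add_mem (add_mem (P.mul_mem_right _ hq1) (P.mul_mem_left _ hq2))
        (P.mul_mem_left _ hab)
  obtain ⟨N, s, hs, hN⟩ := hfib P hprime
  obtain ⟨j, hj⟩ := hmax (P ⊔ Ideal.span {s}) (lt_sup_span hs)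
  apply hPS
  refine ⟨j + N, (shift _ j hj N).trans ?_⟩
  intro y hy
  refine Submodule.smul_induction_on (p := fun y => y ∈ P • (⊤ : Submodule A L)) hy ?_ ?_
  · intro r hr n hn
    obtain ⟨q, hq, t, ht, rfl⟩ := Submodule.mem_sup.mp hr
    obtain ⟨c, rfl⟩ := Ideal.mem_span_singleton'.mp ht
    rw [add_smul, mul_smul]
    exact add_mem (Submodule.smul_mem_smul hq Submodule.mem_top)
      (Submodule.smul_mem _ c (hN n hn))
  · intro a b ha hb; exact add_mem ha hb

theorem tmul_mem_lcs (K : Type u) [Field K] [Algebra A K] (j : ℕ) {w : L}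
    (hw : w ∈ LieModule.lowerCentralSeries A L L j) :
    (1 : K) ⊗ₜ[A] w ∈ LieModule.lowerCentralSeries K (K ⊗[A] L) (K ⊗[A] L) j := by
  induction j generalizing w with
  | zero => exact LieSubmodule.mem_top _
  | succ j ih =>
    rw [LieModule.lowerCentralSeries_succ, ← LieSubmodule.mem_toSubmodule,
      LieSubmodule.lieIdeal_oper_eq_linear_span'] at hw
    refine Submodule.span_induction
      (p := fun w _ => (1 : K) ⊗ₜ[A] w ∈
        LieModule.lowerCentralSeries K (K ⊗[A] L) (K ⊗[A] L) (j + 1)) ?_ ?_ ?_ ?_ hw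
    · rintro _ ⟨x, -, n, hn, rfl⟩
      have e : (1 : K) ⊗ₜ[A] ⁅x, n⁆ = ⁅(1 : K) ⊗ₜ[A] x, (1 : K) ⊗ₜ[A] n⁆ := by
        rw [LieAlgebra.ExtendScalars.bracket_tmul, mul_one]
      rw [e, LieModule.lowerCentralSeries_succ]
      exact LieSubmodule.lie_mem_lie (LieSubmodule.mem_top _) (ih hn)
    · rw [TensorProduct.tmul_zero]; exact zero_mem _
    · intro a b _ _ ha hb; rw [TensorProduct.tmul_add]; exact add_mem ha hb
    · intro c a _ ha
      rw [TensorProduct.tmul_smul, ← algebraMap_smul K c ((1 : K) ⊗ₜ[A] a)]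
      exact (LieModule.lowerCentralSeries K (K ⊗[A] L) (K ⊗[A] L) (j + 1)).smul_mem _ ha

theorem hfib_of_fibre [Module.Finite A L] (P : Ideal A) [P.IsPrime]
    (h : LieRing.IsNilpotent (P.ResidueField ⊗[A] L)) :
    ∃ N : ℕ, ∃ s : A, s ∉ P ∧
      ∀ w ∈ LieModule.lowerCentralSeries A L L N, s • w ∈ P • (⊤ : Submodule A L) := by
  classical
  obtain ⟨N, hN⟩ := (LieModule.isNilpotent_iff P.ResidueField (P.ResidueField ⊗[A] L)
    (P.ResidueField ⊗[A] L)).mp h
  obtain ⟨G, hG⟩ := lcs_fg (A := A) (L := L) N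
  have h1 : ∀ g ∈ G, ∃ s : A, s ∉ P ∧ s • g ∈ P • (⊤ : Submodule A L) := by
    intro g hg
    apply exists_smul_mem_of_tmul_eq_zero P g
    have hgN : g ∈ LieModule.lowerCentralSeries A L L N := by
      rw [← LieSubmodule.mem_toSubmodule, ← hG]; exact Submodule.subset_span hg
    have := tmul_mem_lcs P.ResidueField N hgN
    rw [hN, LieSubmodule.mem_bot] at this
    exact this
  choose! σ hσ1 hσ2 using h1
  refine ⟨N, ∏ g ∈ G, σ g, ?_, ?_⟩
  · intro hmem
    obtain ⟨g, hg, hgP⟩ := Ideal.IsPrime.prod_mem_iff.mp hmem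
    exact hσ1 g hg hgP
  · intro w hw
    rw [← LieSubmodule.mem_toSubmodule, ← hG] at hw
    refine Submodule.span_induction
      (p := fun w _ => (∏ g ∈ G, σ g) • w ∈ P • (⊤ : Submodule A L)) ?_ ?_ ?_ ?_ hw
    · intro g hg
      rw [← Finset.mul_prod_erase G σ hg, mul_comm, mul_smul]
      exact Submodule.smul_mem _ _ (hσ2 g hg)
    · rw [smul_zero]; exact zero_mem _
    · intro a b _ _ ha hb; rw [smul_add]; exact add_mem ha hb
    · intro c a _ ha; rw [smul_comm]; exact Submodule.smul_mem _ c ha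

theorem exists_tmul_eq (P : Ideal A) [P.IsPrime] (y : P.ResidueField ⊗[A] L) :
    ∃ (c : P.ResidueField) (x : L), y = c ⊗ₜ[A] x := by
  induction y using TensorProduct.induction_on with
  | zero => exact ⟨0, 0, by simp⟩
  | tmul c x => exact ⟨c, x, rfl⟩
  | add y1 y2 h1 h2 =>
    obtain ⟨c1, x1, rfl⟩ := h1
    obtain ⟨c2, x2, rfl⟩ := h2
    obtain ⟨d1, t1, ht1, e1⟩ := IsFractionRing.div_surjective (A := A ⧸ P) c1
    obtain ⟨d2, t2, ht2, e2⟩ := IsFractionRing.div_surjective (A := A ⧸ P) c2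
    obtain ⟨a1, rfl⟩ := Ideal.Quotient.mk_surjective d1
    obtain ⟨a2, rfl⟩ := Ideal.Quotient.mk_surjective d2
    obtain ⟨s1, rfl⟩ := Ideal.Quotient.mk_surjective t1
    obtain ⟨s2, rfl⟩ := Ideal.Quotient.mk_surjective t2
    simp only [Ideal.algebraMap_quotient_residueField_mk] at e1 e2
    have hs1 : algebraMap A P.ResidueField s1 ≠ 0 := by
      rw [← Ideal.algebraMap_quotient_residueField_mk]
      exact map_ne_zero_of_mem_nonZeroDivisors _ P.injective_algebraMap_quotient_residueField ht1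
    have hs2 : algebraMap A P.ResidueField s2 ≠ 0 := by
      rw [← Ideal.algebraMap_quotient_residueField_mk]
      exact map_ne_zero_of_mem_nonZeroDivisors _ P.injective_algebraMap_quotient_residueField ht2
    refine ⟨(algebraMap A P.ResidueField s1 * algebraMap A P.ResidueField s2)⁻¹,
      (a1 * s2) • x1 + (a2 * s1) • x2, ?_⟩
    rw [TensorProduct.tmul_add, TensorProduct.tmul_smul, TensorProduct.tmul_smul,
      TensorProduct.smul_tmul', TensorProduct.smul_tmul', Algebra.smul_def, Algebra.smul_def,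
      ← e1, ← e2, map_mul, map_mul]
    congr 2
    · field_simp
    · field_simp

theorem fibre_isNilpotent [Module.Finite A L] (hL : ∀ x : L, IsNilpotent (LieAlgebra.ad A L x))
    (P : Ideal A) [P.IsPrime] : LieRing.IsNilpotent (P.ResidueField ⊗[A] L) := by
  rw [LieAlgebra.isNilpotent_iff_forall (R := P.ResidueField)]
  intro y
  obtain ⟨c, x, rfl⟩ := exists_tmul_eq P y
  have e : LieAlgebra.ad P.ResidueField (P.ResidueField ⊗[A] L) (c ⊗ₜ[A] x) =
      c • (LieAlgebra.ad A L x).baseChange P.ResidueField := by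
    apply TensorProduct.AlgebraTensorModule.ext
    intro t z
    rw [LieAlgebra.ad_apply, LieAlgebra.ExtendScalars.bracket_tmul, LinearMap.smul_apply,
      LinearMap.baseChange_tmul, TensorProduct.smul_tmul', smul_eq_mul, LieAlgebra.ad_apply]
  rw [e]
  obtain ⟨n, hn⟩ := hL x
  have h2 : IsNilpotent ((LieAlgebra.ad A L x).baseChange P.ResidueField) := by
    refine ⟨n, ?_⟩
    rw [← LinearMap.baseChange_pow, hn, LinearMap.baseChange_zero]
  exact IsNilpotent.smul h2 c

theorem main [Module.Finite A L] :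
    ((∀ p : PrimeSpectrum A, LieRing.IsNilpotent (p.asIdeal.ResidueField ⊗[A] L)) →
      LieRing.IsNilpotent L) ∧
    ((∀ x : L, IsNilpotent (LieAlgebra.ad A L x)) → LieRing.IsNilpotent L) := by
  constructor
  · intro h
    apply isNilpotent_of_fibres (A := A)
    intro P hP
    haveI := hP
    exact hfib_of_fibre P (h ⟨P, hP⟩)
  · intro h
    apply isNilpotent_of_fibres (A := A)
    intro P hP
    haveI := hP
    exact hfib_of_fibre P (fibre_isNilpotent h P)

end Main

end Groth.Agent.Lib.Helper6.LieFibNil
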