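import Groth.Agent.Lib.Helper6.UnipPow
import Groth.Agent.Lib.Helper6.CartierRed
import Groth.Agent.Lib.Helper6.DualConv
import Groth.Prelude.Def_LieHopf
import Groth.Prelude.Def_GLin
import Mathlib

/-!
# Unipotent groups in characteristic zero are determined by their Lie algebra (helper6), part 1

For a finitely generated unipotent commutative Hopf algebra `A` over an algebraically closed field of
characteristic zero, a subset of the augmentation ideal stable under all left-invariant derivations
`(id ⊗ ξ) ∘ Δ`, `ξ ∈ Lie A`, is zero.  The proof uses the one-parameter subgroups `t ↦ g ^ t` through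
the points `g` of `A` (library `UnipPow`) and Cartier's theorem.
-/

set_option autoImplicit false

namespace Groth.Agent.Helper6.LieInv

open TensorProduct Polynomial
open Groth.Agent.Helper6.CoConn

universe u v w

section Points

/-- points of a reduced finitely generated algebra over an algebraically closed field separate
elements -/
theorem exists_point_ne_zero (k : Type u) [Field k] [IsAlgClosed k] (A : Type v) [CommRing A]
    [Algebra k A] [Algebra.FiniteType k A] [IsReduced A] (a : A) (ha : a ≠ 0) :
    ∃ g : A →ₐ[k] k, g a ≠ 0 := by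
  haveI : IsJacobsonRing A := isJacobsonRing_of_finiteType (A := k) (B := A)
  have hrad : (⊥ : Ideal A).IsRadical := by
    intro x hx
    obtain ⟨n, hn⟩ := Ideal.mem_radical_iff.1 hx
    exact (Ideal.mem_bot).2 (IsNilpotent.eq_zero ⟨n, (Ideal.mem_bot).1 hn⟩)
  have hjac : (⊥ : Ideal A).jacobson = ⊥ := IsJacobsonRing.out' ⊥ hrad
  have hex : ∃ m : Ideal A, m.IsMaximal ∧ a ∉ m := by
    by_contra hcon
    push Not at hcon
    apply ha
    have : a ∈ (⊥ : Ideal A).jacobson := by
      rw [Ideal.jacobson, Ideal.mem_sInf]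
      rintro m ⟨_, hm⟩
      exact hcon m hm
    rw [hjac] at this
    exact (Ideal.mem_bot).1 this
  obtain ⟨m, hm, ham⟩ := hex
  haveI := hm
  letI : Field (A ⧸ m) := Ideal.Quotient.field m
  haveI : Algebra.FiniteType k (A ⧸ m) :=
    Algebra.FiniteType.of_surjective (Ideal.Quotient.mkₐ k m) (Ideal.Quotient.mkₐ_surjective k m)
  haveI : Module.Finite k (A ⧸ m) := finite_of_finite_type_of_isJacobsonRing k (A ⧸ m)
  haveI : Algebra.IsIntegral k (A ⧸ m) := Algebra.IsIntegral.of_finite k (A ⧸ m)
  have hbij : Function.Bijective (algebraMap k (A ⧸ m)) :=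
    IsAlgClosed.algebraMap_bijective_of_isIntegral
  let e : k ≃ₐ[k] (A ⧸ m) := AlgEquiv.ofBijective (Algebra.ofId k (A ⧸ m)) hbij
  refine ⟨e.symm.toAlgHom.comp (Ideal.Quotient.mkₐ k m), ?_⟩
  intro h1
  have h2 : Ideal.Quotient.mk m a = 0 := by
    have : e.symm (Ideal.Quotient.mk m a) = 0 := h1
    rw [map_eq_zero_iff _ e.symm.injective] at this
    exact this
  exact ham (Ideal.Quotient.eq_zero_iff_mem.1 h2)

end Points

section Deriv

variable {k : Type u} [Field k] {A : Type u} [CommRing A] [HopfAlgebra k A]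

/-- the left-invariant derivation `(id ⊗ ξ) ∘ Δ` attached to a functional `ξ` -/
noncomputable def Dx (ξ : A →ₗ[k] k) : A →ₗ[k] A :=
  (TensorProduct.rid k A).toLinearMap ∘ₗ (LinearMap.lTensor A ξ) ∘ₗ
    (Coalgebra.comul (R := k) (A := A))

theorem Dx_apply (ξ : A →ₗ[k] k) (a : A) :
    Dx ξ a = TensorProduct.rid k A (LinearMap.lTensor A ξ (Coalgebra.comul (R := k) a)) := rfl

theorem mul_map_eq (φ ξ : A →ₗ[k] k) (z : A ⊗[k] A) :
    LinearMap.mul' k k (TensorProduct.map φ ξ z) =
      φ (TensorProduct.rid k A (LinearMap.lTensor A ξ z)) := by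
  induction z using TensorProduct.induction_on with
  | zero => simp
  | tmul x y =>
    rw [TensorProduct.map_tmul, LinearMap.mul'_apply, LinearMap.lTensor_tmul,
      TensorProduct.rid_tmul, map_smul, smul_eq_mul, mul_comm]
  | add x y hx hy => rw [map_add, map_add, hx, hy, map_add, map_add, map_add]

theorem Dx_algebraMap (ξ : A →ₗ[k] k) (hξ : ξ 1 = 0) (c : k) : Dx ξ (algebraMap k A c) = 0 := by
  rw [Algebra.algebraMap_eq_smul_one, map_smul, Dx_apply, Bialgebra.comul_one,
    Algebra.TensorProduct.one_def, LinearMap.lTensor_tmul, hξ, TensorProduct.tmul_zero, map_zero,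
    smul_zero]

variable [CharZero k]

/-- the tangent vector at the identity of the one-parameter subgroup through `g` -/
noncomputable def xiLin (hC : IsCoconn k A) (g : WithConv (A →ₐ[k] k)) : A →ₗ[k] k :=
  (Polynomial.leval (0 : k)) ∘ₗ (Polynomial.derivative (R := k)) ∘ₗ (P hC g).toLinearMap

theorem xiLin_apply (hC : IsCoconn k A) (g : WithConv (A →ₐ[k] k)) (a : A) :
    xiLin hC g a = (derivative (P hC g a)).eval 0 := rfl

theorem eval_zero_P (hC : IsCoconn k A) (g : WithConv (A →ₐ[k] k)) (a : A) :
    (P hC g a).eval 0 = Coalgebra.counit (R := k) a := by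
  have h := eval_P hC g a 0
  rw [Nat.cast_zero, pow_zero] at h
  exact h

theorem xiLin_mul (hC : IsCoconn k A) (g : WithConv (A →ₐ[k] k)) (a b : A) :
    xiLin hC g (a * b) = Coalgebra.counit (R := k) a * xiLin hC g b +
      Coalgebra.counit (R := k) b * xiLin hC g a := by
  rw [xiLin_apply, xiLin_apply, xiLin_apply, map_mul, derivative_mul, eval_add, eval_mul,
    eval_mul, eval_zero_P, eval_zero_P]
  ring

/-- the tangent vector as an element of the Lie algebra -/
noncomputable def xi (hC : IsCoconn k A) (g : WithConv (A →ₐ[k] k)) : LieHopf.Lie k A :=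
  Derivation.mk' (show A →ₗ[k] LieHopf.K k A from xiLin hC g) (by
    intro a b
    show xiLin hC g (a * b) = _
    rw [xiLin_mul]
    rfl)

theorem dlin_xi (hC : IsCoconn k A) (g : WithConv (A →ₐ[k] k)) :
    LieHopf.dlin (xi hC g) = xiLin hC g := rfl

/-- auxiliary map `x ⊗ y ↦ g^m(x) • P(y)` -/
noncomputable def Phi (hC : IsCoconn k A) (g : WithConv (A →ₐ[k] k)) (m : ℕ) :
    A ⊗[k] A →ₗ[k] k[X] :=
  (TensorProduct.lid k k[X]).toLinearMap ∘ₗ
    TensorProduct.map (g ^ m).ofConv.toLinearMap (P hC g).toLinearMap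

theorem Phi_tmul (hC : IsCoconn k A) (g : WithConv (A →ₐ[k] k)) (m : ℕ) (x y : A) :
    Phi hC g m (x ⊗ₜ[k] y) = ((g ^ m).ofConv x) • P hC g y := rfl

theorem eval_Phi (hC : IsCoconn k A) (g : WithConv (A →ₐ[k] k)) (m n : ℕ) (z : A ⊗[k] A) :
    (Phi hC g m z).eval (n : k) = LinearMap.mul' k k
      (TensorProduct.map (g ^ m).ofConv.toLinearMap (g ^ n).ofConv.toLinearMap z) := by
  induction z using TensorProduct.induction_on with
  | zero => simp
  | tmul x y =>
    rw [Phi_tmul, eval_smul, eval_P, TensorProduct.map_tmul, LinearMap.mul'_apply, smul_eq_mul]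
    rfl
  | add x y hx hy => rw [map_add, eval_add, hx, hy, map_add, map_add]

theorem derivative_Phi (hC : IsCoconn k A) (g : WithConv (A →ₐ[k] k)) (m : ℕ) (z : A ⊗[k] A) :
    (derivative (Phi hC g m z)).eval 0 = LinearMap.mul' k k
      (TensorProduct.map (g ^ m).ofConv.toLinearMap (xiLin hC g) z) := by
  induction z using TensorProduct.induction_on with
  | zero => simp
  | tmul x y =>
    rw [Phi_tmul, derivative_smul, eval_smul, TensorProduct.map_tmul, LinearMap.mul'_apply,
      smul_eq_mul]
    rfl
  | add x y hx hy => rw [map_add, derivative_add, eval_add, hx, hy, map_add, map_add]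

theorem pow_add_apply (g : WithConv (A →ₐ[k] k)) (m n : ℕ) (a : A) :
    (g ^ (m + n)).ofConv a = LinearMap.mul' k k
      (TensorProduct.map (g ^ m).ofConv.toLinearMap (g ^ n).ofConv.toLinearMap
        (Coalgebra.comul (R := k) a)) := by
  rw [pow_add]
  rfl

/-- the differential equation of the one-parameter subgroup -/
theorem derivative_P (hC : IsCoconn k A) (g : WithConv (A →ₐ[k] k)) (a : A) :
    derivative (P hC g a) = P hC g (Dx (xiLin hC g) a) := by
  apply poly_ext
  intro m
  have h1 : (P hC g a).comp (X + C (m : k)) = Phi hC g m (Coalgebra.comul (R := k) a) := by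
    apply poly_ext
    intro n
    rw [eval_Phi, eval_comp, eval_add, eval_X, eval_C, ← Nat.cast_add, eval_P, add_comm n m,
      pow_add_apply]
  have h2 : (derivative ((P hC g a).comp (X + C (m : k)))).eval 0 =
      (derivative (P hC g a)).eval (m : k) := by
    rw [derivative_comp, eval_mul, eval_comp, derivative_add, derivative_X, derivative_C,
      add_zero, eval_one, one_mul, eval_add, eval_X, eval_C, zero_add]
  rw [← h2, h1, derivative_Phi, mul_map_eq, eval_P]
  rfl

/-- a subset of the augmentation ideal stable under all left-invariant derivations is zero -/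
theorem eq_zero_of_stable [IsAlgClosed k] [Algebra.FiniteType k A] (hC : IsCoconn k A)
    (S : Set A) (hε : ∀ a ∈ S, Coalgebra.counit (R := k) a = 0)
    (hD : ∀ (ξ : LieHopf.Lie k A), ∀ a ∈ S, Dx (LieHopf.dlin ξ) a ∈ S) :
    ∀ a ∈ S, a = 0 := by
  intro a haS
  by_contra ha
  haveI : IsReduced A := Groth.Agent.Lib.Helper6.CartierRed.isReduced k A
  obtain ⟨g₀, hg₀⟩ := exists_point_ne_zero k A a ha
  have key : ∀ r : ℕ, ∀ b ∈ S, (derivative^[r] (P hC (WithConv.toConv g₀) b)).eval 0 = 0 := by
    intro r
    induction r with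
    | zero =>
      intro b hb
      rw [Function.iterate_zero, id_eq, eval_zero_P, hε b hb]
    | succ r ih =>
      intro b hb
      rw [Function.iterate_succ_apply, derivative_P]
      have h3 : Dx (xiLin hC (WithConv.toConv g₀)) b ∈ S := by
        have h4 := hD (xi hC (WithConv.toConv g₀)) b hb
        rwa [dlin_xi] at h4
      exact ih _ h3
  have hzero : P hC (WithConv.toConv g₀) a = 0 := by
    ext n
    have h1 := key n a haS
    rw [← Polynomial.coeff_zero_eq_eval_zero, Polynomial.coeff_iterate_derivative, zero_add,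
      Nat.descFactorial_self, nsmul_eq_mul] at h1
    rcases mul_eq_zero.1 h1 with h | h
    · exact absurd h (Nat.cast_ne_zero.2 (Nat.factorial_ne_zero n))
    · rw [h, Polynomial.coeff_zero]
  apply hg₀
  have h2 := eval_P hC (WithConv.toConv g₀) a 1
  rw [hzero, eval_zero, pow_one] at h2
  exact h2.symm

end Deriv

end Groth.Agent.Helper6.LieInv
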