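import Groth.Agent.Lib.Helper6.LieInv1
import Mathlib

/-!
# Unipotent groups in characteristic zero are determined by their Lie algebra (helper6), part 2

Comodule versions: for a finitely generated unipotent commutative Hopf algebra over an algebraically
closed field of characteristic zero,
* a vector killed by the infinitesimal action is invariant;
* a subspace stable under the infinitesimal action is a subcomodule;
* a linear map commuting with the infinitesimal actions commutes with the coactions.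
-/

set_option autoImplicit false

namespace Groth.Agent.Helper6.LieInv

open TensorProduct Polynomial
open Groth.Agent.Helper6.CoConn

universe u v w

section Sep

variable {k : Type u} [Field k] {A : Type v} [CommRing A] [Algebra k A]
variable {M : Type w} [AddCommGroup M] [Module k M]

/-- matrix coefficients separate the points of `M ⊗ A` -/
theorem eq_zero_of_lid (z : M ⊗[k] A)
    (h : ∀ lam : M →ₗ[k] k, TensorProduct.lid k A (LinearMap.rTensor A lam z) = 0) : z = 0 := by
  apply Groth.Agent.Lib.Helper6.DualConv.eq_zero_of_forall_dual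
  intro f g
  have h1 : ∀ z : M ⊗[k] A, LinearMap.mul' k k (TensorProduct.map f g z) =
      g (TensorProduct.lid k A (LinearMap.rTensor A f z)) := by
    intro z
    induction z using TensorProduct.induction_on with
    | zero => simp
    | tmul m a =>
      rw [TensorProduct.map_tmul, LinearMap.mul'_apply, LinearMap.rTensor_tmul,
        TensorProduct.lid_tmul, map_smul, smul_eq_mul]
    | add x y hx hy => rw [map_add, map_add, hx, hy, map_add, map_add, map_add]
  rw [h1, h, map_zero]

end Sep

section Comod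

variable {k : Type u} [Field k] (A : Type u) [CommRing A] [HopfAlgebra k A]
variable {M : Type w} [AddCommGroup M] [Module k M] [HopfRep.Comod k A M]

/-- the matrix coefficient `(λ ⊗ id) ∘ ρ` -/
noncomputable def coef (lam : M →ₗ[k] k) : M →ₗ[k] A :=
  (TensorProduct.lid k A).toLinearMap ∘ₗ (LinearMap.rTensor A lam) ∘ₗ
    (HopfRep.Comod.coact (k := k) (A := A))

theorem coef_apply (lam : M →ₗ[k] k) (v : M) :
    coef A lam v = TensorProduct.lid k A (LinearMap.rTensor A lam
      (HopfRep.Comod.coact (k := k) (A := A) v)) := rfl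

variable {A}

/-- the infinitesimal action `(id ⊗ ξ) ∘ ρ` -/
noncomputable def inf (ξ : A →ₗ[k] k) : M →ₗ[k] M :=
  (TensorProduct.rid k M).toLinearMap ∘ₗ (LinearMap.lTensor M ξ) ∘ₗ
    (HopfRep.Comod.coact (k := k) (A := A))

theorem inf_apply (ξ : A →ₗ[k] k) (v : M) :
    inf ξ v = TensorProduct.rid k M (LinearMap.lTensor M ξ
      (HopfRep.Comod.coact (k := k) (A := A) v)) := rfl

/-- `m ⊗ (a ⊗ b) ↦ λ(m) ξ(b) a` -/
noncomputable def F₁ (lam : M →ₗ[k] k) (ξ : A →ₗ[k] k) : M ⊗[k] (A ⊗[k] A) →ₗ[k] A :=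
  (TensorProduct.lid k A).toLinearMap ∘ₗ
    TensorProduct.map lam ((TensorProduct.rid k A).toLinearMap ∘ₗ LinearMap.lTensor A ξ)

/-- `(m ⊗ a) ⊗ b ↦ λ(m) ξ(b) a` -/
noncomputable def F₂ (lam : M →ₗ[k] k) (ξ : A →ₗ[k] k) : (M ⊗[k] A) ⊗[k] A →ₗ[k] A :=
  (TensorProduct.rid k A).toLinearMap ∘ₗ
    TensorProduct.map ((TensorProduct.lid k A).toLinearMap ∘ₗ LinearMap.rTensor A lam) ξ

theorem F₂_eq (lam : M →ₗ[k] k) (ξ : A →ₗ[k] k) :
    F₂ lam ξ = F₁ lam ξ ∘ₗ (TensorProduct.assoc k M A A).toLinearMap := by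
  apply TensorProduct.ext_threefold
  intro m a b
  show TensorProduct.rid k A ((TensorProduct.lid k A (LinearMap.rTensor A lam (m ⊗ₜ[k] a))) ⊗ₜ[k] ξ b) =
    TensorProduct.lid k A (lam m ⊗ₜ[k] (TensorProduct.rid k A (LinearMap.lTensor A ξ (a ⊗ₜ[k] b))))
  rw [LinearMap.rTensor_tmul, TensorProduct.lid_tmul, TensorProduct.rid_tmul,
    LinearMap.lTensor_tmul, TensorProduct.rid_tmul, TensorProduct.lid_tmul, smul_comm]

theorem Dx_lid (lam : M →ₗ[k] k) (ξ : A →ₗ[k] k) (z : M ⊗[k] A) :
    Dx ξ (TensorProduct.lid k A (LinearMap.rTensor A lam z)) =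
      F₁ lam ξ (LinearMap.lTensor M (Coalgebra.comul (R := k) (A := A)) z) := by
  induction z using TensorProduct.induction_on with
  | zero => simp
  | tmul m a =>
    rw [LinearMap.rTensor_tmul, TensorProduct.lid_tmul, map_smul, LinearMap.lTensor_tmul]
    rfl
  | add x y hx hy => rw [map_add, map_add, map_add, hx, hy, map_add, map_add]

theorem coef_rid (lam : M →ₗ[k] k) (ξ : A →ₗ[k] k) (z : M ⊗[k] A) :
    coef A lam (TensorProduct.rid k M (LinearMap.lTensor M ξ z)) =
      F₂ lam ξ (LinearMap.rTensor A (HopfRep.Comod.coact (k := k) (A := A)) z) := by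
  induction z using TensorProduct.induction_on with
  | zero => simp
  | tmul m b =>
    rw [LinearMap.lTensor_tmul, TensorProduct.rid_tmul, map_smul, LinearMap.rTensor_tmul]
    rfl
  | add x y hx hy => rw [map_add, map_add, map_add, hx, hy, map_add, map_add]

/-- the left-invariant derivation of a matrix coefficient is the matrix coefficient of the
infinitesimal action -/
theorem Dx_coef (lam : M →ₗ[k] k) (ξ : A →ₗ[k] k) (v : M) :
    Dx ξ (coef A lam v) = coef A lam (inf ξ v) := by
  have hco := LinearMap.congr_fun (HopfRep.Comod.coassoc (k := k) (A := A) (V := M)) v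
  simp only [LinearMap.comp_apply, LinearEquiv.coe_coe] at hco
  rw [coef_apply, Dx_lid, ← hco, inf_apply, coef_rid, F₂_eq]
  rfl

theorem counit_lid (lam : M →ₗ[k] k) (z : M ⊗[k] A) :
    Coalgebra.counit (R := k) (TensorProduct.lid k A (LinearMap.rTensor A lam z)) =
      lam (TensorProduct.rid k M (LinearMap.lTensor M (Coalgebra.counit (R := k) (A := A)) z)) := by
  induction z using TensorProduct.induction_on with
  | zero => simp
  | tmul m a =>
    rw [LinearMap.rTensor_tmul, TensorProduct.lid_tmul, map_smul, LinearMap.lTensor_tmul,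
      TensorProduct.rid_tmul, map_smul, smul_eq_mul, smul_eq_mul, mul_comm]
  | add x y hx hy => rw [map_add, map_add, map_add, hx, hy, map_add, map_add, map_add]

theorem counit_coef (lam : M →ₗ[k] k) (v : M) :
    Coalgebra.counit (R := k) (coef A lam v) = lam v := by
  have hco := LinearMap.congr_fun (HopfRep.Comod.counit_comp (k := k) (A := A) (V := M)) v
  simp only [LinearMap.comp_apply, LinearMap.flip_apply, TensorProduct.mk_apply] at hco
  rw [coef_apply, counit_lid, hco, TensorProduct.rid_tmul, one_smul]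

end Comod

section Main

variable {k : Type u} [Field k] [IsAlgClosed k] [CharZero k] {A : Type u} [CommRing A]
  [HopfAlgebra k A] [Algebra.FiniteType k A]

/-- a vector killed by the infinitesimal action of a unipotent group is invariant -/
theorem coact_eq_of_inf_eq_zero (hU : HopfRep.IsUnipotent k A)
    {M : Type w} [AddCommGroup M] [Module k M] [HopfRep.Comod k A M] (f : M)
    (h : ∀ ξ : LieHopf.Lie k A, inf (LieHopf.dlin ξ) f = 0) :
    HopfRep.Comod.coact (k := k) (A := A) f = f ⊗ₜ[k] (1 : A) := by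
  have hC : IsCoconn k A := isCoconn_of_isUnipotent k A hU
  let S : Set A := {a | ∃ lam : M →ₗ[k] k, a = coef A lam f - algebraMap k A (lam f)}
  have hS : ∀ a ∈ S, a = 0 := by
    apply eq_zero_of_stable hC S
    · rintro a ⟨lam, rfl⟩
      rw [map_sub, counit_coef, Bialgebra.counit_algebraMap, sub_self]
    · rintro ξ a ⟨lam, rfl⟩
      refine ⟨0, ?_⟩
      rw [map_sub, Dx_coef, h ξ, map_zero, Dx_algebraMap _ (LieHopf.dlin_one ξ), sub_zero,
        LinearMap.zero_apply, map_zero, sub_zero]
      rw [coef_apply, LinearMap.rTensor_zero, LinearMap.zero_apply, map_zero]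
  rw [← sub_eq_zero]
  apply eq_zero_of_lid
  intro lam
  rw [map_sub, map_sub, LinearMap.rTensor_tmul, TensorProduct.lid_tmul, ← coef_apply,
    ← Algebra.algebraMap_eq_smul_one]
  exact hS _ ⟨lam, rfl⟩

/-- a subspace stable under the infinitesimal action of a unipotent group is a subcomodule -/
theorem isSubcomod_of_stable (hU : HopfRep.IsUnipotent k A)
    {M : Type w} [AddCommGroup M] [Module k M] [HopfRep.Comod k A M] (V : Submodule k M)
    (hV : ∀ ξ : LieHopf.Lie k A, ∀ v ∈ V, inf (LieHopf.dlin ξ) v ∈ V) :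
    HopfRep.IsSubcomod (k := k) (A := A) V := by
  have hC : IsCoconn k A := isCoconn_of_isUnipotent k A hU
  let S : Set A := {a | ∃ lam : M →ₗ[k] k, (∀ v ∈ V, lam v = 0) ∧ ∃ v ∈ V, a = coef A lam v}
  have hS : ∀ a ∈ S, a = 0 := by
    apply eq_zero_of_stable hC S
    · rintro a ⟨lam, hlam, v, hv, rfl⟩
      rw [counit_coef, hlam v hv]
    · rintro ξ a ⟨lam, hlam, v, hv, rfl⟩
      exact ⟨lam, hlam, inf (LieHopf.dlin ξ) v, hV ξ v hv, Dx_coef lam _ v⟩
  intro v hv
  rw [← rTensor_mkQ, LinearMap.mem_ker]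
  apply eq_zero_of_lid
  intro lam
  rw [← LinearMap.rTensor_comp_apply]
  apply hS
  refine ⟨lam ∘ₗ V.mkQ, ?_, v, hv, rfl⟩
  intro w hw
  rw [LinearMap.comp_apply, Submodule.mkQ_apply, (Submodule.Quotient.mk_eq_zero V).2 hw, map_zero]

/-- a linear map commuting with the infinitesimal actions of a unipotent group is a comodule map -/
theorem coact_comm_of_inf_comm (hU : HopfRep.IsUnipotent k A)
    {M₁ : Type w} [AddCommGroup M₁] [Module k M₁] [HopfRep.Comod k A M₁]
    {M₂ : Type v} [AddCommGroup M₂] [Module k M₂] [HopfRep.Comod k A M₂] (e : M₁ →ₗ[k] M₂)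
    (h : ∀ (ξ : LieHopf.Lie k A) (v : M₁),
      inf (LieHopf.dlin ξ) (e v) = e (inf (LieHopf.dlin ξ) v)) (v : M₁) :
    HopfRep.Comod.coact (k := k) (A := A) (e v) =
      LinearMap.rTensor A e (HopfRep.Comod.coact (k := k) (A := A) v) := by
  have hC : IsCoconn k A := isCoconn_of_isUnipotent k A hU
  let S : Set A := {a | ∃ (lam : M₂ →ₗ[k] k) (v : M₁), a = coef A lam (e v) - coef A (lam ∘ₗ e) v}
  have hS : ∀ a ∈ S, a = 0 := by
    apply eq_zero_of_stable hC S
    · rintro a ⟨lam, v, rfl⟩
      rw [map_sub, counit_coef, counit_coef, LinearMap.comp_apply, sub_self]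
    · rintro ξ a ⟨lam, v, rfl⟩
      refine ⟨lam, inf (LieHopf.dlin ξ) v, ?_⟩
      rw [map_sub, Dx_coef, Dx_coef, h ξ v]
  rw [← sub_eq_zero]
  apply eq_zero_of_lid
  intro lam
  rw [map_sub, map_sub, ← LinearMap.rTensor_comp_apply, ← coef_apply, ← coef_apply]
  exact hS _ ⟨lam, v, rfl⟩

end Main

end Groth.Agent.Helper6.LieInv
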