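import Mathlib

/-!
# Tensor product with a finitely presented module commutes with sequential limits of
Artinian modules (helper6)

Hand-made Mittag-Leffler argument: `exists_thread_lift`; algebraic core `bijective_of_limit`;
categorical wrapper `isIso_limit_post`.
-/

set_option autoImplicit false
universe u

namespace Groth.Agent.Helper6.LimTensor

open TensorProduct

section MLlift

variable {R : Type u} [CommRing R]
variable {X Y : ℕ → Type u} [∀ n, AddCommGroup (X n)] [∀ n, Module R (X n)]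
  [∀ n, AddCommGroup (Y n)] [∀ n, Module R (Y n)]
variable (TX : ∀ n m, n ≤ m → X m →ₗ[R] X n) (TY : ∀ n m, n ≤ m → Y m →ₗ[R] Y n)
variable (g : ∀ n, X n →ₗ[R] Y n)

/-- `a : X n` is stable for the thread `b` if it lifts to every higher level inside the fibre
of `b`. -/
def Stable (b : ∀ n, Y n) (n : ℕ) (a : X n) : Prop :=
  ∀ m (h : n ≤ m), ∃ a' : X m, g m a' = b m ∧ TX n m h a' = a

variable (hXc : ∀ n m l (h : n ≤ m) (h' : m ≤ l) (x : X l),
    TX n m h (TX m l h' x) = TX n l (h.trans h') x)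
variable (hg : ∀ n m (h : n ≤ m) (x : X m), g n (TX n m h x) = TY n m h (g m x))
variable (hXr : ∀ n (x : X n), TX n n le_rfl x = x)

include hXc hg in
theorem exists_stab [hArt : ∀ n, IsArtinian R (LinearMap.ker (g n))] (n : ℕ) :
    ∃ m₀, ∃ h₀ : n ≤ m₀, ∀ m (h : m₀ ≤ m) (w₀ : X m₀), g m₀ w₀ = 0 →
      ∃ w : X m, g m w = 0 ∧ TX n m (h₀.trans h) w = TX n m₀ h₀ w₀ := by
  have hres : ∀ m (h : n ≤ m), ∀ x ∈ LinearMap.ker (g m), TX n m h x ∈ LinearMap.ker (g n) := by
    intro m h x hx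
    rw [LinearMap.mem_ker] at hx ⊢
    rw [hg, hx, map_zero]
  obtain ⟨S, hS⟩ : ∃ S : Set (Submodule R (LinearMap.ker (g n))),
      S = {J | ∃ m, ∃ h : n ≤ m, J = LinearMap.range ((TX n m h).restrict (hres m h))} := ⟨_, rfl⟩
  have hne : S.Nonempty := by
    rw [hS]; exact ⟨_, n, le_rfl, rfl⟩
  obtain ⟨J₀, hJ₀, hmin⟩ := IsArtinian.set_has_minimal S hne
  rw [hS] at hJ₀
  obtain ⟨m₀, h₀, rfl⟩ := hJ₀
  refine ⟨m₀, h₀, ?_⟩
  intro m h w₀ hw₀
  have hle : LinearMap.range ((TX n m (h₀.trans h)).restrict (hres m _)) ≤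
      LinearMap.range ((TX n m₀ h₀).restrict (hres m₀ h₀)) := by
    rintro _ ⟨⟨w, hw⟩, rfl⟩
    have hw' : TX m₀ m h w ∈ LinearMap.ker (g m₀) := by
      rw [LinearMap.mem_ker] at hw ⊢
      rw [hg, hw, map_zero]
    exact ⟨⟨TX m₀ m h w, hw'⟩, Subtype.ext (hXc n m₀ m h₀ h w)⟩
  have hmem0 : LinearMap.range ((TX n m (h₀.trans h)).restrict (hres m _)) ∈ S := by
    rw [hS]; exact ⟨m, h₀.trans h, rfl⟩
  have heq := eq_of_le_of_not_lt hle (hmin _ hmem0)
  have hmem : (⟨TX n m₀ h₀ w₀, hres m₀ h₀ w₀ (LinearMap.mem_ker.mpr hw₀)⟩ : LinearMap.ker (g n)) ∈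
      LinearMap.range ((TX n m₀ h₀).restrict (hres m₀ h₀)) :=
    ⟨⟨w₀, LinearMap.mem_ker.mpr hw₀⟩, rfl⟩
  rw [← heq] at hmem
  obtain ⟨⟨w, hw⟩, hww⟩ := hmem
  exact ⟨w, LinearMap.mem_ker.mp hw, congrArg Subtype.val hww⟩

include hXc hg in
theorem stable_of_stab (b : ∀ n, Y n) (hb : ∀ n m (h : n ≤ m), TY n m h (b m) = b n)
    (hbr : ∀ m, ∃ c : X m, g m c = b m) (n m₀ : ℕ) (h₀ : n ≤ m₀)
    (hstab : ∀ m (h : m₀ ≤ m) (w₀ : X m₀), g m₀ w₀ = 0 →
      ∃ w : X m, g m w = 0 ∧ TX n m (h₀.trans h) w = TX n m₀ h₀ w₀)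
    (a₀ : X m₀) (ha₀ : g m₀ a₀ = b m₀) : Stable TX g b n (TX n m₀ h₀ a₀) := by
  intro m h
  rcases le_total m m₀ with hm | hm
  · refine ⟨TX m m₀ hm a₀, ?_, ?_⟩
    · rw [hg, ha₀, hb]
    · exact hXc n m m₀ h hm a₀
  · obtain ⟨c, hc⟩ := hbr m
    have hw₀ : g m₀ (a₀ - TX m₀ m hm c) = 0 := by
      rw [map_sub, hg, hc, hb, ha₀, sub_self]
    obtain ⟨w, hw, hww⟩ := hstab m hm _ hw₀
    refine ⟨c + w, ?_, ?_⟩
    · rw [map_add, hw, add_zero, hc]
    · have e1 : TX n m h w = TX n m₀ h₀ (a₀ - TX m₀ m hm c) := hww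
      have e2 : TX n m₀ h₀ (TX m₀ m hm c) = TX n m h c := hXc n m₀ m h₀ hm c
      rw [map_add, e1, map_sub, e2]
      abel

include hXc hXr hg in
theorem exists_thread_lift [hArt : ∀ n, IsArtinian R (LinearMap.ker (g n))]
    (b : ∀ n, Y n) (hb : ∀ n m (h : n ≤ m), TY n m h (b m) = b n)
    (hbr : ∀ m, ∃ c : X m, g m c = b m) :
    ∃ a : ∀ n, X n, (∀ n m (h : n ≤ m), TX n m h (a m) = a n) ∧ ∀ n, g n (a n) = b n := by
  have h0 : ∃ a, Stable TX g b 0 a := by
    obtain ⟨m₀, h₀, hstab⟩ := exists_stab TX TY g hXc hg 0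
    obtain ⟨c, hc⟩ := hbr m₀
    exact ⟨_, stable_of_stab TX TY g hXc hg b hb hbr 0 m₀ h₀ hstab c hc⟩
  have hstep : ∀ n (a : X n), Stable TX g b n a →
      ∃ a' : X (n + 1), Stable TX g b (n + 1) a' ∧ TX n (n + 1) (Nat.le_succ n) a' = a := by
    intro n a ha
    obtain ⟨m₁, h₁, hstab⟩ := exists_stab TX TY g hXc hg (n + 1)
    obtain ⟨a₁, ha₁, ha₁'⟩ := ha m₁ ((Nat.le_succ n).trans h₁)
    refine ⟨TX (n + 1) m₁ h₁ a₁,
      stable_of_stab TX TY g hXc hg b hb hbr (n + 1) m₁ h₁ hstab a₁ ha₁, ?_⟩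
    rw [hXc]
    exact ha₁'
  let seq : ∀ n, {a : X n // Stable TX g b n a} := fun n =>
    Nat.rec (motive := fun n => {a : X n // Stable TX g b n a}) ⟨h0.choose, h0.choose_spec⟩
      (fun n s => ⟨(hstep n s.1 s.2).choose, (hstep n s.1 s.2).choose_spec.1⟩) n
  have hseq : ∀ n, TX n (n + 1) (Nat.le_succ n) (seq (n + 1)).1 = (seq n).1 := fun n =>
    (hstep n (seq n).1 (seq n).2).choose_spec.2
  refine ⟨fun n => (seq n).1, ?_, ?_⟩
  · intro n m h
    show TX n m h (seq m).1 = (seq n).1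
    induction m, h using Nat.le_induction with
    | base => exact hXr n _
    | succ m h ih =>
      rw [← hXc n m (m + 1) h (Nat.le_succ m), hseq m]
      exact ih
  · intro n
    obtain ⟨a', ha', ha''⟩ := (seq n).2 n le_rfl
    rw [hXr] at ha''
    show g n (seq n).1 = b n
    rw [← ha'']
    exact ha'

end MLlift

section Free

variable {R : Type u} [CommRing R] {ι : Type} [Fintype ι] [DecidableEq ι]

theorem piScalarRight_nat {X Y : Type u} [AddCommGroup X] [Module R X] [AddCommGroup Y]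
    [Module R Y] (f : X →ₗ[R] Y) (z : X ⊗[R] (ι → R)) (i : ι) :
    TensorProduct.piScalarRight R R Y ι (f.rTensor (ι → R) z) i =
      f (TensorProduct.piScalarRight R R X ι z i) := by
  induction z using TensorProduct.induction_on with
  | zero => simp
  | tmul x r =>
    simp [TensorProduct.piScalarRight_apply, TensorProduct.piScalarRightHom_tmul]
  | add z w hz hw => simp only [map_add, Pi.add_apply, hz, hw]

variable {A : ℕ → Type u} [∀ n, AddCommGroup (A n)] [∀ n, Module R (A n)]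
  (T : ∀ n m, n ≤ m → A m →ₗ[R] A n)
  {L : Type u} [AddCommGroup L] [Module R L] (p : ∀ n, L →ₗ[R] A n)

theorem free_unique (hpext : ∀ x : L, (∀ n, p n x = 0) → x = 0) (z : L ⊗[R] (ι → R))
    (hz : ∀ n, (p n).rTensor (ι → R) z = 0) : z = 0 := by
  apply (TensorProduct.piScalarRight R R L ι).injective
  rw [map_zero]
  funext i
  show _ = (0 : L)
  apply hpext
  intro n
  rw [← piScalarRight_nat, hz, map_zero]
  rfl

theorem free_exist
    (hpex : ∀ a : ∀ n, A n, (∀ n m (h : n ≤ m), T n m h (a m) = a n) → ∃ x : L, ∀ n, p n x = a n)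
    (v : ∀ n, A n ⊗[R] (ι → R))
    (hv : ∀ n m (h : n ≤ m), (T n m h).rTensor (ι → R) (v m) = v n) :
    ∃ z : L ⊗[R] (ι → R), ∀ n, (p n).rTensor (ι → R) z = v n := by
  have hx : ∀ i, ∃ x : L, ∀ n, p n x = TensorProduct.piScalarRight R R (A n) ι (v n) i := by
    intro i
    apply hpex
    intro n m h
    rw [← piScalarRight_nat, hv]
  choose x hx using hx
  refine ⟨(TensorProduct.piScalarRight R R L ι).symm x, ?_⟩
  intro n
  apply (TensorProduct.piScalarRight R R (A n) ι).injective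
  funext i
  rw [piScalarRight_nat, LinearEquiv.apply_symm_apply, hx]

theorem isArtinian_tensor_pi (X : Type u) [AddCommGroup X] [Module R X] [IsArtinian R X]
    (k : ℕ) : IsArtinian R (X ⊗[R] (Fin k → R)) :=
  isArtinian_of_linearEquiv (TensorProduct.piScalarRight R R X (Fin k)).symm

theorem rTensor_lTensor_swap {X X' Y Y' : Type u} [AddCommGroup X] [Module R X]
    [AddCommGroup X'] [Module R X'] [AddCommGroup Y] [Module R Y] [AddCommGroup Y'] [Module R Y']
    (f : X →ₗ[R] X') (g : Y →ₗ[R] Y') (z : X ⊗[R] Y) :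
    f.rTensor Y' (g.lTensor X z) = g.lTensor X' (f.rTensor Y z) := by
  rw [← LinearMap.comp_apply, ← LinearMap.comp_apply, LinearMap.rTensor_comp_lTensor,
    LinearMap.lTensor_comp_rTensor]

end Free

section Core

variable {R : Type u} [CommRing R]

theorem bijective_of_limit
    {A : ℕ → Type u} [∀ n, AddCommGroup (A n)] [∀ n, Module R (A n)] [∀ n, IsArtinian R (A n)]
    (T : ∀ n m, n ≤ m → A m →ₗ[R] A n)
    (hTr : ∀ n (x : A n), T n n le_rfl x = x)
    (hTc : ∀ n m l (h : n ≤ m) (h' : m ≤ l) (x : A l),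
      T n m h (T m l h' x) = T n l (h.trans h') x)
    {L : Type u} [AddCommGroup L] [Module R L] (p : ∀ n, L →ₗ[R] A n)
    (hp : ∀ n m (h : n ≤ m) (x : L), T n m h (p m x) = p n x)
    (hpext : ∀ x : L, (∀ n, p n x = 0) → x = 0)
    (hpex : ∀ a : ∀ n, A n, (∀ n m (h : n ≤ m), T n m h (a m) = a n) → ∃ x : L, ∀ n, p n x = a n)
    (N : Type u) [AddCommGroup N] [Module R N] [Module.FinitePresentation R N]
    {L' : Type u} [AddCommGroup L'] [Module R L'] (q : ∀ n, L' →ₗ[R] A n ⊗[R] N)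
    (hq : ∀ n m (h : n ≤ m) (y : L'), (T n m h).rTensor N (q m y) = q n y)
    (hqext : ∀ y : L', (∀ n, q n y = 0) → y = 0)
    (Φ : L ⊗[R] N →ₗ[R] L') (hΦ : ∀ n (z : L ⊗[R] N), q n (Φ z) = (p n).rTensor N z) :
    Function.Bijective Φ := by
  classical
  obtain ⟨b, a, pr, Am, hprs, hex⟩ := Module.FinitePresentation.exists_fin' R N
  have iB : ∀ n, IsArtinian R (A n ⊗[R] (Fin b → R)) := fun n => isArtinian_tensor_pi (A n) b
  have iA : ∀ n, IsArtinian R (A n ⊗[R] (Fin a → R)) := fun n => isArtinian_tensor_pi (A n) a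
  have hTr' : ∀ (Z : Type u) [AddCommGroup Z] [Module R Z] n (x : A n ⊗[R] Z),
      (T n n le_rfl).rTensor Z x = x := by
    intro Z _ _ n x
    have : T n n le_rfl = LinearMap.id := LinearMap.ext (hTr n)
    rw [this, LinearMap.rTensor_id, LinearMap.id_apply]
  have hTc' : ∀ (Z : Type u) [AddCommGroup Z] [Module R Z] n m l (h : n ≤ m) (h' : m ≤ l)
      (x : A l ⊗[R] Z),
      (T n m h).rTensor Z ((T m l h').rTensor Z x) = (T n l (h.trans h')).rTensor Z x := by
    intro Z _ _ n m l h h' x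
    have : T n l (h.trans h') = T n m h ∘ₗ T m l h' :=
      LinearMap.ext fun x => (hTc n m l h h' x).symm
    rw [this, LinearMap.rTensor_comp_apply]
  have hp' : ∀ (Z : Type u) [AddCommGroup Z] [Module R Z] n m (h : n ≤ m) (z : L ⊗[R] Z),
      (T n m h).rTensor Z ((p m).rTensor Z z) = (p n).rTensor Z z := by
    intro Z _ _ n m h z
    have : p n = T n m h ∘ₗ p m := LinearMap.ext fun x => (hp n m h x).symm
    rw [this, LinearMap.rTensor_comp_apply]
  constructor
  · rw [injective_iff_map_eq_zero]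
    intro z hz
    obtain ⟨z', rfl⟩ := LinearMap.lTensor_surjective L hprs z
    have hv0 : ∀ n, pr.lTensor (A n) ((p n).rTensor (Fin b → R) z') = 0 := by
      intro n
      rw [← rTensor_lTensor_swap, ← hΦ, hz, map_zero]
    have hexn : ∀ n, Function.Exact (Am.lTensor (A n)) (pr.lTensor (A n)) :=
      fun n => lTensor_exact (A n) hex hprs
    obtain ⟨u, hu, hu'⟩ := exists_thread_lift (R := R)
      (X := fun n => A n ⊗[R] (Fin a → R)) (Y := fun n => A n ⊗[R] (Fin b → R))
      (TX := fun n m h => (T n m h).rTensor (Fin a → R))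
      (TY := fun n m h => (T n m h).rTensor (Fin b → R))
      (g := fun n => Am.lTensor (A n)) (hXc := hTc' _) (hXr := hTr' _)
      (hg := fun n m h x => (rTensor_lTensor_swap (T n m h) Am x).symm)
      (hArt := fun n => inferInstance)
      (fun n => (p n).rTensor (Fin b → R) z') (fun n m h => hp' _ n m h z')
      (fun m => ((hexn m) _).mp (hv0 m))
    have hu2 : ∀ n m (h : n ≤ m), (T n m h).rTensor (Fin a → R) (u m) = u n := hu
    have hu3 : ∀ n, Am.lTensor (A n) (u n) = (p n).rTensor (Fin b → R) z' := hu'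
    obtain ⟨z'', hz''⟩ := free_exist T p hpex u hu2
    have hzz : z' = Am.lTensor L z'' := by
      have : z' - Am.lTensor L z'' = 0 := by
        apply free_unique p hpext
        intro n
        rw [map_sub, rTensor_lTensor_swap, hz'', hu3, sub_self]
      exact sub_eq_zero.mp this
    rw [hzz, ← LinearMap.comp_apply, ← LinearMap.lTensor_comp]
    have : pr ∘ₗ Am = 0 := LinearMap.ext fun x => (hex (Am x)).mpr ⟨x, rfl⟩
    rw [this, LinearMap.lTensor_zero, LinearMap.zero_apply]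
  · intro y
    obtain ⟨v, hv, hv'⟩ := exists_thread_lift (R := R)
      (X := fun n => A n ⊗[R] (Fin b → R)) (Y := fun n => A n ⊗[R] N)
      (TX := fun n m h => (T n m h).rTensor (Fin b → R))
      (TY := fun n m h => (T n m h).rTensor N)
      (g := fun n => pr.lTensor (A n)) (hXc := hTc' _) (hXr := hTr' _)
      (hg := fun n m h x => (rTensor_lTensor_swap (T n m h) pr x).symm)
      (hArt := fun n => inferInstance)
      (fun n => q n y) (fun n m h => hq n m h y)
      (fun m => LinearMap.lTensor_surjective (A m) hprs (q m y))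
    have hv2 : ∀ n m (h : n ≤ m), (T n m h).rTensor (Fin b → R) (v m) = v n := hv
    have hv3 : ∀ n, pr.lTensor (A n) (v n) = q n y := hv'
    obtain ⟨z', hz'⟩ := free_exist T p hpex v hv2
    refine ⟨pr.lTensor L z', ?_⟩
    have : Φ (pr.lTensor L z') - y = 0 := by
      apply hqext
      intro n
      rw [map_sub, hΦ, rTensor_lTensor_swap, hz', hv3, sub_self]
    exact sub_eq_zero.mp this

end Core

section Cat

open CategoryTheory CategoryTheory.Limits Opposite MonoidalCategory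

variable {R : Type u} [CommRing R]

theorem limit_ext0 (F : ℕᵒᵖ ⥤ ModuleCat.{u} R) (x : ↑(limit F))
    (hx : ∀ n, (limit.π F (op n)).hom x = 0) : x = 0 := by
  apply Concrete.limit_ext F x 0
  intro j
  have h := hx j.unop
  rw [map_zero]
  exact h

theorem limit_exist (F : ℕᵒᵖ ⥤ ModuleCat.{u} R) (a : ∀ n, F.obj (op n))
    (ha : ∀ n m (h : n ≤ m), (F.map (homOfLE h).op).hom (a m) = a n) :
    ∃ x : ↑(limit F), ∀ n, (limit.π F (op n)).hom x = a n := by
  let t := isLimitOfPreserves (forget (ModuleCat.{u} R)) (limit.isLimit F)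
  let s : (F ⋙ forget (ModuleCat.{u} R)).sections :=
    ⟨fun j => a j.unop, by
      intro j j' f
      have h : j'.unop ≤ j.unop := leOfHom f.unop
      have hf : f = (homOfLE h).op := Quiver.Hom.unop_inj (Subsingleton.elim _ _)
      subst hf
      exact ha _ _ h⟩
  refine ⟨(Types.isLimitEquivSections t).symm s, ?_⟩
  intro n
  exact Types.isLimitEquivSections_symm_apply t s (op n)

theorem isIso_limit_post (M : ℕᵒᵖ ⥤ ModuleCat.{u} R)
    (hM : ∀ n : ℕᵒᵖ, IsFiniteLength R (M.obj n))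
    (N : Type u) [AddCommGroup N] [Module R N] [Module.FinitePresentation R N] :
    IsIso (limit.post M (tensorRight (ModuleCat.of R N))) := by
  rw [ConcreteCategory.isIso_iff_bijective]
  have iArt : ∀ n : ℕ, IsArtinian R (M.obj (op n)) := fun n =>
    ((isFiniteLength_iff_isNoetherian_isArtinian).mp (hM (op n))).2
  have hid : ∀ n : ℕ, (homOfLE (le_refl n)).op = 𝟙 (op n) := fun n =>
    Quiver.Hom.unop_inj (Subsingleton.elim _ _)
  have hcomp : ∀ (n m l : ℕ) (h : n ≤ m) (h' : m ≤ l),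
      (homOfLE (h.trans h')).op = (homOfLE h').op ≫ (homOfLE h).op := fun n m l h h' =>
    Quiver.Hom.unop_inj (Subsingleton.elim _ _)
  exact bijective_of_limit (R := R) (A := fun n => M.obj (op n))
    (fun n m h => (M.map (homOfLE h).op).hom)
    (fun n x => by
      show (M.map (homOfLE (le_refl n)).op).hom x = x
      rw [hid n, M.map_id]; rfl)
    (fun n m l h h' x => by
      show (M.map (homOfLE h).op).hom ((M.map (homOfLE h').op).hom x) =
        (M.map (homOfLE (h.trans h')).op).hom x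
      rw [hcomp n m l h h', M.map_comp]; rfl)
    (L := ↑(limit M)) (fun n => (limit.π M (op n)).hom)
    (fun n m h x => congrArg (fun f => f.hom x) (limit.w M (homOfLE h).op))
    (limit_ext0 M) (limit_exist M) N
    (L' := ↑(limit (M ⋙ tensorRight (ModuleCat.of R N))))
    (fun n => (limit.π (M ⋙ tensorRight (ModuleCat.of R N)) (op n)).hom)
    (fun n m h y => congrArg (fun f => f.hom y)
      (limit.w (M ⋙ tensorRight (ModuleCat.of R N)) (homOfLE h).op))
    (limit_ext0 (M ⋙ tensorRight (ModuleCat.of R N)))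
    (limit.post M (tensorRight (ModuleCat.of R N))).hom
    (fun n z => congrArg (fun f => f.hom z)
      (limit.post_π M (tensorRight (ModuleCat.of R N)) (op n)))

end Cat

end Groth.Agent.Helper6.LimTensor
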