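import Mathlib

set_option autoImplicit false
universe v₁ v₂ v₃ v₄ u₁ u₂ u₃ u₄
open CategoryTheory

namespace Groth.Agent.Helper6.MateLib

variable {𝒳 : Type u₁} [Category.{v₁} 𝒳] {𝒴 : Type u₂} [Category.{v₂} 𝒴]
  {𝒳' : Type u₃} [Category.{v₃} 𝒳'] {𝒴' : Type u₄} [Category.{v₄} 𝒴']
  {F : 𝒳 ⥤ 𝒴} {F' : 𝒳' ⥤ 𝒴'} {G : 𝒴' ⥤ 𝒴} {G' : 𝒳' ⥤ 𝒳} {a : 𝒴 ⥤ 𝒳} {a' : 𝒴' ⥤ 𝒳'}
  {L : 𝒴 ⥤ 𝒴'} {L' : 𝒳 ⥤ 𝒳'}
  (adj : F ⊣ a) (adj' : F' ⊣ a') (adjg : L ⊣ G) (adjg' : L' ⊣ G') (e : G' ⋙ F ≅ F' ⋙ G)

/-- abstract `ξ`. -/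
def xi (M : 𝒴') : G'.obj (a'.obj M) ⟶ a.obj (G.obj M) :=
  (adj.homEquiv _ _) (e.hom.app (a'.obj M) ≫ G.map (adj'.counit.app M))

/-- abstract base change map. -/
noncomputable def bcMap (K : 𝒴) (hξ : IsIso (xi adj adj' e (L.obj K))) :
    L'.obj (a.obj K) ⟶ a'.obj (L.obj K) :=
  haveI := hξ
  L'.map (a.map (adjg.unit.app K)) ≫ L'.map (inv (xi adj adj' e (L.obj K))) ≫
    adjg'.counit.app (a'.obj (L.obj K))

/-- abstract push base change. -/
def bcPush (K : 𝒳) : L.obj (F.obj K) ⟶ F'.obj (L'.obj K) :=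
  (adjg.homEquiv _ _).symm (F.map (adjg'.unit.app K) ≫ e.hom.app (L'.obj K))

theorem xi_counit (M : 𝒴') :
    F.map (xi adj adj' e M) ≫ adj.counit.app (G.obj M) =
      e.hom.app (a'.obj M) ≫ G.map (adj'.counit.app M) := by
  have := (adj.homEquiv _ _).symm_apply_apply (e.hom.app (a'.obj M) ≫ G.map (adj'.counit.app M))
  rw [Adjunction.homEquiv_counit] at this
  exact this

theorem unit_bcMap (K : 𝒴) (hξ : IsIso (xi adj adj' e (L.obj K))) :
    adjg'.unit.app (a.obj K) ≫ G'.map (bcMap adj adj' adjg adjg' e K hξ) =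
      a.map (adjg.unit.app K) ≫ (haveI := hξ; inv (xi adj adj' e (L.obj K))) := by
  have := hξ
  unfold bcMap
  simp only [Functor.map_comp, ← Category.assoc]
  have h1 := adjg'.unit.naturality (a.map (adjg.unit.app K))
  have h2 := adjg'.unit.naturality (inv (xi adj adj' e (L.obj K)))
  simp only [Functor.id_obj, Functor.id_map, Functor.comp_obj, Functor.comp_map] at h1 h2
  rw [← h1, Category.assoc (a.map _), ← h2]
  simp only [Category.assoc]
  rw [adjg'.right_triangle_components, Category.comp_id]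

theorem trace_compat (K : 𝒴) (hξ : IsIso (xi adj adj' e (L.obj K))) :
    bcPush adjg adjg' e (a.obj K) ≫ F'.map (bcMap adj adj' adjg adjg' e K hξ) ≫
      adj'.counit.app (L.obj K) = L.map (adj.counit.app K) := by
  have := hξ
  apply (adjg.homEquiv _ _).injective
  rw [Adjunction.homEquiv_naturality_right]
  unfold bcPush
  rw [Equiv.apply_symm_apply, Adjunction.homEquiv_unit]
  have hnat := e.hom.naturality (bcMap adj adj' adjg adjg' e K hξ)
  simp only [Functor.comp_obj, Functor.comp_map] at hnat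
  simp only [Functor.map_comp, Category.assoc]
  rw [← Category.assoc (e.hom.app _), ← hnat]
  simp only [Category.assoc]
  rw [← xi_counit adj adj' e (L.obj K)]
  have h5 : adjg'.unit.app (a.obj K) ≫ G'.map (bcMap adj adj' adjg adjg' e K hξ) ≫
      xi adj adj' e (L.obj K) = a.map (adjg.unit.app K) := by
    rw [← Category.assoc, unit_bcMap, Category.assoc, IsIso.inv_hom_id, Category.comp_id]
  have h6 : F.map (adjg'.unit.app (a.obj K)) ≫ F.map (G'.map (bcMap adj adj' adjg adjg' e K hξ)) ≫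
      F.map (xi adj adj' e (L.obj K)) = F.map (a.map (adjg.unit.app K)) := by
    rw [← F.map_comp, ← F.map_comp, h5]
  rw [reassoc_of% h6]
  have h3 := adj.counit.naturality (adjg.unit.app K)
  simp only [Functor.comp_obj, Functor.id_obj, Functor.comp_map, Functor.id_map] at h3
  rw [h3]
  have h4 := adjg.unit.naturality (adj.counit.app K)
  simp only [Functor.comp_obj, Functor.id_obj, Functor.comp_map, Functor.id_map] at h4
  exact h4

theorem xi_naturality {N N' : 𝒴'} (h : N ⟶ N') :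
    G'.map (a'.map h) ≫ xi adj adj' e N' = xi adj adj' e N ≫ a.map (G.map h) := by
  unfold xi
  rw [← Adjunction.homEquiv_naturality_left, ← Adjunction.homEquiv_naturality_right]
  congr 1
  have h1 := e.hom.naturality (a'.map h)
  simp only [Functor.comp_obj, Functor.comp_map] at h1
  rw [← Category.assoc, h1, Category.assoc, Category.assoc, ← G.map_comp, ← G.map_comp]
  have h2 := adj'.counit.naturality h
  simp only [Functor.comp_obj, Functor.id_obj, Functor.comp_map, Functor.id_map] at h2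
  rw [h2]

theorem unit_xi (P : 𝒳') :
    G'.map (adj'.unit.app P) ≫ xi adj adj' e (F'.obj P) =
      adj.unit.app (G'.obj P) ≫ a.map (e.hom.app P) := by
  unfold xi
  rw [Adjunction.homEquiv_unit]
  have h0 := adj.unit.naturality (G'.map (adj'.unit.app P))
  simp only [Functor.comp_obj, Functor.id_obj, Functor.comp_map, Functor.id_map] at h0
  rw [← Category.assoc, h0, Category.assoc, ← a.map_comp]
  congr 2
  have h1 := e.hom.naturality (adj'.unit.app P)
  simp only [Functor.comp_obj, Functor.comp_map, Functor.id_obj] at h1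
  rw [← Category.assoc, h1, Category.assoc, ← G.map_comp, adj'.left_triangle_components,
    G.map_id, Category.comp_id]

theorem unit_compat (M : 𝒳) (hξ : ∀ N : 𝒴', IsIso (xi adj adj' e N)) :
    adj'.unit.app (L'.obj M) = L'.map (adj.unit.app M) ≫
      bcMap adj adj' adjg adjg' e (F.obj M) (hξ _) ≫ a'.map (bcPush adjg adjg' e M) := by
  have := hξ (F'.obj (L'.obj M))
  have := hξ (L.obj (F.obj M))
  apply (adjg'.homEquiv _ _).injective
  rw [Adjunction.homEquiv_unit, Adjunction.homEquiv_unit]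
  rw [← cancel_mono (xi adj adj' e (F'.obj (L'.obj M)))]
  simp only [Functor.map_comp, Category.assoc]
  rw [unit_xi, xi_naturality]
  have h1 := adjg'.unit.naturality (adj.unit.app M)
  simp only [Functor.comp_obj, Functor.id_obj, Functor.comp_map, Functor.id_map] at h1
  rw [← Category.assoc (adjg'.unit.app M) (G'.map (L'.map _)), ← h1]
  simp only [Category.assoc]
  rw [← Category.assoc (adjg'.unit.app (a.obj (F.obj M))), unit_bcMap]
  simp only [Category.assoc, IsIso.inv_hom_id_assoc]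
  rw [← a.map_comp]
  have h2 : adjg.unit.app (F.obj M) ≫ G.map (bcPush adjg adjg' e M) =
      F.map (adjg'.unit.app M) ≫ e.hom.app (L'.obj M) := by
    refine (Adjunction.homEquiv_unit adjg _ _ _).symm.trans ?_
    unfold bcPush
    exact Equiv.apply_symm_apply (adjg.homEquiv (F.obj M) (F'.obj (L'.obj M))) _
  rw [h2, a.map_comp]
  have h3 := adj.unit.naturality (adjg'.unit.app M)
  simp only [Functor.comp_obj, Functor.id_obj, Functor.comp_map, Functor.id_map] at h3
  rw [← Category.assoc, h3, Category.assoc]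

end Groth.Agent.Helper6.MateLib
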