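import Mathlib
import Groth.Agent.Lib.Helper6.DualPrim

/-!
# Convolution dual of a commutative bialgebra: primitive elements (helper6)

`mulStar`, `Lhom`, `Rhom` (algebra maps from the convolution dual of `A` to that of `A ⊗ A`),
primitive elements (`ε`-derivations), the Leibniz rule for their convolution powers, and the
triangularity `δ^n (a^m) = 0` for `n < m`, `δ^m (a^m) = m! δ(a)^m` for `ε a = 0`.
-/

set_option autoImplicit false
universe u v w

namespace Groth.Agent.Helper6.MuAlpha

open TensorProduct WithConv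

section Bialg

variable {k : Type u} [CommRing k] {A : Type v} [CommRing A] [Bialgebra k A]

/-- evaluation at an element, as a linear functional on the convolution dual -/
noncomputable def evC {M : Type w} [AddCommGroup M] [Module k M] (m : M) :
    WithConv (M →ₗ[k] k) →ₗ[k] k :=
  (LinearMap.applyₗ m) ∘ₗ (WithConv.linearEquiv k (M →ₗ[k] k)).toLinearMap

theorem evC_apply {M : Type w} [AddCommGroup M] [Module k M] (m : M) (f : WithConv (M →ₗ[k] k)) :
    evC m f = f.ofConv m := rfl

/-- evaluation at `1`, an algebra map -/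
noncomputable def evOne : WithConv (A →ₗ[k] k) →ₐ[k] k :=
  AlgHom.ofLinearMap (evC (1 : A))
    (by
      show (1 : WithConv (A →ₗ[k] k)).ofConv 1 = 1
      rw [LinearMap.convOne_def, WithConv.ofConv_toConv, LinearMap.comp_apply,
        Bialgebra.counit_one, Algebra.linearMap_apply, map_one])
    (by
      intro f g
      show LinearMap.mul' k k (TensorProduct.map f.ofConv g.ofConv
        (Coalgebra.comul (R := k) (1 : A))) = f.ofConv 1 * g.ofConv 1
      rw [Bialgebra.comul_one, Algebra.TensorProduct.one_def, TensorProduct.map_tmul,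
        LinearMap.mul'_apply])

theorem evOne_apply (f : WithConv (A →ₗ[k] k)) : evOne f = f.ofConv 1 := rfl

/-- pullback along the multiplication `A ⊗ A → A` (a coalgebra map) -/
noncomputable def mulStar : WithConv (A →ₗ[k] k) →ₐ[k] WithConv (A ⊗[k] A →ₗ[k] k) :=
  AlgHom.ofLinearMap
    { toFun := fun f => toConv (f.ofConv ∘ₗ LinearMap.mul' k A)
      map_add' := fun f g => by
        apply WithConv.ofConv_injective
        simp only [WithConv.ofConv_add, LinearMap.add_comp]
      map_smul' := fun c f => by
        apply WithConv.ofConv_injective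
        simp only [WithConv.ofConv_smul, LinearMap.smul_comp, RingHom.id_apply] }
    (by
      apply WithConv.ofConv_injective
      apply TensorProduct.ext'
      intro a b
      show ((1 : WithConv (A →ₗ[k] k)).ofConv ∘ₗ LinearMap.mul' k A) (a ⊗ₜ[k] b) =
        (1 : WithConv (A ⊗[k] A →ₗ[k] k)).ofConv (a ⊗ₜ[k] b)
      simp only [LinearMap.convOne_def, WithConv.ofConv_toConv, LinearMap.comp_apply,
        LinearMap.mul'_apply, Algebra.linearMap_apply, Bialgebra.counit_mul,
        TensorProduct.counit_tmul]
      rw [smul_eq_mul, mul_comm])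
    (by
      intro f g
      apply WithConv.ofConv_injective
      exact LinearMap.convMul_comp_coalgHom_distrib f g (Bialgebra.mulCoalgHom k A))

/-- `f ↦ f ⊗ ε` -/
noncomputable def Lhom : WithConv (A →ₗ[k] k) →ₐ[k] WithConv (A ⊗[k] A →ₗ[k] k) :=
  AlgHom.ofLinearMap
    { toFun := fun f => toConv ((Algebra.TensorProduct.lmul' k (S := k)).toLinearMap ∘ₗ
        (TensorProduct.map f.ofConv (1 : WithConv (A →ₗ[k] k)).ofConv))
      map_add' := fun f g => by
        apply WithConv.ofConv_injective
        simp only [WithConv.ofConv_add, TensorProduct.map_add_left, LinearMap.comp_add]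
      map_smul' := fun c f => by
        apply WithConv.ofConv_injective
        simp only [WithConv.ofConv_smul, TensorProduct.map_smul_left, LinearMap.comp_smul,
          RingHom.id_apply] }
    (by
      apply WithConv.ofConv_injective
      apply TensorProduct.ext'
      intro a b
      show ((Algebra.TensorProduct.lmul' k (S := k)).toLinearMap ∘ₗ
        (TensorProduct.map (1 : WithConv (A →ₗ[k] k)).ofConv (1 : WithConv (A →ₗ[k] k)).ofConv))
          (a ⊗ₜ[k] b) = (1 : WithConv (A ⊗[k] A →ₗ[k] k)).ofConv (a ⊗ₜ[k] b)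
      simp only [LinearMap.convOne_def, WithConv.ofConv_toConv, LinearMap.comp_apply,
        TensorProduct.map_tmul, AlgHom.toLinearMap_apply, Algebra.TensorProduct.lmul'_apply_tmul,
        Algebra.linearMap_apply, TensorProduct.counit_tmul]
      simp [mul_comm])
    (by
      intro f g
      apply WithConv.ofConv_injective
      have h1 := LinearMap.algHom_comp_convMul_distrib (Algebra.TensorProduct.lmul' k (S := k))
        (toConv (TensorProduct.map f.ofConv (1 : WithConv (A →ₗ[k] k)).ofConv))
        (toConv (TensorProduct.map g.ofConv (1 : WithConv (A →ₗ[k] k)).ofConv))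
      rw [TensorProduct.map_convMul_map, mul_one] at h1
      exact h1)

/-- `f ↦ ε ⊗ f` -/
noncomputable def Rhom : WithConv (A →ₗ[k] k) →ₐ[k] WithConv (A ⊗[k] A →ₗ[k] k) :=
  AlgHom.ofLinearMap
    { toFun := fun f => toConv ((Algebra.TensorProduct.lmul' k (S := k)).toLinearMap ∘ₗ
        (TensorProduct.map (1 : WithConv (A →ₗ[k] k)).ofConv f.ofConv))
      map_add' := fun f g => by
        apply WithConv.ofConv_injective
        simp only [WithConv.ofConv_add, TensorProduct.map_add_right, LinearMap.comp_add]
      map_smul' := fun c f => by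
        apply WithConv.ofConv_injective
        simp only [WithConv.ofConv_smul, TensorProduct.map_smul_right, LinearMap.comp_smul,
          RingHom.id_apply] }
    (by
      apply WithConv.ofConv_injective
      apply TensorProduct.ext'
      intro a b
      show ((Algebra.TensorProduct.lmul' k (S := k)).toLinearMap ∘ₗ
        (TensorProduct.map (1 : WithConv (A →ₗ[k] k)).ofConv (1 : WithConv (A →ₗ[k] k)).ofConv))
          (a ⊗ₜ[k] b) = (1 : WithConv (A ⊗[k] A →ₗ[k] k)).ofConv (a ⊗ₜ[k] b)
      simp only [LinearMap.convOne_def, WithConv.ofConv_toConv, LinearMap.comp_apply,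
        TensorProduct.map_tmul, AlgHom.toLinearMap_apply, Algebra.TensorProduct.lmul'_apply_tmul,
        Algebra.linearMap_apply, TensorProduct.counit_tmul]
      simp [mul_comm])
    (by
      intro f g
      apply WithConv.ofConv_injective
      have h1 := LinearMap.algHom_comp_convMul_distrib (Algebra.TensorProduct.lmul' k (S := k))
        (toConv (TensorProduct.map (1 : WithConv (A →ₗ[k] k)).ofConv f.ofConv))
        (toConv (TensorProduct.map (1 : WithConv (A →ₗ[k] k)).ofConv g.ofConv))
      rw [TensorProduct.map_convMul_map, mul_one] at h1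
      exact h1)

theorem Lhom_apply (f : WithConv (A →ₗ[k] k)) (a b : A) :
    (Lhom f).ofConv (a ⊗ₜ[k] b) = f.ofConv a * Coalgebra.counit (R := k) b := rfl

theorem Rhom_apply (f : WithConv (A →ₗ[k] k)) (a b : A) :
    (Rhom f).ofConv (a ⊗ₜ[k] b) = Coalgebra.counit (R := k) a * f.ofConv b := rfl

theorem mulStar_apply (f : WithConv (A →ₗ[k] k)) (a b : A) :
    (mulStar f).ofConv (a ⊗ₜ[k] b) = f.ofConv (a * b) := rfl

theorem Lhom_mul_Rhom (f g : WithConv (A →ₗ[k] k)) :
    Lhom f * Rhom g = toConv ((Algebra.TensorProduct.lmul' k (S := k)).toLinearMap ∘ₗ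
      (TensorProduct.map f.ofConv g.ofConv)) := by
  apply WithConv.ofConv_injective
  have h1 := LinearMap.algHom_comp_convMul_distrib (Algebra.TensorProduct.lmul' k (S := k))
    (toConv (TensorProduct.map f.ofConv (1 : WithConv (A →ₗ[k] k)).ofConv))
    (toConv (TensorProduct.map (1 : WithConv (A →ₗ[k] k)).ofConv g.ofConv))
  rw [TensorProduct.map_convMul_map, mul_one, one_mul] at h1
  exact h1.symm

theorem Rhom_mul_Lhom (f g : WithConv (A →ₗ[k] k)) :
    Rhom g * Lhom f = toConv ((Algebra.TensorProduct.lmul' k (S := k)).toLinearMap ∘ₗ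
      (TensorProduct.map f.ofConv g.ofConv)) := by
  apply WithConv.ofConv_injective
  have h1 := LinearMap.algHom_comp_convMul_distrib (Algebra.TensorProduct.lmul' k (S := k))
    (toConv (TensorProduct.map (1 : WithConv (A →ₗ[k] k)).ofConv g.ofConv))
    (toConv (TensorProduct.map f.ofConv (1 : WithConv (A →ₗ[k] k)).ofConv))
  rw [TensorProduct.map_convMul_map, mul_one, one_mul] at h1
  exact h1.symm

theorem commute_Lhom_Rhom (f g : WithConv (A →ₗ[k] k)) : Commute (Lhom f) (Rhom g) := by
  unfold Commute SemiconjBy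
  rw [Lhom_mul_Rhom, Rhom_mul_Lhom]

theorem Lhom_mul_Rhom_apply (f g : WithConv (A →ₗ[k] k)) (a b : A) :
    (Lhom f * Rhom g).ofConv (a ⊗ₜ[k] b) = f.ofConv a * g.ofConv b := by
  rw [Lhom_mul_Rhom]
  rfl

/-- primitive elements of the dual: `ε`-derivations `A → k` -/
def IsPrim (δ : WithConv (A →ₗ[k] k)) : Prop :=
  ∀ a b : A, δ.ofConv (a * b) =
    δ.ofConv a * Coalgebra.counit (R := k) b + Coalgebra.counit (R := k) a * δ.ofConv b

theorem IsPrim.mulStar_eq {δ : WithConv (A →ₗ[k] k)} (h : IsPrim δ) :
    mulStar δ = Lhom δ + Rhom δ := by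
  apply WithConv.ofConv_injective
  apply TensorProduct.ext'
  intro a b
  rw [WithConv.ofConv_add, LinearMap.add_apply, mulStar_apply, Lhom_apply, Rhom_apply, h a b]

theorem IsPrim.one {δ : WithConv (A →ₗ[k] k)} (h : IsPrim δ) : δ.ofConv 1 = 0 := by
  have := h 1 1
  rw [mul_one, Bialgebra.counit_one, mul_one, one_mul] at this
  linear_combination -this

/-- the submodule of primitive elements -/
def primSub : Submodule k (WithConv (A →ₗ[k] k)) where
  carrier := {δ | IsPrim δ}
  add_mem' := by
    intro δ δ' h h' a b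
    rw [WithConv.ofConv_add, LinearMap.add_apply, LinearMap.add_apply, LinearMap.add_apply,
      h a b, h' a b]
    ring
  zero_mem' := by
    intro a b
    rw [WithConv.ofConv_zero, LinearMap.zero_apply, LinearMap.zero_apply, LinearMap.zero_apply]
    ring
  smul_mem' := by
    intro c δ h a b
    rw [WithConv.ofConv_smul, LinearMap.smul_apply, LinearMap.smul_apply, LinearMap.smul_apply,
      h a b, smul_eq_mul, smul_eq_mul, smul_eq_mul]
    ring

theorem mem_primSub {δ : WithConv (A →ₗ[k] k)} : δ ∈ primSub (k := k) (A := A) ↔ IsPrim δ :=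
  Iff.rfl

/-- Leibniz rule for convolution powers of a primitive element -/
theorem IsPrim.pow_mul {δ : WithConv (A →ₗ[k] k)} (h : IsPrim δ) (n : ℕ) (a b : A) :
    (δ ^ n).ofConv (a * b) = ∑ x ∈ Finset.HasAntidiagonal.antidiagonal n,
      (n.choose x.1 : k) * ((δ ^ x.1).ofConv a * (δ ^ x.2).ofConv b) := by
  have h1 : mulStar (δ ^ n) = ∑ x ∈ Finset.HasAntidiagonal.antidiagonal n,
      n.choose x.1 • (Lhom (δ ^ x.1) * Rhom (δ ^ x.2)) := by
    rw [map_pow, h.mulStar_eq, (commute_Lhom_Rhom δ δ).add_pow']
    simp only [map_pow]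
  have h2 := congrArg (evC (a ⊗ₜ[k] b)) h1
  rw [evC_apply, mulStar_apply, map_sum] at h2
  rw [h2]
  apply Finset.sum_congr rfl
  intro x _
  rw [map_nsmul, evC_apply, Lhom_mul_Rhom_apply, nsmul_eq_mul]

/-- in characteristic `p` the `p`-th convolution power of a primitive element is primitive -/
theorem IsPrim.pow_char {δ : WithConv (A →ₗ[k] k)} (h : IsPrim δ) (p : ℕ) [Fact p.Prime]
    [CharP k p] : IsPrim (δ ^ p) := by
  intro a b
  have h1 : mulStar (δ ^ p) = Lhom (δ ^ p) + Rhom (δ ^ p) := by
    rw [map_pow, h.mulStar_eq, map_pow, map_pow]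
    obtain ⟨r, hr⟩ := (commute_Lhom_Rhom δ δ).exists_add_pow_prime_eq (Fact.out : p.Prime)
    have hp0 : ((p : ℕ) : WithConv (A ⊗[k] A →ₗ[k] k)) = 0 := by
      rw [← map_natCast (algebraMap k (WithConv (A ⊗[k] A →ₗ[k] k))), CharP.cast_eq_zero, map_zero]
    rw [hr, hp0, zero_mul, zero_mul, zero_mul, add_zero]
  have h2 := congrArg (fun F : WithConv (A ⊗[k] A →ₗ[k] k) => F.ofConv (a ⊗ₜ[k] b)) h1
  exact h2

theorem pow_zero_apply (δ : WithConv (A →ₗ[k] k)) (a : A) :
    (δ ^ 0).ofConv a = Coalgebra.counit (R := k) a := by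
  rw [pow_zero, LinearMap.convOne_def, WithConv.ofConv_toConv, LinearMap.comp_apply,
    Algebra.linearMap_apply]
  rfl

/-- triangularity: for `ε a = 0`, `δ^n (a^m) = 0` for `n < m` and `δ^m (a^m) = m! δ(a)^m` -/
theorem IsPrim.tri {δ : WithConv (A →ₗ[k] k)} (h : IsPrim δ) {a : A}
    (ha : Coalgebra.counit (R := k) a = 0) (m : ℕ) :
    (∀ n < m, (δ ^ n).ofConv (a ^ m) = 0) ∧
      (δ ^ m).ofConv (a ^ m) = (m.factorial : k) * (δ.ofConv a) ^ m := by
  induction m with
  | zero =>
    refine ⟨fun n hn => absurd hn (Nat.not_lt_zero n), ?_⟩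
    rw [pow_zero_apply, pow_zero, pow_zero, Nat.factorial_zero, Nat.cast_one, mul_one,
      Bialgebra.counit_one]
  | succ m ih =>
    obtain ⟨ih1, ih2⟩ := ih
    have h0 : (δ ^ 0).ofConv a = 0 := by rw [pow_zero_apply, ha]
    constructor
    · intro n hn
      rw [pow_succ, h.pow_mul]
      apply Finset.sum_eq_zero
      intro x hx
      rw [Finset.HasAntidiagonal.mem_antidiagonal] at hx
      by_cases hx1 : x.1 < m
      · rw [ih1 _ hx1, zero_mul, mul_zero]
      · have hx2 : x.2 = 0 := by omega
        rw [hx2, h0, mul_zero, mul_zero]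
    · rw [pow_succ a, h.pow_mul, Finset.sum_eq_single (m, 1)]
      · show ((m + 1).choose m : k) * ((δ ^ m).ofConv (a ^ m) * (δ ^ 1).ofConv a) = _
        rw [ih2, pow_one, Nat.choose_succ_self_right, Nat.factorial_succ, pow_succ]
        push_cast
        ring
      · intro x hx hne
        rw [Finset.HasAntidiagonal.mem_antidiagonal] at hx
        by_cases hx1 : x.1 < m
        · rw [ih1 _ hx1, zero_mul, mul_zero]
        · have hx2 : x.2 = 0 := by
            by_contra h2
            apply hne
            exact Prod.ext (show x.1 = m by omega) (show x.2 = 1 by omega)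
          rw [hx2, h0, mul_zero, mul_zero]
      · intro hnot
        exact absurd (Finset.HasAntidiagonal.mem_antidiagonal.mpr (show (m, 1).1 + (m, 1).2 = m + 1 from rfl)) hnot

/-- `(φ ⊗ u) ⊗ (ψ ⊗ v)` applied to `Δ a` is `(φ * ψ)(a) • u ⊗ v` -/
theorem map_sum_smulRight_comul {B : Type w} [AddCommGroup B] [Module k B] {ι : Type*}
    (s : Finset ι) (φ : ι → WithConv (A →ₗ[k] k)) (b : ι → B) (a : A) :
    TensorProduct.map (∑ i ∈ s, (φ i).ofConv.smulRight (b i))
        (∑ i ∈ s, (φ i).ofConv.smulRight (b i)) (Coalgebra.comul (R := k) a) =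
      ∑ i ∈ s, ∑ j ∈ s, ((φ i * φ j).ofConv a) • (b i ⊗ₜ[k] b j) := by
  have key : ∀ z : A ⊗[k] A, TensorProduct.map (∑ i ∈ s, (φ i).ofConv.smulRight (b i))
        (∑ i ∈ s, (φ i).ofConv.smulRight (b i)) z =
      ∑ i ∈ s, ∑ j ∈ s, (LinearMap.mul' k k (TensorProduct.map (φ i).ofConv (φ j).ofConv z)) •
        (b i ⊗ₜ[k] b j) := by
    intro z
    induction z using TensorProduct.induction_on with
    | zero => simp
    | tmul x y =>
      rw [TensorProduct.map_tmul, LinearMap.sum_apply, LinearMap.sum_apply, TensorProduct.sum_tmul]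
      apply Finset.sum_congr rfl
      intro i _
      rw [TensorProduct.tmul_sum]
      apply Finset.sum_congr rfl
      intro j _
      rw [LinearMap.smulRight_apply, LinearMap.smulRight_apply, TensorProduct.smul_tmul_smul,
        TensorProduct.map_tmul, LinearMap.mul'_apply]
    | add x y hx hy =>
      rw [map_add, hx, hy, ← Finset.sum_add_distrib]
      apply Finset.sum_congr rfl
      intro i _
      rw [← Finset.sum_add_distrib]
      apply Finset.sum_congr rfl
      intro j _
      rw [map_add, map_add, add_smul]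
  rw [key]
  rfl

end Bialg

section Field

variable {k : Type u} [Field k]

/-- linearly independent functionals `φ i` and a basis `b i`: `a ↦ ∑ φ i a • b i` is onto -/
theorem surjective_of_linearIndependent {V : Type v} {B : Type w} {ι : Type*}
    [AddCommGroup V] [Module k V] [AddCommGroup B] [Module k B] [Fintype ι] [DecidableEq ι]
    (φ : ι → V →ₗ[k] k) (hφ : LinearIndependent k φ) (b : Module.Basis ι k B) :
    Function.Surjective (fun a : V => ∑ i, φ i a • b i) := by
  let T : V →ₗ[k] (ι → k) := LinearMap.pi φ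
  have hT : LinearMap.range T = ⊤ := by
    by_contra hne
    obtain ⟨f, hf0, hf⟩ := (LinearMap.range T).exists_le_ker_of_lt_top (lt_top_iff_ne_top.mpr hne)
    apply hf0
    have hc : ∑ i, (f fun j => if i = j then 1 else 0) • φ i = 0 := by
      apply LinearMap.ext
      intro a
      have h1 : f (T a) = 0 := hf (LinearMap.mem_range_self T a)
      rw [LinearMap.pi_apply_eq_sum_univ] at h1
      rw [LinearMap.sum_apply, LinearMap.zero_apply]
      refine Eq.trans ?_ h1
      apply Finset.sum_congr rfl
      intro i _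
      rw [LinearMap.smul_apply, smul_eq_mul, smul_eq_mul, mul_comm]
      rfl
    have hc' := Fintype.linearIndependent_iff.mp hφ _ hc
    apply LinearMap.ext
    intro w
    rw [LinearMap.pi_apply_eq_sum_univ, LinearMap.zero_apply]
    apply Finset.sum_eq_zero
    intro i _
    rw [hc' i, smul_zero]
  intro y
  have hy : (b.equivFun y) ∈ LinearMap.range T := hT ▸ Submodule.mem_top
  obtain ⟨a, ha⟩ := hy
  refine ⟨a, ?_⟩
  show ∑ i, φ i a • b i = y
  have h2 : ∀ i, φ i a = b.equivFun y i := fun i => congrFun ha i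
  simp only [h2]
  exact b.sum_equivFun y

end Field

end Groth.Agent.Helper6.MuAlpha
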