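import Mathlib
import Groth.Prelude.Def_AlphaP
import Groth.Agent.Lib.Helper6.MuAlpha1

/-!
# A primitive element `δ` of the dual with `δ^p = 0` gives a bialgebra map onto `α_p` (helper6)
-/

set_option autoImplicit false
universe u v

namespace Groth.Agent.Helper6.MuAlpha

open TensorProduct WithConv

/-- reindexing a truncated double sum along antidiagonals -/
theorem sum_range_range_eq {M : Type*} [AddCommMonoid M] (p : ℕ) (g : ℕ → ℕ → M)
    (hg : ∀ j l, p ≤ j + l → g j l = 0) :
    ∑ j ∈ Finset.range p, ∑ l ∈ Finset.range p, g j l =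
      ∑ n ∈ Finset.range p, ∑ x ∈ Finset.HasAntidiagonal.antidiagonal n, g x.1 x.2 := by
  rw [← Finset.sum_product', Finset.sum_sigma']
  symm
  refine Finset.sum_of_injOn (fun s => (s.2.1, s.2.2)) ?_ ?_ ?_ ?_
  · rintro ⟨n, j, l⟩ hs ⟨n', j', l'⟩ hs' heq
    simp only [Finset.coe_sigma, Set.mem_sigma_iff, Finset.mem_coe, Finset.mem_range,
      Finset.HasAntidiagonal.mem_antidiagonal] at hs hs'
    simp only [Prod.mk.injEq] at heq
    obtain ⟨rfl, rfl⟩ := heq
    have : n = n' := by omega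
    subst this
    rfl
  · rintro ⟨n, j, l⟩ hs
    simp only [Finset.coe_sigma, Set.mem_sigma_iff, Finset.mem_coe, Finset.mem_range,
      Finset.HasAntidiagonal.mem_antidiagonal] at hs
    simp only [Finset.coe_product, Set.mem_prod, Finset.mem_coe, Finset.mem_range]
    constructor <;> omega
  · rintro ⟨j, l⟩ hq hnot
    apply hg
    by_contra hlt
    push Not at hlt
    apply hnot
    refine ⟨⟨j + l, (j, l)⟩, ?_, rfl⟩
    simp only [Finset.coe_sigma, Set.mem_sigma_iff, Finset.mem_coe, Finset.mem_range,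
      Finset.HasAntidiagonal.mem_antidiagonal]
    exact ⟨hlt, trivial⟩
  · rintro ⟨n, j, l⟩ _
    rfl

section General

variable {k : Type u} [Field k] {A : Type v} [CommRing A] [Bialgebra k A]

/-- a nonzero primitive element takes the value `1` on some element of the augmentation ideal -/
theorem exists_dual_elt (δ : WithConv (A →ₗ[k] k)) (hδ : IsPrim δ) (hne : δ ≠ 0) :
    ∃ a : A, Coalgebra.counit (R := k) a = 0 ∧ δ.ofConv a = 1 := by
  have h1 : ∃ a₀ : A, δ.ofConv a₀ ≠ 0 := by
    by_contra hcon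
    push Not at hcon
    apply hne
    apply WithConv.ofConv_injective
    apply LinearMap.ext
    intro a
    rw [hcon a]
    rfl
  obtain ⟨a₀, ha₀⟩ := h1
  have hc : δ.ofConv (algebraMap k A (Coalgebra.counit (R := k) a₀)) = 0 := by
    rw [Algebra.algebraMap_eq_smul_one, map_smul, hδ.one, smul_zero]
  refine ⟨(δ.ofConv a₀)⁻¹ • (a₀ - algebraMap k A (Coalgebra.counit (R := k) a₀)), ?_, ?_⟩
  · rw [map_smul, map_sub, Bialgebra.counit_algebraMap, sub_self, smul_zero]
  · rw [map_smul, map_sub, hc, sub_zero, smul_eq_mul, inv_mul_cancel₀ ha₀]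

theorem pow_apply_one (δ : WithConv (A →ₗ[k] k)) (hδ : IsPrim δ) (n : ℕ) :
    (δ ^ n).ofConv 1 = if n = 0 then 1 else 0 := by
  have h1 : (δ ^ n).ofConv 1 = (δ.ofConv 1) ^ n := by
    rw [← evOne_apply, map_pow, evOne_apply]
  rw [h1, hδ.one]
  split_ifs with h
  · rw [h, pow_zero]
  · exact zero_pow h

end General

section Alpha

variable {k : Type u} [Field k] (p : ℕ) [hp : Fact p.Prime] [CharP k p]
  {A : Type v} [CommRing A] [Bialgebra k A]

include hp in
theorem factorial_ne_zero_of_lt {n : ℕ} (hn : n < p) : (n.factorial : k) ≠ 0 := by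
  rw [Ne, CharP.cast_eq_zero_iff k p, hp.out.dvd_factorial]
  omega

include hp in
theorem inv_factorial_mul_choose {j l : ℕ} (h : j + l < p) :
    ((j + l).factorial : k)⁻¹ * ((j + l).choose j : k) =
      (j.factorial : k)⁻¹ * (l.factorial : k)⁻¹ := by
  have h1 := factorial_ne_zero_of_lt (k := k) p h
  have h2 := factorial_ne_zero_of_lt (k := k) p (show j < p by omega)
  have h3 := factorial_ne_zero_of_lt (k := k) p (show l < p by omega)
  have h4 : ((j + l).choose j : k) * (j.factorial : k) * (l.factorial : k) =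
      ((j + l).factorial : k) := by
    have := Nat.add_choose_mul_factorial_mul_factorial j l
    rw [← Nat.choose_symm_add] at this
    have h4' := congrArg (Nat.cast : ℕ → k) this
    push_cast at h4'
    exact h4'
  rw [← h4]
  have h5 : ((j + l).choose j : k) ≠ 0 := by
    intro h0
    rw [h0, zero_mul, zero_mul] at h4
    exact h1 h4.symm
  field_simp

/-- coefficient functionals `δ^n / n!` -/
noncomputable def Fc (δ : WithConv (A →ₗ[k] k)) (n : ℕ) : WithConv (A →ₗ[k] k) :=
  ((n.factorial : k)⁻¹) • δ ^ n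

theorem Fc_apply (δ : WithConv (A →ₗ[k] k)) (n : ℕ) (a : A) :
    (Fc δ n).ofConv a = (n.factorial : k)⁻¹ * (δ ^ n).ofConv a := rfl

theorem Fc_mul (δ : WithConv (A →ₗ[k] k)) (i j : ℕ) :
    Fc δ i * Fc δ j = ((i.factorial : k)⁻¹ * (j.factorial : k)⁻¹) • δ ^ (i + j) := by
  rw [Fc, Fc, smul_mul_smul_comm, ← pow_add]

/-- the linear map `a ↦ ∑_{n<p} (δ^n/n!)(a) x^n` -/
noncomputable def toAlphaLin (δ : WithConv (A →ₗ[k] k)) : A →ₗ[k] AlphaP.A p k :=
  ∑ n ∈ Finset.range p, (Fc δ n).ofConv.smulRight (AlphaP.x p k ^ n)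

theorem toAlphaLin_apply (δ : WithConv (A →ₗ[k] k)) (a : A) :
    toAlphaLin p δ a = ∑ n ∈ Finset.range p, (Fc δ n).ofConv a • AlphaP.x p k ^ n := by
  rw [toAlphaLin, LinearMap.sum_apply]
  rfl

include hp in
theorem toAlphaLin_one (δ : WithConv (A →ₗ[k] k)) (hδ : IsPrim δ) : toAlphaLin p δ 1 = 1 := by
  rw [toAlphaLin_apply, Finset.sum_eq_single 0]
  · rw [Fc_apply, pow_apply_one δ hδ, if_pos rfl, Nat.factorial_zero, Nat.cast_one, inv_one,
      one_mul, pow_zero, one_smul]
  · intro n _ hn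
    rw [Fc_apply, pow_apply_one δ hδ, if_neg hn, mul_zero, zero_smul]
  · intro h
    exact absurd (Finset.mem_range.mpr hp.out.pos) h

include hp in
theorem toAlphaLin_mul (δ : WithConv (A →ₗ[k] k)) (hδ : IsPrim δ) (a b : A) :
    toAlphaLin p δ (a * b) = toAlphaLin p δ a * toAlphaLin p δ b := by
  rw [toAlphaLin_apply, toAlphaLin_apply, toAlphaLin_apply, Finset.sum_mul_sum]
  have hRL := sum_range_range_eq p
    (fun j l => ((Fc δ j).ofConv a • AlphaP.x p k ^ j) * ((Fc δ l).ofConv b • AlphaP.x p k ^ l))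
    (by
      intro j l hjl
      rw [smul_mul_smul_comm, ← pow_add, AlphaP.x_pow_of_le p k hjl, smul_zero])
  rw [hRL]
  apply Finset.sum_congr rfl
  intro n hn
  rw [Finset.mem_range] at hn
  have h1 : ∀ x ∈ Finset.HasAntidiagonal.antidiagonal n,
      ((Fc δ x.1).ofConv a • AlphaP.x p k ^ x.1) * ((Fc δ x.2).ofConv b • AlphaP.x p k ^ x.2) =
        ((Fc δ x.1).ofConv a * (Fc δ x.2).ofConv b) • AlphaP.x p k ^ n := by
    intro x hx
    rw [Finset.HasAntidiagonal.mem_antidiagonal] at hx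
    rw [smul_mul_smul_comm, ← pow_add, hx]
  rw [Finset.sum_congr rfl h1, ← Finset.sum_smul]
  congr 1
  rw [Fc_apply, hδ.pow_mul, Finset.mul_sum]
  apply Finset.sum_congr rfl
  intro x hx
  rw [Finset.HasAntidiagonal.mem_antidiagonal] at hx
  subst hx
  have h2 := inv_factorial_mul_choose (k := k) p hn
  rw [Fc_apply, Fc_apply]
  linear_combination ((δ ^ x.1).ofConv a * (δ ^ x.2).ofConv b) * h2

include hp in
theorem counit_toAlphaLin (δ : WithConv (A →ₗ[k] k)) (a : A) :
    Coalgebra.counit (R := k) (toAlphaLin p δ a) = Coalgebra.counit (R := k) a := by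
  rw [toAlphaLin_apply, map_sum, Finset.sum_eq_single 0]
  · rw [map_smul, pow_zero, Bialgebra.counit_one, Fc_apply, pow_zero_apply, Nat.factorial_zero,
      Nat.cast_one, inv_one, one_mul, smul_eq_mul, mul_one]
  · intro n _ hn
    rw [map_smul, ← Bialgebra.counitAlgHom_apply, map_pow, Bialgebra.counitAlgHom_apply,
      AlphaP.counit_x, zero_pow hn, smul_zero]
  · intro h
    exact absurd (Finset.mem_range.mpr hp.out.pos) h

include hp in
theorem comul_toAlphaLin (δ : WithConv (A →ₗ[k] k)) (hδp : δ ^ p = 0) (a : A) :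
    TensorProduct.map (toAlphaLin p δ) (toAlphaLin p δ) (Coalgebra.comul (R := k) a) =
      Coalgebra.comul (R := k) (toAlphaLin p δ a) := by
  rw [toAlphaLin_apply, toAlphaLin, map_sum_smulRight_comul]
  have hRL := sum_range_range_eq p
    (fun i j => ((Fc δ i * Fc δ j).ofConv a) • ((AlphaP.x p k ^ i) ⊗ₜ[k] (AlphaP.x p k ^ j)))
    (by
      intro i j hij
      obtain ⟨d, hd⟩ := Nat.exists_eq_add_of_le hij
      rw [Fc_mul, hd, pow_add, hδp, zero_mul, smul_zero, WithConv.ofConv_zero,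
        LinearMap.zero_apply, zero_smul])
  rw [hRL, map_sum]
  apply Finset.sum_congr rfl
  intro n hn
  rw [Finset.mem_range] at hn
  rw [map_smul, ← Bialgebra.comulAlgHom_apply, map_pow, Bialgebra.comulAlgHom_apply,
    AlphaP.comul_x, (Commute.all _ _).add_pow', Finset.smul_sum]
  apply Finset.sum_congr rfl
  intro x hx
  rw [Finset.HasAntidiagonal.mem_antidiagonal] at hx
  subst hx
  rw [Algebra.TensorProduct.tmul_pow, Algebra.TensorProduct.tmul_pow, one_pow, one_pow,
    Algebra.TensorProduct.tmul_mul_tmul, mul_one, one_mul,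
    show ∀ (n : ℕ) (y : AlphaP.A p k ⊗[k] AlphaP.A p k), n • y = (n : k) • y from
      fun n y => (Nat.cast_smul_eq_nsmul k n y).symm, smul_smul]
  congr 1
  rw [Fc_mul, Fc_apply]
  have h2 := inv_factorial_mul_choose (k := k) p hn
  show ((x.1.factorial : k)⁻¹ * (x.2.factorial : k)⁻¹) * (δ ^ (x.1 + x.2)).ofConv a = _
  linear_combination (-(δ ^ (x.1 + x.2)).ofConv a) * h2

/-- the bialgebra map `A → α_p` attached to a primitive `δ` with `δ^p = 0` -/
noncomputable def toAlpha (δ : WithConv (A →ₗ[k] k)) (hδ : IsPrim δ) (hδp : δ ^ p = 0) :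
    A →ₐc[k] AlphaP.A p k :=
  { toAlphaLin p δ with
    counit_comp := LinearMap.ext fun a => counit_toAlphaLin p δ a
    map_comp_comul := LinearMap.ext fun a => comul_toAlphaLin p δ hδp a
    map_one' := toAlphaLin_one p δ hδ
    map_mul' := toAlphaLin_mul p δ hδ }

theorem toAlpha_apply (δ : WithConv (A →ₗ[k] k)) (hδ : IsPrim δ) (hδp : δ ^ p = 0) (a : A) :
    toAlpha p δ hδ hδp a = toAlphaLin p δ a := rfl

include hp in
theorem linearIndependent_Fc (δ : WithConv (A →ₗ[k] k)) (hδ : IsPrim δ) (hne : δ ≠ 0) :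
    LinearIndependent k (fun n : Fin p => (Fc δ (n : ℕ)).ofConv) := by
  classical
  obtain ⟨a, ha0, ha1⟩ := exists_dual_elt δ hδ hne
  rw [Fintype.linearIndependent_iff]
  intro g hsum
  by_contra hcon
  push Not at hcon
  have hS : (Finset.univ.filter (fun i : Fin p => g i ≠ 0)).Nonempty := by
    obtain ⟨i, hi⟩ := hcon
    exact ⟨i, Finset.mem_filter.mpr ⟨Finset.mem_univ _, hi⟩⟩
  set m := (Finset.univ.filter (fun i : Fin p => g i ≠ 0)).max' hS with hm
  have hm1 : g m ≠ 0 := (Finset.mem_filter.mp (Finset.max'_mem _ hS)).2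
  have hm2 : ∀ i : Fin p, g i ≠ 0 → i ≤ m := fun i hi =>
    Finset.le_max' _ i (Finset.mem_filter.mpr ⟨Finset.mem_univ _, hi⟩)
  have h1 := congrArg (fun f : A →ₗ[k] k => f (a ^ (m : ℕ))) hsum
  simp only [LinearMap.sum_apply, LinearMap.smul_apply, LinearMap.zero_apply] at h1
  rw [Finset.sum_eq_single m] at h1
  · apply hm1
    have h2 := (hδ.tri ha0 (m : ℕ)).2
    rw [Fc_apply, h2, ha1, one_pow, mul_one,
      inv_mul_cancel₀ (factorial_ne_zero_of_lt (k := k) p m.2), smul_eq_mul, mul_one] at h1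
    exact h1
  · intro i _ hi
    by_cases hlt : i < m
    · rw [Fc_apply, (hδ.tri ha0 (m : ℕ)).1 (i : ℕ) hlt, mul_zero, smul_zero]
    · have : g i = 0 := by
        by_contra hgi
        exact hlt (lt_of_le_of_ne (hm2 i hgi) hi)
      rw [this, zero_smul]
  · intro h
    exact absurd (Finset.mem_univ _) h

include hp in
theorem toAlpha_surjective (δ : WithConv (A →ₗ[k] k)) (hδ : IsPrim δ) (hδp : δ ^ p = 0)
    (hne : δ ≠ 0) : Function.Surjective (toAlpha p δ hδ hδp) := by
  have hs := surjective_of_linearIndependent (fun n : Fin p => (Fc δ (n : ℕ)).ofConv)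
    (linearIndependent_Fc p δ hδ hne) (AlphaP.basis p k)
  intro y
  obtain ⟨a', ha'⟩ := hs y
  refine ⟨a', ?_⟩
  rw [toAlpha_apply, toAlphaLin_apply, ← ha',
    ← Fin.sum_univ_eq_sum_range (fun n => (Fc δ n).ofConv a' • AlphaP.x p k ^ n) p]
  apply Finset.sum_congr rfl
  intro i _
  rw [AlphaP.basis_apply]

end Alpha

end Groth.Agent.Helper6.MuAlpha
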