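import Mathlib
import Groth.Agent.Lib.Helper6.MuAlpha2

/-!
# A primitive element `δ` of the dual with `δ^p = δ` gives a bialgebra map onto `k[ℤ/p]` (helper6)
-/

set_option autoImplicit false
universe u v w

namespace Groth.Agent.Helper6.MuAlpha

open TensorProduct WithConv

section Idem

variable {k : Type u} [Field k] (p : ℕ) [hp : Fact p.Prime] [CharP k p]

/-- the embedding `𝔽_p → k` -/
noncomputable def vkHom : ZMod p →+* k := ZMod.castHom (dvd_refl p) k

theorem one_sub_pow_eq_ite (i j : ZMod p) :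
    (1 : k) - (vkHom (k := k) p j - vkHom p i) ^ (p - 1) = if i = j then 1 else 0 := by
  have hp1 : p - 1 ≠ 0 := by
    have := hp.out.two_le
    omega
  rw [← map_sub, ← map_pow]
  by_cases h : i = j
  · subst h
    rw [sub_self, zero_pow hp1, map_zero, sub_zero, if_pos rfl]
  · have h1 : j - i ≠ 0 := sub_ne_zero.mpr (Ne.symm h)
    rw [ZMod.pow_card_sub_one_eq_one h1, map_one, sub_self, if_neg h]

/-- the polynomial `1 - (X - i)^(p-1)` -/
noncomputable def qpoly (i : ZMod p) : Polynomial k :=
  1 - (Polynomial.X - Polynomial.C (vkHom (k := k) p i)) ^ (p - 1)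

theorem eval_qpoly (i j : ZMod p) :
    (qpoly (k := k) p i).eval (vkHom p j) = if i = j then 1 else 0 := by
  rw [qpoly, Polynomial.eval_sub, Polynomial.eval_one, Polynomial.eval_pow, Polynomial.eval_sub,
    Polynomial.eval_X, Polynomial.eval_C, one_sub_pow_eq_ite]

theorem degree_qpoly_lt (i : ZMod p) : (qpoly (k := k) p i).degree < p := by
  have h1 : (qpoly (k := k) p i).degree ≤ ((p - 1 : ℕ) : WithBot ℕ) := by
    rw [qpoly]
    refine (Polynomial.degree_sub_le _ _).trans (max_le ?_ ?_)
    · rw [Polynomial.degree_one]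
      exact_mod_cast Nat.zero_le _
    · refine (Polynomial.degree_pow_le _ _).trans ?_
      rw [Polynomial.degree_X_sub_C]
      simp
  refine lt_of_le_of_lt h1 ?_
  exact_mod_cast Nat.sub_lt hp.out.pos one_pos

theorem qpoly_ne_zero (i : ZMod p) : qpoly (k := k) p i ≠ 0 := by
  intro h
  have := eval_qpoly (k := k) p i i
  rw [h, Polynomial.eval_zero, if_pos rfl] at this
  exact zero_ne_one this

theorem sum_qpoly : ∑ i : ZMod p, qpoly (k := k) p i = 1 := by
  have hinj : Set.InjOn (vkHom (k := k) p) (Finset.univ : Finset (ZMod p)) :=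
    (RingHom.injective _).injOn
  have hcard : (Finset.univ : Finset (ZMod p)).card = p := by
    rw [Finset.card_univ, ZMod.card]
  apply Polynomial.eq_of_degrees_lt_of_eval_index_eq (s := Finset.univ) (v := vkHom (k := k) p) hinj
  · rw [hcard]
    refine lt_of_le_of_lt (Polynomial.degree_sum_le _ _) ?_
    rw [Finset.sup_lt_iff (by exact_mod_cast WithBot.bot_lt_coe p)]
    intro i _
    exact degree_qpoly_lt p i
  · rw [hcard, Polynomial.degree_one]
    exact_mod_cast hp.out.pos
  · intro j _
    rw [Polynomial.eval_finset_sum, Polynomial.eval_one]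
    simp only [eval_qpoly]
    rw [Finset.sum_ite_eq' Finset.univ j, if_pos (Finset.mem_univ _)]

variable {R : Type w} [Ring R] [Algebra k R]

/-- the spectral idempotent `1 - (z - i)^(p-1)` -/
noncomputable def Eid (z : R) (i : ZMod p) : R :=
  1 - (z - algebraMap k R (vkHom p i)) ^ (p - 1)

theorem aeval_qpoly (z : R) (i : ZMod p) : Polynomial.aeval z (qpoly (k := k) p i) = Eid (k := k) p z i := by
  rw [qpoly, Eid, map_sub, map_one, map_pow, map_sub, Polynomial.aeval_X, Polynomial.aeval_C]

theorem sum_Eid (z : R) : ∑ i : ZMod p, Eid (k := k) p z i = 1 := by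
  have h := congrArg (Polynomial.aeval z) (sum_qpoly (k := k) p)
  rw [map_sum, map_one] at h
  rw [← h]
  apply Finset.sum_congr rfl
  intro i _
  rw [aeval_qpoly]

theorem map_Eid {R' : Type*} [Ring R'] [Algebra k R'] (φ : R →ₐ[k] R') (z : R) (i : ZMod p) :
    φ (Eid (k := k) p z i) = Eid (k := k) p (φ z) i := by
  rw [Eid, Eid, map_sub, map_one, map_pow, map_sub, AlgHom.commutes]

theorem Eid_mul_of_eigen {z w : R} {c : k} (h : z * w = c • w) (i : ZMod p) :
    Eid (k := k) p z i * w = (1 - (c - vkHom p i) ^ (p - 1)) • w := by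
  have h1 : ∀ n : ℕ, (z - algebraMap k R (vkHom p i)) ^ n * w = ((c - vkHom p i) ^ n) • w := by
    intro n
    induction n with
    | zero => rw [pow_zero, pow_zero, one_mul, one_smul]
    | succ n ih =>
      rw [pow_succ, mul_assoc, sub_mul, h, ← Algebra.smul_def, ← sub_smul, mul_smul_comm, ih,
        smul_smul, pow_succ']
  rw [Eid, sub_mul, one_mul, h1, sub_smul, one_smul]

theorem mul_Eid_self {z : R} (hz : z ^ p = z) (i : ZMod p) :
    z * Eid (k := k) p z i = vkHom (k := k) p i • Eid (k := k) p z i := by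
  rcases subsingleton_or_nontrivial R with hR | hR
  · exact Subsingleton.elim _ _
  · have : CharP R p := charP_of_injective_algebraMap (algebraMap k R).injective p
    have hp1 : p - 1 + 1 = p := Nat.sub_add_cancel hp.out.pos
    have hc : (algebraMap k R (vkHom p i)) ^ p = algebraMap k R (vkHom p i) := by
      rw [← map_pow, ← map_pow, ZMod.pow_card]
    have h0 : (z - algebraMap k R (vkHom p i)) * Eid (k := k) p z i = 0 := by
      rw [Eid, mul_sub, mul_one, ← pow_succ', hp1,
        sub_pow_char_of_commute p (Algebra.commute_algebraMap_right _ z), hz, hc, sub_self]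
    rw [sub_mul, sub_eq_zero] at h0
    rw [h0, Algebra.smul_def]

theorem Eid_mul_Eid {z : R} (hz : z ^ p = z) (i j : ZMod p) :
    Eid (k := k) p z i * Eid (k := k) p z j = if i = j then Eid (k := k) p z j else 0 := by
  rw [Eid_mul_of_eigen p (mul_Eid_self p hz j) i, one_sub_pow_eq_ite]
  split_ifs
  · rw [one_smul]
  · rw [zero_smul]

theorem commute_Eid {y x : R} (h : Commute y x) (j : ZMod p) : Commute y (Eid (k := k) p x j) := by
  rw [Eid]
  exact (Commute.one_right y).sub_right
    ((h.sub_right (Algebra.commute_algebraMap_right _ y)).pow_right _)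

theorem Eid_add {x y : R} (hxy : Commute x y) (hx : x ^ p = x) (hy : y ^ p = y) (i : ZMod p) :
    Eid (k := k) p (x + y) i = ∑ j : ZMod p, Eid (k := k) p x j * Eid (k := k) p y (i - j) := by
  have hw : ∀ j l : ZMod p, Eid (k := k) p (x + y) i * (Eid (k := k) p x j * Eid (k := k) p y l) =
      if i = j + l then Eid (k := k) p x j * Eid (k := k) p y l else 0 := by
    intro j l
    have h1 : (x + y) * (Eid (k := k) p x j * Eid (k := k) p y l) =
        (vkHom (k := k) p j + vkHom p l) • (Eid (k := k) p x j * Eid (k := k) p y l) := by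
      rw [add_mul, ← mul_assoc, mul_Eid_self p hx j, ← mul_assoc,
        (commute_Eid p hxy.symm j).eq, mul_assoc, mul_Eid_self p hy l, smul_mul_assoc,
        mul_smul_comm, add_smul]
    rw [Eid_mul_of_eigen p h1 i, ← map_add, one_sub_pow_eq_ite]
    split_ifs
    · rw [one_smul]
    · rw [zero_smul]
  calc Eid (k := k) p (x + y) i
      = Eid (k := k) p (x + y) i *
          ((∑ j : ZMod p, Eid (k := k) p x j) * (∑ l : ZMod p, Eid (k := k) p y l)) := by
        rw [sum_Eid, sum_Eid, mul_one, mul_one]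
    _ = ∑ j : ZMod p, ∑ l : ZMod p,
          Eid (k := k) p (x + y) i * (Eid (k := k) p x j * Eid (k := k) p y l) := by
        rw [Finset.sum_mul_sum, Finset.mul_sum]
        apply Finset.sum_congr rfl
        intro j _
        rw [Finset.mul_sum]
    _ = ∑ j : ZMod p, Eid (k := k) p x j * Eid (k := k) p y (i - j) := by
        apply Finset.sum_congr rfl
        intro j _
        rw [Finset.sum_eq_single (i - j)]
        · rw [hw, if_pos (by rw [add_sub_cancel])]
        · intro l _ hl
          rw [hw, if_neg]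
          intro h
          apply hl
          rw [h, add_sub_cancel_left]
        · intro h
          exact absurd (Finset.mem_univ _) h

end Idem

section Mu

variable {k : Type u} [Field k] (p : ℕ) [hp : Fact p.Prime] [CharP k p]
  {A : Type v} [CommRing A] [Bialgebra k A]

/-- the group-like basis element `g^i` of `k[ℤ/p]` -/
noncomputable def gp (i : ZMod p) : MonoidAlgebra k (Multiplicative (ZMod p)) :=
  MonoidAlgebra.single (Multiplicative.ofAdd i) 1

theorem gp_mul (i j : ZMod p) : gp (k := k) p i * gp p j = gp p (i + j) := by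
  rw [gp, gp, gp, MonoidAlgebra.single_mul_single, mul_one, ofAdd_add]

theorem gp_zero : gp (k := k) p 0 = 1 := by
  rw [gp, ofAdd_zero, MonoidAlgebra.one_def]

/-- the linear map `a ↦ ∑_i E_i(δ)(a) g^i` -/
noncomputable def toMuLin (δ : WithConv (A →ₗ[k] k)) :
    A →ₗ[k] MonoidAlgebra k (Multiplicative (ZMod p)) :=
  ∑ i : ZMod p, (Eid (k := k) p δ i).ofConv.smulRight (gp p i)

theorem toMuLin_apply (δ : WithConv (A →ₗ[k] k)) (a : A) :
    toMuLin p δ a = ∑ i : ZMod p, (Eid (k := k) p δ i).ofConv a • gp (k := k) p i := by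
  rw [toMuLin, LinearMap.sum_apply]
  rfl

theorem Eid_apply_one (δ : WithConv (A →ₗ[k] k)) (hδ : IsPrim δ) (i : ZMod p) :
    (Eid (k := k) p δ i).ofConv 1 = if i = 0 then 1 else 0 := by
  rw [← evOne_apply, map_Eid, evOne_apply, hδ.one, Eid, Algebra.algebraMap_self, RingHom.id_apply]
  have h := one_sub_pow_eq_ite (k := k) p i 0
  rw [map_zero] at h
  exact h

theorem toMuLin_one (δ : WithConv (A →ₗ[k] k)) (hδ : IsPrim δ) : toMuLin p δ 1 = 1 := by
  rw [toMuLin_apply]
  simp only [Eid_apply_one p δ hδ, ite_smul, one_smul, zero_smul]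
  rw [Finset.sum_ite_eq' Finset.univ (0 : ZMod p), if_pos (Finset.mem_univ _), gp_zero]

theorem Eid_apply_mul (δ : WithConv (A →ₗ[k] k)) (hδ : IsPrim δ) (hδp : δ ^ p = δ) (i : ZMod p)
    (a b : A) :
    (Eid (k := k) p δ i).ofConv (a * b) =
      ∑ j : ZMod p, (Eid (k := k) p δ j).ofConv a * (Eid (k := k) p δ (i - j)).ofConv b := by
  have h1 : mulStar (Eid (k := k) p δ i) =
      ∑ j : ZMod p, Lhom (Eid (k := k) p δ j) * Rhom (Eid (k := k) p δ (i - j)) := by
    rw [map_Eid, hδ.mulStar_eq,
      Eid_add p (commute_Lhom_Rhom δ δ) (by rw [← map_pow, hδp]) (by rw [← map_pow, hδp])]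
    apply Finset.sum_congr rfl
    intro j _
    rw [map_Eid, map_Eid]
  have h2 := congrArg (evC (a ⊗ₜ[k] b)) h1
  rw [evC_apply, mulStar_apply, map_sum] at h2
  rw [h2]
  apply Finset.sum_congr rfl
  intro j _
  rw [evC_apply, Lhom_mul_Rhom_apply]

theorem toMuLin_mul (δ : WithConv (A →ₗ[k] k)) (hδ : IsPrim δ) (hδp : δ ^ p = δ) (a b : A) :
    toMuLin p δ (a * b) = toMuLin p δ a * toMuLin p δ b := by
  rw [toMuLin_apply, toMuLin_apply, toMuLin_apply, Finset.sum_mul_sum]
  simp only [Eid_apply_mul p δ hδ hδp, Finset.sum_smul]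
  rw [Finset.sum_comm]
  apply Finset.sum_congr rfl
  intro j _
  refine (Fintype.sum_equiv (Equiv.addLeft j) _ _ (fun l => ?_)).symm
  rw [Equiv.coe_addLeft, add_sub_cancel_left, smul_mul_smul_comm, gp_mul]

theorem counit_gp (i : ZMod p) : Coalgebra.counit (R := k) (gp (k := k) p i) = 1 := by
  rw [gp, MonoidAlgebra.counit_single]
  rfl

theorem comul_gp (i : ZMod p) :
    Coalgebra.comul (R := k) (gp (k := k) p i) = gp (k := k) p i ⊗ₜ[k] gp (k := k) p i := by
  rw [gp]
  simp

theorem counit_toMuLin (δ : WithConv (A →ₗ[k] k)) (a : A) :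
    Coalgebra.counit (R := k) (toMuLin p δ a) = Coalgebra.counit (R := k) a := by
  rw [toMuLin_apply, map_sum]
  simp only [map_smul, counit_gp, smul_eq_mul, mul_one]
  have h := congrArg (fun f : WithConv (A →ₗ[k] k) => f.ofConv a) (sum_Eid (k := k) p δ)
  simp only [WithConv.ofConv_sum, LinearMap.sum_apply] at h
  rw [h, ← pow_zero δ, pow_zero_apply]

theorem comul_toMuLin (δ : WithConv (A →ₗ[k] k)) (hδp : δ ^ p = δ) (a : A) :
    TensorProduct.map (toMuLin p δ) (toMuLin p δ) (Coalgebra.comul (R := k) a) =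
      Coalgebra.comul (R := k) (toMuLin p δ a) := by
  rw [toMuLin_apply, toMuLin, map_sum_smulRight_comul, map_sum]
  apply Finset.sum_congr rfl
  intro i _
  rw [map_smul, comul_gp, Finset.sum_eq_single i]
  · rw [Eid_mul_Eid p hδp, if_pos rfl]
  · intro j _ hj
    rw [Eid_mul_Eid p hδp, if_neg (Ne.symm hj), WithConv.ofConv_zero, LinearMap.zero_apply,
      zero_smul]
  · intro h
    exact absurd (Finset.mem_univ _) h

/-- the bialgebra map `A → k[ℤ/p]` attached to a primitive `δ` with `δ^p = δ` -/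
noncomputable def toMu (δ : WithConv (A →ₗ[k] k)) (hδ : IsPrim δ) (hδp : δ ^ p = δ) :
    A →ₐc[k] MonoidAlgebra k (Multiplicative (ZMod p)) :=
  { toMuLin p δ with
    counit_comp := LinearMap.ext fun a => counit_toMuLin p δ a
    map_comp_comul := LinearMap.ext fun a => comul_toMuLin p δ hδp a
    map_one' := toMuLin_one p δ hδ
    map_mul' := toMuLin_mul p δ hδ hδp }

theorem toMu_apply (δ : WithConv (A →ₗ[k] k)) (hδ : IsPrim δ) (hδp : δ ^ p = δ) (a : A) :
    toMu p δ hδ hδp a = toMuLin p δ a := rfl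

/-- a nonzero polynomial of degree `< p` does not kill a nonzero primitive element -/
theorem aeval_ne_zero (δ : WithConv (A →ₗ[k] k)) (hδ : IsPrim δ) (hne : δ ≠ 0)
    (q : Polynomial k) (hq : q ≠ 0) (hdeg : q.natDegree < p) : Polynomial.aeval δ q ≠ 0 := by
  obtain ⟨a, ha0, ha1⟩ := exists_dual_elt δ hδ hne
  intro h0
  have h1 := congrArg (fun f : WithConv (A →ₗ[k] k) => f.ofConv (a ^ q.natDegree)) h0
  simp only [Polynomial.aeval_eq_sum_range, WithConv.ofConv_sum, LinearMap.sum_apply,
    WithConv.ofConv_smul, LinearMap.smul_apply, WithConv.ofConv_zero, LinearMap.zero_apply] at h1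
  rw [Finset.sum_eq_single q.natDegree] at h1
  · rw [(hδ.tri ha0 q.natDegree).2, ha1, one_pow, mul_one, smul_eq_mul, mul_eq_zero] at h1
    rcases h1 with h1 | h1
    · exact hq (Polynomial.leadingCoeff_eq_zero.mp h1)
    · exact factorial_ne_zero_of_lt (k := k) p hdeg h1
  · intro n hn hne'
    have hlt : n < q.natDegree := by
      have := Finset.mem_range.mp hn
      omega
    rw [(hδ.tri ha0 q.natDegree).1 n hlt, smul_zero]
  · intro h
    exact absurd (Finset.mem_range.mpr (Nat.lt_succ_self _)) h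

theorem Eid_ne_zero (δ : WithConv (A →ₗ[k] k)) (hδ : IsPrim δ) (hne : δ ≠ 0) (i : ZMod p) :
    Eid (k := k) p δ i ≠ 0 := by
  rw [← aeval_qpoly]
  apply aeval_ne_zero p δ hδ hne _ (qpoly_ne_zero p i)
  rw [Polynomial.natDegree_lt_iff_degree_lt (qpoly_ne_zero p i)]
  exact degree_qpoly_lt p i

theorem linearIndependent_Eid (δ : WithConv (A →ₗ[k] k)) (hδ : IsPrim δ) (hδp : δ ^ p = δ)
    (hne : δ ≠ 0) : LinearIndependent k (fun i : ZMod p => (Eid (k := k) p δ i).ofConv) := by
  rw [Fintype.linearIndependent_iff]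
  intro g hsum j
  have h1 : ∑ i : ZMod p, g i • Eid (k := k) p δ i = 0 := by
    apply WithConv.ofConv_injective
    rw [WithConv.ofConv_sum, WithConv.ofConv_zero, ← hsum]
    rfl
  have h2 := congrArg (fun f => f * Eid (k := k) p δ j) h1
  simp only [Finset.sum_mul, smul_mul_assoc, zero_mul, Eid_mul_Eid p hδp] at h2
  rw [Finset.sum_eq_single j] at h2
  · rw [if_pos rfl, smul_eq_zero] at h2
    rcases h2 with h2 | h2
    · exact h2
    · exact absurd h2 (Eid_ne_zero p δ hδ hne j)
  · intro i _ hi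
    rw [if_neg hi, smul_zero]
  · intro h
    exact absurd (Finset.mem_univ _) h

theorem toMu_surjective (δ : WithConv (A →ₗ[k] k)) (hδ : IsPrim δ) (hδp : δ ^ p = δ)
    (hne : δ ≠ 0) : Function.Surjective (toMu p δ hδ hδp) := by
  classical
  have hs := surjective_of_linearIndependent (fun i : ZMod p => (Eid (k := k) p δ i).ofConv)
    (linearIndependent_Eid p δ hδ hδp hne)
    ((MonoidAlgebra.basis (Multiplicative (ZMod p)) k).reindex Multiplicative.toAdd)
  intro y
  obtain ⟨a', ha'⟩ := hs y
  refine ⟨a', ?_⟩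
  rw [toMu_apply, toMuLin_apply, ← ha']
  apply Finset.sum_congr rfl
  intro i _
  rw [Module.Basis.reindex_apply, MonoidAlgebra.basis_apply]
  rfl

end Mu

end Groth.Agent.Helper6.MuAlpha
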