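import Mathlib
import Groth.Prelude.Def_ConstGrp
import Groth.Agent.Lib.Helper6.MuAlpha1
import Groth.Agent.Lib.Helper6.CoactFree
import Groth.Agent.Lib.Helper6.PointsGroup

/-!
# Lagrange for quotient Hopf algebras; reduced finite group schemes are constant (helper6)
-/

set_option autoImplicit false
universe u v w

namespace Groth.Agent.Helper6.MuAlpha

open TensorProduct WithConv

section Lagrange

variable {k : Type u} [Field k] [IsAlgClosed k] {A : Type v} [CommRing A] [HopfAlgebra k A]
  [Module.Finite k A] {C : Type w} [CommRing C] [HopfAlgebra k C]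

/-- the order of a subgroup scheme divides the order of the group scheme -/
theorem finrank_dvd_of_surjective (f : A →ₐc[k] C) (hf : Function.Surjective f) :
    Module.finrank k C ∣ Module.finrank k A := by
  let B : Subalgebra k A := AlgHom.equalizer
    ((Algebra.TensorProduct.map (AlgHom.id k A) (f : A →ₐ[k] C)).comp (Bialgebra.comulAlgHom k A))
    (Algebra.TensorProduct.includeLeft : A →ₐ[k] A ⊗[k] C)
  obtain ⟨hfree, hrank⟩ := Groth.Agent.Lib.Helper6.CoactFree.free_quotient f hf B
    (fun x => by
      rw [AlgHom.mem_equalizer]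
      exact Iff.rfl)
  have hAnt : Nontrivial A := by
    refine ⟨⟨0, 1, fun h => ?_⟩⟩
    have := congrArg (CoalgebraStruct.counit (R := k) (A := A)) h
    rw [map_zero, Bialgebra.counit_one] at this
    exact zero_ne_one this
  have hBnt : Nontrivial B :=
    ⟨⟨0, 1, fun h => zero_ne_one (α := A) (congrArg Subtype.val h)⟩⟩
  have h := Module.finrank_mul_finrank k B A
  rw [hrank] at h
  exact ⟨Module.finrank k B, by rw [← h, mul_comm]⟩

end Lagrange

section Const

variable {k : Type u} [Field k] {A : Type v} [CommRing A] [HopfAlgebra k A]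
  {G : Type w} [Group G] [Fintype G] [DecidableEq G] (φ : G →* WithConv (A →ₐ[k] k))

/-- evaluation at the points `φ g`, as an algebra map to the functions on `G` -/
noncomputable def toConstAlg : A →ₐ[k] ConstGrp.F k G where
  toFun a := fun g => (φ g).ofConv a
  map_one' := funext fun g => map_one (φ g).ofConv
  map_mul' a b := funext fun g => map_mul (φ g).ofConv a b
  map_zero' := funext fun g => map_zero (φ g).ofConv
  map_add' a b := funext fun g => map_add (φ g).ofConv a b
  commutes' r := funext fun g => AlgHom.commutes (φ g).ofConv r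

theorem toConstAlg_apply (a : A) (g : G) : toConstAlg φ a g = (φ g).ofConv a := rfl

theorem toConstAlg_toLinearMap :
    (toConstAlg φ).toLinearMap =
      ∑ g : G, (toConv (φ g).ofConv.toLinearMap : WithConv (A →ₗ[k] k)).ofConv.smulRight
        (ConstGrp.e k g) := by
  apply LinearMap.ext
  intro a
  rw [LinearMap.sum_apply, AlgHom.toLinearMap_apply, ConstGrp.eq_sum_smul_e (toConstAlg φ a)]
  rfl

theorem counit_toConstAlg (a : A) :
    Coalgebra.counit (R := k) (toConstAlg φ a) = Coalgebra.counit (R := k) a := by
  rw [ConstGrp.counit_apply, toConstAlg_apply, map_one]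
  rfl

theorem comul_toConstAlg (a : A) :
    TensorProduct.map (toConstAlg φ).toLinearMap (toConstAlg φ).toLinearMap
        (Coalgebra.comul (R := k) a) = Coalgebra.comul (R := k) (toConstAlg φ a) := by
  rw [toConstAlg_toLinearMap, map_sum_smulRight_comul, ConstGrp.comul_eq_sum]
  apply Finset.sum_congr rfl
  intro g _
  apply Finset.sum_congr rfl
  intro h _
  congr 1
  rw [toConstAlg_apply, map_mul]
  rfl

/-- the bialgebra map `A → O(G)` given by a group homomorphism from `G` to the points of `A` -/
noncomputable def toConst : A →ₐc[k] ConstGrp.F k G :=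
  { (toConstAlg φ).toLinearMap with
    counit_comp := LinearMap.ext fun a => counit_toConstAlg φ a
    map_comp_comul := LinearMap.ext fun a => comul_toConstAlg φ a
    map_one' := map_one (toConstAlg φ)
    map_mul' := map_mul (toConstAlg φ) }

theorem toConst_apply (a : A) (g : G) : toConst φ a g = (φ g).ofConv a := rfl

end Const

section Reduced

variable {k : Type u} [Field k] [IsAlgClosed k] {A : Type v} [CommRing A] [HopfAlgebra k A]
  [Module.Finite k A] [IsReduced A]

theorem card_points' : Nat.card (WithConv (A →ₐ[k] k)) = Module.finrank k A := by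
  apply le_antisymm (Groth.Agent.Lib.Helper6.PointsGroup.card_points_le k A)
  have h : Groth.Agent.Lib.Helper6.PointsGroup.idealOf k A
      (⊤ : Subgroup (WithConv (A →ₐ[k] k))) = ⊥ := by
    rw [eq_bot_iff]
    intro a ha
    by_contra hne
    obtain ⟨χ, hχ⟩ := Groth.Agent.Lib.Helper6.PointsGroup.exists_algHom_ne_zero k A a hne
    exact hχ (ha (WithConv.toConv χ) (Subgroup.mem_top _))
  have h2 := Groth.Agent.Lib.Helper6.PointsGroup.finrank_le_card
    (⊤ : Subgroup (WithConv (A →ₐ[k] k))) h
  rw [Nat.card_congr Subgroup.topEquiv.toEquiv] at h2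
  exact h2

variable {G : Type w} [Group G] [Fintype G] [DecidableEq G]

theorem toConst_bijective (φ : G ≃* WithConv (A →ₐ[k] k)) :
    Function.Bijective (toConst (φ : G →* WithConv (A →ₐ[k] k))) := by
  have hinj : Function.Injective (toConst (φ : G →* WithConv (A →ₐ[k] k))) := by
    rw [injective_iff_map_eq_zero]
    intro a ha
    by_contra hne
    obtain ⟨χ, hχ⟩ := Groth.Agent.Lib.Helper6.PointsGroup.exists_algHom_ne_zero k A a hne
    apply hχ
    have h1 := congrFun ha (φ.symm (WithConv.toConv χ))
    rw [toConst_apply] at h1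
    have h2 : (φ : G →* WithConv (A →ₐ[k] k)) (φ.symm (WithConv.toConv χ)) = WithConv.toConv χ :=
      φ.apply_symm_apply _
    rw [h2] at h1
    exact h1
  refine ⟨hinj, ?_⟩
  have hrank : Module.finrank k A = Module.finrank k (ConstGrp.F k G) := by
    rw [Module.finrank_eq_card_basis (ConstGrp.basis k G), ← card_points' (k := k) (A := A),
      ← Nat.card_eq_fintype_card]
    exact (Nat.card_congr φ.toEquiv).symm
  exact (LinearMap.injective_iff_surjective_of_finrank_eq_finrank
    (f := ((toConst (φ : G →* WithConv (A →ₐ[k] k))) : A →ₗ[k] ConstGrp.F k G)) hrank).mp hinj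

/-- a reduced finite group scheme over an algebraically closed field is constant -/
noncomputable def constEquiv (φ : G ≃* WithConv (A →ₐ[k] k)) : A ≃ₐc[k] ConstGrp.F k G :=
  BialgEquiv.ofBijective (toConst (φ : G →* WithConv (A →ₐ[k] k))) (toConst_bijective φ)

end Reduced

end Groth.Agent.Helper6.MuAlpha
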