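import Mathlib
import Groth.Prelude.Def_SheafNL

/-!
# Naive cotangent complex: localization of the base (helper6)
-/

open TensorProduct CategoryTheory

universe u

namespace Groth.Agent.Helper6.NLBase

section LocBase

variable {A A' B : Type u} [CommRing A] [CommRing A'] [CommRing B] [Algebra A A'] [Algebra A' B]
  [Algebra A B] [IsScalarTower A A' B]
  {P : Algebra.Extension.{u} A B} {P' : Algebra.Extension.{u} A' B} (f : P.Hom P') (M : Submonoid A)
  (L1 : ∀ y : P'.Ring, ∃ m ∈ M, ∃ x : P.Ring,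
    algebraMap A' P'.Ring (algebraMap A A' m) * y = f.toRingHom x)
  (L2 : ∀ x : P.Ring, f.toRingHom x = 0 → ∃ m ∈ M, algebraMap A P.Ring m * x = 0)
  (L3 : ∀ m ∈ M, IsUnit (algebraMap A B m))

omit [IsScalarTower A A' B] in
theorem algebraMap_toRingHom' (x : P.Ring) :
    algebraMap P'.Ring B (f.toRingHom x) = algebraMap P.Ring B x := by
  rw [f.algebraMap_toRingHom]; rfl

theorem algebraMap_m (m : A) :
    algebraMap P'.Ring B (algebraMap A' P'.Ring (algebraMap A A' m)) = algebraMap A B m := by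
  rw [← IsScalarTower.algebraMap_apply A' P'.Ring B, ← IsScalarTower.algebraMap_apply A A' B]

omit [IsScalarTower A A' B] in
theorem toRingHom_m (m : A) :
    f.toRingHom (algebraMap A P.Ring m) = algebraMap A' P'.Ring (algebraMap A A' m) :=
  f.toRingHom_algebraMap m

omit [IsScalarTower A A' B] in
include L1 in
theorem ker_lift (y : P'.Ring) (hy : y ∈ P'.ker) : ∃ m ∈ M, ∃ x ∈ P.ker,
    algebraMap A' P'.Ring (algebraMap A A' m) * y = f.toRingHom x := by
  obtain ⟨m, hm, x, hx⟩ := L1 y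
  refine ⟨m, hm, x, ?_, hx⟩
  rw [Algebra.Extension.ker, RingHom.mem_ker, ← algebraMap_toRingHom' f, ← hx, map_mul,
    (RingHom.mem_ker.mp hy : algebraMap P'.Ring B y = 0), mul_zero]

include L1 in
theorem sq_lift (y : P'.Ring) (hy : y ∈ P'.ker ^ 2) : ∃ m ∈ M, ∃ x ∈ P.ker ^ 2,
    algebraMap A' P'.Ring (algebraMap A A' m) * y = f.toRingHom x := by
  rw [pow_two] at hy
  refine Submodule.mul_induction_on hy ?_ ?_
  · intro a ha b hb
    obtain ⟨m₁, hm₁, x₁, hx₁, e₁⟩ := ker_lift f M L1 a ha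
    obtain ⟨m₂, hm₂, x₂, hx₂, e₂⟩ := ker_lift f M L1 b hb
    refine ⟨m₁ * m₂, M.mul_mem hm₁ hm₂, x₁ * x₂, ?_, ?_⟩
    · rw [pow_two]; exact Ideal.mul_mem_mul hx₁ hx₂
    · rw [map_mul, map_mul, map_mul, ← e₁, ← e₂]; ring
  · intro y₁ y₂ ⟨m₁, hm₁, x₁, hx₁, e₁⟩ ⟨m₂, hm₂, x₂, hx₂, e₂⟩
    refine ⟨m₁ * m₂, M.mul_mem hm₁ hm₂,
      algebraMap A P.Ring m₂ * x₁ + algebraMap A P.Ring m₁ * x₂, ?_, ?_⟩
    · exact Ideal.add_mem _ (Ideal.mul_mem_left _ _ hx₁) (Ideal.mul_mem_left _ _ hx₂)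
    · have h1 : f.toRingHom (algebraMap A P.Ring m₂ * x₁ + algebraMap A P.Ring m₁ * x₂) =
          algebraMap A' P'.Ring (algebraMap A A' m₂) * f.toRingHom x₁ +
            algebraMap A' P'.Ring (algebraMap A A' m₁) * f.toRingHom x₂ := by
        rw [map_add, map_mul, map_mul, toRingHom_m, toRingHom_m]
      rw [h1, ← e₁, ← e₂, map_mul, map_mul]; ring

include L1 L3 in
theorem cotangent_map_surjective : Function.Surjective (Algebra.Extension.Cotangent.map f) := by
  intro y'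
  obtain ⟨⟨y, hy⟩, rfl⟩ := Algebra.Extension.Cotangent.mk_surjective y'
  obtain ⟨m, hm, x, hx, e⟩ := ker_lift f M L1 y hy
  obtain ⟨u, hu⟩ := (L3 m hm).exists_left_inv
  obtain ⟨p, rfl⟩ := P.algebraMap_surjective u
  refine ⟨Algebra.Extension.Cotangent.mk ⟨p * x, Ideal.mul_mem_left _ _ hx⟩, ?_⟩
  rw [Algebra.Extension.Cotangent.map_mk, Algebra.Extension.Cotangent.mk_eq_mk_iff_sub_mem]
  show f.toRingHom (p * x) - y ∈ P'.ker ^ 2
  have h1 : f.toRingHom (p * x) - y =
      (f.toRingHom p * algebraMap A' P'.Ring (algebraMap A A' m) - 1) * y := by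
    rw [map_mul, ← e]; ring
  rw [h1, pow_two]
  refine Ideal.mul_mem_mul ?_ hy
  rw [Algebra.Extension.ker, RingHom.mem_ker, map_sub, map_mul, map_one, algebraMap_toRingHom' f,
    algebraMap_m, hu, sub_self]

include L1 L2 L3 in
theorem cotangent_map_injective : Function.Injective (Algebra.Extension.Cotangent.map f) := by
  rw [injective_iff_map_eq_zero]
  intro z hz
  obtain ⟨⟨x, hx⟩, rfl⟩ := Algebra.Extension.Cotangent.mk_surjective z
  rw [Algebra.Extension.Cotangent.map_mk, Algebra.Extension.Cotangent.mk_eq_zero_iff] at hz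
  replace hz : f.toRingHom x ∈ P'.ker ^ 2 := hz
  rw [Algebra.Extension.Cotangent.mk_eq_zero_iff]
  show x ∈ P.ker ^ 2
  obtain ⟨m, hm, x', hx', e⟩ := sq_lift f M L1 _ hz
  obtain ⟨m₂, hm₂, e₂⟩ := L2 (algebraMap A P.Ring m * x - x') (by
    rw [map_sub, map_mul, toRingHom_m, e, sub_self])
  obtain ⟨u, hu⟩ := (L3 (m₂ * m) (M.mul_mem hm₂ hm)).exists_left_inv
  obtain ⟨p, rfl⟩ := P.algebraMap_surjective u
  have hw : algebraMap A P.Ring (m₂ * m) * x ∈ P.ker ^ 2 := by
    have : algebraMap A P.Ring (m₂ * m) * x = algebraMap A P.Ring m₂ * x' := by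
      rw [map_mul]; linear_combination e₂
    rw [this]; exact Ideal.mul_mem_left _ _ hx'
  have hx2 : x = (1 - p * algebraMap A P.Ring (m₂ * m)) * x +
      p * (algebraMap A P.Ring (m₂ * m) * x) := by ring
  rw [hx2]
  refine Ideal.add_mem _ ?_ (Ideal.mul_mem_left _ _ hw)
  rw [pow_two]
  refine Ideal.mul_mem_mul ?_ hx
  rw [Algebra.Extension.ker, RingHom.mem_ker, map_sub, map_mul, map_one,
    ← IsScalarTower.algebraMap_apply A P.Ring B, hu, sub_self]

end LocBase

end Groth.Agent.Helper6.NLBase
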