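import Groth.Agent.Lib.Helper6.NLBaseA

/-!
# Naive cotangent complex: localization of the base, generators case and `IsIso` (helper6)
-/

open TensorProduct CategoryTheory

universe u

namespace Groth.Agent.Helper6.NLBase

theorem gens_L3 {A : Type u} (A' : Type u) {B : Type u} [CommRing A] [CommRing A'] [CommRing B]
    [Algebra A A'] (M : Submonoid A) [IsLocalization M A'] [Algebra A' B] [Algebra A B]
    [IsScalarTower A A' B] (m : A) (hm : m ∈ M) : IsUnit (algebraMap A B m) := by
  rw [IsScalarTower.algebraMap_apply A A' B]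
  exact (IsLocalization.map_units A' ⟨m, hm⟩).map (algebraMap A' B)

section Gens

attribute [local instance] MvPolynomial.algebraMvPolynomial

variable {A A' B : Type u} [CommRing A] [CommRing A'] [CommRing B] [Algebra A A'] (M : Submonoid A)
  [IsLocalization M A'] [Algebra A' B] [Algebra A B] [IsScalarTower A A' B]
  {ι : Type u} (G : Algebra.Generators A B ι) (G' : Algebra.Generators A' B ι)
  (h : ∀ i, G'.val i = algebraMap B B (G.val i))

omit [IsLocalization M A'] in
theorem toRingHom_eq_map (x : MvPolynomial ι A) :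
    (NLCx.sameVarsHom (S' := B) G G' h).toExtensionHom.toRingHom x =
      MvPolynomial.map (algebraMap A A') x := by
  have : ((NLCx.sameVarsHom (S' := B) G G' h).toAlgHom : MvPolynomial ι A →+* MvPolynomial ι A') =
      MvPolynomial.map (algebraMap A A') := by
    apply MvPolynomial.ringHom_ext
    · intro a
      simp [Algebra.Generators.Hom.toAlgHom, MvPolynomial.algebraMap_apply]
    · intro i
      simp [Algebra.Generators.Hom.toAlgHom, NLCx.sameVarsHom]
  exact DFunLike.congr_fun this x

theorem gens_L1 (y : MvPolynomial ι A') : ∃ m ∈ M, ∃ x : MvPolynomial ι A,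
    MvPolynomial.C (algebraMap A A' m) * y = MvPolynomial.map (algebraMap A A') x := by
  obtain ⟨⟨x, ⟨s, hs⟩⟩, e⟩ :=
    IsLocalization.surj (M.map (MvPolynomial.C : A →+* MvPolynomial ι A)) y
  obtain ⟨m, hm, rfl⟩ := Submonoid.mem_map.mp hs
  refine ⟨m, hm, x, ?_⟩
  simp only [MvPolynomial.algebraMap_def, MvPolynomial.map_C] at e
  rw [mul_comm]; exact e

theorem gens_L2 (x : MvPolynomial ι A) (hx : MvPolynomial.map (algebraMap A A') x = 0) :
    ∃ m ∈ M, MvPolynomial.C m * x = 0 := by
  obtain ⟨⟨s, hs⟩, e⟩ := (IsLocalization.map_eq_zero_iff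
    (M.map (MvPolynomial.C : A →+* MvPolynomial ι A)) (MvPolynomial ι A') x).mp (by
      rw [MvPolynomial.algebraMap_def]; exact hx)
  obtain ⟨m, hm, rfl⟩ := Submonoid.mem_map.mp hs
  exact ⟨m, hm, e⟩

include M in
theorem cotangent_bijective :
    Function.Bijective (Algebra.Extension.Cotangent.map
      (NLCx.sameVarsHom (S' := B) G G' h).toExtensionHom) := by
  have L1 : ∀ y : G'.toExtension.Ring, ∃ m ∈ M, ∃ x : G.toExtension.Ring,
      algebraMap A' G'.toExtension.Ring (algebraMap A A' m) * y =
        (NLCx.sameVarsHom (S' := B) G G' h).toExtensionHom.toRingHom x := by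
    intro y
    obtain ⟨m, hm, x, e⟩ := gens_L1 M (ι := ι) y
    exact ⟨m, hm, x, by rw [toRingHom_eq_map]; exact e⟩
  have L2 : ∀ x : G.toExtension.Ring,
      (NLCx.sameVarsHom (S' := B) G G' h).toExtensionHom.toRingHom x = 0 →
        ∃ m ∈ M, algebraMap A G.toExtension.Ring m * x = 0 := by
    intro x hx
    have hx' : MvPolynomial.map (algebraMap A A') x = 0 := by
      rw [← toRingHom_eq_map G G' h x]; exact hx
    exact gens_L2 M x hx'
  exact ⟨cotangent_map_injective _ M L1 L2 (gens_L3 A' M), cotangent_map_surjective _ M L1 (gens_L3 A' M)⟩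

omit [IsLocalization M A'] in
theorem cotangentSpace_map_basis (i : ι) :
    Algebra.Extension.CotangentSpace.map (NLCx.sameVarsHom (S' := B) G G' h).toExtensionHom
      (G.cotangentSpaceBasis i) = G'.cotangentSpaceBasis i := by
  classical
  apply G'.cotangentSpaceBasis.repr.injective
  ext j
  rw [Algebra.Generators.repr_CotangentSpaceMap, Module.Basis.repr_self]
  simp only [NLCx.sameVarsHom, MvPolynomial.pderiv_X, Finsupp.single_apply, Pi.single_apply]
  split_ifs <;> simp_all

omit [IsLocalization M A'] in
theorem cotangentSpace_bijective :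
    Function.Bijective (Algebra.Extension.CotangentSpace.map
      (NLCx.sameVarsHom (S' := B) G G' h).toExtensionHom) := by
  have hT : (Algebra.Extension.CotangentSpace.map
      (NLCx.sameVarsHom (S' := B) G G' h).toExtensionHom) =
      (G.cotangentSpaceBasis.equiv G'.cotangentSpaceBasis (Equiv.refl ι)).toLinearMap := by
    apply G.cotangentSpaceBasis.ext
    intro i
    rw [cotangentSpace_map_basis]
    simp
  rw [hT]
  exact (G.cotangentSpaceBasis.equiv G'.cotangentSpaceBasis (Equiv.refl ι)).bijective

end Gens

section IsIsoSec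

variable {R S R' : Type u} [CommRing R] [CommRing S] [Algebra R S] [CommRing R'] [Algebra R' S]
  [Algebra R R'] [IsScalarTower R R' S]

theorem isIso_map {P : Algebra.Extension.{u} R S} {P' : Algebra.Extension.{u} R' S} (f : P.Hom P')
    (h1 : Function.Bijective (Algebra.Extension.Cotangent.map f))
    (h2 : Function.Bijective (Algebra.Extension.CotangentSpace.map f)) :
    IsIso (NLCx.map f) := by
  have : ∀ n : ℤ, IsIso ((NLCx.map f).f n) := by
    intro n
    by_cases hn0 : n = -1
    · subst hn0
      rw [NLCx.map]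
      erw [HomologicalComplex.mkHomFromDouble_f₀]
      exact IsIso.comp_isIso' (Iso.isIso_hom _)
        (IsIso.comp_isIso' ((ConcreteCategory.isIso_iff_bijective _).mpr h1) (Iso.isIso_inv _))
    · by_cases hn1 : n = 0
      · subst hn1
        rw [NLCx.map]
        erw [HomologicalComplex.mkHomFromDouble_f₁]
        exact IsIso.comp_isIso' (Iso.isIso_hom _)
          (IsIso.comp_isIso' ((ConcreteCategory.isIso_iff_bijective _).mpr h2) (Iso.isIso_inv _))
      · have hX : Limits.IsZero ((NLCx.cx P).X n) :=
          HomologicalComplex.isZero_double_X _ _ n hn0 hn1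
        have hY : Limits.IsZero ((NLCx.cx P').X n) :=
          HomologicalComplex.isZero_double_X _ _ n hn0 hn1
        exact ⟨⟨0, hX.eq_of_src _ _, hY.eq_of_src _ _⟩⟩
  exact HomologicalComplex.Hom.isIso_of_components _

end IsIsoSec

/-- Main theorem for S7225. -/
theorem S7225_main (A A' B : Type u) [CommRing A] [CommRing A'] [CommRing B]
    [Algebra A A'] (M : Submonoid A) [IsLocalization M A'] [Algebra A' B] [Algebra A B]
    [IsScalarTower A A' B]
    {ι : Type u} (G : Algebra.Generators A B ι) (G' : Algebra.Generators A' B ι)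
    (h : ∀ i, G'.val i = algebraMap B B (G.val i)) :
    IsIso (NLCx.map (NLCx.sameVarsHom (S' := B) G G' h).toExtensionHom) :=
  isIso_map _ (cotangent_bijective M G G' h) (cotangentSpace_bijective G G' h)

end Groth.Agent.Helper6.NLBase
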