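import Groth.Agent.Lib.Helper6.NLBaseB

/-!
# Naive cotangent complex: base change along a cocartesian square, surjectivity on `H^{-1}` (helper6)
-/

open TensorProduct CategoryTheory

universe u

namespace Groth.Agent.Helper6.NLBase

section BC

variable {R S R' S' : Type u} [CommRing R] [CommRing S] [CommRing R'] [CommRing S']
  [Algebra R S] [Algebra R' S'] [Algebra R R'] [Algebra S S'] [Algebra R S']
  [IsScalarTower R R' S'] [IsScalarTower R S S']

theorem lift_cotangent_surjective {P : Algebra.Extension.{u} R S} {P' : Algebra.Extension.{u} R' S'}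
    (f : P.Hom P') (hker : P'.ker ≤ Ideal.map f.toRingHom P.ker) :
    Function.Surjective (LinearMap.liftBaseChange S' (Algebra.Extension.Cotangent.map f)) := by
  intro y
  obtain ⟨⟨y, hy⟩, rfl⟩ := Algebra.Extension.Cotangent.mk_surjective y
  have hle : Ideal.map f.toRingHom P.ker ≤ P'.ker := by
    rw [Ideal.map_le_iff_le_comap]
    intro x hx
    rw [Ideal.mem_comap, Algebra.Extension.ker, RingHom.mem_ker, f.algebraMap_toRingHom]
    rw [Algebra.Extension.ker, RingHom.mem_ker] at hx
    rw [hx, map_zero]
  have key : ∀ z, z ∈ Ideal.map f.toRingHom P.ker → ∀ hz' : z ∈ P'.ker,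
      ∃ w, LinearMap.liftBaseChange S' (Algebra.Extension.Cotangent.map f) w =
        Algebra.Extension.Cotangent.mk ⟨z, hz'⟩ := by
    intro z hz
    have hz2 : z ∈ Submodule.span P'.Ring (f.toRingHom '' (P.ker : Set P.Ring)) := hz
    refine Submodule.span_induction (p := fun z _ => ∀ hz' : z ∈ P'.ker,
      ∃ w, LinearMap.liftBaseChange S' (Algebra.Extension.Cotangent.map f) w =
        Algebra.Extension.Cotangent.mk ⟨z, hz'⟩) ?_ ?_ ?_ ?_ hz2
    · rintro _ ⟨x, hx, rfl⟩ hz'
      refine ⟨(1 : S') ⊗ₜ[S] Algebra.Extension.Cotangent.mk ⟨x, hx⟩, ?_⟩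
      rw [LinearMap.liftBaseChange_tmul, one_smul, Algebra.Extension.Cotangent.map_mk]
      rfl
    · intro hz'
      refine ⟨0, ?_⟩
      rw [map_zero]
      exact (map_zero (Algebra.Extension.Cotangent.mk (P := P'))).symm
    · intro a b ha hb iha ihb hz'
      obtain ⟨wa, hwa⟩ := iha (hle ha)
      obtain ⟨wb, hwb⟩ := ihb (hle hb)
      refine ⟨wa + wb, ?_⟩
      rw [map_add, hwa, hwb]
      exact (map_add (Algebra.Extension.Cotangent.mk (P := P')) ⟨a, hle ha⟩ ⟨b, hle hb⟩).symm
    · intro r a ha iha hz'
      obtain ⟨wa, hwa⟩ := iha (hle ha)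
      refine ⟨algebraMap P'.Ring S' r • wa, ?_⟩
      rw [map_smul, hwa, algebraMap_smul]
      exact (map_smul (Algebra.Extension.Cotangent.mk (P := P')) r ⟨a, hle ha⟩).symm
  exact key y (hker hy) hy

theorem cotangentSpace_map_basis' {ι : Type u} (G : Algebra.Generators R S ι)
    (G' : Algebra.Generators R' S' ι) (h : ∀ i, G'.val i = algebraMap S S' (G.val i)) (i : ι) :
    Algebra.Extension.CotangentSpace.map (NLCx.sameVarsHom G G' h).toExtensionHom
      (G.cotangentSpaceBasis i) = G'.cotangentSpaceBasis i := by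
  classical
  apply G'.cotangentSpaceBasis.repr.injective
  ext j
  rw [Algebra.Generators.repr_CotangentSpaceMap, Module.Basis.repr_self]
  simp only [NLCx.sameVarsHom, MvPolynomial.pderiv_X, Finsupp.single_apply, Pi.single_apply]
  split_ifs <;> simp_all

theorem lift_cotangentSpace_bijective {ι : Type u} (G : Algebra.Generators R S ι)
    (G' : Algebra.Generators R' S' ι) (h : ∀ i, G'.val i = algebraMap S S' (G.val i)) :
    Function.Bijective (LinearMap.liftBaseChange S' (Algebra.Extension.CotangentSpace.map
      (NLCx.sameVarsHom G G' h).toExtensionHom)) := by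
  have hT : LinearMap.liftBaseChange S' (Algebra.Extension.CotangentSpace.map
      (NLCx.sameVarsHom G G' h).toExtensionHom) =
      ((Algebra.TensorProduct.basis S' G.cotangentSpaceBasis).equiv G'.cotangentSpaceBasis
        (Equiv.refl ι)).toLinearMap := by
    apply (Algebra.TensorProduct.basis S' G.cotangentSpaceBasis).ext
    intro i
    simp only [LinearEquiv.coe_coe, Module.Basis.equiv_apply, Equiv.refl_apply]
    rw [Algebra.TensorProduct.basis_apply, LinearMap.liftBaseChange_tmul, one_smul,
      cotangentSpace_map_basis']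
  rw [hT]
  exact LinearEquiv.bijective _

theorem ker_le_map_of_epi [Algebra.IsPushout R R' S S'] {P : Algebra.Extension.{u} R S}
    {P' : Algebra.Extension.{u} R' S'} (f : P.Hom P')
    (hgen : ∀ (T : Type u) [CommRing T] (a b : P'.Ring →+* T),
      (∀ r, a (algebraMap R' P'.Ring r) = b (algebraMap R' P'.Ring r)) →
      (∀ x, a (f.toRingHom x) = b (f.toRingHom x)) → a = b) :
    P'.ker ≤ Ideal.map f.toRingHom P.ker := by
  obtain ⟨J, hJdef⟩ : ∃ J : Ideal P'.Ring, J = Ideal.map f.toRingHom P.ker := ⟨_, rfl⟩
  rw [← hJdef]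
  have hker : RingHom.ker (algebraMap P.Ring S) ≤
      RingHom.ker ((Ideal.Quotient.mk J).comp f.toRingHom) := by
    intro x hx
    rw [RingHom.mem_ker, RingHom.comp_apply, Ideal.Quotient.eq_zero_iff_mem, hJdef]
    exact Ideal.mem_map_of_mem _ hx
  let ψr : S →+* (P'.Ring ⧸ J) :=
    (algebraMap P.Ring S).liftOfRightInverse P.σ P.algebraMap_σ
      ⟨(Ideal.Quotient.mk J).comp f.toRingHom, hker⟩
  have hψr : ∀ x : P.Ring, ψr (algebraMap P.Ring S x) = Ideal.Quotient.mk J (f.toRingHom x) :=
    fun x => RingHom.liftOfRightInverse_comp_apply (algebraMap P.Ring S) P.σ P.algebraMap_σ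
      ⟨(Ideal.Quotient.mk J).comp f.toRingHom, hker⟩ x
  let _ : Algebra R (P'.Ring ⧸ J) :=
    (((Ideal.Quotient.mk J).comp (algebraMap R' P'.Ring)).comp (algebraMap R R')).toAlgebra
  let ψ₀ : R' →ₐ[R] (P'.Ring ⧸ J) :=
    { toRingHom := (Ideal.Quotient.mk J).comp (algebraMap R' P'.Ring)
      commutes' := fun r => rfl }
  let ψ₁ : S →ₐ[R] (P'.Ring ⧸ J) :=
    { toRingHom := ψr
      commutes' := fun r => by
        show ψr (algebraMap R S r) =
          Ideal.Quotient.mk J (algebraMap R' P'.Ring (algebraMap R R' r))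
        rw [IsScalarTower.algebraMap_apply R P.Ring S, hψr, f.toRingHom_algebraMap] }
  let ρ : S' →ₐ[R] (P'.Ring ⧸ J) := Algebra.pushoutDesc S' ψ₀ ψ₁ (fun _ _ => mul_comm _ _)
  have hρ : (ρ : S' →+* P'.Ring ⧸ J).comp (algebraMap P'.Ring S') = Ideal.Quotient.mk J := by
    apply hgen
    · intro r
      show ρ (algebraMap P'.Ring S' (algebraMap R' P'.Ring r)) = _
      rw [← IsScalarTower.algebraMap_apply R' P'.Ring S']
      exact Algebra.pushoutDesc_left S' ψ₀ ψ₁ _ r
    · intro x
      show ρ (algebraMap P'.Ring S' (f.toRingHom x)) = _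
      rw [f.algebraMap_toRingHom]
      exact (Algebra.pushoutDesc_right S' ψ₀ ψ₁ _ _).trans (hψr x)
  intro y hy
  rw [← Ideal.Quotient.eq_zero_iff_mem, ← hρ]
  show ρ (algebraMap P'.Ring S' y) = 0
  rw [Algebra.Extension.ker, RingHom.mem_ker] at hy
  rw [hy, map_zero]

theorem ker_le_map [Algebra.IsPushout R R' S S'] {ι : Type u} (G : Algebra.Generators R S ι)
    (G' : Algebra.Generators R' S' ι) (h : ∀ i, G'.val i = algebraMap S S' (G.val i)) :
    G'.toExtension.ker ≤
      Ideal.map (NLCx.sameVarsHom G G' h).toExtensionHom.toRingHom G.toExtension.ker := by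
  apply ker_le_map_of_epi
  intro T _ a b hC hX
  apply MvPolynomial.ringHom_ext
  · intro r
    exact hC r
  · intro i
    have e : (NLCx.sameVarsHom G G' h).toExtensionHom.toRingHom (MvPolynomial.X i) =
        MvPolynomial.X i := Algebra.Generators.Hom.toAlgHom_X (NLCx.sameVarsHom G G' h) i
    exact (congrArg a e).symm.trans ((hX (MvPolynomial.X i)).trans (congrArg b e))

theorem bcH1Map_surjective_of {P : Algebra.Extension.{u} R S} {P' : Algebra.Extension.{u} R' S'}
    (f : P.Hom P')
    (hα : Function.Surjective (LinearMap.liftBaseChange S' (Algebra.Extension.Cotangent.map f)))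
    (hβ : Function.Injective
      (LinearMap.liftBaseChange S' (Algebra.Extension.CotangentSpace.map f))) :
    Function.Surjective (NLCx.bcH1Map f) := by
  intro y
  obtain ⟨x, hx⟩ := hα y.1
  have key : P'.cotangentComplex ∘ₗ
      LinearMap.liftBaseChange S' (Algebra.Extension.Cotangent.map f) =
      LinearMap.liftBaseChange S' (Algebra.Extension.CotangentSpace.map f) ∘ₗ
        P.cotangentComplex.baseChange S' := by
    ext z
    simpa using (Algebra.Extension.CotangentSpace.map_cotangentComplex f z).symm
  have hx2 : x ∈ NLCx.bcH1 P S' := by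
    rw [NLCx.bcH1, LinearMap.mem_ker]
    apply hβ
    rw [map_zero]
    have := congr($key x)
    simp only [LinearMap.coe_comp, Function.comp_apply] at this
    rw [← this, hx]
    exact LinearMap.mem_ker.mp y.2
  refine ⟨⟨x, hx2⟩, ?_⟩
  apply Algebra.Extension.h1Cotangentι_ext
  exact hx

theorem first [Algebra.IsPushout R R' S S'] {ι : Type u} (G : Algebra.Generators R S ι)
    (G' : Algebra.Generators R' S' ι) (h : ∀ i, G'.val i = algebraMap S S' (G.val i)) :
    Function.Surjective (NLCx.bcH1Map (NLCx.sameVarsHom G G' h).toExtensionHom) :=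
  bcH1Map_surjective_of _ (lift_cotangent_surjective _ (ker_le_map G G' h))
    (lift_cotangentSpace_bijective G G' h).1

theorem lift_cotangent_comp {P : Algebra.Extension.{u} R S} {P' P'' : Algebra.Extension.{u} R' S'}
    (f : P.Hom P') (g : P'.Hom P'') (x : S' ⊗[S] P.Cotangent) :
    LinearMap.liftBaseChange S' (Algebra.Extension.Cotangent.map (g.comp f)) x =
      Algebra.Extension.Cotangent.map g
        (LinearMap.liftBaseChange S' (Algebra.Extension.Cotangent.map f) x) := by
  induction x using TensorProduct.induction_on with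
  | zero => simp
  | tmul a b =>
    rw [LinearMap.liftBaseChange_tmul, LinearMap.liftBaseChange_tmul, map_smul,
      Algebra.Extension.Cotangent.map_comp]
    rfl
  | add a b ha hb => rw [map_add, map_add, map_add, ha, hb]

end BC

section Second

variable (R S R' S' : Type u) [CommRing R] [CommRing S] [CommRing R'] [CommRing S']
  [Algebra R S] [Algebra R' S'] [Algebra R R'] [Algebra S S'] [Algebra R S']
  [IsScalarTower R R' S'] [IsScalarTower R S S'] [Algebra.IsPushout R R' S S']

include R in
theorem pushout_aeval_surjective :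
    Function.Surjective (MvPolynomial.aeval (R := R') (fun s : S => algebraMap S S' s)) := by
  intro x
  have hbc : IsBaseChange R' (IsScalarTower.toAlgHom R S S').toLinearMap := Algebra.IsPushout.out
  have hmem : x ∈ (MvPolynomial.aeval (R := R') (fun s : S => algebraMap S S' s)).range := by
    refine hbc.inductionOn x
      (fun x => x ∈ (MvPolynomial.aeval (R := R') (fun s : S => algebraMap S S' s)).range)
      ?_ ?_ ?_ ?_
    · exact Subalgebra.zero_mem _
    · intro s
      exact ⟨MvPolynomial.X s, by simp⟩
    · intro r' y hy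
      exact Subalgebra.smul_mem _ hy r'
    · intro a b ha hb
      exact Subalgebra.add_mem _ ha hb
  exact hmem

noncomputable def G1 : Algebra.Generators R' S' S :=
  Algebra.Generators.ofSurjective (fun s : S => algebraMap S S' s)
    (pushout_aeval_surjective R S R' S')

theorem G1_val (s : S) :
    (G1 R S R' S').val s = algebraMap S S' ((Algebra.Generators.self R S).val s) := rfl

noncomputable def f1 : (Algebra.Generators.self R S).Hom (G1 R S R' S') :=
  NLCx.sameVarsHom (Algebra.Generators.self R S) (G1 R S R' S') (G1_val R S R' S')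

noncomputable def g1 : (G1 R S R' S').Hom (Algebra.Generators.self R' S') where
  val s := MvPolynomial.X (algebraMap S S' s)
  aeval_val s := by simp [G1]

theorem defaultHom_eq :
    (Algebra.Generators.self R S).defaultHom (Algebra.Generators.self R' S') =
      (g1 R S R' S').comp (f1 R S R' S') := by
  apply Algebra.Generators.Hom.ext
  funext s
  simp [f1, g1, NLCx.sameVarsHom]

theorem second : Function.Surjective (NLCx.bcH1Map
    ((Algebra.Generators.self R S).defaultHom
      (Algebra.Generators.self R' S')).toExtensionHom) := by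
  rw [defaultHom_eq R S R' S', Algebra.Generators.Hom.toExtensionHom_comp]
  intro y
  obtain ⟨z, hz⟩ := (Algebra.Extension.H1Cotangent.equiv (g1 R S R' S').toExtensionHom
    ((Algebra.Generators.self R' S').defaultHom (G1 R S R' S')).toExtensionHom).surjective y
  obtain ⟨x, hx⟩ := first (Algebra.Generators.self R S) (G1 R S R' S') (G1_val R S R' S') z
  refine ⟨x, ?_⟩
  subst hz
  subst hx
  apply Algebra.Extension.h1Cotangentι_ext
  exact lift_cotangent_comp (f1 R S R' S').toExtensionHom (g1 R S R' S').toExtensionHom x.1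

theorem S7221_main {ι : Type u} (G : Algebra.Generators R S ι) (G' : Algebra.Generators R' S' ι)
    (h : ∀ i, G'.val i = algebraMap S S' (G.val i)) :
    Function.Surjective (NLCx.bcH1Map (NLCx.sameVarsHom G G' h).toExtensionHom) ∧
      Function.Surjective (NLCx.bcH1Map
        ((Algebra.Generators.self R S).defaultHom
          (Algebra.Generators.self R' S')).toExtensionHom) :=
  ⟨first G G' h, second R S R' S'⟩

end Second

end Groth.Agent.Helper6.NLBase
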