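import Groth.Agent.Lib.Helper6.NLFlatB
import Groth.Agent.Lib.Helper11.LDer4

/-!
# Naive cotangent complex: the derived base change clause (helper6)
-/

open CategoryTheory Limits HomologicalComplex TensorProduct DerivedCategory
open Groth.Agent.Helper6.NLDbl

attribute [local instance] HasDerivedCategory.standard

universe u

namespace Groth.Agent.Helper6.NLFlat

open Groth.Agent.Helper11.DC Groth.Agent.Helper11.TA Groth.Agent.Helper11.LDer

section IsoSingle

variable {C : Type*} [Category C] [Preadditive C] [HasZeroObject C]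

theorem isIso_toSingle (Y : CochainComplex C ℤ) (n : ℤ) (hY : ∀ i, i ≠ n → IsZero (Y.X i)) :
    IsIso (mkHomToSingle (K := Y) (j := n) (𝟙 (Y.X n))
      (fun i hi => (hY i (by simp at hi; omega)).eq_of_src _ _)) := by
  have : ∀ i : ℤ, IsIso ((mkHomToSingle (K := Y) (j := n) (𝟙 (Y.X n))
      (fun i hi => (hY i (by simp at hi; omega)).eq_of_src _ _)).f i) := by
    intro i
    by_cases hi : i = n
    · subst hi
      rw [mkHomToSingle_f]
      infer_instance
    · have hX : IsZero (Y.X i) := hY i hi
      have hT : IsZero (((single C (ComplexShape.up ℤ) n).obj (Y.X n)).X i) :=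
        isZero_single_obj_X _ _ _ _ hi
      exact ⟨⟨0, hX.eq_of_src _ _, hT.eq_of_src _ _⟩⟩
  exact HomologicalComplex.Hom.isIso_of_components _

end IsoSingle

section Flat

variable {B : Type u} [CommRing B]

theorem flat_of_isZero (M : ModuleCat.{u} B) (h : IsZero M) : Module.Flat B M := by
  haveI : Subsingleton M := ModuleCat.subsingleton_of_isZero h
  infer_instance

/-- For a complex in degrees `[-1, 0]` with flat degree `0` term and tor amplitude in `[-1, 0]`,
the degree `-1` term is flat. -/
theorem flat_X_neg_one (K : DRing.Cx B) (hK : DRing.VanishesOutside K (-1) 0)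
    [h0 : Module.Flat B (K.X 0)] (hT : TorVan (-1) 0 (Q.obj K)) : Module.Flat B (K.X (-1)) := by
  have hb : ∀ i : ℤ, 0 < i → IsZero (K.X i) := fun i hi => hK i (Or.inr hi)
  have hS := topSC_shortExact K 0 hb
  have h₁ : TorVan ((-1 : ℤ) + 1) ((0 : ℤ) + 1) (Q.obj (topSC K 0 hb).X₁) := by
    have hA : DRing.HasTorAmplitudeIn B 0 0 (Q.obj (topSC K 0 hb).X₁) := by
      refine ⟨(topSC K 0 hb).X₁, ?_, ?_, ⟨Iso.refl _⟩⟩
      · intro i hi
        exact isZero_single_obj_X _ _ _ _ (by omega)
      · intro i
        by_cases hi : i = 0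
        · subst hi
          exact Module.Flat.of_linearEquiv
            (singleObjXSelf (ComplexShape.up ℤ) 0 (K.X 0)).toLinearEquiv
        · exact flat_of_isZero _ (isZero_single_obj_X _ _ _ _ hi)
    exact (torVan_of_hasTorAmplitudeIn hA).mono (by norm_num) (by norm_num)
  have h₃ : TorVan (-1) 0 (Q.obj (topSC K 0 hb).X₃) :=
    TorVan.third (a := -1) (b := 0) (triangleOfSES hS) (triangleOfSES_distinguished hS) h₁ hT
  have hz : ∀ i : ℤ, i ≠ -1 → IsZero ((topSC K 0 hb).X₃.X i) := by
    intro i hi
    by_cases hi0 : i = 0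
    · subst hi0
      exact topSC_X₃_isZero K 0 hb
    · haveI := topSC_g_isIso K 0 hb i hi0
      exact (hK i (by omega)).of_iso (asIso ((topSC K 0 hb).g.f i)).symm
  haveI hiso := isIso_toSingle (topSC K 0 hb).X₃ (-1) hz
  have h₄ : TorVan (-1) 0 ((singleFunctor (ModuleCat.{u} B) (-1)).obj ((topSC K 0 hb).X₃.X (-1))) :=
    h₃.of_iso (Q.mapIso (asIso (mkHomToSingle (K := (topSC K 0 hb).X₃) (j := -1)
      (𝟙 ((topSC K 0 hb).X₃.X (-1)))
      (fun i hi => (hz i (by simp at hi; omega)).eq_of_src _ _))) ≪≫
      ((singleFunctorIsoCompQ (ModuleCat.{u} B) (-1)).app _).symm)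
  have h₅ := (h₄.shift (-1)).of_iso
    (((singleFunctors (ModuleCat.{u} B)).shiftIso (-1) 0 (-1) (by omega)).app
      ((topSC K 0 hb).X₃.X (-1)))
  obtain ⟨p1, p2, ⟨pe⟩⟩ := projRes_spec ((topSC K 0 hb).X₃.X (-1))
  have hfl : ∀ i, Module.Flat B
      ((projectiveResolution ((topSC K 0 hb).X₃.X (-1))).cochainComplex.X i) := fun i => by
    haveI := p2 i
    infer_instance
  have hv := torVanCx_of_torVan h₅ _ 0 p1 hfl pe
  have hflat3 : Module.Flat B ((topSC K 0 hb).X₃.X (-1)) := by
    refine flat_of_tor_one (M := (topSC K 0 hb).X₃.X (-1)) (fun N => ?_)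
    exact (isZero_tor_iff ((topSC K 0 hb).X₃.X (-1)) N 0).mpr
      (hv N _ (Or.inl (by norm_num)))
  haveI := topSC_g_isIso K 0 hb (-1) (by decide)
  exact Module.Flat.of_linearEquiv (asIso ((topSC K 0 hb).g.f (-1))).toLinearEquiv

end Flat

section ES

variable (B B' : Type u) [CommRing B] [CommRing B'] [Algebra B B']

/-- `B'` with the restricted module structure is `B'` with the algebra module structure -/
noncomputable def rsEquiv :
    ((ModuleCat.restrictScalars.{u} (algebraMap B B')).obj (ModuleCat.of B' B')) ≃ₗ[B] B' where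
  toFun x := x
  invFun x := x
  map_add' _ _ := rfl
  map_smul' b x := (algebraMap_smul B' b (show B' from x))
  left_inv _ := rfl
  right_inv _ := rfl

variable {B B'}

/-- `(extendScalars).obj M ≃+ B' ⊗[B] M` -/
noncomputable def esAddEquiv (M : Type u) [AddCommGroup M] [Module B M] :
    ((es (algebraMap B B')).obj (ModuleCat.of B M)) ≃+ B' ⊗[B] M :=
  (TensorProduct.congr (rsEquiv B B') (LinearEquiv.refl B M)).toAddEquiv

theorem esAddEquiv_smul (M : Type u) [AddCommGroup M] [Module B M] (s : B')
    (x : ((es (algebraMap B B')).obj (ModuleCat.of B M))) :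
    esAddEquiv M (s • x) = s • esAddEquiv M x := by
  refine TensorProduct.induction_on x ?_ ?_ ?_
  · have h0 : s • (0 : ((es (algebraMap B B')).obj (ModuleCat.of B M))) = 0 := smul_zero _
    exact (congrArg (esAddEquiv M) h0).trans ((map_zero _).trans
      ((smul_zero s).symm.trans (congrArg (fun z => s • z) (map_zero (esAddEquiv M)).symm)))
  · intro b m
    rfl
  · intro (x : ((es (algebraMap B B')).obj (ModuleCat.of B M)))
      (y : ((es (algebraMap B B')).obj (ModuleCat.of B M))) hx hy
    have h1 : s • (x + y) = s • x + s • y := smul_add _ _ _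
    exact (congrArg (esAddEquiv M) h1).trans ((map_add _ _ _).trans
      ((congrArg₂ (· + ·) hx hy).trans ((smul_add s _ _).symm.trans
        (congrArg (fun z => s • z) (map_add (esAddEquiv M) x y).symm))))

/-- `(extendScalars).obj M ≅ B' ⊗[B] M` in `ModuleCat B'` -/
noncomputable def esIso (M : Type u) [AddCommGroup M] [Module B M] :
    (es (algebraMap B B')).obj (ModuleCat.of B M) ≅ ModuleCat.of B' (B' ⊗[B] M) :=
  ((esAddEquiv M).toLinearEquiv (esAddEquiv_smul M)).toModuleIso

theorem esIso_naturality {M N : Type u} [AddCommGroup M] [Module B M] [AddCommGroup N]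
    [Module B N] (d : M →ₗ[B] N) :
    (es (algebraMap B B')).map (ModuleCat.ofHom d) ≫ (esIso N).hom =
      (esIso M).hom ≫ ModuleCat.ofHom (d.baseChange B') := by
  apply ModuleCat.ExtendScalars.hom_ext
  intro m
  rfl

theorem esIso_inv_naturality {M N : Type u} [AddCommGroup M] [Module B M] [AddCommGroup N]
    [Module B N] (d : M →ₗ[B] N) :
    (esIso M).inv ≫ (es (algebraMap B B')).map (ModuleCat.ofHom d) =
      ModuleCat.ofHom (d.baseChange B') ≫ (esIso N).inv := by
  rw [Iso.inv_comp_eq, ← Category.assoc, Iso.eq_comp_inv]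
  exact esIso_naturality d

/-- the comparison `(B' ⊗ M → B' ⊗ N) ⟶ extendScalars (M → N)` of two-term complexes -/
noncomputable def psi {M N : Type u} [AddCommGroup M] [Module B M] [AddCommGroup N]
    [Module B N] (d : M →ₗ[B] N) :
    dbl (ModuleCat.ofHom (d.baseChange B')) ⟶
      (esC (algebraMap B B')).obj (dbl (ModuleCat.ofHom d)) :=
  mkHomFromDouble rel ne
    ((esIso M).inv ≫ (es (algebraMap B B')).map (doubleXIso₀ (ModuleCat.ofHom d) rel).inv)
    ((esIso N).inv ≫ (es (algebraMap B B')).map (doubleXIso₁ (ModuleCat.ofHom d) rel ne).inv)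
    (by
      show ((esIso M).inv ≫ (es (algebraMap B B')).map
          (doubleXIso₀ (ModuleCat.ofHom d) rel).inv) ≫
          (es (algebraMap B B')).map ((dbl (ModuleCat.ofHom d)).d (-1) 0) =
        ModuleCat.ofHom (d.baseChange B') ≫ ((esIso N).inv ≫ (es (algebraMap B B')).map
          (doubleXIso₁ (ModuleCat.ofHom d) rel ne).inv)
      rw [double_d (ModuleCat.ofHom d) rel ne, Category.assoc, ← Functor.map_comp,
        Iso.inv_hom_id_assoc, Functor.map_comp, ← Category.assoc, esIso_inv_naturality,
        Category.assoc])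
    (fun k hk => (show IsZero ((es (algebraMap B B')).obj ((dbl (ModuleCat.ofHom d)).X k)) from
      Functor.map_isZero (es (algebraMap B B'))
        (isZero_double_X (ModuleCat.ofHom d) rel k (by simp at hk; omega)
          (by simp at hk; omega))).eq_of_tgt _ _)

theorem psi_f₀ {M N : Type u} [AddCommGroup M] [Module B M] [AddCommGroup N]
    [Module B N] (d : M →ₗ[B] N) :
    (psi (B' := B') d).f (-1) =
      (doubleXIso₀ (ModuleCat.ofHom (d.baseChange B')) rel).hom ≫
        ((esIso M).inv ≫ (es (algebraMap B B')).map (doubleXIso₀ (ModuleCat.ofHom d) rel).inv) :=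
  mkHomFromDouble_f₀ _ _ _ _ _ _

theorem psi_f₁ {M N : Type u} [AddCommGroup M] [Module B M] [AddCommGroup N]
    [Module B N] (d : M →ₗ[B] N) :
    (psi (B' := B') d).f 0 =
      (doubleXIso₁ (ModuleCat.ofHom (d.baseChange B')) rel ne).hom ≫
        ((esIso N).inv ≫ (es (algebraMap B B')).map
          (doubleXIso₁ (ModuleCat.ofHom d) rel ne).inv) :=
  mkHomFromDouble_f₁ _ _ _ _ _ _

theorem isIso_psi {M N : Type u} [AddCommGroup M] [Module B M] [AddCommGroup N]
    [Module B N] (d : M →ₗ[B] N) : IsIso (psi (B' := B') d) := by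
  have : ∀ i : ℤ, IsIso ((psi (B' := B') d).f i) := by
    intro i
    by_cases hi0 : i = -1
    · subst hi0
      have h := psi_f₀ (B' := B') d
      exact h ▸ (inferInstance : IsIso ((doubleXIso₀ (ModuleCat.ofHom (d.baseChange B')) rel).hom ≫
        ((esIso M).inv ≫ (es (algebraMap B B')).map (doubleXIso₀ (ModuleCat.ofHom d) rel).inv)))
    · by_cases hi1 : i = 0
      · subst hi1
        have h := psi_f₁ (B' := B') d
        exact h ▸ (inferInstance : IsIso
          ((doubleXIso₁ (ModuleCat.ofHom (d.baseChange B')) rel ne).hom ≫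
          ((esIso N).inv ≫ (es (algebraMap B B')).map
            (doubleXIso₁ (ModuleCat.ofHom d) rel ne).inv)))
      · have hX : IsZero ((dbl (ModuleCat.ofHom (d.baseChange B'))).X i) :=
          isZero_double_X _ _ i hi0 hi1
        have hY : IsZero (((esC (algebraMap B B')).obj (dbl (ModuleCat.ofHom d))).X i) :=
          (show IsZero ((es (algebraMap B B')).obj ((dbl (ModuleCat.ofHom d)).X i)) from
            Functor.map_isZero (es (algebraMap B B'))
              (isZero_double_X (ModuleCat.ofHom d) rel i hi0 hi1))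
        exact ⟨⟨0, hX.eq_of_src _ _, hY.eq_of_src _ _⟩⟩
  exact HomologicalComplex.Hom.isIso_of_components _

end ES

section Main

variable (A B A' B' : Type u) [CommRing A] [CommRing B] [CommRing A'] [CommRing B']
  [Algebra A B] [Algebra A' B'] [Algebra A A'] [Algebra B B'] [Algebra A B']
  [IsScalarTower A A' B'] [IsScalarTower A B B'] [Algebra.IsPushout A A' B B']

theorem nonempty_LBaseChange_iso [Module.Flat A B]
    (hT : DRing.HasTorAmplitudeIn B (-1) 0 (LCI.NL A B))
    [DRing.HasLBaseChange (algebraMap B B')] :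
    Nonempty ((DRing.LBaseChange (algebraMap B B')).obj (LCI.NL A B) ≅ LCI.NL A' B') := by
  have hK : DRing.VanishesOutside (LCI.NLcx A B) (-1) 0 := fun i hi =>
    isZero_double_X _ _ i (by omega) (by omega)
  haveI h0 : Module.Flat B ((LCI.NLcx A B).X 0) :=
    Module.Flat.of_linearEquiv (doubleXIso₁
      (ModuleCat.ofHom (Algebra.Generators.self A B).toExtension.cotangentComplex) rel
      ne).toLinearEquiv
  have hm1 : Module.Flat B ((LCI.NLcx A B).X (-1)) :=
    flat_X_neg_one (LCI.NLcx A B) hK (torVan_of_hasTorAmplitudeIn hT)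
  have hflat : ∀ i, Module.Flat B ((LCI.NLcx A B).X i) := by
    intro i
    by_cases h1 : i = -1
    · subst h1
      exact hm1
    · by_cases h2 : i = 0
      · subst h2
        exact h0
      · exact flat_of_isZero _ (isZero_double_X _ _ i h1 h2)
  obtain ⟨e1⟩ := nonempty_LBaseChange_iso_of_flat (algebraMap B B') (LCI.NLcx A B) 0
    (fun i hi => hK i (Or.inr hi)) hflat (hasProjRes_of_bounded (LCI.NLcx A B) (-1) 0 hK)
  haveI := isIso_psi (B' := B') (Algebra.Generators.self A B).toExtension.cotangentComplex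
  have e2 : Q.obj ((esC (algebraMap B B')).obj (LCI.NLcx A B)) ≅
      Q.obj (NLCx.bcCx (Algebra.Generators.self A B).toExtension B') :=
    (Q.mapIso (asIso (psi (B' := B')
      (Algebra.Generators.self A B).toExtension.cotangentComplex))).symm
  haveI : QuasiIso (NLCx.bcMapSelf A B A' B') := quasiIso_bcMapSelf_of_flat_top A B A' B'
  have hq : IsIso (DerivedCategory.Q.map (NLCx.bcMapSelf A B A' B')) :=
    (DerivedCategory.isIso_Q_map_iff_quasiIso _ (NLCx.bcMapSelf A B A' B')).mpr
      (quasiIso_bcMapSelf_of_flat_top A B A' B')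
  exact ⟨e1 ≪≫ e2 ≪≫ @asIso _ _ _ _ _ hq⟩

end Main

end Groth.Agent.Helper6.NLFlat
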