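import Groth.Agent.Lib.Helper6.NLFlatA

/-!
# Injectivity of `T ⊗ H¹(L_{S/R}) → H¹(L_{T/R})` from a flat lift of `T` over the universal
square-zero thickening of `S` (helper6)

For `R → S → T`, a presentation `P ↠ S` over `R` with kernel `I`, and a flat `P/I²`-algebra `C'`
with a surjection `ρ : C' → T` compatible with `P/I² → S → T` whose kernel has square zero, the map
`T ⊗_S (I/I²) → J/J²` (for the composed presentation of `T` over `R`) has a retraction onto `C'`,
hence is injective.
-/

open TensorProduct

universe u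

set_option linter.style.haveILetI false

namespace Groth.Agent.Helper6.NLHens

section B1

variable {R S T : Type u} [CommRing R] [CommRing S] [CommRing T]
  [Algebra R S] [Algebra R T] [Algebra S T] [IsScalarTower R S T]
  {P : Algebra.Extension.{u} R S} {P' : Algebra.Extension.{u} R T} (f : P.Hom P')

theorem lift_cotangent_injective_of_lift
    {C' : Type u} [CommRing C'] (ι : P.Ring →+* C') (ψ : P'.Ring →+* C') (ρ : C' →+* T)
    (hψf : ∀ x : P.Ring, ψ (f.toRingHom x) = ι x)
    (hρψ : ∀ y : P'.Ring, ρ (ψ y) = algebraMap P'.Ring T y)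
    (hsq : ∀ y z : P'.Ring, y ∈ P'.ker → z ∈ P'.ker → ψ y * ψ z = 0)
    (hinj : ∀ (s : Finset (T × P.Cotangent)) (c : T × P.Cotangent → C')
      (x : T × P.Cotangent → P.ker), ∑ i ∈ s, c i * ι (x i) = 0 →
        ∑ i ∈ s, ρ (c i) ⊗ₜ[S] Algebra.Extension.Cotangent.mk (x i) =
          (0 : T ⊗[S] P.Cotangent)) :
    Function.Injective (LinearMap.liftBaseChange T (Algebra.Extension.Cotangent.map f)) := by
  rw [injective_iff_map_eq_zero]
  intro ξ hξ
  obtain ⟨s, rfl⟩ := TensorProduct.exists_finset ξ
  choose q hq using fun i : T × P.Cotangent => P'.algebraMap_surjective i.1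
  choose x hx using fun i : T × P.Cotangent =>
    Algebra.Extension.Cotangent.mk_surjective (P := P) i.2
  let w : P'.ker := ∑ i ∈ s,
    q i • (⟨f.toRingHom (x i), NLFlat.toRingHom_mem_ker f (x i)⟩ : P'.ker)
  have hw : LinearMap.liftBaseChange T (Algebra.Extension.Cotangent.map f)
      (∑ i ∈ s, i.1 ⊗ₜ[S] i.2) = Algebra.Extension.Cotangent.mk w := by
    rw [map_sum, map_sum]
    refine Finset.sum_congr rfl fun i _ => ?_
    rw [LinearMap.liftBaseChange_tmul, map_smul]
    conv_lhs => rw [← hx i, ← hq i]
    rw [Algebra.Extension.Cotangent.map_mk, algebraMap_smul]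
    rfl
  rw [hw] at hξ
  have hw2 : (w : P'.Ring) ∈ P'.ker ^ 2 :=
    (Algebra.Extension.Cotangent.mk_eq_zero_iff w).mp hξ
  have hker2 : P'.ker ^ 2 ≤ RingHom.ker ψ := by
    rw [pow_two, Ideal.mul_le]
    intro y hy z hz
    rw [RingHom.mem_ker, map_mul]
    exact hsq y z hy hz
  have hψw : ψ (w : P'.Ring) = 0 := hker2 hw2
  have hwval : (w : P'.Ring) = ∑ i ∈ s, q i * f.toRingHom (x i) := by
    show ((∑ i ∈ s, q i • (⟨f.toRingHom (x i), NLFlat.toRingHom_mem_ker f (x i)⟩ : P'.ker) :
      P'.ker) : P'.Ring) = _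
    rw [Submodule.coe_sum]
    rfl
  rw [hwval, map_sum] at hψw
  simp only [map_mul, hψf] at hψw
  have h0 := hinj s (fun i => ψ (q i)) x hψw
  simp only [hρψ, hq, hx] at h0
  exact h0

end B1

section B2

variable {R S T : Type u} [CommRing R] [CommRing S] [CommRing T] [Algebra R S] [Algebra S T]
  (P : Algebra.Extension.{u} R S)

theorem coe_sum_smul {σ : Type u} [Fintype σ] (p : σ → P.Ring) (x : σ → P.ker) :
    ((∑ i, p i • x i : P.ker) : P.Ring) = ∑ i, p i * (x i : P.Ring) := by
  rw [Submodule.coe_sum]
  rfl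

theorem mk_sum_smul_eq_zero {σ : Type u} [Fintype σ] (p : σ → P.Ring) (x : σ → P.ker)
    (h : ∑ i, Ideal.Quotient.mk (P.ker ^ 2) (x i : P.Ring) *
      Ideal.Quotient.mk (P.ker ^ 2) (p i) = 0) :
    Algebra.Extension.Cotangent.mk (P := P) (∑ i, p i • x i) = 0 := by
  rw [Algebra.Extension.Cotangent.mk_eq_zero_iff, coe_sum_smul,
    ← Ideal.Quotient.eq_zero_iff_mem, map_sum, ← h]
  refine Finset.sum_congr rfl fun i _ => ?_
  rw [map_mul, mul_comm]

variable (C' : Type u) [CommRing C'] [Algebra (P.Ring ⧸ P.ker ^ 2) C']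
  (ρ : C' →+* T)
  (hρ : ∀ p : P.Ring, ρ (algebraMap (P.Ring ⧸ P.ker ^ 2) C' (Ideal.Quotient.mk _ p)) =
    algebraMap S T (algebraMap P.Ring S p))

include hρ in
theorem tmul_term (p : P.Ring) (y : C') (x : P.ker) :
    ρ (Ideal.Quotient.mk (P.ker ^ 2) p • y) ⊗ₜ[S] Algebra.Extension.Cotangent.mk (P := P) x =
      ρ y ⊗ₜ[S] Algebra.Extension.Cotangent.mk (P := P) (p • x) := by
  rw [Algebra.smul_def, map_mul, hρ, ← Algebra.smul_def, TensorProduct.smul_tmul,
    algebraMap_smul, map_smul]

set_option maxHeartbeats 1000000 in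
include hρ in
theorem hinj_of_flat_fintype [Module.Flat (P.Ring ⧸ P.ker ^ 2) C'] {σ : Type u} [Fintype σ]
    (c : σ → C') (x : σ → P.ker)
    (h : ∑ i, Ideal.Quotient.mk (P.ker ^ 2) (x i : P.Ring) • c i = 0) :
    ∑ i, ρ (c i) ⊗ₜ[S] Algebra.Extension.Cotangent.mk (x i) =
      (0 : T ⊗[S] P.Cotangent) := by
  classical
  obtain ⟨k, a, y, hy, ha⟩ := Module.Flat.isTrivialRelation_of_sum_smul_eq_zero
    (R := P.Ring ⧸ P.ker ^ 2) (M := C')
    (f := fun i => Ideal.Quotient.mk (P.ker ^ 2) (x i : P.Ring)) (x := c) h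
  choose p hp using fun (i : σ) (j : Fin k) => Ideal.Quotient.mk_surjective (a i j)
  have hkey : ∀ j : Fin k,
      Algebra.Extension.Cotangent.mk (P := P) (∑ i, p i j • x i) = 0 := by
    intro j
    apply mk_sum_smul_eq_zero
    rw [← ha j]
    exact Finset.sum_congr rfl fun i _ => by rw [hp i j]
  calc ∑ i, ρ (c i) ⊗ₜ[S] Algebra.Extension.Cotangent.mk (P := P) (x i)
      = ∑ i, ∑ j : Fin k,
          ρ (y j) ⊗ₜ[S] Algebra.Extension.Cotangent.mk (P := P) (p i j • x i) := by
        refine Finset.sum_congr rfl fun i _ => ?_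
        rw [hy i, map_sum, TensorProduct.sum_tmul]
        refine Finset.sum_congr rfl fun j _ => ?_
        rw [← hp i j]
        exact tmul_term P C' ρ hρ (p i j) (y j) (x i)
    _ = ∑ j : Fin k, ∑ i,
          ρ (y j) ⊗ₜ[S] Algebra.Extension.Cotangent.mk (P := P) (p i j • x i) :=
        Finset.sum_comm
    _ = ∑ j : Fin k, ρ (y j) ⊗ₜ[S]
          Algebra.Extension.Cotangent.mk (P := P) (∑ i, p i j • x i) := by
        refine Finset.sum_congr rfl fun j _ => ?_
        rw [map_sum, TensorProduct.tmul_sum]
    _ = 0 := by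
        refine Finset.sum_eq_zero fun j _ => ?_
        rw [hkey j, TensorProduct.tmul_zero]

include hρ in
theorem hinj_of_flat [Module.Flat (P.Ring ⧸ P.ker ^ 2) C'] {κ : Type u} (s : Finset κ)
    (c : κ → C') (x : κ → P.ker)
    (h : ∑ i ∈ s, c i * algebraMap (P.Ring ⧸ P.ker ^ 2) C'
      (Ideal.Quotient.mk _ (x i : P.Ring)) = 0) :
    ∑ i ∈ s, ρ (c i) ⊗ₜ[S] Algebra.Extension.Cotangent.mk (x i) =
      (0 : T ⊗[S] P.Cotangent) := by
  have h' : ∑ i : s, (Ideal.Quotient.mk (P.ker ^ 2) ((x i : P.ker) : P.Ring)) • c i = 0 := by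
    rw [← h, ← Finset.sum_coe_sort s]
    refine Finset.sum_congr rfl fun i _ => ?_
    rw [Algebra.smul_def, mul_comm]
  have h2 := hinj_of_flat_fintype P C' ρ hρ (fun i : s => c i) (fun i : s => x i) h'
  rw [← Finset.sum_coe_sort s]
  exact h2

end B2

section B3

variable {R S T : Type u} [CommRing R] [CommRing S] [CommRing T]
  [Algebra R S] [Algebra R T] [Algebra S T] [IsScalarTower R S T]
  {ι κ : Type u} (G : Algebra.Generators R S ι) (Q : Algebra.Generators S T κ)
  (C' : Type u) [CommRing C'] [Algebra (G.toExtension.Ring ⧸ G.toExtension.ker ^ 2) C']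
  (ρ : C' →+* T)

/-- the structure map `R[X] → P/I² → C'` -/
noncomputable def iota₁ : MvPolynomial ι R →+* C' :=
  (algebraMap (G.toExtension.Ring ⧸ G.toExtension.ker ^ 2) C').comp
    (Ideal.Quotient.mk (G.toExtension.ker ^ 2))

/-- a lift `R[Y, X] → C'` of the presentation of `T` -/
noncomputable def psi (lft : κ → C') : MvPolynomial (κ ⊕ ι) R →+* C' :=
  MvPolynomial.eval₂Hom ((iota₁ G C').comp MvPolynomial.C)
    (Sum.elim lft (fun i => iota₁ G C' (MvPolynomial.X i)))

theorem psi_rename (lft : κ → C') (x : MvPolynomial ι R) :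
    psi G C' lft (MvPolynomial.rename Sum.inr x) = iota₁ G C' x := by
  have h2 : (psi G C' lft).comp
      (MvPolynomial.rename Sum.inr : MvPolynomial ι R →ₐ[R] MvPolynomial (κ ⊕ ι) R).toRingHom =
        iota₁ G C' := by
    apply MvPolynomial.ringHom_ext
    · intro r
      simp [psi]
    · intro i
      simp [psi]
  exact DFunLike.congr_fun h2 x

variable (hρ : ∀ p : G.toExtension.Ring,
    ρ (algebraMap (G.toExtension.Ring ⧸ G.toExtension.ker ^ 2) C' (Ideal.Quotient.mk _ p)) =
      algebraMap S T (algebraMap G.toExtension.Ring S p))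

include hρ in
theorem rho_iota₁ (p : MvPolynomial ι R) :
    ρ (iota₁ G C' p) = algebraMap S T (MvPolynomial.aeval G.val p) := by
  exact (hρ p).trans (congrArg _ (Algebra.Generators.algebraMap_apply G p))

include hρ in
theorem rho_psi (lft : κ → C') (hlft : ∀ j, ρ (lft j) = Q.val j) (y : MvPolynomial (κ ⊕ ι) R) :
    ρ (psi G C' lft y) = MvPolynomial.aeval (Q.comp G).val y := by
  have h3 : ρ.comp (psi G C' lft) =
      (MvPolynomial.aeval (Q.comp G).val : MvPolynomial (κ ⊕ ι) R →ₐ[R] T).toRingHom := by
    apply MvPolynomial.ringHom_ext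
    · intro r
      have e1 : psi G C' lft (MvPolynomial.C r) = iota₁ G C' (MvPolynomial.C r) := by
        simp [psi]
      rw [RingHom.comp_apply, e1, rho_iota₁ G C' ρ hρ]
      simp [← IsScalarTower.algebraMap_apply]
    · rintro (j | i)
      · have e1 : psi G C' lft (MvPolynomial.X (Sum.inl j)) = lft j := by simp [psi]
        rw [RingHom.comp_apply, e1, hlft]
        simp [Algebra.Generators.comp]
      · have e1 : psi G C' lft (MvPolynomial.X (Sum.inr i)) =
            iota₁ G C' (MvPolynomial.X i) := by simp [psi]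
        rw [RingHom.comp_apply, e1, rho_iota₁ G C' ρ hρ]
        simp [Algebra.Generators.comp]
  exact DFunLike.congr_fun h3 y

variable [Module.Flat (G.toExtension.Ring ⧸ G.toExtension.ker ^ 2) C']
  (hρs : Function.Surjective ρ)
  (hsq : ∀ c₁ c₂ : C', ρ c₁ = 0 → ρ c₂ = 0 → c₁ * c₂ = 0)

include hρs hρ hsq in
theorem lift_cotangent_toComp_injective :
    Function.Injective (LinearMap.liftBaseChange T
      (Algebra.Extension.Cotangent.map (Q.toComp G).toExtensionHom)) := by
  classical
  choose lft hlft using fun j : κ => hρs (Q.val j)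
  have hψf : ∀ x : G.toExtension.Ring,
      psi G C' lft ((Q.toComp G).toExtensionHom.toRingHom x) = iota₁ G C' x := by
    intro x
    have h1 : (Q.toComp G).toExtensionHom.toRingHom x = MvPolynomial.rename Sum.inr x := by
      show (Q.toComp G).toAlgHom x = _
      rw [Algebra.Generators.toComp_toAlgHom]
    rw [h1]
    exact psi_rename G C' lft x
  have hρψ : ∀ y : (Q.comp G).toExtension.Ring,
      ρ (psi G C' lft y) = algebraMap (Q.comp G).toExtension.Ring T y := by
    intro y
    rw [rho_psi G Q C' ρ hρ lft hlft y]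
    exact (Algebra.Generators.algebraMap_apply (Q.comp G) y).symm
  refine lift_cotangent_injective_of_lift (Q.toComp G).toExtensionHom (iota₁ G C')
    (psi G C' lft) ρ hψf hρψ ?_ ?_
  · intro y z hy hz
    apply hsq
    · exact (hρψ y).trans hy
    · exact (hρψ z).trans hz
  · intro s c x h
    exact hinj_of_flat G.toExtension C' ρ hρ s c x h

include hρs hρ hsq in
theorem h1_liftBaseChange_toComp_injective [Module.Flat S T] :
    Function.Injective ((Algebra.Extension.H1Cotangent.map
      (Q.toComp G).toExtensionHom).liftBaseChange T) := by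
  have hα := lift_cotangent_toComp_injective G Q C' ρ hρ hρs hsq
  have hj : Function.Injective
      (LinearMap.lTensor T (G.toExtension.h1Cotangentι)) :=
    Module.Flat.lTensor_preserves_injective_linearMap (M := T) _
      Algebra.Extension.h1Cotangentι_injective
  have hcomm : ∀ z : T ⊗[S] G.toExtension.H1Cotangent,
      ((Q.comp G).toExtension.h1Cotangentι)
        ((Algebra.Extension.H1Cotangent.map (Q.toComp G).toExtensionHom).liftBaseChange T z) =
      LinearMap.liftBaseChange T (Algebra.Extension.Cotangent.map (Q.toComp G).toExtensionHom)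
        (LinearMap.lTensor T (G.toExtension.h1Cotangentι) z) := by
    intro z
    induction z using TensorProduct.induction_on with
    | zero => simp
    | tmul t x =>
      rw [LinearMap.liftBaseChange_tmul, LinearMap.lTensor_tmul, LinearMap.liftBaseChange_tmul,
        map_smul]
      rfl
    | add a b ha hb => rw [map_add, map_add, map_add, map_add, ha, hb]
  intro z z' hzz
  apply hj
  apply hα
  rw [← hcomm, ← hcomm, hzz]

end B3

section B4

variable (R S T : Type u) [CommRing R] [CommRing S] [CommRing T]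
  [Algebra R S] [Algebra R T] [Algebra S T] [IsScalarTower R S T]

/-- transfer of injectivity from the composed presentation to the canonical presentations -/
theorem h1_liftBaseChange_injective_of_toComp
    (h : Function.Injective ((Algebra.Extension.H1Cotangent.map
      ((Algebra.Generators.self S T).toComp (Algebra.Generators.self R S)).toExtensionHom).liftBaseChange T)) :
    Function.Injective ((Algebra.H1Cotangent.map R R S T).liftBaseChange T) := by
  let G := Algebra.Generators.self R S
  let Q := Algebra.Generators.self S T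
  let W := Algebra.Generators.self R T
  let e := Algebra.Generators.H1Cotangent.equiv W (Q.comp G)
  have hcomm : ∀ z : T ⊗[S] Algebra.H1Cotangent R S,
      e ((Algebra.H1Cotangent.map R R S T).liftBaseChange T z) =
        (Algebra.Extension.H1Cotangent.map (Q.toComp G).toExtensionHom).liftBaseChange T z := by
    intro z
    induction z using TensorProduct.induction_on with
    | zero => simp
    | tmul t x =>
      rw [LinearMap.liftBaseChange_tmul, LinearMap.liftBaseChange_tmul, map_smul]
      congr 1
      show Algebra.Extension.H1Cotangent.map (W.defaultHom (Q.comp G)).toExtensionHom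
        (Algebra.Extension.H1Cotangent.map (G.defaultHom W).toExtensionHom x) = _
      rw [← Algebra.Extension.H1Cotangent.map_comp_apply]
      exact congrFun (congrArg DFunLike.coe (Algebra.Extension.H1Cotangent.map_eq _ _)) x
    | add a b ha hb => rw [map_add, map_add, map_add, ha, hb]
  intro z z' hzz
  apply h
  rw [← hcomm, ← hcomm, hzz]

/-- **Main injectivity lemma**: a flat lift of `T` over `P/I²` forces
`T ⊗_S H¹(L_{S/R}) → H¹(L_{T/R})` to be injective. -/
theorem h1_liftBaseChange_injective [Module.Flat S T]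
    (C' : Type u) [CommRing C']
    [Algebra ((Algebra.Generators.self R S).toExtension.Ring ⧸
      (Algebra.Generators.self R S).toExtension.ker ^ 2) C']
    [Module.Flat ((Algebra.Generators.self R S).toExtension.Ring ⧸
      (Algebra.Generators.self R S).toExtension.ker ^ 2) C']
    (ρ : C' →+* T) (hρs : Function.Surjective ρ)
    (hρ : ∀ p : (Algebra.Generators.self R S).toExtension.Ring,
      ρ (algebraMap ((Algebra.Generators.self R S).toExtension.Ring ⧸
        (Algebra.Generators.self R S).toExtension.ker ^ 2) C' (Ideal.Quotient.mk _ p)) =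
        algebraMap S T (algebraMap (Algebra.Generators.self R S).toExtension.Ring S p))
    (hsq : ∀ c₁ c₂ : C', ρ c₁ = 0 → ρ c₂ = 0 → c₁ * c₂ = 0) :
    Function.Injective ((Algebra.H1Cotangent.map R R S T).liftBaseChange T) :=
  h1_liftBaseChange_injective_of_toComp R S T
    (h1_liftBaseChange_toComp_injective (Algebra.Generators.self R S)
      (Algebra.Generators.self S T) C' ρ hρ hρs hsq)

end B4

end Groth.Agent.Helper6.NLHens
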