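import Mathlib

/-!
# `H¹` and `H⁰` of the naive cotangent complex along formally étale maps (helper6)

For a commutative square `A → B`, `A' → B'` with `A → A'` and `B → B'` formally étale and `B → B'` flat,
the maps `B' ⊗_B H¹(L_{B/A}) → H¹(L_{B'/A'})` and `B' ⊗_B Ω_{B/A} → Ω_{B'/A'}` are bijective as soon
as `B' ⊗_B H¹(L_{B/A}) → H¹(L_{B'/A})` is injective.
-/

open TensorProduct

universe u

set_option linter.style.haveILetI false

namespace Groth.Agent.Helper6.NLHens

theorem tensor_eq_zero_of_subsingleton_right {R M N : Type*} [CommRing R] [AddCommGroup M]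
    [AddCommGroup N] [Module R M] [Module R N] [Subsingleton N] (z : M ⊗[R] N) : z = 0 := by
  induction z using TensorProduct.induction_on with
  | zero => rfl
  | tmul x y => rw [Subsingleton.elim y 0, TensorProduct.tmul_zero]
  | add a b ha hb => rw [ha, hb, add_zero]

theorem tensor_eq_zero_of_subsingleton_left {R M N : Type*} [CommRing R] [AddCommGroup M]
    [AddCommGroup N] [Module R M] [Module R N] [Subsingleton M] (z : M ⊗[R] N) : z = 0 := by
  induction z using TensorProduct.induction_on with
  | zero => rfl
  | tmul x y => rw [Subsingleton.elim x 0, TensorProduct.zero_tmul]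
  | add a b ha hb => rw [ha, hb, add_zero]

section Tower

variable (R S T : Type u) [CommRing R] [CommRing S] [CommRing T]
  [Algebra R S] [Algebra R T] [Algebra S T] [IsScalarTower R S T]

theorem cotangentComplex_bijective [Algebra.FormallyEtale R S] :
    Function.Bijective (Algebra.Generators.self R S).toExtension.cotangentComplex := by
  constructor
  · rw [injective_iff_map_eq_zero]
    intro x hx
    haveI hs : Subsingleton
        (LinearMap.ker (Algebra.Generators.self R S).toExtension.cotangentComplex) :=
      (inferInstance : Subsingleton (Algebra.H1Cotangent R S))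
    have h0 : (⟨x, LinearMap.mem_ker.mpr hx⟩ :
        LinearMap.ker (Algebra.Generators.self R S).toExtension.cotangentComplex) = 0 :=
      Subsingleton.elim _ _
    exact congrArg Subtype.val h0
  · intro y
    have hy : (Algebra.Generators.self R S).toExtension.toKaehler y = 0 := Subsingleton.elim _ _
    exact ((Algebra.Generators.self R S).toExtension.exact_cotangentComplex_toKaehler y).mp hy

theorem cotangentComplex_baseChange_injective [Algebra.FormallyEtale R S] :
    Function.Injective
      ((Algebra.Generators.self R S).toExtension.cotangentComplex.baseChange T) := by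
  let e := LinearEquiv.ofBijective (Algebra.Generators.self R S).toExtension.cotangentComplex
    (cotangentComplex_bijective R S)
  have hleft : ∀ z, (e.symm.toLinearMap.baseChange T)
      ((Algebra.Generators.self R S).toExtension.cotangentComplex.baseChange T z) = z := by
    intro z
    rw [← LinearMap.comp_apply, ← LinearMap.baseChange_comp]
    have h1 : e.symm.toLinearMap ∘ₗ (Algebra.Generators.self R S).toExtension.cotangentComplex =
        LinearMap.id := by
      ext x
      exact e.symm_apply_apply x
    rw [h1, LinearMap.baseChange_id]
    rfl
  exact Function.LeftInverse.injective hleft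

theorem h1_map_ofComp_injective [Algebra.FormallyEtale R S] :
    Function.Injective (Algebra.Extension.H1Cotangent.map
      ((Algebra.Generators.self S T).ofComp (Algebra.Generators.self R S)).toExtensionHom) := by
  rw [injective_iff_map_eq_zero]
  rintro ⟨x, x_in⟩ hx
  replace hx : Algebra.Extension.Cotangent.map
      ((Algebra.Generators.self S T).ofComp (Algebra.Generators.self R S)).toExtensionHom x = 0 :=
    (congrArg Algebra.Extension.h1Cotangentι hx).trans (map_zero _)
  obtain ⟨y, hy⟩ := (Algebra.Generators.Cotangent.exact (Algebra.Generators.self S T)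
    (Algebra.Generators.self R S) x).mp hx
  have hd : ((Algebra.Generators.self S T).comp
      (Algebra.Generators.self R S)).toExtension.cotangentComplex x = 0 := x_in
  rw [← hy] at hd
  have hc := congrFun (congrArg DFunLike.coe
    (Algebra.Generators.H1Cotangent.map_comp_cotangentComplex_baseChange
      (Algebra.Generators.self S T) (Algebra.Generators.self R S))) y
  simp only [LinearMap.comp_apply] at hc
  rw [hd] at hc
  have h0 : (Algebra.Generators.self R S).toExtension.cotangentComplex.baseChange T y = 0 :=
    Algebra.Generators.CotangentSpace.map_toComp_injective (Algebra.Generators.self S T)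
      (Algebra.Generators.self R S) (by rw [hc, map_zero])
  have hy0 : y = 0 := cotangentComplex_baseChange_injective R S T (by rw [h0, map_zero])
  apply Algebra.Extension.h1Cotangentι_injective
  rw [map_zero]
  show x = 0
  rw [← hy, hy0, map_zero]

theorem h1_map_injective [Algebra.FormallyEtale R S] :
    Function.Injective (Algebra.H1Cotangent.map R S T T) := by
  let P := Algebra.Generators.self R S
  let Q := Algebra.Generators.self S T
  let W := Algebra.Generators.self R T
  let e := Algebra.Generators.H1Cotangent.equiv (Q.comp P) W
  have hcomm : ∀ x, Algebra.H1Cotangent.map R S T T (e x) =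
      Algebra.Extension.H1Cotangent.map (Q.ofComp P).toExtensionHom x := by
    intro x
    show Algebra.Extension.H1Cotangent.map (W.defaultHom Q).toExtensionHom
      (Algebra.Extension.H1Cotangent.map ((Q.comp P).defaultHom W).toExtensionHom x) = _
    rw [← Algebra.Extension.H1Cotangent.map_comp_apply]
    exact congrFun (congrArg DFunLike.coe (Algebra.Extension.H1Cotangent.map_eq _ _)) x
  intro w w' hww
  obtain ⟨x, rfl⟩ := e.surjective w
  obtain ⟨x', rfl⟩ := e.surjective w'
  rw [hcomm, hcomm] at hww
  rw [h1_map_ofComp_injective R S T hww]

theorem h1_map_surjective [Subsingleton (Ω[S⁄R])] :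
    Function.Surjective (Algebra.H1Cotangent.map R S T T) := by
  intro y
  have h0 : Algebra.H1Cotangent.δ R S T y = 0 := tensor_eq_zero_of_subsingleton_right _
  exact (Algebra.H1Cotangent.exact_map_δ R S T y).mp h0

theorem h1_lift_surjective [Module.Flat S T] [Subsingleton (Algebra.H1Cotangent S T)] :
    Function.Surjective ((Algebra.H1Cotangent.map R R S T).liftBaseChange T) := by
  intro y
  have h0 : Algebra.H1Cotangent.map R S T T y = 0 := Subsingleton.elim _ _
  exact (Algebra.H1Cotangent.exact_liftBaseChange_map_of_flat R S T y).mp h0

theorem kaehler_mapBaseChange_bijective [Subsingleton (Algebra.H1Cotangent S T)]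
    [Subsingleton (Ω[T⁄S])] :
    Function.Bijective (KaehlerDifferential.mapBaseChange R S T) := by
  constructor
  · rw [injective_iff_map_eq_zero]
    intro z hz
    obtain ⟨y, rfl⟩ := (Algebra.H1Cotangent.exact_δ_mapBaseChange R S T z).mp hz
    rw [Subsingleton.elim y 0, map_zero]
  · intro y
    have h0 : KaehlerDifferential.map R S T T y = 0 := Subsingleton.elim _ _
    exact (KaehlerDifferential.exact_mapBaseChange_map R S T y).mp h0

theorem kaehler_map_bijective [Subsingleton (Ω[S⁄R])] :
    Function.Bijective (KaehlerDifferential.map R S T T) := by
  constructor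
  · rw [injective_iff_map_eq_zero]
    intro y hy
    obtain ⟨z, rfl⟩ := (KaehlerDifferential.exact_mapBaseChange_map R S T y).mp hy
    rw [tensor_eq_zero_of_subsingleton_right z, map_zero]
  · exact KaehlerDifferential.map_surjective R S T

end Tower

section Square

variable (A B A' B' : Type u) [CommRing A] [CommRing B] [CommRing A'] [CommRing B']
  [Algebra A B] [Algebra A' B'] [Algebra A A'] [Algebra B B'] [Algebra A B']
  [IsScalarTower A A' B'] [IsScalarTower A B B']

theorem h1_map_comp (x : Algebra.H1Cotangent A B) :
    Algebra.H1Cotangent.map A A' B' B' (Algebra.H1Cotangent.map A A B B' x) =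
      Algebra.H1Cotangent.map A A' B B' x := by
  show Algebra.Extension.H1Cotangent.map
      ((Algebra.Generators.self A B').defaultHom (Algebra.Generators.self A' B')).toExtensionHom
    (Algebra.Extension.H1Cotangent.map
      ((Algebra.Generators.self A B).defaultHom (Algebra.Generators.self A B')).toExtensionHom x) =
    Algebra.Extension.H1Cotangent.map
      ((Algebra.Generators.self A B).defaultHom (Algebra.Generators.self A' B')).toExtensionHom x
  rw [← Algebra.Extension.H1Cotangent.map_comp_apply]
  exact congrFun (congrArg DFunLike.coe (Algebra.Extension.H1Cotangent.map_eq _ _)) x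

theorem h1_lift_comp (z : B' ⊗[B] Algebra.H1Cotangent A B) :
    (Algebra.H1Cotangent.map A A' B B').liftBaseChange B' z =
      Algebra.H1Cotangent.map A A' B' B'
        ((Algebra.H1Cotangent.map A A B B').liftBaseChange B' z) := by
  induction z using TensorProduct.induction_on with
  | zero => simp
  | tmul b x =>
    rw [LinearMap.liftBaseChange_tmul, LinearMap.liftBaseChange_tmul, map_smul, h1_map_comp]
  | add a b ha hb => rw [map_add, map_add, map_add, ha, hb]

theorem h1_lift_bijective [Algebra.FormallyEtale A A'] [Algebra.FormallyEtale B B']
    [Module.Flat B B']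
    (hinj : Function.Injective ((Algebra.H1Cotangent.map A A B B').liftBaseChange B')) :
    Function.Bijective ((Algebra.H1Cotangent.map A A' B B').liftBaseChange B') := by
  have h1 : Function.Bijective ((Algebra.H1Cotangent.map A A B B').liftBaseChange B') :=
    ⟨hinj, h1_lift_surjective A B B'⟩
  have h2 : Function.Bijective (Algebra.H1Cotangent.map A A' B' B') :=
    ⟨h1_map_injective A A' B', h1_map_surjective A A' B'⟩
  have h3 : ⇑((Algebra.H1Cotangent.map A A' B B').liftBaseChange B') =
      ⇑(Algebra.H1Cotangent.map A A' B' B') ∘
        ⇑((Algebra.H1Cotangent.map A A B B').liftBaseChange B') :=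
    funext (h1_lift_comp A B A' B')
  rw [h3]
  exact h2.comp h1

theorem kaehler_map_comp (ω : Ω[B⁄A]) :
    KaehlerDifferential.map A A' B' B' (KaehlerDifferential.map A A B B' ω) =
      KaehlerDifferential.map A A' B B' ω := by
  have hω : ω ∈ Submodule.span B (Set.range (KaehlerDifferential.D A B)) := by
    rw [KaehlerDifferential.span_range_derivation]
    trivial
  refine Submodule.span_induction ?_ ?_ ?_ ?_ hω
  · rintro _ ⟨b, rfl⟩
    rw [KaehlerDifferential.map_D, KaehlerDifferential.map_D, KaehlerDifferential.map_D,
      Algebra.algebraMap_self_apply]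
  · rw [map_zero, map_zero, map_zero]
  · intro x y _ _ hx hy
    rw [map_add, map_add, map_add, hx, hy]
  · intro r x _ hx
    have e1 : KaehlerDifferential.map A A B B' (r • x) =
        r • KaehlerDifferential.map A A B B' x := map_smul _ r x
    have e2 : KaehlerDifferential.map A A' B B' (r • x) =
        r • KaehlerDifferential.map A A' B B' x := map_smul _ r x
    rw [e1, e2, ← hx]
    exact LinearMap.map_smul_of_tower _ r _

theorem kaehler_lift_comp (z : B' ⊗[B] Ω[B⁄A]) :
    LinearMap.liftBaseChange B' (KaehlerDifferential.map A A' B B') z =
      KaehlerDifferential.map A A' B' B' (KaehlerDifferential.mapBaseChange A B B' z) := by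
  induction z using TensorProduct.induction_on with
  | zero => simp
  | tmul b x =>
    rw [LinearMap.liftBaseChange_tmul, KaehlerDifferential.mapBaseChange_tmul, map_smul,
      kaehler_map_comp]
  | add a b ha hb => rw [map_add, map_add, map_add, ha, hb]

theorem kaehler_lift_bijective [Algebra.FormallyEtale A A'] [Algebra.FormallyEtale B B'] :
    Function.Bijective (LinearMap.liftBaseChange B' (KaehlerDifferential.map A A' B B')) := by
  have h1 : Function.Bijective (KaehlerDifferential.mapBaseChange A B B') :=
    kaehler_mapBaseChange_bijective A B B'
  have h2 : Function.Bijective (KaehlerDifferential.map A A' B' B') :=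
    kaehler_map_bijective A A' B'
  have h3 : ⇑(LinearMap.liftBaseChange B' (KaehlerDifferential.map A A' B B')) =
      ⇑(KaehlerDifferential.map A A' B' B') ∘ ⇑(KaehlerDifferential.mapBaseChange A B B') :=
    funext (kaehler_lift_comp A B A' B')
  rw [h3]
  exact h2.comp h1

end Square

end Groth.Agent.Helper6.NLHens
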