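import Groth.Agent.Lib.Helper6.NLFlatB
import Groth.Agent.Lib.Helper6.NLHensB
import Groth.Agent.Lib.Helper5.KFlat12

/-!
# Quasi-isomorphism criterion for maps of two-term complexes of modules, and the comparison map
`NL_{B/A} ⊗_B B' → NL_{B'/A'}` along formally étale maps (helper6)
-/

open TensorProduct CategoryTheory HomologicalComplex

universe u

set_option linter.style.haveILetI false

namespace Groth.Agent.Helper6.NLHens

open Groth.Agent.Helper6.NLDbl

section Dbl

variable {R : Type u} [CommRing R] {X₀ X₁ Y₀ Y₁ : ModuleCat.{u} R} {f : X₀ ⟶ X₁} {g : Y₀ ⟶ Y₁}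

theorem eq_zero_of_isZero {M : ModuleCat.{u} R} (h : Limits.IsZero M) (x : M) : x = 0 :=
  (ModuleCat.subsingleton_of_isZero h).elim x 0

theorem dbl_d_apply (x : (dbl f).X (-1)) :
    (dbl f).d (-1) 0 x = (doubleXIso₁ f rel ne).inv (f ((doubleXIso₀ f rel).hom x)) := by
  rw [double_d f rel ne]
  rfl

theorem quasiIso_dmap (a₀ : X₀ ⟶ Y₀) (a₁ : X₁ ⟶ Y₁) (comm : a₀ ≫ g = f ≫ a₁)
    (h1 : ∀ x : X₀, f x = 0 → a₀ x = 0 → x = 0)
    (h2 : ∀ y : Y₀, g y = 0 → ∃ x : X₀, f x = 0 ∧ a₀ x = y)
    (h3 : ∀ (z : X₁) (w : Y₀), a₁ z = g w → ∃ x : X₀, f x = z)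
    (h4 : ∀ w : Y₁, ∃ (z : X₁) (y : Y₀), a₁ z = w + g y) :
    QuasiIso (dmap a₀ a₁ comm) := by
  apply Groth.Agent.Helper5.KF.quasiIso_of_elements
  · intro n n' hn x m hx hfx
    by_cases h0 : n' = -1
    · subst h0
      obtain rfl : n = -2 := by omega
      have hx' : (dbl f).d (-1) 0 x = 0 := hx
      rw [dbl_d_apply] at hx'
      have e1 : f ((doubleXIso₀ f rel).hom x) = 0 := by
        have := congrArg (doubleXIso₁ f rel ne).hom hx'
        rw [ModuleCat.hom_inv_apply, map_zero] at this
        exact this
      have hd0 : (dbl g).d (-2) (-1) = 0 := double_d_eq_zero₀ g rel (-2) (-1) (by decide)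
      rw [hd0, dmap_f₀] at hfx
      have e2 : a₀ ((doubleXIso₀ f rel).hom x) = 0 := by
        have h5 : (doubleXIso₀ g rel).inv (a₀ ((doubleXIso₀ f rel).hom x)) = 0 := hfx
        have := congrArg (doubleXIso₀ g rel).hom h5
        rw [ModuleCat.hom_inv_apply, map_zero] at this
        exact this
      have e3 := h1 _ e1 e2
      have e4 : x = 0 := by
        have := congrArg (doubleXIso₀ f rel).inv e3
        rw [ModuleCat.inv_hom_apply, map_zero] at this
        exact this
      exact ⟨0, by rw [map_zero, e4]⟩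
    · by_cases h1' : n' = 0
      · subst h1'
        obtain rfl : n = -1 := by omega
        rw [dmap_f₁, dbl_d_apply] at hfx
        have e1 : a₁ ((doubleXIso₁ f rel ne).hom x) = g ((doubleXIso₀ g rel).hom m) := by
          have h5 : (doubleXIso₁ g rel ne).inv (a₁ ((doubleXIso₁ f rel ne).hom x)) =
              (doubleXIso₁ g rel ne).inv (g ((doubleXIso₀ g rel).hom m)) := hfx
          have := congrArg (doubleXIso₁ g rel ne).hom h5
          rw [ModuleCat.hom_inv_apply, ModuleCat.hom_inv_apply] at this
          exact this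
        obtain ⟨x₀, hx₀⟩ := h3 _ _ e1
        refine ⟨(doubleXIso₀ f rel).inv x₀, ?_⟩
        rw [dbl_d_apply, ModuleCat.hom_inv_apply, hx₀, ModuleCat.inv_hom_apply]
      · have e4 : x = 0 := eq_zero_of_isZero (isZero_double_X f rel n' h0 h1') x
        exact ⟨0, by rw [map_zero, e4]⟩
  · intro n n' hn m hm
    by_cases h0 : n' = -1
    · subst h0
      obtain rfl : n = -2 := by omega
      have hm' : (dbl g).d (-1) 0 m = 0 := hm
      rw [dbl_d_apply] at hm'
      have e1 : g ((doubleXIso₀ g rel).hom m) = 0 := by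
        have := congrArg (doubleXIso₁ g rel ne).hom hm'
        rw [ModuleCat.hom_inv_apply, map_zero] at this
        exact this
      obtain ⟨x₀, hx₀, hax₀⟩ := h2 _ e1
      refine ⟨(doubleXIso₀ f rel).inv x₀, 0, ?_, ?_⟩
      · show (dbl f).d (-1) 0 _ = 0
        rw [dbl_d_apply, ModuleCat.hom_inv_apply, hx₀, map_zero]
      · rw [map_zero, add_zero, dmap_f₀]
        show (doubleXIso₀ g rel).inv (a₀ ((doubleXIso₀ f rel).hom ((doubleXIso₀ f rel).inv x₀))) = m
        rw [ModuleCat.hom_inv_apply, hax₀, ModuleCat.inv_hom_apply]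
    · by_cases h1' : n' = 0
      · subst h1'
        obtain rfl : n = -1 := by omega
        obtain ⟨z, y, hzy⟩ := h4 ((doubleXIso₁ g rel ne).hom m)
        refine ⟨(doubleXIso₁ f rel ne).inv z, (doubleXIso₀ g rel).inv y, ?_, ?_⟩
        · have hd0 : (dbl f).d 0 (0 + 1) = 0 := double_d_eq_zero₀ f rel 0 (0 + 1) (by decide)
          rw [hd0]
          rfl
        · rw [dmap_f₁, dbl_d_apply]
          show (doubleXIso₁ g rel ne).inv
            (a₁ ((doubleXIso₁ f rel ne).hom ((doubleXIso₁ f rel ne).inv z))) = _
          rw [ModuleCat.hom_inv_apply, ModuleCat.hom_inv_apply, hzy, map_add,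
            ModuleCat.inv_hom_apply]
      · have e4 : m = 0 := eq_zero_of_isZero (isZero_double_X g rel n' h0 h1') m
        refine ⟨0, 0, by rw [map_zero], ?_⟩
        rw [map_zero, map_zero, e4, add_zero]

end Dbl

section Compat

variable {R S R' S' : Type u} [CommRing R] [CommRing S] [CommRing R'] [CommRing S']
  [Algebra R S] [Algebra R' S'] [Algebra R R'] [Algebra S S'] [Algebra R S']
  [IsScalarTower R R' S'] [IsScalarTower R S S']
  {P : Algebra.Extension.{u} R S} {P' : Algebra.Extension.{u} R' S'} (f : P.Hom P')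

omit [IsScalarTower R S S'] in
theorem lift_cotangent_h1ι (z : S' ⊗[S] P.H1Cotangent) :
    LinearMap.liftBaseChange S' (Algebra.Extension.Cotangent.map f)
        (LinearMap.lTensor S' P.h1Cotangentι z) =
      P'.h1Cotangentι (LinearMap.liftBaseChange S' (Algebra.Extension.H1Cotangent.map f) z) := by
  induction z using TensorProduct.induction_on with
  | zero => simp
  | tmul t x =>
    rw [LinearMap.lTensor_tmul, LinearMap.liftBaseChange_tmul, LinearMap.liftBaseChange_tmul,
      map_smul]
    rfl
  | add a b ha hb => rw [map_add, map_add, map_add, map_add, ha, hb]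

theorem toKaehler_cotangentSpace_map (c : P.CotangentSpace) :
    P'.toKaehler (Algebra.Extension.CotangentSpace.map f c) =
      KaehlerDifferential.map R R' S S' (P.toKaehler c) := by
  induction c using TensorProduct.induction_on with
  | zero => simp
  | add a b ha hb => rw [map_add, map_add, map_add, map_add, ha, hb]
  | tmul s ω =>
    have hω : ω ∈ Submodule.span P.Ring (Set.range (KaehlerDifferential.D R P.Ring)) := by
      rw [KaehlerDifferential.span_range_derivation]
      trivial
    revert s
    refine Submodule.span_induction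
      (p := fun ω _ => ∀ s : S, P'.toKaehler (Algebra.Extension.CotangentSpace.map f (s ⊗ₜ ω)) =
        KaehlerDifferential.map R R' S S' (P.toKaehler (s ⊗ₜ ω))) ?_ ?_ ?_ ?_ hω
    · rintro _ ⟨y, rfl⟩ s
      rw [Algebra.Extension.CotangentSpace.map_tmul]
      show KaehlerDifferential.mapBaseChange R' P'.Ring S' _ =
        KaehlerDifferential.map R R' S S' (KaehlerDifferential.mapBaseChange R P.Ring S _)
      rw [KaehlerDifferential.mapBaseChange_tmul, KaehlerDifferential.mapBaseChange_tmul,
        KaehlerDifferential.map_D, KaehlerDifferential.map_D, map_smul,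
        KaehlerDifferential.map_D, algebraMap_smul]
      congr 2
      exact f.algebraMap_toRingHom y
    · intro s
      rw [TensorProduct.tmul_zero, map_zero, map_zero, map_zero, map_zero]
    · intro x y _ _ hx hy s
      rw [TensorProduct.tmul_add, map_add, map_add, map_add, map_add, hx s, hy s]
    · intro p x _ hx s
      have e : s ⊗ₜ[P.Ring] (p • x) = (p • s) ⊗ₜ[P.Ring] x := by
        rw [TensorProduct.smul_tmul]
      rw [e]
      exact hx _

theorem toKaehler_lift_cotangentSpace (z : S' ⊗[S] P.CotangentSpace) :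
    P'.toKaehler (LinearMap.liftBaseChange S' (Algebra.Extension.CotangentSpace.map f) z) =
      LinearMap.liftBaseChange S' (KaehlerDifferential.map R R' S S')
        (P.toKaehler.baseChange S' z) := by
  induction z using TensorProduct.induction_on with
  | zero => simp
  | tmul t c =>
    rw [LinearMap.liftBaseChange_tmul, LinearMap.baseChange_tmul, LinearMap.liftBaseChange_tmul,
      map_smul, toKaehler_cotangentSpace_map]
  | add a b ha hb => rw [map_add, map_add, map_add, map_add, ha, hb]

/-- `NL(P) ⊗_S S' → NL(P')` is a quasi-isomorphism when `S'` is flat over `S` and the maps induced on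
`H⁻¹` and `H⁰` are bijective. -/
theorem quasiIso_bcMap_of_bijective [Module.Flat S S']
    (hΦ : Function.Bijective
      (LinearMap.liftBaseChange S' (Algebra.Extension.H1Cotangent.map f)))
    (hΨ : Function.Bijective
      (LinearMap.liftBaseChange S' (KaehlerDifferential.map R R' S S'))) :
    QuasiIso (NLCx.bcMap (S' := S') f) := by
  have hex1 : Function.Exact (LinearMap.lTensor S' P.h1Cotangentι)
      (LinearMap.lTensor S' P.cotangentComplex) :=
    Module.Flat.lTensor_exact S' P.exact_hCotangentι_cotangentComplex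
  have hex2 : Function.Exact (LinearMap.lTensor S' P.cotangentComplex)
      (LinearMap.lTensor S' P.toKaehler) :=
    lTensor_exact S' P.exact_cotangentComplex_toKaehler P.toKaehler_surjective
  have hsurj2 : Function.Surjective (LinearMap.lTensor S' P.toKaehler) :=
    LinearMap.lTensor_surjective S' P.toKaehler_surjective
  rw [NLFlat.bcMap_eq_dmap]
  apply quasiIso_dmap
  · intro (x : S' ⊗[S] P.Cotangent) (hx : P.cotangentComplex.baseChange S' x = 0)
      (hax : LinearMap.liftBaseChange S' (Algebra.Extension.Cotangent.map f) x = 0)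
    show x = 0
    rw [LinearMap.baseChange_eq_ltensor] at hx
    obtain ⟨z, rfl⟩ := (hex1 x).mp hx
    rw [lift_cotangent_h1ι] at hax
    have hz : LinearMap.liftBaseChange S' (Algebra.Extension.H1Cotangent.map f) z = 0 :=
      Algebra.Extension.h1Cotangentι_injective (by rw [hax, map_zero])
    have hz0 : z = 0 := hΦ.1 (by rw [hz, map_zero])
    rw [hz0, map_zero]
  · intro (y : P'.Cotangent) (hy : P'.cotangentComplex y = 0)
    obtain ⟨z, hz⟩ := hΦ.2 (⟨y, LinearMap.mem_ker.mpr hy⟩ : P'.H1Cotangent)
    refine ⟨(LinearMap.lTensor S' P.h1Cotangentι z : S' ⊗[S] P.Cotangent), ?_, ?_⟩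
    · show P.cotangentComplex.baseChange S' _ = 0
      rw [LinearMap.baseChange_eq_ltensor]
      exact (hex1 _).mpr ⟨z, rfl⟩
    · show LinearMap.liftBaseChange S' (Algebra.Extension.Cotangent.map f) _ = y
      rw [lift_cotangent_h1ι, hz]
      rfl
  · intro (z : S' ⊗[S] P.CotangentSpace) (w : P'.Cotangent)
      (h : LinearMap.liftBaseChange S' (Algebra.Extension.CotangentSpace.map f) z =
        P'.cotangentComplex w)
    show ∃ x : S' ⊗[S] P.Cotangent, P.cotangentComplex.baseChange S' x = z
    have h1 : P'.toKaehler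
        (LinearMap.liftBaseChange S' (Algebra.Extension.CotangentSpace.map f) z) = 0 := by
      rw [h]
      exact (P'.exact_cotangentComplex_toKaehler _).mpr ⟨w, rfl⟩
    rw [toKaehler_lift_cotangentSpace] at h1
    have h2 : P.toKaehler.baseChange S' z = 0 := hΨ.1 (by rw [h1, map_zero])
    rw [LinearMap.baseChange_eq_ltensor] at h2
    obtain ⟨x, hx⟩ := (hex2 z).mp h2
    exact ⟨x, by rw [LinearMap.baseChange_eq_ltensor]; exact hx⟩
  · intro (w : P'.CotangentSpace)
    show ∃ (z : S' ⊗[S] P.CotangentSpace) (y : P'.Cotangent),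
      LinearMap.liftBaseChange S' (Algebra.Extension.CotangentSpace.map f) z =
        w + P'.cotangentComplex y
    obtain ⟨u, hu⟩ := hΨ.2 (P'.toKaehler w)
    obtain ⟨z, hz⟩ := hsurj2 u
    have h1 : P'.toKaehler
        (LinearMap.liftBaseChange S' (Algebra.Extension.CotangentSpace.map f) z - w) = 0 := by
      rw [map_sub, toKaehler_lift_cotangentSpace, LinearMap.baseChange_eq_ltensor, hz, hu,
        sub_self]
    obtain ⟨y, hy⟩ := (P'.exact_cotangentComplex_toKaehler _).mp h1
    exact ⟨z, y, by rw [hy]; abel⟩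

end Compat

section Main

variable (A B A' B' : Type u) [CommRing A] [CommRing B] [CommRing A'] [CommRing B']
  [Algebra A B] [Algebra A' B'] [Algebra A A'] [Algebra B B'] [Algebra A B']
  [IsScalarTower A A' B'] [IsScalarTower A B B']

/-- the comparison map `NL_{B/A} ⊗_B B' → NL_{B'/A'}` is a quasi-isomorphism when `A → A'` and
`B → B'` are formally étale, `B → B'` is flat and `B' ⊗_B H¹(L_{B/A}) → H¹(L_{B'/A})` is injective. -/
theorem quasiIso_bcMapSelf_of [Algebra.FormallyEtale A A'] [Algebra.FormallyEtale B B']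
    [Module.Flat B B']
    (hinj : Function.Injective ((Algebra.H1Cotangent.map A A B B').liftBaseChange B')) :
    QuasiIso (NLCx.bcMapSelf A B A' B') :=
  quasiIso_bcMap_of_bijective _ (h1_lift_bijective A B A' B' hinj)
    (kaehler_lift_bijective A B A' B')

end Main

end Groth.Agent.Helper6.NLHens
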