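import Groth.Agent.Lib.Helper6.NLHensA
import Groth.Agent.Lib.Helper6.NLHensC
import Groth.Agent.Lib.Helper1.SH9
import Groth.Agent.Lib.Helper1.SHznSection
import Groth.Agent.Lib.Helper1.HznUniv
import Groth.Agent.Lib.Helper1.SHznUniv

/-!
# The naive cotangent complex and (strict) henselization (helper6)

For a local homomorphism `A → B` of local rings with (strict) henselizations `Aʰ`, `Bʰ`, the
comparison map `NL_{B/A} ⊗_B Bʰ → NL_{Bʰ/Aʰ}` is a quasi-isomorphism.  The key input is that for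
any square-zero thickening `B' ↠ B` the (strict) henselization `C'` of `B'` is a flat lift of `Bʰ`:
`C' / (ker) C' ≅ Bʰ`.
-/

open TensorProduct CategoryTheory

universe u

set_option linter.style.haveILetI false
set_option autoImplicit false

namespace Groth.Agent.Helper6.NLHens

open IsLocalRing FlatMor

section SqZero

/-- a surjection with square-zero kernel is a local homomorphism -/
theorem isLocalHom_of_sqZero' {T S : Type*} [CommRing T] [CommRing S] (π : T →+* S)
    (hπ : Function.Surjective π)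
    (hker : ∀ x y : T, π x = 0 → π y = 0 → x * y = 0) : IsLocalHom π := by
  constructor
  intro t ht
  obtain ⟨s', hs'⟩ := ht.exists_right_inv
  obtain ⟨t', rfl⟩ := hπ s'
  have hj : π (t * t' - 1) = 0 := by rw [map_sub, map_mul, hs', map_one, sub_self]
  have hj2 : (t * t' - 1) * (t * t' - 1) = 0 := hker _ _ hj hj
  have hu : IsUnit (t * t') := by
    have e1 : (t * t') * (2 - t * t') = 1 - (t * t' - 1) * (t * t' - 1) := by ring
    rw [hj2, sub_zero] at e1
    exact IsUnit.of_mul_eq_one _ e1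
  exact isUnit_of_mul_isUnit_left hu

theorem map_ker_mul_eq_zero {B' B C' : Type*} [CommRing B'] [CommRing B] [CommRing C']
    (π : B' →+* B) (hker : ∀ x y : B', π x = 0 → π y = 0 → x * y = 0) (φ' : B' →+* C')
    {c₁ c₂ : C'} (h₁ : c₁ ∈ (RingHom.ker π).map φ') (h₂ : c₂ ∈ (RingHom.ker π).map φ') :
    c₁ * c₂ = 0 := by
  have h0 : RingHom.ker π * RingHom.ker π = ⊥ := by
    rw [eq_bot_iff, Ideal.mul_le]
    intro x hx y hy
    exact Ideal.mem_bot.mpr (hker x y (RingHom.mem_ker.mp hx) (RingHom.mem_ker.mp hy))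
  have h : (RingHom.ker π).map φ' * (RingHom.ker π).map φ' = ⊥ := by
    rw [← Ideal.map_mul, h0, Ideal.map_bot]
  have h3 := Ideal.mul_mem_mul h₁ h₂
  rw [h] at h3
  exact Ideal.mem_bot.mp h3

/-- the common core: a map `ρ : C' → T` with a two-sided "inverse modulo `J`" is surjective with
square-zero kernel -/
theorem surjective_and_sqZero_of_retract {B' B C' T : Type*} [CommRing B'] [CommRing B]
    [CommRing C'] [CommRing T]
    (π : B' →+* B) (hker : ∀ x y : B', π x = 0 → π y = 0 → x * y = 0)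
    (φ' : B' →+* C') (ρ : C' →+* T) (θ : T →+* C' ⧸ (RingHom.ker π).map φ')
    (h1 : ∀ c, θ (ρ c) = Ideal.Quotient.mk _ c)
    (h2 : ∀ t c, θ t = Ideal.Quotient.mk _ c → ρ c = t) :
    Function.Surjective ρ ∧ ∀ c₁ c₂ : C', ρ c₁ = 0 → ρ c₂ = 0 → c₁ * c₂ = 0 := by
  have hk : ∀ c, ρ c = 0 → c ∈ (RingHom.ker π).map φ' := by
    intro c hc
    rw [← Ideal.Quotient.eq_zero_iff_mem, ← h1 c, hc, map_zero]
  refine ⟨fun t => ?_, fun c₁ c₂ hc₁ hc₂ => map_ker_mul_eq_zero π hker φ' (hk c₁ hc₁) (hk c₂ hc₂)⟩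
  obtain ⟨c, hc⟩ := Ideal.Quotient.mk_surjective (θ t)
  exact ⟨c, h2 t c hc.symm⟩

end SqZero

section Fields

/-- separable closures over isomorphic base fields are compatibly isomorphic -/
theorem exists_ringEquiv_of_isSepClosure {k' k L' L : Type u} [Field k'] [Field k] [Field L']
    [Field L] [Algebra k' L'] [Algebra k L] (hL' : IsSepClosure k' L') (hL : IsSepClosure k L)
    (σ : k' →+* k) (hσ : Function.Bijective σ) :
    ∃ e : L' ≃+* L, ∀ y : k', e (algebraMap k' L' y) = algebraMap k L (σ y) := by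
  letI : Algebra k' L := ((algebraMap k L).comp σ).toAlgebra
  have hsep : Algebra.IsSeparable k' L := by
    haveI : Algebra.IsSeparable k L := hL.separable
    refine Algebra.IsSeparable.of_equiv_equiv (RingEquiv.ofBijective σ hσ).symm
      (RingEquiv.refl L) ?_
    refine RingHom.ext fun x => ?_
    show algebraMap k L (σ ((RingEquiv.ofBijective σ hσ).symm x)) = algebraMap k L x
    congr 1
    exact (RingEquiv.ofBijective σ hσ).apply_symm_apply x
  haveI : IsSepClosure k' L := ⟨hL.sep_closed, hsep⟩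
  haveI := hL'
  exact ⟨(IsSepClosure.equiv k' L' L).toRingEquiv, fun y => (IsSepClosure.equiv k' L' L).commutes y⟩

end Fields

section Hens

variable {B' B Bh C' : Type u} [CommRing B'] [IsLocalRing B'] [CommRing B] [IsLocalRing B]
  [CommRing Bh] [IsLocalRing Bh] [Algebra B Bh] [IsLocalHom (algebraMap B Bh)]
  [CommRing C'] [IsLocalRing C'] [Algebra B' C'] [IsLocalHom (algebraMap B' C')]

/-- the henselization of a square-zero thickening `B'` of `B` is a lift of the henselization
of `B` -/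
theorem flat_lift_aux [Hensel.IsHenselization B Bh] [Hensel.IsHenselization B' C']
    (π : B' →+* B) [IsLocalHom π] (hπ : Function.Surjective π)
    (hker : ∀ x y : B', π x = 0 → π y = 0 → x * y = 0) :
    ∃ ρ : C' →+* Bh, Function.Surjective ρ ∧
      (∀ b' : B', ρ (algebraMap B' C' b') = algebraMap B Bh (π b')) ∧
      (∀ c₁ c₂ : C', ρ c₁ = 0 → ρ c₂ = 0 → c₁ * c₂ = 0) := by
  haveI hBh : HenselianLocalRing Bh := Hensel.IsHenselization.henselian (R := B)
  haveI hC'h : HenselianLocalRing C' := Hensel.IsHenselization.henselian (R := B')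
  have hloc1 : IsLocalHom ((algebraMap B Bh).comp π) := RingHom.isLocalHom_comp _ _
  obtain ⟨ρ, hρ, -⟩ := Hensel.IsHenselization.universal (R := B') (S := C') Bh
    ((algebraMap B Bh).comp π) hloc1
  have hρ' : ∀ b', ρ (algebraMap B' C' b') = algebraMap B Bh (π b') :=
    fun b' => RingHom.congr_fun hρ b'
  obtain ⟨J, hJ⟩ : ∃ J : Ideal C', J = (RingHom.ker π).map (algebraMap B' C') := ⟨_, rfl⟩
  have hJle : J ≤ maximalIdeal C' := by
    rw [hJ, Ideal.map_le_iff_le_comap, IsLocalRing.maximalIdeal_comap]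
    exact IsLocalRing.le_maximalIdeal (RingHom.ker_ne_top π)
  obtain ⟨hDh, hqloc⟩ := Groth.Agent.Helper1.SHzn.henselianLocalRing_quotient J hJle
  haveI := hDh
  haveI := hqloc
  have hkerle : RingHom.ker π ≤ RingHom.ker ((Ideal.Quotient.mk J).comp (algebraMap B' C')) := by
    intro x hx
    rw [RingHom.mem_ker, RingHom.comp_apply, Ideal.Quotient.eq_zero_iff_mem, hJ]
    exact Ideal.mem_map_of_mem _ hx
  obtain ⟨f₁, hf₁⟩ : ∃ f₁ : B →+* C' ⧸ J,
      ∀ b', f₁ (π b') = Ideal.Quotient.mk J (algebraMap B' C' b') :=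
    ⟨RingHom.liftOfSurjective π hπ ⟨_, hkerle⟩,
      fun b' => RingHom.liftOfRightInverse_comp_apply _ _ _ _ b'⟩
  have hf₁loc : IsLocalHom f₁ := by
    constructor
    intro b hb
    obtain ⟨b', rfl⟩ := hπ b
    rw [hf₁] at hb
    have h1 : IsUnit (algebraMap B' C' b') := (isUnit_map_iff (Ideal.Quotient.mk J) _).mp hb
    have h2 : IsUnit b' := (isUnit_map_iff (algebraMap B' C') _).mp h1
    exact h2.map π
  obtain ⟨θ, hθ, -⟩ := Hensel.IsHenselization.universal (R := B) (S := Bh) (C' ⧸ J) f₁ hf₁loc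
  have hθ' : ∀ b, θ (algebraMap B Bh b) = f₁ b := fun b => RingHom.congr_fun hθ b
  have hJker : ∀ c ∈ J, ρ c = 0 := by
    have h1 : J ≤ RingHom.ker ρ := by
      rw [hJ, Ideal.map_le_iff_le_comap]
      intro x hx
      rw [Ideal.mem_comap, RingHom.mem_ker, hρ', RingHom.mem_ker.mp hx, map_zero]
    intro c hc
    exact RingHom.mem_ker.mp (h1 hc)
  obtain ⟨ρbar, hρbar⟩ : ∃ ρbar : C' ⧸ J →+* Bh, ∀ c, ρbar (Ideal.Quotient.mk J c) = ρ c :=
    ⟨Ideal.Quotient.lift J ρ hJker, fun c => Ideal.Quotient.lift_mk J ρ hJker⟩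
  have hid : ρbar.comp θ = RingHom.id Bh := by
    obtain ⟨k, -, hk⟩ := Hensel.IsHenselization.universal (R := B) (S := Bh) Bh
      (algebraMap B Bh) inferInstance
    have e1 : (ρbar.comp θ).comp (algebraMap B Bh) = algebraMap B Bh := by
      refine RingHom.ext fun b => ?_
      show ρbar (θ (algebraMap B Bh b)) = algebraMap B Bh b
      obtain ⟨b', rfl⟩ := hπ b
      rw [hθ', hf₁, hρbar, hρ']
    have e2 : (RingHom.id Bh).comp (algebraMap B Bh) = algebraMap B Bh := RingHom.id_comp _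
    rw [hk _ e1, hk _ e2]
  have hθρ : θ.comp ρ = Ideal.Quotient.mk J := by
    have hloc2 : IsLocalHom ((Ideal.Quotient.mk J).comp (algebraMap B' C')) :=
      RingHom.isLocalHom_comp _ _
    obtain ⟨k, -, hk⟩ := Hensel.IsHenselization.universal (R := B') (S := C') (C' ⧸ J)
      ((Ideal.Quotient.mk J).comp (algebraMap B' C')) hloc2
    have e1 : (θ.comp ρ).comp (algebraMap B' C') =
        (Ideal.Quotient.mk J).comp (algebraMap B' C') := by
      refine RingHom.ext fun b' => ?_
      show θ (ρ (algebraMap B' C' b')) = Ideal.Quotient.mk J (algebraMap B' C' b')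
      rw [hρ', hθ', hf₁]
    rw [hk _ e1, hk _ rfl]
  subst hJ
  obtain ⟨hs, hsq⟩ := surjective_and_sqZero_of_retract π hker (algebraMap B' C') ρ θ
    (fun c => RingHom.congr_fun hθρ c)
    (fun t c htc => by rw [← hρbar, ← htc]; exact RingHom.congr_fun hid t)
  exact ⟨ρ, hs, hρ', hsq⟩

/-- the strict henselization of a square-zero thickening `B'` of `B` is a lift of the strict
henselization of `B` -/
theorem flat_lift_aux_strict [Hensel.IsStrictHenselization B Bh]
    [Hensel.IsStrictHenselization B' C']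
    (π : B' →+* B) [IsLocalHom π] (hπ : Function.Surjective π)
    (hker : ∀ x y : B', π x = 0 → π y = 0 → x * y = 0) :
    ∃ ρ : C' →+* Bh, Function.Surjective ρ ∧
      (∀ b' : B', ρ (algebraMap B' C' b') = algebraMap B Bh (π b')) ∧
      (∀ c₁ c₂ : C', ρ c₁ = 0 → ρ c₂ = 0 → c₁ * c₂ = 0) := by
  haveI hBh : HenselianLocalRing Bh := Hensel.IsStrictHenselization.henselian (R := B)
  haveI hC'h : HenselianLocalRing C' := Hensel.IsStrictHenselization.henselian (R := B')
  have hψ := Groth.Agent.Helper1.HFlat.IsSHensHom.of_isStrictHenselization B Bh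
  have hφ' := Groth.Agent.Helper1.HFlat.IsSHensHom.of_isStrictHenselization B' C'
  -- the isomorphism of residue fields
  have hσ : Function.Bijective (ResidueField.map π) := by
    refine ⟨RingHom.injective _, ?_⟩
    intro y
    obtain ⟨s, rfl⟩ := residue_surjective y
    obtain ⟨t, rfl⟩ := hπ s
    exact ⟨residue B' t, ResidueField.map_residue π t⟩
  obtain ⟨e, he0⟩ := exists_ringEquiv_of_isSepClosure
    (Hensel.IsStrictHenselization.isSepClosure (R := B') (S := C'))
    (Hensel.IsStrictHenselization.isSepClosure (R := B) (S := Bh)) (ResidueField.map π) hσ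
  have he : ∀ b' : B', e (residue C' (algebraMap B' C' b')) =
      residue Bh (algebraMap B Bh (π b')) := fun b' => he0 (residue B' b')
  have hloc1 : IsLocalHom ((algebraMap B Bh).comp π) := RingHom.isLocalHom_comp _ _
  obtain ⟨ρ, ⟨hρ, hρres0⟩, -⟩ := hφ'.universal Bh ((algebraMap B Bh).comp π) hloc1
    e.toRingHom (fun b' => he b')
  have hρres : ∀ x : C', residue Bh (ρ x) = e (residue C' x) := hρres0
  have hρ' : ∀ b', ρ (algebraMap B' C' b') = algebraMap B Bh (π b') :=
    fun b' => RingHom.congr_fun hρ b'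
  obtain ⟨J, hJ⟩ : ∃ J : Ideal C', J = (RingHom.ker π).map (algebraMap B' C') := ⟨_, rfl⟩
  have hJle : J ≤ maximalIdeal C' := by
    rw [hJ, Ideal.map_le_iff_le_comap, IsLocalRing.maximalIdeal_comap]
    exact IsLocalRing.le_maximalIdeal (RingHom.ker_ne_top π)
  obtain ⟨hDh, hqloc⟩ := Groth.Agent.Helper1.SHzn.henselianLocalRing_quotient J hJle
  haveI := hDh
  haveI := hqloc
  have hqbij : Function.Bijective (ResidueField.map (Ideal.Quotient.mk J)) := by
    refine ⟨RingHom.injective _, ?_⟩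
    intro y
    obtain ⟨s, rfl⟩ := residue_surjective y
    obtain ⟨t, rfl⟩ := Ideal.Quotient.mk_surjective s
    exact ⟨residue C' t, ResidueField.map_residue (Ideal.Quotient.mk J) t⟩
  obtain ⟨eq, heq⟩ : ∃ eq : ResidueField C' ≃+* ResidueField (C' ⧸ J),
      ∀ y, eq y = ResidueField.map (Ideal.Quotient.mk J) y :=
    ⟨RingEquiv.ofBijective _ hqbij, fun _ => rfl⟩
  have heq' : ∀ c : C', eq (residue C' c) = residue (C' ⧸ J) (Ideal.Quotient.mk J c) := by
    intro c
    rw [heq, ResidueField.map_residue]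
  have hkerle : RingHom.ker π ≤ RingHom.ker ((Ideal.Quotient.mk J).comp (algebraMap B' C')) := by
    intro x hx
    rw [RingHom.mem_ker, RingHom.comp_apply, Ideal.Quotient.eq_zero_iff_mem, hJ]
    exact Ideal.mem_map_of_mem _ hx
  obtain ⟨f₁, hf₁⟩ : ∃ f₁ : B →+* C' ⧸ J,
      ∀ b', f₁ (π b') = Ideal.Quotient.mk J (algebraMap B' C' b') :=
    ⟨RingHom.liftOfSurjective π hπ ⟨_, hkerle⟩,
      fun b' => RingHom.liftOfRightInverse_comp_apply _ _ _ _ b'⟩
  have hf₁loc : IsLocalHom f₁ := by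
    constructor
    intro b hb
    obtain ⟨b', rfl⟩ := hπ b
    rw [hf₁] at hb
    have h1 : IsUnit (algebraMap B' C' b') := (isUnit_map_iff (Ideal.Quotient.mk J) _).mp hb
    have h2 : IsUnit b' := (isUnit_map_iff (algebraMap B' C') _).mp h1
    exact h2.map π
  obtain ⟨τθ, hτθ⟩ : ∃ τθ : ResidueField Bh →+* ResidueField (C' ⧸ J),
      ∀ y, τθ y = eq (e.symm y) := ⟨eq.toRingHom.comp e.symm.toRingHom, fun _ => rfl⟩
  have hcompat : ∀ b : B, τθ (residue Bh (algebraMap B Bh b)) = residue (C' ⧸ J) (f₁ b) := by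
    intro b
    obtain ⟨b', rfl⟩ := hπ b
    rw [hτθ, ← he b', RingEquiv.symm_apply_apply, heq', hf₁]
  obtain ⟨θ, ⟨hθ, hθres⟩, -⟩ := hψ.universal (C' ⧸ J) f₁ hf₁loc τθ hcompat
  have hθ' : ∀ b, θ (algebraMap B Bh b) = f₁ b := fun b => RingHom.congr_fun hθ b
  have hJker : ∀ c ∈ J, ρ c = 0 := by
    have h1 : J ≤ RingHom.ker ρ := by
      rw [hJ, Ideal.map_le_iff_le_comap]
      intro x hx
      rw [Ideal.mem_comap, RingHom.mem_ker, hρ', RingHom.mem_ker.mp hx, map_zero]
    intro c hc
    exact RingHom.mem_ker.mp (h1 hc)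
  obtain ⟨ρbar, hρbar⟩ : ∃ ρbar : C' ⧸ J →+* Bh, ∀ c, ρbar (Ideal.Quotient.mk J c) = ρ c :=
    ⟨Ideal.Quotient.lift J ρ hJker, fun c => Ideal.Quotient.lift_mk J ρ hJker⟩
  have hid : ρbar.comp θ = RingHom.id Bh := by
    obtain ⟨k, -, hk⟩ := hψ.universal Bh (algebraMap B Bh) inferInstance (RingHom.id _)
      (fun _ => rfl)
    have e1 : (ρbar.comp θ).comp (algebraMap B Bh) = algebraMap B Bh ∧
        ∀ x : Bh, residue Bh ((ρbar.comp θ) x) = (RingHom.id _) (residue Bh x) := by
      refine ⟨?_, fun x => ?_⟩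
      · refine RingHom.ext fun b => ?_
        show ρbar (θ (algebraMap B Bh b)) = algebraMap B Bh b
        obtain ⟨b', rfl⟩ := hπ b
        rw [hθ', hf₁, hρbar, hρ']
      · show residue Bh (ρbar (θ x)) = residue Bh x
        obtain ⟨c, hc⟩ := Ideal.Quotient.mk_surjective (θ x)
        rw [← hc, hρbar, hρres]
        have h3 : eq (residue C' c) = eq (e.symm (residue Bh x)) := by
          rw [heq', hc, hθres, hτθ]
        rw [eq.injective h3, RingEquiv.apply_symm_apply]
    have e2 : (RingHom.id Bh).comp (algebraMap B Bh) = algebraMap B Bh ∧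
        ∀ x : Bh, residue Bh ((RingHom.id Bh) x) = (RingHom.id _) (residue Bh x) :=
      ⟨RingHom.id_comp _, fun _ => rfl⟩
    rw [hk _ e1, hk _ e2]
  have hθρ : θ.comp ρ = Ideal.Quotient.mk J := by
    have hloc2 : IsLocalHom ((Ideal.Quotient.mk J).comp (algebraMap B' C')) :=
      RingHom.isLocalHom_comp _ _
    obtain ⟨k, -, hk⟩ := hφ'.universal (C' ⧸ J)
      ((Ideal.Quotient.mk J).comp (algebraMap B' C')) hloc2 eq.toRingHom
      (fun b' => heq' (algebraMap B' C' b'))
    have e1 : (θ.comp ρ).comp (algebraMap B' C') =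
        (Ideal.Quotient.mk J).comp (algebraMap B' C') ∧
        ∀ x : C', residue (C' ⧸ J) ((θ.comp ρ) x) = eq.toRingHom (residue C' x) := by
      refine ⟨?_, fun x => ?_⟩
      · refine RingHom.ext fun b' => ?_
        show θ (ρ (algebraMap B' C' b')) = Ideal.Quotient.mk J (algebraMap B' C' b')
        rw [hρ', hθ', hf₁]
      · show residue (C' ⧸ J) (θ (ρ x)) = eq (residue C' x)
        rw [hθres, hτθ, hρres, RingEquiv.symm_apply_apply]
    have e2 : (Ideal.Quotient.mk J).comp (algebraMap B' C') =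
        (Ideal.Quotient.mk J).comp (algebraMap B' C') ∧
        ∀ x : C', residue (C' ⧸ J) ((Ideal.Quotient.mk J) x) = eq.toRingHom (residue C' x) :=
      ⟨rfl, fun x => (heq' x).symm⟩
    rw [hk _ e1, hk _ e2]
  subst hJ
  obtain ⟨hs, hsq⟩ := surjective_and_sqZero_of_retract π hker (algebraMap B' C') ρ θ
    (fun c => RingHom.congr_fun hθρ c)
    (fun t c htc => by rw [← hρbar, ← htc]; exact RingHom.congr_fun hid t)
  exact ⟨ρ, hs, hρ', hsq⟩

end Hens

section Lifts

variable {B' B Bh : Type u} [CommRing B'] [CommRing B] [IsLocalRing B]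
  [CommRing Bh] [IsLocalRing Bh] [Algebra B Bh] [IsLocalHom (algebraMap B Bh)]

theorem exists_flat_lift_of_isHenselization [Hensel.IsHenselization B Bh]
    (π : B' →+* B) (hπ : Function.Surjective π)
    (hker : ∀ x y : B', π x = 0 → π y = 0 → x * y = 0) :
    ∃ (C' : Type u) (_ : CommRing C') (_ : Algebra B' C') (ρ : C' →+* Bh),
      Module.Flat B' C' ∧ Function.Surjective ρ ∧
      (∀ b' : B', ρ (algebraMap B' C' b') = algebraMap B Bh (π b')) ∧
      (∀ c₁ c₂ : C', ρ c₁ = 0 → ρ c₂ = 0 → c₁ * c₂ = 0) := by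
  haveI hπloc : IsLocalHom π := isLocalHom_of_sqZero' π hπ hker
  haveI hB' : IsLocalRing B' := RingHom.domain_isLocalRing π
  haveI hH : Hensel.IsHenselization B' (Groth.Agent.Helper1.Hzn.S B') :=
    Groth.Agent.Helper1.Hzn.isHenselization B'
  haveI hff : Module.FaithfullyFlat B' (Groth.Agent.Helper1.Hzn.S B') :=
    Groth.Agent.Helper1.HFlat.faithfullyFlat_of_isHenselization B' (Groth.Agent.Helper1.Hzn.S B')
  obtain ⟨ρ, hs, hρ, hsq⟩ := flat_lift_aux (Bh := Bh) (C' := Groth.Agent.Helper1.Hzn.S B') π hπ hker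
  exact ⟨Groth.Agent.Helper1.Hzn.S B', inferInstance, inferInstance, ρ, inferInstance, hs, hρ, hsq⟩

theorem exists_flat_lift_of_isStrictHenselization [Hensel.IsStrictHenselization B Bh]
    (π : B' →+* B) (hπ : Function.Surjective π)
    (hker : ∀ x y : B', π x = 0 → π y = 0 → x * y = 0) :
    ∃ (C' : Type u) (_ : CommRing C') (_ : Algebra B' C') (ρ : C' →+* Bh),
      Module.Flat B' C' ∧ Function.Surjective ρ ∧
      (∀ b' : B', ρ (algebraMap B' C' b') = algebraMap B Bh (π b')) ∧
      (∀ c₁ c₂ : C', ρ c₁ = 0 → ρ c₂ = 0 → c₁ * c₂ = 0) := by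
  haveI hπloc : IsLocalHom π := isLocalHom_of_sqZero' π hπ hker
  haveI hB' : IsLocalRing B' := RingHom.domain_isLocalRing π
  haveI hH : Hensel.IsStrictHenselization B' (Groth.Agent.Helper1.SHzn.S B') :=
    Groth.Agent.Helper1.SHzn.isStrictHenselization B'
  haveI hff : Module.FaithfullyFlat B' (Groth.Agent.Helper1.SHzn.S B') :=
    Groth.Agent.Helper1.HFlat.faithfullyFlat_of_isStrictHenselization B'
      (Groth.Agent.Helper1.SHzn.S B')
  obtain ⟨ρ, hs, hρ, hsq⟩ :=
    flat_lift_aux_strict (Bh := Bh) (C' := Groth.Agent.Helper1.SHzn.S B') π hπ hker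
  exact ⟨Groth.Agent.Helper1.SHzn.S B', inferInstance, inferInstance, ρ, inferInstance, hs, hρ, hsq⟩

end Lifts

section Final

variable (A B T : Type u) [CommRing A] [CommRing B] [CommRing T] [Algebra A B] [Algebra A T]
  [Algebra B T] [IsScalarTower A B T]

/-- if every square-zero thickening of `B` admits a flat lift of `T`, then
`T ⊗_B H¹(L_{B/A}) → H¹(L_{T/A})` is injective -/
theorem h1_injective_of_flat_lifts [Module.Flat B T]
    (hlift : ∀ (B' : Type u) [CommRing B'] (π : B' →+* B), Function.Surjective π →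
      (∀ x y : B', π x = 0 → π y = 0 → x * y = 0) →
      ∃ (C' : Type u) (_ : CommRing C') (_ : Algebra B' C') (ρ : C' →+* T),
        Module.Flat B' C' ∧ Function.Surjective ρ ∧
        (∀ b' : B', ρ (algebraMap B' C' b') = algebraMap B T (π b')) ∧
        (∀ c₁ c₂ : C', ρ c₁ = 0 → ρ c₂ = 0 → c₁ * c₂ = 0)) :
    Function.Injective ((Algebra.H1Cotangent.map A A B T).liftBaseChange T) := by
  have hle : ∀ x ∈ (Algebra.Generators.self A B).toExtension.ker ^ 2,
      algebraMap (Algebra.Generators.self A B).toExtension.Ring B x = 0 := by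
    intro x hx
    exact RingHom.mem_ker.mp (Ideal.pow_le_self two_ne_zero hx)
  obtain ⟨π, hπ⟩ : ∃ π : (Algebra.Generators.self A B).toExtension.Ring ⧸
      (Algebra.Generators.self A B).toExtension.ker ^ 2 →+* B,
      ∀ p : (Algebra.Generators.self A B).toExtension.Ring,
        π (Ideal.Quotient.mk _ p) =
          algebraMap (Algebra.Generators.self A B).toExtension.Ring B p :=
    ⟨Ideal.Quotient.lift _ (algebraMap (Algebra.Generators.self A B).toExtension.Ring B) hle,
      fun p => Ideal.Quotient.lift_mk _ _ _⟩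
  have hπs : Function.Surjective π := by
    intro b
    obtain ⟨p, hp⟩ := (Algebra.Generators.self A B).toExtension.algebraMap_surjective b
    exact ⟨Ideal.Quotient.mk _ p, (hπ p).trans hp⟩
  have hker : ∀ x y, π x = 0 → π y = 0 → x * y = 0 := by
    intro x y hx hy
    obtain ⟨p, rfl⟩ := Ideal.Quotient.mk_surjective x
    obtain ⟨p', rfl⟩ := Ideal.Quotient.mk_surjective y
    rw [hπ] at hx hy
    rw [← map_mul, Ideal.Quotient.eq_zero_iff_mem, pow_two]
    exact Ideal.mul_mem_mul (RingHom.mem_ker.mpr hx) (RingHom.mem_ker.mpr hy)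
  obtain ⟨C', hCr, hCa, ρ, hfl, hρs, hρ, hsq⟩ := hlift _ π hπs hker
  exact h1_liftBaseChange_injective A B T C' ρ hρs
    (fun p => (hρ (Ideal.Quotient.mk _ p)).trans (congrArg (algebraMap B T) (hπ p))) hsq

end Final

section Main

variable (A B Ah Bh : Type u) [CommRing A] [CommRing B] [CommRing Ah]
  [CommRing Bh] [IsLocalRing A] [IsLocalRing B] [IsLocalRing Ah] [IsLocalRing Bh]
  [Algebra A B]
  [Algebra A Ah] [IsLocalHom (algebraMap A Ah)]
  [Algebra B Bh] [IsLocalHom (algebraMap B Bh)]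
  [Algebra Ah Bh] [Algebra A Bh] [IsScalarTower A Ah Bh] [IsScalarTower A B Bh]

/-- `NL_{B/A} ⊗_B Bʰ → NL_{Bʰ/Aʰ}` is a quasi-isomorphism -/
theorem quasiIso_bcMapSelf_henselization [Hensel.IsHenselization A Ah]
    [Hensel.IsHenselization B Bh] : QuasiIso (NLCx.bcMapSelf A B Ah Bh) := by
  haveI : Algebra.FormallyEtale A Ah :=
    Groth.Agent.Helper1.HFlat.formallyEtale_of_isHenselization A Ah
  haveI : Algebra.FormallyEtale B Bh :=
    Groth.Agent.Helper1.HFlat.formallyEtale_of_isHenselization B Bh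
  haveI hff : Module.FaithfullyFlat B Bh :=
    Groth.Agent.Helper1.HFlat.faithfullyFlat_of_isHenselization B Bh
  apply quasiIso_bcMapSelf_of
  exact h1_injective_of_flat_lifts A B Bh
    (fun B' _ π hπ hker => exists_flat_lift_of_isHenselization π hπ hker)

/-- `NL_{B/A} ⊗_B Bˢʰ → NL_{Bˢʰ/Aˢʰ}` is a quasi-isomorphism -/
theorem quasiIso_bcMapSelf_strictHenselization [Hensel.IsStrictHenselization A Ah]
    [Hensel.IsStrictHenselization B Bh] : QuasiIso (NLCx.bcMapSelf A B Ah Bh) := by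
  haveI : Algebra.FormallyEtale A Ah :=
    Groth.Agent.Helper1.HFlat.formallyEtale_of_isStrictHenselization A Ah
  haveI : Algebra.FormallyEtale B Bh :=
    Groth.Agent.Helper1.HFlat.formallyEtale_of_isStrictHenselization B Bh
  haveI hff : Module.FaithfullyFlat B Bh :=
    Groth.Agent.Helper1.HFlat.faithfullyFlat_of_isStrictHenselization B Bh
  apply quasiIso_bcMapSelf_of
  exact h1_injective_of_flat_lifts A B Bh
    (fun B' _ π hπ hker => exists_flat_lift_of_isStrictHenselization π hπ hker)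

end Main

end Groth.Agent.Helper6.NLHens
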