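import Groth.Agent.Lib.Helper6.KRCotC

/-!
# The kernel of `H^{-1}(NL_{B/A} ⊗_B B') → H^{-1}(NL_{B'/A'})` for lci maps (helper6)
-/

set_option autoImplicit false
set_option linter.style.haveILetI false

open TensorProduct

universe u

namespace Groth.Agent.Helper6.NLKer

section Retract

variable {R S : Type u} [CommRing R] [CommRing S] [Algebra R S]
  {P P' : Algebra.Extension.{u} R S}

/-- If there are maps of extensions both ways, `P.Cotangent` is a direct summand of
`P.CotangentSpace × P'.Cotangent`. -/
theorem cotangent_finite_projective_of_hom (f : P.Hom P') (g : P'.Hom P)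
    [Module.Finite S P.CotangentSpace] [Module.Projective S P.CotangentSpace]
    [Module.Finite S P'.Cotangent] [Module.Projective S P'.Cotangent] :
    Module.Finite S P.Cotangent ∧ Module.Projective S P.Cotangent := by
  let s : P.CotangentSpace →ₗ[S] P.Cotangent :=
    -((g.comp f).sub (Algebra.Extension.Hom.id P))
  let i : P.Cotangent →ₗ[S] P.CotangentSpace × P'.Cotangent :=
    LinearMap.prod P.cotangentComplex (Algebra.Extension.Cotangent.map f)
  let r : P.CotangentSpace × P'.Cotangent →ₗ[S] P.Cotangent :=
    LinearMap.coprod s (Algebra.Extension.Cotangent.map g)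
  have hri : r ∘ₗ i = LinearMap.id := by
    apply LinearMap.ext
    intro m
    have h := congrArg (fun l => l m)
      (Algebra.Extension.Cotangent.map_sub_map (g.comp f) (Algebra.Extension.Hom.id P))
    simp only [LinearMap.sub_apply, LinearMap.comp_apply, Algebra.Extension.Cotangent.map_id,
      LinearMap.id_apply] at h
    rw [Algebra.Extension.Cotangent.map_comp] at h
    show -((g.comp f).sub (Algebra.Extension.Hom.id P)) (P.cotangentComplex m) +
      Algebra.Extension.Cotangent.map g (Algebra.Extension.Cotangent.map f m) = m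
    rw [← h]
    simp only [LinearMap.comp_apply, LinearMap.restrictScalars_apply]
    abel
  exact ⟨Module.Finite.of_surjective r (fun y => ⟨i y, congrArg (fun l => l y) hri⟩),
    Module.Projective.of_split i r hri⟩

end Retract

section Split

variable {S' : Type u} [CommRing S'] {M N : Type u} [AddCommGroup M] [Module S' M]
  [AddCommGroup N] [Module S' N]

theorem ker_finite_projective (α : M →ₗ[S'] N) (hα : Function.Surjective α)
    [Module.Finite S' M] [Module.Projective S' M] [Module.Projective S' N] :
    Module.Finite S' (LinearMap.ker α) ∧ Module.Projective S' (LinearMap.ker α) := by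
  obtain ⟨σ, hσ⟩ := Module.projective_lifting_property α LinearMap.id hα
  have hσ' : ∀ y, α (σ y) = y := fun y => congrArg (fun l => l y) hσ
  let ρ : M →ₗ[S'] LinearMap.ker α :=
    (LinearMap.id - σ ∘ₗ α).codRestrict (LinearMap.ker α) (fun x => by
      rw [LinearMap.mem_ker, LinearMap.sub_apply, map_sub, LinearMap.id_apply,
        LinearMap.comp_apply, hσ', sub_self])
  have hρ : ρ ∘ₗ (LinearMap.ker α).subtype = LinearMap.id := by
    apply LinearMap.ext
    intro x
    apply Subtype.ext
    show x.1 - σ (α x.1) = x.1
    rw [LinearMap.mem_ker.mp x.2, map_zero, sub_zero]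
  exact ⟨Module.Finite.of_surjective ρ (fun y => ⟨y.1, congrArg (fun l => l y) hρ⟩),
    Module.Projective.of_split _ _ hρ⟩

end Split

section BC

variable {R S R' S' : Type u} [CommRing R] [CommRing S] [CommRing R'] [CommRing S']
  [Algebra R S] [Algebra R' S'] [Algebra R R'] [Algebra S S'] [Algebra R S']
  [IsScalarTower R R' S'] [IsScalarTower R S S']
  {P₀ P : Algebra.Extension.{u} R S} {P' P'' : Algebra.Extension.{u} R' S'}

theorem liftBaseChange_comp_apply {M N Q : Type u} [AddCommGroup M] [Module S M]
    [AddCommGroup N] [Module S N] [AddCommGroup Q] [Module S Q] [Module S' Q]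
    [IsScalarTower S S' Q] (h : N →ₗ[S] Q) (d : M →ₗ[S] N) (x : S' ⊗[S] M) :
    LinearMap.liftBaseChange S' (h ∘ₗ d) x =
      LinearMap.liftBaseChange S' h (d.baseChange S' x) := by
  induction x using TensorProduct.induction_on with
  | zero => simp
  | tmul a m => simp
  | add a b ha hb => rw [map_add, map_add, map_add, ha, hb]

/-- `bcH1Map` does not depend on the morphism of extensions. -/
theorem bcH1Map_eq (f g : P.Hom P') : NLCx.bcH1Map f = NLCx.bcH1Map g := by
  apply LinearMap.ext
  intro x
  apply Algebra.Extension.h1Cotangentι_ext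
  show LinearMap.liftBaseChange S' (Algebra.Extension.Cotangent.map f) x.1 =
    LinearMap.liftBaseChange S' (Algebra.Extension.Cotangent.map g) x.1
  have h1 : Algebra.Extension.Cotangent.map f =
      Algebra.Extension.Cotangent.map g + (f.sub g) ∘ₗ P.cotangentComplex := by
    rw [← Algebra.Extension.Cotangent.map_sub_map]
    abel
  have hx : P.cotangentComplex.baseChange S' x.1 = 0 := LinearMap.mem_ker.mp x.2
  have h2 : LinearMap.liftBaseChange S'
      (Algebra.Extension.Cotangent.map g + (f.sub g) ∘ₗ P.cotangentComplex) =
      LinearMap.liftBaseChange S' (Algebra.Extension.Cotangent.map g) +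
        LinearMap.liftBaseChange S' ((f.sub g) ∘ₗ P.cotangentComplex) :=
    map_add (LinearMap.liftBaseChangeEquiv S') _ _
  rw [h1, h2, LinearMap.add_apply, liftBaseChange_comp_apply, hx, map_zero, add_zero]

theorem bcH1Map_comp_right (f : P.Hom P') (g : P'.Hom P'') (x : NLCx.bcH1 P S') :
    NLCx.bcH1Map (g.comp f) x = Algebra.Extension.H1Cotangent.map g (NLCx.bcH1Map f x) := by
  apply Algebra.Extension.h1Cotangentι_ext
  exact NLBase.lift_cotangent_comp f g x.1

theorem baseChange_mem_bcH1 (a : P₀.Hom P) (x : S' ⊗[S] P₀.Cotangent)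
    (hx : x ∈ NLCx.bcH1 P₀ S') :
    (Algebra.Extension.Cotangent.map a).baseChange S' x ∈ NLCx.bcH1 P S' := by
  rw [NLCx.bcH1, LinearMap.mem_ker] at hx ⊢
  have key : P.cotangentComplex.baseChange S' ∘ₗ
      (Algebra.Extension.Cotangent.map a).baseChange S' =
      (Algebra.Extension.CotangentSpace.map a).baseChange S' ∘ₗ
        P₀.cotangentComplex.baseChange S' := by
    rw [← LinearMap.baseChange_comp, ← LinearMap.baseChange_comp]
    congr 1
    apply LinearMap.ext
    intro y
    exact (Algebra.Extension.CotangentSpace.map_cotangentComplex a y).symm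
  have := congrArg (fun l => l x) key
  simp only [LinearMap.coe_comp, Function.comp_apply, hx, map_zero] at this
  exact this

/-- functoriality of `bcH1` in the extension. -/
noncomputable def bcH1Pre (a : P₀.Hom P) : NLCx.bcH1 P₀ S' →ₗ[S'] NLCx.bcH1 P S' :=
  ((Algebra.Extension.Cotangent.map a).baseChange S').restrict (baseChange_mem_bcH1 a)

theorem bcH1Map_comp_left (a : P₀.Hom P) (f : P.Hom P') (x : NLCx.bcH1 P₀ S') :
    NLCx.bcH1Map (f.comp a) x = NLCx.bcH1Map f (bcH1Pre (S' := S') a x) := by
  apply Algebra.Extension.h1Cotangentι_ext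
  show LinearMap.liftBaseChange S' (Algebra.Extension.Cotangent.map (f.comp a)) x.1 =
    LinearMap.liftBaseChange S' (Algebra.Extension.Cotangent.map f)
      ((Algebra.Extension.Cotangent.map a).baseChange S' x.1)
  generalize x.1 = y
  induction y using TensorProduct.induction_on with
  | zero => simp
  | tmul s m =>
    rw [LinearMap.baseChange_tmul, LinearMap.liftBaseChange_tmul, LinearMap.liftBaseChange_tmul,
      Algebra.Extension.Cotangent.map_comp]
    rfl
  | add y z hy hz => rw [map_add, map_add, map_add, hy, hz]

theorem bcH1Pre_retract (a : P₀.Hom P) (b : P.Hom P₀) (x : NLCx.bcH1 P₀ S') :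
    bcH1Pre (S' := S') b (bcH1Pre a x) = x := by
  apply Subtype.ext
  show (Algebra.Extension.Cotangent.map b).baseChange S'
    ((Algebra.Extension.Cotangent.map a).baseChange S' x.1) = x.1
  have h1 : (Algebra.Extension.Cotangent.map b) ∘ₗ (Algebra.Extension.Cotangent.map a) =
      LinearMap.id + ((b.comp a).sub (Algebra.Extension.Hom.id P₀)) ∘ₗ P₀.cotangentComplex := by
    have h := Algebra.Extension.Cotangent.map_sub_map (b.comp a) (Algebra.Extension.Hom.id P₀)
    rw [Algebra.Extension.Cotangent.map_comp, Algebra.Extension.Cotangent.map_id] at h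
    rw [← h]
    apply LinearMap.ext
    intro m
    simp
  have hx : P₀.cotangentComplex.baseChange S' x.1 = 0 := LinearMap.mem_ker.mp x.2
  rw [← LinearMap.comp_apply, ← LinearMap.baseChange_comp, h1, LinearMap.baseChange_add,
    LinearMap.add_apply, LinearMap.baseChange_id, LinearMap.id_apply, LinearMap.baseChange_comp,
    LinearMap.comp_apply, hx, map_zero, add_zero]

/-- The kernel of `bcH1Map f` is finite projective when `f` is surjective on `S' ⊗ I/I²` and
injective on cotangent spaces, with finite projective conormal modules. -/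
theorem ker_bcH1Map_finite_projective (f : P.Hom P')
    (hα : Function.Surjective
      (LinearMap.liftBaseChange S' (Algebra.Extension.Cotangent.map f)))
    (hβ : Function.Injective
      (LinearMap.liftBaseChange S' (Algebra.Extension.CotangentSpace.map f)))
    [Module.Finite S P.Cotangent] [Module.Projective S P.Cotangent]
    [Module.Projective S' P'.Cotangent] :
    Module.Finite S' (LinearMap.ker (NLCx.bcH1Map f)) ∧
      Module.Projective S' (LinearMap.ker (NLCx.bcH1Map f)) := by
  haveI : Module.Projective S' (S' ⊗[S] P.Cotangent) := inferInstance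
  haveI : Module.Finite S' (S' ⊗[S] P.Cotangent) := inferInstance
  obtain ⟨h1, h2⟩ := ker_finite_projective
    (LinearMap.liftBaseChange S' (Algebra.Extension.Cotangent.map f)) hα
  let T : LinearMap.ker (NLCx.bcH1Map f) →ₗ[S']
      LinearMap.ker (LinearMap.liftBaseChange S' (Algebra.Extension.Cotangent.map f)) :=
    ((NLCx.bcH1 P S').subtype ∘ₗ (LinearMap.ker (NLCx.bcH1Map f)).subtype).codRestrict _
      (fun x => by
        rw [LinearMap.mem_ker]
        have := LinearMap.mem_ker.mp x.2
        exact congrArg Subtype.val this)
  have hTinj : Function.Injective T := by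
    intro x y hxy
    apply Subtype.ext
    apply Subtype.ext
    have h3 : (T x).1 = (T y).1 := congrArg Subtype.val hxy
    exact h3
  have hTsurj : Function.Surjective T := by
    intro y
    have key : P'.cotangentComplex ∘ₗ
        LinearMap.liftBaseChange S' (Algebra.Extension.Cotangent.map f) =
        LinearMap.liftBaseChange S' (Algebra.Extension.CotangentSpace.map f) ∘ₗ
          P.cotangentComplex.baseChange S' := by
      ext z
      simpa using (Algebra.Extension.CotangentSpace.map_cotangentComplex f z).symm
    have hy : y.1 ∈ NLCx.bcH1 P S' := by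
      rw [NLCx.bcH1, LinearMap.mem_ker]
      apply hβ
      rw [map_zero]
      have := congrArg (fun l => l y.1) key
      simp only [LinearMap.coe_comp, Function.comp_apply] at this
      rw [← this, LinearMap.mem_ker.mp y.2, map_zero]
    refine ⟨⟨⟨y.1, hy⟩, ?_⟩, Subtype.ext rfl⟩
    rw [LinearMap.mem_ker]
    apply Algebra.Extension.h1Cotangentι_ext
    exact LinearMap.mem_ker.mp y.2
  let e := LinearEquiv.ofBijective T ⟨hTinj, hTsurj⟩
  haveI := h1
  haveI := h2
  exact ⟨Module.Finite.equiv e.symm, Module.Projective.of_equiv' e.symm⟩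

end BC

end Groth.Agent.Helper6.NLKer
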