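import Groth.Agent.Lib.Helper6.NLKerA

/-!
# The kernel of `H^{-1}(NL_{B/A} ⊗_B B') → H^{-1}(NL_{B'/A'})` for lci maps, part B (helper6)
-/

set_option autoImplicit false
set_option linter.style.haveILetI false

open TensorProduct

universe u

namespace Groth.Agent.Helper6.NLKer

section BCGens

variable (R S R' S' : Type u) [CommRing R] [CommRing S] [CommRing R'] [CommRing S']
  [Algebra R S] [Algebra R' S'] [Algebra R R'] [Algebra S S'] [Algebra R S']
  [IsScalarTower R R' S'] [IsScalarTower R S S'] [Algebra.IsPushout R R' S S']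
  {ι : Type u} (G : Algebra.Generators R S ι)

theorem bc_aeval_surjective :
    Function.Surjective
      (MvPolynomial.aeval (R := R') (fun i : ι => algebraMap S S' (G.val i))) := by
  intro x
  have hbc : IsBaseChange R' (IsScalarTower.toAlgHom R S S').toLinearMap := Algebra.IsPushout.out
  have hmem : x ∈ (MvPolynomial.aeval (R := R')
      (fun i : ι => algebraMap S S' (G.val i))).range := by
    refine hbc.inductionOn x
      (fun x => x ∈ (MvPolynomial.aeval (R := R')
        (fun i : ι => algebraMap S S' (G.val i))).range) ?_ ?_ ?_ ?_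
    · exact Subalgebra.zero_mem _
    · intro s
      refine ⟨MvPolynomial.map (algebraMap R R') (G.σ s), ?_⟩
      show MvPolynomial.aeval (R := R') (fun i : ι => algebraMap S S' (G.val i))
        (MvPolynomial.map (algebraMap R R') (G.σ s)) = algebraMap S S' s
      rw [MvPolynomial.aeval_map_algebraMap]
      have h := MvPolynomial.aeval_algebraMap_apply (R := R) S' G.val (G.σ s)
      rw [G.aeval_val_σ] at h
      exact h
    · intro r' y hy
      exact Subalgebra.smul_mem _ hy r'
    · intro a b ha hb
      exact Subalgebra.add_mem _ ha hb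
  exact hmem

/-- the base-changed presentation (same variables). -/
noncomputable def bcGens : Algebra.Generators R' S' ι :=
  Algebra.Generators.ofSurjective (fun i : ι => algebraMap S S' (G.val i))
    (bc_aeval_surjective R S R' S' G)

theorem bcGens_val (i : ι) : (bcGens R S R' S' G).val i = algebraMap S S' (G.val i) := rfl

end BCGens

section Main

variable (A B A' B' : Type u) [CommRing A] [CommRing B] [CommRing A'] [CommRing B']
  [Algebra A B] [Algebra A' B'] [Algebra A A'] [Algebra B B'] [Algebra A B']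
  [IsScalarTower A A' B'] [IsScalarTower A B B'] [Algebra.IsPushout A A' B B']

theorem cotangentSpace_finite_free {ι : Type u} [Finite ι] (G : Algebra.Generators A B ι) :
    Module.Finite B G.toExtension.CotangentSpace ∧
      Module.Projective B G.toExtension.CotangentSpace := by
  haveI : Module.Free B G.toExtension.CotangentSpace :=
    Module.Free.of_basis G.cotangentSpaceBasis
  exact ⟨Module.Finite.of_basis G.cotangentSpaceBasis, inferInstance⟩

/-- S7223 -/
theorem ker_bcH1Map_self_finite_projective (hB : LCI.IsLCI A B) (hB' : LCI.IsLCI A' B') :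
    Module.Finite B' (LinearMap.ker (NLCx.bcH1Map
        ((Algebra.Generators.self A B).defaultHom
          (Algebra.Generators.self A' B')).toExtensionHom)) ∧
      Module.Projective B' (LinearMap.ker (NLCx.bcH1Map
        ((Algebra.Generators.self A B).defaultHom
          (Algebra.Generators.self A' B')).toExtensionHom)) := by
  obtain ⟨-, n, f, hf, hK⟩ := hB
  obtain ⟨-, m, f', hf', hK'⟩ := hB'
  obtain ⟨hG1, hG2⟩ := KRCot.gens_cotangent_finite_projective n f hf hK
  obtain ⟨hH1, hH2⟩ := KRCot.gens_cotangent_finite_projective m f' hf' hK'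
  -- the finite presentation of `B` with variables in `Type u`
  obtain ⟨G₀, hG₀⟩ : ∃ G₀ : Algebra.Generators A B (Fin n),
      G₀ = Algebra.Generators.ofAlgHom f hf := ⟨_, rfl⟩
  obtain ⟨H₀, hH₀⟩ : ∃ H₀ : Algebra.Generators A' B' (Fin m),
      H₀ = Algebra.Generators.ofAlgHom f' hf' := ⟨_, rfl⟩
  rw [← hG₀] at hG1 hG2
  rw [← hH₀] at hH1 hH2
  obtain ⟨G, hGdef⟩ : ∃ G : Algebra.Generators A B (ULift.{u} (Fin n)),
      G = G₀.reindex Equiv.ulift := ⟨_, rfl⟩
  obtain ⟨G', hG'def⟩ : ∃ G' : Algebra.Generators A' B' (ULift.{u} (Fin n)),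
      G' = bcGens A B A' B' G := ⟨_, rfl⟩
  have hval : ∀ i, G'.val i = algebraMap B B' (G.val i) := by
    intro i
    rw [hG'def]
    rfl
  -- conormal modules are finite projective
  obtain ⟨hGS1, hGS2⟩ := cotangentSpace_finite_free A B G
  obtain ⟨hG'S1, hG'S2⟩ := cotangentSpace_finite_free A' B' G'
  obtain ⟨hGc1, hGc2⟩ := cotangent_finite_projective_of_hom
    (G.defaultHom G₀).toExtensionHom (G₀.defaultHom G).toExtensionHom
  obtain ⟨hG'c1, hG'c2⟩ := cotangent_finite_projective_of_hom
    (G'.defaultHom H₀).toExtensionHom (H₀.defaultHom G').toExtensionHom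
  -- the kernel for the finite presentations
  obtain ⟨φ, hφdef⟩ : ∃ φ : G.toExtension.Hom G'.toExtension,
      φ = (NLCx.sameVarsHom G G' hval).toExtensionHom := ⟨_, rfl⟩
  have hα : Function.Surjective
      (LinearMap.liftBaseChange B' (Algebra.Extension.Cotangent.map φ)) := by
    rw [hφdef]
    exact NLBase.lift_cotangent_surjective _ (NLBase.ker_le_map G G' hval)
  have hβ : Function.Injective
      (LinearMap.liftBaseChange B' (Algebra.Extension.CotangentSpace.map φ)) := by
    rw [hφdef]
    exact (NLBase.lift_cotangentSpace_bijective G G' hval).1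
  obtain ⟨hk1, hk2⟩ := ker_bcH1Map_finite_projective φ hα hβ
  -- comparison with the presentations on all elements
  obtain ⟨a, -⟩ : ∃ a : (Algebra.Generators.self A B).toExtension.Hom G.toExtension,
      a = ((Algebra.Generators.self A B).defaultHom G).toExtensionHom := ⟨_, rfl⟩
  obtain ⟨b, -⟩ : ∃ b : G.toExtension.Hom (Algebra.Generators.self A B).toExtension,
      b = (G.defaultHom (Algebra.Generators.self A B)).toExtensionHom := ⟨_, rfl⟩
  obtain ⟨c, -⟩ : ∃ c : G'.toExtension.Hom (Algebra.Generators.self A' B').toExtension,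
      c = (G'.defaultHom (Algebra.Generators.self A' B')).toExtensionHom := ⟨_, rfl⟩
  obtain ⟨c', -⟩ : ∃ c' : (Algebra.Generators.self A' B').toExtension.Hom G'.toExtension,
      c' = ((Algebra.Generators.self A' B').defaultHom G').toExtensionHom := ⟨_, rfl⟩
  obtain ⟨φ₀, hφ₀def⟩ : ∃ φ₀ : (Algebra.Generators.self A B).toExtension.Hom
      (Algebra.Generators.self A' B').toExtension,
      φ₀ = ((Algebra.Generators.self A B).defaultHom
        (Algebra.Generators.self A' B')).toExtensionHom := ⟨_, rfl⟩
  rw [← hφ₀def]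
  have hc_inj : Function.Injective (Algebra.Extension.H1Cotangent.map c) :=
    (Algebra.Extension.H1Cotangent.equiv c c').injective
  have hφ₀ : ∀ x, NLCx.bcH1Map φ₀ x =
      Algebra.Extension.H1Cotangent.map c (NLCx.bcH1Map φ (bcH1Pre (S' := B') a x)) := by
    intro x
    rw [bcH1Map_eq φ₀ (c.comp (φ.comp a)), bcH1Map_comp_right, bcH1Map_comp_left]
  have hφ₀b : ∀ y, NLCx.bcH1Map φ₀ (bcH1Pre (S' := B') b y) =
      Algebra.Extension.H1Cotangent.map c (NLCx.bcH1Map φ y) := by
    intro y
    rw [← bcH1Map_comp_left, bcH1Map_eq (φ₀.comp b) (c.comp φ), bcH1Map_comp_right]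
  let U : LinearMap.ker (NLCx.bcH1Map φ₀) →ₗ[B'] LinearMap.ker (NLCx.bcH1Map φ) :=
    (bcH1Pre (S' := B') a).restrict (fun x hx => by
      rw [LinearMap.mem_ker] at hx ⊢
      apply hc_inj
      rw [← hφ₀, hx, map_zero])
  let V : LinearMap.ker (NLCx.bcH1Map φ) →ₗ[B'] LinearMap.ker (NLCx.bcH1Map φ₀) :=
    (bcH1Pre (S' := B') b).restrict (fun y hy => by
      rw [LinearMap.mem_ker] at hy ⊢
      rw [hφ₀b, hy, map_zero])
  have hVU : V ∘ₗ U = LinearMap.id := by
    apply LinearMap.ext
    intro x
    apply Subtype.ext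
    exact bcH1Pre_retract a b x.1
  haveI := hk1
  haveI := hk2
  exact ⟨Module.Finite.of_surjective V (fun y => ⟨U y, congrArg (fun l => l y) hVU⟩),
    Module.Projective.of_split U V hVU⟩

end Main

end Groth.Agent.Helper6.NLKer
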