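import Mathlib

/-!
# Deligne's theorem for finite free commutative group schemes (Hopf-algebraic form)

For a commutative, cocommutative Hopf algebra `A` over `R` which is free of finite rank `n`,
the `n`-th convolution power of the identity of `A` is the convolution unit.
-/

set_option autoImplicit false
set_option linter.unusedSectionVars false
universe u v w

open scoped TensorProduct
open WithConv

namespace Groth.Agent.Helper6.OT

section ConvHom
variable {R : Type u} [CommRing R]
variable {C : Type*} [AddCommGroup C] [Module R C] [Coalgebra R C]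
variable {A : Type*} [Ring A] [Algebra R A] {B : Type*} [Ring B] [Algebra R B]

/-- post-composition with an algebra hom, as an algebra hom of convolution algebras -/
noncomputable def postc (h : A →ₐ[R] B) : WithConv (C →ₗ[R] A) →ₐ[R] WithConv (C →ₗ[R] B) where
  toFun f := toConv (h.toLinearMap ∘ₗ f.ofConv)
  map_one' := by
    apply WithConv.ext; ext c
    simp [LinearMap.convOne_def]
  map_mul' f g := by
    apply WithConv.ext
    exact LinearMap.algHom_comp_convMul_distrib h f g
  map_zero' := by apply WithConv.ext; ext c; simp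
  map_add' f g := by apply WithConv.ext; ext c; simp
  commutes' r := by
    apply WithConv.ext; ext c
    simp

@[simp] theorem postc_apply (h : A →ₐ[R] B) (f : WithConv (C →ₗ[R] A)) (c : C) :
    postc h f c = h (f c) := rfl

theorem postc_comp {B' : Type*} [Ring B'] [Algebra R B'] (h : A →ₐ[R] B) (h' : B →ₐ[R] B')
    (f : WithConv (C →ₗ[R] A)) : postc h' (postc h f) = postc (h'.comp h) f := by
  apply WithConv.ext; ext c; rfl

theorem postc_id (f : WithConv (C →ₗ[R] A)) : postc (AlgHom.id R A) f = f := by
  apply WithConv.ext; ext c; rfl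

end ConvHom

section Shear
variable (R : Type u) [CommRing R] (A : Type v) [CommRing A] [HopfAlgebra R A]

/-- The shear map `s ⊗ a ↦ (s ⊗ 1) Δ(a)` (translation by the universal point). -/
noncomputable def shear : A ⊗[R] A →ₐ[A] A ⊗[R] A :=
  Algebra.TensorProduct.lift Algebra.TensorProduct.includeLeft (Bialgebra.comulAlgHom R A)
    (fun _ _ => Commute.all _ _)

/-- The inverse shear map `s ⊗ a ↦ (s ⊗ 1) (S ⊗ id)Δ(a)`. -/
noncomputable def shearInv : A ⊗[R] A →ₐ[A] A ⊗[R] A :=
  Algebra.TensorProduct.lift Algebra.TensorProduct.includeLeft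
    ((Algebra.TensorProduct.map (HopfAlgebra.antipodeAlgHom R A) (AlgHom.id R A)).comp
      (Bialgebra.comulAlgHom R A))
    (fun _ _ => Commute.all _ _)

theorem shear_tmul (s a : A) :
    shear R A (s ⊗ₜ[R] a) = (s ⊗ₜ[R] (1 : A)) * Coalgebra.comul (R := R) a := by
  simp [shear]

theorem shearInv_tmul (s a : A) :
    shearInv R A (s ⊗ₜ[R] a) = (s ⊗ₜ[R] (1 : A)) *
      Algebra.TensorProduct.map (HopfAlgebra.antipodeAlgHom R A) (AlgHom.id R A)
        (Coalgebra.comul (R := R) a) := by
  simp [shearInv]

theorem toConv_comul_eq :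
    (toConv (Bialgebra.comulAlgHom R A) : WithConv (A →ₐ[R] A ⊗[R] A)) =
      toConv (Algebra.TensorProduct.includeLeft : A →ₐ[R] A ⊗[R] A) *
        toConv (Algebra.TensorProduct.includeRight : A →ₐ[R] A ⊗[R] A) := by
  apply WithConv.ofConv_injective
  apply AlgHom.ext
  intro a
  rw [AlgHom.convMul_apply, WithConv.ofConv_toConv, WithConv.ofConv_toConv, WithConv.ofConv_toConv,
    Algebra.TensorProduct.lift_includeLeft_includeRight]
  rfl

theorem toConv_antipode_comul_eq :
    (toConv ((Algebra.TensorProduct.map (HopfAlgebra.antipodeAlgHom R A) (AlgHom.id R A)).comp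
      (Bialgebra.comulAlgHom R A)) : WithConv (A →ₐ[R] A ⊗[R] A)) =
      (toConv (Algebra.TensorProduct.includeLeft : A →ₐ[R] A ⊗[R] A))⁻¹ *
        toConv (Algebra.TensorProduct.includeRight : A →ₐ[R] A ⊗[R] A) := by
  apply WithConv.ofConv_injective
  apply AlgHom.ext
  intro a
  rw [AlgHom.convMul_apply, WithConv.ofConv_toConv, WithConv.ofConv_toConv]
  have h : Algebra.TensorProduct.lift
      ((toConv (Algebra.TensorProduct.includeLeft : A →ₐ[R] A ⊗[R] A))⁻¹).ofConv
      (Algebra.TensorProduct.includeRight : A →ₐ[R] A ⊗[R] A) (fun _ _ => Commute.all _ _) =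
      Algebra.TensorProduct.map (HopfAlgebra.antipodeAlgHom R A) (AlgHom.id R A) := by
    refine Algebra.TensorProduct.ext' (S := R) (fun x y => ?_)
    rw [Algebra.TensorProduct.lift_tmul, Algebra.TensorProduct.map_tmul]
    show ((Algebra.TensorProduct.includeLeft : A →ₐ[R] A ⊗[R] A)
        (HopfAlgebra.antipodeAlgHom R A x)) *
      (Algebra.TensorProduct.includeRight : A →ₐ[R] A ⊗[R] A) y = _
    simp
  rw [h]
  rfl

theorem shearInv_restrict_comp_includeLeft :
    ((shearInv R A).restrictScalars R).comp
      (Algebra.TensorProduct.includeLeft : A →ₐ[R] A ⊗[R] A) =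
      (Algebra.TensorProduct.includeLeft : A →ₐ[R] A ⊗[R] A) := by
  apply AlgHom.ext
  intro a
  simp [shearInv]

theorem shear_restrict_comp_includeLeft :
    ((shear R A).restrictScalars R).comp
      (Algebra.TensorProduct.includeLeft : A →ₐ[R] A ⊗[R] A) =
      (Algebra.TensorProduct.includeLeft : A →ₐ[R] A ⊗[R] A) := by
  apply AlgHom.ext
  intro a
  simp [shear]

theorem shear_restrict_comp_includeRight :
    ((shear R A).restrictScalars R).comp
      (Algebra.TensorProduct.includeRight : A →ₐ[R] A ⊗[R] A) = Bialgebra.comulAlgHom R A :=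
  Algebra.TensorProduct.lift_comp_includeRight _ _ _

theorem shearInv_restrict_comp_includeRight :
    ((shearInv R A).restrictScalars R).comp
      (Algebra.TensorProduct.includeRight : A →ₐ[R] A ⊗[R] A) =
      (Algebra.TensorProduct.map (HopfAlgebra.antipodeAlgHom R A) (AlgHom.id R A)).comp
        (Bialgebra.comulAlgHom R A) :=
  Algebra.TensorProduct.lift_comp_includeRight _ _ _

theorem shearInv_restrict_comp_comul :
    ((shearInv R A).restrictScalars R).comp (Bialgebra.comulAlgHom R A) =
      (Algebra.TensorProduct.includeRight : A →ₐ[R] A ⊗[R] A) := by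
  have h0 : Bialgebra.comulAlgHom R A =
      (toConv (Algebra.TensorProduct.includeLeft : A →ₐ[R] A ⊗[R] A) *
        toConv (Algebra.TensorProduct.includeRight : A →ₐ[R] A ⊗[R] A)).ofConv := by
    rw [← toConv_comul_eq, WithConv.ofConv_toConv]
  rw [h0, AlgHom.comp_convMul_distrib, WithConv.ofConv_toConv, WithConv.ofConv_toConv,
    shearInv_restrict_comp_includeLeft, shearInv_restrict_comp_includeRight,
    toConv_antipode_comul_eq]
  exact congrArg WithConv.ofConv (mul_inv_cancel_left
    (toConv (Algebra.TensorProduct.includeLeft : A →ₐ[R] A ⊗[R] A))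
    (toConv (Algebra.TensorProduct.includeRight : A →ₐ[R] A ⊗[R] A)))

theorem shear_restrict_comp_antipode_comul :
    ((shear R A).restrictScalars R).comp
      ((Algebra.TensorProduct.map (HopfAlgebra.antipodeAlgHom R A) (AlgHom.id R A)).comp
        (Bialgebra.comulAlgHom R A)) =
      (Algebra.TensorProduct.includeRight : A →ₐ[R] A ⊗[R] A) := by
  have h0 : (Algebra.TensorProduct.map (HopfAlgebra.antipodeAlgHom R A) (AlgHom.id R A)).comp
        (Bialgebra.comulAlgHom R A) =
      ((toConv (Algebra.TensorProduct.includeLeft : A →ₐ[R] A ⊗[R] A))⁻¹ *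
        toConv (Algebra.TensorProduct.includeRight : A →ₐ[R] A ⊗[R] A)).ofConv := by
    rw [← toConv_antipode_comul_eq, WithConv.ofConv_toConv]
  have h1 : ((shear R A).restrictScalars R).comp
      ((toConv (Algebra.TensorProduct.includeLeft : A →ₐ[R] A ⊗[R] A))⁻¹).ofConv =
      ((toConv (Algebra.TensorProduct.includeLeft : A →ₐ[R] A ⊗[R] A))⁻¹).ofConv := by
    show ((shear R A).restrictScalars R).comp
      ((Algebra.TensorProduct.includeLeft : A →ₐ[R] A ⊗[R] A).comp
        (HopfAlgebra.antipodeAlgHom R A)) =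
      (Algebra.TensorProduct.includeLeft : A →ₐ[R] A ⊗[R] A).comp
        (HopfAlgebra.antipodeAlgHom R A)
    rw [← AlgHom.comp_assoc, shear_restrict_comp_includeLeft]
  rw [h0, AlgHom.comp_convMul_distrib, WithConv.ofConv_toConv, h1,
    shear_restrict_comp_includeRight, toConv_comul_eq, WithConv.toConv_ofConv]
  exact congrArg WithConv.ofConv (inv_mul_cancel_left
    (toConv (Algebra.TensorProduct.includeLeft : A →ₐ[R] A ⊗[R] A))
    (toConv (Algebra.TensorProduct.includeRight : A →ₐ[R] A ⊗[R] A)))

theorem shearInv_comp_shear : (shearInv R A).comp (shear R A) = AlgHom.id A (A ⊗[R] A) := by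
  apply Algebra.TensorProduct.ext
  · apply AlgHom.ext
    intro a
    simp [shear, shearInv]
  · show ((shearInv R A).restrictScalars R).comp (((shear R A).restrictScalars R).comp
      (Algebra.TensorProduct.includeRight : A →ₐ[R] A ⊗[R] A)) = _
    rw [shear_restrict_comp_includeRight, shearInv_restrict_comp_comul]
    rfl

theorem shear_comp_shearInv : (shear R A).comp (shearInv R A) = AlgHom.id A (A ⊗[R] A) := by
  apply Algebra.TensorProduct.ext
  · apply AlgHom.ext
    intro a
    simp [shear, shearInv]
  · show ((shear R A).restrictScalars R).comp (((shearInv R A).restrictScalars R).comp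
      (Algebra.TensorProduct.includeRight : A →ₐ[R] A ⊗[R] A)) = _
    rw [shearInv_restrict_comp_includeRight, shear_restrict_comp_antipode_comul]
    rfl

end Shear

section Deligne
variable (R : Type u) [CommRing R] (A : Type v) [CommRing A] [HopfAlgebra R A]
  [Coalgebra.IsCocomm R A]

/-- the ring hom `Hom(A, A) → Hom(A, A ⊗ A)`, `f ↦ (a ↦ f a ⊗ 1)` -/
noncomputable def iota1 : WithConv (A →ₗ[R] A) →+* WithConv (A →ₗ[R] A ⊗[R] A) :=
  (postc (C := A) (Algebra.TensorProduct.includeLeft : A →ₐ[R] A ⊗[R] A)).toRingHom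

theorem iota1_apply (f : WithConv (A →ₗ[R] A)) (a : A) :
    iota1 R A f a = f a ⊗ₜ[R] (1 : A) := rfl

/-- `Hom(A, A ⊗ A)` as an algebra over `Hom(A, A)` -/
@[reducible] noncomputable def algW : Algebra (WithConv (A →ₗ[R] A)) (WithConv (A →ₗ[R] A ⊗[R] A)) :=
  (iota1 R A).toAlgebra

attribute [local instance] algW

theorem algebraMap_W_apply (f : WithConv (A →ₗ[R] A)) :
    algebraMap (WithConv (A →ₗ[R] A)) (WithConv (A →ₗ[R] A ⊗[R] A)) f = iota1 R A f := rfl

theorem smul_W_def (f : WithConv (A →ₗ[R] A)) (h : WithConv (A →ₗ[R] A ⊗[R] A)) :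
    f • h = iota1 R A f * h := rfl

variable {ι : Type w} [Fintype ι] [DecidableEq ι] (b : Module.Basis ι R A)

/-- coordinate maps of `A ⊗ A` over the left factor -/
noncomputable def cmap (i : ι) : A ⊗[R] A →ₗ[R] A :=
  (TensorProduct.rid R A).toLinearMap ∘ₗ LinearMap.lTensor A (b.coord i)

theorem cmap_tmul (i : ι) (s a : A) : cmap R A b i (s ⊗ₜ[R] a) = b.repr a i • s := by
  simp [cmap]

theorem cmap_mul_left (i : ι) (x : A) (t : A ⊗[R] A) :
    cmap R A b i ((x ⊗ₜ[R] (1 : A)) * t) = x * cmap R A b i t := by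
  induction t using TensorProduct.induction_on with
  | zero => simp
  | tmul s a =>
    rw [Algebra.TensorProduct.tmul_mul_tmul, one_mul, cmap_tmul, cmap_tmul, mul_smul_comm]
  | add t t' ht ht' => rw [mul_add, map_add, ht, ht', map_add, mul_add]

theorem sum_cmap (t : A ⊗[R] A) : ∑ i, cmap R A b i t ⊗ₜ[R] b i = t := by
  induction t using TensorProduct.induction_on with
  | zero => simp
  | tmul s a =>
    simp only [cmap_tmul]
    conv_rhs => rw [← b.sum_repr a, TensorProduct.tmul_sum]
    refine Finset.sum_congr rfl fun i _ => ?_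
    rw [TensorProduct.smul_tmul]
  | add t t' ht ht' =>
    simp only [map_add, TensorProduct.add_tmul, Finset.sum_add_distrib, ht, ht']

/-- the coordinate family of an element of `Hom(A, A ⊗ A)` -/
noncomputable def toFam (h : WithConv (A →ₗ[R] A ⊗[R] A)) : ι → WithConv (A →ₗ[R] A) :=
  fun i => toConv (cmap R A b i ∘ₗ h.ofConv)

theorem toFam_apply (h : WithConv (A →ₗ[R] A ⊗[R] A)) (i : ι) (a : A) :
    toFam R A b h i a = cmap R A b i (h a) := rfl

/-- the element of `Hom(A, A ⊗ A)` with given coordinate family -/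
noncomputable def ofFam (f : ι → WithConv (A →ₗ[R] A)) : WithConv (A →ₗ[R] A ⊗[R] A) :=
  toConv (∑ i, (TensorProduct.mk R A A).flip (b i) ∘ₗ (f i).ofConv)

theorem ofFam_apply (f : ι → WithConv (A →ₗ[R] A)) (a : A) :
    ofFam R A b f a = ∑ i, f i a ⊗ₜ[R] b i := by
  show (∑ i, (TensorProduct.mk R A A).flip (b i) ∘ₗ (f i).ofConv) a = _
  rw [LinearMap.sum_apply]
  rfl

theorem toFam_ofFam (f : ι → WithConv (A →ₗ[R] A)) : toFam R A b (ofFam R A b f) = f := by
  funext i
  apply WithConv.ext
  apply LinearMap.ext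
  intro a
  show cmap R A b i (ofFam R A b f a) = f i a
  rw [ofFam_apply, map_sum]
  simp only [cmap_tmul, Module.Basis.repr_self, Finsupp.single_apply]
  rw [Finset.sum_eq_single i]
  · simp
  · intro j _ hj
    simp [hj]
  · intro h
    exact absurd (Finset.mem_univ i) h

theorem ofFam_toFam (h : WithConv (A →ₗ[R] A ⊗[R] A)) : ofFam R A b (toFam R A b h) = h := by
  apply WithConv.ext
  apply LinearMap.ext
  intro a
  show ofFam R A b (toFam R A b h) a = h a
  rw [ofFam_apply]
  simp only [toFam_apply]
  exact sum_cmap R A b (h a)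

theorem toFam_smul (w : WithConv (A →ₗ[R] A)) (h : WithConv (A →ₗ[R] A ⊗[R] A)) :
    toFam R A b (w • h) = w • toFam R A b h := by
  funext i
  apply WithConv.ext
  apply LinearMap.ext
  intro a
  show cmap R A b i ((iota1 R A w * h) a) = (w * toFam R A b h i) a
  rw [(Coalgebra.Repr.arbitrary R a).convMul_apply, (Coalgebra.Repr.arbitrary R a).convMul_apply,
    map_sum]
  refine Finset.sum_congr rfl fun j _ => ?_
  rw [iota1_apply, cmap_mul_left]
  rfl

theorem toFam_add (h h' : WithConv (A →ₗ[R] A ⊗[R] A)) :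
    toFam R A b (h + h') = toFam R A b h + toFam R A b h' := by
  funext i
  apply WithConv.ext
  apply LinearMap.ext
  intro a
  show cmap R A b i ((h + h') a) = cmap R A b i (h a) + cmap R A b i (h' a)
  rw [← map_add]
  rfl

/-- `Hom(A, A ⊗ A)` is free over `Hom(A, A)` on the index set of a basis of `A`. -/
noncomputable def famEquiv :
    WithConv (A →ₗ[R] A ⊗[R] A) ≃ₗ[WithConv (A →ₗ[R] A)] (ι → WithConv (A →ₗ[R] A)) where
  toFun := toFam R A b
  map_add' := toFam_add R A b
  map_smul' := toFam_smul R A b
  invFun := ofFam R A b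
  left_inv := ofFam_toFam R A b
  right_inv := toFam_ofFam R A b

/-- the basis of `Hom(A, A ⊗ A)` over `Hom(A, A)` -/
noncomputable def basisW : Module.Basis ι (WithConv (A →ₗ[R] A)) (WithConv (A →ₗ[R] A ⊗[R] A)) :=
  Module.Basis.ofEquivFun (famEquiv R A b)

/-- post-composition with the shear map, as an algebra hom over `Hom(A, A)` -/
noncomputable def shearW :
    WithConv (A →ₗ[R] A ⊗[R] A) →ₐ[WithConv (A →ₗ[R] A)] WithConv (A →ₗ[R] A ⊗[R] A) :=
  { (postc (C := A) ((shear R A).restrictScalars R)).toRingHom with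
    commutes' := fun f => by
      apply WithConv.ext
      apply LinearMap.ext
      intro a
      show shear R A (f a ⊗ₜ[R] (1 : A)) = f a ⊗ₜ[R] (1 : A)
      rw [shear_tmul]
      simp [Bialgebra.comul_one] }

/-- post-composition with the inverse shear map, as an algebra hom over `Hom(A, A)` -/
noncomputable def shearInvW :
    WithConv (A →ₗ[R] A ⊗[R] A) →ₐ[WithConv (A →ₗ[R] A)] WithConv (A →ₗ[R] A ⊗[R] A) :=
  { (postc (C := A) ((shearInv R A).restrictScalars R)).toRingHom with
    commutes' := fun f => by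
      apply WithConv.ext
      apply LinearMap.ext
      intro a
      show shearInv R A (f a ⊗ₜ[R] (1 : A)) = f a ⊗ₜ[R] (1 : A)
      rw [shearInv_tmul]
      simp [Bialgebra.comul_one] }

theorem shearW_apply (h : WithConv (A →ₗ[R] A ⊗[R] A)) (a : A) :
    shearW R A h a = shear R A (h a) := rfl

theorem shearInvW_apply (h : WithConv (A →ₗ[R] A ⊗[R] A)) (a : A) :
    shearInvW R A h a = shearInv R A (h a) := rfl

/-- the automorphism of `Hom(A, A ⊗ A)` over `Hom(A, A)` induced by the shear map -/
noncomputable def shearEquivW :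
    WithConv (A →ₗ[R] A ⊗[R] A) ≃ₐ[WithConv (A →ₗ[R] A)] WithConv (A →ₗ[R] A ⊗[R] A) :=
  AlgEquiv.ofAlgHom (shearW R A) (shearInvW R A)
    (by
      apply AlgHom.ext
      intro h
      apply WithConv.ext
      apply LinearMap.ext
      intro a
      show shear R A (shearInv R A (h a)) = h a
      exact DFunLike.congr_fun (shear_comp_shearInv R A) (h a))
    (by
      apply AlgHom.ext
      intro h
      apply WithConv.ext
      apply LinearMap.ext
      intro a
      show shearInv R A (shear R A (h a)) = h a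
      exact DFunLike.congr_fun (shearInv_comp_shear R A) (h a))

theorem shearEquivW_apply (h : WithConv (A →ₗ[R] A ⊗[R] A)) :
    shearEquivW R A h = shearW R A h := rfl

include b in
/-- **Deligne's theorem** (free case, linear-map form): the `n`-th convolution power of the
identity of a commutative cocommutative Hopf algebra free of rank `n` is the convolution unit. -/
theorem deligne_linear :
    (toConv (LinearMap.id : A →ₗ[R] A) : WithConv (A →ₗ[R] A)) ^ Fintype.card ι = 1 := by
  set g : WithConv (A →ₗ[R] A) := toConv LinearMap.id with hg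
  set i₀ : WithConv (A →ₗ[R] A ⊗[R] A) :=
    postc (C := A) (Algebra.TensorProduct.includeRight : A →ₐ[R] A ⊗[R] A) g with hi₀
  set i₁ : WithConv (A →ₗ[R] A ⊗[R] A) :=
    postc (C := A) (Algebra.TensorProduct.includeRight : A →ₐ[R] A ⊗[R] A)
      (toConv (HopfAlgebra.antipode R (A := A))) with hi₁
  have hinv : i₀ * i₁ = 1 := by
    rw [hi₀, hi₁, ← map_mul, hg, LinearMap.id_mul_antipode, map_one]
  have key : shearW R A i₀ =
      algebraMap (WithConv (A →ₗ[R] A)) (WithConv (A →ₗ[R] A ⊗[R] A)) g * i₀ := by
    apply WithConv.ext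
    apply LinearMap.ext
    intro a
    show shear R A ((1 : A) ⊗ₜ[R] a) = (iota1 R A g * i₀) a
    rw [shear_tmul, (Coalgebra.Repr.arbitrary R a).convMul_apply]
    have h1 : ∀ j, (iota1 R A g) ((Coalgebra.Repr.arbitrary R a).left j) *
        i₀ ((Coalgebra.Repr.arbitrary R a).right j) =
        (Coalgebra.Repr.arbitrary R a).left j ⊗ₜ[R] (Coalgebra.Repr.arbitrary R a).right j := by
      intro j
      show ((Coalgebra.Repr.arbitrary R a).left j ⊗ₜ[R] (1 : A)) *
        ((1 : A) ⊗ₜ[R] (Coalgebra.Repr.arbitrary R a).right j) = _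
      rw [Algebra.TensorProduct.tmul_mul_tmul, mul_one, one_mul]
    rw [Finset.sum_congr rfl (fun j _ => h1 j), (Coalgebra.Repr.arbitrary R a).eq,
      ← Algebra.TensorProduct.one_def, one_mul]
  have hN := Algebra.norm_eq_of_algEquiv (shearEquivW R A) i₀
  rw [shearEquivW_apply, key, map_mul, Algebra.norm_algebraMap_of_basis (basisW R A b)] at hN
  have hunit : IsUnit (Algebra.norm (WithConv (A →ₗ[R] A)) i₀) := by
    refine IsUnit.of_mul_eq_one (Algebra.norm (WithConv (A →ₗ[R] A)) i₁) ?_
    rw [← map_mul, hinv, map_one]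
  rw [mul_comm] at hN
  exact hunit.mul_left_cancel (hN.trans (mul_one _).symm)

include b in
/-- **Deligne's theorem** (free case): the `n`-th convolution power of the identity of a
commutative cocommutative Hopf algebra free of rank `n` is the convolution unit. -/
theorem deligne_algHom :
    (toConv (AlgHom.id R A) : WithConv (A →ₐ[R] A)) ^ Fintype.card ι = 1 := by
  apply WithConv.ofConv_injective
  apply AlgHom.toLinearMap_injective
  apply WithConv.toConv_injective
  rw [AlgHom.toLinearMap_convPow, AlgHom.toLinearMap_convOne]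
  exact deligne_linear R A b

end Deligne

end Groth.Agent.Helper6.OT
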