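import Mathlib
import Groth.Prelude.Def_W4c5ffgsreadingcourseOT
import Groth.Agent.Lib.Helper23.VerschLib
import Groth.Agent.Lib.Helper27.OT468d
import Groth.Agent.Lib.Helper6.OT1

/-!
# Oort–Tate: Deligne's theorem for finite locally free groups of constant rank, and base change
of the eigenspace decomposition of the augmentation ideal.
-/

set_option autoImplicit false
set_option linter.unusedSectionVars false
universe u

open scoped TensorProduct
open WithConv

namespace Groth.Agent.Helper6.OT

open Groth.Agent.Helper23.VerschLib (powConv_baseChange)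

section BC
variable (R : Type u) [CommRing R] (R' : Type u) [CommRing R'] [Algebra R R']
  (A : Type u) [CommRing A] [HopfAlgebra R A]

theorem counit_bc_tmul (s : R') (a : A) :
    Bialgebra.counitAlgHom R' (R' ⊗[R] A) (s ⊗ₜ[R] a) =
      s * algebraMap R R' (Bialgebra.counitAlgHom R A a) := by
  show Coalgebra.counit (R := R') (s ⊗ₜ[R] a) = s * algebraMap R R' (Coalgebra.counit (R := R) a)
  rw [TensorProduct.counit_tmul]
  simp [Algebra.smul_def, mul_comm]

theorem convOne_bc_tmul (s : R') (a : A) :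
    (1 : WithConv (R' ⊗[R] A →ₐ[R'] R' ⊗[R] A)).ofConv (s ⊗ₜ[R] a) =
      s ⊗ₜ[R] ((1 : WithConv (A →ₐ[R] A)).ofConv a) := by
  show algebraMap R' (R' ⊗[R] A) (Coalgebra.counit (R := R') (s ⊗ₜ[R] a)) =
    s ⊗ₜ[R] (algebraMap R A (Coalgebra.counit (R := R) a))
  rw [TensorProduct.counit_tmul, Algebra.TensorProduct.algebraMap_apply,
    Algebra.algebraMap_eq_smul_one (Coalgebra.counit (R := R) a), TensorProduct.tmul_smul,
    TensorProduct.smul_tmul']
  simp

theorem powConv_eq_one_ofConv (n : ℕ) (hp : (toConv (AlgHom.id R A)) ^ n = 1) :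
    SGA3b.powConv R A n = (1 : WithConv (A →ₐ[R] A)).ofConv := by
  unfold SGA3b.powConv
  rw [hp]

theorem toConv_id_pow_bc (n : ℕ) (hp : (toConv (AlgHom.id R A)) ^ n = 1) :
    (toConv (AlgHom.id R' (R' ⊗[R] A))) ^ n = 1 := by
  apply WithConv.ofConv_injective
  apply AlgHom.toLinearMap_injective
  apply TensorProduct.AlgebraTensorModule.ext
  intro s a
  show SGA3b.powConv R' (R' ⊗[R] A) n (s ⊗ₜ[R] a) =
    (1 : WithConv (R' ⊗[R] A →ₐ[R'] R' ⊗[R] A)).ofConv (s ⊗ₜ[R] a)
  rw [powConv_baseChange, convOne_bc_tmul, powConv_eq_one_ofConv R A n hp]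

/-- **Deligne's theorem**: a commutative finite locally free group scheme of constant rank `n`
is killed by `n`. -/
theorem deligne_of_rankAtStalk [Coalgebra.IsCocomm R A] [Module.Finite R A]
    [Module.Projective R A] (n : ℕ) (hrk : ∀ q : PrimeSpectrum R, Module.rankAtStalk A q = n) :
    (toConv (AlgHom.id R A)) ^ n = 1 := by
  classical
  apply WithConv.ofConv_injective
  apply AlgHom.ext
  intro a
  rw [← sub_eq_zero]
  refine Module.eq_zero_of_localization_maximal
    (fun P _ => Localization.AtPrime P ⊗[R] A)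
    (fun P _ => TensorProduct.mk R (Localization.AtPrime P) A 1) _ ?_
  intro P hP
  have hfree : Module.Free (Localization.AtPrime P) (Localization.AtPrime P ⊗[R] A) :=
    Module.free_of_flat_of_isLocalRing
  have hcard : Fintype.card (Module.Free.ChooseBasisIndex (Localization.AtPrime P)
      (Localization.AtPrime P ⊗[R] A)) = n := by
    rw [← Module.finrank_eq_card_chooseBasisIndex,
      ← Module.rankAtStalk_eq_finrank_tensorProduct (R := R) (M := A) ⟨P, hP.isPrime⟩]
    exact hrk _
  have hD := deligne_algHom (Localization.AtPrime P) (Localization.AtPrime P ⊗[R] A)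
    (Module.Free.chooseBasis (Localization.AtPrime P) (Localization.AtPrime P ⊗[R] A))
  rw [hcard] at hD
  have h1 : SGA3b.powConv (Localization.AtPrime P) (Localization.AtPrime P ⊗[R] A) n
      ((1 : Localization.AtPrime P) ⊗ₜ[R] a) = (1 : Localization.AtPrime P) ⊗ₜ[R] SGA3b.powConv R A n a :=
    powConv_baseChange R (Localization.AtPrime P) A n 1 a
  rw [powConv_eq_one_ofConv (Localization.AtPrime P) (Localization.AtPrime P ⊗[R] A) n hD,
    convOne_bc_tmul] at h1
  show (1 : Localization.AtPrime P) ⊗ₜ[R]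
    (((toConv (AlgHom.id R A)) ^ n).ofConv a - (1 : WithConv (A →ₐ[R] A)).ofConv a) = 0
  rw [TensorProduct.tmul_sub, h1]
  exact sub_self _

end BC

section Char
variable {R : Type u} [CommRing R] (R' : Type u) [CommRing R'] [Algebra R R']

/-- base change of the character `χ` -/
noncomputable def chiBC {p : ℕ} (χ : (ZMod p)ˣ →* Rˣ) : (ZMod p)ˣ →* R'ˣ :=
  (Units.map (algebraMap R R').toMonoidHom).comp χ

theorem chiBC_apply {p : ℕ} (χ : (ZMod p)ˣ →* Rˣ) (m : (ZMod p)ˣ) :
    ((chiBC R' χ m : R'ˣ) : R') = algebraMap R R' ((χ m : Rˣ) : R) := rfl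

theorem hu_bc {p : ℕ} (u : R) (hu : u * ((p - 1 : ℕ) : R) = 1) :
    algebraMap R R' u * ((p - 1 : ℕ) : R') = 1 := by
  rw [← map_natCast (algebraMap R R'), ← map_mul, hu, map_one]

theorem hchi_bc {p : ℕ} (χ : (ZMod p)ˣ →* Rˣ)
    (hχ : ∀ m : (ZMod p)ˣ, m ≠ 1 → IsUnit ((χ m : R) - 1)) :
    ∀ m : (ZMod p)ˣ, m ≠ 1 → IsUnit ((chiBC R' χ m : R') - 1) := by
  intro m hm
  have := (hχ m hm).map (algebraMap R R')
  rwa [map_sub, map_one] at this

theorem hchip_bc {p : ℕ} (χ : (ZMod p)ˣ →* Rˣ)
    (hχp : ∀ m : (ZMod p)ˣ, ((χ m : Rˣ) : R) - (((m : ZMod p).val : ℕ) : R) ∈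
      Ideal.span ({(p : R)} : Set R)) :
    ∀ m : (ZMod p)ˣ, ((chiBC R' χ m : R'ˣ) : R') - (((m : ZMod p).val : ℕ) : R') ∈
      Ideal.span ({(p : R')} : Set R') := by
  intro m
  obtain ⟨c, hc⟩ := Ideal.mem_span_singleton'.mp (hχp m)
  rw [Ideal.mem_span_singleton']
  refine ⟨algebraMap R R' c, ?_⟩
  rw [chiBC_apply, ← map_natCast (algebraMap R R') ((m : ZMod p).val), ← map_sub, ← hc, map_mul,
    map_natCast]

end Char

section BC2
variable (R : Type u) [CommRing R] (R' : Type u) [CommRing R'] [Algebra R R']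
  (A : Type u) [CommRing A] [HopfAlgebra R A]

theorem powConv_bc_toLinearMap (n : ℕ) :
    (SGA3b.powConv R' (R' ⊗[R] A) n).toLinearMap =
      (SGA3b.powConv R A n).toLinearMap.baseChange R' := by
  apply TensorProduct.AlgebraTensorModule.ext
  intro s a
  show SGA3b.powConv R' (R' ⊗[R] A) n (s ⊗ₜ[R] a) = _
  rw [powConv_baseChange, LinearMap.baseChange_tmul]
  rfl

theorem proj_bc (p : ℕ) [NeZero p] (u : R) (χ : (ZMod p)ˣ →* Rˣ) (i : ℕ) :
    OortTate.proj R' (R' ⊗[R] A) p (algebraMap R R' u) (chiBC R' χ) i =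
      (OortTate.proj R A p u χ i).baseChange R' := by
  apply TensorProduct.AlgebraTensorModule.ext
  intro s a
  unfold OortTate.proj
  rw [LinearMap.baseChange_tmul]
  simp only [LinearMap.smul_apply, LinearMap.sum_apply, powConv_bc_toLinearMap,
    LinearMap.baseChange_tmul, chiBC_apply, TensorProduct.tmul_smul, TensorProduct.tmul_sum,
    algebraMap_smul, ← map_pow]

/-- the projector onto the augmentation ideal -/
noncomputable def augProj : A →ₗ[R] A :=
  LinearMap.id - Algebra.linearMap R A ∘ₗ (Bialgebra.counitAlgHom R A).toLinearMap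

theorem augProj_apply (a : A) :
    augProj R A a = a - algebraMap R A (Bialgebra.counitAlgHom R A a) := rfl

theorem counit_augProj (a : A) : Bialgebra.counitAlgHom R A (augProj R A a) = 0 := by
  rw [augProj_apply, map_sub, AlgHom.commutes, Algebra.algebraMap_self_apply, sub_self]

theorem augProj_of_counit_eq_zero (a : A) (h : Bialgebra.counitAlgHom R A a = 0) :
    augProj R A a = a := by
  rw [augProj_apply, h, map_zero, sub_zero]

theorem range_augProj :
    LinearMap.range (augProj R A) = LinearMap.ker (Bialgebra.counitAlgHom R A).toLinearMap := by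
  apply le_antisymm
  · rintro _ ⟨a, rfl⟩
    exact counit_augProj R A a
  · intro a ha
    exact ⟨a, augProj_of_counit_eq_zero R A a ha⟩

theorem augProj_bc : augProj R' (R' ⊗[R] A) = (augProj R A).baseChange R' := by
  apply TensorProduct.AlgebraTensorModule.ext
  intro s a
  rw [LinearMap.baseChange_tmul, augProj_apply, augProj_apply, TensorProduct.tmul_sub]
  congr 1
  exact convOne_bc_tmul R R' A s a

/-- the projector onto the `χ^i`-eigenspace of the augmentation ideal -/
noncomputable def eigenProj (p : ℕ) [NeZero p] (u : R) (χ : (ZMod p)ˣ →* Rˣ) (i : ℕ) : A →ₗ[R] A :=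
  OortTate.proj R A p u χ i ∘ₗ augProj R A

theorem eigenProj_bc (p : ℕ) [NeZero p] (u : R) (χ : (ZMod p)ˣ →* Rˣ) (i : ℕ) :
    eigenProj R' (R' ⊗[R] A) p (algebraMap R R' u) (chiBC R' χ) i =
      (eigenProj R A p u χ i).baseChange R' := by
  unfold eigenProj
  rw [proj_bc, augProj_bc, LinearMap.baseChange_comp]

end BC2

section Summand
variable (R : Type u) [CommRing R] (A : Type u) [CommRing A] [HopfAlgebra R A]
  (p : ℕ) [Fact p.Prime] (u : R) (hu : u * ((p - 1 : ℕ) : R) = 1) (χ : (ZMod p)ˣ →* Rˣ)
  (hp : (toConv (AlgHom.id R A)) ^ p = 1)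

open Groth.Agent.Helper27.OT468

include hu hp in
theorem range_eigenProj (i : ℕ) :
    LinearMap.range (eigenProj R A p u χ i) = OortTate.eigenAug R A p χ i := by
  rw [eigenAug_eq_map p hp u hu χ i, ← range_augProj, eigenProj, LinearMap.range_comp]

include hu hp in
theorem eigenProj_mem (i : ℕ) (a : A) : eigenProj R A p u χ i a ∈ OortTate.eigenAug R A p χ i := by
  rw [← range_eigenProj R A p u hu χ hp i]
  exact ⟨a, rfl⟩

include hu hp in
theorem eigenProj_apply_of_mem (i : ℕ) (f : A) (hf : f ∈ OortTate.eigenAug R A p χ i) :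
    eigenProj R A p u χ i f = f := by
  have h := (mem_eigenAug_iff p hp χ i f).mp hf
  show OortTate.proj R A p u χ i (augProj R A f) = f
  rw [augProj_of_counit_eq_zero R A f h.1]
  exact proj_apply_of_eigen p hp u hu χ i f h.2

/-- the retraction of `A` onto the eigenspace -/
noncomputable def eigenRetr (i : ℕ) : A →ₗ[R] OortTate.eigenAug R A p χ i :=
  (eigenProj R A p u χ i).codRestrict (OortTate.eigenAug R A p χ i)
    (eigenProj_mem R A p u hu χ hp i)

theorem eigenRetr_comp_subtype (i : ℕ) :
    eigenRetr R A p u hu χ hp i ∘ₗ (OortTate.eigenAug R A p χ i).subtype = LinearMap.id := by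
  apply LinearMap.ext
  intro f
  apply Subtype.ext
  exact eigenProj_apply_of_mem R A p u hu χ hp i f f.2

theorem subtype_comp_eigenRetr (i : ℕ) :
    (OortTate.eigenAug R A p χ i).subtype ∘ₗ eigenRetr R A p u hu χ hp i =
      eigenProj R A p u χ i := by
  apply LinearMap.ext
  intro a
  rfl

include hu hp in
theorem eigenAug_finite [Module.Finite R A] (i : ℕ) :
    Module.Finite R (OortTate.eigenAug R A p χ i) := by
  refine Module.Finite.of_surjective (eigenRetr R A p u hu χ hp i) ?_
  intro f
  exact ⟨f, DFunLike.congr_fun (eigenRetr_comp_subtype R A p u hu χ hp i) f⟩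

include hu hp in
theorem eigenAug_projective [Module.Projective R A] (i : ℕ) :
    Module.Projective R (OortTate.eigenAug R A p χ i) :=
  Module.Projective.of_split (OortTate.eigenAug R A p χ i).subtype (eigenRetr R A p u hu χ hp i)
    (eigenRetr_comp_subtype R A p u hu χ hp i)

variable (R' : Type u) [CommRing R'] [Algebra R R']

include hu hp in
theorem eigenAug_bc (i : ℕ) :
    OortTate.eigenAug R' (R' ⊗[R] A) p (chiBC R' χ) i =
      (OortTate.eigenAug R A p χ i).baseChange R' := by
  rw [← range_eigenProj R' (R' ⊗[R] A) p (algebraMap R R' u) (hu_bc R' u hu) (chiBC R' χ)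
    (toConv_id_pow_bc R R' A p hp) i, eigenProj_bc, ← subtype_comp_eigenRetr R A p u hu χ hp i,
    LinearMap.baseChange_comp, Submodule.baseChange]
  apply LinearMap.range_comp_of_range_eq_top
  rw [LinearMap.range_eq_top]
  apply LinearMap.baseChange_surjective
  intro f
  exact ⟨f, DFunLike.congr_fun (eigenRetr_comp_subtype R A p u hu χ hp i) f⟩

include hu hp in
theorem subtype_baseChange_injective (i : ℕ) :
    Function.Injective ((OortTate.eigenAug R A p χ i).subtype.baseChange R') := by
  have h : (eigenRetr R A p u hu χ hp i).baseChange R' ∘ₗ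
      (OortTate.eigenAug R A p χ i).subtype.baseChange R' = LinearMap.id := by
    rw [← LinearMap.baseChange_comp, eigenRetr_comp_subtype, LinearMap.baseChange_id]
  exact Function.LeftInverse.injective (fun x => DFunLike.congr_fun h x)

include hu hp in
/-- fibre dimension of an eigenspace = dimension of the eigenspace of the fibre -/
theorem finrank_tensor_eigenAug (i : ℕ) :
    Module.finrank R' (R' ⊗[R] OortTate.eigenAug R A p χ i) =
      Module.finrank R' (OortTate.eigenAug R' (R' ⊗[R] A) p (chiBC R' χ) i) := by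
  rw [eigenAug_bc R A p u hu χ hp R' i]
  exact (LinearEquiv.ofInjective _ (subtype_baseChange_injective R A p u hu χ hp R' i)).finrank_eq

end Summand

end Groth.Agent.Helper6.OT
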