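import Mathlib
import Groth.Prelude.Def_W4c5ffgsreadingcourseOT
import Groth.Agent.Lib.Helper27.OT468d
import Groth.Agent.Lib.Helper6.OT2

/-!
# Oort–Tate: general lemmas on the eigenspaces, and the key lemma in the case of a nontrivial point
-/

set_option autoImplicit false
set_option linter.unusedSectionVars false
universe u

open scoped TensorProduct
open WithConv

namespace Groth.Agent.Helper6.OT

section General
variable {R : Type u} [CommRing R] {A : Type u} [CommRing A] [HopfAlgebra R A]
  (p : ℕ) [Fact p.Prime] (χ : (ZMod p)ˣ →* Rˣ)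

theorem mem_eigenAug_iff' (i : ℕ) (f : A) :
    f ∈ OortTate.eigenAug R A p χ i ↔ Bialgebra.counitAlgHom R A f = 0 ∧
      ∀ m : (ZMod p)ˣ, SGA3b.powConv R A (m : ZMod p).val f = (((χ m : Rˣ) : R) ^ i) • f := by
  unfold OortTate.eigenAug
  rw [Submodule.mem_inf, LinearMap.mem_ker, Submodule.mem_iInf]
  simp only [Module.End.mem_eigenspace_iff]
  rfl

theorem counit_of_mem_eigenAug {i : ℕ} {f : A} (hf : f ∈ OortTate.eigenAug R A p χ i) :
    Bialgebra.counitAlgHom R A f = 0 := ((mem_eigenAug_iff' p χ i f).mp hf).1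

theorem mul_mem_eigenAug {i j : ℕ} {f g : A} (hf : f ∈ OortTate.eigenAug R A p χ i)
    (hg : g ∈ OortTate.eigenAug R A p χ j) : f * g ∈ OortTate.eigenAug R A p χ (i + j) := by
  rw [mem_eigenAug_iff'] at hf hg ⊢
  refine ⟨by rw [map_mul, hf.1, zero_mul], fun m => ?_⟩
  rw [map_mul, hf.2 m, hg.2 m, smul_mul_smul_comm, pow_add]

theorem pow_mem_eigenAug {y : A} (hy : y ∈ OortTate.eigenAug R A p χ 1) :
    ∀ j : ℕ, 1 ≤ j → y ^ j ∈ OortTate.eigenAug R A p χ j := by
  intro j hj
  induction j with
  | zero => omega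
  | succ n ih =>
    rcases Nat.eq_zero_or_pos n with h | h
    · subst h
      simpa using hy
    · rw [pow_succ]
      exact mul_mem_eigenAug p χ (ih h) hy

theorem chi_pow_pred (m : (ZMod p)ˣ) : (((χ m : Rˣ) : R)) ^ (p - 1) = 1 := by
  rw [← Units.val_pow_eq_pow_val, ← map_pow, ZMod.units_pow_card_sub_one_eq_one, map_one,
    Units.val_one]

theorem eigenAug_add_pred (i : ℕ) :
    OortTate.eigenAug R A p χ (i + (p - 1)) = OortTate.eigenAug R A p χ i := by
  ext f
  rw [mem_eigenAug_iff', mem_eigenAug_iff']
  simp only [pow_add, chi_pow_pred, mul_one]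

theorem eigenAug_add_mul_pred (i k : ℕ) :
    OortTate.eigenAug R A p χ (i + k * (p - 1)) = OortTate.eigenAug R A p χ i := by
  induction k with
  | zero => simp
  | succ k ih => rw [Nat.succ_mul, ← add_assoc, eigenAug_add_pred, ih]

theorem eigenAug_mod (i : ℕ) :
    OortTate.eigenAug R A p χ i = OortTate.eigenAug R A p χ (i % (p - 1)) := by
  conv_lhs => rw [← Nat.mod_add_div i (p - 1), mul_comm, eigenAug_add_mul_pred]

theorem eigenAug_congr {i j : ℕ} (h : i % (p - 1) = j % (p - 1)) :
    OortTate.eigenAug R A p χ i = OortTate.eigenAug R A p χ j := by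
  rw [eigenAug_mod p χ i, eigenAug_mod p χ j, h]

end General

section CaseB
variable (K : Type u) [Field K] (H : Type u) [CommRing H] [HopfAlgebra K H] [Module.Finite K H]
  (p : ℕ) [Fact p.Prime] (hdim : Module.finrank K H = p) (χ : (ZMod p)ˣ →* Kˣ)
  (hp : (toConv (AlgHom.id K H)) ^ p = 1)
  (g : H →ₐ[K] K) (hg : g ≠ Bialgebra.counitAlgHom K H)

open Groth.Agent.Helper27.OT468

theorem convOne_eq_counit :
    (1 : WithConv (H →ₐ[K] K)) = toConv (Bialgebra.counitAlgHom K H) := by
  rw [AlgHom.convOne_def]
  congr 1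

include hp in
theorem toConv_pow_prime_eq_one : (toConv g : WithConv (H →ₐ[K] K)) ^ p = 1 := by
  have h := comp_convPow g (toConv (AlgHom.id K H)) p
  rw [hp] at h
  have h2 : (toConv (g.comp (toConv (AlgHom.id K H)).ofConv) : WithConv (H →ₐ[K] K)) = toConv g := by
    rw [WithConv.ofConv_toConv, AlgHom.comp_id]
  rw [h2] at h
  apply WithConv.ofConv_injective
  rw [← h]
  apply AlgHom.ext
  intro a
  show g (algebraMap K H (Coalgebra.counit a)) = algebraMap K K (Coalgebra.counit a)
  rw [AlgHom.commutes]

theorem comp_powConv_pow (j n : ℕ) :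
    ((toConv g : WithConv (H →ₐ[K] K)) ^ j).ofConv.comp (SGA3b.powConv K H n) =
      ((toConv g : WithConv (H →ₐ[K] K)) ^ (j * n)).ofConv := by
  have h := comp_convPow ((toConv g : WithConv (H →ₐ[K] K)) ^ j).ofConv (toConv (AlgHom.id K H)) n
  rw [WithConv.ofConv_toConv, AlgHom.comp_id, WithConv.toConv_ofConv, ← pow_mul] at h
  exact h

include hg in
theorem toConv_ne_one : (toConv g : WithConv (H →ₐ[K] K)) ≠ 1 := by
  rw [convOne_eq_counit]
  intro h
  exact hg (WithConv.toConv_injective h)

include hp hg in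
theorem orderOf_toConv : orderOf (toConv g : WithConv (H →ₐ[K] K)) = p :=
  orderOf_eq_prime (toConv_pow_prime_eq_one K H p hp g) (toConv_ne_one K H g hg)

/-- the powers of the point `g`, indexed by `ZMod p` -/
noncomputable def gpow (j : ZMod p) : H →ₐ[K] K := ((toConv g : WithConv (H →ₐ[K] K)) ^ j.val).ofConv

include hp hg in
theorem gpow_injective : Function.Injective (gpow K H p g) := by
  intro j j' h
  have h1 : (toConv g : WithConv (H →ₐ[K] K)) ^ j.val = (toConv g) ^ j'.val :=
    WithConv.ofConv_injective h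
  have h2 := pow_injOn_Iio_orderOf (x := (toConv g : WithConv (H →ₐ[K] K)))
    (by rw [Set.mem_Iio, orderOf_toConv K H p hp g hg]; exact ZMod.val_lt j)
    (by rw [Set.mem_Iio, orderOf_toConv K H p hp g hg]; exact ZMod.val_lt j') h1
  exact ZMod.val_injective p h2

theorem gpow_zero : gpow K H p g 0 = Bialgebra.counitAlgHom K H := by
  unfold gpow
  rw [ZMod.val_zero, pow_zero, convOne_eq_counit, WithConv.ofConv_toConv]

include hp hg in
theorem gpow_one : gpow K H p g 1 = g := by
  have : Fact (1 < p) := ⟨(Fact.out : p.Prime).one_lt⟩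
  unfold gpow
  rw [ZMod.val_one, pow_one, WithConv.ofConv_toConv]

include hp hg in
theorem gpow_comp_powConv (j : ZMod p) (m : ZMod p) :
    (gpow K H p g j).comp (SGA3b.powConv K H m.val) = gpow K H p g (j * m) := by
  unfold gpow
  rw [comp_powConv_pow, ZMod.val_mul]
  congr 1
  have h := pow_mod_orderOf (toConv g : WithConv (H →ₐ[K] K)) (j.val * m.val)
  rw [orderOf_toConv K H p hp g hg] at h
  exact h.symm

/-- evaluation at the powers of `g` -/
noncomputable def evalPts : H →ₗ[K] (ZMod p → K) :=
  LinearMap.pi (fun j => (gpow K H p g j).toLinearMap)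

theorem evalPts_apply (a : H) (j : ZMod p) : evalPts K H p g a j = gpow K H p g j a := rfl

include hdim hp hg in
theorem evalPts_injective : Function.Injective (evalPts K H p g) := by
  have li : LinearIndependent K (fun j : ZMod p => (gpow K H p g j).toLinearMap) :=
    (linearIndependent_algHom_toLinearMap K H K).comp (gpow K H p g)
      (gpow_injective K H p hp g hg)
  have hcard : Fintype.card (ZMod p) = Module.finrank K (H →ₗ[K] K) := by
    rw [ZMod.card]
    exact (hdim.symm.trans Subspace.dual_finrank_eq.symm)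
  have hspan := li.span_eq_top_of_card_eq_finrank' hcard
  rw [injective_iff_map_eq_zero]
  intro a ha
  rw [← Module.forall_dual_apply_eq_zero_iff K a]
  intro φ
  have hle : Submodule.span K (Set.range (fun j : ZMod p => (gpow K H p g j).toLinearMap)) ≤
      LinearMap.ker (LinearMap.applyₗ (R := K) (M := H) (M₂ := K) a) := by
    rw [Submodule.span_le]
    rintro _ ⟨j, rfl⟩
    show gpow K H p g j a = 0
    exact congrFun ha j
  rw [hspan] at hle
  exact hle (Submodule.mem_top (x := φ))

include hdim hp hg in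
theorem evalPts_surjective : Function.Surjective (evalPts K H p g) := by
  have h : Module.finrank K H = Module.finrank K (ZMod p → K) := by
    rw [Module.finrank_fintype_fun_eq_card, ZMod.card, hdim]
  exact (LinearMap.injective_iff_surjective_of_finrank_eq_finrank h).mp
    (evalPts_injective K H p hdim hp g hg)

/-- the values of the would-be eigenfunction -/
noncomputable def chiFun : ZMod p → K :=
  fun j => if h : j = 0 then 0 else ((χ (Units.mk0 j h) : Kˣ) : K)

theorem chiFun_mul (j : ZMod p) (m : (ZMod p)ˣ) :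
    chiFun K p χ (j * (m : ZMod p)) = ((χ m : Kˣ) : K) * chiFun K p χ j := by
  unfold chiFun
  by_cases hj : j = 0
  · subst hj
    simp
  · have hjm : j * (m : ZMod p) ≠ 0 := mul_ne_zero hj m.ne_zero
    rw [dif_neg hj, dif_neg hjm]
    have : Units.mk0 (j * (m : ZMod p)) hjm = Units.mk0 j hj * m := by
      apply Units.ext
      rfl
    rw [this, map_mul, Units.val_mul, mul_comm]

include hdim hp hg in
/-- **Key lemma, case of a nontrivial rational point**: there is `y` in the `χ`-eigenspace with
`y ^ (p - 1) ≠ 0`. -/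
theorem exists_eigen_of_point :
    ∃ y ∈ OortTate.eigenAug K H p χ 1, y ^ (p - 1) ≠ 0 := by
  obtain ⟨f, hf⟩ := evalPts_surjective K H p hdim hp g hg (chiFun K p χ)
  have hf' : ∀ j, gpow K H p g j f = chiFun K p χ j := fun j => congrFun hf j
  refine ⟨f, ?_, ?_⟩
  · rw [mem_eigenAug_iff']
    constructor
    · rw [← gpow_zero K H p g, hf']
      simp [chiFun]
    · intro m
      apply evalPts_injective K H p hdim hp g hg
      funext j
      rw [evalPts_apply, evalPts_apply, map_smul, smul_eq_mul, pow_one, hf',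
        ← AlgHom.comp_apply, gpow_comp_powConv K H p hp g hg, hf', chiFun_mul]
  · intro h0
    have h1 : gpow K H p g 1 (f ^ (p - 1)) = 1 := by
      rw [map_pow, hf']
      unfold chiFun
      rw [dif_neg one_ne_zero]
      have : Units.mk0 (1 : ZMod p) one_ne_zero = 1 := by
        apply Units.ext
        rfl
      rw [this, map_one, Units.val_one, one_pow]
    rw [h0, map_zero] at h1
    exact zero_ne_one h1

end CaseB

end Groth.Agent.Helper6.OT
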