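import Mathlib
import Groth.Prelude.Def_W4c5ffgsreadingcourseOT
import Groth.Agent.Lib.Helper27.OT468d
import Groth.Agent.Lib.Helper6.OT3

/-!
# Oort–Tate: tangent vectors, invariant derivations, and the key lemma in the local case
-/

set_option autoImplicit false
set_option linter.unusedSectionVars false
universe u

open scoped TensorProduct
open WithConv

namespace Groth.Agent.Helper6.OT

section Tangent
variable {R : Type u} [CommRing R] {A : Type u} [CommRing A] [HopfAlgebra R A]

/-- right slice by a functional: `x ⊗ y ↦ φ y • x` -/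
noncomputable def slice (φ : A →ₗ[R] R) : A ⊗[R] A →ₗ[R] A :=
  (TensorProduct.rid R A).toLinearMap ∘ₗ LinearMap.lTensor A φ

@[simp] theorem slice_tmul (φ : A →ₗ[R] R) (x y : A) : slice φ (x ⊗ₜ[R] y) = φ y • x := by
  simp [slice]

/-- left slice by a functional: `x ⊗ y ↦ φ x • y` -/
noncomputable def sliceL (φ : A →ₗ[R] R) : A ⊗[R] A →ₗ[R] A :=
  (TensorProduct.lid R A).toLinearMap ∘ₗ LinearMap.rTensor A φ

@[simp] theorem sliceL_tmul (φ : A →ₗ[R] R) (x y : A) : sliceL φ (x ⊗ₜ[R] y) = φ x • y := by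
  simp [sliceL]

theorem slice_counit_comul (a : A) :
    slice (Coalgebra.counit (R := R) (A := A)) (Coalgebra.comul (R := R) a) = a := by
  unfold slice
  rw [LinearMap.comp_apply, Coalgebra.lTensor_counit_comul]
  simp

theorem sliceL_counit_comul (a : A) :
    sliceL (Coalgebra.counit (R := R) (A := A)) (Coalgebra.comul (R := R) a) = a := by
  unfold sliceL
  rw [LinearMap.comp_apply, Coalgebra.rTensor_counit_comul]
  simp

theorem sum_smul_counit {ι : Type*} {a : A} (𝓡 : Coalgebra.Repr R a ι) :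
    ∑ j ∈ 𝓡.index, Coalgebra.counit (R := R) (𝓡.right j) • 𝓡.left j = a := by
  have h := congrArg (TensorProduct.rid R A) (Coalgebra.sum_tmul_counit_eq 𝓡)
  rw [map_sum] at h
  simp only [TensorProduct.rid_tmul, one_smul] at h
  exact h

variable (τ : A →ₗ[R] R)
  (hτ : ∀ a b : A, τ (a * b) =
    Coalgebra.counit (R := R) a * τ b + τ a * Coalgebra.counit (R := R) b)

include hτ in
theorem tau_one : τ 1 = 0 := by
  have h := hτ 1 1
  rw [mul_one, Bialgebra.counit_one, one_mul, mul_one] at h
  exact left_eq_add.mp h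

include hτ in
theorem tau_algebraMap (r : R) : τ (algebraMap R A r) = 0 := by
  rw [Algebra.algebraMap_eq_smul_one, map_smul, tau_one τ hτ, smul_zero]

include hτ in
theorem slice_mul (z w : A ⊗[R] A) :
    slice τ (z * w) = slice τ z * slice (Coalgebra.counit (R := R) (A := A)) w +
      slice (Coalgebra.counit (R := R) (A := A)) z * slice τ w := by
  induction z using TensorProduct.induction_on with
  | zero => simp
  | add z z' hz hz' => rw [add_mul, map_add, hz, hz', map_add, map_add]; ring
  | tmul x y =>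
    induction w using TensorProduct.induction_on with
    | zero => simp
    | add w w' hw hw' => rw [mul_add, map_add, hw, hw', map_add, map_add]; ring
    | tmul x' y' =>
      rw [Algebra.TensorProduct.tmul_mul_tmul, slice_tmul, slice_tmul, slice_tmul, slice_tmul,
        slice_tmul, hτ, smul_mul_smul_comm, smul_mul_smul_comm, ← add_smul]
      congr 1
      ring

/-- the invariant derivation attached to a tangent vector -/
noncomputable def invDer : A →ₗ[R] A := slice τ ∘ₗ Coalgebra.comul

theorem invDer_apply (a : A) : invDer τ a = slice τ (Coalgebra.comul (R := R) a) := rfl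

include hτ in
theorem invDer_mul (a b : A) : invDer τ (a * b) = invDer τ a * b + a * invDer τ b := by
  rw [invDer_apply, Bialgebra.comul_mul, slice_mul τ hτ, slice_counit_comul, slice_counit_comul]
  rfl

theorem counit_slice (z : A ⊗[R] A) :
    Coalgebra.counit (R := R) (slice τ z) =
      τ (sliceL (Coalgebra.counit (R := R) (A := A)) z) := by
  induction z using TensorProduct.induction_on with
  | zero => simp
  | add z z' hz hz' => simp only [map_add, hz, hz']
  | tmul x y => simp [mul_comm]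

theorem counit_invDer (a : A) : Coalgebra.counit (R := R) (invDer τ a) = τ a := by
  rw [invDer_apply, counit_slice, sliceL_counit_comul]

include hτ in
theorem invDer_mem_pow (n : ℕ) :
    ∀ z ∈ (RingHom.ker (Bialgebra.counitAlgHom R A)) ^ (n + 1),
      invDer τ z ∈ (RingHom.ker (Bialgebra.counitAlgHom R A)) ^ n := by
  induction n with
  | zero =>
    intro z _
    rw [pow_zero, Ideal.one_eq_top]
    exact Submodule.mem_top
  | succ n ih =>
    intro z hz
    rw [pow_succ] at hz
    refine Submodule.smul_induction_on hz ?_ ?_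
    · intro r hr b hb
      rw [smul_eq_mul, invDer_mul τ hτ]
      refine Ideal.add_mem _ ?_ ?_
      · rw [pow_succ]
        exact Ideal.mul_mem_mul (ih r hr) hb
      · exact Ideal.mul_mem_right _ _ hr
    · intro x y hx hy
      rw [map_add]
      exact Ideal.add_mem _ hx hy

include hτ in
theorem invDer_pow_mem_pow (j n : ℕ) :
    ∀ z ∈ (RingHom.ker (Bialgebra.counitAlgHom R A)) ^ (n + j),
      (invDer τ ^ j) z ∈ (RingHom.ker (Bialgebra.counitAlgHom R A)) ^ n := by
  induction j with
  | zero =>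
    intro z hz
    simpa using hz
  | succ j ih =>
    intro z hz
    rw [pow_succ, Module.End.mul_apply]
    exact ih _ (invDer_mem_pow τ hτ (n + j) z hz)

variable (y : A) (hy0 : Coalgebra.counit (R := R) y = 0) (hy1 : τ y = 1)

include hτ hy0 hy1 in
theorem invDer_pow_succ_sub (n : ℕ) :
    invDer τ (y ^ (n + 1)) - (n + 1) • y ^ n ∈
      (RingHom.ker (Bialgebra.counitAlgHom R A)) ^ (n + 1) := by
  have hyI : y ∈ RingHom.ker (Bialgebra.counitAlgHom R A) := hy0
  have hs : invDer τ y - 1 ∈ RingHom.ker (Bialgebra.counitAlgHom R A) := by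
    rw [RingHom.mem_ker, map_sub, map_one]
    show Coalgebra.counit (R := R) (invDer τ y) - 1 = 0
    rw [counit_invDer, hy1, sub_self]
  induction n with
  | zero =>
    simpa using hs
  | succ n ih =>
    have key : invDer τ (y ^ (n + 1 + 1)) - (n + 1 + 1) • y ^ (n + 1) =
        (invDer τ (y ^ (n + 1)) - (n + 1) • y ^ n) * y + y ^ (n + 1) * (invDer τ y - 1) := by
      rw [pow_succ y (n + 1), invDer_mul τ hτ]
      simp only [nsmul_eq_mul]
      push_cast
      ring
    rw [key, pow_succ (RingHom.ker (Bialgebra.counitAlgHom R A)) (n + 1)]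
    exact Ideal.add_mem _ (Ideal.mul_mem_mul ih hyI)
      (Ideal.mul_mem_mul (Ideal.pow_mem_pow hyI (n + 1)) hs)

/-- the coefficients `(n+1)(n+2)⋯(n+j)` -/
def cfac (n : ℕ) : ℕ → ℕ
  | 0 => 1
  | j + 1 => (n + j + 1) * cfac n j

theorem cfac_zero_left (j : ℕ) : cfac 0 j = j.factorial := by
  induction j with
  | zero => rfl
  | succ j ih =>
    show (0 + j + 1) * cfac 0 j = (j + 1).factorial
    rw [ih, Nat.factorial_succ, zero_add]

include hτ hy0 hy1 in
theorem invDer_pow_pow_sub (j n : ℕ) :
    (invDer τ ^ j) (y ^ (n + j)) - cfac n j • y ^ n ∈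
      (RingHom.ker (Bialgebra.counitAlgHom R A)) ^ (n + 1) := by
  induction j with
  | zero =>
    simp [cfac]
  | succ j ih =>
    have hr := invDer_pow_succ_sub τ hτ y hy0 hy1 (n + j)
    have e1 : (invDer τ ^ (j + 1)) (y ^ (n + (j + 1))) =
        (invDer τ ^ j) (invDer τ (y ^ (n + j + 1))) := by
      rw [pow_succ, Module.End.mul_apply]
      rfl
    have e2 : invDer τ (y ^ (n + j + 1)) =
        (invDer τ (y ^ (n + j + 1)) - (n + j + 1) • y ^ (n + j)) + (n + j + 1) • y ^ (n + j) := by
      rw [sub_add_cancel]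
    have e3 : (invDer τ ^ (j + 1)) (y ^ (n + (j + 1))) - cfac n (j + 1) • y ^ n =
        (invDer τ ^ j) (invDer τ (y ^ (n + j + 1)) - (n + j + 1) • y ^ (n + j)) +
          (n + j + 1) • ((invDer τ ^ j) (y ^ (n + j)) - cfac n j • y ^ n) := by
      rw [e1]
      conv_lhs => rw [e2]
      rw [map_add, map_nsmul]
      show _ - ((n + j + 1) * cfac n j) • y ^ n = _
      rw [mul_smul, smul_sub]
      abel
    rw [e3]
    refine Ideal.add_mem _ (invDer_pow_mem_pow τ hτ j (n + 1) _ ?_)
      (Submodule.smul_of_tower_mem _ _ ih)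
    rw [show n + 1 + j = n + j + 1 by omega]
    exact hr

include hτ hy0 hy1 in
/-- `ε(D^j(y^j)) = j!` for a tangent vector `τ` with `τ(y) = 1` -/
theorem counit_invDer_pow_pow (j : ℕ) :
    Coalgebra.counit (R := R) ((invDer τ ^ j) (y ^ j)) = (j.factorial : R) := by
  have h := invDer_pow_pow_sub τ hτ y hy0 hy1 j 0
  rw [zero_add, zero_add, pow_one, pow_zero, cfac_zero_left, RingHom.mem_ker, map_sub,
    sub_eq_zero] at h
  rw [show Coalgebra.counit (R := R) ((invDer τ ^ j) (y ^ j)) =
    Bialgebra.counitAlgHom R A ((invDer τ ^ j) (y ^ j)) from rfl, h, map_nsmul, map_one,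
    nsmul_eq_mul, mul_one]

include hτ in
theorem powConv_succ_apply {ι : Type*} (n : ℕ) (a : A) (𝓡 : Coalgebra.Repr R a ι) :
    SGA3b.powConv R A (n + 1) a =
      ∑ j ∈ 𝓡.index, SGA3b.powConv R A n (𝓡.left j) * 𝓡.right j := by
  unfold SGA3b.powConv
  rw [pow_succ, AlgHom.convMul_apply, ← 𝓡.eq, map_sum]
  refine Finset.sum_congr rfl fun j _ => ?_
  rw [Algebra.TensorProduct.lift_tmul]
  rfl

include hτ in
theorem tau_powConv (n : ℕ) : ∀ a : A, τ (SGA3b.powConv R A n a) = (n : R) * τ a := by
  induction n with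
  | zero =>
    intro a
    have h : SGA3b.powConv R A 0 a = algebraMap R A (Coalgebra.counit (R := R) a) := by
      unfold SGA3b.powConv
      rw [pow_zero]
      rfl
    rw [h, tau_algebraMap τ hτ, Nat.cast_zero, zero_mul]
  | succ n ih =>
    intro a
    rw [powConv_succ_apply τ hτ n a (Coalgebra.Repr.arbitrary R a), map_sum]
    have h1 : ∀ j, τ (SGA3b.powConv R A n ((Coalgebra.Repr.arbitrary R a).left j) *
        (Coalgebra.Repr.arbitrary R a).right j) =
        τ (Coalgebra.counit (R := R) ((Coalgebra.Repr.arbitrary R a).left j) •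
          (Coalgebra.Repr.arbitrary R a).right j) +
        (n : R) * τ (Coalgebra.counit (R := R) ((Coalgebra.Repr.arbitrary R a).right j) •
          (Coalgebra.Repr.arbitrary R a).left j) := by
      intro j
      rw [hτ, ih, map_smul, map_smul, smul_eq_mul, smul_eq_mul]
      have h2 : Coalgebra.counit (R := R)
          (SGA3b.powConv R A n ((Coalgebra.Repr.arbitrary R a).left j)) =
          Coalgebra.counit (R := R) ((Coalgebra.Repr.arbitrary R a).left j) :=
        DFunLike.congr_fun (Groth.Agent.Helper27.OT468.counit_comp_powConv (R := R) (A := A) n) _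
      rw [h2]
      ring
    rw [Finset.sum_congr rfl (fun j _ => h1 j), Finset.sum_add_distrib, ← Finset.mul_sum,
      ← map_sum, ← map_sum, Coalgebra.sum_counit_smul, sum_smul_counit]
    push_cast
    ring

end Tangent

section Local
variable (K : Type u) [Field K] [IsAlgClosed K] (H : Type u) [CommRing H] [HopfAlgebra K H]
  [Module.Finite K H] (p : ℕ) [Fact p.Prime] (hdim : Module.finrank K H = p)
  (hpt : ∀ g : H →ₐ[K] K, g = Bialgebra.counitAlgHom K H)

include hpt in
theorem maximal_eq_ker_counit (𝔫 : Ideal H) (h𝔫 : 𝔫.IsMaximal) :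
    𝔫 = RingHom.ker (Bialgebra.counitAlgHom K H) := by
  have : IsDomain (H ⧸ 𝔫) := (Ideal.Quotient.isDomain_iff_prime 𝔫).mpr h𝔫.isPrime
  have : Module.Finite K (H ⧸ 𝔫) :=
    Module.Finite.of_surjective (Ideal.Quotient.mkₐ K 𝔫).toLinearMap
      (Ideal.Quotient.mkₐ_surjective K 𝔫)
  have : Algebra.IsIntegral K (H ⧸ 𝔫) := Algebra.IsIntegral.of_finite K (H ⧸ 𝔫)
  have hbij : Function.Bijective (algebraMap K (H ⧸ 𝔫)) :=
    IsAlgClosed.algebraMap_bijective_of_isIntegral
  let e : K ≃ₐ[K] (H ⧸ 𝔫) := AlgEquiv.ofBijective (Algebra.ofId K (H ⧸ 𝔫)) hbij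
  let g : H →ₐ[K] K := (e.symm : (H ⧸ 𝔫) →ₐ[K] K).comp (Ideal.Quotient.mkₐ K 𝔫)
  have hg := hpt g
  refine h𝔫.eq_of_le ?_ ?_
  · rw [Ne, Ideal.eq_top_iff_one, RingHom.mem_ker, map_one]
    exact one_ne_zero
  · intro a ha
    rw [RingHom.mem_ker, ← hg]
    show e.symm (Ideal.Quotient.mk 𝔫 a) = 0
    rw [Ideal.Quotient.eq_zero_iff_mem.mpr ha, map_zero]

include hdim hpt in
theorem exists_tangent :
    ∃ τ : H →ₗ[K] K, τ ≠ 0 ∧ ∀ a b : H, τ (a * b) =
      Coalgebra.counit (R := K) a * τ b + τ a * Coalgebra.counit (R := K) b := by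
  set I := RingHom.ker (Bialgebra.counitAlgHom K H) with hI
  have hjac : I ≤ Ideal.jacobson ⊥ := by
    apply le_sInf
    rintro M ⟨-, hM⟩
    rw [maximal_eq_ker_counit K H hpt M hM]
  have : IsNoetherianRing H := Algebra.FiniteType.isNoetherianRing K H
  have hIne : I ≠ ⊥ := by
    intro h0
    have hinj : Function.Injective (Bialgebra.counitAlgHom K H).toLinearMap :=
      (RingHom.injective_iff_ker_eq_bot (Bialgebra.counitAlgHom K H).toRingHom).mpr h0
    have h1 := LinearMap.finrank_le_finrank_of_injective hinj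
    rw [hdim, Module.finrank_self] at h1
    exact absurd h1 (not_le.mpr (Fact.out : p.Prime).one_lt)
  set P : Submodule K H := Submodule.span K {1} ⊔ (I * I).restrictScalars K with hP
  have hPne : P ≠ ⊤ := by
    intro htop
    apply hIne
    apply Submodule.eq_bot_of_le_smul_of_le_jacobson_bot I I (IsNoetherian.noetherian I) ?_ hjac
    intro x hx
    have hxP : x ∈ P := htop ▸ Submodule.mem_top
    obtain ⟨y, hy, z, hz, hyz⟩ := Submodule.mem_sup.mp hxP
    obtain ⟨c, rfl⟩ := Submodule.mem_span_singleton.mp hy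
    have hzI : z ∈ I * I := hz
    have hz0 : Bialgebra.counitAlgHom K H z = 0 := Ideal.mul_le_right hzI
    have hx0 : Bialgebra.counitAlgHom K H x = 0 := hx
    rw [← hyz, map_add, map_smul, map_one, hz0, add_zero, smul_eq_mul, mul_one] at hx0
    rw [← hyz, hx0, zero_smul, zero_add]
    exact hzI
  obtain ⟨τ, hτ0, hτP⟩ := Submodule.exists_le_ker_of_lt_top P (lt_top_iff_ne_top.mpr hPne)
  have hτ1 : τ 1 = 0 := hτP (Submodule.mem_sup_left (Submodule.mem_span_singleton_self 1))
  have hτII : ∀ a b : H, Coalgebra.counit (R := K) a = 0 → Coalgebra.counit (R := K) b = 0 →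
      τ (a * b) = 0 := by
    intro a b ha hb
    exact hτP (Submodule.mem_sup_right (Ideal.mul_mem_mul (I := I) (J := I) ha hb))
  have hτaug : ∀ a : H, τ (augProj K H a) = τ a := by
    intro a
    rw [augProj_apply, map_sub, Algebra.algebraMap_eq_smul_one, map_smul, hτ1, smul_zero,
      sub_zero]
  refine ⟨τ, hτ0, ?_⟩
  have L1 : ∀ a' b : H, Coalgebra.counit (R := K) a' = 0 →
      τ (a' * b) = τ a' * Coalgebra.counit (R := K) b := by
    intro a' b ha'
    have e : a' * b = Coalgebra.counit (R := K) b • a' + a' * augProj K H b := by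
      rw [augProj_apply, Algebra.algebraMap_eq_smul_one, mul_sub, mul_smul_comm, mul_one,
        Bialgebra.counitAlgHom_apply]
      abel
    rw [e, map_add, map_smul, hτII a' (augProj K H b) ha' (counit_augProj K H b), add_zero,
      smul_eq_mul, mul_comm]
  intro a b
  have e : a * b = Coalgebra.counit (R := K) a • b + augProj K H a * b := by
    rw [augProj_apply, Algebra.algebraMap_eq_smul_one, sub_mul, smul_mul_assoc, one_mul,
      Bialgebra.counitAlgHom_apply]
    abel
  rw [e, map_add, map_smul, L1 (augProj K H a) b (counit_augProj K H a), hτaug, smul_eq_mul]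

include hdim hpt in
/-- **Key lemma, local case**: there is `y` in the `χ`-eigenspace with `y ^ (p - 1) ≠ 0`. -/
theorem exists_eigen_of_local (u : K) (hu : u * ((p - 1 : ℕ) : K) = 1) (χ : (ZMod p)ˣ →* Kˣ)
    (hχp : ∀ m : (ZMod p)ˣ, ((χ m : Kˣ) : K) - (((m : ZMod p).val : ℕ) : K) ∈
      Ideal.span ({(p : K)} : Set K))
    (hp : (toConv (AlgHom.id K H)) ^ p = 1) :
    ∃ y ∈ OortTate.eigenAug K H p χ 1, y ^ (p - 1) ≠ 0 := by
  obtain ⟨τ, hτ0, hτ⟩ := exists_tangent K H p hdim hpt
  obtain ⟨x₀, hx₀⟩ : ∃ a, τ a ≠ 0 := by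
    by_contra h
    push Not at h
    exact hτ0 (LinearMap.ext h)
  have hpK : (p : K) = 0 := by
    have h1 := tau_powConv τ hτ p x₀
    rw [powConv_eq_one_ofConv K H p hp] at h1
    have h2 : τ ((1 : WithConv (H →ₐ[K] H)).ofConv x₀) = 0 := tau_algebraMap τ hτ _
    rw [h2] at h1
    exact (mul_eq_zero.mp h1.symm).resolve_right hx₀
  have : CharP K p := Groth.Agent.Helper23.VerschLib.charP_of_cast_eq_zero p K hpK
  have hχval : ∀ m : (ZMod p)ˣ, ((χ m : Kˣ) : K) = (((m : ZMod p).val : ℕ) : K) := by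
    intro m
    obtain ⟨c, hc⟩ := Ideal.mem_span_singleton'.mp (hχp m)
    rw [hpK, mul_zero] at hc
    exact sub_eq_zero.mp hc.symm
  set x : H := (τ x₀)⁻¹ • augProj K H x₀ with hx
  have hxε : Bialgebra.counitAlgHom K H x = 0 := by
    rw [hx, map_smul, counit_augProj, smul_zero]
  have hxτ : τ x = 1 := by
    rw [hx, map_smul, augProj_apply, map_sub, tau_algebraMap τ hτ, sub_zero, smul_eq_mul,
      inv_mul_cancel₀ hx₀]
  set y : H := OortTate.proj K H p u χ 1 x with hy
  have hymem : y ∈ OortTate.eigenAug K H p χ 1 := by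
    rw [Groth.Agent.Helper27.OT468.eigenAug_eq_map p hp u hu χ 1]
    exact Submodule.mem_map_of_mem hxε
  have hyτ : τ y = 1 := by
    rw [hy]
    unfold OortTate.proj
    rw [LinearMap.smul_apply, LinearMap.sum_apply, map_smul, map_sum]
    have h1 : ∀ m : (ZMod p)ˣ, τ ((((χ m⁻¹ : Kˣ) : K) ^ 1 •
        (SGA3b.powConv K H (m : ZMod p).val).toLinearMap) x) = 1 := by
      intro m
      rw [LinearMap.smul_apply, map_smul, pow_one]
      show ((χ m⁻¹ : Kˣ) : K) • τ (SGA3b.powConv K H (m : ZMod p).val x) = 1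
      rw [tau_powConv τ hτ, hxτ, mul_one, ← hχval m, smul_eq_mul, ← Units.val_mul, ← map_mul,
        inv_mul_cancel, map_one, Units.val_one]
    rw [Finset.sum_congr rfl (fun m _ => h1 m), Finset.sum_const, Finset.card_univ,
      ZMod.card_units, smul_eq_mul, nsmul_eq_mul, mul_one, hu]
  refine ⟨y, hymem, ?_⟩
  intro h0
  have h := counit_invDer_pow_pow τ hτ y (counit_of_mem_eigenAug p χ hymem) hyτ (p - 1)
  rw [h0, map_zero, map_zero] at h
  have hdvd : (p : ℕ) ∣ (p - 1).factorial := (CharP.cast_eq_zero_iff K p _).mp h.symm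
  rw [(Fact.out : p.Prime).dvd_factorial] at hdvd
  have := (Fact.out : p.Prime).one_lt
  omega

end Local

end Groth.Agent.Helper6.OT
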