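import Mathlib
import Groth.Prelude.Def_W4c5ffgsreadingcourseOT
import Groth.Agent.Lib.Helper27.OT468d
import Groth.Agent.Lib.Helper6.OT4

/-!
# Oort–Tate over a field: the eigenspaces of the augmentation ideal are lines, `I_1^t = I_t`.
-/

set_option autoImplicit false
set_option linter.unusedSectionVars false
universe u

open scoped TensorProduct
open WithConv

namespace Groth.Agent.Helper6.OT

open Groth.Agent.Helper27.OT468

section DimOne
variable (K : Type u) [Field K] (H : Type u) [CommRing H] [HopfAlgebra K H] [Module.Finite K H]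
  (p : ℕ) [Fact p.Prime] (hdim : Module.finrank K H = p)
  (u : K) (hu : u * ((p - 1 : ℕ) : K) = 1) (χ : (ZMod p)ˣ →* Kˣ)
  (hχ : ∀ m : (ZMod p)ˣ, m ≠ 1 → IsUnit ((χ m : K) - 1))
  (hp : (toConv (AlgHom.id K H)) ^ p = 1)
  (y : H) (hy : y ∈ OortTate.eigenAug K H p χ 1) (hy' : y ^ (p - 1) ≠ 0)

/-- the exponent attached to an index: `0 ↦ p - 1`, `i ↦ i` otherwise -/
def expo (i : Fin (p - 1)) : ℕ := if (i : ℕ) = 0 then p - 1 else i

theorem expo_pos (i : Fin (p - 1)) : 1 ≤ expo p i := by
  unfold expo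
  have := i.2
  split_ifs with h <;> omega

theorem expo_le (i : Fin (p - 1)) : expo p i ≤ p - 1 := by
  unfold expo
  have := i.2
  split_ifs with h <;> omega

theorem expo_mod (i : Fin (p - 1)) : expo p i % (p - 1) = (i : ℕ) % (p - 1) := by
  unfold expo
  split_ifs with h
  · rw [h, Nat.mod_self, Nat.zero_mod]
  · rfl

theorem expo_of_le (t : ℕ) (h1 : 1 ≤ t) (h2 : t ≤ p - 1) (ht : t % (p - 1) < p - 1) :
    expo p ⟨t % (p - 1), ht⟩ = t := by
  unfold expo
  rcases Nat.lt_or_ge t (p - 1) with h | h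
  · have : t % (p - 1) = t := Nat.mod_eq_of_lt h
    simp only [this]
    rw [if_neg (by omega)]
  · have h3 : t = p - 1 := le_antisymm h2 h
    have : t % (p - 1) = 0 := by rw [h3, Nat.mod_self]
    simp only [this]
    simp [h3]

include hy' in
theorem pow_expo_ne_zero (i : Fin (p - 1)) : y ^ expo p i ≠ 0 := by
  intro h
  apply hy'
  have h2 : p - 1 = expo p i + (p - 1 - expo p i) := by
    have := expo_le p i
    omega
  rw [h2, pow_add, h, zero_mul]

include hy in
theorem pow_expo_mem (i : Fin (p - 1)) : y ^ expo p i ∈ OortTate.eigenAug K H p χ (i : ℕ) := by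
  rw [eigenAug_congr p χ (expo_mod p i).symm]
  exact pow_mem_eigenAug p χ hy _ (expo_pos p i)

include hdim in
theorem finrank_ker_counit :
    Module.finrank K (LinearMap.ker (Bialgebra.counitAlgHom K H).toLinearMap) = p - 1 := by
  have h := LinearMap.finrank_range_add_finrank_ker (Bialgebra.counitAlgHom K H).toLinearMap
  have hr : LinearMap.range (Bialgebra.counitAlgHom K H).toLinearMap = ⊤ := by
    rw [LinearMap.range_eq_top]
    intro c
    exact ⟨algebraMap K H c, by simp⟩
  rw [hr, finrank_top, Module.finrank_self, hdim] at h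
  omega

include hdim hu hχ hp hy hy' in
theorem eigenAug_eq_span_expo (i : Fin (p - 1)) :
    OortTate.eigenAug K H p χ (i : ℕ) = K ∙ (y ^ expo p i) := by
  classical
  obtain ⟨hind, hsup, hmap⟩ := main p K u hu χ hχ H hp
  have hcoi := coi_proj (A := H) p u hu χ hχ hp
  have hfix : ∀ (j : Fin (p - 1)) (g : H), g ∈ OortTate.eigenAug K H p χ (j : ℕ) →
      OortTate.proj K H p u χ (j : ℕ) g = g := fun j g hg =>
    proj_apply_of_eigen p hp u hu χ j g ((mem_eigenAug_iff p hp χ j g).mp hg).2
  have hli : LinearIndependent K (fun j : Fin (p - 1) => y ^ expo p j) :=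
    iSupIndep.linearIndependent _ hind (pow_expo_mem K H p χ y hy)
      (pow_expo_ne_zero H p y hy')
  have hker : ∀ j : Fin (p - 1), y ^ expo p j ∈
      LinearMap.ker (Bialgebra.counitAlgHom K H).toLinearMap := fun j =>
    counit_of_mem_eigenAug p χ (pow_expo_mem K H p χ y hy j)
  let w' : Fin (p - 1) → LinearMap.ker (Bialgebra.counitAlgHom K H).toLinearMap :=
    fun j => ⟨y ^ expo p j, hker j⟩
  have hli' : LinearIndependent K w' :=
    LinearIndependent.of_comp (LinearMap.ker (Bialgebra.counitAlgHom K H).toLinearMap).subtype hli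
  have hspan := hli'.span_eq_top_of_card_eq_finrank'
    (by rw [Fintype.card_fin, finrank_ker_counit K H p hdim])
  apply le_antisymm
  · intro f hf
    have hf0 : f ∈ LinearMap.ker (Bialgebra.counitAlgHom K H).toLinearMap :=
      counit_of_mem_eigenAug p χ hf
    have hmem : (⟨f, hf0⟩ : LinearMap.ker (Bialgebra.counitAlgHom K H).toLinearMap) ∈
        Submodule.span K (Set.range w') := hspan ▸ Submodule.mem_top
    obtain ⟨c, hc⟩ := (Submodule.mem_span_range_iff_exists_fun K).mp hmem
    have hc' : f = ∑ j, c j • y ^ expo p j := by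
      have h3 := congrArg
        (fun z : LinearMap.ker (Bialgebra.counitAlgHom K H).toLinearMap => (z : H)) hc
      simp only [Submodule.coe_sum, Submodule.coe_smul] at h3
      exact h3.symm
    have h1 : f = OortTate.proj K H p u χ (i : ℕ) f := (hfix i f hf).symm
    rw [h1, hc', map_sum]
    refine Submodule.sum_mem _ fun j _ => ?_
    rw [map_smul]
    refine Submodule.smul_mem _ _ ?_
    by_cases hji : j = i
    · subst hji
      rw [hfix j _ (pow_expo_mem K H p χ y hy j)]
      exact Submodule.mem_span_singleton_self _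
    · have h2 : OortTate.proj K H p u χ (i : ℕ) (y ^ expo p j) = 0 := by
        conv_lhs => rw [← hfix j _ (pow_expo_mem K H p χ y hy j)]
        have := hcoi.ortho (Ne.symm hji)
        exact LinearMap.congr_fun this _
      rw [h2]
      exact Submodule.zero_mem _
  · rw [Submodule.span_singleton_le_iff_mem]
    exact pow_expo_mem K H p χ y hy i

include hdim hu hχ hp hy hy' in
theorem finrank_eigenAug_of_gen (n : ℕ) :
    Module.finrank K (OortTate.eigenAug K H p χ n) = 1 := by
  have hp1 : 0 < p - 1 := by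
    have := (Fact.out : p.Prime).one_lt
    omega
  have hlt : n % (p - 1) < p - 1 := Nat.mod_lt _ hp1
  rw [eigenAug_mod p χ n,
    eigenAug_eq_span_expo K H p hdim u hu χ hχ hp y hy hy' ⟨n % (p - 1), hlt⟩]
  exact finrank_span_singleton (pow_expo_ne_zero H p y hy' _)

include hdim hu hχ hp hy hy' in
theorem eigenAug_eq_span_pow (t : ℕ) (h1 : 1 ≤ t) (h2 : t ≤ p - 1) :
    OortTate.eigenAug K H p χ t = K ∙ (y ^ t) := by
  have hp1 : 0 < p - 1 := by omega
  have hlt : t % (p - 1) < p - 1 := Nat.mod_lt _ hp1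
  rw [eigenAug_mod p χ t,
    eigenAug_eq_span_expo K H p hdim u hu χ hχ hp y hy hy' ⟨t % (p - 1), hlt⟩,
    expo_of_le p t h1 h2 hlt]

end DimOne

section AlgClosed
variable (K : Type u) [Field K] [IsAlgClosed K] (H : Type u) [CommRing H] [HopfAlgebra K H]
  [Module.Finite K H] (p : ℕ) [Fact p.Prime] (hdim : Module.finrank K H = p)
  (u : K) (hu : u * ((p - 1 : ℕ) : K) = 1) (χ : (ZMod p)ˣ →* Kˣ)
  (hχp : ∀ m : (ZMod p)ˣ, ((χ m : Kˣ) : K) - (((m : ZMod p).val : ℕ) : K) ∈
    Ideal.span ({(p : K)} : Set K))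
  (hp : (toConv (AlgHom.id K H)) ^ p = 1)

include hdim hu hχp hp in
/-- **Key lemma** over an algebraically closed field. -/
theorem exists_eigen_algClosed : ∃ y ∈ OortTate.eigenAug K H p χ 1, y ^ (p - 1) ≠ 0 := by
  by_cases h : ∀ g : H →ₐ[K] K, g = Bialgebra.counitAlgHom K H
  · exact exists_eigen_of_local K H p hdim h u hu χ hχp hp
  · push Not at h
    obtain ⟨g, hg⟩ := h
    exact exists_eigen_of_point K H p hdim χ hp g hg

end AlgClosed

section Field
variable (k : Type u) [Field k] (H : Type u) [CommRing H] [HopfAlgebra k H]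
  [Module.Finite k H] (p : ℕ) [Fact p.Prime] (hdim : Module.finrank k H = p)
  (u : k) (hu : u * ((p - 1 : ℕ) : k) = 1) (χ : (ZMod p)ˣ →* kˣ)
  (hχ : ∀ m : (ZMod p)ˣ, m ≠ 1 → IsUnit ((χ m : k) - 1))
  (hχp : ∀ m : (ZMod p)ˣ, ((χ m : kˣ) : k) - (((m : ZMod p).val : ℕ) : k) ∈
    Ideal.span ({(p : k)} : Set k))
  (hp : (toConv (AlgHom.id k H)) ^ p = 1)

include hdim hu hχ hχp hp in
/-- **Key lemma** over an arbitrary field. -/
theorem exists_eigen_field : ∃ y ∈ OortTate.eigenAug k H p χ 1, y ^ (p - 1) ≠ 0 := by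
  have hdimK : Module.finrank (AlgebraicClosure k) (AlgebraicClosure k ⊗[k] H) = p := by
    rw [Module.finrank_baseChange, hdim]
  have huK := hu_bc (AlgebraicClosure k) u hu
  have hχK := hchi_bc (AlgebraicClosure k) χ hχ
  have hχpK := hchip_bc (AlgebraicClosure k) χ hχp
  have hpK := toConv_id_pow_bc k (AlgebraicClosure k) H p hp
  obtain ⟨y', hy'mem, hy'ne⟩ := exists_eigen_algClosed (AlgebraicClosure k)
    (AlgebraicClosure k ⊗[k] H) p hdimK (algebraMap k (AlgebraicClosure k) u) huK
    (chiBC (AlgebraicClosure k) χ) hχpK hpK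
  have hfr := finrank_eigenAug_of_gen (AlgebraicClosure k) (AlgebraicClosure k ⊗[k] H) p hdimK
    (algebraMap k (AlgebraicClosure k) u) huK (chiBC (AlgebraicClosure k) χ) hχK hpK y' hy'mem
    hy'ne 1
  rw [← finrank_tensor_eigenAug k H p u hu χ hp (AlgebraicClosure k) 1,
    Module.finrank_baseChange] at hfr
  obtain ⟨v, hv0, hv⟩ := finrank_eq_one_iff'.mp hfr
  refine ⟨(v : H), v.2, ?_⟩
  intro h0
  apply hy'ne
  rw [eigenAug_bc k H p u hu χ hp (AlgebraicClosure k) 1, Submodule.baseChange_eq_span] at hy'mem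
  have hle : Submodule.span (AlgebraicClosure k)
      ((Submodule.map (TensorProduct.mk k (AlgebraicClosure k) H 1)
        (OortTate.eigenAug k H p χ 1) : Submodule k (AlgebraicClosure k ⊗[k] H)) :
          Set (AlgebraicClosure k ⊗[k] H)) ≤
      (AlgebraicClosure k) ∙ ((1 : AlgebraicClosure k) ⊗ₜ[k] (v : H)) := by
    rw [Submodule.span_le]
    rintro _ ⟨e, he, rfl⟩
    obtain ⟨c, hc⟩ := hv ⟨e, he⟩
    have hc' : e = c • (v : H) := by
      have := congrArg Subtype.val hc
      simpa using this.symm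
    rw [SetLike.mem_coe, Submodule.mem_span_singleton]
    refine ⟨algebraMap k (AlgebraicClosure k) c, ?_⟩
    rw [TensorProduct.mk_apply, hc', TensorProduct.tmul_smul, algebraMap_smul]
  obtain ⟨c, hc⟩ := Submodule.mem_span_singleton.mp (hle hy'mem)
  rw [← hc, smul_pow, Algebra.TensorProduct.tmul_pow, one_pow, h0, TensorProduct.tmul_zero,
    smul_zero]

include hdim hu hχ hχp hp in
theorem finrank_eigenAug_field (n : ℕ) :
    Module.finrank k (OortTate.eigenAug k H p χ n) = 1 := by
  obtain ⟨y, hy, hy'⟩ := exists_eigen_field k H p hdim u hu χ hχ hχp hp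
  exact finrank_eigenAug_of_gen k H p hdim u hu χ hχ hp y hy hy' n

end Field

end Groth.Agent.Helper6.OT
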