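import Mathlib
import Groth.Prelude.Def_W4c5ffgsreadingcourseOT
import Groth.Agent.Lib.Helper27.OT468d
import Groth.Agent.Lib.Helper6.OT5

/-!
# Oort–Tate over a general base: the eigenspaces are invertible modules, `I_1^t = I_t`,
and local generators.
-/

set_option autoImplicit false
set_option linter.unusedSectionVars false
universe u

open scoped TensorProduct
open WithConv

namespace Groth.Agent.Helper6.OT

section Aux
variable {R : Type u} [CommRing R]

theorem eq_zero_of_forall_maximal {M : Type*} [AddCommGroup M] [Module R M] (m : M)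
    (h : ∀ (𝔪 : Ideal R), 𝔪.IsMaximal → ∃ s : R, s ∉ 𝔪 ∧ s • m = 0) : m = 0 := by
  by_contra hm
  have h𝔞 : LinearMap.ker (LinearMap.toSpanSingleton R M m) ≠ ⊤ := by
    intro htop
    have h1 : (1 : R) ∈ LinearMap.ker (LinearMap.toSpanSingleton R M m) :=
      htop ▸ Submodule.mem_top
    apply hm
    simpa using h1
  obtain ⟨𝔪, h𝔪, hle⟩ := Ideal.exists_le_maximal
    (LinearMap.ker (LinearMap.toSpanSingleton R M m) : Ideal R) h𝔞
  obtain ⟨s, hs, hsm⟩ := h 𝔪 h𝔪
  exact hs (hle (by simpa using hsm))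

theorem mem_of_forall_maximal {M : Type*} [AddCommGroup M] [Module R M] (N : Submodule R M)
    (x : M) (h : ∀ (𝔪 : Ideal R), 𝔪.IsMaximal → ∃ s : R, s ∉ 𝔪 ∧ s • x ∈ N) : x ∈ N := by
  have h0 := eq_zero_of_forall_maximal (N.mkQ x) (fun 𝔪 h𝔪 => by
    obtain ⟨s, hs, hsx⟩ := h 𝔪 h𝔪
    refine ⟨s, hs, ?_⟩
    rw [← map_smul]
    exact (Submodule.Quotient.mk_eq_zero N).mpr hsx)
  exact (Submodule.Quotient.mk_eq_zero N).mp h0

theorem exists_dual_basis_module (M : Type*) [AddCommGroup M] [Module R M] [Module.Finite R M]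
    [Module.Projective R M] :
    ∃ (n : ℕ) (e : Fin n → M) (φ : Fin n → (M →ₗ[R] R)), ∀ a : M, a = ∑ i, φ i a • e i := by
  obtain ⟨n, f, g, -, -, hfg⟩ := Module.Finite.exists_comp_eq_id_of_projective R M
  refine ⟨n, fun i => f (Pi.single i 1), fun i => LinearMap.proj i ∘ₗ g, fun a => ?_⟩
  have h1 : f (g a) = a := by
    have := congrArg (fun h => h a) hfg
    simpa using this
  have h2 : g a = ∑ i, (g a i) • (Pi.single i 1 : Fin n → R) := by
    ext j
    simp [Finset.sum_apply, Pi.single_apply]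
  conv_lhs => rw [← h1, h2]
  simp [map_sum]

end Aux

section FibreK
variable {R : Type u} [CommRing R] (𝔪 : Ideal R) (K : Type u) [Field K] [Algebra R K]
  (hsurj : Function.Surjective (algebraMap R K))
  (hker : ∀ r : R, algebraMap R K r = 0 ↔ r ∈ 𝔪)

include hsurj in
theorem exists_one_tmul {M : Type*} [AddCommGroup M] [Module R M] (x : K ⊗[R] M) :
    ∃ m : M, x = (1 : K) ⊗ₜ[R] m := by
  induction x using TensorProduct.induction_on with
  | zero => exact ⟨0, by simp⟩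
  | tmul k m =>
    obtain ⟨r, rfl⟩ := hsurj k
    exact ⟨r • m, by rw [Algebra.algebraMap_eq_smul_one, TensorProduct.smul_tmul]⟩
  | add x y hx hy =>
    obtain ⟨m, rfl⟩ := hx
    obtain ⟨m', rfl⟩ := hy
    exact ⟨m + m', by rw [TensorProduct.tmul_add]⟩

include hker in
theorem mem_smul_top_of_one_tmul_eq_zero {M : Type*} [AddCommGroup M] [Module R M]
    [Module.Finite R M] [Module.Projective R M] (m : M) (h : (1 : K) ⊗ₜ[R] m = 0) :
    m ∈ 𝔪 • (⊤ : Submodule R M) := by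
  obtain ⟨n, e, φ, he⟩ := exists_dual_basis_module (R := R) M
  rw [he m]
  refine Submodule.sum_mem _ fun i _ => Submodule.smul_mem_smul ?_ Submodule.mem_top
  rw [← hker]
  have h1 := congrArg ((TensorProduct.rid R K).toLinearMap ∘ₗ LinearMap.lTensor K (φ i)) h
  simpa [Algebra.algebraMap_eq_smul_one] using h1

include hker in
theorem one_tmul_eq_zero_of_mem_smul_top {M : Type*} [AddCommGroup M] [Module R M] (m : M)
    (h : m ∈ 𝔪 • (⊤ : Submodule R M)) : (1 : K) ⊗ₜ[R] m = 0 := by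
  refine Submodule.smul_induction_on h ?_ ?_
  · intro r hr n _
    rw [← TensorProduct.smul_tmul, ← Algebra.algebraMap_eq_smul_one, (hker r).mpr hr,
      TensorProduct.zero_tmul]
  · intro x y hx hy
    rw [TensorProduct.tmul_add, hx, hy, add_zero]

end FibreK

section Main
variable (R : Type u) [CommRing R] (A : Type u) [CommRing A] [HopfAlgebra R A]
  [Module.Finite R A] [Module.Projective R A]
  (p : ℕ) [Fact p.Prime] (u : R) (hu : u * ((p - 1 : ℕ) : R) = 1) (χ : (ZMod p)ˣ →* Rˣ)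
  (hχ : ∀ m : (ZMod p)ˣ, m ≠ 1 → IsUnit ((χ m : R) - 1))
  (hχp : ∀ m : (ZMod p)ˣ, ((χ m : Rˣ) : R) - (((m : ZMod p).val : ℕ) : R) ∈
    Ideal.span ({(p : R)} : Set R))
  (hp : (toConv (AlgHom.id R A)) ^ p = 1)
  (hrk : ∀ q : PrimeSpectrum R, Module.rankAtStalk A q = p)

include hrk in
theorem finrank_fibre (K : Type u) [Field K] [Algebra R K] :
    Module.finrank K (K ⊗[R] A) = p := by
  have h1 := Module.rankAtStalk_baseChange (R := R) (M := A) (S := K) ⟨⊥, Ideal.isPrime_bot⟩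
  rw [hrk] at h1
  have h2 := congrFun (Module.rankAtStalk_eq_finrank_of_free (R := K) (M := K ⊗[R] A))
    ⟨⊥, Ideal.isPrime_bot⟩
  rw [h1] at h2
  simpa using h2.symm

include hu hχ hχp hp hrk in
theorem rankAtStalk_eigenAug (n : ℕ) (q : PrimeSpectrum R) :
    Module.rankAtStalk (OortTate.eigenAug R A p χ n) q = 1 := by
  have hfin := eigenAug_finite R A p u hu χ hp n
  have hproj := eigenAug_projective R A p u hu χ hp n
  rw [Module.rankAtStalk_eq]
  show Module.finrank q.asIdeal.ResidueField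
    (q.asIdeal.ResidueField ⊗[R] OortTate.eigenAug R A p χ n) = 1
  rw [finrank_tensor_eigenAug R A p u hu χ hp q.asIdeal.ResidueField n]
  exact finrank_eigenAug_field q.asIdeal.ResidueField (q.asIdeal.ResidueField ⊗[R] A) p
    (finrank_fibre R A p hrk _) _ (hu_bc _ u hu) _ (hchi_bc _ χ hχ) (hchip_bc _ χ hχp)
    (toConv_id_pow_bc R _ A p hp) n

include hu hχ hχp hp hrk in
/-- local generators of the eigenspaces at a maximal ideal -/
theorem exists_local_gen (𝔪 : Ideal R) [h𝔪 : 𝔪.IsMaximal] :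
    ∃ e ∈ OortTate.eigenAug R A p χ 1,
      (∀ t : ℕ, 1 ≤ t → t ≤ p - 1 → ∃ r : R, r - 1 ∈ 𝔪 ∧
        ∀ x ∈ OortTate.eigenAug R A p χ t, ∃ a : R, r • x = a • e ^ t) ∧
      (∀ t : ℕ, 1 ≤ t → t ≤ p - 1 → ∀ c : R, c • e ^ t = 0 → ∃ s : R, s ∉ 𝔪 ∧ s * c = 0) := by
  have hsurj : Function.Surjective (algebraMap R 𝔪.ResidueField) :=
    𝔪.algebraMap_residueField_surjective
  have hker : ∀ r : R, algebraMap R 𝔪.ResidueField r = 0 ↔ r ∈ 𝔪 :=
    fun r => Ideal.algebraMap_residueField_eq_zero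
  have hdimK := finrank_fibre R A p hrk 𝔪.ResidueField
  have huK := hu_bc 𝔪.ResidueField u hu
  have hχK := hchi_bc 𝔪.ResidueField χ hχ
  have hχpK := hchip_bc 𝔪.ResidueField χ hχp
  have hpK := toConv_id_pow_bc R 𝔪.ResidueField A p hp
  obtain ⟨y', hy'mem, hy'ne⟩ := exists_eigen_field 𝔪.ResidueField (𝔪.ResidueField ⊗[R] A) p
    hdimK _ huK _ hχK hχpK hpK
  obtain ⟨a₀, ha₀⟩ := exists_one_tmul 𝔪.ResidueField hsurj y'
  have heE : eigenProj R A p u χ 1 a₀ ∈ OortTate.eigenAug R A p χ 1 :=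
    eigenProj_mem R A p u hu χ hp 1 a₀
  have hy'e : y' = (1 : 𝔪.ResidueField) ⊗ₜ[R] (eigenProj R A p u χ 1 a₀) := by
    have h1 := eigenProj_apply_of_mem 𝔪.ResidueField (𝔪.ResidueField ⊗[R] A) p _ huK
      (chiBC 𝔪.ResidueField χ) hpK 1 y' hy'mem
    rw [eigenProj_bc, ha₀, LinearMap.baseChange_tmul] at h1
    rw [ha₀]
    exact h1.symm
  rw [hy'e] at hy'mem hy'ne
  have hpow_ne : ∀ t : ℕ, t ≤ p - 1 →
      (1 : 𝔪.ResidueField) ⊗ₜ[R] (eigenProj R A p u χ 1 a₀ ^ t) ≠ 0 := by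
    intro t ht h0
    apply hy'ne
    have h2 : p - 1 = t + (p - 1 - t) := by omega
    rw [h2, pow_add, Algebra.TensorProduct.tmul_pow, one_pow, h0, zero_mul]
  refine ⟨eigenProj R A p u χ 1 a₀, heE, ?_, ?_⟩
  · intro t ht1 ht2
    have hspan := eigenAug_eq_span_pow 𝔪.ResidueField (𝔪.ResidueField ⊗[R] A) p hdimK _ huK
      (chiBC 𝔪.ResidueField χ) hχK hpK _ hy'mem hy'ne t ht1 ht2
    rw [Algebra.TensorProduct.tmul_pow, one_pow] at hspan
    have hle : OortTate.eigenAug R A p χ t ≤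
        (R ∙ (eigenProj R A p u χ 1 a₀ ^ t)) ⊔ 𝔪 • OortTate.eigenAug R A p χ t := by
      intro x hx
      have hx' : (1 : 𝔪.ResidueField) ⊗ₜ[R] x ∈
          OortTate.eigenAug 𝔪.ResidueField (𝔪.ResidueField ⊗[R] A) p
            (chiBC 𝔪.ResidueField χ) t := by
        rw [eigenAug_bc R A p u hu χ hp 𝔪.ResidueField t]
        exact Submodule.tmul_mem_baseChange_of_mem 1 hx
      rw [hspan] at hx'
      obtain ⟨c, hc⟩ := Submodule.mem_span_singleton.mp hx'
      obtain ⟨a, rfl⟩ := hsurj c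
      rw [algebraMap_smul, ← TensorProduct.tmul_smul] at hc
      have hz : (1 : 𝔪.ResidueField) ⊗ₜ[R] (x - a • eigenProj R A p u χ 1 a₀ ^ t) = 0 := by
        rw [TensorProduct.tmul_sub, hc, sub_self]
      have hzA := mem_smul_top_of_one_tmul_eq_zero 𝔪 𝔪.ResidueField hker _ hz
      have hzE : x - a • eigenProj R A p u χ 1 a₀ ^ t ∈ OortTate.eigenAug R A p χ t :=
        Submodule.sub_mem _ hx (Submodule.smul_mem _ _
          (pow_mem_eigenAug p χ heE t ht1))
      have hzm : x - a • eigenProj R A p u χ 1 a₀ ^ t ∈ 𝔪 • OortTate.eigenAug R A p χ t := by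
        rw [← eigenProj_apply_of_mem R A p u hu χ hp t _ hzE, ← range_eigenProj R A p u hu χ hp t,
          ← Submodule.map_top, ← Submodule.map_smul'']
        exact Submodule.mem_map_of_mem hzA
      have hx2 : x = a • eigenProj R A p u χ 1 a₀ ^ t +
          (x - a • eigenProj R A p u χ 1 a₀ ^ t) := by abel
      rw [hx2]
      exact Submodule.add_mem _
        (Submodule.mem_sup_left (Submodule.smul_mem _ _ (Submodule.mem_span_singleton_self _)))
        (Submodule.mem_sup_right hzm)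
    have hfg : (OortTate.eigenAug R A p χ t).FG :=
      Module.Finite.iff_fg.mp (eigenAug_finite R A p u hu χ hp t)
    obtain ⟨r, hr, hrle⟩ :=
      Submodule.exists_sub_one_mem_and_smul_le_of_fg_of_le_sup hfg le_rfl hle
    refine ⟨r, hr, fun x hx => ?_⟩
    have h1 := hrle (Submodule.smul_mem_pointwise_smul x r _ hx)
    obtain ⟨a, ha⟩ := Submodule.mem_span_singleton.mp h1
    exact ⟨a, ha.symm⟩
  · intro t _ ht2 c hc
    obtain ⟨n, b, φ, hb⟩ := exists_dual_basis_module (R := R) A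
    by_contra hcon
    push Not at hcon
    apply hpow_ne t ht2
    apply one_tmul_eq_zero_of_mem_smul_top 𝔪 𝔪.ResidueField hker
    rw [hb (eigenProj R A p u χ 1 a₀ ^ t)]
    refine Submodule.sum_mem _ fun i _ => Submodule.smul_mem_smul ?_ Submodule.mem_top
    by_contra hi
    apply hi
    have h3 := hcon (φ i (eigenProj R A p u χ 1 a₀ ^ t)) hi
    exfalso
    apply h3
    rw [mul_comm, ← smul_eq_mul, ← map_smul, hc, map_zero]

include hu hχ hχp hp hrk in
theorem eigenAug_one_pow_le (n : ℕ) :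
    (OortTate.eigenAug R A p χ 1) ^ (n + 1) ≤ OortTate.eigenAug R A p χ (n + 1) := by
  induction n with
  | zero => simp
  | succ n ih =>
    rw [pow_succ]
    rw [Submodule.mul_le]
    intro m hm m' hm'
    exact mul_mem_eigenAug p χ (ih hm) hm'

include hu hχ hχp hp hrk in
/-- `I_1 ^ t = I_t` for `1 ≤ t ≤ p - 1`. -/
theorem eigenAug_one_pow (t : ℕ) (h1 : 1 ≤ t) (h2 : t ≤ p - 1) :
    (OortTate.eigenAug R A p χ 1) ^ t = OortTate.eigenAug R A p χ t := by
  apply le_antisymm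
  · obtain ⟨n, rfl⟩ : ∃ n, t = n + 1 := ⟨t - 1, by omega⟩
    exact eigenAug_one_pow_le R A p u hu χ hχ hχp hp hrk n
  · intro x hx
    apply mem_of_forall_maximal
    intro 𝔪 h𝔪
    obtain ⟨e, heE, hgen, -⟩ := exists_local_gen R A p u hu χ hχ hχp hp hrk 𝔪
    obtain ⟨r, hr, hrx⟩ := hgen t h1 h2
    obtain ⟨a, ha⟩ := hrx x hx
    refine ⟨r, ?_, ?_⟩
    · intro hrm
      apply h𝔪.ne_top
      rw [Ideal.eq_top_iff_one]
      have := 𝔪.sub_mem hrm hr
      simpa using this
    · rw [ha]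
      exact Submodule.smul_mem _ _ (Submodule.pow_mem_pow _ heE t)

end Main

end Groth.Agent.Helper6.OT
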