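import Mathlib
import Groth.Prelude.Def_W4c5ffgsreadingcourseOT
import Groth.Agent.Lib.Helper27.OT468d
import Groth.Agent.Lib.Helper6.OT6

/-!
# Oort–Tate: the group algebra of `ℤ/p` (the Hopf algebra of `μ_p`)
-/

set_option autoImplicit false
set_option linter.unusedSectionVars false
universe u

open scoped TensorProduct
open WithConv

namespace Groth.Agent.Helper6.OT

open Groth.Agent.Helper27.OT468

section MuP
variable (R : Type u) [CommRing R] (p : ℕ) [Fact p.Prime]

theorem counit_single_one (g : Multiplicative (ZMod p)) :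
    Bialgebra.counitAlgHom R (MonoidAlgebra R (Multiplicative (ZMod p)))
      (MonoidAlgebra.single g 1) = 1 := by
  show Coalgebra.counit (R := R) (MonoidAlgebra.single g (1 : R)) = 1
  rw [MonoidAlgebra.counit_single]
  simp

theorem convOne_single (g : Multiplicative (ZMod p)) :
    (1 : WithConv (MonoidAlgebra R (Multiplicative (ZMod p)) →ₐ[R]
      MonoidAlgebra R (Multiplicative (ZMod p)))).ofConv (MonoidAlgebra.single g 1) = 1 := by
  show algebraMap R (MonoidAlgebra R (Multiplicative (ZMod p)))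
      (Bialgebra.counitAlgHom R (MonoidAlgebra R (Multiplicative (ZMod p)))
        (MonoidAlgebra.single g (1 : R))) = 1
  rw [counit_single_one, map_one]

theorem powConv_single (g : Multiplicative (ZMod p)) (n : ℕ) :
    SGA3b.powConv R (MonoidAlgebra R (Multiplicative (ZMod p))) n (MonoidAlgebra.single g 1) =
      MonoidAlgebra.single (g ^ n) 1 := by
  unfold SGA3b.powConv
  induction n with
  | zero =>
    rw [pow_zero, pow_zero, convOne_single, MonoidAlgebra.one_def]
  | succ n ih =>
    rw [pow_succ, pow_succ, MonoidAlgebra.convMul_algHom_single_one, ih]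
    show _ * (MonoidAlgebra.single g 1) = _
    rw [MonoidAlgebra.single_mul_single, one_mul]

theorem muP_hp :
    (toConv (AlgHom.id R (MonoidAlgebra R (Multiplicative (ZMod p))))) ^ p = 1 := by
  apply WithConv.ofConv_injective
  refine MonoidAlgebra.algHom_ext ?_ (Subsingleton.elim _ _)
  intro g
  have h := powConv_single R p g p
  unfold SGA3b.powConv at h
  have hg : g ^ p = 1 := by
    obtain ⟨a, rfl⟩ := Multiplicative.ofAdd.surjective g
    rw [← ofAdd_nsmul, nsmul_eq_mul, CharP.cast_eq_zero, zero_mul, ofAdd_zero]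
  rw [h, convOne_single, hg, MonoidAlgebra.one_def]

theorem muP_rank (q : PrimeSpectrum R) :
    Module.rankAtStalk (MonoidAlgebra R (Multiplicative (ZMod p))) q = p := by
  have : Nontrivial R := ⟨⟨0, 1, fun h => q.isPrime.ne_top
    ((Ideal.eq_top_iff_one _).mpr (h ▸ q.asIdeal.zero_mem))⟩⟩
  have h2 := congrFun (Module.rankAtStalk_eq_finrank_of_free (R := R)
    (M := MonoidAlgebra R (Multiplicative (ZMod p)))) q
  rw [h2]
  rw [Pi.natCast_def]
  simp only [Nat.cast_id]
  rw [Module.finrank_eq_card_basis (MonoidAlgebra.basis (Multiplicative (ZMod p)) R),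
    Fintype.card_multiplicative, ZMod.card]

theorem powConv_muT (n : ℕ) :
    SGA3b.powConv R (MonoidAlgebra R (Multiplicative (ZMod p))) n (OortTate.muT R p) =
      MonoidAlgebra.single (Multiplicative.ofAdd ((n : ℕ) : ZMod p)) (1 : R) := by
  show SGA3b.powConv R _ n (MonoidAlgebra.single (Multiplicative.ofAdd 1) 1) = _
  rw [powConv_single, ← ofAdd_nsmul, nsmul_eq_mul, mul_one]

theorem ygen_eq (u : R) (χ : (ZMod p)ˣ →* Rˣ) (i : ℕ) :
    OortTate.ygen R p u χ i = u • ∑ m : (ZMod p)ˣ, (((χ m⁻¹ : Rˣ) : R) ^ i) •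
      (MonoidAlgebra.single (Multiplicative.ofAdd (m : ZMod p)) (1 : R) - 1) := by
  show OortTate.proj R _ p u χ i (OortTate.muT R p - 1) = _
  unfold OortTate.proj
  rw [LinearMap.smul_apply, LinearMap.sum_apply]
  congr 1
  apply Finset.sum_congr rfl
  intro m _
  rw [LinearMap.smul_apply, AlgHom.toLinearMap_apply, map_sub, map_one, powConv_muT,
    ZMod.natCast_zmod_val]

/-- the coefficient at `T` -/
noncomputable def coordT : MonoidAlgebra R (Multiplicative (ZMod p)) →ₗ[R] R :=
  (MonoidAlgebra.basis (Multiplicative (ZMod p)) R).coord (Multiplicative.ofAdd 1)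

theorem coordT_single (a : ZMod p) :
    coordT R p (MonoidAlgebra.single (Multiplicative.ofAdd a) 1) = if a = 1 then 1 else 0 := by
  unfold coordT
  rw [← MonoidAlgebra.basis_apply R, Module.Basis.coord_apply, Module.Basis.repr_self,
    Finsupp.single_apply]
  simp

theorem coordT_ygen (u : R) (χ : (ZMod p)ˣ →* Rˣ) (i : ℕ) :
    coordT R p (OortTate.ygen R p u χ i) = u := by
  rw [ygen_eq, map_smul, map_sum]
  have h1 : ∀ m : (ZMod p)ˣ, coordT R p ((((χ m⁻¹ : Rˣ) : R) ^ i) •
      (MonoidAlgebra.single (Multiplicative.ofAdd (m : ZMod p)) (1 : R) - 1)) =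
      if m = 1 then 1 else 0 := by
    intro m
    rw [map_smul, map_sub, coordT_single, MonoidAlgebra.one_def, ← ofAdd_zero, coordT_single]
    have h01 : (0 : ZMod p) ≠ 1 := zero_ne_one
    rw [if_neg h01, sub_zero]
    by_cases hm : m = 1
    · subst hm
      simp
    · have hm' : ¬ ((m : ZMod p) = 1) := fun h => hm (Units.val_eq_one.mp h)
      rw [if_neg hm, if_neg hm', smul_zero]
  rw [Finset.sum_congr rfl (fun m _ => h1 m)]
  simp

variable (u : R) (hu : u * ((p - 1 : ℕ) : R) = 1) (χ : (ZMod p)ˣ →* Rˣ)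
  (hχ : ∀ m : (ZMod p)ˣ, m ≠ 1 → IsUnit ((χ m : R) - 1))
  (hχp : ∀ m : (ZMod p)ˣ, ((χ m : Rˣ) : R) - (((m : ZMod p).val : ℕ) : R) ∈
    Ideal.span ({(p : R)} : Set R))

include hu in
theorem ygen_torsionFree (i : ℕ) (c : R) (h : c • OortTate.ygen R p u χ i = 0) : c = 0 := by
  have h1 := congrArg (coordT R p) h
  rw [map_smul, coordT_ygen, map_zero, smul_eq_mul] at h1
  calc c = c * (u * ((p - 1 : ℕ) : R)) := by rw [hu, mul_one]
    _ = (c * u) * ((p - 1 : ℕ) : R) := by ring
    _ = 0 := by rw [h1, zero_mul]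

theorem counit_muT_sub_one :
    Bialgebra.counitAlgHom R (MonoidAlgebra R (Multiplicative (ZMod p)))
      (OortTate.muT R p - 1) = 0 := by
  rw [map_sub, map_one]
  show Bialgebra.counitAlgHom R (MonoidAlgebra R (Multiplicative (ZMod p)))
    (MonoidAlgebra.single (Multiplicative.ofAdd (1 : ZMod p)) (1 : R)) - 1 = 0
  rw [counit_single_one, sub_self]

include hu in
theorem ygen_mem (i : ℕ) :
    OortTate.ygen R p u χ i ∈
      OortTate.eigenAug R (MonoidAlgebra R (Multiplicative (ZMod p))) p χ i := by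
  rw [eigenAug_eq_map p (muP_hp R p) u hu χ i]
  refine ⟨OortTate.muT R p - 1, ?_, rfl⟩
  rw [SetLike.mem_coe, LinearMap.mem_ker, AlgHom.toLinearMap_apply]
  exact counit_muT_sub_one R p

include hu hχ in
theorem proj_ygen (i j : Fin (p - 1)) :
    OortTate.proj R (MonoidAlgebra R (Multiplicative (ZMod p))) p u χ (j : ℕ)
        (OortTate.ygen R p u χ (i : ℕ)) =
      if i = j then OortTate.ygen R p u χ (i : ℕ) else 0 := by
  have hcoi := coi_proj (A := MonoidAlgebra R (Multiplicative (ZMod p))) p u hu χ hχ (muP_hp R p)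
  show (OortTate.proj R (MonoidAlgebra R (Multiplicative (ZMod p))) p u χ (j : ℕ) *
    OortTate.proj R (MonoidAlgebra R (Multiplicative (ZMod p))) p u χ (i : ℕ))
      (OortTate.muT R p - 1) = _
  by_cases hij : i = j
  · subst hij
    rw [if_pos rfl]
    have h0 : OortTate.proj R (MonoidAlgebra R (Multiplicative (ZMod p))) p u χ (i : ℕ) *
        OortTate.proj R (MonoidAlgebra R (Multiplicative (ZMod p))) p u χ (i : ℕ) =
        OortTate.proj R (MonoidAlgebra R (Multiplicative (ZMod p))) p u χ (i : ℕ) :=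
      (hcoi.idem i).eq
    rw [h0]
  · rw [if_neg hij]
    have h0 : OortTate.proj R (MonoidAlgebra R (Multiplicative (ZMod p))) p u χ (j : ℕ) *
        OortTate.proj R (MonoidAlgebra R (Multiplicative (ZMod p))) p u χ (i : ℕ) = 0 :=
      hcoi.ortho (Ne.symm hij)
    rw [h0]
    rfl

include hu hχ in
theorem sum_ygen :
    ∑ i : Fin (p - 1), OortTate.ygen R p u χ (i : ℕ) = OortTate.muT R p - 1 := by
  have hcoi := coi_proj (A := MonoidAlgebra R (Multiplicative (ZMod p))) p u hu χ hχ (muP_hp R p)
  have h := congrArg (fun f : Module.End R (MonoidAlgebra R (Multiplicative (ZMod p))) =>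
    f (OortTate.muT R p - 1)) hcoi.complete
  simp only [LinearMap.sum_apply, Module.End.one_apply] at h
  exact h

include hu in
theorem powConv_ygen (i : ℕ) (m : (ZMod p)ˣ) :
    SGA3b.powConv R (MonoidAlgebra R (Multiplicative (ZMod p))) (m : ZMod p).val
        (OortTate.ygen R p u χ i) =
      (((χ m : Rˣ) : R) ^ i) • OortTate.ygen R p u χ i :=
  ((mem_eigenAug_iff' p χ i _).mp (ygen_mem R p u hu χ i)).2 m

include hu hχ in
theorem single_sub_one_eq (m : (ZMod p)ˣ) :
    MonoidAlgebra.single (Multiplicative.ofAdd (m : ZMod p)) (1 : R) - 1 =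
      ∑ i : Fin (p - 1), (((χ m : Rˣ) : R) ^ (i : ℕ)) • OortTate.ygen R p u χ (i : ℕ) := by
  have h := congrArg (SGA3b.powConv R (MonoidAlgebra R (Multiplicative (ZMod p)))
    (m : ZMod p).val) (sum_ygen R p u hu χ hχ)
  rw [map_sum, map_sub, map_one, powConv_muT, ZMod.natCast_zmod_val] at h
  rw [← h]
  apply Finset.sum_congr rfl
  intro i _
  exact powConv_ygen R p u hu χ i m

include hu hχ in
theorem ker_counit_le_span :
    LinearMap.ker (Bialgebra.counitAlgHom R
        (MonoidAlgebra R (Multiplicative (ZMod p)))).toLinearMap ≤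
      Submodule.span R (Set.range (fun i : Fin (p - 1) => OortTate.ygen R p u χ (i : ℕ))) := by
  intro x hx
  rw [LinearMap.mem_ker, AlgHom.toLinearMap_apply] at hx
  have h2 : ∑ g : Multiplicative (ZMod p),
      (MonoidAlgebra.basis (Multiplicative (ZMod p)) R).repr x g •
        (MonoidAlgebra.single g (1 : R)) = x := by
    have := (MonoidAlgebra.basis (Multiplicative (ZMod p)) R).sum_repr x
    simpa only [MonoidAlgebra.basis_apply] using this
  have h3 : ∑ g : Multiplicative (ZMod p),
      (MonoidAlgebra.basis (Multiplicative (ZMod p)) R).repr x g = 0 := by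
    have h4 := congrArg (Bialgebra.counitAlgHom R (MonoidAlgebra R (Multiplicative (ZMod p)))) h2
    rw [map_sum, hx] at h4
    rw [← h4]
    apply Finset.sum_congr rfl
    intro g _
    rw [map_smul, counit_single_one, smul_eq_mul, mul_one]
  have h1 : x = ∑ g : Multiplicative (ZMod p),
      (MonoidAlgebra.basis (Multiplicative (ZMod p)) R).repr x g •
        (MonoidAlgebra.single g (1 : R) - 1) := by
    simp_rw [smul_sub]
    rw [Finset.sum_sub_distrib, h2, ← Finset.sum_smul, h3, zero_smul, sub_zero]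
  rw [h1]
  apply Submodule.sum_mem
  intro g _
  apply Submodule.smul_mem
  obtain ⟨a, rfl⟩ := Multiplicative.ofAdd.surjective g
  by_cases ha : a = 0
  · subst ha
    rw [ofAdd_zero, ← MonoidAlgebra.one_def, sub_self]
    exact Submodule.zero_mem _
  · obtain ⟨m, rfl⟩ : ∃ m : (ZMod p)ˣ, (m : ZMod p) = a := ⟨Units.mk0 a ha, rfl⟩
    rw [single_sub_one_eq R p u hu χ hχ m]
    apply Submodule.sum_mem
    intro i _
    exact Submodule.smul_mem _ _ (Submodule.subset_span ⟨i, rfl⟩)

include hu hχ in
theorem span_ygen :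
    Submodule.span R (Set.range (fun i : Fin (p - 1) => OortTate.ygen R p u χ (i : ℕ))) =
      LinearMap.ker (Bialgebra.counitAlgHom R
        (MonoidAlgebra R (Multiplicative (ZMod p)))).toLinearMap := by
  apply le_antisymm
  · rw [Submodule.span_le]
    rintro _ ⟨i, rfl⟩
    rw [SetLike.mem_coe, LinearMap.mem_ker, AlgHom.toLinearMap_apply]
    exact counit_of_mem_eigenAug p χ (ygen_mem R p u hu χ i)
  · exact ker_counit_le_span R p u hu χ hχ

include hu hχ in
theorem linearIndependent_ygen :
    LinearIndependent R (fun i : Fin (p - 1) => OortTate.ygen R p u χ (i : ℕ)) := by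
  rw [Fintype.linearIndependent_iff]
  intro c hc j
  have h := congrArg (OortTate.proj R (MonoidAlgebra R (Multiplicative (ZMod p))) p u χ (j : ℕ)) hc
  rw [map_sum, map_zero] at h
  simp_rw [map_smul, proj_ygen R p u hu χ hχ] at h
  rw [Finset.sum_eq_single j] at h
  · rw [if_pos rfl] at h
    exact ygen_torsionFree R p u hu χ _ _ h
  · intro i _ hij
    rw [if_neg hij, smul_zero]
  · intro h'
    exact absurd (Finset.mem_univ j) h'

include hu hχ in
theorem eigenAug_eq_span_ygen_fin (j : Fin (p - 1)) :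
    OortTate.eigenAug R (MonoidAlgebra R (Multiplicative (ZMod p))) p χ (j : ℕ) =
      Submodule.span R {OortTate.ygen R p u χ (j : ℕ)} := by
  apply le_antisymm
  · intro x hx
    have hxk : x ∈ Submodule.span R
        (Set.range (fun i : Fin (p - 1) => OortTate.ygen R p u χ (i : ℕ))) := by
      rw [span_ygen R p u hu χ hχ, LinearMap.mem_ker, AlgHom.toLinearMap_apply]
      exact counit_of_mem_eigenAug p χ hx
    obtain ⟨c, hc⟩ := (Submodule.mem_span_range_iff_exists_fun R).mp hxk
    have hpx : OortTate.proj R (MonoidAlgebra R (Multiplicative (ZMod p))) p u χ (j : ℕ) x = x := by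
      have h1 := (mem_eigenAug_iff p (muP_hp R p) χ j x).mp hx
      exact proj_apply_of_eigen p (muP_hp R p) u hu χ j x h1.2
    rw [← hpx, ← hc, map_sum]
    simp_rw [map_smul, proj_ygen R p u hu χ hχ]
    rw [Finset.sum_eq_single j]
    · rw [if_pos rfl]
      exact Submodule.smul_mem _ _ (Submodule.mem_span_singleton_self _)
    · intro i _ hij
      rw [if_neg hij, smul_zero]
    · intro h'
      exact absurd (Finset.mem_univ j) h'
  · rw [Submodule.span_le, Set.singleton_subset_iff]
    exact ygen_mem R p u hu χ j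

theorem ygen_mod (i : ℕ) : OortTate.ygen R p u χ i = OortTate.ygen R p u χ (i % (p - 1)) := by
  rw [ygen_eq, ygen_eq]
  congr 1
  apply Finset.sum_congr rfl
  intro m _
  congr 1
  conv_lhs => rw [← Nat.mod_add_div i (p - 1), pow_add, pow_mul, chi_pow_pred, one_pow, mul_one]

include hu hχ in
theorem eigenAug_eq_span_ygen (n : ℕ) :
    OortTate.eigenAug R (MonoidAlgebra R (Multiplicative (ZMod p))) p χ n =
      Submodule.span R {OortTate.ygen R p u χ n} := by
  have hp1 : 0 < p - 1 := by
    have := (Fact.out : p.Prime).two_le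
    omega
  rw [eigenAug_mod p χ n, ygen_mod R p u χ n]
  exact eigenAug_eq_span_ygen_fin R p u hu χ hχ ⟨n % (p - 1), Nat.mod_lt _ hp1⟩

include hu hχ hχp in
theorem ygen_mem_adjoin (t : ℕ) (h1 : 1 ≤ t) (h2 : t ≤ p - 1) :
    OortTate.ygen R p u χ t ∈ Algebra.adjoin R
      ({OortTate.ygen R p u χ 1} : Set (MonoidAlgebra R (Multiplicative (ZMod p)))) := by
  have hpow := eigenAug_one_pow R (MonoidAlgebra R (Multiplicative (ZMod p))) p u hu χ hχ hχp
    (muP_hp R p) (muP_rank R p) t h1 h2
  rw [eigenAug_eq_span_ygen R p u hu χ hχ 1, eigenAug_eq_span_ygen R p u hu χ hχ t,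
    Submodule.span_pow, Set.singleton_pow] at hpow
  have hmem : OortTate.ygen R p u χ t ∈ Submodule.span R {OortTate.ygen R p u χ 1 ^ t} := by
    rw [hpow]
    exact Submodule.mem_span_singleton_self _
  obtain ⟨c, hc⟩ := Submodule.mem_span_singleton.mp hmem
  rw [← hc]
  exact Subalgebra.smul_mem _
    (Subalgebra.pow_mem _ (Algebra.subset_adjoin (Set.mem_singleton _)) t) c

include hu hχ hχp in
theorem adjoin_ygen_one :
    Algebra.adjoin R
      ({OortTate.ygen R p u χ 1} : Set (MonoidAlgebra R (Multiplicative (ZMod p)))) = ⊤ := by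
  have hp1 : 0 < p - 1 := by
    have := (Fact.out : p.Prime).two_le
    omega
  have hfin : ∀ i : Fin (p - 1), OortTate.ygen R p u χ (i : ℕ) ∈ Algebra.adjoin R
      ({OortTate.ygen R p u χ 1} : Set (MonoidAlgebra R (Multiplicative (ZMod p)))) := by
    intro i
    by_cases hi : (i : ℕ) = 0
    · rw [hi, show OortTate.ygen R p u χ 0 = OortTate.ygen R p u χ (p - 1) from by
        rw [ygen_mod R p u χ (p - 1), Nat.mod_self]]
      exact ygen_mem_adjoin R p u hu χ hχ hχp (p - 1) (by omega) le_rfl
    · exact ygen_mem_adjoin R p u hu χ hχ hχp i (by omega) (by have := i.isLt; omega)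
  have hker : ∀ z : MonoidAlgebra R (Multiplicative (ZMod p)),
      Bialgebra.counitAlgHom R (MonoidAlgebra R (Multiplicative (ZMod p))) z = 0 →
      z ∈ Algebra.adjoin R
        ({OortTate.ygen R p u χ 1} : Set (MonoidAlgebra R (Multiplicative (ZMod p)))) := by
    intro z hz
    have hz' : z ∈ Submodule.span R
        (Set.range (fun i : Fin (p - 1) => OortTate.ygen R p u χ (i : ℕ))) := by
      rw [span_ygen R p u hu χ hχ, LinearMap.mem_ker, AlgHom.toLinearMap_apply]
      exact hz
    have hle : Submodule.span R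
        (Set.range (fun i : Fin (p - 1) => OortTate.ygen R p u χ (i : ℕ))) ≤
        Subalgebra.toSubmodule (Algebra.adjoin R
          ({OortTate.ygen R p u χ 1} : Set (MonoidAlgebra R (Multiplicative (ZMod p))))) := by
      rw [Submodule.span_le]
      rintro _ ⟨i, rfl⟩
      exact hfin i
    exact hle hz'
  rw [eq_top_iff]
  intro x _
  have hx : x = (x - algebraMap R _ (Bialgebra.counitAlgHom R _ x)) +
      algebraMap R _ (Bialgebra.counitAlgHom R _ x) := by abel
  rw [hx]
  apply Subalgebra.add_mem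
  · apply hker
    rw [map_sub, AlgHom.commutes, Algebra.algebraMap_self_apply, sub_self]
  · exact Subalgebra.algebraMap_mem _ _

include hu hχ in
theorem existsUnique_w :
    ∃! w : R, OortTate.ygen R p u χ 1 ^ p = w • OortTate.ygen R p u χ 1 := by
  have hp2 := (Fact.out : p.Prime).two_le
  have hmem : OortTate.ygen R p u χ 1 ^ p ∈
      OortTate.eigenAug R (MonoidAlgebra R (Multiplicative (ZMod p))) p χ 1 := by
    have h := pow_mem_eigenAug p χ (ygen_mem R p u hu χ 1) p (by omega)
    have hmod : p % (p - 1) = 1 % (p - 1) := by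
      have h3 : p = (p - 1) + 1 := by omega
      conv_lhs => rw [h3]
      exact Nat.add_mod_left _ _
    rw [eigenAug_congr p χ hmod] at h
    exact h
  rw [eigenAug_eq_span_ygen R p u hu χ hχ 1] at hmem
  obtain ⟨w, hw⟩ := Submodule.mem_span_singleton.mp hmem
  refine ⟨w, hw.symm, fun w' hw' => ?_⟩
  have h0 : (w' - w) • OortTate.ygen R p u χ 1 = 0 := by
    rw [sub_smul, ← hw', hw, sub_self]
  exact sub_eq_zero.mp (ygen_torsionFree R p u hu χ 1 _ h0)

end MuP

end Groth.Agent.Helper6.OT
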