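import Mathlib
import Groth.Prelude.Def_W4c5ffgsreadingcourseOT
import Groth.Prelude.Def_CartDual
import Groth.Agent.Lib.Helper27.OT468d
import Groth.Agent.Lib.Helper6.OT7

/-!
# Oort–Tate: the Cartier dual; power maps on the dual are transposes; eigenspaces of the dual
-/

set_option autoImplicit false
set_option linter.unusedSectionVars false
universe u

open scoped TensorProduct
open WithConv

namespace Groth.Agent.Helper6.OT

open Groth.Agent.Helper27.OT468

section Dual
variable (R : Type u) [CommRing R] (A : Type u) [CommRing A] [HopfAlgebra R A]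
  [Coalgebra.IsCocomm R A] [Module.Finite R A] [Module.Projective R A]

theorem ofConv_mul'_rTensor (f : CartDual.D R A →ₗ[R] CartDual.D R A) (φ : A →ₗ[R] A)
    (hf : ∀ x : CartDual.D R A, (f x).ofConv = x.ofConv ∘ₗ φ)
    (y : CartDual.D R A ⊗[R] CartDual.D R A) :
    (LinearMap.mul' R (CartDual.D R A) (f.rTensor (CartDual.D R A) y)).ofConv =
      CartDual.ev₂ R A y ∘ₗ φ.rTensor A ∘ₗ Coalgebra.comul := by
  induction y using TensorProduct.induction_on with
  | zero => simp
  | add y₁ y₂ h₁ h₂ => simp only [map_add, WithConv.ofConv_add, h₁, h₂, LinearMap.add_comp]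
  | tmul x z =>
    rw [LinearMap.rTensor_tmul, LinearMap.mul'_apply, LinearMap.convMul_def, WithConv.ofConv_toConv,
      hf, CartDual.ev₂_tmul_eq', LinearMap.comp_assoc]
    congr 1
    apply LinearMap.ext; intro a
    simp only [LinearMap.coe_comp, Function.comp_apply]
    generalize Coalgebra.comul (R := R) a = t
    induction t using TensorProduct.induction_on with
    | zero => simp only [map_zero]
    | tmul b c => rfl
    | add t t' ht ht' => simp only [map_add, ht, ht']

theorem linPow_dual (n : ℕ) (ξ : CartDual.D R A) :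
    (((toConv (LinearMap.id : CartDual.D R A →ₗ[R] CartDual.D R A)) ^ n).ofConv ξ).ofConv =
      ξ.ofConv ∘ₗ ((toConv (LinearMap.id : A →ₗ[R] A)) ^ n).ofConv := by
  induction n generalizing ξ with
  | zero =>
    rw [pow_zero, pow_zero]
    apply LinearMap.ext
    intro a
    show ((algebraMap R (CartDual.D R A)) (Coalgebra.counit (R := R) ξ)).ofConv a =
      ξ.ofConv (algebraMap R A (Coalgebra.counit (R := R) a))
    rw [Algebra.algebraMap_eq_smul_one, Algebra.algebraMap_eq_smul_one, map_smul,
      WithConv.ofConv_smul, LinearMap.smul_apply]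
    show Coalgebra.counit (R := R) ξ • algebraMap R R (Coalgebra.counit (R := R) a) = _
    rw [CartDual.coalgebra_counit_apply, CartDual.coe_apply, Algebra.algebraMap_self_apply,
      smul_eq_mul, smul_eq_mul, mul_comm]
  | succ n ih =>
    rw [pow_succ, pow_succ]
    show (LinearMap.mul' R (CartDual.D R A)
      ((((toConv (LinearMap.id : CartDual.D R A →ₗ[R] CartDual.D R A)) ^ n).ofConv).rTensor
        (CartDual.D R A) (Coalgebra.comul ξ))).ofConv = _
    rw [ofConv_mul'_rTensor R A _ _ ih, CartDual.comul_def, CartDual.ev₂_comul]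
    apply LinearMap.ext
    intro a
    rfl

theorem powConv_dual_apply (n : ℕ) (ξ : CartDual.D R A) (a : A) :
    (SGA3b.powConv R (CartDual.D R A) n ξ).ofConv a = ξ.ofConv (SGA3b.powConv R A n a) := by
  have h1 : (SGA3b.powConv R (CartDual.D R A) n).toLinearMap =
      ((toConv (LinearMap.id : CartDual.D R A →ₗ[R] CartDual.D R A)) ^ n).ofConv :=
    congrArg WithConv.ofConv (AlgHom.toLinearMap_convPow (toConv (AlgHom.id R (CartDual.D R A))) n)
  have h2 : (SGA3b.powConv R A n).toLinearMap =
      ((toConv (LinearMap.id : A →ₗ[R] A)) ^ n).ofConv :=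
    congrArg WithConv.ofConv (AlgHom.toLinearMap_convPow (toConv (AlgHom.id R A)) n)
  have h3 := linPow_dual R A n ξ
  rw [← h1, ← h2] at h3
  exact LinearMap.congr_fun h3 a

variable (p : ℕ) [Fact p.Prime] (u : R) (hu : u * ((p - 1 : ℕ) : R) = 1) (χ : (ZMod p)ˣ →* Rˣ)
  (hχ : ∀ m : (ZMod p)ˣ, m ≠ 1 → IsUnit ((χ m : R) - 1))
  (hp : (toConv (AlgHom.id R A)) ^ p = 1)

theorem mem_eigenAug_dual_iff (i : ℕ) (ξ : CartDual.D R A) :
    ξ ∈ OortTate.eigenAug R (CartDual.D R A) p χ i ↔ ξ.ofConv 1 = 0 ∧
      ∀ (m : (ZMod p)ˣ) (a : A), ξ.ofConv (SGA3b.powConv R A (m : ZMod p).val a) =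
        ((χ m : Rˣ) : R) ^ i * ξ.ofConv a := by
  rw [mem_eigenAug_iff']
  constructor
  · rintro ⟨h1, h2⟩
    refine ⟨h1, fun m a => ?_⟩
    rw [← powConv_dual_apply, h2 m]
    rfl
  · rintro ⟨h1, h2⟩
    refine ⟨h1, fun m => ?_⟩
    apply WithConv.ext
    apply LinearMap.ext
    intro a
    rw [powConv_dual_apply, h2 m a]
    rfl

end Dual

section Comm
variable (R : Type u) [CommRing R] (A : Type u) [CommRing A] [HopfAlgebra R A]
  (p : ℕ) [Fact p.Prime] (u : R) (hu : u * ((p - 1 : ℕ) : R) = 1) (χ : (ZMod p)ˣ →* Rˣ)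
  (hp : (toConv (AlgHom.id R A)) ^ p = 1)

include hp in
theorem proj_comm_powConv (i : ℕ) (m : (ZMod p)ˣ) (a : A) :
    OortTate.proj R A p u χ i (SGA3b.powConv R A (m : ZMod p).val a) =
      SGA3b.powConv R A (m : ZMod p).val (OortTate.proj R A p u χ i a) := by
  have h : ∀ m' : (ZMod p)ˣ, Commute (rho (R := R) (A := A) p hp m) (rho p hp m') := by
    intro m'
    rw [commute_iff_eq, ← map_mul, ← map_mul, mul_comm]
  have hc : Commute (rho (R := R) (A := A) p hp m) (OortTate.proj R A p u χ i) := by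
    rw [proj_eq p hp]
    exact Commute.smul_right (Commute.sum_right _ _ _
      (fun m' _ => Commute.smul_right (h m') _)) u
  exact (LinearMap.congr_fun hc.eq a).symm

include hu hp in
theorem eigenProj_powConv (i : ℕ) (m : (ZMod p)ˣ) (a : A) :
    eigenProj R A p u χ i (SGA3b.powConv R A (m : ZMod p).val a) =
      (((χ m : Rˣ) : R) ^ i) • eigenProj R A p u χ i a := by
  have h1 : augProj R A (SGA3b.powConv R A (m : ZMod p).val a) =
      SGA3b.powConv R A (m : ZMod p).val (augProj R A a) := by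
    rw [augProj_apply, augProj_apply, map_sub, AlgHom.commutes]
    congr 2
    exact DFunLike.congr_fun (counit_comp_powConv (R := R) (A := A) (m : ZMod p).val) a
  show OortTate.proj R A p u χ i (augProj R A (SGA3b.powConv R A (m : ZMod p).val a)) = _
  rw [h1, proj_comm_powConv R A p u χ hp]
  exact ((mem_eigenAug_iff' p χ i _).mp (eigenProj_mem R A p u hu χ hp i a)).2 m

theorem eigenProj_one (i : ℕ) : eigenProj R A p u χ i 1 = 0 := by
  show OortTate.proj R A p u χ i (augProj R A 1) = 0
  rw [augProj_apply, map_one, map_one, sub_self, map_zero]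

end Comm

section Dual2
variable (R : Type u) [CommRing R] (A : Type u) [CommRing A] [HopfAlgebra R A]
  [Coalgebra.IsCocomm R A] [Module.Finite R A] [Module.Projective R A]
  (p : ℕ) [Fact p.Prime] (u : R) (hu : u * ((p - 1 : ℕ) : R) = 1) (χ : (ZMod p)ˣ →* Rˣ)
  (hχ : ∀ m : (ZMod p)ˣ, m ≠ 1 → IsUnit ((χ m : R) - 1))
  (hp : (toConv (AlgHom.id R A)) ^ p = 1)

include hu in
theorem dual_apply_eigenProj (i : ℕ) (ξ : CartDual.D R A)
    (hξ : ξ ∈ OortTate.eigenAug R (CartDual.D R A) p χ i) (a : A) :
    ξ.ofConv (eigenProj R A p u χ i a) = ξ.ofConv a := by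
  obtain ⟨h1, h2⟩ := (mem_eigenAug_dual_iff R A p χ i ξ).mp hξ
  have h3 : ξ.ofConv (augProj R A a) = ξ.ofConv a := by
    rw [augProj_apply, map_sub, Algebra.algebraMap_eq_smul_one, map_smul, h1, smul_zero, sub_zero]
  show ξ.ofConv (OortTate.proj R A p u χ i (augProj R A a)) = _
  unfold OortTate.proj
  rw [LinearMap.smul_apply, LinearMap.sum_apply, map_smul, map_sum]
  have h4 : ∀ m : (ZMod p)ˣ, ξ.ofConv (((((χ m⁻¹ : Rˣ) : R) ^ i) •
      (SGA3b.powConv R A (m : ZMod p).val).toLinearMap) (augProj R A a)) = ξ.ofConv a := by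
    intro m
    rw [LinearMap.smul_apply, map_smul, AlgHom.toLinearMap_apply, h2 m, h3, smul_eq_mul,
      ← mul_assoc, ← mul_pow, ← Units.val_mul, ← map_mul, inv_mul_cancel, map_one, Units.val_one,
      one_pow, one_mul]
  rw [Finset.sum_congr rfl (fun m _ => h4 m), Finset.sum_const, Finset.card_univ,
    ZMod.card_units, nsmul_eq_mul, smul_eq_mul, ← mul_assoc, hu, one_mul]

include hu hp in
theorem dual_restrict_bijective (i : ℕ) :
    Function.Bijective (fun f : OortTate.eigenAug R (CartDual.D R A) p χ i =>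
      ((CartDual.toDual R A) (f : CartDual.D R A)).comp
        (OortTate.eigenAug R A p χ i).subtype) := by
  constructor
  · intro f g hfg
    apply Subtype.ext
    apply WithConv.ext
    apply LinearMap.ext
    intro a
    have hf := dual_apply_eigenProj R A p u hu χ i f.1 f.2 a
    have hg := dual_apply_eigenProj R A p u hu χ i g.1 g.2 a
    rw [← hf, ← hg]
    exact LinearMap.congr_fun hfg ⟨eigenProj R A p u χ i a, eigenProj_mem R A p u hu χ hp i a⟩
  · intro l
    refine ⟨⟨toConv (l ∘ₗ eigenRetr R A p u hu χ hp i), ?_⟩, ?_⟩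
    · rw [mem_eigenAug_dual_iff]
      refine ⟨?_, fun m a => ?_⟩
      · show l (eigenRetr R A p u hu χ hp i 1) = 0
        have h0 : eigenRetr R A p u hu χ hp i 1 = 0 := Subtype.ext (eigenProj_one R A p u χ i)
        rw [h0, map_zero]
      · show l (eigenRetr R A p u hu χ hp i (SGA3b.powConv R A (m : ZMod p).val a)) =
          ((χ m : Rˣ) : R) ^ i * l (eigenRetr R A p u hu χ hp i a)
        have h0 : eigenRetr R A p u hu χ hp i (SGA3b.powConv R A (m : ZMod p).val a) =
            (((χ m : Rˣ) : R) ^ i) • eigenRetr R A p u hu χ hp i a :=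
          Subtype.ext (eigenProj_powConv R A p u hu χ hp i m a)
        rw [h0, map_smul, smul_eq_mul]
    · apply LinearMap.ext
      intro e
      show l (eigenRetr R A p u hu χ hp i (e : A)) = l e
      congr 1
      exact LinearMap.congr_fun (eigenRetr_comp_subtype R A p u hu χ hp i) e

end Dual2

end Groth.Agent.Helper6.OT
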