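import Mathlib
import Groth.Prelude.Def_W4c5ffgsreadingcourseOT
import Groth.Prelude.Def_CartDual
import Groth.Agent.Lib.Helper27.OT468d
import Groth.Agent.Lib.Helper6.OT8

/-!
# Oort–Tate: the canonical element of `A ⊗ A^D`, the map `Θ : A ⊗ A^D ≃ End(A)` and the Cartier
pairing `ϕ : R[ℤ/p] → A ⊗ A^D`.
-/

set_option autoImplicit false
set_option linter.unusedSectionVars false
universe u

open scoped TensorProduct
open WithConv

namespace Groth.Agent.Helper6.OT

open Groth.Agent.Helper27.OT468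

section RankOne
variable (R : Type u) [CommRing R] (A : Type u) [CommRing A] [HopfAlgebra R A]
  [Module.Finite R A] [Module.Projective R A]
  (p : ℕ) [Fact p.Prime] (u : R) (hu : u * ((p - 1 : ℕ) : R) = 1) (χ : (ZMod p)ˣ →* Rˣ)
  (hχ : ∀ m : (ZMod p)ˣ, m ≠ 1 → IsUnit ((χ m : R) - 1))
  (hχp : ∀ m : (ZMod p)ˣ, ((χ m : Rˣ) : R) - (((m : ZMod p).val : ℕ) : R) ∈
    Ideal.span ({(p : R)} : Set R))
  (hp : (toConv (AlgHom.id R A)) ^ p = 1)
  (hrk : ∀ q : PrimeSpectrum R, Module.rankAtStalk A q = p)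

include hu hχ hχp hp hrk in
/-- In an invertible module, `l(y) x = l(x) y`. -/
theorem rank_one_identity (t : ℕ) (h1 : 1 ≤ t) (h2 : t ≤ p - 1) (x y : A)
    (hx : x ∈ OortTate.eigenAug R A p χ t) (hy : y ∈ OortTate.eigenAug R A p χ t)
    (l : A →ₗ[R] R) : l y • x = l x • y := by
  rw [← sub_eq_zero]
  apply eq_zero_of_forall_maximal (R := R)
  intro 𝔪 h𝔪
  obtain ⟨e, heE, hgen, -⟩ := exists_local_gen R A p u hu χ hχ hχp hp hrk 𝔪
  obtain ⟨r, hr, hrx⟩ := hgen t h1 h2
  obtain ⟨a, ha⟩ := hrx x hx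
  obtain ⟨b, hb⟩ := hrx y hy
  have hrm : r ∉ 𝔪 := by
    intro hrm
    apply h𝔪.ne_top
    rw [Ideal.eq_top_iff_one]
    have := 𝔪.sub_mem hrm hr
    simpa using this
  refine ⟨r * r, fun h => (h𝔪.isPrime.mem_or_mem h).elim hrm hrm, ?_⟩
  have e1 : (r * r) • (l y • x - l x • y) = l (r • y) • (r • x) - l (r • x) • (r • y) := by
    rw [map_smul, map_smul, smul_sub, smul_smul, smul_smul, smul_smul, smul_smul, smul_eq_mul,
      smul_eq_mul]
    congr 2 <;> ring
  rw [e1, ha, hb, map_smul, map_smul, smul_smul, smul_smul, smul_eq_mul, smul_eq_mul, sub_eq_zero]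
  congr 1
  ring

include hu hχ hχp hp hrk in
theorem eigenAug_faithful (t : ℕ) (h1 : 1 ≤ t) (h2 : t ≤ p - 1) (r : R)
    (h : ∀ x ∈ OortTate.eigenAug R A p χ t, r • x = 0) : r = 0 := by
  apply eq_zero_of_forall_maximal (R := R) (M := R)
  intro 𝔪 h𝔪
  obtain ⟨e, heE, -, htf⟩ := exists_local_gen R A p u hu χ hχ hχp hp hrk 𝔪
  have het : e ^ t ∈ OortTate.eigenAug R A p χ t := pow_mem_eigenAug p χ heE t h1
  obtain ⟨s, hs, hsr⟩ := htf t h1 h2 r (h _ het)
  exact ⟨s, hs, by rw [smul_eq_mul, hsr]⟩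

end RankOne

section Abstract
variable (R : Type u) [CommRing R] (A : Type u) [CommRing A] [HopfAlgebra R A]
  (p : ℕ) [Fact p.Prime] (u : R) (χ : (ZMod p)ˣ →* Rˣ)
  {S : Type*} [Ring S] [Algebra R S] (Θ : S →ₗ[R] (A →ₗ[R] A))
  (hΘ1 : toConv (Θ 1) = 1)
  (hΘm : ∀ z z' : S, toConv (Θ (z * z')) = toConv (Θ z) * toConv (Θ z'))
  (δ : S) (hδ : Θ δ = LinearMap.id)
  (ϕ : MonoidAlgebra R (Multiplicative (ZMod p)) →ₐ[R] S)
  (hϕ : ϕ (OortTate.muT R p) = δ)

include hΘ1 hΘm in
theorem abstract_pow (z : S) (n : ℕ) : toConv (Θ (z ^ n)) = toConv (Θ z) ^ n := by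
  induction n with
  | zero => rw [pow_zero, pow_zero, hΘ1]
  | succ n ih => rw [pow_succ, pow_succ, hΘm, ih]

include hΘ1 hΘm hδ hϕ in
theorem abstract_phi_single (n : ℕ) :
    Θ (ϕ (MonoidAlgebra.single (Multiplicative.ofAdd ((n : ℕ) : ZMod p)) 1)) =
      (SGA3b.powConv R A n).toLinearMap := by
  have h1 : MonoidAlgebra.single (Multiplicative.ofAdd ((n : ℕ) : ZMod p)) (1 : R) =
      (OortTate.muT R p) ^ n := by
    show _ = (MonoidAlgebra.single (Multiplicative.ofAdd 1) 1) ^ n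
    rw [MonoidAlgebra.single_pow, one_pow, ← ofAdd_nsmul, nsmul_eq_mul, mul_one]
  rw [h1, map_pow, hϕ]
  have h2 := abstract_pow R A Θ hΘ1 hΘm δ n
  rw [hδ] at h2
  have h3 : (SGA3b.powConv R A n).toLinearMap =
      ((toConv (LinearMap.id : A →ₗ[R] A)) ^ n).ofConv :=
    congrArg WithConv.ofConv (AlgHom.toLinearMap_convPow (toConv (AlgHom.id R A)) n)
  rw [h3, ← h2, WithConv.ofConv_toConv]

include hΘ1 hΘm hδ hϕ in
theorem abstract_phi_ygen (i : ℕ) :
    Θ (ϕ (OortTate.ygen R p u χ i)) = eigenProj R A p u χ i := by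
  rw [ygen_eq, map_smul, map_sum, map_smul, map_sum]
  apply LinearMap.ext
  intro b
  show _ = OortTate.proj R A p u χ i (augProj R A b)
  unfold OortTate.proj
  rw [LinearMap.smul_apply, LinearMap.sum_apply, LinearMap.smul_apply, LinearMap.sum_apply]
  congr 1
  apply Finset.sum_congr rfl
  intro m _
  rw [map_smul, map_smul, LinearMap.smul_apply, LinearMap.smul_apply, map_sub, map_sub, map_one]
  congr 1
  have h1 := abstract_phi_single R A p Θ hΘ1 hΘm δ hδ ϕ hϕ (m : ZMod p).val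
  rw [ZMod.natCast_zmod_val] at h1
  rw [LinearMap.sub_apply, h1, AlgHom.toLinearMap_apply, AlgHom.toLinearMap_apply, augProj_apply,
    map_sub, AlgHom.commutes]
  congr 1
  have h2 := congrArg WithConv.ofConv hΘ1
  rw [WithConv.ofConv_toConv] at h2
  rw [h2]
  rfl

end Abstract

section Theta
variable (R : Type u) [CommRing R] (A : Type u) [CommRing A] [HopfAlgebra R A]
  [Coalgebra.IsCocomm R A] [Module.Finite R A] [Module.Projective R A]

/-- `Θ : A ⊗ A^D ≃ End_R(A)`, `a ⊗ ξ ↦ ξ(·) a`. -/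
noncomputable def thetaEquiv : A ⊗[R] CartDual.D R A ≃ₗ[R] (A →ₗ[R] A) :=
  (TensorProduct.congr (LinearEquiv.refl R A) (CartDual.toDual R A)) ≪≫ₗ
    (TensorProduct.comm R A (Module.Dual R A)) ≪≫ₗ dualTensorHomEquiv R A A

theorem thetaEquiv_tmul (a : A) (ξ : CartDual.D R A) (b : A) :
    thetaEquiv R A (a ⊗ₜ ξ) b = ξ.ofConv b • a := rfl

theorem thetaEquiv_one : toConv (thetaEquiv R A 1) = 1 := by
  apply WithConv.ext
  apply LinearMap.ext
  intro b
  rw [Algebra.TensorProduct.one_def, WithConv.ofConv_toConv, thetaEquiv_tmul]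
  show (algebraMap R R (Coalgebra.counit b)) • (1 : A) = algebraMap R A (Coalgebra.counit b)
  rw [Algebra.algebraMap_self_apply, Algebra.algebraMap_eq_smul_one]

theorem thetaEquiv_mul (z z' : A ⊗[R] CartDual.D R A) :
    toConv (thetaEquiv R A (z * z')) = toConv (thetaEquiv R A z) * toConv (thetaEquiv R A z') := by
  let _ : Semiring (A ⊗[R] CartDual.D R A) := inferInstance
  induction z using TensorProduct.induction_on with
  | zero => rw [zero_mul, map_zero, WithConv.toConv_zero, zero_mul]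
  | add z₁ z₂ h₁ h₂ =>
    rw [add_mul, map_add, WithConv.toConv_add, h₁, h₂, map_add, WithConv.toConv_add, add_mul]
  | tmul a ξ =>
    induction z' using TensorProduct.induction_on with
    | zero => rw [mul_zero, map_zero, WithConv.toConv_zero, mul_zero]
    | add z₁ z₂ h₁ h₂ =>
      rw [mul_add, map_add, WithConv.toConv_add, h₁, h₂, map_add, WithConv.toConv_add, mul_add]
    | tmul a' ξ' =>
      rw [Algebra.TensorProduct.tmul_mul_tmul]
      apply WithConv.ext
      apply LinearMap.ext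
      intro b
      rw [WithConv.ofConv_toConv, thetaEquiv_tmul]
      show (LinearMap.mul' R R (TensorProduct.map ξ.ofConv ξ'.ofConv (Coalgebra.comul b))) •
          (a * a') =
        LinearMap.mul' R A (TensorProduct.map (thetaEquiv R A (a ⊗ₜ ξ))
          (thetaEquiv R A (a' ⊗ₜ ξ')) (Coalgebra.comul b))
      generalize Coalgebra.comul (R := R) b = t
      induction t using TensorProduct.induction_on with
      | zero => simp only [map_zero, zero_smul]
      | tmul b1 b2 =>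
        rw [TensorProduct.map_tmul, TensorProduct.map_tmul, LinearMap.mul'_apply,
          LinearMap.mul'_apply, thetaEquiv_tmul, thetaEquiv_tmul, smul_mul_smul_comm]
      | add t t' ht ht' => simp only [map_add, add_smul, ht, ht']

theorem thetaEquiv_apply_eq (z : A ⊗[R] CartDual.D R A) (b : A) :
    thetaEquiv R A z b = TensorProduct.rid R A (LinearMap.lTensor A
      ((Module.Dual.eval R A b) ∘ₗ (CartDual.toDual R A).toLinearMap) z) := by
  induction z using TensorProduct.induction_on with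
  | zero => simp only [map_zero, LinearMap.zero_apply]
  | tmul a ξ =>
    rw [thetaEquiv_tmul, LinearMap.lTensor_tmul, TensorProduct.rid_tmul]
    rfl
  | add z₁ z₂ h₁ h₂ => simp only [map_add, LinearMap.add_apply, h₁, h₂]

theorem thetaEquiv_eq_id (δ : A ⊗[R] CartDual.D R A)
    (hδ : ∀ a : A, TensorProduct.rid R A (LinearMap.lTensor A
      ((Module.Dual.eval R A a) ∘ₗ (CartDual.toDual R A).toLinearMap) δ) = a) :
    thetaEquiv R A δ = LinearMap.id := by
  apply LinearMap.ext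
  intro b
  rw [thetaEquiv_apply_eq, hδ b, LinearMap.id_apply]

variable (p : ℕ) [Fact p.Prime] (u : R) (hu : u * ((p - 1 : ℕ) : R) = 1) (χ : (ZMod p)ˣ →* Rˣ)
  (hχ : ∀ m : (ZMod p)ˣ, m ≠ 1 → IsUnit ((χ m : R) - 1))
  (hχp : ∀ m : (ZMod p)ˣ, ((χ m : Rˣ) : R) - (((m : ZMod p).val : ℕ) : R) ∈
    Ideal.span ({(p : R)} : Set R))
  (hp : (toConv (AlgHom.id R A)) ^ p = 1)
  (hrk : ∀ q : PrimeSpectrum R, Module.rankAtStalk A q = p)
  (δ : A ⊗[R] CartDual.D R A)
  (hδ : ∀ a : A, TensorProduct.rid R A (LinearMap.lTensor A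
    ((Module.Dual.eval R A a) ∘ₗ (CartDual.toDual R A).toLinearMap) δ) = a)
  (ϕ : MonoidAlgebra R (Multiplicative (ZMod p)) →ₐ[R] A ⊗[R] CartDual.D R A)
  (hϕ : ϕ (OortTate.muT R p) = δ)

include hδ hϕ in
theorem theta_phi_ygen (i : ℕ) :
    thetaEquiv R A (ϕ (OortTate.ygen R p u χ i)) = eigenProj R A p u χ i :=
  abstract_phi_ygen R A p u χ (thetaEquiv R A).toLinearMap (thetaEquiv_one R A)
    (thetaEquiv_mul R A) δ (thetaEquiv_eq_id R A δ hδ) ϕ hϕ i

/-- the transpose of `eigenProj` on the dual -/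
noncomputable def dualPre (i : ℕ) : CartDual.D R A →ₗ[R] CartDual.D R A :=
  (CartDual.toDual R A).symm.toLinearMap ∘ₗ (eigenProj R A p u χ i).dualMap ∘ₗ
    (CartDual.toDual R A).toLinearMap

theorem ofConv_dualPre (i : ℕ) (ξ : CartDual.D R A) :
    (dualPre R A p u χ i ξ).ofConv = ξ.ofConv ∘ₗ eigenProj R A p u χ i := rfl

include hu hp in
theorem dualPre_mem (i : ℕ) (ξ : CartDual.D R A) :
    dualPre R A p u χ i ξ ∈ OortTate.eigenAug R (CartDual.D R A) p χ i := by
  rw [mem_eigenAug_dual_iff]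
  refine ⟨?_, fun m a => ?_⟩
  · show ξ.ofConv (eigenProj R A p u χ i 1) = 0
    rw [eigenProj_one, map_zero]
  · show ξ.ofConv (eigenProj R A p u χ i (SGA3b.powConv R A (m : ZMod p).val a)) =
      _ * ξ.ofConv (eigenProj R A p u χ i a)
    rw [eigenProj_powConv R A p u hu χ hp, map_smul, smul_eq_mul]

/-- retraction of `A^D` onto its eigenspace -/
noncomputable def dualRetr (i : ℕ) :
    CartDual.D R A →ₗ[R] OortTate.eigenAug R (CartDual.D R A) p χ i :=
  (dualPre R A p u χ i).codRestrict _ (dualPre_mem R A p u hu χ hp i)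

theorem theta_map_retr (i : ℕ) (z : A ⊗[R] CartDual.D R A) :
    thetaEquiv R A (TensorProduct.map
      ((OortTate.eigenAug R A p χ i).subtype ∘ₗ eigenRetr R A p u hu χ hp i)
      ((OortTate.eigenAug R (CartDual.D R A) p χ i).subtype ∘ₗ dualRetr R A p u hu χ hp i) z) =
      eigenProj R A p u χ i ∘ₗ thetaEquiv R A z ∘ₗ eigenProj R A p u χ i := by
  induction z using TensorProduct.induction_on with
  | zero => simp only [map_zero, LinearMap.zero_comp, LinearMap.comp_zero]
  | tmul a ξ =>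
    apply LinearMap.ext
    intro b
    rw [TensorProduct.map_tmul, thetaEquiv_tmul]
    show ξ.ofConv (eigenProj R A p u χ i b) • eigenProj R A p u χ i a =
      eigenProj R A p u χ i (thetaEquiv R A (a ⊗ₜ ξ) (eigenProj R A p u χ i b))
    rw [thetaEquiv_tmul, map_smul]
  | add z₁ z₂ h₁ h₂ => simp only [map_add, h₁, h₂, LinearMap.add_comp, LinearMap.comp_add]

include hu hχ hχp hp hrk hδ hϕ in
theorem tmul_eq_smul_phi_ygen (x : A) (hx : x ∈ OortTate.eigenAug R A p χ 1)
    (ξ : CartDual.D R A) (hξ : ξ ∈ OortTate.eigenAug R (CartDual.D R A) p χ 1) :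
    x ⊗ₜ[R] ξ = ξ.ofConv x • ϕ (OortTate.ygen R p u χ 1) := by
  have hp2 := (Fact.out : p.Prime).two_le
  apply (thetaEquiv R A).injective
  rw [map_smul, theta_phi_ygen R A p u χ δ hδ ϕ hϕ 1]
  apply LinearMap.ext
  intro b
  rw [thetaEquiv_tmul, LinearMap.smul_apply, ← dual_apply_eigenProj R A p u hu χ 1 ξ hξ b]
  exact rank_one_identity R A p u hu χ hχ hχp hp hrk 1 le_rfl (by omega) x
    (eigenProj R A p u χ 1 b) hx (eigenProj_mem R A p u hu χ hp 1 b) ξ.ofConv

include hu hχ hχp hp hrk hδ hϕ in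
theorem span_phi_ygen :
    Submodule.span R {ϕ (OortTate.ygen R p u χ 1)} =
      LinearMap.range (TensorProduct.map (OortTate.eigenAug R A p χ 1).subtype
        (OortTate.eigenAug R (CartDual.D R A) p χ 1).subtype) := by
  apply le_antisymm
  · rw [Submodule.span_le, Set.singleton_subset_iff, SetLike.mem_coe]
    have h1 : thetaEquiv R A (TensorProduct.map
        ((OortTate.eigenAug R A p χ 1).subtype ∘ₗ eigenRetr R A p u hu χ hp 1)
        ((OortTate.eigenAug R (CartDual.D R A) p χ 1).subtype ∘ₗ dualRetr R A p u hu χ hp 1)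
        (ϕ (OortTate.ygen R p u χ 1))) = thetaEquiv R A (ϕ (OortTate.ygen R p u χ 1)) := by
      rw [theta_map_retr, theta_phi_ygen R A p u χ δ hδ ϕ hϕ 1]
      apply LinearMap.ext
      intro b
      show eigenProj R A p u χ 1 (eigenProj R A p u χ 1 (eigenProj R A p u χ 1 b)) = _
      rw [eigenProj_apply_of_mem R A p u hu χ hp 1 _ (eigenProj_mem R A p u hu χ hp 1 _),
        eigenProj_apply_of_mem R A p u hu χ hp 1 _ (eigenProj_mem R A p u hu χ hp 1 _)]
    have h2 := (thetaEquiv R A).injective h1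
    rw [TensorProduct.map_comp, LinearMap.comp_apply] at h2
    exact ⟨_, h2⟩
  · rintro _ ⟨t, rfl⟩
    induction t using TensorProduct.induction_on with
    | zero => rw [map_zero]; exact Submodule.zero_mem _
    | tmul x ξ =>
      rw [TensorProduct.map_tmul]
      show (x : A) ⊗ₜ[R] (ξ : CartDual.D R A) ∈ _
      rw [tmul_eq_smul_phi_ygen R A p u hu χ hχ hχp hp hrk δ hδ ϕ hϕ x.1 x.2 ξ.1 ξ.2]
      exact Submodule.smul_mem _ _ (Submodule.mem_span_singleton_self _)
    | add t t' ht ht' => rw [map_add]; exact Submodule.add_mem _ ht ht'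

include hu hχ hχp hp hrk hδ hϕ in
theorem phi_ygen_torsionFree (r : R) (h : r • ϕ (OortTate.ygen R p u χ 1) = 0) : r = 0 := by
  have hp2 := (Fact.out : p.Prime).two_le
  apply eigenAug_faithful R A p u hu χ hχ hχp hp hrk 1 le_rfl (by omega) r
  intro x hx
  have h1 := congrArg (thetaEquiv R A) h
  rw [map_smul, theta_phi_ygen R A p u χ δ hδ ϕ hϕ 1, map_zero] at h1
  have h2 := LinearMap.congr_fun h1 x
  rw [LinearMap.smul_apply, eigenProj_apply_of_mem R A p u hu χ hp 1 x hx,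
    LinearMap.zero_apply] at h2
  exact h2

end Theta

end Groth.Agent.Helper6.OT
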