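import Mathlib
import Groth.Prelude.Def_W4c5ffgsreadingcourseOT
import Groth.Agent.Lib.Helper27.OT468d
import Groth.Agent.Lib.Helper6.OT9

/-!
# Oort–Tate: presentation of `A` as the tensor algebra of `I_1` modulo the relations
`x_1 ⋯ x_p = g`.
-/

set_option autoImplicit false
set_option linter.unusedSectionVars false
universe u

open scoped TensorProduct
open WithConv

namespace Groth.Agent.Helper6.OT

open Groth.Agent.Helper27.OT468

section AL
variable {R : Type*} [CommRing R] {T : Type*} [Ring T] [Algebra R T] (J : Ideal T)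
  (E : T) (r α : R) (p : ℕ)

/-- reducibility predicate -/
def Red (w : T) : Prop :=
  ∃ N : ℕ, ∃ v ∈ Submodule.span R (Set.range fun t : Fin p => E ^ (t : ℕ)), r ^ N • w - v ∈ J

theorem smul_mem_J (c : R) (j : T) (hj : j ∈ J) : c • j ∈ J := by
  rw [Algebra.smul_def]
  exact J.mul_mem_left _ hj

theorem Red.add {w1 w2 : T} (h1 : Red J E r p w1) (h2 : Red J E r p w2) :
    Red J E r p (w1 + w2) := by
  obtain ⟨N1, v1, hv1, hj1⟩ := h1
  obtain ⟨N2, v2, hv2, hj2⟩ := h2
  refine ⟨N1 + N2, r ^ N2 • v1 + r ^ N1 • v2,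
    Submodule.add_mem _ (Submodule.smul_mem _ _ hv1) (Submodule.smul_mem _ _ hv2), ?_⟩
  have : r ^ (N1 + N2) • (w1 + w2) - (r ^ N2 • v1 + r ^ N1 • v2) =
      r ^ N2 • (r ^ N1 • w1 - v1) + r ^ N1 • (r ^ N2 • w2 - v2) := by
    rw [pow_add]
    module
  rw [this]
  exact J.add_mem (smul_mem_J J _ _ hj1) (smul_mem_J J _ _ hj2)

theorem Red.smul {w : T} (c : R) (h : Red J E r p w) : Red J E r p (c • w) := by
  obtain ⟨N, v, hv, hj⟩ := h
  refine ⟨N, c • v, Submodule.smul_mem _ _ hv, ?_⟩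
  have : r ^ N • c • w - c • v = c • (r ^ N • w - v) := by module
  rw [this]
  exact smul_mem_J J _ _ hj

theorem Red.zero : Red J E r p (0 : T) :=
  ⟨0, 0, Submodule.zero_mem _, by rw [smul_zero, sub_zero]; exact J.zero_mem⟩

theorem Red.of_mem {v : T}
    (hv : v ∈ Submodule.span R (Set.range fun t : Fin p => E ^ (t : ℕ))) : Red J E r p v :=
  ⟨0, v, hv, by rw [pow_zero, one_smul, sub_self]; exact J.zero_mem⟩

theorem Red.step {w w' : T} (h : Red J E r p w') (hj : r • w - w' ∈ J) : Red J E r p w := by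
  obtain ⟨N, v, hv, hj'⟩ := h
  refine ⟨N + 1, v, hv, ?_⟩
  have : r ^ (N + 1) • w - v = r ^ N • (r • w - w') + (r ^ N • w' - v) := by
    rw [pow_succ]
    module
  rw [this]
  exact J.add_mem (smul_mem_J J _ _ hj) hj'

variable (hp2 : 2 ≤ p) (h2 : r • E ^ p - α • E ∈ J)

include hp2 h2 in
theorem red_pow (t : ℕ) : Red J E r p (E ^ t) := by
  induction t using Nat.strong_induction_on with
  | _ t ih =>
    by_cases ht : t < p
    · exact Red.of_mem J E r p (Submodule.subset_span ⟨⟨t, ht⟩, rfl⟩)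
    · push Not at ht
      have ht' : t - p + 1 < t := by omega
      have h3 : r • E ^ t - α • E ^ (t - p + 1) = E ^ (t - p) * (r • E ^ p - α • E) := by
        rw [mul_sub, mul_smul_comm, mul_smul_comm, ← pow_add, ← pow_succ]
        have : t - p + p = t := by omega
        rw [this]
      refine Red.step J E r p (Red.smul J E r p α (ih (t - p + 1) ht')) ?_
      rw [h3]
      exact J.mul_mem_left _ h2

include hp2 h2 in
theorem red_W (w : T) (hw : w ∈ Submodule.span R (Set.range fun t : ℕ => E ^ t)) :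
    Red J E r p w := by
  induction hw using Submodule.span_induction with
  | mem x hx =>
    obtain ⟨t, rfl⟩ := hx
    exact red_pow J E r α p hp2 h2 t
  | zero => exact Red.zero J E r p
  | add x y _ _ ihx ihy => exact Red.add J E r p ihx ihy
  | smul a x _ ih => exact Red.smul J E r p a ih

theorem mul_E_mem_W (w : T) (hw : w ∈ Submodule.span R (Set.range fun t : ℕ => E ^ t)) :
    E * w ∈ Submodule.span R (Set.range fun t : ℕ => E ^ t) := by
  induction hw using Submodule.span_induction with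
  | mem x hx =>
    obtain ⟨t, rfl⟩ := hx
    exact Submodule.subset_span ⟨t + 1, by simp only [pow_succ']⟩
  | zero => rw [mul_zero]; exact Submodule.zero_mem _
  | add x y _ _ ihx ihy => rw [mul_add]; exact Submodule.add_mem _ ihx ihy
  | smul a x _ ih => rw [mul_smul_comm]; exact Submodule.smul_mem _ _ ih

theorem V_le_W : Submodule.span R (Set.range fun t : Fin p => E ^ (t : ℕ)) ≤
    Submodule.span R (Set.range fun t : ℕ => E ^ t) := by
  apply Submodule.span_mono
  rintro _ ⟨t, rfl⟩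
  exact ⟨t, rfl⟩

variable {L : Type*} [AddCommGroup L] [Module R L] (ι : L →ₗ[R] T)
  (hind : ∀ (C : T → Prop), (∀ c, C (algebraMap R T c)) → (∀ x, C (ι x)) →
    (∀ a b, C a → C b → C (a * b)) → (∀ a b, C a → C b → C (a + b)) → ∀ z, C z)
  (h1 : ∀ x : L, ∃ a : R, r • ι x = a • E)

include hp2 h2 hind h1 in
theorem red_mul_W (z : T) :
    ∀ w ∈ Submodule.span R (Set.range fun t : ℕ => E ^ t), Red J E r p (z * w) := by
  refine hind (fun z => ∀ w ∈ Submodule.span R (Set.range fun t : ℕ => E ^ t),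
    Red J E r p (z * w)) ?_ ?_ ?_ ?_ z
  · intro c w hw
    rw [← Algebra.smul_def]
    exact red_W J E r α p hp2 h2 _ (Submodule.smul_mem _ _ hw)
  · intro x w hw
    obtain ⟨a, ha⟩ := h1 x
    refine Red.step J E r p (red_W J E r α p hp2 h2 (a • (E * w))
      (Submodule.smul_mem _ _ (mul_E_mem_W E w hw))) ?_
    rw [← smul_mul_assoc, ha, smul_mul_assoc, sub_self]
    exact J.zero_mem
  · intro z1 z2 ih1 ih2 w hw
    rw [mul_assoc]
    obtain ⟨N2, v2, hv2, hj2⟩ := ih2 w hw
    obtain ⟨N1, v1, hv1, hj1⟩ := ih1 v2 (V_le_W E p hv2)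
    refine ⟨N1 + N2, v1, hv1, ?_⟩
    have : r ^ (N1 + N2) • (z1 * (z2 * w)) - v1 =
        r ^ N1 • (z1 * (r ^ N2 • (z2 * w) - v2)) + (r ^ N1 • (z1 * v2) - v1) := by
      rw [pow_add, mul_sub, mul_smul_comm]
      module
    rw [this]
    exact J.add_mem (smul_mem_J J _ _ (J.mul_mem_left _ hj2)) hj1
  · intro z1 z2 ih1 ih2 w hw
    rw [add_mul]
    exact Red.add J E r p (ih1 w hw) (ih2 w hw)

include hp2 h2 hind h1 in
theorem reduce (z : T) :
    ∃ N : ℕ, ∃ q : Fin p → R, r ^ N • z - ∑ t : Fin p, q t • E ^ (t : ℕ) ∈ J := by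
  have h := red_mul_W J E r α p hp2 h2 ι hind h1 z 1
    (Submodule.subset_span ⟨0, pow_zero E⟩)
  rw [mul_one] at h
  obtain ⟨N, v, hv, hj⟩ := h
  obtain ⟨q, rfl⟩ := (Submodule.mem_span_range_iff_exists_fun R).mp hv
  exact ⟨N, q, hj⟩

end AL

section Presentation
variable (R : Type u) [CommRing R] (A : Type u) [CommRing A] [HopfAlgebra R A]
  [Module.Finite R A] [Module.Projective R A]
  (p : ℕ) [Fact p.Prime] (u : R) (hu : u * ((p - 1 : ℕ) : R) = 1) (χ : (ZMod p)ˣ →* Rˣ)
  (hχ : ∀ m : (ZMod p)ˣ, m ≠ 1 → IsUnit ((χ m : R) - 1))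
  (hχp : ∀ m : (ZMod p)ˣ, ((χ m : Rˣ) : R) - (((m : ZMod p).val : ℕ) : R) ∈
    Ideal.span ({(p : R)} : Set R))
  (hp : (toConv (AlgHom.id R A)) ^ p = 1)
  (hrk : ∀ q : PrimeSpectrum R, Module.rankAtStalk A q = p)

theorem proj_mod (n : ℕ) :
    OortTate.proj R A p u χ n = OortTate.proj R A p u χ (n % (p - 1)) := by
  unfold OortTate.proj
  congr 1
  apply Finset.sum_congr rfl
  intro m _
  congr 1
  conv_lhs => rw [← Nat.mod_add_div n (p - 1), pow_add, pow_mul, chi_pow_pred, one_pow, mul_one]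

include hu hχ hp in
theorem eigenProj_of_mem_ne (s t : ℕ) (hst : s % (p - 1) ≠ t % (p - 1)) (x : A)
    (hx : x ∈ OortTate.eigenAug R A p χ s) : eigenProj R A p u χ t x = 0 := by
  have hp1 : 0 < p - 1 := by
    have := (Fact.out : p.Prime).two_le
    omega
  have hcoi := coi_proj (A := A) p u hu χ hχ hp
  have hx' := (mem_eigenAug_iff p hp χ s x).mp hx
  show OortTate.proj R A p u χ t (augProj R A x) = 0
  rw [augProj_of_counit_eq_zero R A x hx'.1]
  have h1 : OortTate.proj R A p u χ s x = x := proj_apply_of_eigen p hp u hu χ s x hx'.2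
  rw [← h1, proj_mod R A p u χ s, proj_mod R A p u χ t]
  have hne : (⟨t % (p - 1), Nat.mod_lt _ hp1⟩ : Fin (p - 1)) ≠ ⟨s % (p - 1), Nat.mod_lt _ hp1⟩ := by
    intro h
    exact hst (congrArg Fin.val h).symm
  have h0 := hcoi.ortho hne
  have h2 := LinearMap.congr_fun h0 x
  rw [Module.End.mul_apply, LinearMap.zero_apply] at h2
  exact h2

theorem mod_pred_eq (a : ℕ) (_h1 : 1 ≤ a) (h2 : a ≤ p - 1) :
    a % (p - 1) = if a = p - 1 then 0 else a := by
  split_ifs with h
  · rw [h, Nat.mod_self]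
  · exact Nat.mod_eq_of_lt (by omega)

include hu hχ hp in
theorem pow_decomp (e : A) (he : e ∈ OortTate.eigenAug R A p χ 1) (q : Fin p → R)
    (h : ∑ t : Fin p, q t • e ^ (t : ℕ) = 0) (t₀ : Fin p) : q t₀ • e ^ (t₀ : ℕ) = 0 := by
  have hp2 := (Fact.out : p.Prime).two_le
  by_cases h0 : (t₀ : ℕ) = 0
  · have h1 := congrArg (Bialgebra.counitAlgHom R A) h
    rw [map_sum, map_zero] at h1
    rw [Finset.sum_eq_single t₀] at h1
    · rw [map_smul, h0, pow_zero, map_one, smul_eq_mul, mul_one] at h1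
      rw [h1, zero_smul]
    · intro t _ htt
      have ht : (t : ℕ) ≠ 0 := fun h' => htt (Fin.ext (h'.trans h0.symm))
      rw [map_smul, map_pow, counit_of_mem_eigenAug p χ he, zero_pow ht, smul_zero]
    · intro h'
      exact absurd (Finset.mem_univ _) h'
  · have h1 := congrArg (eigenProj R A p u χ (t₀ : ℕ)) h
    rw [map_sum, map_zero] at h1
    rw [Finset.sum_eq_single t₀] at h1
    · rw [map_smul, eigenProj_apply_of_mem R A p u hu χ hp _ _
        (pow_mem_eigenAug p χ he _ (by omega))] at h1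
      exact h1
    · intro t _ htt
      rw [map_smul]
      by_cases ht0 : (t : ℕ) = 0
      · rw [ht0, pow_zero, eigenProj_one, smul_zero]
      · have hne : (t : ℕ) % (p - 1) ≠ (t₀ : ℕ) % (p - 1) := by
          have ht1 := t.isLt
          have ht2 := t₀.isLt
          have htt' : (t : ℕ) ≠ (t₀ : ℕ) := fun h' => htt (Fin.ext h')
          rw [mod_pred_eq p t (by omega) (by omega), mod_pred_eq p t₀ (by omega) (by omega)]
          split_ifs <;> omega
        rw [eigenProj_of_mem_ne R A p u hu χ hχ hp (t : ℕ) (t₀ : ℕ) hne _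
          (pow_mem_eigenAug p χ he _ (by omega)), smul_zero]
    · intro h'
      exact absurd (Finset.mem_univ _) h'

theorem lift_ι (x : OortTate.eigenAug R A p χ 1) :
    TensorAlgebra.lift R (OortTate.eigenAug R A p χ 1).subtype (TensorAlgebra.ι R x) = (x : A) := by
  rw [TensorAlgebra.lift_ι_apply]
  rfl

include hu hχ hχp hp hrk in
theorem lift_surjective :
    Function.Surjective (TensorAlgebra.lift R (OortTate.eigenAug R A p χ 1).subtype) := by
  have hp2 := (Fact.out : p.Prime).two_le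
  have hL : OortTate.eigenAug R A p χ 1 ≤ Subalgebra.toSubmodule
      (TensorAlgebra.lift R (OortTate.eigenAug R A p χ 1).subtype).range := by
    intro x hx
    rw [Subalgebra.mem_toSubmodule, AlgHom.mem_range]
    exact ⟨TensorAlgebra.ι R ⟨x, hx⟩, lift_ι R A p χ ⟨x, hx⟩⟩
  have hLt : ∀ t : ℕ, (OortTate.eigenAug R A p χ 1) ^ t ≤ Subalgebra.toSubmodule
      (TensorAlgebra.lift R (OortTate.eigenAug R A p χ 1).subtype).range := by
    intro t
    induction t with
    | zero =>
      rw [pow_zero, Submodule.one_le]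
      exact Subalgebra.one_mem _
    | succ t ih =>
      rw [pow_succ, Submodule.mul_le]
      intro m hm n hn
      exact Subalgebra.mul_mem _ (ih hm) (hL hn)
  intro a
  have hcoi := coi_proj (A := A) p u hu χ hχ hp
  have h := congrArg (fun f : Module.End R A => f (augProj R A a)) hcoi.complete
  simp only [LinearMap.sum_apply, Module.End.one_apply] at h
  have h' : ∑ j : Fin (p - 1), eigenProj R A p u χ (j : ℕ) a = augProj R A a := h
  have hdec : a = algebraMap R A (Bialgebra.counitAlgHom R A a) +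
      ∑ j : Fin (p - 1), eigenProj R A p u χ (j : ℕ) a := by
    rw [h', augProj_apply]
    abel
  have hmem : ∀ j : Fin (p - 1), eigenProj R A p u χ (j : ℕ) a ∈ Subalgebra.toSubmodule
      (TensorAlgebra.lift R (OortTate.eigenAug R A p χ 1).subtype).range := by
    intro j
    have h1 := eigenProj_mem R A p u hu χ hp (j : ℕ) a
    rw [eigenAug_congr p χ (expo_mod p j).symm,
      ← eigenAug_one_pow R A p u hu χ hχ hχp hp hrk (expo p j) (expo_pos p j) (expo_le p j)] at h1
    exact hLt _ h1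
  have hmem' : a ∈ Subalgebra.toSubmodule
      (TensorAlgebra.lift R (OortTate.eigenAug R A p χ 1).subtype).range := by
    rw [hdec]
    exact Submodule.add_mem _ (Subalgebra.algebraMap_mem _ _) (Submodule.sum_mem _ fun j _ => hmem j)
  exact hmem'

/-- the relations `ι x_1 ⋯ ι x_p - ι g`, `g = x_1 ⋯ x_p` -/
def relSet : Set (TensorAlgebra R (OortTate.eigenAug R A p χ 1)) :=
  {x | ∃ (f : Fin p → OortTate.eigenAug R A p χ 1) (g : OortTate.eigenAug R A p χ 1),
      (g : A) = ∏ i, (f i : A) ∧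
      x = (List.ofFn fun i => TensorAlgebra.ι R (f i)).prod - TensorAlgebra.ι R g}

theorem span_relSet_le_ker :
    Ideal.span (relSet R A p χ) ≤
      RingHom.ker (TensorAlgebra.lift R (OortTate.eigenAug R A p χ 1).subtype) := by
  rw [Ideal.span_le]
  rintro _ ⟨f, g, hg, rfl⟩
  rw [SetLike.mem_coe, RingHom.mem_ker, map_sub, lift_ι, map_list_prod, List.map_ofFn,
    List.prod_ofFn, hg, sub_eq_zero]
  apply Finset.prod_congr rfl
  intro i _
  exact lift_ι R A p χ (f i)

include hu hχ hχp hp hrk in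
theorem ker_lift_eq :
    RingHom.ker (TensorAlgebra.lift R (OortTate.eigenAug R A p χ 1).subtype) =
      Ideal.span (relSet R A p χ) := by
  have hp2 := (Fact.out : p.Prime).two_le
  have hJle := span_relSet_le_ker R A p χ
  apply le_antisymm _ hJle
  intro z hz
  rw [RingHom.mem_ker] at hz
  have hJs : ∀ (c : R) (j : TensorAlgebra R (OortTate.eigenAug R A p χ 1)),
      j ∈ Ideal.span (relSet R A p χ) → c • j ∈ Ideal.span (relSet R A p χ) :=
    fun c j hj => smul_mem_J _ c j hj
  let JR : Submodule R (TensorAlgebra R (OortTate.eigenAug R A p χ 1)) :=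
    { carrier := Ideal.span (relSet R A p χ)
      add_mem' := fun ha hb => (Ideal.span (relSet R A p χ)).add_mem ha hb
      zero_mem' := (Ideal.span (relSet R A p χ)).zero_mem
      smul_mem' := fun c j hj => hJs c j hj }
  suffices h : z ∈ JR from h
  apply mem_of_forall_maximal
  intro 𝔪 h𝔪
  have := h𝔪.isPrime
  obtain ⟨e, heE, hgen, htf⟩ := exists_local_gen R A p u hu χ hχ hχp hp hrk 𝔪
  obtain ⟨r, hr, hrx⟩ := hgen 1 le_rfl (by omega)
  have hrm : r ∉ 𝔪 := by
    intro hrm
    apply h𝔪.ne_top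
    rw [Ideal.eq_top_iff_one]
    have := 𝔪.sub_mem hrm hr
    simpa using this
  have hep : e ^ p ∈ OortTate.eigenAug R A p χ 1 := by
    have h := pow_mem_eigenAug p χ heE p (by omega)
    have hmod : p % (p - 1) = 1 % (p - 1) := by
      have h3 : p = (p - 1) + 1 := by omega
      conv_lhs => rw [h3]
      exact Nat.add_mod_left _ _
    rwa [eigenAug_congr p χ hmod] at h
  obtain ⟨α, hα⟩ := hrx (e ^ p) hep
  have h1 : ∀ x : OortTate.eigenAug R A p χ 1, ∃ a : R,
      r • TensorAlgebra.ι R x = a • TensorAlgebra.ι R (⟨e, heE⟩ : OortTate.eigenAug R A p χ 1) := by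
    intro x
    obtain ⟨a, ha⟩ := hrx x.1 x.2
    refine ⟨a, ?_⟩
    rw [← map_smul, ← map_smul]
    congr 1
    apply Subtype.ext
    show r • (x : A) = a • e
    rw [ha, pow_one]
  have h2 : r • (TensorAlgebra.ι R (⟨e, heE⟩ : OortTate.eigenAug R A p χ 1)) ^ p -
      α • TensorAlgebra.ι R (⟨e, heE⟩ : OortTate.eigenAug R A p χ 1) ∈
      Ideal.span (relSet R A p χ) := by
    have hρ : (TensorAlgebra.ι R (⟨e, heE⟩ : OortTate.eigenAug R A p χ 1)) ^ p -
        TensorAlgebra.ι R (⟨e ^ p, hep⟩ : OortTate.eigenAug R A p χ 1) ∈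
        Ideal.span (relSet R A p χ) := by
      apply Ideal.subset_span
      refine ⟨fun _ => ⟨e, heE⟩, ⟨e ^ p, hep⟩, ?_, ?_⟩
      · show e ^ p = ∏ _i : Fin p, e
        rw [Finset.prod_const, Finset.card_univ, Fintype.card_fin]
      · rw [List.ofFn_const, List.prod_replicate]
    have h3 : r • (TensorAlgebra.ι R (⟨e, heE⟩ : OortTate.eigenAug R A p χ 1)) ^ p -
        α • TensorAlgebra.ι R (⟨e, heE⟩ : OortTate.eigenAug R A p χ 1) =
        r • ((TensorAlgebra.ι R (⟨e, heE⟩ : OortTate.eigenAug R A p χ 1)) ^ p -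
          TensorAlgebra.ι R (⟨e ^ p, hep⟩ : OortTate.eigenAug R A p χ 1)) := by
      rw [smul_sub, ← map_smul, ← map_smul]
      congr 2
      apply Subtype.ext
      show α • e = r • e ^ p
      rw [hα, pow_one]
    rw [h3]
    exact hJs _ _ hρ
  obtain ⟨N, q, hq⟩ := reduce (Ideal.span (relSet R A p χ))
    (TensorAlgebra.ι R (⟨e, heE⟩ : OortTate.eigenAug R A p χ 1)) r α p hp2 h2 (TensorAlgebra.ι R)
    (fun C c1 c2 c3 c4 z => TensorAlgebra.induction (C := C) c1 c2 c3 c4 z) h1 z
  have hπq : ∑ t : Fin p, q t • e ^ (t : ℕ) = 0 := by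
    have h3 := hJle hq
    rw [RingHom.mem_ker, map_sub, map_smul, hz, smul_zero, zero_sub, neg_eq_zero, map_sum] at h3
    rw [← h3]
    apply Finset.sum_congr rfl
    intro t _
    rw [map_smul, map_pow, lift_ι]
  have hdec := pow_decomp R A p u hu χ hχ hp e heE q hπq
  have hs : ∀ t : Fin p, ∃ s : R, s ∉ 𝔪 ∧ s * q t = 0 := by
    intro t
    by_cases h0 : (t : ℕ) = 0
    · refine ⟨1, fun h => h𝔪.ne_top ((Ideal.eq_top_iff_one _).mpr h), ?_⟩
      have h4 := hdec t
      rw [h0, pow_zero] at h4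
      have h5 := congrArg (Bialgebra.counitAlgHom R A) h4
      rw [map_smul, map_one, map_zero, smul_eq_mul, mul_one] at h5
      rw [h5, mul_zero]
    · exact htf t (by omega) (by have := t.isLt; omega) (q t) (hdec t)
  choose s hs1 hs2 using hs
  refine ⟨(∏ t, s t) * r ^ N, ?_, ?_⟩
  · intro hmem
    rcases h𝔪.isPrime.mem_or_mem hmem with h | h
    · rw [Ideal.IsPrime.prod_mem_iff] at h
      obtain ⟨t, -, ht⟩ := h
      exact hs1 t ht
    · exact hrm (h𝔪.isPrime.mem_of_pow_mem _ h)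
  · show ((∏ t, s t) * r ^ N) • z ∈ Ideal.span (relSet R A p χ)
    have h6 : ((∏ t, s t) * r ^ N) • z =
        (∏ t, s t) • (r ^ N • z - ∑ t : Fin p, q t •
          (TensorAlgebra.ι R (⟨e, heE⟩ : OortTate.eigenAug R A p χ 1)) ^ (t : ℕ)) +
        ∑ t : Fin p, ((∏ t', s t') * q t) •
          (TensorAlgebra.ι R (⟨e, heE⟩ : OortTate.eigenAug R A p χ 1)) ^ (t : ℕ) := by
      rw [smul_sub, Finset.smul_sum, mul_smul]
      simp only [smul_smul]
      abel
    rw [h6]
    apply (Ideal.span (relSet R A p χ)).add_mem (hJs _ _ hq)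
    apply (Ideal.span (relSet R A p χ)).sum_mem
    intro t _
    have h7 : (∏ t', s t') * q t = 0 := by
      obtain ⟨c, hc⟩ := Finset.dvd_prod_of_mem s (Finset.mem_univ t)
      rw [hc, mul_comm (s t) c, mul_assoc, hs2 t, mul_zero]
    rw [h7, zero_smul]
    exact (Ideal.span (relSet R A p χ)).zero_mem

end Presentation

end Groth.Agent.Helper6.OT
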