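import Mathlib
import Groth.Prelude.Def_W4c5ffgsreadingcourseOT
import Groth.Prelude.Def_CartDual
import Groth.Agent.Lib.Helper27.OT468d
import Groth.Agent.Lib.Helper6.OT10

/-!
# Oort–Tate: consequences of the presentation; rank of the dual; the Cartier pairing map
-/

set_option autoImplicit false
set_option linter.unusedSectionVars false
universe u

open scoped TensorProduct
open WithConv

namespace Groth.Agent.Helper6.OT

open Groth.Agent.Helper27.OT468

section ProdMem
variable {R : Type u} [CommRing R] {A : Type u} [CommRing A] [HopfAlgebra R A]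
  (p : ℕ) [Fact p.Prime] (χ : (ZMod p)ˣ →* Rˣ)

theorem finset_prod_mem_eigenAug {ι : Type*} [DecidableEq ι] (s : Finset ι) (hs : s.Nonempty)
    (f : ι → A) (hf : ∀ i ∈ s, f i ∈ OortTate.eigenAug R A p χ 1) :
    ∏ i ∈ s, f i ∈ OortTate.eigenAug R A p χ s.card := by
  induction s using Finset.induction_on with
  | empty => exact absurd hs (by simp)
  | insert a s ha ih =>
    rw [Finset.prod_insert ha, Finset.card_insert_of_notMem ha]
    rcases s.eq_empty_or_nonempty with rfl | hne
    · simpa using hf a (Finset.mem_insert_self _ _)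
    · have := mul_mem_eigenAug p χ (hf a (Finset.mem_insert_self _ _))
        (ih hne (fun i hi => hf i (Finset.mem_insert_of_mem hi)))
      rwa [add_comm] at this

theorem prod_mem_eigenAug_one (f : Fin p → OortTate.eigenAug R A p χ 1) :
    ∏ i, (f i : A) ∈ OortTate.eigenAug R A p χ 1 := by
  classical
  have hp2 := (Fact.out : p.Prime).two_le
  have hne : (Finset.univ : Finset (Fin p)).Nonempty := ⟨⟨0, by omega⟩, Finset.mem_univ _⟩
  have h := finset_prod_mem_eigenAug p χ Finset.univ hne (fun i => (f i : A)) (fun i _ => (f i).2)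
  rw [Finset.card_univ, Fintype.card_fin] at h
  have hmod : p % (p - 1) = 1 % (p - 1) := by
    have h3 : p = (p - 1) + 1 := by omega
    conv_lhs => rw [h3]
    exact Nat.add_mod_left _ _
  rwa [eigenAug_congr p χ hmod] at h

end ProdMem

section Pres
variable (R : Type u) [CommRing R] (A : Type u) [CommRing A] [HopfAlgebra R A]
  [Module.Finite R A] [Module.Projective R A]
  (p : ℕ) [Fact p.Prime] (u : R) (hu : u * ((p - 1 : ℕ) : R) = 1) (χ : (ZMod p)ˣ →* Rˣ)
  (hχ : ∀ m : (ZMod p)ˣ, m ≠ 1 → IsUnit ((χ m : R) - 1))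
  (hχp : ∀ m : (ZMod p)ˣ, ((χ m : Rˣ) : R) - (((m : ZMod p).val : ℕ) : R) ∈
    Ideal.span ({(p : R)} : Set R))
  (hp : (toConv (AlgHom.id R A)) ^ p = 1)
  (hrk : ∀ q : PrimeSpectrum R, Module.rankAtStalk A q = p)

include hu hχ hχp hp hrk in
theorem exists_algHom_of_rel {B : Type u} [CommRing B] [Algebra R B]
    (j : OortTate.eigenAug R A p χ 1 →ₗ[R] B)
    (hj : ∀ (f : Fin p → OortTate.eigenAug R A p χ 1) (g : OortTate.eigenAug R A p χ 1),
      (g : A) = ∏ i, (f i : A) → j g = ∏ i, j (f i)) :
    ∃ F : A →ₐ[R] B, ∀ x : OortTate.eigenAug R A p χ 1, F (x : A) = j x := by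
  have hsurj : Function.Surjective
      (TensorAlgebra.lift R (OortTate.eigenAug R A p χ 1).subtype).toRingHom :=
    lift_surjective R A p u hu χ hχ hχp hp hrk
  have hker : RingHom.ker (TensorAlgebra.lift R (OortTate.eigenAug R A p χ 1).subtype).toRingHom ≤
      RingHom.ker (TensorAlgebra.lift R j).toRingHom := by
    have h1 : RingHom.ker (TensorAlgebra.lift R (OortTate.eigenAug R A p χ 1).subtype).toRingHom =
        Ideal.span (relSet R A p χ) := by
      rw [← ker_lift_eq R A p u hu χ hχ hχp hp hrk]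
      rfl
    rw [h1, Ideal.span_le]
    rintro _ ⟨f, g, hg, rfl⟩
    rw [SetLike.mem_coe, RingHom.mem_ker]
    show TensorAlgebra.lift R j (_ - _) = 0
    rw [map_sub, map_list_prod, List.map_ofFn, List.prod_ofFn, TensorAlgebra.lift_ι_apply,
      hj f g hg, sub_eq_zero]
    apply Finset.prod_congr rfl
    intro i _
    exact TensorAlgebra.lift_ι_apply j (f i)
  have hF₀ : ∀ z, (RingHom.liftOfSurjective
      (TensorAlgebra.lift R (OortTate.eigenAug R A p χ 1).subtype).toRingHom hsurj
      ⟨(TensorAlgebra.lift R j).toRingHom, hker⟩)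
      (TensorAlgebra.lift R (OortTate.eigenAug R A p χ 1).subtype z) = TensorAlgebra.lift R j z :=
    fun z => RingHom.liftOfRightInverse_comp_apply _ _ _ ⟨(TensorAlgebra.lift R j).toRingHom, hker⟩ z
  refine ⟨{ (RingHom.liftOfSurjective
      (TensorAlgebra.lift R (OortTate.eigenAug R A p χ 1).subtype).toRingHom hsurj
      ⟨(TensorAlgebra.lift R j).toRingHom, hker⟩) with commutes' := fun r => ?_ }, fun x => ?_⟩
  · show (RingHom.liftOfSurjective _ hsurj ⟨(TensorAlgebra.lift R j).toRingHom, hker⟩)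
      (algebraMap R A r) = algebraMap R B r
    rw [← AlgHom.commutes (TensorAlgebra.lift R (OortTate.eigenAug R A p χ 1).subtype) r, hF₀,
      AlgHom.commutes]
  · show (RingHom.liftOfSurjective _ hsurj ⟨(TensorAlgebra.lift R j).toRingHom, hker⟩)
      (x : A) = j x
    rw [← lift_ι R A p χ x, hF₀, TensorAlgebra.lift_ι_apply]

include hu hχ hχp hp hrk in
theorem algHom_ext_of_eigenAug {B : Type*} [Semiring B] [Algebra R B] (F F' : A →ₐ[R] B)
    (h : ∀ x : OortTate.eigenAug R A p χ 1, F (x : A) = F' (x : A)) : F = F' := by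
  have h1 : F.comp (TensorAlgebra.lift R (OortTate.eigenAug R A p χ 1).subtype) =
      F'.comp (TensorAlgebra.lift R (OortTate.eigenAug R A p χ 1).subtype) := by
    apply TensorAlgebra.hom_ext
    apply LinearMap.ext
    intro x
    show F (TensorAlgebra.lift R _ (TensorAlgebra.ι R x)) =
      F' (TensorAlgebra.lift R _ (TensorAlgebra.ι R x))
    rw [lift_ι, h x]
  apply AlgHom.ext
  intro a
  obtain ⟨z, rfl⟩ := lift_surjective R A p u hu χ hχ hχp hp hrk a
  exact DFunLike.congr_fun h1 z

end Pres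

section RankDual

theorem rankAtStalk_dual (R : Type u) [CommRing R] (M : Type u) [AddCommGroup M] [Module R M]
    [Module.Finite R M] [Module.Projective R M] (q : PrimeSpectrum R) :
    Module.rankAtStalk (M →ₗ[R] R) q = Module.rankAtStalk M q := by
  have hfp : Module.FinitePresentation R M := Module.finitePresentation_of_projective R M
  have hfree : Module.Free (Localization.AtPrime q.asIdeal)
      (LocalizedModule q.asIdeal.primeCompl M) := Module.free_of_flat_of_isLocalRing
  unfold Module.rankAtStalk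
  let φ := IsLocalizedModule.mapExtendScalars q.asIdeal.primeCompl
    (LocalizedModule.mkLinearMap q.asIdeal.primeCompl M)
    (Algebra.linearMap R (Localization.AtPrime q.asIdeal)) (Localization.AtPrime q.asIdeal)
  let e := IsLocalizedModule.iso q.asIdeal.primeCompl φ
  let e' := LinearEquiv.extendScalarsOfIsLocalization q.asIdeal.primeCompl
    (Localization.AtPrime q.asIdeal) e
  rw [LinearEquiv.finrank_eq e']
  exact Module.finrank_linearMap_self (Localization.AtPrime q.asIdeal)
    (Localization.AtPrime q.asIdeal) (LocalizedModule q.asIdeal.primeCompl M)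

theorem rankAtStalk_cartDual (R : Type u) [CommRing R] (A : Type u) [CommRing A] [Algebra R A]
    [Module.Finite R A] [Module.Projective R A] (n : ℕ)
    (hrk : ∀ q : PrimeSpectrum R, Module.rankAtStalk A q = n) (q : PrimeSpectrum R) :
    Module.rankAtStalk (CartDual.D R A) q = n := by
  have h := congrFun (Module.rankAtStalk_eq_of_equiv (CartDual.toDual R A)) q
  rw [h]
  exact (rankAtStalk_dual R A q).trans (hrk q)

end RankDual

section PowHom
variable {S : Type*} [Semiring S] (δ : S) (p : ℕ) [Fact p.Prime] (hδ : δ ^ p = 1)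

include hδ in
theorem pow_mod_of_pow_eq_one (n : ℕ) : δ ^ (n % p) = δ ^ n := by
  conv_rhs => rw [← Nat.div_add_mod n p, pow_add, pow_mul, hδ, one_pow, one_mul]

/-- the homomorphism `ℤ/p → S`, `k ↦ δ ^ k` -/
noncomputable def powHom : Multiplicative (ZMod p) →* S where
  toFun k := δ ^ (Multiplicative.toAdd k).val
  map_one' := by rw [toAdd_one, ZMod.val_zero, pow_zero]
  map_mul' a b := by
    rw [toAdd_mul, ZMod.val_add, pow_mod_of_pow_eq_one δ p hδ, pow_add]

variable (R : Type*) [CommRing R] [Algebra R S]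

/-- the algebra map `R[ℤ/p] → S`, `T ↦ δ` -/
noncomputable def phiOf : MonoidAlgebra R (Multiplicative (ZMod p)) →ₐ[R] S :=
  MonoidAlgebra.lift R S (Multiplicative (ZMod p)) (powHom δ p hδ)

theorem phiOf_muT : phiOf δ p hδ R (OortTate.muT R p) = δ := by
  unfold phiOf
  show MonoidAlgebra.lift R S (Multiplicative (ZMod p)) (powHom δ p hδ)
    (MonoidAlgebra.single (Multiplicative.ofAdd 1) 1) = δ
  rw [MonoidAlgebra.lift_single, one_smul]
  show δ ^ (Multiplicative.toAdd (Multiplicative.ofAdd (1 : ZMod p))).val = δ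
  rw [toAdd_ofAdd, ZMod.val_one, pow_one]

end PowHom

section PolyP
variable (R : Type u) [CommRing R] (p : ℕ) [Fact p.Prime] (u : R)
  (hu : u * ((p - 1 : ℕ) : R) = 1) (χ : (ZMod p)ˣ →* Rˣ)
  (hχ : ∀ m : (ZMod p)ˣ, m ≠ 1 → IsUnit ((χ m : R) - 1))
  (hχp : ∀ m : (ZMod p)ˣ, ((χ m : Rˣ) : R) - (((m : ZMod p).val : ℕ) : R) ∈
    Ideal.span ({(p : R)} : Set R))

include hu hχ hχp in
theorem exists_poly_muT :
    ∃ P : Polynomial R, Polynomial.aeval (OortTate.ygen R p u χ 1) P = OortTate.muT R p := by
  have h := adjoin_ygen_one R p u hu χ hχ hχp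
  rw [Algebra.adjoin_singleton_eq_range_aeval] at h
  have h1 : OortTate.muT R p ∈ (Polynomial.aeval (R := R) (OortTate.ygen R p u χ 1)).range := by
    rw [h]
    exact Algebra.mem_top
  exact h1

include hu hχ hχp in
theorem exists_poly_phi :
    ∃ P : Polynomial R, ∀ (S : Type u) [Ring S] [Algebra R S]
      (ϕ : MonoidAlgebra R (Multiplicative (ZMod p)) →ₐ[R] S),
      Polynomial.aeval (ϕ (OortTate.ygen R p u χ 1)) P = ϕ (OortTate.muT R p) := by
  obtain ⟨P, hP⟩ := exists_poly_muT R p u hu χ hχ hχp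
  refine ⟨P, fun S _ _ ϕ => ?_⟩
  rw [Polynomial.aeval_algHom_apply, hP]

end PolyP

end Groth.Agent.Helper6.OT
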