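import Mathlib
import Groth.Prelude.Def_W4c5ffgsreadingcourseOT
import Groth.Prelude.Def_CartDual
import Groth.Agent.Lib.Helper27.OT468d
import Groth.Agent.Lib.Helper6.OT11

/-!
# Oort–Tate: injectivity of the classification map `G ↦ (I_1, a, b)`
-/

set_option autoImplicit false
set_option linter.unusedSectionVars false
universe u

open scoped TensorProduct
open WithConv

namespace Groth.Agent.Helper6.OT

open Groth.Agent.Helper27.OT468

section Res
variable (R : Type u) [CommRing R] (A : Type u) [CommRing A] [HopfAlgebra R A]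
  [Coalgebra.IsCocomm R A] [Module.Finite R A] [Module.Projective R A]
  (p : ℕ) [Fact p.Prime] (u : R) (hu : u * ((p - 1 : ℕ) : R) = 1) (χ : (ZMod p)ˣ →* Rˣ)
  (hp : (toConv (AlgHom.id R A)) ^ p = 1)

/-- restriction of linear forms `I_i(A^D) → I_i(A)^*` -/
noncomputable def resLin (i : ℕ) : OortTate.eigenAug R (CartDual.D R A) p χ i →ₗ[R]
    (OortTate.eigenAug R A p χ i →ₗ[R] R) :=
  (LinearMap.lcomp R R (OortTate.eigenAug R A p χ i).subtype) ∘ₗ
    (CartDual.toDual R A).toLinearMap ∘ₗ (OortTate.eigenAug R (CartDual.D R A) p χ i).subtype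

theorem resLin_apply (i : ℕ) (φ : OortTate.eigenAug R (CartDual.D R A) p χ i)
    (x : OortTate.eigenAug R A p χ i) :
    resLin R A p χ i φ x = (φ : CartDual.D R A).ofConv (x : A) := rfl

/-- `I_i(A^D) ≃ I_i(A)^*` -/
noncomputable def resEquiv (i : ℕ) : OortTate.eigenAug R (CartDual.D R A) p χ i ≃ₗ[R]
    (OortTate.eigenAug R A p χ i →ₗ[R] R) :=
  LinearEquiv.ofBijective (resLin R A p χ i) (dual_restrict_bijective R A p u hu χ hp i)

theorem resEquiv_apply (i : ℕ) (φ : OortTate.eigenAug R (CartDual.D R A) p χ i)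
    (x : OortTate.eigenAug R A p χ i) :
    resEquiv R A p u hu χ hp i φ x = (φ : CartDual.D R A).ofConv (x : A) := rfl

/-- the canonical element of `A ⊗ A^D` -/
noncomputable def canon : A ⊗[R] CartDual.D R A := (thetaEquiv R A).symm LinearMap.id

theorem thetaEquiv_canon : thetaEquiv R A (canon R A) = LinearMap.id :=
  LinearEquiv.apply_symm_apply _ _

theorem linPow_eq_one (hp : (toConv (AlgHom.id R A)) ^ p = 1) :
    (toConv (LinearMap.id : A →ₗ[R] A)) ^ p = 1 := by
  have h3 := AlgHom.toLinearMap_convPow (toConv (AlgHom.id R A)) p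
  rw [hp] at h3
  exact h3.symm.trans AlgHom.toLinearMap_convOne

include hp in
theorem canon_pow : (canon R A) ^ p = 1 := by
  apply (thetaEquiv R A).injective
  have h1 : toConv (thetaEquiv R A (canon R A ^ p)) = toConv (thetaEquiv R A (canon R A)) ^ p :=
    abstract_pow R A (thetaEquiv R A).toLinearMap (thetaEquiv_one R A) (thetaEquiv_mul R A)
      (canon R A) p
  rw [thetaEquiv_canon, linPow_eq_one R A p hp] at h1
  exact WithConv.toConv_injective (h1.trans (thetaEquiv_one R A).symm)

include hu in
theorem theta_map_subtype_eigenProj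
    (w : OortTate.eigenAug R A p χ 1 ⊗[R] OortTate.eigenAug R (CartDual.D R A) p χ 1) (b : A) :
    thetaEquiv R A (TensorProduct.map (OortTate.eigenAug R A p χ 1).subtype
        (OortTate.eigenAug R (CartDual.D R A) p χ 1).subtype w) b =
      thetaEquiv R A (TensorProduct.map (OortTate.eigenAug R A p χ 1).subtype
        (OortTate.eigenAug R (CartDual.D R A) p χ 1).subtype w) (eigenProj R A p u χ 1 b) := by
  induction w using TensorProduct.induction_on with
  | zero => simp only [map_zero, LinearMap.zero_apply]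
  | tmul x φ =>
    rw [TensorProduct.map_tmul]
    show thetaEquiv R A ((x : A) ⊗ₜ (φ : CartDual.D R A)) b =
      thetaEquiv R A ((x : A) ⊗ₜ (φ : CartDual.D R A)) (eigenProj R A p u χ 1 b)
    rw [thetaEquiv_tmul, thetaEquiv_tmul, dual_apply_eigenProj R A p u hu χ 1 φ.1 φ.2 b]
  | add w₁ w₂ h₁ h₂ => simp only [map_add, LinearMap.add_apply, h₁, h₂]

/-- contraction of the first factor against `ξ` -/
noncomputable def contractL (ξ : CartDual.D R A) :
    A ⊗[R] CartDual.D R A →ₗ[R] CartDual.D R A :=
  (TensorProduct.lid R (CartDual.D R A)).toLinearMap ∘ₗ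
    LinearMap.rTensor (CartDual.D R A) ξ.ofConv

theorem contractL_tmul (ξ : CartDual.D R A) (a : A) (η : CartDual.D R A) :
    contractL R A ξ (a ⊗ₜ η) = ξ.ofConv a • η := by
  unfold contractL
  rw [LinearMap.comp_apply, LinearMap.rTensor_tmul, LinearEquiv.coe_coe, TensorProduct.lid_tmul]

theorem contractL_apply (ξ : CartDual.D R A) (s : A ⊗[R] CartDual.D R A) (b : A) :
    (contractL R A ξ s).ofConv b = ξ.ofConv (thetaEquiv R A s b) := by
  induction s using TensorProduct.induction_on with
  | zero => simp only [map_zero, WithConv.ofConv_zero, LinearMap.zero_apply]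
  | tmul a η =>
    rw [contractL_tmul, thetaEquiv_tmul, WithConv.ofConv_smul, LinearMap.smul_apply, map_smul,
      smul_eq_mul, smul_eq_mul, mul_comm]
  | add s₁ s₂ h₁ h₂ => simp only [map_add, WithConv.ofConv_add, LinearMap.add_apply, h₁, h₂]

theorem contractL_canon (ξ : CartDual.D R A) : contractL R A ξ (canon R A) = ξ := by
  apply WithConv.ext
  apply LinearMap.ext
  intro b
  rw [contractL_apply, thetaEquiv_canon, LinearMap.id_apply]

end Res

end Groth.Agent.Helper6.OT
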