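import Mathlib
import Groth.Prelude.Def_W4c5ffgsreadingcourseOT
import Groth.Prelude.Def_CartDual
import Groth.Agent.Lib.Helper27.OT468d
import Groth.Agent.Lib.Helper6.OT12

/-!
# Oort–Tate: injectivity of the classification map `G ↦ (I_1, a, b)` (main theorem)
-/

set_option autoImplicit false
set_option linter.unusedSectionVars false
universe u

open scoped TensorProduct
open WithConv

namespace Groth.Agent.Helper6.OT

open Groth.Agent.Helper27.OT468

section Classify
variable (R : Type u) [CommRing R] (p : ℕ) [Fact p.Prime] (u : R)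
  (hu : u * ((p - 1 : ℕ) : R) = 1) (χ : (ZMod p)ˣ →* Rˣ)
  (hχ : ∀ m : (ZMod p)ˣ, m ≠ 1 → IsUnit ((χ m : R) - 1))
  (hχp : ∀ m : (ZMod p)ˣ, ((χ m : Rˣ) : R) - (((m : ZMod p).val : ℕ) : R) ∈
    Ideal.span ({(p : R)} : Set R))
  (A : Type u) [CommRing A] [HopfAlgebra R A] [Coalgebra.IsCocomm R A] [Module.Finite R A]
  [Module.Projective R A] (hrk : ∀ q : PrimeSpectrum R, Module.rankAtStalk A q = p)
  (A' : Type u) [CommRing A'] [HopfAlgebra R A'] [Coalgebra.IsCocomm R A'] [Module.Finite R A']
  [Module.Projective R A'] (hrk' : ∀ q : PrimeSpectrum R, Module.rankAtStalk A' q = p)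
  (θ : OortTate.eigenAug R A p χ 1 ≃ₗ[R] OortTate.eigenAug R A' p χ 1)
  (hθ : ∀ (f : Fin p → OortTate.eigenAug R A p χ 1) (g : OortTate.eigenAug R A p χ 1),
    (g : A) = ∏ i, (f i : A) → ((θ g : OortTate.eigenAug R A' p χ 1) : A') = ∏ i, ((θ (f i)) : A'))
  (hθD : ∀ (φ : Fin p → OortTate.eigenAug R (CartDual.D R A) p χ 1)
    (φ' : Fin p → OortTate.eigenAug R (CartDual.D R A') p χ 1)
    (ψ : OortTate.eigenAug R (CartDual.D R A) p χ 1)
    (ψ' : OortTate.eigenAug R (CartDual.D R A') p χ 1),
    (∀ i, ∀ x : OortTate.eigenAug R A p χ 1,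
      CartDual.toDual R A (φ i : CartDual.D R A) (x : A) =
        CartDual.toDual R A' (φ' i : CartDual.D R A')
          ((θ x : OortTate.eigenAug R A' p χ 1) : A')) →
    (ψ : CartDual.D R A) = ∏ i, (φ i : CartDual.D R A) →
    (ψ' : CartDual.D R A') = ∏ i, (φ' i : CartDual.D R A') →
    ∀ x : OortTate.eigenAug R A p χ 1,
      CartDual.toDual R A (ψ : CartDual.D R A) (x : A) =
        CartDual.toDual R A' (ψ' : CartDual.D R A')
          ((θ x : OortTate.eigenAug R A' p χ 1) : A'))

include hu hχ hχp hrk hrk' hθ hθD in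
theorem classify : Nonempty (A ≃ₐc[R] A') := by
  have hp2 := (Fact.out : p.Prime).two_le
  have hpA := deligne_of_rankAtStalk R A p hrk
  have hpA' := deligne_of_rankAtStalk R A' p hrk'
  have hrkD := rankAtStalk_cartDual R A p hrk
  have hrkD' := rankAtStalk_cartDual R A' p hrk'
  have hpD := deligne_of_rankAtStalk R (CartDual.D R A) p hrkD
  have hpD' := deligne_of_rankAtStalk R (CartDual.D R A') p hrkD'
  -- Step 1: the algebra map `f` extending `θ`
  obtain ⟨f, hf⟩ := exists_algHom_of_rel R A p u hu χ hχ hχp hpA hrk (B := A')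
    ((OortTate.eigenAug R A' p χ 1).subtype ∘ₗ θ.toLinearMap) (fun f g hg => hθ f g hg)
  -- Step 2: its inverse
  have hθ' : ∀ (f' : Fin p → OortTate.eigenAug R A' p χ 1) (g'' : OortTate.eigenAug R A' p χ 1),
      (g'' : A') = ∏ i, (f' i : A') →
      ((OortTate.eigenAug R A p χ 1).subtype ∘ₗ θ.symm.toLinearMap) g'' =
        ∏ i, ((OortTate.eigenAug R A p χ 1).subtype ∘ₗ θ.symm.toLinearMap) (f' i) := by
    intro f' g'' hg
    have h1 := hθ (fun i => θ.symm (f' i))
      ⟨∏ i, ((θ.symm (f' i) : OortTate.eigenAug R A p χ 1) : A),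
        prod_mem_eigenAug_one p χ (fun i => θ.symm (f' i))⟩ rfl
    simp only [LinearEquiv.apply_symm_apply] at h1
    have h2 : θ ⟨∏ i, ((θ.symm (f' i) : OortTate.eigenAug R A p χ 1) : A),
        prod_mem_eigenAug_one p χ (fun i => θ.symm (f' i))⟩ = g'' := Subtype.ext (h1.trans hg.symm)
    show ((θ.symm g'' : OortTate.eigenAug R A p χ 1) : A) =
      ∏ i, ((θ.symm (f' i) : OortTate.eigenAug R A p χ 1) : A)
    rw [← h2, LinearEquiv.symm_apply_apply]
  obtain ⟨g', hg'⟩ := exists_algHom_of_rel R A' p u hu χ hχ hχp hpA' hrk' (B := A)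
    ((OortTate.eigenAug R A p χ 1).subtype ∘ₗ θ.symm.toLinearMap) hθ'
  have hf' : ∀ x : OortTate.eigenAug R A p χ 1,
      f (x : A) = ((θ x : OortTate.eigenAug R A' p χ 1) : A') := hf
  have hg'' : ∀ x : OortTate.eigenAug R A' p χ 1,
      g' (x : A') = ((θ.symm x : OortTate.eigenAug R A p χ 1) : A) := hg'
  have hgf : g'.comp f = AlgHom.id R A := by
    apply algHom_ext_of_eigenAug R A p u hu χ hχ hχp hpA hrk
    intro x
    show g' (f x) = x
    rw [hf' x, hg'' (θ x), LinearEquiv.symm_apply_apply]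
  have hfg : f.comp g' = AlgHom.id R A' := by
    apply algHom_ext_of_eigenAug R A' p u hu χ hχ hχp hpA' hrk'
    intro x
    show f (g' x) = x
    rw [hg'' x, hf' (θ.symm x), LinearEquiv.apply_symm_apply]
  -- Step 3: the inverse transpose `τ` of `θ` and the algebra map `H` extending it
  obtain ⟨τ, hτ⟩ : ∃ τ : OortTate.eigenAug R (CartDual.D R A) p χ 1 →ₗ[R]
      OortTate.eigenAug R (CartDual.D R A') p χ 1,
      ∀ (φ : OortTate.eigenAug R (CartDual.D R A) p χ 1) (x : OortTate.eigenAug R A p χ 1),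
        ((τ φ : OortTate.eigenAug R (CartDual.D R A') p χ 1) : CartDual.D R A').ofConv
          ((θ x : OortTate.eigenAug R A' p χ 1) : A') = (φ : CartDual.D R A).ofConv (x : A) := by
    refine ⟨(resEquiv R A' p u hu χ hpA' 1).symm.toLinearMap ∘ₗ θ.symm.toLinearMap.dualMap ∘ₗ
      (resEquiv R A p u hu χ hpA 1).toLinearMap, fun φ x => ?_⟩
    have h1 : resEquiv R A' p u hu χ hpA' 1
        (((resEquiv R A' p u hu χ hpA' 1).symm.toLinearMap ∘ₗ θ.symm.toLinearMap.dualMap ∘ₗ
          (resEquiv R A p u hu χ hpA 1).toLinearMap) φ) =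
        θ.symm.toLinearMap.dualMap (resEquiv R A p u hu χ hpA 1 φ) :=
      LinearEquiv.apply_symm_apply _ _
    have h2 := LinearMap.congr_fun h1 (θ x)
    rw [LinearMap.dualMap_apply, LinearEquiv.coe_coe, LinearEquiv.symm_apply_apply] at h2
    exact h2
  have hjD : ∀ (φ : Fin p → OortTate.eigenAug R (CartDual.D R A) p χ 1)
      (ψ : OortTate.eigenAug R (CartDual.D R A) p χ 1),
      (ψ : CartDual.D R A) = ∏ i, (φ i : CartDual.D R A) →
      ((OortTate.eigenAug R (CartDual.D R A') p χ 1).subtype ∘ₗ τ) ψ =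
        ∏ i, ((OortTate.eigenAug R (CartDual.D R A') p χ 1).subtype ∘ₗ τ) (φ i) := by
    intro φ ψ hψ
    have h1 := hθD φ (fun i => τ (φ i)) ψ
      ⟨∏ i, ((τ (φ i) : OortTate.eigenAug R (CartDual.D R A') p χ 1) : CartDual.D R A'),
        prod_mem_eigenAug_one p χ (fun i => τ (φ i))⟩ (fun i x => (hτ (φ i) x).symm) hψ rfl
    have h2 : τ ψ = ⟨∏ i, ((τ (φ i) : OortTate.eigenAug R (CartDual.D R A') p χ 1) :
        CartDual.D R A'), prod_mem_eigenAug_one p χ (fun i => τ (φ i))⟩ := by
      apply (resEquiv R A' p u hu χ hpA' 1).injective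
      apply LinearMap.ext
      intro x'
      obtain ⟨x, rfl⟩ := θ.surjective x'
      rw [resEquiv_apply, resEquiv_apply, hτ ψ x]
      exact h1 x
    show ((τ ψ : OortTate.eigenAug R (CartDual.D R A') p χ 1) : CartDual.D R A') = _
    rw [h2]
    rfl
  obtain ⟨H, hH⟩ := exists_algHom_of_rel R (CartDual.D R A) p u hu χ hχ hχp hpD hrkD
    (B := CartDual.D R A') ((OortTate.eigenAug R (CartDual.D R A') p χ 1).subtype ∘ₗ τ) hjD
  have hH' : ∀ φ : OortTate.eigenAug R (CartDual.D R A) p χ 1,
      H (φ : CartDual.D R A) =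
        ((τ φ : OortTate.eigenAug R (CartDual.D R A') p χ 1) : CartDual.D R A') := hH
  -- Step 4: canonical elements, pairing maps, and the polynomial `P`
  have hδp := canon_pow R A p hpA
  have hδp' := canon_pow R A' p hpA'
  have hϕ : phiOf (canon R A) p hδp R (OortTate.muT R p) = canon R A := phiOf_muT _ p hδp R
  have hϕ' : phiOf (canon R A') p hδp' R (OortTate.muT R p) = canon R A' := phiOf_muT _ p hδp' R
  have hδrid : ∀ a : A, TensorProduct.rid R A (LinearMap.lTensor A
      ((Module.Dual.eval R A a) ∘ₗ (CartDual.toDual R A).toLinearMap) (canon R A)) = a := by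
    intro a
    rw [← thetaEquiv_apply_eq, thetaEquiv_canon, LinearMap.id_apply]
  have hδrid' : ∀ a : A', TensorProduct.rid R A' (LinearMap.lTensor A'
      ((Module.Dual.eval R A' a) ∘ₗ (CartDual.toDual R A').toLinearMap) (canon R A')) = a := by
    intro a
    rw [← thetaEquiv_apply_eq, thetaEquiv_canon, LinearMap.id_apply]
  have hΘz : thetaEquiv R A (phiOf (canon R A) p hδp R (OortTate.ygen R p u χ 1)) =
      eigenProj R A p u χ 1 :=
    theta_phi_ygen R A p u χ (canon R A) hδrid (phiOf (canon R A) p hδp R) hϕ 1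
  have hΘz' : thetaEquiv R A' (phiOf (canon R A') p hδp' R (OortTate.ygen R p u χ 1)) =
      eigenProj R A' p u χ 1 :=
    theta_phi_ygen R A' p u χ (canon R A') hδrid' (phiOf (canon R A') p hδp' R) hϕ' 1
  -- `z` lies in the image of `I_1 ⊗ I_1^D`
  have hzr : phiOf (canon R A) p hδp R (OortTate.ygen R p u χ 1) ∈
      LinearMap.range (TensorProduct.map (OortTate.eigenAug R A p χ 1).subtype
        (OortTate.eigenAug R (CartDual.D R A) p χ 1).subtype) := by
    rw [← span_phi_ygen R A p u hu χ hχ hχp hpA hrk (canon R A) hδrid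
      (phiOf (canon R A) p hδp R) hϕ]
    exact Submodule.mem_span_singleton_self _
  obtain ⟨w, hw⟩ := hzr
  -- the algebra map `K = f ⊗ H`
  have hKw : ∀ w : OortTate.eigenAug R A p χ 1 ⊗[R] OortTate.eigenAug R (CartDual.D R A) p χ 1,
      Algebra.TensorProduct.map f H (TensorProduct.map (OortTate.eigenAug R A p χ 1).subtype
        (OortTate.eigenAug R (CartDual.D R A) p χ 1).subtype w) =
      TensorProduct.map (OortTate.eigenAug R A' p χ 1).subtype
        (OortTate.eigenAug R (CartDual.D R A') p χ 1).subtype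
        (TensorProduct.map θ.toLinearMap τ w) := by
    intro w
    induction w using TensorProduct.induction_on with
    | zero => simp only [map_zero]
    | tmul x φ =>
      rw [TensorProduct.map_tmul, TensorProduct.map_tmul, TensorProduct.map_tmul]
      show Algebra.TensorProduct.map f H ((x : A) ⊗ₜ (φ : CartDual.D R A)) =
        ((θ x : OortTate.eigenAug R A' p χ 1) : A') ⊗ₜ
          ((τ φ : OortTate.eigenAug R (CartDual.D R A') p χ 1) : CartDual.D R A')
      rw [Algebra.TensorProduct.map_tmul, hf' x, hH' φ]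
    | add w₁ w₂ h₁ h₂ => simp only [map_add, h₁, h₂]
  have hB : ∀ (w : OortTate.eigenAug R A p χ 1 ⊗[R] OortTate.eigenAug R (CartDual.D R A) p χ 1)
      (x : OortTate.eigenAug R A p χ 1),
      thetaEquiv R A' (TensorProduct.map (OortTate.eigenAug R A' p χ 1).subtype
        (OortTate.eigenAug R (CartDual.D R A') p χ 1).subtype
        (TensorProduct.map θ.toLinearMap τ w)) ((θ x : OortTate.eigenAug R A' p χ 1) : A') =
      ((θ (eigenRetr R A p u hu χ hpA 1 (thetaEquiv R A (TensorProduct.map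
        (OortTate.eigenAug R A p χ 1).subtype
        (OortTate.eigenAug R (CartDual.D R A) p χ 1).subtype w) (x : A))) :
          OortTate.eigenAug R A' p χ 1) : A') := by
    intro w x
    induction w using TensorProduct.induction_on with
    | zero => simp only [map_zero, LinearMap.zero_apply, ZeroMemClass.coe_zero]
    | tmul x₀ φ =>
      rw [TensorProduct.map_tmul, TensorProduct.map_tmul, TensorProduct.map_tmul]
      show thetaEquiv R A' (((θ x₀ : OortTate.eigenAug R A' p χ 1) : A') ⊗ₜ
          ((τ φ : OortTate.eigenAug R (CartDual.D R A') p χ 1) : CartDual.D R A'))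
          ((θ x : OortTate.eigenAug R A' p χ 1) : A') =
        ((θ (eigenRetr R A p u hu χ hpA 1
          (thetaEquiv R A ((x₀ : A) ⊗ₜ (φ : CartDual.D R A)) (x : A))) :
            OortTate.eigenAug R A' p χ 1) : A')
      rw [thetaEquiv_tmul, thetaEquiv_tmul, hτ φ x, map_smul, map_smul]
      have h3 : eigenRetr R A p u hu χ hpA 1 (x₀ : A) = x₀ :=
        LinearMap.congr_fun (eigenRetr_comp_subtype R A p u hu χ hpA 1) x₀
      rw [h3]
      rfl
    | add w₁ w₂ h₁ h₂ =>
      simp only [map_add, LinearMap.add_apply, h₁, h₂, Submodule.coe_add]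
  have hKz : Algebra.TensorProduct.map f H (phiOf (canon R A) p hδp R (OortTate.ygen R p u χ 1)) =
      phiOf (canon R A') p hδp' R (OortTate.ygen R p u χ 1) := by
    apply (thetaEquiv R A').injective
    rw [hΘz']
    apply LinearMap.ext
    intro b'
    rw [← hw, hKw w, theta_map_subtype_eigenProj R A' p u hu χ _ b']
    have hx : ((θ (θ.symm ⟨eigenProj R A' p u χ 1 b', eigenProj_mem R A' p u hu χ hpA' 1 b'⟩) :
        OortTate.eigenAug R A' p χ 1) : A') = eigenProj R A' p u χ 1 b' := by
      rw [LinearEquiv.apply_symm_apply]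
    rw [← hx, hB w, hw, hΘz]
    have h4 : eigenRetr R A p u hu χ hpA 1 (eigenProj R A p u χ 1
        ((θ.symm ⟨eigenProj R A' p u χ 1 b', eigenProj_mem R A' p u hu χ hpA' 1 b'⟩ :
          OortTate.eigenAug R A p χ 1) : A)) =
        θ.symm ⟨eigenProj R A' p u χ 1 b', eigenProj_mem R A' p u hu χ hpA' 1 b'⟩ := by
      apply Subtype.ext
      show eigenProj R A p u χ 1 (eigenProj R A p u χ 1 _) = _
      rw [eigenProj_apply_of_mem R A p u hu χ hpA 1 _ (Subtype.property _),
        eigenProj_apply_of_mem R A p u hu χ hpA 1 _ (Subtype.property _)]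
    rw [h4]
  have hKϕ : (Algebra.TensorProduct.map f H).comp (phiOf (canon R A) p hδp R) =
      phiOf (canon R A') p hδp' R := by
    apply AlgHom.ext_of_adjoin_eq_top (adjoin_ygen_one R p u hu χ hχ hχp)
    intro y hy
    rw [Set.mem_singleton_iff] at hy
    rw [hy]
    exact hKz
  have hKδ : Algebra.TensorProduct.map f H (canon R A) = canon R A' := by
    rw [← hϕ, ← hϕ']
    exact DFunLike.congr_fun hKϕ (OortTate.muT R p)
  -- Step 5: `H` is the transpose of `g'`
  have hHT : ∀ (ξ : CartDual.D R A) (b' : A'), (H ξ).ofConv b' = ξ.ofConv (g' b') := by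
    intro ξ b'
    have hC : ∀ s : A ⊗[R] CartDual.D R A, (H (contractL R A ξ s)).ofConv b' =
        ξ.ofConv (g' (thetaEquiv R A' (Algebra.TensorProduct.map f H s) b')) := by
      intro s
      induction s using TensorProduct.induction_on with
      | zero => simp only [map_zero, WithConv.ofConv_zero, LinearMap.zero_apply]
      | tmul a η =>
        rw [contractL_tmul, map_smul, WithConv.ofConv_smul, LinearMap.smul_apply,
          Algebra.TensorProduct.map_tmul, thetaEquiv_tmul, map_smul, map_smul]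
        have h5 : g' (f a) = a := DFunLike.congr_fun hgf a
        rw [h5, smul_eq_mul, smul_eq_mul, mul_comm]
      | add s₁ s₂ h₁ h₂ =>
        simp only [map_add, WithConv.ofConv_add, LinearMap.add_apply, h₁, h₂]
    have h1 := hC (canon R A)
    rw [contractL_canon, hKδ, thetaEquiv_canon, LinearMap.id_apply] at h1
    exact h1
  -- Step 6: `g'` is a coalgebra map
  have hcomul : ∀ b' : A', Coalgebra.comul (R := R) (g' b') =
      TensorProduct.map g'.toLinearMap g'.toLinearMap (Coalgebra.comul (R := R) b') := by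
    intro b'
    rw [← sub_eq_zero, ← Module.forall_dual_apply_eq_zero_iff R]
    intro Λ
    obtain ⟨y, rfl⟩ := (CartDual.ev₂ R A).surjective Λ
    rw [map_sub, sub_eq_zero]
    induction y using TensorProduct.induction_on with
    | zero => simp only [map_zero, LinearMap.zero_apply]
    | tmul ξ1 ξ2 =>
      rw [CartDual.ev₂_tmul_eq']
      have e1 : (LinearMap.mul' R R ∘ₗ TensorProduct.map ξ1.ofConv ξ2.ofConv)
          (Coalgebra.comul (R := R) (g' b')) = (ξ1 * ξ2).ofConv (g' b') := rfl
      have e2 : (LinearMap.mul' R R ∘ₗ TensorProduct.map ξ1.ofConv ξ2.ofConv)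
          (TensorProduct.map g'.toLinearMap g'.toLinearMap (Coalgebra.comul (R := R) b')) =
          (H ξ1 * H ξ2).ofConv b' := by
        show _ = LinearMap.mul' R R (TensorProduct.map (H ξ1).ofConv (H ξ2).ofConv
          (Coalgebra.comul (R := R) b'))
        have h1 : (H ξ1).ofConv = ξ1.ofConv ∘ₗ g'.toLinearMap :=
          LinearMap.ext (fun b => hHT ξ1 b)
        have h2 : (H ξ2).ofConv = ξ2.ofConv ∘ₗ g'.toLinearMap :=
          LinearMap.ext (fun b => hHT ξ2 b)
        rw [h1, h2, TensorProduct.map_comp]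
        rfl
      rw [e1, e2, ← map_mul, hHT]
    | add y₁ y₂ h₁ h₂ => simp only [map_add, LinearMap.add_apply, h₁, h₂]
  have hcounit : (Bialgebra.counitAlgHom R A).comp g' = Bialgebra.counitAlgHom R A' := by
    apply algHom_ext_of_eigenAug R A' p u hu χ hχ hχp hpA' hrk'
    intro x'
    show Bialgebra.counitAlgHom R A (g' x') = Bialgebra.counitAlgHom R A' x'
    rw [hg'' x', counit_of_mem_eigenAug p χ x'.2]
    exact counit_of_mem_eigenAug p χ (θ.symm x').2
  refine ⟨(BialgEquiv.ofAlgEquiv (AlgEquiv.ofAlgHom g' f hgf hfg) ?_ ?_).symm⟩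
  · exact hcounit
  · apply AlgHom.ext
    intro b'
    show Algebra.TensorProduct.map (AlgEquiv.ofAlgHom g' f hgf hfg : A' →ₐ[R] A)
      (AlgEquiv.ofAlgHom g' f hgf hfg : A' →ₐ[R] A) (Coalgebra.comul (R := R) b') =
      Coalgebra.comul (R := R) (g' b')
    rw [hcomul b']
    rfl

end Classify

end Groth.Agent.Helper6.OT
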