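import Mathlib
import Groth.Prelude.Def_W4c5ffgsreadingcourseOT
import Groth.Prelude.Def_CartDual
import Groth.Agent.Lib.Helper27.OT468d
import Groth.Agent.Lib.Helper6.OT13

/-!
# Oort–Tate: the free case of the injectivity of the classification map
-/

set_option autoImplicit false
set_option linter.unusedSectionVars false
universe u

open scoped TensorProduct
open WithConv

namespace Groth.Agent.Helper6.OT

open Groth.Agent.Helper27.OT468

section FreeGen
variable (R : Type u) [CommRing R] (A : Type u) [CommRing A] [HopfAlgebra R A]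
  [Coalgebra.IsCocomm R A] [Module.Finite R A] [Module.Projective R A]
  (p : ℕ) [Fact p.Prime] (χ : (ZMod p)ˣ →* Rˣ)
  (x : A) (hx : Submodule.span R {x} = OortTate.eigenAug R A p χ 1)
  (ξ : CartDual.D R A) (hξ : Submodule.span R {ξ} = OortTate.eigenAug R (CartDual.D R A) p χ 1)
  (hxξ : CartDual.toDual R A ξ x = 1)

include hx hxξ in
theorem eq_smul_gen (y : A) (hy : y ∈ OortTate.eigenAug R A p χ 1) : y = ξ.ofConv y • x := by
  rw [← hx] at hy
  obtain ⟨r, rfl⟩ := Submodule.mem_span_singleton.mp hy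
  have h1 : ξ.ofConv x = 1 := hxξ
  rw [map_smul, h1, smul_eq_mul, mul_one]

include hξ hxξ in
theorem eq_smul_gen_dual (φ : CartDual.D R A)
    (hφ : φ ∈ OortTate.eigenAug R (CartDual.D R A) p χ 1) : φ = φ.ofConv x • ξ := by
  rw [← hξ] at hφ
  obtain ⟨r, rfl⟩ := Submodule.mem_span_singleton.mp hφ
  have h1 : ξ.ofConv x = 1 := hxξ
  rw [WithConv.ofConv_smul, LinearMap.smul_apply, h1, smul_eq_mul, mul_one]

include hx in
theorem gen_mem : x ∈ OortTate.eigenAug R A p χ 1 := by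
  rw [← hx]
  exact Submodule.mem_span_singleton_self x

include hξ in
theorem gen_mem_dual : ξ ∈ OortTate.eigenAug R (CartDual.D R A) p χ 1 := by
  rw [← hξ]
  exact Submodule.mem_span_singleton_self ξ

end FreeGen

section FreeCase
variable (R : Type u) [CommRing R] (p : ℕ) [Fact p.Prime] (u : R)
  (hu : u * ((p - 1 : ℕ) : R) = 1) (χ : (ZMod p)ˣ →* Rˣ)
  (hχ : ∀ m : (ZMod p)ˣ, m ≠ 1 → IsUnit ((χ m : R) - 1))
  (hχp : ∀ m : (ZMod p)ˣ, ((χ m : Rˣ) : R) - (((m : ZMod p).val : ℕ) : R) ∈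
    Ideal.span ({(p : R)} : Set R))
  (A : Type u) [CommRing A] [HopfAlgebra R A] [Coalgebra.IsCocomm R A] [Module.Finite R A]
  [Module.Projective R A] (hrk : ∀ q : PrimeSpectrum R, Module.rankAtStalk A q = p)
  (A' : Type u) [CommRing A'] [HopfAlgebra R A'] [Coalgebra.IsCocomm R A'] [Module.Finite R A']
  [Module.Projective R A'] (hrk' : ∀ q : PrimeSpectrum R, Module.rankAtStalk A' q = p)
  (x : A) (hx : Submodule.span R {x} = OortTate.eigenAug R A p χ 1)
  (ξ : CartDual.D R A) (hξ : Submodule.span R {ξ} = OortTate.eigenAug R (CartDual.D R A) p χ 1)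
  (hxξ : CartDual.toDual R A ξ x = 1)
  (x' : A') (hx' : Submodule.span R {x'} = OortTate.eigenAug R A' p χ 1)
  (ξ' : CartDual.D R A')
  (hξ' : Submodule.span R {ξ'} = OortTate.eigenAug R (CartDual.D R A') p χ 1)
  (hxξ' : CartDual.toDual R A' ξ' x' = 1)
  (α β α' β' : R) (hα : x ^ p = α • x) (hβ : ξ ^ p = β • ξ) (hα' : x' ^ p = α' • x')
  (hβ' : ξ' ^ p = β' • ξ')
  (v : Rˣ) (hαv : α' = ((v ^ (p - 1) : Rˣ) : R) * α)
  (hβv : β' = ((v⁻¹ ^ (p - 1) : Rˣ) : R) * β)

include hx hxξ hx' hxξ' in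
theorem exists_theta_free :
    ∃ θ : OortTate.eigenAug R A p χ 1 ≃ₗ[R] OortTate.eigenAug R A' p χ 1,
      ∀ y : OortTate.eigenAug R A p χ 1,
        ((θ y : OortTate.eigenAug R A' p χ 1) : A') =
          (((v⁻¹ : Rˣ) : R) * ξ.ofConv (y : A)) • x' := by
  have hxm := gen_mem R A p χ x hx
  have hxm' := gen_mem R A' p χ x' hx'
  have h1 : ξ.ofConv x = 1 := hxξ
  have h1' : ξ'.ofConv x' = 1 := hxξ'
  refine ⟨LinearEquiv.ofLinearMap
    (((ξ.ofConv).smulRight (((v⁻¹ : Rˣ) : R) • x') ∘ₗ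
      (OortTate.eigenAug R A p χ 1).subtype).codRestrict (OortTate.eigenAug R A' p χ 1)
      (fun y => Submodule.smul_mem _ _ (Submodule.smul_mem _ _ hxm')))
    (((ξ'.ofConv).smulRight (((v : Rˣ) : R) • x) ∘ₗ
      (OortTate.eigenAug R A' p χ 1).subtype).codRestrict (OortTate.eigenAug R A p χ 1)
      (fun y => Submodule.smul_mem _ _ (Submodule.smul_mem _ _ hxm))) ?_ ?_, fun y => ?_⟩
  · apply LinearMap.ext
    intro y'
    apply Subtype.ext
    show ξ.ofConv (ξ'.ofConv (y' : A') • ((v : Rˣ) : R) • x) • ((v⁻¹ : Rˣ) : R) • x' = (y' : A')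
    rw [map_smul, map_smul, h1, smul_smul, smul_eq_mul, smul_eq_mul, mul_one, mul_assoc,
      Units.mul_inv, mul_one]
    exact (eq_smul_gen R A' p χ x' hx' ξ' hxξ' _ y'.2).symm
  · apply LinearMap.ext
    intro y
    apply Subtype.ext
    show ξ'.ofConv (ξ.ofConv (y : A) • ((v⁻¹ : Rˣ) : R) • x') • ((v : Rˣ) : R) • x = (y : A)
    rw [map_smul, map_smul, h1', smul_smul, smul_eq_mul, smul_eq_mul, mul_one, mul_assoc,
      Units.inv_mul, mul_one]
    exact (eq_smul_gen R A p χ x hx ξ hxξ _ y.2).symm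
  · show ξ.ofConv (y : A) • ((v⁻¹ : Rˣ) : R) • x' = _
    rw [smul_smul, mul_comm]

include hu hχ hχp hrk hrk' hx hξ hxξ hx' hξ' hxξ' hα hβ hα' hβ' hαv hβv in
theorem classify_free : Nonempty (A ≃ₐc[R] A') := by
  have hp2 := (Fact.out : p.Prime).two_le
  obtain ⟨θ, hθ⟩ := exists_theta_free R p χ A A' x hx ξ hxξ x' hx' ξ' hxξ' v
  have h1 : ξ.ofConv x = 1 := hxξ
  have h1' : ξ'.ofConv x' = 1 := hxξ'
  have hvv : ((v⁻¹ : Rˣ) : R) * ((v : Rˣ) : R) = 1 := Units.inv_mul v
  have hθx : ∀ y : OortTate.eigenAug R A p χ 1, ξ'.ofConv ((θ y : OortTate.eigenAug R A' p χ 1) : A') =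
      ((v⁻¹ : Rˣ) : R) * ξ.ofConv (y : A) := by
    intro y
    rw [hθ y, map_smul, h1', smul_eq_mul, mul_one]
  apply classify R p u hu χ hχ hχp A hrk A' hrk' θ
  · -- compatibility with `a`
    intro f g hg
    have hgx : (g : A) = ((∏ i, ξ.ofConv (f i : A)) * α) • x := by
      rw [hg]
      have : ∀ i, (f i : A) = ξ.ofConv (f i : A) • x :=
        fun i => eq_smul_gen R A p χ x hx ξ hxξ _ (f i).2
      rw [Finset.prod_congr rfl (fun i _ => this i), Finset.prod_smul, Finset.prod_const,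
        Finset.card_univ, Fintype.card_fin, hα, smul_smul]
    rw [hθ g]
    rw [Finset.prod_congr rfl (fun i _ => hθ (f i)), Finset.prod_smul, Finset.prod_const,
      Finset.card_univ, Fintype.card_fin, hα', smul_smul]
    congr 1
    rw [hgx, map_smul, h1, smul_eq_mul, mul_one, Finset.prod_mul_distrib, Finset.prod_const,
      Finset.card_univ, Fintype.card_fin, hαv, Units.val_pow_eq_pow_val]
    have hp1 : ((v⁻¹ : Rˣ) : R) ^ p = ((v⁻¹ : Rˣ) : R) * ((v⁻¹ : Rˣ) : R) ^ (p - 1) := by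
      rw [← pow_succ']
      congr 1
      omega
    have hv1 : ((v⁻¹ : Rˣ) : R) ^ (p - 1) * ((v : Rˣ) : R) ^ (p - 1) = 1 := by
      rw [← mul_pow, hvv, one_pow]
    rw [hp1]
    linear_combination (((v⁻¹ : Rˣ) : R) * (∏ i, ξ.ofConv (f i : A)) * α) * (-hv1)
  · -- compatibility with `b`
    intro φ φ' ψ ψ' hφ hψ hψ' y
    show (ψ : CartDual.D R A).ofConv (y : A) =
      (ψ' : CartDual.D R A').ofConv ((θ y : OortTate.eigenAug R A' p χ 1) : A')
    have hd : ∀ i, (φ i : CartDual.D R A).ofConv x =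
        ((v⁻¹ : Rˣ) : R) * (φ' i : CartDual.D R A').ofConv x' := by
      intro i
      have h2 := hφ i ⟨x, gen_mem R A p χ x hx⟩
      have h3 : (φ i : CartDual.D R A).ofConv x =
          (φ' i : CartDual.D R A').ofConv ((θ ⟨x, gen_mem R A p χ x hx⟩ :
            OortTate.eigenAug R A' p χ 1) : A') := h2
      rw [h3, hθ, map_smul, smul_eq_mul]
      show ((v⁻¹ : Rˣ) : R) * ξ.ofConv x * _ = _
      rw [h1, mul_one]
    have hψx : (ψ : CartDual.D R A) = ((∏ i, (φ i : CartDual.D R A).ofConv x) * β) • ξ := by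
      rw [hψ]
      have : ∀ i, (φ i : CartDual.D R A) = (φ i : CartDual.D R A).ofConv x • ξ :=
        fun i => eq_smul_gen_dual R A p χ x ξ hξ hxξ _ (φ i).2
      rw [Finset.prod_congr rfl (fun i _ => this i), Finset.prod_smul, Finset.prod_const,
        Finset.card_univ, Fintype.card_fin, hβ, smul_smul]
    have hψx' : (ψ' : CartDual.D R A') =
        ((∏ i, (φ' i : CartDual.D R A').ofConv x') * β') • ξ' := by
      rw [hψ']
      have : ∀ i, (φ' i : CartDual.D R A') = (φ' i : CartDual.D R A').ofConv x' • ξ' :=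
        fun i => eq_smul_gen_dual R A' p χ x' ξ' hξ' hxξ' _ (φ' i).2
      rw [Finset.prod_congr rfl (fun i _ => this i), Finset.prod_smul, Finset.prod_const,
        Finset.card_univ, Fintype.card_fin, hβ', smul_smul]
    rw [hψx, hψx', WithConv.ofConv_smul, WithConv.ofConv_smul, LinearMap.smul_apply,
      LinearMap.smul_apply, hθx y, smul_eq_mul, smul_eq_mul,
      Finset.prod_congr rfl (fun i _ => hd i), Finset.prod_mul_distrib, Finset.prod_const,
      Finset.card_univ, Fintype.card_fin, hβv, Units.val_pow_eq_pow_val]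
    have hp1 : ((v⁻¹ : Rˣ) : R) ^ p = ((v⁻¹ : Rˣ) : R) * ((v⁻¹ : Rˣ) : R) ^ (p - 1) := by
      rw [← pow_succ']
      congr 1
      omega
    rw [hp1]
    ring

end FreeCase

end Groth.Agent.Helper6.OT
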