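import Mathlib
import Groth.Agent.Lib.Helper6.OT14

/-!
# Oort–Tate: commutativity of group schemes of prime order, part 1 (generalities)

* `isCocomm_of_dual_comm`: a finite projective bialgebra whose dual algebra is commutative is
  cocommutative.
* `dual_comm_of_injective`: descent of commutativity of the dual along an injective base change.
* `ptGroup`: the group of `B`-valued points of a commutative Hopf algebra.
* `comm_of_residue_independent`: Nakayama lifting: if the powers of `t` are independent modulo the
  maximal ideal then the dual algebra is generated by `t`, hence commutative.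
-/

set_option autoImplicit false
set_option linter.unusedSectionVars false
universe u

open scoped TensorProduct
open WithConv

namespace Groth.Agent.Helper6.OT

section Cocomm
variable (R : Type u) [CommRing R] (A : Type u) [CommRing A] [HopfAlgebra R A]

theorem tensor_expand {n : ℕ} (e : Fin n → A) (φ : Fin n → (A →ₗ[R] R))
    (he : ∀ a : A, a = ∑ i, φ i a • e i) (z : A ⊗[R] A) :
    z = ∑ i, ∑ j, (LinearMap.mul' R R (TensorProduct.map (φ i) (φ j) z)) • (e i ⊗ₜ[R] e j) := by
  induction z using TensorProduct.induction_on with
  | zero => simp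
  | add x y hx hy =>
    conv_lhs => rw [hx, hy]
    simp only [map_add, add_smul, Finset.sum_add_distrib]
  | tmul a b =>
    have h : a ⊗ₜ[R] b = ∑ i, ∑ j, (φ i a * φ j b) • (e i ⊗ₜ[R] e j) := by
      conv_lhs => rw [he a, he b]
      rw [TensorProduct.sum_tmul]
      refine Finset.sum_congr rfl fun i _ => ?_
      rw [TensorProduct.tmul_sum]
      refine Finset.sum_congr rfl fun j _ => ?_
      rw [TensorProduct.smul_tmul_smul]
    simp only [TensorProduct.map_tmul, LinearMap.mul'_apply]
    exact h

theorem mul'_map_comm (φ ψ : A →ₗ[R] R) (z : A ⊗[R] A) :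
    LinearMap.mul' R R (TensorProduct.map φ ψ (TensorProduct.comm R A A z)) =
      LinearMap.mul' R R (TensorProduct.map ψ φ z) := by
  induction z using TensorProduct.induction_on with
  | zero => simp
  | add x y hx hy => simp only [map_add, hx, hy]
  | tmul a b => simp [mul_comm]

/-- a finite projective bialgebra with commutative dual algebra is cocommutative -/
theorem isCocomm_of_dual_comm [Module.Finite R A] [Module.Projective R A]
    (h : ∀ ξ η : WithConv (A →ₗ[R] R), ξ * η = η * ξ) : Coalgebra.IsCocomm R A := by
  obtain ⟨n, e, φ, he⟩ := exists_dual_basis_module (R := R) A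
  refine ⟨LinearMap.ext fun a => ?_⟩
  show TensorProduct.comm R A A (Coalgebra.comul (R := R) a) = Coalgebra.comul (R := R) a
  have h1 := tensor_expand R A e φ he (TensorProduct.comm R A A (Coalgebra.comul (R := R) a))
  have h2 := tensor_expand R A e φ he (Coalgebra.comul (R := R) a)
  refine h1.trans (Eq.trans ?_ h2.symm)
  refine Finset.sum_congr rfl fun i _ => Finset.sum_congr rfl fun j _ => ?_
  congr 1
  rw [mul'_map_comm]
  exact congrArg (fun f : WithConv (A →ₗ[R] R) => f.ofConv a) (h (toConv (φ j)) (toConv (φ i)))

/-- commutativity of the dual algebra descends along an injective base change -/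
theorem dual_comm_of_injective (B : Type u) [CommRing B] [Algebra R B]
    (hinj : Function.Injective (algebraMap R B))
    (h : ∀ ξ η : WithConv (A →ₗ[R] B), ξ * η = η * ξ) :
    ∀ ξ η : WithConv (A →ₗ[R] R), ξ * η = η * ξ := by
  intro ξ η
  apply WithConv.ext
  apply LinearMap.ext
  intro a
  apply hinj
  have h1 := map_mul (postc (C := A) (Algebra.ofId R B)) ξ η
  have h2 := map_mul (postc (C := A) (Algebra.ofId R B)) η ξ
  have h3 : postc (C := A) (Algebra.ofId R B) (ξ * η) a =
      postc (C := A) (Algebra.ofId R B) (η * ξ) a := by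
    rw [h1, h2, h]
  exact h3

end Cocomm

section Points
variable (R : Type u) [CommRing R] (A : Type u) [CommRing A] [HopfAlgebra R A]
  (B : Type u) [CommRing B] [Algebra R B]

/-- the inverse of a point -/
noncomputable def pinv (f : WithConv (A →ₐ[R] B)) : WithConv (A →ₐ[R] B) :=
  toConv (f.ofConv.comp (HopfAlgebra.antipodeAlgHom R A))

theorem pinv_mul (f : WithConv (A →ₐ[R] B)) : pinv R A B f * f = 1 := by
  apply WithConv.ofConv_injective
  apply AlgHom.toLinearMap_injective
  apply WithConv.toConv_injective
  rw [AlgHom.toLinearMap_convMul, AlgHom.toLinearMap_convOne]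
  have h := LinearMap.algHom_comp_convMul_distrib f.ofConv
    (toConv (HopfAlgebra.antipode R (A := A))) (toConv (LinearMap.id : A →ₗ[R] A))
  rw [LinearMap.antipode_mul_id] at h
  apply WithConv.ofConv_injective
  refine Eq.trans ?_ (h.symm.trans ?_)
  · rfl
  · ext a
    simp [LinearMap.convOne_def]

theorem mul_pinv (f : WithConv (A →ₐ[R] B)) : f * pinv R A B f = 1 := by
  apply WithConv.ofConv_injective
  apply AlgHom.toLinearMap_injective
  apply WithConv.toConv_injective
  rw [AlgHom.toLinearMap_convMul, AlgHom.toLinearMap_convOne]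
  have h := LinearMap.algHom_comp_convMul_distrib f.ofConv
    (toConv (LinearMap.id : A →ₗ[R] A)) (toConv (HopfAlgebra.antipode R (A := A)))
  rw [LinearMap.id_mul_antipode] at h
  apply WithConv.ofConv_injective
  refine Eq.trans ?_ (h.symm.trans ?_)
  · rfl
  · ext a
    simp [LinearMap.convOne_def]

/-- the group of `B`-valued points of a commutative Hopf algebra -/
@[reducible] noncomputable def ptGroup : Group (WithConv (A →ₐ[R] B)) :=
  { (inferInstance : Monoid (WithConv (A →ₐ[R] B))) with
    inv := pinv R A B
    inv_mul_cancel := pinv_mul R A B }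

/-- post-composition of points with an algebra hom, as a monoid hom -/
noncomputable def postPt {B' : Type u} [CommRing B'] [Algebra R B'] (h : B →ₐ[R] B') :
    WithConv (A →ₐ[R] B) →* WithConv (A →ₐ[R] B') where
  toFun f := toConv (h.comp f.ofConv)
  map_one' := by
    apply WithConv.ext
    ext a
    simp [AlgHom.convOne_def]
  map_mul' f g := by
    apply WithConv.ext
    exact AlgHom.comp_convMul_distrib h f g

theorem postPt_apply {B' : Type u} [CommRing B'] [Algebra R B'] (h : B →ₐ[R] B')
    (f : WithConv (A →ₐ[R] B)) (a : A) : (postPt R A B h f).ofConv a = h (f.ofConv a) := rfl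

end Points

section Lift
variable (R : Type u) [CommRing R] (A : Type u) [CommRing A] [HopfAlgebra R A]
  (B : Type u) [CommRing B] [Algebra R B] [IsLocalRing B]

open IsLocalRing in
/-- **Nakayama lifting**: if the reductions of `1, t, …, t^(n-1)` (`n = rank A`) modulo the maximal
ideal of `B` are linearly independent, then `Hom_R(A, B)` is spanned by the powers of `t`, hence
commutative. -/
theorem comm_of_residue_independent {ι : Type*} [Fintype ι] (b : Module.Basis ι R A)
    (n : ℕ) (hn : Fintype.card ι = n) (t : WithConv (A →ₗ[R] B))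
    (hli : LinearIndependent (ResidueField B)
      (fun i : Fin n =>
        ((IsScalarTower.toAlgHom R B (ResidueField B)).toLinearMap ∘ₗ (t ^ (i : ℕ)).ofConv :
          A →ₗ[R] ResidueField B))) :
    ∀ ξ η : WithConv (A →ₗ[R] B), ξ * η = η * ξ := by
  classical
  subst hn
  have hfr : Module.finrank (ResidueField B) (A →ₗ[R] ResidueField B) = Fintype.card ι := by
    rw [← (b.constr (ResidueField B)).finrank_eq, Module.finrank_fintype_fun_eq_card]
  have hfin : Module.Finite (ResidueField B) (A →ₗ[R] ResidueField B) :=
    Module.Finite.of_surjective (b.constr (ResidueField B)).toLinearMap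
      (b.constr (ResidueField B)).surjective
  have hspan : Submodule.span (ResidueField B) (Set.range fun i : Fin (Fintype.card ι) =>
      ((IsScalarTower.toAlgHom R B (ResidueField B)).toLinearMap ∘ₗ (t ^ (i : ℕ)).ofConv :
          A →ₗ[R] ResidueField B)) = ⊤ :=
    hli.span_eq_top_of_card_eq_finrank' (by rw [hfr, Fintype.card_fin])
  set N : Submodule B (A →ₗ[R] B) :=
    Submodule.span B (Set.range fun i : Fin (Fintype.card ι) => (t ^ (i : ℕ)).ofConv) with hNdef
  have hfg : (⊤ : Submodule B (A →ₗ[R] B)).FG := by
    have : Module.Finite B (A →ₗ[R] B) :=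
      Module.Finite.of_surjective (b.constr B).toLinearMap (b.constr B).surjective
    exact Module.Finite.fg_top
  have hN : (⊤ : Submodule B (A →ₗ[R] B)) ≤ N := by
    refine Submodule.le_of_le_smul_of_le_jacobson_bot hfg
      (IsLocalRing.maximalIdeal_le_jacobson ⊥) ?_
    intro ξ _
    have h1 : ((IsScalarTower.toAlgHom R B (ResidueField B)).toLinearMap ∘ₗ ξ :
        A →ₗ[R] ResidueField B) ∈ Submodule.span (ResidueField B)
          (Set.range fun i : Fin (Fintype.card ι) =>
            ((IsScalarTower.toAlgHom R B (ResidueField B)).toLinearMap ∘ₗ (t ^ (i : ℕ)).ofConv :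
              A →ₗ[R] ResidueField B)) := by
      rw [hspan]; trivial
    obtain ⟨c, hc⟩ := (Submodule.mem_span_range_iff_exists_fun (ResidueField B)).mp h1
    choose c' hc' using fun i => IsLocalRing.residue_surjective (c i)
    set η : A →ₗ[R] B := ξ - ∑ i, c' i • (t ^ (i : ℕ)).ofConv with hηdef
    have hη : ∀ a, η a ∈ maximalIdeal B := by
      intro a
      have h2 := congrArg (fun f : A →ₗ[R] ResidueField B => f a) hc
      simp only [LinearMap.sum_apply, LinearMap.smul_apply, LinearMap.comp_apply,
        AlgHom.toLinearMap_apply, smul_eq_mul] at h2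
      have h3 : IsLocalRing.residue B (η a) = 0 := by
        rw [hηdef]
        simp only [LinearMap.sub_apply, LinearMap.sum_apply, LinearMap.smul_apply, map_sub,
          map_sum, smul_eq_mul, map_mul]
        rw [sub_eq_zero]
        have h4 : (IsScalarTower.toAlgHom R B (ResidueField B)) (ξ a) =
            IsLocalRing.residue B (ξ a) := rfl
        rw [← h4, ← h2]
        refine Finset.sum_congr rfl fun i _ => ?_
        rw [hc' i]; rfl
      exact (IsLocalRing.residue_eq_zero_iff _).mp h3
    have hη2 : η = ∑ j, η (b j) • (Algebra.linearMap R B ∘ₗ b.coord j) := by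
      apply b.ext
      intro l
      simp only [LinearMap.sum_apply, LinearMap.smul_apply, LinearMap.comp_apply,
        Module.Basis.coord_apply, Module.Basis.repr_self, Algebra.linearMap_apply, smul_eq_mul]
      rw [Finset.sum_eq_single l]
      · simp
      · intro j _ hj
        simp [Finsupp.single_apply, hj, Ne.symm hj]
      · intro hl
        exact absurd (Finset.mem_univ l) hl
    have hξ : ξ = ∑ i, c' i • (t ^ (i : ℕ)).ofConv + η := by
      rw [hηdef]; abel
    rw [hξ]
    refine Submodule.add_mem_sup ?_ ?_
    · exact Submodule.sum_mem _ fun i _ =>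
        Submodule.smul_mem _ _ (Submodule.subset_span ⟨i, rfl⟩)
    · rw [hη2]
      exact Submodule.sum_mem _ fun j _ => Submodule.smul_mem_smul (hη (b j)) Submodule.mem_top
  have hmem : ∀ ξ : WithConv (A →ₗ[R] B),
      ∃ c : Fin (Fintype.card ι) → B, ξ = ∑ i, c i • t ^ (i : ℕ) := by
    intro ξ
    have h1 : ξ.ofConv ∈ N := hN Submodule.mem_top
    obtain ⟨c, hc⟩ := (Submodule.mem_span_range_iff_exists_fun B).mp h1
    refine ⟨c, WithConv.ofConv_injective ?_⟩
    rw [← hc, WithConv.ofConv_sum]
    rfl
  intro ξ η
  obtain ⟨c, rfl⟩ := hmem ξ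
  obtain ⟨d, rfl⟩ := hmem η
  refine Commute.eq ?_
  refine Commute.sum_left _ _ _ fun i _ => Commute.sum_right _ _ _ fun j _ => ?_
  exact ((Commute.pow_pow_self t _ _).smul_right _).smul_left _

end Lift

end Groth.Agent.Helper6.OT
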