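import Mathlib
import Groth.Agent.Lib.Helper6.OT16

/-!
# Oort–Tate: commutativity of group schemes of prime order, part 3
(invariant derivations relative to a base change, the trace argument, independence of the
divided powers of a tangent vector)
-/

set_option autoImplicit false
set_option linter.unusedSectionVars false
universe u

open scoped TensorProduct
open WithConv

namespace Groth.Agent.Helper6.OT

section AbsDer
variable {K₀ : Type*} [CommRing K₀] {S : Type*} [CommRing S] [Algebra K₀ S]
  (I : Ideal S) (D : S →ₗ[K₀] S) (hD : ∀ a b : S, D (a * b) = D a * b + a * D b)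

include hD in
theorem absDer_mem_pow (n : ℕ) : ∀ z ∈ I ^ (n + 1), D z ∈ I ^ n := by
  induction n with
  | zero =>
    intro z _
    rw [pow_zero, Ideal.one_eq_top]
    exact Submodule.mem_top
  | succ n ih =>
    intro z hz
    rw [pow_succ] at hz
    refine Submodule.smul_induction_on hz ?_ ?_
    · intro r hr b hb
      rw [smul_eq_mul, hD]
      refine Ideal.add_mem _ ?_ ?_
      · rw [pow_succ]
        exact Ideal.mul_mem_mul (ih r hr) hb
      · exact Ideal.mul_mem_right _ _ hr
    · intro x y hx hy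
      rw [map_add]
      exact Ideal.add_mem _ hx hy

include hD in
theorem absDer_pow_mem_pow (j n : ℕ) : ∀ z ∈ I ^ (n + j), (D ^ j) z ∈ I ^ n := by
  induction j with
  | zero =>
    intro z hz
    simpa using hz
  | succ j ih =>
    intro z hz
    rw [pow_succ, Module.End.mul_apply]
    exact ih _ (absDer_mem_pow I D hD (n + j) z hz)

variable (y : S) (hyI : y ∈ I) (hs : D y - 1 ∈ I)

include hD hyI hs in
theorem absDer_pow_succ_sub (n : ℕ) :
    D (y ^ (n + 1)) - (n + 1) • y ^ n ∈ I ^ (n + 1) := by
  induction n with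
  | zero =>
    simpa using hs
  | succ n ih =>
    have key : D (y ^ (n + 1 + 1)) - (n + 1 + 1) • y ^ (n + 1) =
        (D (y ^ (n + 1)) - (n + 1) • y ^ n) * y + y ^ (n + 1) * (D y - 1) := by
      rw [pow_succ y (n + 1), hD]
      simp only [nsmul_eq_mul]
      push_cast
      ring
    rw [key, pow_succ I (n + 1)]
    exact Ideal.add_mem _ (Ideal.mul_mem_mul ih hyI)
      (Ideal.mul_mem_mul (Ideal.pow_mem_pow hyI (n + 1)) hs)

include hD hyI hs in
theorem absDer_pow_pow_sub (j n : ℕ) :
    (D ^ j) (y ^ (n + j)) - cfac n j • y ^ n ∈ I ^ (n + 1) := by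
  induction j with
  | zero =>
    simp [cfac]
  | succ j ih =>
    have hr := absDer_pow_succ_sub I D hD y hyI hs (n + j)
    have e1 : (D ^ (j + 1)) (y ^ (n + (j + 1))) = (D ^ j) (D (y ^ (n + j + 1))) := by
      rw [pow_succ, Module.End.mul_apply]
      rfl
    have e2 : D (y ^ (n + j + 1)) =
        (D (y ^ (n + j + 1)) - (n + j + 1) • y ^ (n + j)) + (n + j + 1) • y ^ (n + j) := by
      rw [sub_add_cancel]
    have e3 : (D ^ (j + 1)) (y ^ (n + (j + 1))) - cfac n (j + 1) • y ^ n =
        (D ^ j) (D (y ^ (n + j + 1)) - (n + j + 1) • y ^ (n + j)) +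
          (n + j + 1) • ((D ^ j) (y ^ (n + j)) - cfac n j • y ^ n) := by
      rw [e1]
      conv_lhs => rw [e2]
      rw [map_add, map_nsmul]
      show _ - ((n + j + 1) * cfac n j) • y ^ n = _
      rw [mul_smul, smul_sub]
      abel
    rw [e3]
    refine Ideal.add_mem _ (absDer_pow_mem_pow I D hD j (n + 1) _ ?_)
      (Submodule.smul_of_tower_mem _ _ ih)
    rw [show n + 1 + j = n + j + 1 by omega]
    exact hr

include hD hyI hs in
theorem absDer_pow_pow (j : ℕ) : (D ^ j) (y ^ j) - (j.factorial : S) ∈ I := by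
  have h := absDer_pow_pow_sub I D hD y hyI hs j 0
  rw [zero_add, zero_add, pow_one, pow_zero, cfac_zero_left, nsmul_eq_mul, mul_one] at h
  exact h

include hD hyI in
theorem absDer_pow_pow_lt (i j : ℕ) (hij : i < j) : (D ^ i) (y ^ j) ∈ I := by
  have h := absDer_pow_mem_pow I D hD i (j - i) (y ^ j) (by
    rw [Nat.sub_add_cancel hij.le]
    exact Ideal.pow_mem_pow hyI j)
  exact Ideal.pow_le_self (by omega) h

end AbsDer

section Der
variable (R : Type u) [CommRing R] (A : Type u) [CommRing A] [HopfAlgebra R A]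
  (K : Type u) [CommRing K] [Algebra R K]
  (τ : A →ₗ[R] K)
  (hτ : ∀ a b : A, τ (a * b) =
    Coalgebra.counit (R := R) a • τ b + Coalgebra.counit (R := R) b • τ a)

include hτ in
theorem rtau_one : τ 1 = 0 := by
  have h := hτ 1 1
  rw [mul_one, Bialgebra.counit_one, one_smul] at h
  exact left_eq_add.mp h

/-- the invariant derivation of `K ⊗ A` attached to a `K`-valued tangent vector -/
noncomputable def der : K ⊗[R] A →ₗ[K] K ⊗[R] A :=
  LinearMap.liftBaseChange K (TensorProduct.map τ (LinearMap.id : A →ₗ[R] A) ∘ₗ Coalgebra.comul)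

theorem der_tmul (c : K) (a : A) : der R A K τ (c ⊗ₜ[R] a) =
    c • TensorProduct.map τ (LinearMap.id : A →ₗ[R] A) (Coalgebra.comul (R := R) a) := by
  rw [der, LinearMap.liftBaseChange_tmul]
  rfl

/-- the counit, with values in `K` -/
noncomputable def epsK : A →ₗ[R] K := Algebra.linearMap R K ∘ₗ Coalgebra.counit

theorem map_epsK_comul (a : A) :
    TensorProduct.map (epsK R A K) (LinearMap.id : A →ₗ[R] A) (Coalgebra.comul (R := R) a) =
      (1 : K) ⊗ₜ[R] a :=
  map_one_comul R A K a

include hτ in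
theorem map_tau_mul (z w : A ⊗[R] A) :
    TensorProduct.map τ (LinearMap.id : A →ₗ[R] A) (z * w) =
      TensorProduct.map τ LinearMap.id z * TensorProduct.map (epsK R A K) LinearMap.id w +
      TensorProduct.map (epsK R A K) LinearMap.id z * TensorProduct.map τ LinearMap.id w := by
  induction z using TensorProduct.induction_on with
  | zero => simp
  | add z z' hz hz' => rw [add_mul, map_add, hz, hz', map_add, map_add]; ring
  | tmul a b =>
    induction w using TensorProduct.induction_on with
    | zero => simp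
    | add w w' hw hw' => rw [mul_add, map_add, hw, hw', map_add, map_add]; ring
    | tmul a' b' =>
      rw [Algebra.TensorProduct.tmul_mul_tmul]
      simp only [TensorProduct.map_tmul, LinearMap.id_apply, Algebra.TensorProduct.tmul_mul_tmul]
      rw [hτ, ← TensorProduct.add_tmul]
      congr 1
      simp only [epsK, LinearMap.comp_apply, Algebra.linearMap_apply, Algebra.smul_def]
      ring

include hτ in
theorem der_mul (z w : K ⊗[R] A) :
    der R A K τ (z * w) = der R A K τ z * w + z * der R A K τ w := by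
  induction z using TensorProduct.induction_on with
  | zero => simp
  | add z z' hz hz' => rw [add_mul, map_add, hz, hz', map_add]; ring
  | tmul c a =>
    induction w using TensorProduct.induction_on with
    | zero => simp
    | add w w' hw hw' => rw [mul_add, map_add, hw, hw', map_add]; ring
    | tmul c' a' =>
      rw [Algebra.TensorProduct.tmul_mul_tmul, der_tmul, der_tmul, der_tmul, Bialgebra.comul_mul,
        map_tau_mul R A K τ hτ, map_epsK_comul, map_epsK_comul]
      have e1 : (c ⊗ₜ[R] a : K ⊗[R] A) = c • ((1 : K) ⊗ₜ[R] a) := by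
        rw [TensorProduct.smul_tmul', smul_eq_mul, mul_one]
      have e2 : (c' ⊗ₜ[R] a' : K ⊗[R] A) = c' • ((1 : K) ⊗ₜ[R] a') := by
        rw [TensorProduct.smul_tmul', smul_eq_mul, mul_one]
      rw [e1, e2, smul_mul_smul_comm, smul_mul_smul_comm, ← smul_add]

theorem lb_der (ξ : A →ₗ[R] K) (z : K ⊗[R] A) :
    LinearMap.liftBaseChange K ξ (der R A K τ z) =
      LinearMap.liftBaseChange K (toConv τ * toConv ξ).ofConv z := by
  induction z using TensorProduct.induction_on with
  | zero => simp
  | add u v hu hv => simp only [map_add, hu, hv]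
  | tmul c a =>
    rw [der_tmul, map_smul, LinearMap.liftBaseChange_tmul]
    congr 1
    have hr := Coalgebra.Repr.arbitrary R a
    rw [hr.convMul_apply, ← hr.eq, map_sum, map_sum]
    refine Finset.sum_congr rfl fun i _ => ?_
    rw [TensorProduct.map_tmul, LinearMap.liftBaseChange_tmul, LinearMap.id_apply, smul_eq_mul]

theorem lb_der_pow (n : ℕ) : ∀ z : K ⊗[R] A,
    LinearMap.liftBaseChange K (1 : WithConv (A →ₗ[R] K)).ofConv ((der R A K τ ^ n) z) =
      LinearMap.liftBaseChange K ((toConv τ) ^ n).ofConv z := by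
  induction n with
  | zero =>
    intro z
    simp
  | succ n ih =>
    intro z
    rw [pow_succ, Module.End.mul_apply, ih, lb_der, WithConv.toConv_ofConv, ← pow_succ']

theorem ev_one_eq_lb (z : K ⊗[R] A) :
    ev R A K (1 : WithConv (A →ₐ[R] K)).ofConv z =
      LinearMap.liftBaseChange K (1 : WithConv (A →ₗ[R] K)).ofConv z := by
  induction z using TensorProduct.induction_on with
  | zero => simp
  | add u v hu hv => simp only [map_add, hu, hv]
  | tmul c a =>
    rw [ev_tmul, LinearMap.liftBaseChange_tmul, smul_eq_mul]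
    rfl

end Der

section Indep
variable (R : Type u) [CommRing R] (A : Type u) [CommRing A] [HopfAlgebra R A]
  (K : Type u) [Field K] [Algebra R K]
  (τ : A →ₗ[R] K)
  (hτ : ∀ a b : A, τ (a * b) =
    Coalgebra.counit (R := R) a • τ b + Coalgebra.counit (R := R) b • τ a)
  (hτ0 : τ ≠ 0)

include hτ hτ0 in
/-- the convolution powers `1, τ, …, τ^(p-1)` of a nonzero tangent vector are linearly independent
as soon as `(p-1)!` is invertible -/
theorem linearIndependent_tau_pow (p : ℕ) (hfac : ∀ j < p, ((j.factorial : ℕ) : K) ≠ 0) :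
    LinearIndependent K (fun i : Fin p => ((toConv τ) ^ (i : ℕ)).ofConv) := by
  classical
  obtain ⟨a, ha⟩ : ∃ a, τ a ≠ 0 := by
    by_contra h
    push Not at h
    exact hτ0 (LinearMap.ext h)
  set I : Ideal (K ⊗[R] A) := RingHom.ker (ev R A K (1 : WithConv (A →ₐ[R] K)).ofConv) with hI
  set y : K ⊗[R] A := (τ a)⁻¹ ⊗ₜ[R] a -
    ((τ a)⁻¹ * algebraMap R K (Coalgebra.counit (R := R) a)) ⊗ₜ[R] (1 : A) with hy
  have hyI : y ∈ I := by
    rw [hI, RingHom.mem_ker, hy, map_sub, ev_tmul, ev_tmul, map_one, mul_one]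
    exact sub_self _
  have hDy : ev R A K (1 : WithConv (A →ₐ[R] K)).ofConv (der R A K τ y) = 1 := by
    rw [ev_one_eq_lb, lb_der, WithConv.toConv_ofConv, mul_one, hy, map_sub,
      LinearMap.liftBaseChange_tmul, LinearMap.liftBaseChange_tmul]
    show (τ a)⁻¹ • τ a - _ • τ 1 = 1
    rw [rtau_one R A K τ hτ, smul_zero, sub_zero, smul_eq_mul, inv_mul_cancel₀ ha]
  have hs : der R A K τ y - 1 ∈ I := by
    rw [hI, RingHom.mem_ker, map_sub, hDy, map_one, sub_self]
  have hval : ∀ i j : ℕ, LinearMap.liftBaseChange K ((toConv τ) ^ i).ofConv (y ^ j) =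
      ev R A K (1 : WithConv (A →ₐ[R] K)).ofConv ((der R A K τ ^ i) (y ^ j)) := by
    intro i j
    rw [ev_one_eq_lb, lb_der_pow]
  have hlt : ∀ i j : ℕ, i < j →
      LinearMap.liftBaseChange K ((toConv τ) ^ i).ofConv (y ^ j) = 0 := by
    intro i j hij
    rw [hval]
    exact absDer_pow_pow_lt I (der R A K τ) (der_mul R A K τ hτ) y hyI i j hij
  have heq : ∀ j : ℕ, LinearMap.liftBaseChange K ((toConv τ) ^ j).ofConv (y ^ j) =
      ((j.factorial : ℕ) : K) := by
    intro j
    rw [hval]
    have h := absDer_pow_pow I (der R A K τ) (der_mul R A K τ hτ) y hyI hs j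
    rw [hI, RingHom.mem_ker, map_sub, map_natCast, sub_eq_zero] at h
    exact h
  rw [Fintype.linearIndependent_iff]
  intro g hg
  by_contra hne
  push Not at hne
  set S : Finset (Fin p) := Finset.univ.filter (fun i => g i ≠ 0) with hS
  have hSne : S.Nonempty := by
    obtain ⟨i, hi⟩ := hne
    exact ⟨i, by rw [hS, Finset.mem_filter]; exact ⟨Finset.mem_univ _, hi⟩⟩
  set j := S.max' hSne with hj
  have hjS : j ∈ S := Finset.max'_mem S hSne
  have hgj : g j ≠ 0 := (Finset.mem_filter.mp hjS).2
  have hgt : ∀ i : Fin p, j < i → g i = 0 := by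
    intro i hi
    by_contra h
    have hiS : i ∈ S := by rw [hS, Finset.mem_filter]; exact ⟨Finset.mem_univ _, h⟩
    exact absurd (Finset.le_max' S i hiS) (not_le.mpr hi)
  have hex : ∃ Λ : (A →ₗ[R] K) →ₗ[K] K,
      ∀ ξ : A →ₗ[R] K, Λ ξ = LinearMap.liftBaseChange K ξ (y ^ (j : ℕ)) :=
    ⟨(LinearMap.applyₗ (y ^ (j : ℕ))) ∘ₗ (LinearMap.liftBaseChangeEquiv K).toLinearMap,
      fun ξ => rfl⟩
  obtain ⟨Λ, hΛ⟩ := hex
  have h2 := congrArg Λ hg
  rw [map_sum, map_zero] at h2
  simp only [map_smul, smul_eq_mul] at h2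
  simp only [hΛ] at h2
  rw [Finset.sum_eq_single j] at h2
  · rw [heq] at h2
    rcases mul_eq_zero.mp h2 with h3 | h3
    · exact hgj h3
    · exact hfac _ j.isLt h3
  · intro i _ hij
    rcases lt_or_gt_of_ne hij with h3 | h3
    · rw [hlt _ _ (Fin.lt_def.mp h3), mul_zero]
    · rw [hgt i h3, zero_mul]
  · intro h
    exact absurd (Finset.mem_univ j) h

end Indep

end Groth.Agent.Helper6.OT
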