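import Mathlib
import Groth.Agent.Lib.Helper6.OT17

/-!
# Oort–Tate: commutativity of group schemes of prime order, part 4 (the trace argument):
a finite group scheme over an algebraically closed field with a nonzero tangent vector has order
divisible by the characteristic.
-/

set_option autoImplicit false
set_option linter.unusedSectionVars false
universe u

open scoped TensorProduct
open WithConv

namespace Groth.Agent.Helper6.OT

section Trace
variable (R : Type u) [CommRing R] (A : Type u) [CommRing A] [HopfAlgebra R A] [Module.Finite R A]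
  (K : Type u) [Field K] [IsAlgClosed K] [Algebra R K]

/-- the idempotent of the connected component of the origin -/
theorem exists_origin_idem :
    ∃ e₀ : K ⊗[R] A, IsIdempotentElem e₀ ∧
      ev R A K (1 : WithConv (A →ₐ[R] K)).ofConv e₀ = 1 ∧
      ∀ y : WithConv (A →ₐ[R] K), y ≠ 1 → ev R A K y.ofConv e₀ = 0 := by
  have hart : IsArtinianRing (K ⊗[R] A) := IsArtinianRing.of_finite K (K ⊗[R] A)
  have hnoeth : IsNoetherianRing (K ⊗[R] A) := Algebra.FiniteType.isNoetherianRing K (K ⊗[R] A)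
  set I : Ideal (K ⊗[R] A) := RingHom.ker (ev R A K (1 : WithConv (A →ₐ[R] K)).ofConv) with hI
  obtain ⟨n, hn⟩ := IsArtinian.monotone_stabilizes (R := K ⊗[R] A) (M := K ⊗[R] A)
    ⟨fun m => OrderDual.toDual (I ^ m), fun m m' h => Ideal.pow_le_pow_right h⟩
  have hst : ∀ m, n ≤ m → I ^ n = I ^ m := fun m hm => OrderDual.toDual.injective (hn m hm)
  have hJ : IsIdempotentElem (I ^ (n + 1)) := by
    show I ^ (n + 1) * I ^ (n + 1) = I ^ (n + 1)
    rw [← pow_add, ← hst (n + 1 + (n + 1)) (by omega), ← hst (n + 1) (by omega)]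
  obtain ⟨f, hf, hJf⟩ := (Ideal.isIdempotentElem_iff_of_fg _ (IsNoetherian.noetherian _)).mp hJ
  have hfI : f ∈ I := by
    have h2 : f ∈ I ^ (n + 1) := by
      rw [hJf]
      exact Submodule.mem_span_singleton_self f
    exact Ideal.pow_le_self (by omega) h2
  refine ⟨1 - f, hf.one_sub, ?_, ?_⟩
  · have h3 : ev R A K (1 : WithConv (A →ₐ[R] K)).ofConv f = 0 := hfI
    rw [map_sub, map_one, h3, sub_zero]
  · intro y hy
    obtain ⟨a, ha⟩ : ∃ a, y.ofConv a ≠ (1 : WithConv (A →ₐ[R] K)).ofConv a := by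
      by_contra h
      push Not at h
      exact hy (WithConv.ext (AlgHom.ext h))
    set b : K ⊗[R] A :=
      (1 : K) ⊗ₜ[R] a - ((1 : WithConv (A →ₐ[R] K)).ofConv a) ⊗ₜ[R] (1 : A) with hb
    have hbI : b ∈ I := by
      rw [hI, RingHom.mem_ker, hb, map_sub, ev_tmul, ev_tmul, map_one, mul_one, one_mul, sub_self]
    have hyb : ev R A K y.ofConv b ≠ 0 := by
      rw [hb, map_sub, ev_tmul, ev_tmul, map_one, mul_one, one_mul]
      exact sub_ne_zero.mpr ha
    have hbn : b ^ (n + 1) ∈ Ideal.span {f} := by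
      have h4 : b ^ (n + 1) ∈ I ^ (n + 1) := Ideal.pow_mem_pow hbI _
      rw [hJf] at h4
      exact h4
    obtain ⟨c, hc⟩ := Ideal.mem_span_singleton'.mp hbn
    have hyf : ev R A K y.ofConv f ≠ 0 := by
      intro h0
      have h5 := congrArg (ev R A K y.ofConv) hc
      rw [map_mul, h0, mul_zero, map_pow] at h5
      exact pow_ne_zero _ hyb h5.symm
    have hyf1 : ev R A K y.ofConv f = 1 := by
      have hid : IsIdempotentElem (ev R A K y.ofConv f) := by
        show _ * _ = _
        rw [← map_mul, hf.eq]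
      exact (IsIdempotentElem.iff_eq_zero_or_one.mp hid).resolve_left hyf
    rw [map_sub, map_one, hyf1, sub_self]

variable (τ : A →ₗ[R] K)
  (hτ : ∀ a b : A, τ (a * b) =
    Coalgebra.counit (R := R) a • τ b + Coalgebra.counit (R := R) b • τ a)
  (hτ0 : τ ≠ 0)

include hτ hτ0 in
/-- **the trace argument**: if there is a nonzero tangent vector at the origin, the order of the
group scheme vanishes in `K`. -/
theorem finrank_cast_eq_zero_of_tangent : ((Module.finrank K (K ⊗[R] A) : ℕ) : K) = 0 := by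
  classical
  obtain ⟨e₀, he₀, h1, h0⟩ := exists_origin_idem R A K
  have hfinpt := finite_points R A K
  letI := Fintype.ofFinite (WithConv (A →ₐ[R] K))
  obtain ⟨a, ha⟩ : ∃ a, τ a ≠ 0 := by
    by_contra h
    push Not at h
    exact hτ0 (LinearMap.ext h)
  have hDmul := der_mul R A K τ hτ
  have hDe : der R A K τ e₀ = 0 := by
    have h2 : der R A K τ e₀ = der R A K τ e₀ * e₀ + e₀ * der R A K τ e₀ := by
      have h6 := hDmul e₀ e₀
      rwa [he₀.eq] at h6
    have h3 : e₀ * der R A K τ e₀ = 0 := by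
      have h4 : e₀ * der R A K τ e₀ = e₀ * (der R A K τ e₀ * e₀ + e₀ * der R A K τ e₀) := by
        rw [← h2]
      have h5 : e₀ * (der R A K τ e₀ * e₀ + e₀ * der R A K τ e₀) =
          (e₀ * e₀) * der R A K τ e₀ + (e₀ * e₀) * der R A K τ e₀ := by ring
      rw [h5, he₀.eq] at h4
      exact left_eq_add.mp h4
    rw [h2, mul_comm (der R A K τ e₀) e₀, h3, add_zero]
  set b₀ : K ⊗[R] A := (τ a)⁻¹ ⊗ₜ[R] a with hb₀
  have hDb : ev R A K (1 : WithConv (A →ₐ[R] K)).ofConv (der R A K τ b₀) = 1 := by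
    rw [ev_one_eq_lb, lb_der, WithConv.toConv_ofConv, mul_one, hb₀, LinearMap.liftBaseChange_tmul]
    show (τ a)⁻¹ • τ a = 1
    rw [smul_eq_mul, inv_mul_cancel₀ ha]
  set n : K ⊗[R] A := der R A K τ b₀ - 1 with hn
  have hn0 : ev R A K (1 : WithConv (A →ₐ[R] K)).ofConv n = 0 := by
    rw [hn, map_sub, hDb, map_one, sub_self]
  have hnil : IsNilpotent (e₀ * n) := by
    apply isNilpotent_of_forall_ev R A K
    intro y
    rw [map_mul]
    by_cases hy : y = 1
    · rw [hy, hn0, mul_zero]
    · rw [h0 y hy, zero_mul]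
  have hDeb : der R A K τ (e₀ * b₀) = e₀ + e₀ * n := by
    rw [hDmul, hDe, zero_mul, zero_add, hn]
    ring
  have hL : ∀ z w : K ⊗[R] A, Algebra.lmul K (K ⊗[R] A) z w = z * w := fun z w => rfl
  have hcomm : Algebra.lmul K (K ⊗[R] A) (der R A K τ (e₀ * b₀)) =
      der R A K τ * Algebra.lmul K (K ⊗[R] A) (e₀ * b₀) -
        Algebra.lmul K (K ⊗[R] A) (e₀ * b₀) * der R A K τ := by
    apply LinearMap.ext
    intro w
    rw [LinearMap.sub_apply, Module.End.mul_apply, Module.End.mul_apply, hL, hL, hL,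
      hDmul (e₀ * b₀) w]
    ring
  have htr0 : LinearMap.trace K (K ⊗[R] A)
      (Algebra.lmul K (K ⊗[R] A) (der R A K τ (e₀ * b₀))) = 0 := by
    rw [hcomm, map_sub, LinearMap.trace_mul_comm, sub_self]
  have htrn : LinearMap.trace K (K ⊗[R] A) (Algebra.lmul K (K ⊗[R] A) (e₀ * n)) = 0 :=
    (LinearMap.isNilpotent_trace_of_isNilpotent
      (hnil.map (Algebra.lmul K (K ⊗[R] A)))).eq_zero
  have htre : LinearMap.trace K (K ⊗[R] A) (Algebra.lmul K (K ⊗[R] A) e₀) = 0 := by
    rw [hDeb, map_add, map_add, htrn, add_zero] at htr0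
    exact htr0
  have htrx : ∀ x : WithConv (A →ₐ[R] K),
      LinearMap.trace K (K ⊗[R] A) (Algebra.lmul K (K ⊗[R] A) (trIdem R A K e₀ x)) = 0 := by
    intro x
    let T : (K ⊗[R] A) ≃ₗ[K] (K ⊗[R] A) :=
      LinearEquiv.ofLinearMap (trans R A K (pinv R A K x).ofConv).toLinearMap
        (trans R A K x.ofConv).toLinearMap
        (LinearMap.ext fun z => trans_pinv_trans R A K x z)
        (LinearMap.ext fun z => trans_trans_pinv R A K x z)
    have hT : Algebra.lmul K (K ⊗[R] A) (trIdem R A K e₀ x) =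
        T.conj (Algebra.lmul K (K ⊗[R] A) e₀) := by
      apply LinearMap.ext
      intro w
      rw [LinearEquiv.conj_apply]
      show trIdem R A K e₀ x * w =
        trans R A K (pinv R A K x).ofConv (e₀ * trans R A K x.ofConv w)
      rw [map_mul, trans_pinv_trans]
      rfl
    rw [hT, LinearMap.trace_conj', htre]
  calc ((Module.finrank K (K ⊗[R] A) : ℕ) : K)
      = LinearMap.trace K (K ⊗[R] A) 1 := (LinearMap.trace_one K (K ⊗[R] A)).symm
    _ = LinearMap.trace K (K ⊗[R] A)
          (Algebra.lmul K (K ⊗[R] A) (∑ x, trIdem R A K e₀ x)) := by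
        rw [sum_trIdem R A K e₀ he₀ h1 h0, map_one (Algebra.lmul K (K ⊗[R] A))]
    _ = 0 := by
        rw [map_sum, map_sum]
        exact Finset.sum_eq_zero fun x _ => htrx x

end Trace

end Groth.Agent.Helper6.OT
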