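import Mathlib
import Groth.Agent.Lib.Helper6.OT18

/-!
# Oort–Tate: commutativity of group schemes of prime order, part 5 (the local case)
-/

set_option autoImplicit false
set_option linter.unusedSectionVars false
universe u

open scoped TensorProduct
open WithConv

namespace Groth.Agent.Helper6.OT

section LocalCase
variable (R : Type u) [CommRing R] [IsLocalRing R] (A : Type u) [CommRing A] [HopfAlgebra R A]
  [Module.Finite R A] [Module.Free R A] (p : ℕ) [Fact p.Prime] (hrank : Module.finrank R A = p)

open IsLocalRing

/-- either the special fibre has a nonzero tangent vector, or the augmentation ideal is generated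
by an idempotent -/
theorem exists_tangent_or_integral :
    (∃ τ : A →ₗ[R] ResidueField R, τ ≠ 0 ∧ ∀ a b : A, τ (a * b) =
      Coalgebra.counit (R := R) a • τ b + Coalgebra.counit (R := R) b • τ a) ∨
    (∃ e : A, e * e = e ∧ (∀ a : A, a * e = Coalgebra.counit (R := R) a • e) ∧
      Coalgebra.counit (R := R) e = 1) := by
  classical
  set I : Ideal A := RingHom.ker (Bialgebra.counitAlgHom R A) with hI
  set W : Submodule R A := Submodule.span R {(1 : A)} ⊔ (I * I).restrictScalars R with hW
  by_cases hP : W.map (TensorProduct.mk R (ResidueField R) A 1) = ⊤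
  · right
    have hWtop : W = ⊤ := IsLocalRing.map_tensorProduct_mk_eq_top.mp hP
    have hII : I ≤ I * I := by
      intro x hx
      have hxW : x ∈ W := hWtop ▸ Submodule.mem_top
      obtain ⟨y, hy, z, hz, hyz⟩ := Submodule.mem_sup.mp hxW
      obtain ⟨c, rfl⟩ := Submodule.mem_span_singleton.mp hy
      have hzI : z ∈ I * I := hz
      have hz0 : Bialgebra.counitAlgHom R A z = 0 := Ideal.mul_le_right hzI
      have hx0 : Bialgebra.counitAlgHom R A x = 0 := hx
      rw [← hyz, map_add, map_smul, map_one, hz0, add_zero, smul_eq_mul, mul_one] at hx0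
      rw [← hyz, hx0, zero_smul, zero_add]
      exact hzI
    have hidem : IsIdempotentElem I := le_antisymm Ideal.mul_le_right hII
    have hfg : I.FG := by
      apply Submodule.FG.of_restrictScalars R
      have h1 : I.restrictScalars R = LinearMap.range (augProj R A) := by
        rw [range_augProj]
        rfl
      rw [h1, LinearMap.range_eq_map]
      exact Submodule.FG.map _ Module.Finite.fg_top
    obtain ⟨f, hf, hIf⟩ := (Ideal.isIdempotentElem_iff_of_fg I hfg).mp hidem
    have hfI : f ∈ I := by
      rw [hIf]
      exact Submodule.mem_span_singleton_self f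
    have hf0 : Coalgebra.counit (R := R) f = 0 := hfI
    refine ⟨1 - f, hf.one_sub.eq, ?_, ?_⟩
    · intro a
      have haI : a - Coalgebra.counit (R := R) a • (1 : A) ∈ I := by
        rw [hI, RingHom.mem_ker, map_sub, map_smul, map_one]
        show Coalgebra.counit (R := R) a - _ = 0
        rw [smul_eq_mul, mul_one, sub_self]
      rw [hIf] at haI
      obtain ⟨c, hc⟩ := Ideal.mem_span_singleton'.mp haI
      have h2 : (a - Coalgebra.counit (R := R) a • (1 : A)) * (1 - f) = 0 := by
        rw [← hc, mul_assoc, mul_sub, mul_one, hf.eq, sub_self, mul_zero]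
      rw [sub_mul, sub_eq_zero, smul_mul_assoc, one_mul] at h2
      exact h2
    · rw [map_sub, hf0, sub_zero]
      exact Bialgebra.counit_one
  · left
    set P : Submodule R (ResidueField R ⊗[R] A) :=
      W.map (TensorProduct.mk R (ResidueField R) A 1) with hPdef
    let Pk : Submodule (ResidueField R) (ResidueField R ⊗[R] A) :=
      { carrier := P
        add_mem' := fun ha hb => P.add_mem ha hb
        zero_mem' := P.zero_mem
        smul_mem' := fun c v hv => by
          obtain ⟨r, rfl⟩ := IsLocalRing.residue_surjective c
          have h1 : IsLocalRing.residue R r • v = r • v := by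
            rw [← IsLocalRing.ResidueField.algebraMap_eq, algebraMap_smul]
          rw [h1]
          exact P.smul_mem r hv }
    have hPk : Pk < ⊤ := by
      rw [lt_top_iff_ne_top]
      intro h
      apply hP
      rw [Submodule.eq_top_iff']
      intro v
      have h2 : v ∈ Pk := h ▸ Submodule.mem_top
      exact h2
    obtain ⟨ψ, hψ0, hψP⟩ := Submodule.exists_le_ker_of_lt_top Pk hPk
    have hex : ∃ τ : A →ₗ[R] ResidueField R, ∀ a, τ a = ψ ((1 : ResidueField R) ⊗ₜ[R] a) :=
      ⟨(ψ.restrictScalars R) ∘ₗ (TensorProduct.mk R (ResidueField R) A 1), fun a => rfl⟩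
    obtain ⟨τ, hτa⟩ := hex
    have hτW : ∀ w ∈ W, τ w = 0 := by
      intro w hw
      have h3 : (1 : ResidueField R) ⊗ₜ[R] w ∈ Pk :=
        Submodule.mem_map_of_mem (f := TensorProduct.mk R (ResidueField R) A 1) hw
      rw [hτa]
      exact hψP h3
    have hτ0 : τ ≠ 0 := by
      intro h
      apply hψ0
      apply TensorProduct.AlgebraTensorModule.ext
      intro c a
      have h1 : c ⊗ₜ[R] a = c • ((1 : ResidueField R) ⊗ₜ[R] a) := by
        rw [TensorProduct.smul_tmul', smul_eq_mul, mul_one]
      rw [h1, map_smul, ← hτa, h]
      simp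
    have hτ1 : τ 1 = 0 :=
      hτW 1 (Submodule.mem_sup_left (Submodule.mem_span_singleton_self 1))
    have hτII : ∀ a b : A, Coalgebra.counit (R := R) a = 0 → Coalgebra.counit (R := R) b = 0 →
        τ (a * b) = 0 := by
      intro a b ha hb
      exact hτW _ (Submodule.mem_sup_right (Ideal.mul_mem_mul (I := I) (J := I) ha hb))
    refine ⟨τ, hτ0, ?_⟩
    intro a b
    have ha' : Coalgebra.counit (R := R) (augProj R A a) = 0 := counit_augProj R A a
    have hb' : Coalgebra.counit (R := R) (augProj R A b) = 0 := counit_augProj R A b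
    have hdec : a * b = (Coalgebra.counit (R := R) a * Coalgebra.counit (R := R) b) • (1 : A) +
        Coalgebra.counit (R := R) a • augProj R A b +
        Coalgebra.counit (R := R) b • augProj R A a + augProj R A a * augProj R A b := by
      simp only [augProj_apply, Bialgebra.counitAlgHom_apply, Algebra.smul_def, map_mul, mul_one]
      ring
    have hτa' : τ (augProj R A a) = τ a := by
      rw [augProj_apply, map_sub, Algebra.algebraMap_eq_smul_one, map_smul, hτ1, smul_zero,
        sub_zero]
    have hτb' : τ (augProj R A b) = τ b := by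
      rw [augProj_apply, map_sub, Algebra.algebraMap_eq_smul_one, map_smul, hτ1, smul_zero,
        sub_zero]
    rw [hdec, map_add, map_add, map_add, map_smul, map_smul, map_smul, hτ1, smul_zero, zero_add,
      hτII _ _ ha' hb', add_zero, hτa', hτb']

include hrank in
/-- the non-étale case -/
theorem comm_of_tangent (τ : A →ₗ[R] ResidueField R)
    (hτ : ∀ a b : A, τ (a * b) =
      Coalgebra.counit (R := R) a • τ b + Coalgebra.counit (R := R) b • τ a)
    (hτ0 : τ ≠ 0) : ∀ ξ η : WithConv (A →ₗ[R] R), ξ * η = η * ξ := by
  have hpk : ((p : ℕ) : ResidueField R) = 0 := by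
    have hτK : ∀ a b : A,
        ((IsScalarTower.toAlgHom R (ResidueField R)
          (AlgebraicClosure (ResidueField R))).toLinearMap ∘ₗ τ) (a * b) =
        Coalgebra.counit (R := R) a • ((IsScalarTower.toAlgHom R (ResidueField R)
          (AlgebraicClosure (ResidueField R))).toLinearMap ∘ₗ τ) b +
        Coalgebra.counit (R := R) b • ((IsScalarTower.toAlgHom R (ResidueField R)
          (AlgebraicClosure (ResidueField R))).toLinearMap ∘ₗ τ) a := by
      intro a b
      simp only [LinearMap.comp_apply, hτ, map_add, map_smul]
    have hτK0 : ((IsScalarTower.toAlgHom R (ResidueField R)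
          (AlgebraicClosure (ResidueField R))).toLinearMap ∘ₗ τ) ≠ 0 := by
      intro h
      apply hτ0
      ext a
      have h2 := congrArg (fun f : A →ₗ[R] AlgebraicClosure (ResidueField R) => f a) h
      exact (algebraMap (ResidueField R) (AlgebraicClosure (ResidueField R))).injective
        (by simpa using h2)
    have h := finrank_cast_eq_zero_of_tangent R A (AlgebraicClosure (ResidueField R)) _ hτK hτK0
    rw [Module.finrank_baseChange, hrank] at h
    exact (algebraMap (ResidueField R) (AlgebraicClosure (ResidueField R))).injective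
      (by rw [map_natCast, h, map_zero])
  have hchar : CharP (ResidueField R) p :=
    Groth.Agent.Helper23.VerschLib.charP_of_cast_eq_zero p (ResidueField R) hpk
  have hfac : ∀ j < p, ((j.factorial : ℕ) : ResidueField R) ≠ 0 := by
    intro j hj h
    have hdvd : p ∣ j.factorial := (CharP.cast_eq_zero_iff (ResidueField R) p _).mp h
    rw [(Fact.out : p.Prime).dvd_factorial] at hdvd
    omega
  have hli := linearIndependent_tau_pow R A (ResidueField R) τ hτ hτ0 p hfac
  obtain ⟨t, ht⟩ := Module.projective_lifting_property
    (IsScalarTower.toAlgHom R R (ResidueField R)).toLinearMap τ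
    (fun c => IsLocalRing.residue_surjective c)
  have hcard : Fintype.card (Module.Free.ChooseBasisIndex R A) = p := by
    rw [← Module.finrank_eq_card_chooseBasisIndex, hrank]
  apply comm_of_residue_independent R A R (Module.Free.chooseBasis R A) p hcard (toConv t)
  have hfam : (fun i : Fin p => ((IsScalarTower.toAlgHom R R (ResidueField R)).toLinearMap ∘ₗ
      ((toConv t : WithConv (A →ₗ[R] R)) ^ (i : ℕ)).ofConv : A →ₗ[R] ResidueField R)) =
      fun i : Fin p => ((toConv τ : WithConv (A →ₗ[R] ResidueField R)) ^ (i : ℕ)).ofConv := by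
    funext i
    have h1 := map_pow (postc (C := A) (IsScalarTower.toAlgHom R R (ResidueField R)))
      (toConv t) (i : ℕ)
    have h2 : postc (C := A) (IsScalarTower.toAlgHom R R (ResidueField R)) (toConv t) =
        toConv τ := by
      apply WithConv.ext
      exact ht
    rw [h2] at h1
    exact congrArg WithConv.ofConv h1
  rw [hfam]
  exact hli

include hrank in
/-- the étale case: pass to the local ring of a non-trivial point of the group itself -/
theorem comm_of_integral (e : A) (he : e * e = e)
    (hint : ∀ a : A, a * e = Coalgebra.counit (R := R) a • e)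
    (hε : Coalgebra.counit (R := R) e = 1) :
    ∀ ξ η : WithConv (A →ₗ[R] R), ξ * η = η * ξ := by
  have hp2 : 2 ≤ p := (Fact.out : p.Prime).two_le
  have he1 : e ≠ 1 := by
    intro h1
    have htop : (⊤ : Submodule R A) = Submodule.span R {(1 : A)} := by
      refine le_antisymm (fun a _ => ?_) le_top
      have h2 := hint a
      rw [h1, mul_one] at h2
      rw [h2]
      exact Submodule.smul_mem _ _ (Submodule.mem_span_singleton_self 1)
    have h3 := finrank_span_le_card (R := R) ({(1 : A)} : Set A)
    rw [← htop, finrank_top, hrank] at h3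
    simp at h3
    omega
  have hspan : Ideal.span {e} ≠ ⊤ := by
    intro h
    rw [Ideal.eq_top_iff_one, Ideal.mem_span_singleton'] at h
    obtain ⟨c, hc⟩ := h
    apply he1
    calc e = (c * e) * e := by rw [hc, one_mul]
      _ = c * (e * e) := by ring
      _ = c * e := by rw [he]
      _ = 1 := hc
  obtain ⟨𝔫, h𝔫, he𝔫⟩ := Ideal.exists_le_maximal _ hspan
  have hemem : e ∈ 𝔫 := he𝔫 (Ideal.mem_span_singleton_self e)
  haveI := h𝔫.isPrime
  have hflat : Module.Flat R (Localization.AtPrime 𝔫) :=
    Module.Flat.trans R A (Localization.AtPrime 𝔫)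
  have hint' : Algebra.IsIntegral R A := Algebra.IsIntegral.of_finite R A
  have hcomap : Ideal.comap (algebraMap R A) 𝔫 = IsLocalRing.maximalIdeal R :=
    IsLocalRing.eq_maximalIdeal (Ideal.isMaximal_comap_of_isIntegral_of_isMaximal 𝔫)
  have hloc : IsLocalHom (algebraMap R (Localization.AtPrime 𝔫)) := by
    constructor
    intro r hr
    by_contra hnu
    have hrm : r ∈ IsLocalRing.maximalIdeal R := (IsLocalRing.mem_maximalIdeal r).mpr hnu
    have h1 : algebraMap R A r ∈ 𝔫 := by
      rw [← hcomap] at hrm
      exact hrm
    have h2 : algebraMap A (Localization.AtPrime 𝔫) (algebraMap R A r) ∈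
        IsLocalRing.maximalIdeal (Localization.AtPrime 𝔫) :=
      (IsLocalization.AtPrime.to_map_mem_maximal_iff (Localization.AtPrime 𝔫) 𝔫 _).mpr h1
    rw [← IsScalarTower.algebraMap_apply] at h2
    exact (IsLocalRing.mem_maximalIdeal _).mp h2 hr
  have hff : Module.FaithfullyFlat R (Localization.AtPrime 𝔫) :=
    Module.FaithfullyFlat.of_flat_of_isLocalHom
  have hinj : Function.Injective (algebraMap R (Localization.AtPrime 𝔫)) :=
    FaithfulSMul.algebraMap_injective R (Localization.AtPrime 𝔫)
  apply dual_comm_of_injective R A (Localization.AtPrime 𝔫) hinj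
  have hge : (IsScalarTower.toAlgHom R A (Localization.AtPrime 𝔫)) e = 0 := by
    show algebraMap A (Localization.AtPrime 𝔫) e = 0
    rw [IsLocalization.map_eq_zero_iff 𝔫.primeCompl]
    refine ⟨⟨1 - e, ?_⟩, ?_⟩
    · intro h
      apply h𝔫.ne_top
      rw [Ideal.eq_top_iff_one]
      have h4 := Ideal.add_mem _ h hemem
      rwa [sub_add_cancel] at h4
    · show (1 - e) * e = 0
      rw [sub_mul, one_mul, he, sub_self]
  have hcard : Fintype.card (Module.Free.ChooseBasisIndex R A) = p := by
    rw [← Module.finrank_eq_card_chooseBasisIndex, hrank]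
  apply comm_of_residue_independent R A (Localization.AtPrime 𝔫) (Module.Free.chooseBasis R A) p
    hcard (toConv (IsScalarTower.toAlgHom R A (Localization.AtPrime 𝔫)).toLinearMap)
  have hfam : (fun i : Fin p =>
      ((IsScalarTower.toAlgHom R (Localization.AtPrime 𝔫)
        (ResidueField (Localization.AtPrime 𝔫))).toLinearMap ∘ₗ
      ((toConv (IsScalarTower.toAlgHom R A (Localization.AtPrime 𝔫)).toLinearMap :
        WithConv (A →ₗ[R] Localization.AtPrime 𝔫)) ^ (i : ℕ)).ofConv :
        A →ₗ[R] ResidueField (Localization.AtPrime 𝔫))) =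
      fun i : Fin p => ((postPt R A (Localization.AtPrime 𝔫)
        (IsScalarTower.toAlgHom R (Localization.AtPrime 𝔫)
          (ResidueField (Localization.AtPrime 𝔫)))
        (toConv (IsScalarTower.toAlgHom R A (Localization.AtPrime 𝔫)))) ^ (i : ℕ)).ofConv.toLinearMap := by
    funext i
    have h1 : (toConv (IsScalarTower.toAlgHom R A (Localization.AtPrime 𝔫)).toLinearMap :
        WithConv (A →ₗ[R] Localization.AtPrime 𝔫)) ^ (i : ℕ) =
        toConv ((toConv (IsScalarTower.toAlgHom R A (Localization.AtPrime 𝔫)) :
          WithConv (A →ₐ[R] Localization.AtPrime 𝔫)) ^ (i : ℕ)).ofConv.toLinearMap :=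
      (AlgHom.toLinearMap_convPow (toConv (IsScalarTower.toAlgHom R A (Localization.AtPrime 𝔫)))
        (i : ℕ)).symm
    rw [h1, ← map_pow]
    rfl
  rw [hfam]
  have hinjfam : Function.Injective (fun i : Fin p => ((postPt R A (Localization.AtPrime 𝔫)
        (IsScalarTower.toAlgHom R (Localization.AtPrime 𝔫)
          (ResidueField (Localization.AtPrime 𝔫)))
        (toConv (IsScalarTower.toAlgHom R A (Localization.AtPrime 𝔫)))) ^ (i : ℕ)).ofConv) := by
    intro i j hij
    have hdim : Module.finrank (AlgebraicClosure (ResidueField (Localization.AtPrime 𝔫)))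
        (AlgebraicClosure (ResidueField (Localization.AtPrime 𝔫)) ⊗[R] A) = p := by
      rw [Module.finrank_baseChange, hrank]
    have hx : (postPt R A (ResidueField (Localization.AtPrime 𝔫))
        (IsScalarTower.toAlgHom R (ResidueField (Localization.AtPrime 𝔫))
          (AlgebraicClosure (ResidueField (Localization.AtPrime 𝔫))))
        (postPt R A (Localization.AtPrime 𝔫)
          (IsScalarTower.toAlgHom R (Localization.AtPrime 𝔫)
            (ResidueField (Localization.AtPrime 𝔫)))
          (toConv (IsScalarTower.toAlgHom R A (Localization.AtPrime 𝔫))))).ofConv e = 0 := by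
      rw [postPt_apply, postPt_apply]
      rw [show (toConv (IsScalarTower.toAlgHom R A (Localization.AtPrime 𝔫))).ofConv e = 0 from hge,
        map_zero, map_zero]
    have hpow : (postPt R A (ResidueField (Localization.AtPrime 𝔫))
        (IsScalarTower.toAlgHom R (ResidueField (Localization.AtPrime 𝔫))
          (AlgebraicClosure (ResidueField (Localization.AtPrime 𝔫))))
        (postPt R A (Localization.AtPrime 𝔫)
          (IsScalarTower.toAlgHom R (Localization.AtPrime 𝔫)
            (ResidueField (Localization.AtPrime 𝔫)))
          (toConv (IsScalarTower.toAlgHom R A (Localization.AtPrime 𝔫))))) ^ (i : ℕ) =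
        (postPt R A (ResidueField (Localization.AtPrime 𝔫))
        (IsScalarTower.toAlgHom R (ResidueField (Localization.AtPrime 𝔫))
          (AlgebraicClosure (ResidueField (Localization.AtPrime 𝔫))))
        (postPt R A (Localization.AtPrime 𝔫)
          (IsScalarTower.toAlgHom R (Localization.AtPrime 𝔫)
            (ResidueField (Localization.AtPrime 𝔫)))
          (toConv (IsScalarTower.toAlgHom R A (Localization.AtPrime 𝔫))))) ^ (j : ℕ) := by
      have h5 := congrArg (postPt R A (ResidueField (Localization.AtPrime 𝔫))
        (IsScalarTower.toAlgHom R (ResidueField (Localization.AtPrime 𝔫))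
          (AlgebraicClosure (ResidueField (Localization.AtPrime 𝔫))))) (WithConv.ext hij)
      rwa [map_pow, map_pow] at h5
    exact Fin.ext (pow_inj_of_integral R A
      (AlgebraicClosure (ResidueField (Localization.AtPrime 𝔫))) e he hint hε p hdim _ hx
      i j i.isLt j.isLt hpow)
  exact (linearIndependent_toLinearMap R A (ResidueField (Localization.AtPrime 𝔫))).comp _ hinjfam

include hrank in
/-- **Oort–Tate, Theorem 1 (local case)**: a finite free commutative Hopf algebra of prime rank
over a local ring is cocommutative. -/
theorem isCocomm_of_local : Coalgebra.IsCocomm R A := by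
  apply isCocomm_of_dual_comm
  rcases exists_tangent_or_integral R A with ⟨τ, hτ0, hτ⟩ | ⟨e, he, hint, hε⟩
  · exact comm_of_tangent R A p hrank τ hτ hτ0
  · exact comm_of_integral R A p hrank e he hint hε

end LocalCase

end Groth.Agent.Helper6.OT
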