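import Mathlib
import Groth.Agent.Lib.Helper6.OT19

/-!
# Oort–Tate, Theorem 1: a finite locally free group scheme of prime order is commutative
(Hopf-algebraic form: a commutative Hopf algebra, finite projective of constant prime rank over an
arbitrary commutative ring, is cocommutative; hence it is killed by `p` by Deligne's theorem).
-/

set_option autoImplicit false
set_option linter.unusedSectionVars false
universe u

open scoped TensorProduct
open WithConv

namespace Groth.Agent.Helper6.OT

section Global
variable (R : Type u) [CommRing R] (A : Type u) [CommRing A] [HopfAlgebra R A]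

theorem lb_convMul (T : Type u) [CommRing T] [Algebra R T] (ξ η : A →ₗ[R] T) (a : A) :
    ((toConv (LinearMap.liftBaseChange T ξ) * toConv (LinearMap.liftBaseChange T η) :
      WithConv (T ⊗[R] A →ₗ[T] T))).ofConv ((1 : T) ⊗ₜ[R] a) =
      ((toConv ξ * toConv η : WithConv (A →ₗ[R] T))).ofConv a := by
  rw [LinearMap.convMul_apply, LinearMap.convMul_apply, TensorProduct.comul_tmul,
    CommSemiring.comul_apply]
  have h := (Coalgebra.Repr.arbitrary R a).eq
  rw [← h]
  simp only [TensorProduct.tmul_sum, map_sum]
  refine Finset.sum_congr rfl fun i _ => ?_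
  simp

/-- **Oort–Tate, Theorem 1**: a commutative Hopf algebra which is finite projective of constant
prime rank is cocommutative. -/
theorem isCocomm_of_rankAtStalk [Module.Finite R A] [Module.Projective R A] (p : ℕ)
    [Fact p.Prime] (hrk : ∀ q : PrimeSpectrum R, Module.rankAtStalk A q = p) :
    Coalgebra.IsCocomm R A := by
  apply isCocomm_of_dual_comm
  intro ξ η
  apply WithConv.ext
  apply LinearMap.ext
  intro a
  rw [← sub_eq_zero]
  apply eq_zero_of_localization
  intro J hJ
  have hfree : Module.Free (Localization.AtPrime J) (Localization.AtPrime J ⊗[R] A) :=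
    Module.free_of_flat_of_isLocalRing
  have hfr : Module.finrank (Localization.AtPrime J) (Localization.AtPrime J ⊗[R] A) = p := by
    rw [← Module.rankAtStalk_eq_finrank_tensorProduct (R := R) (M := A) ⟨J, hJ.isPrime⟩]
    exact hrk _
  have hco : Coalgebra.IsCocomm (Localization.AtPrime J) (Localization.AtPrime J ⊗[R] A) :=
    isCocomm_of_local (Localization.AtPrime J) (Localization.AtPrime J ⊗[R] A) p hfr
  have hc := mul_comm
    (toConv (LinearMap.liftBaseChange (Localization.AtPrime J)
      ((Algebra.ofId R (Localization.AtPrime J)).toLinearMap ∘ₗ ξ.ofConv)) :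
      WithConv (Localization.AtPrime J ⊗[R] A →ₗ[Localization.AtPrime J] Localization.AtPrime J))
    (toConv (LinearMap.liftBaseChange (Localization.AtPrime J)
      ((Algebra.ofId R (Localization.AtPrime J)).toLinearMap ∘ₗ η.ofConv)))
  have h1 := congrArg (fun f : WithConv (Localization.AtPrime J ⊗[R] A →ₗ[Localization.AtPrime J]
    Localization.AtPrime J) => f.ofConv ((1 : Localization.AtPrime J) ⊗ₜ[R] a)) hc
  rw [lb_convMul, lb_convMul] at h1
  have h2 := congrArg (fun f : WithConv (A →ₗ[R] Localization.AtPrime J) => f.ofConv a)
    (map_mul (postc (C := A) (Algebra.ofId R (Localization.AtPrime J))) ξ η)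
  have h3 := congrArg (fun f : WithConv (A →ₗ[R] Localization.AtPrime J) => f.ofConv a)
    (map_mul (postc (C := A) (Algebra.ofId R (Localization.AtPrime J))) η ξ)
  rw [map_sub, sub_eq_zero]
  exact h2.trans (h1.trans h3.symm)

/-- **Oort–Tate, Theorem 1, second half**: a group scheme of prime order `p` is killed by `p`. -/
theorem deligne_of_prime_rank [Module.Finite R A] [Module.Projective R A] (p : ℕ)
    [Fact p.Prime] (hrk : ∀ q : PrimeSpectrum R, Module.rankAtStalk A q = p) :
    (toConv (AlgHom.id R A)) ^ p = 1 := by
  have := isCocomm_of_rankAtStalk R A p hrk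
  exact deligne_of_rankAtStalk R A p hrk

end Global

end Groth.Agent.Helper6.OT
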