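import Mathlib
import Groth.Agent.Lib.Helper6.OTU15

/-!
# (universe-polymorphic version) Oort–Tate: commutativity of group schemes of prime order, part 2
(points of `K ⊗ A` over an algebraically closed field, translations, decomposition)
-/

set_option autoImplicit false
set_option linter.unusedSectionVars false
universe u v w

open scoped TensorProduct
open WithConv
open Groth.Agent.Helper6.OT (postc postc_apply exists_dual_basis_module cfac cfac_zero_left)

namespace Groth.Agent.Helper6.OTU

section Frame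
variable (R : Type u) [CommRing R] (A : Type v) [CommRing A] [HopfAlgebra R A]
  (K : Type w) [CommRing K] [Algebra R K]

/-- evaluation of `K ⊗ A` at a `K`-valued point of `A` -/
noncomputable def ev (x : A →ₐ[R] K) : K ⊗[R] A →ₐ[K] K :=
  Algebra.TensorProduct.lift (AlgHom.id K K) x (fun _ _ => Commute.all _ _)

@[simp] theorem ev_tmul (x : A →ₐ[R] K) (c : K) (a : A) :
    ev R A K x (c ⊗ₜ[R] a) = c * x a := by
  simp [ev]

theorem ev_injective {x y : A →ₐ[R] K} (h : ev R A K x = ev R A K y) : x = y := by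
  ext a
  have := congrArg (fun f : K ⊗[R] A →ₐ[K] K => f (1 ⊗ₜ[R] a)) h
  simpa using this

/-- translation of `K ⊗ A` by a `K`-valued point of `A` -/
noncomputable def trans (x : A →ₐ[R] K) : K ⊗[R] A →ₐ[K] K ⊗[R] A :=
  Algebra.TensorProduct.lift (Algebra.TensorProduct.includeLeft : K →ₐ[K] K ⊗[R] A)
    ((Algebra.TensorProduct.map x (AlgHom.id R A)).comp (Bialgebra.comulAlgHom R A))
    (fun _ _ => Commute.all _ _)

theorem trans_tmul (x : A →ₐ[R] K) (c : K) (a : A) :
    trans R A K x (c ⊗ₜ[R] a) = (c ⊗ₜ[R] (1 : A)) *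
      Algebra.TensorProduct.map x (AlgHom.id R A) (Coalgebra.comul (R := R) a) := by
  rw [trans, Algebra.TensorProduct.lift_tmul]
  rfl

theorem map_one_comul (a : A) :
    Algebra.TensorProduct.map (1 : WithConv (A →ₐ[R] K)).ofConv (AlgHom.id R A)
      (Coalgebra.comul (R := R) a) = (1 : K) ⊗ₜ[R] a := by
  have h := congrArg (TensorProduct.map (Algebra.linearMap R K) (LinearMap.id : A →ₗ[R] A))
    (Coalgebra.sum_counit_tmul_eq (Coalgebra.Repr.arbitrary R a))
  rw [map_sum] at h
  simp only [TensorProduct.map_tmul, Algebra.linearMap_apply, map_one, LinearMap.id_apply] at h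
  rw [← h, ← (Coalgebra.Repr.arbitrary R a).eq, map_sum]
  refine Finset.sum_congr rfl fun i _ => ?_
  rw [Algebra.TensorProduct.map_tmul]
  rfl

theorem trans_one (z : K ⊗[R] A) : trans R A K (1 : WithConv (A →ₐ[R] K)).ofConv z = z := by
  induction z using TensorProduct.induction_on with
  | zero => simp
  | add u v hu hv => simp only [map_add, hu, hv]
  | tmul c a =>
    rw [trans_tmul, map_one_comul, Algebra.TensorProduct.tmul_mul_tmul, mul_one, one_mul]

theorem ev_map (x y : A →ₐ[R] K) (w : A ⊗[R] A) :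
    ev R A K y (Algebra.TensorProduct.map x (AlgHom.id R A) w) =
      Algebra.TensorProduct.lift x y (fun _ _ => Commute.all _ _) w := by
  induction w using TensorProduct.induction_on with
  | zero => simp
  | add u v hu hv => simp only [map_add, hu, hv]
  | tmul a b => simp

theorem ev_trans (x y : A →ₐ[R] K) (z : K ⊗[R] A) :
    ev R A K y (trans R A K x z) = ev R A K (toConv x * toConv y).ofConv z := by
  induction z using TensorProduct.induction_on with
  | zero => simp
  | add u v hu hv => simp only [map_add, hu, hv]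
  | tmul c a =>
    rw [trans_tmul, map_mul, ev_map, ev_tmul, ev_tmul, map_one, mul_one]
    exact congrArg (c * ·) (AlgHom.convMul_apply (toConv x) (toConv y) a).symm

theorem trans_trans (x y : A →ₐ[R] K) (z : K ⊗[R] A) :
    trans R A K x (trans R A K y z) = trans R A K (toConv y * toConv x).ofConv z := by
  let Ψ : A ⊗[R] (A ⊗[R] A) →ₗ[R] K ⊗[R] A :=
    LinearMap.mul' R (K ⊗[R] A) ∘ₗ TensorProduct.map
      ((Algebra.TensorProduct.includeLeft : K →ₐ[R] K ⊗[R] A).toLinearMap ∘ₗ y.toLinearMap)
      (Algebra.TensorProduct.map x (AlgHom.id R A)).toLinearMap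
  have hΨ : ∀ (a : A) (w : A ⊗[R] A), Ψ (a ⊗ₜ[R] w) =
      (y a ⊗ₜ[R] (1 : A)) * Algebra.TensorProduct.map x (AlgHom.id R A) w := fun a w => by
    simp only [Ψ, LinearMap.comp_apply, TensorProduct.map_tmul, LinearMap.mul'_apply,
      AlgHom.toLinearMap_apply, Algebra.TensorProduct.includeLeft_apply]
  have c1 : ∀ w : A ⊗[R] A, trans R A K x (Algebra.TensorProduct.map y (AlgHom.id R A) w) =
      Ψ (LinearMap.lTensor A Coalgebra.comul w) := by
    intro w
    induction w using TensorProduct.induction_on with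
    | zero => simp
    | add u v hu hv => simp only [map_add, hu, hv]
    | tmul a a' =>
      rw [Algebra.TensorProduct.map_tmul, LinearMap.lTensor_tmul, hΨ, trans_tmul]
      rfl
  have c2 : ∀ w : A ⊗[R] A,
      Algebra.TensorProduct.map (toConv y * toConv x).ofConv (AlgHom.id R A) w =
      Ψ (TensorProduct.assoc R A A A (LinearMap.rTensor A Coalgebra.comul w)) := by
    intro w
    induction w using TensorProduct.induction_on with
    | zero => simp
    | add u v hu hv => simp only [map_add, hu, hv]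
    | tmul a a'' =>
      have hr := Coalgebra.Repr.arbitrary R a
      have e1 : (toConv y * toConv x).ofConv a =
          ∑ i ∈ hr.index, y (hr.left i) * x (hr.right i) := by
        rw [AlgHom.convMul_apply, ← hr.eq, map_sum]
        refine Finset.sum_congr rfl fun i _ => ?_
        rw [Algebra.TensorProduct.lift_tmul]
      rw [Algebra.TensorProduct.map_tmul, LinearMap.rTensor_tmul, e1, ← hr.eq,
        TensorProduct.sum_tmul, TensorProduct.sum_tmul, map_sum, map_sum]
      refine Finset.sum_congr rfl fun i _ => ?_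
      rw [TensorProduct.assoc_tmul, hΨ, Algebra.TensorProduct.map_tmul,
        Algebra.TensorProduct.tmul_mul_tmul, one_mul]
  induction z using TensorProduct.induction_on with
  | zero => simp
  | add u v hu hv => simp only [map_add, hu, hv]
  | tmul c a =>
    rw [trans_tmul, map_mul, c1, trans_tmul R A K (toConv y * toConv x).ofConv, c2,
      Coalgebra.coassoc_apply]
    congr 1
    rw [trans_tmul, Bialgebra.comul_one, map_one, mul_one]

theorem trans_pinv_trans (x : WithConv (A →ₐ[R] K)) (z : K ⊗[R] A) :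
    trans R A K (pinv R A K x).ofConv (trans R A K x.ofConv z) = z := by
  rw [trans_trans]
  rw [show toConv x.ofConv * toConv (pinv R A K x).ofConv = 1 from mul_pinv R A K x, trans_one]

theorem trans_trans_pinv (x : WithConv (A →ₐ[R] K)) (z : K ⊗[R] A) :
    trans R A K x.ofConv (trans R A K (pinv R A K x).ofConv z) = z := by
  rw [trans_trans]
  rw [show toConv (pinv R A K x).ofConv * toConv x.ofConv = 1 from pinv_mul R A K x, trans_one]

end Frame

section AlgClosed
variable (R : Type u) [CommRing R] (A : Type v) [CommRing A] [HopfAlgebra R A] [Module.Finite R A]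
  (K : Type w) [Field K] [IsAlgClosed K] [Algebra R K]

theorem exists_ev_of_maximal (𝔫 : Ideal (K ⊗[R] A)) (h𝔫 : 𝔫.IsMaximal) :
    ∃ y : WithConv (A →ₐ[R] K), ∀ z, ev R A K y.ofConv z = 0 ↔ z ∈ 𝔫 := by
  have : IsDomain ((K ⊗[R] A) ⧸ 𝔫) := (Ideal.Quotient.isDomain_iff_prime 𝔫).mpr h𝔫.isPrime
  have : Module.Finite K ((K ⊗[R] A) ⧸ 𝔫) :=
    Module.Finite.of_surjective (Ideal.Quotient.mkₐ K 𝔫).toLinearMap
      (Ideal.Quotient.mkₐ_surjective K 𝔫)
  have : Algebra.IsIntegral K ((K ⊗[R] A) ⧸ 𝔫) := Algebra.IsIntegral.of_finite K _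
  have hbij : Function.Bijective (algebraMap K ((K ⊗[R] A) ⧸ 𝔫)) :=
    IsAlgClosed.algebraMap_bijective_of_isIntegral
  let e : K ≃ₐ[K] ((K ⊗[R] A) ⧸ 𝔫) := AlgEquiv.ofBijective (Algebra.ofId K _) hbij
  let φ : K ⊗[R] A →ₐ[K] K := (e.symm : _ →ₐ[K] K).comp (Ideal.Quotient.mkₐ K 𝔫)
  let y : A →ₐ[R] K := (φ.restrictScalars R).comp Algebra.TensorProduct.includeRight
  have hφ : ev R A K y = φ := by
    apply Algebra.TensorProduct.ext'
    intro c a
    rw [ev_tmul]
    show c * φ (1 ⊗ₜ a) = φ (c ⊗ₜ a)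
    rw [← smul_eq_mul, ← map_smul, TensorProduct.smul_tmul', smul_eq_mul, mul_one]
  refine ⟨toConv y, fun z => ?_⟩
  show ev R A K y z = 0 ↔ _
  rw [hφ]
  show e.symm (Ideal.Quotient.mk 𝔫 z) = 0 ↔ _
  rw [map_eq_zero_iff _ e.symm.injective, Ideal.Quotient.eq_zero_iff_mem]

theorem isNilpotent_of_forall_ev (z : K ⊗[R] A)
    (h : ∀ y : WithConv (A →ₐ[R] K), ev R A K y.ofConv z = 0) : IsNilpotent z := by
  have : IsArtinianRing (K ⊗[R] A) := IsArtinianRing.of_finite K (K ⊗[R] A)
  have hz : z ∈ Ideal.jacobson (⊥ : Ideal (K ⊗[R] A)) := by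
    rw [Ideal.jacobson, Ideal.mem_sInf]
    rintro J ⟨-, hJ⟩
    obtain ⟨y, hy⟩ := exists_ev_of_maximal R A K J hJ
    exact (hy z).mp (h y)
  obtain ⟨n, hn⟩ := IsArtinianRing.isNilpotent_jacobson_bot (R := K ⊗[R] A)
  refine ⟨n, ?_⟩
  have h2 := Ideal.pow_mem_pow hz n
  rw [hn] at h2
  simpa using h2

theorem eq_zero_of_idem_of_forall_ev (z : K ⊗[R] A) (hz : IsIdempotentElem z)
    (h : ∀ y : WithConv (A →ₐ[R] K), ev R A K y.ofConv z = 0) : z = 0 := by
  obtain ⟨n, hn⟩ := isNilpotent_of_forall_ev R A K z h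
  cases n with
  | zero =>
    rw [pow_zero] at hn
    rw [← mul_one z, hn, mul_zero]
  | succ n =>
    rw [hz.pow_succ_eq] at hn
    exact hn

theorem finite_points : Finite (WithConv (A →ₐ[R] K)) := by
  have h1 : Finite (K ⊗[R] A →ₐ[K] K) :=
    (linearIndependent_toLinearMap K (K ⊗[R] A) K).finite
  exact Finite.of_injective (fun x : WithConv (A →ₐ[R] K) => ev R A K x.ofConv)
    (fun x y h => WithConv.ofConv_injective (ev_injective R A K h))

section Decomp
variable (e₀ : K ⊗[R] A) (he₀ : IsIdempotentElem e₀)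
  (h1 : ev R A K (1 : WithConv (A →ₐ[R] K)).ofConv e₀ = 1)
  (h0 : ∀ y : WithConv (A →ₐ[R] K), y ≠ 1 → ev R A K y.ofConv e₀ = 0)

/-- the translates of an idempotent supported at the origin -/
noncomputable def trIdem (x : WithConv (A →ₐ[R] K)) : K ⊗[R] A :=
  trans R A K (pinv R A K x).ofConv e₀

include h1 in
theorem ev_trIdem_self (x : WithConv (A →ₐ[R] K)) :
    ev R A K x.ofConv (trIdem R A K e₀ x) = 1 := by
  unfold trIdem
  rw [ev_trans]
  rw [show toConv (pinv R A K x).ofConv * toConv x.ofConv = 1 from pinv_mul R A K x]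
  exact h1

include h0 in
theorem ev_trIdem_ne (x y : WithConv (A →ₐ[R] K)) (hyx : y ≠ x) :
    ev R A K y.ofConv (trIdem R A K e₀ x) = 0 := by
  unfold trIdem
  rw [ev_trans]
  apply h0
  intro h
  apply hyx
  have h2 : (pinv R A K x) * y = 1 := h
  calc y = (x * pinv R A K x) * y := by rw [mul_pinv, one_mul]
    _ = x * (pinv R A K x * y) := mul_assoc _ _ _
    _ = x := by rw [h2, mul_one]

include he₀ in
theorem trIdem_idem (x : WithConv (A →ₐ[R] K)) : IsIdempotentElem (trIdem R A K e₀ x) := by
  show trans R A K _ e₀ * trans R A K _ e₀ = trans R A K _ e₀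
  rw [← map_mul, he₀.eq]

include he₀ h1 h0 in
theorem trIdem_ortho (x y : WithConv (A →ₐ[R] K)) (hxy : x ≠ y) :
    trIdem R A K e₀ x * trIdem R A K e₀ y = 0 := by
  apply eq_zero_of_idem_of_forall_ev R A K
  · exact (trIdem_idem R A K e₀ he₀ x).mul (trIdem_idem R A K e₀ he₀ y)
  · intro z
    rw [map_mul]
    by_cases hzx : z = x
    · rw [ev_trIdem_ne R A K e₀ h0 y z (fun h => hxy (hzx.symm.trans h)), mul_zero]
    · rw [ev_trIdem_ne R A K e₀ h0 x z hzx, zero_mul]

include he₀ h1 h0 in
theorem sum_trIdem [Fintype (WithConv (A →ₐ[R] K))] : ∑ x, trIdem R A K e₀ x = 1 := by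
  classical
  have hoi : OrthogonalIdempotents (trIdem R A K e₀) :=
    ⟨trIdem_idem R A K e₀ he₀, fun x y hxy => trIdem_ortho R A K e₀ he₀ h1 h0 x y hxy⟩
  have hu : IsIdempotentElem (1 - ∑ x, trIdem R A K e₀ x) :=
    (hoi.isIdempotentElem_sum).one_sub
  have h3 := eq_zero_of_idem_of_forall_ev R A K _ hu (fun y => by
    rw [map_sub, map_one, map_sum, Finset.sum_eq_single y, ev_trIdem_self R A K e₀ h1, sub_self]
    · intro x _ hxy
      exact ev_trIdem_ne R A K e₀ h0 x y (Ne.symm hxy)
    · intro h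
      exact absurd (Finset.mem_univ y) h)
  exact (sub_eq_zero.mp h3).symm

end Decomp

section Integral
variable (e : A) (he : e * e = e)
  (hint : ∀ a : A, a * e = Coalgebra.counit (R := R) a • e)
  (hε : Coalgebra.counit (R := R) e = 1)

include he in
theorem integral_idem : IsIdempotentElem ((1 : K) ⊗ₜ[R] e) := by
  show (1 : K) ⊗ₜ[R] e * (1 : K) ⊗ₜ[R] e = _
  rw [Algebra.TensorProduct.tmul_mul_tmul, he, mul_one]

include hε in
theorem integral_ev_one : ev R A K (1 : WithConv (A →ₐ[R] K)).ofConv ((1 : K) ⊗ₜ[R] e) = 1 := by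
  rw [ev_tmul, one_mul]
  show algebraMap R K (Coalgebra.counit (R := R) e) = 1
  rw [hε, map_one]

include he hint in
theorem integral_ev_ne (y : WithConv (A →ₐ[R] K)) (hy : y ≠ 1) :
    ev R A K y.ofConv ((1 : K) ⊗ₜ[R] e) = 0 := by
  rw [ev_tmul, one_mul]
  by_contra hne
  apply hy
  have hidem : IsIdempotentElem (y.ofConv e) := by
    show y.ofConv e * y.ofConv e = y.ofConv e
    rw [← map_mul, he]
  have h1 : y.ofConv e = 1 := (IsIdempotentElem.iff_eq_zero_or_one.mp hidem).resolve_left hne
  apply WithConv.ext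
  ext a
  have h2 : y.ofConv a = y.ofConv a * y.ofConv e := by rw [h1, mul_one]
  rw [h2, ← map_mul, hint, map_smul, h1, Algebra.smul_def, mul_one]
  rfl

include hint in
theorem integral_mul (z : K ⊗[R] A) :
    z * ((1 : K) ⊗ₜ[R] e) =
      ev R A K (1 : WithConv (A →ₐ[R] K)).ofConv z • ((1 : K) ⊗ₜ[R] e) := by
  induction z using TensorProduct.induction_on with
  | zero => simp
  | add u v hu hv => rw [add_mul, hu, hv, map_add, add_smul]
  | tmul c a =>
    rw [Algebra.TensorProduct.tmul_mul_tmul, mul_one, hint, ev_tmul, TensorProduct.smul_tmul',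
      TensorProduct.tmul_smul, TensorProduct.smul_tmul']
    congr 1
    show Coalgebra.counit (R := R) a • c =
      (c * algebraMap R K (Coalgebra.counit (R := R) a)) • (1 : K)
    rw [smul_eq_mul, mul_one, Algebra.smul_def, mul_comm]

include hint in
theorem integral_mul_trIdem (x : WithConv (A →ₐ[R] K)) (z : K ⊗[R] A) :
    z * trIdem R A K ((1 : K) ⊗ₜ[R] e) x =
      ev R A K x.ofConv z • trIdem R A K ((1 : K) ⊗ₜ[R] e) x := by
  unfold trIdem
  conv_lhs => rw [← trans_pinv_trans R A K x z]
  rw [← map_mul, integral_mul R A K e hint, map_smul, ev_trans]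
  rw [show toConv x.ofConv * toConv (1 : WithConv (A →ₐ[R] K)).ofConv = x from mul_one x]

include he hint hε in
theorem card_points_of_integral :
    Nat.card (WithConv (A →ₐ[R] K)) = Module.finrank K (K ⊗[R] A) := by
  classical
  haveI := finite_points R A K
  letI := Fintype.ofFinite (WithConv (A →ₐ[R] K))
  have hI := integral_idem R A K e he
  have h1 := integral_ev_one R A K e hε
  have h0 := integral_ev_ne R A K e he hint
  let Φ : K ⊗[R] A →ₗ[K] (WithConv (A →ₐ[R] K) → K) :=
    LinearMap.pi fun x => (ev R A K x.ofConv).toLinearMap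
  have hΦ : ∀ (z : K ⊗[R] A) (x : WithConv (A →ₐ[R] K)), Φ z x = ev R A K x.ofConv z :=
    fun z x => rfl
  have hinj : Function.Injective Φ := by
    rw [injective_iff_map_eq_zero]
    intro z hz
    have h2 : ∀ x : WithConv (A →ₐ[R] K), ev R A K x.ofConv z = 0 := fun x => by
      rw [← hΦ, hz]; rfl
    calc z = z * ∑ x, trIdem R A K ((1 : K) ⊗ₜ[R] e) x := by
          rw [sum_trIdem R A K _ hI h1 h0, mul_one]
      _ = ∑ x, ev R A K x.ofConv z • trIdem R A K ((1 : K) ⊗ₜ[R] e) x := by
          rw [Finset.mul_sum]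
          exact Finset.sum_congr rfl fun x _ => integral_mul_trIdem R A K e hint x z
      _ = 0 := by simp [h2]
  have hsurj : Function.Surjective Φ := by
    intro f
    refine ⟨∑ x, f x • trIdem R A K ((1 : K) ⊗ₜ[R] e) x, ?_⟩
    funext y
    rw [hΦ, map_sum]
    simp only [map_smul, smul_eq_mul]
    rw [Finset.sum_eq_single y]
    · rw [ev_trIdem_self R A K _ h1, mul_one]
    · intro x _ hxy
      rw [ev_trIdem_ne R A K _ h0 x y (Ne.symm hxy), mul_zero]
    · intro h
      exact absurd (Finset.mem_univ y) h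
  have h3 := (LinearEquiv.ofBijective Φ ⟨hinj, hsurj⟩).finrank_eq
  rw [h3, Module.finrank_fintype_fun_eq_card, Nat.card_eq_fintype_card]

include he hint hε in
/-- over an algebraically closed field, a point which is nontrivial has order exactly `p` when the
group is étale at the origin and of order `p` -/
theorem pow_inj_of_integral (p : ℕ) [Fact p.Prime] (hdim : Module.finrank K (K ⊗[R] A) = p)
    (x : WithConv (A →ₐ[R] K)) (hx : x.ofConv e = 0) :
    ∀ i j : ℕ, i < p → j < p → x ^ i = x ^ j → i = j := by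
  letI := ptGroup R A K
  have hcard : Nat.card (WithConv (A →ₐ[R] K)) = p := by
    rw [card_points_of_integral R A K e he hint hε, hdim]
  have hx1 : x ≠ 1 := by
    intro h
    rw [h] at hx
    have h2 : (1 : WithConv (A →ₐ[R] K)).ofConv e = 1 := by
      show algebraMap R K (Coalgebra.counit (R := R) e) = 1
      rw [hε, map_one]
    rw [h2] at hx
    exact one_ne_zero hx
  have hxp : x ^ p = 1 := by
    rw [← hcard]
    exact pow_card_eq_one'
  have hord : orderOf x = p := orderOf_eq_prime hxp hx1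
  intro i j hi hj hij
  exact pow_injOn_Iio_orderOf (by rw [hord]; exact hi) (by rw [hord]; exact hj) hij

end Integral

end AlgClosed

end Groth.Agent.Helper6.OTU
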