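import Groth.Prelude.Def_PCone
import Groth.Agent.Lib.Helper6.GlueLib

set_option autoImplicit false
namespace Groth.Agent.Helper6.PConeLib
universe u
open AlgebraicGeometry CategoryTheory Limits HomogeneousLocalization

variable {R A B : Type u} [CommRing R] [CommRing A] [Algebra R A] {𝒜 : ℕ → Submodule R A}
  [GradedAlgebra 𝒜] [CommRing B] [Algebra R B] {ℬ : ℕ → Submodule R B} [GradedAlgebra ℬ]
  (φ : 𝒜 →+*ᵍ ℬ)

section chart
variable {d : ℕ} {f : A} (hf : f ∈ 𝒜 d) (hd : 0 < d)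

omit [GradedAlgebra 𝒜] in
theorem chart_ι : PCone.chart φ hf hd ≫ (PCone.dom φ).ι = Proj.awayι ℬ (φ f) (φ.2 hf) hd :=
  IsOpenImmersion.lift_fac _ _ _

instance : IsOpenImmersion (PCone.chart φ hf hd) := by
  have : IsOpenImmersion (PCone.chart φ hf hd ≫ (PCone.dom φ).ι) := by
    rw [chart_ι]; infer_instance
  exact IsOpenImmersion.of_comp _ (PCone.dom φ).ι

omit [GradedAlgebra 𝒜] in
theorem mem_range_chart (p : (PCone.dom φ : Scheme.{u})) :
    p ∈ Set.range (PCone.chart φ hf hd).base ↔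
      (PCone.dom φ).ι.base p ∈ Proj.basicOpen ℬ (φ f) := by
  have h1 : (PCone.dom φ).ι.base p ∈ Proj.basicOpen ℬ (φ f) ↔
      (PCone.dom φ).ι.base p ∈ Set.range (Proj.awayι ℬ (φ f) (φ.2 hf) hd).base := by
    rw [← Proj.opensRange_awayι ℬ (φ f) (φ.2 hf) hd]; rfl
  rw [h1]
  constructor
  · rintro ⟨y, rfl⟩
    exact ⟨y, by rw [← chart_ι φ hf hd]; simp⟩
  · rintro ⟨y, hy⟩
    refine ⟨y, ?_⟩
    apply (PCone.dom φ).ι.isOpenEmbedding.injective
    rw [← hy, ← chart_ι φ hf hd]; simp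

end chart

/-- the composite `Spec B_(φ f) → Spec A_(f) → Proj A`. -/
noncomputable def gmap {d : ℕ} {f : A} (hf : f ∈ 𝒜 d) (hd : 0 < d) :
    Spec (CommRingCat.of (Away ℬ (φ f))) ⟶ Proj 𝒜 :=
  Spec.map (CommRingCat.ofHom (Away.map φ f)) ≫ Proj.awayι 𝒜 f hf hd

omit [GradedAlgebra 𝒜] [GradedAlgebra ℬ] in
theorem map_eq_mul {f g x : A} (hx : x = f * g) : φ x = φ f * φ g := by rw [hx, map_mul]

theorem awayMap_comp_map {d e : ℕ} {f g x : A} (hf : f ∈ 𝒜 d) (hg : g ∈ 𝒜 e) (hx : x = f * g) :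
    (awayMap ℬ (φ.2 hg) (map_eq_mul φ hx)).comp (Away.map φ f) =
      (Away.map φ x).comp (awayMap 𝒜 hg hx) := by
  ext a
  obtain ⟨n, a, ha, rfl⟩ := Away.mk_surjective 𝒜 hf a
  simp only [RingHom.comp_apply, Away.map_mk, awayMap_mk, Away.val_mk, map_mul, map_pow]
  rfl

theorem toMul_gmap {d e n : ℕ} {f g x : A} (hf : f ∈ 𝒜 d) (hd : 0 < d) (hg : g ∈ 𝒜 e)
    (hx : x = f * g) (hxn : x ∈ 𝒜 n) (hn : 0 < n) (hne : n = d + e) :
    Spec.map (CommRingCat.ofHom (awayMap ℬ (φ.2 hg) (map_eq_mul φ hx))) ≫ gmap φ hf hd =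
      gmap φ hxn hn := by
  subst hne
  unfold gmap
  rw [← Category.assoc, ← Spec.map_comp, ← CommRingCat.ofHom_comp, awayMap_comp_map φ hf hg hx,
    CommRingCat.ofHom_comp, Spec.map_comp, Category.assoc,
    Proj.SpecMap_awayMap_awayι 𝒜 hf hd hg hx]

omit [GradedAlgebra 𝒜] in
theorem toMul_chart {d e n : ℕ} {f g x : A} (hf : f ∈ 𝒜 d) (hd : 0 < d) (hg : g ∈ 𝒜 e)
    (hx : x = f * g) (hxn : x ∈ 𝒜 n) (hn : 0 < n) (hne : n = d + e) :
    Spec.map (CommRingCat.ofHom (awayMap ℬ (φ.2 hg) (map_eq_mul φ hx))) ≫ PCone.chart φ hf hd =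
      PCone.chart φ hxn hn := by
  subst hne
  rw [← cancel_mono (PCone.dom φ).ι, Category.assoc, chart_ι, chart_ι]
  exact Proj.SpecMap_awayMap_awayι ℬ (φ.2 hf) hd (φ.2 hg) (map_eq_mul φ hx)

variable (𝒜) in
/-- index type for the charts -/
structure Idx where
  d : ℕ
  f : A
  hd : 0 < d
  hf : f ∈ 𝒜 d

omit [GradedAlgebra 𝒜] in
theorem exists_mem_range_chart (p : (PCone.dom φ : Scheme.{u})) :
    ∃ i : Idx 𝒜, p ∈ Set.range (PCone.chart φ i.hf i.hd).base := by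
  have hp : (PCone.dom φ).ι.base p ∈ PCone.dom φ := p.2
  unfold PCone.dom at hp
  rw [TopologicalSpace.Opens.mem_iSup] at hp
  obtain ⟨⟨f, d, hd, hf⟩, hp⟩ := hp
  exact ⟨⟨d, f, hd, hf⟩, (mem_range_chart φ hf hd p).mpr hp⟩

/-- the cover of `G(φ)` by its charts -/
noncomputable def cover : (PCone.dom φ : Scheme.{u}).OpenCover :=
  GlueLib.coverOfSurj (fun i : Idx 𝒜 => Spec (CommRingCat.of (Away ℬ (φ i.f))))
    (fun i => PCone.chart φ i.hf i.hd) (exists_mem_range_chart φ)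

theorem existsUnique_map :
    ∃! p : (PCone.dom φ : Scheme.{u}) ⟶ Proj 𝒜,
      ∀ (d : ℕ) (f : A) (hd : 0 < d) (hf : f ∈ 𝒜 d), PCone.chart φ hf hd ≫ p = gmap φ hf hd := by
  have H : ∀ (i j : (cover φ).I₀), ∃ (W : Scheme.{u}) (a : W ⟶ (cover φ).X i)
      (b : W ⟶ (cover φ).X j),
      IsOpenImmersion (a ≫ (cover φ).f i) ∧ a ≫ (cover φ).f i = b ≫ (cover φ).f j ∧
      a ≫ gmap φ i.hf i.hd = b ≫ gmap φ j.hf j.hd ∧
      Set.range ((cover φ).f i).base ∩ Set.range ((cover φ).f j).base ⊆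
        Set.range (a ≫ (cover φ).f i).base := ?_
  · obtain ⟨π, h1, h2⟩ := GlueLib.existsUnique_glue (cover φ) (fun i => gmap φ i.hf i.hd) H
    exact ⟨π, fun d f hd hf => h1 ⟨d, f, hd, hf⟩,
      fun π' h' => h2 π' (fun i => h' i.d i.f i.hd i.hf)⟩
  · intro (i : Idx 𝒜) (j : Idx 𝒜)
    have hx : i.f * j.f ∈ 𝒜 (i.d + j.d) := SetLike.mul_mem_graded i.hf j.hf
    have hn : 0 < i.d + j.d := i.hd.trans_le (Nat.le_add_right _ _)
    have e1 := toMul_chart φ i.hf i.hd j.hf rfl hx hn rfl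
    have e2 := toMul_chart φ j.hf j.hd i.hf (mul_comm i.f j.f) hx hn (Nat.add_comm _ _)
    refine ⟨Spec (CommRingCat.of (Away ℬ (φ (i.f * j.f)))),
      Spec.map (CommRingCat.ofHom (awayMap ℬ (φ.2 j.hf) (map_eq_mul φ rfl))),
      Spec.map (CommRingCat.ofHom (awayMap ℬ (φ.2 i.hf) (map_eq_mul φ (mul_comm i.f j.f)))),
      ?_, ?_, ?_, ?_⟩
    · change IsOpenImmersion (_ ≫ PCone.chart φ i.hf i.hd)
      rw [e1]; infer_instance
    · change _ ≫ PCone.chart φ i.hf i.hd = _ ≫ PCone.chart φ j.hf j.hd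
      rw [e1, e2]
    · change _ ≫ gmap φ i.hf i.hd = _ ≫ gmap φ j.hf j.hd
      rw [toMul_gmap φ i.hf i.hd j.hf rfl hx hn rfl,
        toMul_gmap φ j.hf j.hd i.hf (mul_comm i.f j.f) hx hn (Nat.add_comm _ _)]
    · rintro p ⟨hp1, hp2⟩
      change p ∈ Set.range (_ ≫ PCone.chart φ i.hf i.hd).base
      change p ∈ Set.range (PCone.chart φ i.hf i.hd).base at hp1
      change p ∈ Set.range (PCone.chart φ j.hf j.hd).base at hp2
      rw [e1]
      rw [mem_range_chart] at hp1 hp2 ⊢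
      rw [map_mul, Proj.basicOpen_mul]
      exact ⟨hp1, hp2⟩

end Groth.Agent.Helper6.PConeLib
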