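import Groth.Agent.Lib.Helper6.PConeLib2
import Mathlib.Algebra.Polynomial.AlgebraMap

set_option autoImplicit false
namespace Groth.Agent.Helper6.PConeLib
universe u
open AlgebraicGeometry CategoryTheory Limits HomogeneousLocalization

variable {R A B : Type u} [CommRing R] [CommRing A] [Algebra R A] {𝒜 : ℕ → Submodule R A}
  [GradedAlgebra 𝒜] [CommRing B] [Algebra R B] {ℬ : ℕ → Submodule R B} [GradedAlgebra ℬ]
  [Algebra A B] (φ : 𝒜 →+*ᵍ ℬ) (hφ : ∀ a : A, φ a = algebraMap A B a)
  (z : B) (hhat : Function.Bijective (Polynomial.aeval (R := A) z))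
  (ψ : ℬ →+*ᵍ 𝒜) (hψφ : ∀ a : A, ψ (φ a) = a) (hψz : ψ z = 0)

include hφ hψφ hψz in
omit [GradedAlgebra 𝒜] [GradedAlgebra ℬ] in
theorem ψ_aeval (P : Polynomial A) : ψ (Polynomial.aeval z P) = P.coeff 0 := by
  have h1 : (ψ : B →+* A).comp (algebraMap A B) = RingHom.id A := by
    ext a; simp [← hφ, hψφ]
  have h2 := Polynomial.hom_eval₂ P (algebraMap A B) (ψ : B →+* A) z
  rw [Polynomial.aeval_def]
  change (ψ : B →+* A) _ = _
  rw [h2, h1]
  change Polynomial.eval₂ (RingHom.id A) (ψ z) P = _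
  rw [hψz, Polynomial.coeff_zero_eq_eval_zero]
  rfl

omit [GradedAlgebra 𝒜] [GradedAlgebra ℬ] in
include hφ hhat hψφ hψz in
theorem sub_mem_span (b : B) : b - φ (ψ b) ∈ Ideal.span {z} := by
  obtain ⟨P, rfl⟩ := hhat.2 b
  rw [ψ_aeval φ hφ z ψ hψφ hψz, hφ]
  have h1 : Polynomial.aeval z P - algebraMap A B (P.coeff 0) =
      z * Polynomial.aeval z P.divX := by
    have h0 := congrArg (Polynomial.aeval z) (Polynomial.X_mul_divX_add P)
    simp only [map_add, map_mul, Polynomial.aeval_X, Polynomial.aeval_C] at h0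
    linear_combination (-1 : B) * h0
  rw [h1]
  exact Ideal.mul_mem_right _ _ (Ideal.subset_span rfl)

include hφ hhat hψφ hψz in
theorem range_map_eq (hψ : HomogeneousIdeal.irrelevant 𝒜 ≤ (HomogeneousIdeal.irrelevant ℬ).map ψ) :
    Set.range (Proj.map ψ hψ).base = ((Proj.basicOpen ℬ z : Set (Proj ℬ)))ᶜ := by
  ext y
  constructor
  · rintro ⟨x, rfl⟩
    intro h
    apply h
    change ψ z ∈ x.asHomogeneousIdeal
    rw [hψz]; exact zero_mem _
  · intro hy
    have hz : z ∈ y.asHomogeneousIdeal.toIdeal := not_not.mp hy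
    have hsub : ∀ b : B, b - φ (ψ b) ∈ y.asHomogeneousIdeal.toIdeal := fun b =>
      (Ideal.span_le.mpr (Set.singleton_subset_iff.mpr hz)) (sub_mem_span φ hφ z hhat ψ hψφ hψz b)
    have hiff : ∀ b : B, φ (ψ b) ∈ y.asHomogeneousIdeal.toIdeal ↔
        b ∈ y.asHomogeneousIdeal.toIdeal := by
      intro b
      constructor
      · intro h
        have := add_mem (hsub b) h
        rwa [sub_add_cancel] at this
      · intro h
        have := sub_mem h (hsub b)
        rwa [sub_sub_cancel] at this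
    have hirr : ¬ HomogeneousIdeal.irrelevant 𝒜 ≤ y.asHomogeneousIdeal.comap φ := by
      intro hle
      apply y.not_irrelevant_le
      intro b hb
      change b ∈ y.asHomogeneousIdeal.toIdeal
      rw [← hiff]
      apply hle
      rw [HomogeneousIdeal.mem_irrelevant_iff, GradedRing.proj_apply,
        ← GradedRingHom.map_directSumDecompose]
      have : (DirectSum.decompose ℬ b 0 : B) = 0 :=
        (HomogeneousIdeal.mem_irrelevant_iff _ _).mp hb
      rw [this, map_zero]
    refine ⟨⟨y.asHomogeneousIdeal.comap φ, y.isPrime.comap φ, hirr⟩, ?_⟩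
    apply ProjectiveSpectrum.ext
    apply HomogeneousIdeal.toIdeal_injective
    ext b
    exact hiff b

end Groth.Agent.Helper6.PConeLib
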