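import Groth.Agent.Lib.Helper6.DehLib
import Mathlib.Algebra.Polynomial.AlgebraMap

set_option autoImplicit false
namespace Groth.Agent.Helper6.PConeAlg
universe u
open HomogeneousLocalization Groth.Agent.Helper6.DehLib Groth.Agent.Helper6.ProjClosedAlg

variable {R A B : Type u} [CommRing R] [CommRing A] [Algebra R A] {𝒜 : ℕ → Submodule R A}
  [GradedAlgebra 𝒜] [CommRing B] [Algebra R B] {ℬ : ℕ → Submodule R B} [GradedAlgebra ℬ]
  [Algebra A B] (φ : 𝒜 →+*ᵍ ℬ) (hφ : ∀ a : A, φ a = algebraMap A B a)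
  {z : B} (hz : z ∈ ℬ 1) (hhat : Function.Bijective (Polynomial.aeval (R := A) z))

/-- `a ↦ Σ φ(a_n)/z^n` -/
noncomputable def θ : A →+* Away ℬ z := (deh hz).comp (φ : A →+* B)

omit [GradedAlgebra 𝒜] [Algebra A B] in
theorem θ_of_mem {n : ℕ} {a : A} (ha : a ∈ 𝒜 n) :
    θ φ hz a = Away.mk ℬ hz n (φ a) (mem_smul_one ℬ (φ.2 ha)) :=
  deh_of_mem hz (φ.2 ha)

/-- evaluation at `z = 1` -/
noncomputable def ev1 : B →+* A :=
  (Polynomial.evalRingHom (1 : A)).comp
    ((AlgEquiv.ofBijective (Polynomial.aeval (R := A) z) hhat).symm : B →+* Polynomial A)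

theorem ev1_aeval (P : Polynomial A) : ev1 hhat (Polynomial.aeval z P) = P.eval 1 := by
  unfold ev1
  rw [RingHom.comp_apply]
  have h : ((AlgEquiv.ofBijective (Polynomial.aeval (R := A) z) hhat).symm : B →+* Polynomial A)
      (Polynomial.aeval z P) = P :=
    (AlgEquiv.ofBijective (Polynomial.aeval (R := A) z) hhat).symm_apply_apply P
  rw [h]
  rfl

theorem ev1_z : ev1 hhat z = 1 := by
  have := ev1_aeval hhat (Polynomial.X : Polynomial A)
  simpa using this

theorem ev1_algebraMap (a : A) : ev1 hhat (algebraMap A B a) = a := by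
  have := ev1_aeval hhat (Polynomial.C a : Polynomial A)
  simpa using this

/-- the inverse map `b/z^n ↦ b(1)` -/
noncomputable def χ : Away ℬ z →+* A :=
  (Localization.awayLift (ev1 hhat) z (by rw [ev1_z]; exact isUnit_one)).comp
    (algebraMap (Away ℬ z) (Localization.Away z))

include hφ in
theorem χ_comp_θ : (χ hhat).comp (θ φ hz) = RingHom.id A := by
  apply ringHom_ext_of_homogeneous (𝒜 := 𝒜)
  intro n a ha
  rw [RingHom.comp_apply, θ_of_mem φ hz ha, RingHom.id_apply]
  unfold χ
  rw [RingHom.comp_apply, HomogeneousLocalization.algebraMap_apply, Away.val_mk,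
    Localization.awayLift_mk (v := 1) (hv := by rw [ev1_z, one_mul]), one_pow, mul_one, hφ,
    ev1_algebraMap]

omit [GradedAlgebra 𝒜] in
include hφ in
theorem deh_aeval (P : Polynomial A) :
    deh hz (Polynomial.aeval z P) = θ φ hz (P.eval 1) := by
  have : (deh hz).comp (Polynomial.aeval (R := A) z : Polynomial A →+* B) =
      (θ φ hz).comp (Polynomial.evalRingHom 1) := by
    apply Polynomial.ringHom_ext
    · intro a
      simp [θ, hφ]
    · simp [deh_self]
  exact congrArg (fun f => f P) this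

include hφ hhat in
theorem θ_bijective : Function.Bijective (θ φ hz) := by
  constructor
  · intro a b hab
    have := congrArg (χ hhat) hab
    have h := χ_comp_θ φ hφ hz hhat
    rw [← RingHom.comp_apply, ← RingHom.comp_apply, h] at this
    exact this
  · intro x
    obtain ⟨b, rfl⟩ := deh_surjective hz x
    obtain ⟨P, rfl⟩ := hhat.2 b
    exact ⟨P.eval 1, (deh_aeval φ hφ hz P).symm⟩

end Groth.Agent.Helper6.PConeAlg
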