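import Groth.Agent.Lib.Helper6.PConeLib4

set_option autoImplicit false
namespace Groth.Agent.Helper6.PConeAlg
universe u
open HomogeneousLocalization Groth.Agent.Helper6.DehLib Groth.Agent.Helper6.ProjClosedAlg

variable {R A B : Type u} [CommRing R] [CommRing A] [Algebra R A] {𝒜 : ℕ → Submodule R A}
  [GradedAlgebra 𝒜] [CommRing B] [Algebra R B] {ℬ : ℕ → Submodule R B} [GradedAlgebra ℬ]
  [Algebra A B] (φ : 𝒜 →+*ᵍ ℬ) (hφ : ∀ a : A, φ a = algebraMap A B a)
  {z : B} (hz : z ∈ ℬ 1) (hhat : Function.Bijective (Polynomial.aeval (R := A) z))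
  {f : A} (hf : f ∈ 𝒜 1)

theorem deh_comp_φ : (deh (φ.2 hf)).comp (φ : A →+* B) = (Away.map φ f).comp (deh hf) := by
  apply ringHom_ext_of_homogeneous (𝒜 := 𝒜)
  intro n a ha
  rw [RingHom.comp_apply, RingHom.comp_apply, deh_of_mem hf ha, Away.map_mk]
  exact deh_of_mem (φ.2 hf) (φ.2 ha)

/-- the element `z / f` -/
noncomputable def Tz : Away ℬ (φ f) := Away.mk ℬ (φ.2 hf) 1 z (mem_smul_one ℬ hz)

/-- the evaluation map `A_(f)[X] → B_(f)`, `X ↦ z/f`. -/
noncomputable def E₂ : Polynomial (Away 𝒜 f) →+* Away ℬ (φ f) :=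
  Polynomial.eval₂RingHom (Away.map φ f) (Tz φ hz hf)

include hφ in
theorem deh_aeval_eq (P : Polynomial A) :
    deh (φ.2 hf) (Polynomial.aeval z P) = E₂ φ hz hf (P.map (deh hf)) := by
  have : (deh (φ.2 hf)).comp (Polynomial.aeval (R := A) z : Polynomial A →+* B) =
      (E₂ φ hz hf).comp (Polynomial.mapRingHom (deh hf)) := by
    apply Polynomial.ringHom_ext
    · intro a
      have h1 := congrArg (fun g => g a) (deh_comp_φ φ hf)
      simp only [RingHom.comp_apply] at h1
      simp only [RingHom.comp_apply, RingHom.coe_coe, Polynomial.aeval_C,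
        Polynomial.coe_mapRingHom, Polynomial.map_C, E₂, Polynomial.coe_eval₂RingHom,
        Polynomial.eval₂_C, ← hφ]
      exact h1
    · simp only [RingHom.comp_apply, RingHom.coe_coe, Polynomial.aeval_X,
        Polynomial.coe_mapRingHom, Polynomial.map_X, E₂, Polynomial.coe_eval₂RingHom,
        Polynomial.eval₂_X]
      exact deh_of_mem (φ.2 hf) hz
  exact congrArg (fun g => g P) this

include hφ hhat in
theorem E₂_surjective : Function.Surjective (E₂ φ hz hf) := by
  intro x
  obtain ⟨b, rfl⟩ := deh_surjective (φ.2 hf) x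
  obtain ⟨P, rfl⟩ := hhat.2 b
  exact ⟨P.map (deh hf), (deh_aeval_eq φ hφ hz hf P).symm⟩

/-- auxiliary map `B → A_(f)[X]` -/
noncomputable def L₀ : B →+* Polynomial (Away 𝒜 f) :=
  (Polynomial.mapRingHom (deh hf)).comp
    ((AlgEquiv.ofBijective (Polynomial.aeval (R := A) z) hhat).symm : B →+* Polynomial A)

theorem L₀_aeval (P : Polynomial A) : L₀ hhat hf (Polynomial.aeval z P) = P.map (deh hf) := by
  unfold L₀
  rw [RingHom.comp_apply]
  have h : ((AlgEquiv.ofBijective (Polynomial.aeval (R := A) z) hhat).symm : B →+* Polynomial A)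
      (Polynomial.aeval z P) = P :=
    (AlgEquiv.ofBijective (Polynomial.aeval (R := A) z) hhat).symm_apply_apply P
  rw [h]
  rfl

theorem L₀_z : L₀ hhat hf z = Polynomial.X := by
  have := L₀_aeval hhat hf (Polynomial.X : Polynomial A)
  simpa using this

theorem L₀_algebraMap (a : A) : L₀ hhat hf (algebraMap A B a) = Polynomial.C (deh hf a) := by
  have := L₀_aeval hhat hf (Polynomial.C a : Polynomial A)
  simpa using this

include hφ in
theorem L₀_φf : L₀ hhat hf (φ f) = 1 := by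
  rw [hφ, L₀_algebraMap, deh_self, map_one]

/-- left inverse of `E₂` -/
noncomputable def Λ : Away ℬ (φ f) →+* Polynomial (Away 𝒜 f) :=
  (Localization.awayLift (L₀ hhat hf) (φ f)
      (by rw [L₀_φf φ hφ hhat hf]; exact isUnit_one)).comp
    (algebraMap (Away ℬ (φ f)) (Localization.Away (φ f)))

include hφ in
theorem Λ_mk (n : ℕ) (b : B) (hb : b ∈ ℬ (n • 1)) :
    Λ φ hφ hhat hf (Away.mk ℬ (φ.2 hf) n b hb) = L₀ hhat hf b := by
  unfold Λ
  rw [RingHom.comp_apply, HomogeneousLocalization.algebraMap_apply, Away.val_mk,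
    Localization.awayLift_mk (v := 1) (hv := by rw [L₀_φf φ hφ hhat hf, one_mul]), one_pow,
    mul_one]

include hφ in
theorem Λ_comp_E₂ : (Λ φ hφ hhat hf).comp (E₂ φ hz hf) = RingHom.id _ := by
  apply Polynomial.ringHom_ext
  · intro c
    obtain ⟨n, a, ha, rfl⟩ := Away.mk_surjective 𝒜 hf c
    have ha' : a ∈ 𝒜 n := by simpa using ha
    simp only [RingHom.comp_apply, E₂, Polynomial.coe_eval₂RingHom, Polynomial.eval₂_C,
      Away.map_mk, RingHom.id_apply]
    rw [Λ_mk, hφ, L₀_algebraMap, deh_of_mem hf ha']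
  · simp only [RingHom.comp_apply, E₂, Polynomial.coe_eval₂RingHom, Polynomial.eval₂_X,
      RingHom.id_apply]
    unfold Tz
    rw [Λ_mk, L₀_z]

include hφ hhat in
theorem E₂_bijective : Function.Bijective (E₂ φ hz hf) := by
  refine ⟨?_, E₂_surjective φ hφ hz hhat hf⟩
  intro a b hab
  have := congrArg (Λ φ hφ hhat hf) hab
  have h := Λ_comp_E₂ φ hφ hz hhat hf
  rw [← RingHom.comp_apply, ← RingHom.comp_apply, h] at this
  exact this

theorem E₂_comp_C : (E₂ φ hz hf).comp Polynomial.C = Away.map φ f := by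
  ext c
  simp [E₂]

end Groth.Agent.Helper6.PConeAlg
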