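import Groth.Agent.Lib.Helper6.PConeLib5
import Groth.Agent.Lib.Helper6.PConeLib2
import Groth.Agent.Lib.Helper6.FibreLib
import Mathlib.AlgebraicGeometry.Morphisms.FiniteType
import Mathlib.AlgebraicGeometry.Morphisms.QuasiCompact
import Mathlib.RingTheory.PolynomialAlgebra

set_option autoImplicit false
set_option linter.unusedSectionVars false
namespace Groth.Agent.Helper6.PConeLib
universe u
open AlgebraicGeometry CategoryTheory Limits HomogeneousLocalization
open Groth.Agent.Helper6.PConeAlg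

variable {R A B : Type u} [CommRing R] [CommRing A] [Algebra R A] {𝒜 : ℕ → Submodule R A}
  [GradedAlgebra 𝒜] [CommRing B] [Algebra R B] {ℬ : ℕ → Submodule R B} [GradedAlgebra ℬ]
  [Algebra A B] (φ : 𝒜 →+*ᵍ ℬ) (hφ : ∀ a : A, φ a = algebraMap A B a)
  {z : B} (hz : z ∈ ℬ 1) (hhat : Function.Bijective (Polynomial.aeval (R := A) z))
  (hgen : (HomogeneousIdeal.irrelevant 𝒜).toIdeal = Ideal.span (𝒜 1 : Set A))

include hgen in
theorem exists_deg_one_mem_basicOpen (x : Proj 𝒜) :
    ∃ (f : A) (_ : f ∈ 𝒜 1), x ∈ Proj.basicOpen 𝒜 f := by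
  by_contra hcon
  push Not at hcon
  apply x.not_irrelevant_le
  change (HomogeneousIdeal.irrelevant 𝒜).toIdeal ≤ x.asHomogeneousIdeal.toIdeal
  rw [hgen, Ideal.span_le]
  intro f hf
  have := hcon f hf
  rw [Proj.mem_basicOpen, not_not] at this
  exact this

include hgen in
theorem exists_mem_range_chart_one (q : (PCone.dom φ : Scheme.{u})) :
    ∃ (f : A) (hf : f ∈ 𝒜 1), q ∈ Set.range (PCone.chart φ hf one_pos).base := by
  obtain ⟨i, hi⟩ := exists_mem_range_chart φ q
  rw [mem_range_chart, Proj.mem_basicOpen] at hi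
  by_contra hcon
  push Not at hcon
  apply hi
  have hg : i.f ∈ (HomogeneousIdeal.irrelevant 𝒜).toIdeal :=
    HomogeneousIdeal.mem_irrelevant_of_mem _ i.hd i.hf
  rw [hgen] at hg
  have hle : Ideal.span (𝒜 1 : Set A) ≤
      Ideal.comap (φ : A →+* B) ((PCone.dom φ).ι.base q).asHomogeneousIdeal.toIdeal := by
    rw [Ideal.span_le]
    intro f hf
    have := hcon f hf
    rw [mem_range_chart, Proj.mem_basicOpen, not_not] at this
    exact this
  exact hle hg

/-- index type: degree one elements -/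
abbrev Idx1 (𝒜 : ℕ → Submodule R A) := {f : A // f ∈ 𝒜 1}

/-- cover of `G(φ)` by degree one charts -/
noncomputable def cover1 : (PCone.dom φ : Scheme.{u}).OpenCover :=
  GlueLib.coverOfSurj (fun i : Idx1 𝒜 => Spec (CommRingCat.of (Away ℬ (φ i.1))))
    (fun i => PCone.chart φ i.2 one_pos)
    (fun q => by
      obtain ⟨f, hf, h⟩ := exists_mem_range_chart_one φ hgen q
      exact ⟨⟨f, hf⟩, h⟩)

include hφ hz hhat in
theorem awayMap_finiteType {f : A} (hf : f ∈ 𝒜 1) : (Away.map φ f).FiniteType := by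
  rw [← E₂_comp_C φ hz hf]
  refine RingHom.FiniteType.comp ?_ ?_
  · exact RingHom.FiniteType.of_surjective _ (E₂_surjective φ hφ hz hhat hf)
  · exact RingHom.finiteType_algebraMap.mpr inferInstance

section
variable (p : (PCone.dom φ : Scheme.{u}) ⟶ Proj 𝒜)
  (hp : ∀ (d : ℕ) (f : A) (hd : 0 < d) (hf : f ∈ 𝒜 d), PCone.chart φ hf hd ≫ p = gmap φ hf hd)

include hφ hz hhat hgen hp in
theorem p_locallyOfFiniteType : LocallyOfFiniteType p := by
  apply IsZariskiLocalAtSource.of_openCover (cover1 φ hgen)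
  intro i
  change LocallyOfFiniteType (PCone.chart φ i.2 one_pos ≫ p)
  rw [hp]
  unfold gmap
  have : LocallyOfFiniteType (Spec.map (CommRingCat.ofHom (Away.map φ i.1))) := by
    rw [HasRingHomProperty.Spec_iff (P := @LocallyOfFiniteType)]
    exact awayMap_finiteType φ hφ hz hhat i.2
  infer_instance

attribute [local instance] Polynomial.algebra in
include hφ hz hhat hgen hp in
theorem p_fibre (x : Proj 𝒜) :
    ∃ e : pullback p ((Proj 𝒜).fromSpecResidueField x) ≅
        Spec (CommRingCat.of (Polynomial ((Proj 𝒜).residueField x))),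
      e.hom ≫ Spec.map (CommRingCat.ofHom (algebraMap ((Proj 𝒜).residueField x)
        (Polynomial ((Proj 𝒜).residueField x)))) =
        pullback.snd p ((Proj 𝒜).fromSpecResidueField x) := by
  obtain ⟨f, hf, hx⟩ := exists_deg_one_mem_basicOpen hgen x
  let eq : Polynomial (Away 𝒜 f) ≃+* Away ℬ (φ f) :=
    RingEquiv.ofBijective (E₂ φ hz hf) (E₂_bijective φ hφ hz hhat hf)
  let c' : Spec (CommRingCat.of (Polynomial (Away 𝒜 f))) ⟶ (PCone.dom φ : Scheme.{u}) :=
    Spec.map (CommRingCat.ofHom (eq.symm : Away ℬ (φ f) →+* Polynomial (Away 𝒜 f))) ≫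
      PCone.chart φ hf one_pos
  have hiso : IsIso (Spec.map (CommRingCat.ofHom
      (eq.symm : Away ℬ (φ f) →+* Polynomial (Away 𝒜 f)))) := by
    have : IsIso (CommRingCat.ofHom (eq.symm : Away ℬ (φ f) →+* Polynomial (Away 𝒜 f))) :=
      (eq.symm.toCommRingCatIso).isIso_hom
    infer_instance
  have hopen : IsOpenImmersion c' := inferInstance
  have hcomp : (eq.symm : Away ℬ (φ f) →+* Polynomial (Away 𝒜 f)).comp (Away.map φ f) =
      algebraMap (Away 𝒜 f) (Polynomial (Away 𝒜 f)) := by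
    apply RingHom.ext
    intro c
    rw [RingHom.comp_apply, ← E₂_comp_C φ hz hf, RingHom.comp_apply]
    exact eq.symm_apply_apply _
  have hc : c' ≫ p = Spec.map (CommRingCat.ofHom (algebraMap (Away 𝒜 f)
      (Polynomial (Away 𝒜 f)))) ≫ Proj.awayι 𝒜 f hf one_pos := by
    change (_ ≫ PCone.chart φ hf one_pos) ≫ p = _
    rw [Category.assoc, hp]
    unfold gmap
    rw [← Category.assoc, ← Spec.map_comp, ← CommRingCat.ofHom_comp, hcomp]
  have hpre : p ⁻¹ᵁ (Proj.awayι 𝒜 f hf one_pos).opensRange = c'.opensRange := by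
    rw [Proj.opensRange_awayι, p_preimage_eq_opensRange φ p hp hf one_pos]
    exact (Scheme.Hom.opensRange_comp_of_isIso _ _).symm
  have hxr : x ∈ Set.range (Proj.awayι 𝒜 f hf one_pos).base := by
    have : x ∈ (Proj.awayι 𝒜 f hf one_pos).opensRange := by
      rw [Proj.opensRange_awayι]; exact hx
    exact this
  obtain ⟨τ, -, hτ⟩ := FibreLib.exists_fibre_iso p x (Proj.awayι 𝒜 f hf one_pos) hxr c'
    (algebraMap (Away 𝒜 f) (Polynomial (Away 𝒜 f))) hc hpre
  let _ := τ.toAlgebra
  exact hτ (Polynomial ((Proj 𝒜).residueField x))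
    (algebraMap (Polynomial (Away 𝒜 f)) (Polynomial ((Proj 𝒜).residueField x)))
    (algebraMap ((Proj 𝒜).residueField x) (Polynomial ((Proj 𝒜).residueField x)))
    (CommRingCat.isPushout_of_isPushout (Away 𝒜 f) (Polynomial (Away 𝒜 f))
      ((Proj 𝒜).residueField x) (Polynomial ((Proj 𝒜).residueField x)))

end

end Groth.Agent.Helper6.PConeLib
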