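import Groth.Agent.Lib.Helper6.RPBW2
import Groth.Agent.Lib.Helper22.JacobsonAssoc
import Mathlib

/-!
# Restricted PBW, part 3 (helper6): the restricted regular representation and Jacobson's theorem

`U(L) ⧸ W` (with `W` the ideal generated by central elements `z i = (b i)^p - y i`) carries the left
regular representation; `L` acts faithfully.  Consequence (Jacobson): a Lie algebra free over a ring
of characteristic `p` with `(ad b_i)^p = ad y_i` has a `p`-map with `b_i ↦ y_i`.
-/

set_option autoImplicit false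

namespace Groth.Agent.Helper6.RPBW

open Groth.Agent.Helper5.PBW Groth.Agent.Helper5.PBW.SL

attribute [local instance 100] LieRing.ofAssociativeRing

section Quot

variable {k : Type*} [CommRing k] {L : Type*} [LieRing L] [LieAlgebra k L]
  {ι : Type*} (z : ι → UniversalEnvelopingAlgebra k L) (hc : ∀ i u, z i * u = u * z i)

local notation "ιU" => UniversalEnvelopingAlgebra.ι k

include hc in
theorem mul_mem_W (u : UniversalEnvelopingAlgebra k L) {w : UniversalEnvelopingAlgebra k L}
    (hw : w ∈ W z) : u * w ∈ W z := by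
  induction hw using Submodule.span_induction with
  | mem w hw =>
    obtain ⟨i, v, rfl⟩ := hw
    rw [← mul_assoc, ← hc i u, mul_assoc]
    exact Submodule.subset_span ⟨i, _, rfl⟩
  | zero => rw [mul_zero]; exact zero_mem _
  | add s t _ _ h1 h2 => rw [mul_add]; exact add_mem h1 h2
  | smul c s _ h => rw [mul_smul_comm]; exact Submodule.smul_mem _ _ h

/-- left multiplication by `u` on `U ⧸ W` -/
noncomputable def lm (u : UniversalEnvelopingAlgebra k L) :
    Module.End k (UniversalEnvelopingAlgebra k L ⧸ W z) :=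
  (W z).mapQ (W z) (LinearMap.mulLeft k u) (fun _ hw => mul_mem_W z hc u hw)

theorem lm_apply (u v : UniversalEnvelopingAlgebra k L) :
    lm z hc u (Submodule.Quotient.mk v) = Submodule.Quotient.mk (u * v) := rfl

theorem end_ext {T T' : Module.End k (UniversalEnvelopingAlgebra k L ⧸ W z)}
    (h : ∀ v : UniversalEnvelopingAlgebra k L,
      T (Submodule.Quotient.mk v) = T' (Submodule.Quotient.mk v)) : T = T' :=
  LinearMap.ext fun q => Submodule.Quotient.induction_on _ q h

/-- the left regular representation of `U` on `U ⧸ W` -/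
noncomputable def lmAlg :
    UniversalEnvelopingAlgebra k L →ₐ[k] Module.End k (UniversalEnvelopingAlgebra k L ⧸ W z) :=
  AlgHom.ofLinearMap
    { toFun := lm z hc
      map_add' := fun u u' => end_ext z (fun v => by
        rw [LinearMap.add_apply, lm_apply, lm_apply, lm_apply, add_mul]
        rfl)
      map_smul' := fun c u => end_ext z (fun v => by
        rw [RingHom.id_apply, LinearMap.smul_apply, lm_apply, lm_apply, smul_mul_assoc]
        rfl) }
    (end_ext z (fun v => by
      show lm z hc 1 _ = _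
      rw [lm_apply, one_mul]
      rfl))
    (fun u u' => end_ext z (fun v => by
      show lm z hc (u * u') _ = (lm z hc u * lm z hc u') _
      rw [Module.End.mul_apply, lm_apply, lm_apply, lm_apply, mul_assoc]))

theorem lmAlg_apply (u v : UniversalEnvelopingAlgebra k L) :
    lmAlg z hc u (Submodule.Quotient.mk v) = Submodule.Quotient.mk (u * v) := rfl

theorem lmAlg_z (i : ι) : lmAlg z hc (z i) = 0 :=
  end_ext z (fun v => by
    rw [lmAlg_apply, LinearMap.zero_apply, Submodule.Quotient.mk_eq_zero]
    exact Submodule.subset_span ⟨i, v, rfl⟩)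

/-- the representation of `L` on `U ⧸ W` -/
noncomputable def rep : L →ₗ[k] Module.End k (UniversalEnvelopingAlgebra k L ⧸ W z) :=
  (lmAlg z hc).toLinearMap ∘ₗ (ιU : L →ₗ⁅k⁆ UniversalEnvelopingAlgebra k L).toLinearMap

theorem rep_apply (x : L) : rep z hc x = lmAlg z hc (ιU x) := rfl

theorem rep_lie (x y : L) :
    rep z hc ⁅x, y⁆ = rep z hc x * rep z hc y - rep z hc y * rep z hc x := by
  rw [rep_apply, rep_apply, rep_apply, LieHom.map_lie, LieRing.of_associative_ring_bracket,
    map_sub, map_mul, map_mul]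

theorem rep_injective [LinearOrder ι] (b : Module.Basis ι k L) (p : ℕ) (hp : 1 < p)
    (hz : ∀ i, z i - ιU (b i) ^ p ∈ Tlt b p) : Function.Injective (rep z hc) := by
  rw [injective_iff_map_eq_zero]
  intro x hx
  have h1 : lmAlg z hc (ιU x) (Submodule.Quotient.mk 1) = 0 := by
    rw [← rep_apply, hx]
    rfl
  rw [lmAlg_apply, mul_one, Submodule.Quotient.mk_eq_zero] at h1
  have h3 := ι_eq_zero_of_mem_W b p z hc hz hp x h1
  apply ι_injective b
  rw [h3, map_zero]

theorem central_of_comm_ι (w : UniversalEnvelopingAlgebra k L)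
    (h : ∀ x : L, w * ιU x = ιU x * w) : ∀ u, w * u = u * w := by
  intro u
  obtain ⟨t, rfl⟩ : ∃ t, UniversalEnvelopingAlgebra.mkAlgHom k L t = u :=
    RingCon.mkₐ_surjective _ u
  induction t using TensorAlgebra.induction with
  | algebraMap r =>
    rw [AlgHom.commutes]
    exact (Algebra.commutes r w).symm
  | ι x => exact h x
  | mul a c ha hc' => rw [map_mul, ← mul_assoc, ha, mul_assoc, hc', mul_assoc]
  | add a c ha hc' => rw [map_add, mul_add, add_mul, ha, hc']

theorem ι_lie (a c : L) :
    (ιU : L →ₗ⁅k⁆ UniversalEnvelopingAlgebra k L).toLinearMap ⁅a, c⁆ = ιU a * ιU c - ιU c * ιU a := by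
  show ιU ⁅a, c⁆ = _
  rw [LieHom.map_lie, LieRing.of_associative_ring_bracket]

theorem z_central {p : ℕ} [Fact p.Prime] [CharP k p] (x y : L)
    (hxy : LieAlgebra.ad k L x ^ p = LieAlgebra.ad k L y) :
    ∀ u, (ιU x ^ p - ιU y) * u = u * (ιU x ^ p - ιU y) := by
  apply central_of_comm_ι
  intro w
  have hpU : ((p : ℕ) : UniversalEnvelopingAlgebra k L) = 0 := by
    rw [← map_natCast (algebraMap k (UniversalEnvelopingAlgebra k L)), CharP.cast_eq_zero, map_zero]
  have h1 := Groth.Agent.Helper22.Jac.ad_pow_map (R := k)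
    (ιU : L →ₗ⁅k⁆ UniversalEnvelopingAlgebra k L).toLinearMap ι_lie x p w
  rw [Groth.Agent.Helper22.Jac.ad_pow_prime (Fact.out : p.Prime) hpU, hxy, LieAlgebra.ad_apply,
    ι_lie] at h1
  have h1' : ιU y * ιU w - ιU w * ιU y = ιU x ^ p * ιU w - ιU w * ιU x ^ p := h1
  rw [sub_mul, mul_sub]
  calc ιU x ^ p * ιU w - ιU y * ιU w
      = (ιU x ^ p * ιU w - ιU w * ιU x ^ p) - ιU y * ιU w + ιU w * ιU x ^ p := by abel
    _ = (ιU y * ιU w - ιU w * ιU y) - ιU y * ιU w + ιU w * ιU x ^ p := by rw [h1']
    _ = ιU w * ιU x ^ p - ιU w * ιU y := by abel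

end Quot

section Jacobson

open Groth.Agent.Helper22.Jac

variable {R : Type*} [CommRing R] (p : ℕ) [Fact p.Prime] [CharP R p]
  {L : Type*} [LieRing L] [LieAlgebra R L] {ι : Type*}

local notation "ιU" => UniversalEnvelopingAlgebra.ι R

/-- Given an injective linear map `e` of a Lie algebra into an associative algebra of characteristic
`p`, taking brackets to commutators, and such that `e (b i) ^ p = e (y i)` on a basis, there is a
`p`-map `φ` with `e (φ x) = e x ^ p` for all `x` and `φ (b i) = y i`. -/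
theorem exists_pmap_of_embedding {A : Type*} [Ring A] [Algebra R A] (e : L →ₗ[R] A)
    (hinj : Function.Injective e) (he : ∀ x y : L, e ⁅x, y⁆ = e x * e y - e y * e x)
    (b : Module.Basis ι R L) (y : ι → L) (hbp : ∀ i, e (b i) ^ p = e (y i)) :
    ∃ φ : PLie.PMap R p L, (∀ i, φ (b i) = y i) ∧ ∀ x, e (φ x) = e x ^ p := by
  have hp0 : p ≠ 0 := (Fact.out : p.Prime).ne_zero
  have hT : ∀ x : L, ∃ g : L, e g = e x ^ p := by
    intro x
    have hx : x ∈ Submodule.span R (Set.range b) := by rw [b.span_eq]; trivial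
    induction hx using Submodule.span_induction with
    | mem x hx =>
      obtain ⟨i, rfl⟩ := hx
      exact ⟨y i, (hbp i).symm⟩
    | zero => exact ⟨0, by rw [map_zero, zero_pow hp0]⟩
    | add s t _ _ h1 h2 =>
      obtain ⟨g1, h1⟩ := h1
      obtain ⟨g2, h2⟩ := h2
      refine ⟨g1 + g2 - PLie.jacobson R p s t, ?_⟩
      rw [map_sub, map_add, h1, h2, map_add, jacobson_assoc (R := R) (e s) (e t)]
      congr 1
      unfold PLie.jacobson
      rw [map_sum]
      apply Finset.sum_congr rfl
      intro t' _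
      rw [map_smul, bracketWord_map e he, pair_map]
    | smul c s _ h =>
      obtain ⟨g, h⟩ := h
      exact ⟨c ^ p • g, by rw [map_smul, map_smul, h, smul_pow]⟩
  choose g hg using hT
  refine ⟨pmapOfAssoc e hinj he g hg, fun i => ?_, fun x => ?_⟩
  · apply hinj
    rw [pmapOfAssoc_apply, hg, hbp]
  · rw [pmapOfAssoc_apply, hg]

/-- **Jacobson's theorem** (existence): a Lie algebra free over a ring of characteristic `p` with
`(ad b_i)^p = ad y_i` has a `p`-map with `b_i ↦ y_i`; moreover it comes with a faithful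
representation `e` on a module `Q` with `e (φ x) = e x ^ p`. -/
theorem exists_pmap_basis (b : Module.Basis ι R L) (y : ι → L)
    (hy : ∀ i : ι, LieAlgebra.ad R L (b i) ^ p = LieAlgebra.ad R L (y i)) :
    ∃ φ : PLie.PMap R p L, ∀ i, φ (b i) = y i := by
  classical
  let _ : LinearOrder ι := IsWellOrder.linearOrder WellOrderingRel
  have hp2 : 1 < p := (Fact.out : p.Prime).one_lt
  let z : ι → UniversalEnvelopingAlgebra R L := fun i => ιU (b i) ^ p - ιU (y i)
  have hc : ∀ i u, z i * u = u * z i := fun i => z_central (b i) (y i) (hy i)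
  have hz : ∀ i, z i - ιU (b i) ^ p ∈ Tlt b p := by
    intro i
    have h : z i - ιU (b i) ^ p = -ιU (y i) := by
      show ιU (b i) ^ p - ιU (y i) - ιU (b i) ^ p = -ιU (y i)
      abel
    rw [h]
    exact neg_mem (Tle_le_Tlt b hp2 (ι_mem_Tle b (y i)))
  have hinj := rep_injective z hc b p hp2 hz
  have hbp : ∀ i, rep z hc (b i) ^ p = rep z hc (y i) := by
    intro i
    rw [rep_apply, rep_apply, ← map_pow]
    have h : ιU (b i) ^ p = z i + ιU (y i) := by
      show ιU (b i) ^ p = ιU (b i) ^ p - ιU (y i) + ιU (y i)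
      abel
    rw [h, map_add, lmAlg_z, zero_add]
  obtain ⟨φ, hφ, _⟩ := exists_pmap_of_embedding p (rep z hc) hinj (rep_lie z hc) b y hbp
  exact ⟨φ, hφ⟩

end Jacobson

end Groth.Agent.Helper6.RPBW
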