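import Mathlib
import Groth.Prelude.Def_PLie
import Groth.Agent.Lib.Helper6.RPBW3

/-!
# First-order deformations of the three-dimensional Lie algebras `l_t`: restrictability (helper6)

`L` free of rank three over the dual numbers `K[ε]` with brackets
`[x,y] = aε x + (1+bε) y + cε z`, `[x,z] = dε x + eε y + (t+fε) z`, `[y,z] = gε x + hε y + iε z`.
-/

set_option autoImplicit false
universe u v

namespace Groth.Agent.Helper6.PLie3

open DualNumber TrivSqZeroExt

section DN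

variable {K : Type u} [Field K]

lemma fst_E (k : K) : (k • (ε : DualNumber K)).fst = 0 := by simp
lemma snd_E (k : K) : (k • (ε : DualNumber K)).snd = k := by simp
lemma fst_T (k : K) : (algebraMap K (DualNumber K) k).fst = k := by
  simp [TrivSqZeroExt.algebraMap_eq_inl]
lemma snd_T (k : K) : (algebraMap K (DualNumber K) k).snd = 0 := by
  simp [TrivSqZeroExt.algebraMap_eq_inl]

end DN

/-- prove an identity in the dual numbers componentwise -/
macro "dn" : tactic =>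
  `(tactic| (apply TrivSqZeroExt.ext <;>
    simp only [TrivSqZeroExt.fst_add, TrivSqZeroExt.snd_add, TrivSqZeroExt.fst_mul,
      TrivSqZeroExt.snd_mul, TrivSqZeroExt.fst_sub, TrivSqZeroExt.snd_sub, TrivSqZeroExt.fst_neg,
      TrivSqZeroExt.snd_neg, TrivSqZeroExt.fst_one, TrivSqZeroExt.snd_one, TrivSqZeroExt.fst_zero,
      TrivSqZeroExt.snd_zero, fst_E, snd_E, fst_T, snd_T, smul_eq_mul, op_smul_eq_mul] <;> ring))

/-- simplify first/second components in a hypothesis -/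
macro "dns" "at" h:ident : tactic =>
  `(tactic| simp only [TrivSqZeroExt.fst_add, TrivSqZeroExt.snd_add, TrivSqZeroExt.fst_mul,
      TrivSqZeroExt.snd_mul, TrivSqZeroExt.fst_sub, TrivSqZeroExt.snd_sub, TrivSqZeroExt.fst_neg,
      TrivSqZeroExt.snd_neg, TrivSqZeroExt.fst_one, TrivSqZeroExt.snd_one, TrivSqZeroExt.fst_zero,
      TrivSqZeroExt.snd_zero, fst_E, snd_E, fst_T, snd_T, smul_eq_mul, op_smul_eq_mul] at $h:ident)

section Main

variable {K : Type u} [Field K] {L : Type v} [LieRing L] [LieAlgebra (DualNumber K) L]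
variable (bs : Module.Basis (Fin 3) (DualNumber K) L)

/-- linear combination of the three basis vectors -/
noncomputable def comb (r0 r1 r2 : DualNumber K) : L := r0 • bs 0 + r1 • bs 1 + r2 • bs 2

lemma comb_congr {r0 r1 r2 s0 s1 s2 : DualNumber K} (h0 : r0 = s0) (h1 : r1 = s1) (h2 : r2 = s2) :
    comb bs r0 r1 r2 = comb bs s0 s1 s2 := by rw [h0, h1, h2]

lemma comb_inj {r0 r1 r2 s0 s1 s2 : DualNumber K} (h : comb bs r0 r1 r2 = comb bs s0 s1 s2) :
    r0 = s0 ∧ r1 = s1 ∧ r2 = s2 := by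
  have h0 := congrArg (fun v => bs.repr v 0) h
  have h1 := congrArg (fun v => bs.repr v 1) h
  have h2 := congrArg (fun v => bs.repr v 2) h
  simp [comb] at h0 h1 h2
  exact ⟨h0, h1, h2⟩

lemma exists_comb (w : L) : ∃ α β γ : DualNumber K, w = comb bs α β γ := by
  refine ⟨bs.repr w 0, bs.repr w 1, bs.repr w 2, ?_⟩
  have h := bs.sum_repr w
  rw [Fin.sum_univ_three] at h
  exact h.symm

lemma comb_zero : comb bs 0 0 0 = 0 := by simp only [comb]; module
lemma bs0_eq : bs 0 = comb bs 1 0 0 := by simp only [comb]; module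
lemma bs1_eq : bs 1 = comb bs 0 1 0 := by simp only [comb]; module
lemma bs2_eq : bs 2 = comb bs 0 0 1 := by simp only [comb]; module

lemma smul_comb (r r0 r1 r2 : DualNumber K) :
    r • comb bs r0 r1 r2 = comb bs (r * r0) (r * r1) (r * r2) := by
  simp only [comb, smul_add, smul_smul]

lemma comb_add (r0 r1 r2 s0 s1 s2 : DualNumber K) :
    comb bs r0 r1 r2 + comb bs s0 s1 s2 = comb bs (r0 + s0) (r1 + s1) (r2 + s2) := by
  simp only [comb]; module

/-- the structure constants -/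
structure SC (a b c d e f g h i t : K) : Prop where
  hxy : ⁅bs 0, bs 1⁆ = comb bs (a • ε) (1 + b • ε) (c • ε)
  hxz : ⁅bs 0, bs 2⁆ = comb bs (d • ε) (e • ε) (algebraMap K (DualNumber K) t + f • ε)
  hyz : ⁅bs 1, bs 2⁆ = comb bs (g • ε) (h • ε) (i • ε)

variable {bs} {a b c d e f g h i t : K}

lemma lie_comb (H : SC bs a b c d e f g h i t) (α β γ α' β' γ' : DualNumber K) :
    ⁅comb bs α β γ, comb bs α' β' γ'⁆ =
      comb bs ((α * β' - β * α') * (a • ε) + (α * γ' - γ * α') * (d • ε) +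
          (β * γ' - γ * β') * (g • ε))
        ((α * β' - β * α') * (1 + b • ε) + (α * γ' - γ * α') * (e • ε) +
          (β * γ' - γ * β') * (h • ε))
        ((α * β' - β * α') * (c • ε) +
          (α * γ' - γ * α') * (algebraMap K (DualNumber K) t + f • ε) +
          (β * γ' - γ * β') * (i • ε)) := by
  have hyx : ⁅bs 1, bs 0⁆ = -⁅bs 0, bs 1⁆ := (lie_skew (bs 1) (bs 0)).symm
  have hzx : ⁅bs 2, bs 0⁆ = -⁅bs 0, bs 2⁆ := (lie_skew (bs 2) (bs 0)).symm
  have hzy : ⁅bs 2, bs 1⁆ = -⁅bs 1, bs 2⁆ := (lie_skew (bs 2) (bs 1)).symm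
  have h1 : ⁅comb bs α β γ, comb bs α' β' γ'⁆ =
      (α * β' - β * α') • ⁅bs 0, bs 1⁆ + (α * γ' - γ * α') • ⁅bs 0, bs 2⁆ +
        (β * γ' - γ * β') • ⁅bs 1, bs 2⁆ := by
    simp only [comb, add_lie, lie_add, smul_lie, lie_smul, lie_self, hyx, hzx, hzy, smul_zero,
      smul_neg]
    module
  rw [h1, H.hxy, H.hxz, H.hyz]
  simp only [comb]
  module

lemma lie_b0_comb (H : SC bs a b c d e f g h i t) (r0 r1 r2 : DualNumber K) :
    ⁅bs 0, comb bs r0 r1 r2⁆ =
      comb bs (r1 * (a • ε) + r2 * (d • ε)) (r1 * (1 + b • ε) + r2 * (e • ε))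
        (r1 * (c • ε) + r2 * (algebraMap K (DualNumber K) t + f • ε)) := by
  rw [bs0_eq bs, lie_comb H]
  exact comb_congr bs (by ring) (by ring) (by ring)

lemma lie_b1_comb (H : SC bs a b c d e f g h i t) (r0 r1 r2 : DualNumber K) :
    ⁅bs 1, comb bs r0 r1 r2⁆ =
      comb bs ((-r0) * (a • ε) + r2 * (g • ε)) ((-r0) * (1 + b • ε) + r2 * (h • ε))
        ((-r0) * (c • ε) + r2 * (i • ε)) := by
  rw [bs1_eq bs, lie_comb H]
  exact comb_congr bs (by ring) (by ring) (by ring)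

lemma lie_b2_comb (H : SC bs a b c d e f g h i t) (r0 r1 r2 : DualNumber K) :
    ⁅bs 2, comb bs r0 r1 r2⁆ =
      comb bs ((-r0) * (d • ε) + (-r1) * (g • ε)) ((-r0) * (e • ε) + (-r1) * (h • ε))
        ((-r0) * (algebraMap K (DualNumber K) t + f • ε) + (-r1) * (i • ε)) := by
  rw [bs2_eq bs, lie_comb H]
  exact comb_congr bs (by ring) (by ring) (by ring)

lemma lie_comb_b0 (H : SC bs a b c d e f g h i t) (α β γ : DualNumber K) :
    ⁅comb bs α β γ, bs 0⁆ =
      comb bs ((-β) * (a • ε) + (-γ) * (d • ε)) ((-β) * (1 + b • ε) + (-γ) * (e • ε))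
        ((-β) * (c • ε) + (-γ) * (algebraMap K (DualNumber K) t + f • ε)) := by
  rw [bs0_eq bs, lie_comb H]
  exact comb_congr bs (by ring) (by ring) (by ring)

lemma lie_comb_b1 (H : SC bs a b c d e f g h i t) (α β γ : DualNumber K) :
    ⁅comb bs α β γ, bs 1⁆ =
      comb bs (α * (a • ε) + (-γ) * (g • ε)) (α * (1 + b • ε) + (-γ) * (h • ε))
        (α * (c • ε) + (-γ) * (i • ε)) := by
  rw [bs1_eq bs, lie_comb H]
  exact comb_congr bs (by ring) (by ring) (by ring)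

lemma lie_comb_b2 (H : SC bs a b c d e f g h i t) (α β γ : DualNumber K) :
    ⁅comb bs α β γ, bs 2⁆ =
      comb bs (α * (d • ε) + β * (g • ε)) (α * (e • ε) + β * (h • ε))
        (α * (algebraMap K (DualNumber K) t + f • ε) + β * (i • ε)) := by
  rw [bs2_eq bs, lie_comb H]
  exact comb_congr bs (by ring) (by ring) (by ring)

lemma ad_pow_succ_apply (u v : L) (n : ℕ) :
    (LieAlgebra.ad (DualNumber K) L u ^ (n + 1)) v =
      ⁅u, (LieAlgebra.ad (DualNumber K) L u ^ n) v⁆ := by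
  rw [pow_succ', Module.End.mul_apply, LieAlgebra.ad_apply]

lemma ad_sq_apply (u v : L) :
    (LieAlgebra.ad (DualNumber K) L u ^ 2) v = ⁅u, ⁅u, v⁆⁆ := by
  rw [pow_two, Module.End.mul_apply, LieAlgebra.ad_apply, LieAlgebra.ad_apply]

/-! ### powers of `ad x` -/

lemma adx_pow_y (H : SC bs a b c d e f g h i t) (m : ℕ) :
    (LieAlgebra.ad (DualNumber K) L (bs 0) ^ (m + 1)) (bs 1) =
      comb bs (a • ε) (1 + (((m : K) + 1) * b) • ε)
        ((c * ∑ j ∈ Finset.range (m + 1), t ^ j) • ε) := by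
  induction m with
  | zero =>
    have h1 : (LieAlgebra.ad (DualNumber K) L (bs 0) ^ (0 + 1)) (bs 1) = ⁅bs 0, bs 1⁆ := by
      rw [zero_add, pow_one, LieAlgebra.ad_apply]
    rw [h1, H.hxy]
    refine comb_congr bs rfl ?_ ?_ <;> simp
  | succ m ih =>
    rw [ad_pow_succ_apply, ih, lie_b0_comb H]
    refine comb_congr bs ?_ ?_ ?_
    · dn
    · rw [Nat.cast_succ]; dn
    · rw [geom_sum_succ (x := t) (n := m + 1)]; dn

lemma adx_pow_z (H : SC bs a b c d e f g h i t) (m : ℕ) :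
    (LieAlgebra.ad (DualNumber K) L (bs 0) ^ (m + 1)) (bs 2) =
      comb bs ((t ^ m * d) • ε) ((e * ∑ j ∈ Finset.range (m + 1), t ^ j) • ε)
        (algebraMap K (DualNumber K) (t ^ (m + 1)) + (((m : K) + 1) * t ^ m * f) • ε) := by
  induction m with
  | zero =>
    have h1 : (LieAlgebra.ad (DualNumber K) L (bs 0) ^ (0 + 1)) (bs 2) = ⁅bs 0, bs 2⁆ := by
      rw [zero_add, pow_one, LieAlgebra.ad_apply]
    rw [h1, H.hxz]
    refine comb_congr bs ?_ ?_ ?_ <;> simp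
  | succ m ih =>
    rw [ad_pow_succ_apply, ih, lie_b0_comb H]
    refine comb_congr bs ?_ ?_ ?_
    · dn
    · rw [geom_sum_succ' (x := t) (n := m + 1)]; dn
    · rw [Nat.cast_succ]; dn

lemma adx_pow_x (n : ℕ) (hn : 1 ≤ n) :
    (LieAlgebra.ad (DualNumber K) L (bs 0) ^ n) (bs 0) = 0 := by
  obtain ⟨m, rfl⟩ : ∃ m, n = m + 1 := ⟨n - 1, by omega⟩
  rw [pow_succ, Module.End.mul_apply, LieAlgebra.ad_apply, lie_self, map_zero]

lemma geom_p (p : ℕ) [CharP K p] (ht : t ^ p = t) :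
    (t = 1 → ∑ j ∈ Finset.range p, t ^ j = 0) ∧ (t ≠ 1 → ∑ j ∈ Finset.range p, t ^ j = 1) := by
  constructor
  · intro h1
    rw [h1]
    simp
  · intro h1
    have h2 := geom_sum_mul t p
    rw [ht] at h2
    exact mul_right_cancel₀ (sub_ne_zero.2 h1) (h2.trans (one_mul _).symm)

lemma adx_pow_p_y (H : SC bs a b c d e f g h i t) (p : ℕ) [CharP K p] (hp : 1 ≤ p) :
    (LieAlgebra.ad (DualNumber K) L (bs 0) ^ p) (bs 1) =
      comb bs (a • ε) 1 ((c * ∑ j ∈ Finset.range p, t ^ j) • ε) := by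
  obtain ⟨m, hm⟩ : ∃ m, p = m + 1 := ⟨p - 1, by omega⟩
  have h0 : (m : K) + 1 = 0 := by
    have h1 := CharP.cast_eq_zero K p
    rw [hm, Nat.cast_succ] at h1
    exact h1
  rw [hm, adx_pow_y H m, h0]
  refine comb_congr bs rfl ?_ rfl
  simp

lemma adx_pow_p_z (H : SC bs a b c d e f g h i t) (p : ℕ) [CharP K p] (hp : 1 ≤ p)
    (ht : t ^ p = t) :
    (LieAlgebra.ad (DualNumber K) L (bs 0) ^ p) (bs 2) =
      comb bs ((t ^ (p - 1) * d) • ε) ((e * ∑ j ∈ Finset.range p, t ^ j) • ε)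
        (algebraMap K (DualNumber K) t) := by
  obtain ⟨m, hm⟩ : ∃ m, p = m + 1 := ⟨p - 1, by omega⟩
  have h0 : (m : K) + 1 = 0 := by
    have h1 := CharP.cast_eq_zero K p
    rw [hm, Nat.cast_succ] at h1
    exact h1
  have ht' : t ^ (m + 1) = t := by rw [← hm]; exact ht
  rw [hm, adx_pow_z H m, h0, ht', Nat.add_sub_cancel]
  refine comb_congr bs rfl rfl ?_
  simp

/-! ### squares and cubes of `ad y`, `ad z` -/

lemma ady_sq_x (H : SC bs a b c d e f g h i t) :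
    ⁅bs 1, ⁅bs 1, bs 0⁆⁆ = comb bs 0 (a • ε) 0 := by
  rw [bs0_eq bs, lie_b1_comb H, lie_b1_comb H]
  refine comb_congr bs ?_ ?_ ?_ <;> dn

lemma ady_sq_z (H : SC bs a b c d e f g h i t) :
    ⁅bs 1, ⁅bs 1, bs 2⁆⁆ = comb bs 0 (-(g • ε)) 0 := by
  rw [H.hyz, lie_b1_comb H]
  refine comb_congr bs ?_ ?_ ?_ <;> dn

lemma adz_sq_x (H : SC bs a b c d e f g h i t) :
    ⁅bs 2, ⁅bs 2, bs 0⁆⁆ = comb bs 0 0 ((d * t) • ε) := by
  rw [bs0_eq bs, lie_b2_comb H, lie_b2_comb H]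
  refine comb_congr bs ?_ ?_ ?_ <;> dn

lemma adz_sq_y (H : SC bs a b c d e f g h i t) :
    ⁅bs 2, ⁅bs 2, bs 1⁆⁆ = comb bs 0 0 ((g * t) • ε) := by
  rw [bs1_eq bs, lie_b2_comb H, lie_b2_comb H]
  refine comb_congr bs ?_ ?_ ?_ <;> dn

lemma lie_b1_mid (H : SC bs a b c d e f g h i t) (r : DualNumber K) :
    ⁅bs 1, comb bs 0 r 0⁆ = 0 := by
  rw [lie_b1_comb H, ← comb_zero bs]
  refine comb_congr bs ?_ ?_ ?_ <;> ring

lemma lie_b2_last (H : SC bs a b c d e f g h i t) (r : DualNumber K) :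
    ⁅bs 2, comb bs 0 0 r⁆ = 0 := by
  rw [lie_b2_comb H, ← comb_zero bs]
  refine comb_congr bs ?_ ?_ ?_ <;> ring

lemma ady_cube (H : SC bs a b c d e f g h i t) :
    LieAlgebra.ad (DualNumber K) L (bs 1) ^ 3 = 0 := by
  apply bs.ext
  intro j
  have hj : j = 0 ∨ j = 1 ∨ j = 2 := by fin_cases j <;> simp
  rw [ad_pow_succ_apply, ad_sq_apply, LinearMap.zero_apply]
  rcases hj with rfl | rfl | rfl
  · rw [ady_sq_x H, lie_b1_mid H]
  · rw [lie_self, lie_zero, lie_zero]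
  · rw [ady_sq_z H, lie_b1_mid H]

lemma adz_cube (H : SC bs a b c d e f g h i t) :
    LieAlgebra.ad (DualNumber K) L (bs 2) ^ 3 = 0 := by
  apply bs.ext
  intro j
  have hj : j = 0 ∨ j = 1 ∨ j = 2 := by fin_cases j <;> simp
  rw [ad_pow_succ_apply, ad_sq_apply, LinearMap.zero_apply]
  rcases hj with rfl | rfl | rfl
  · rw [adz_sq_x H, lie_b2_last H]
  · rw [adz_sq_y H, lie_b2_last H]
  · rw [lie_self, lie_zero, lie_zero]

/-- the Jacobi identity forces `d = t h` -/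
lemma jacobi_d (H : SC bs a b c d e f g h i t) : d = t * h := by
  have J := leibniz_lie (bs 0) (bs 1) (bs 2)
  rw [H.hyz, H.hxy, H.hxz, lie_b0_comb H, lie_comb_b2 H, lie_b1_comb H, comb_add] at J
  obtain ⟨-, J1, -⟩ := comb_inj bs J
  have J2 := congrArg TrivSqZeroExt.snd J1
  dns at J2
  linear_combination J2

end Main

end Groth.Agent.Helper6.PLie3
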