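import Mathlib
import Groth.Prelude.Def_PLie
import Groth.Agent.Lib.Helper6.RPBW3
import Groth.Agent.Lib.Helper6.PLie3A

/-!
# Restrictability criterion for first-order deformations of `l_t` (helper6)
-/

set_option autoImplicit false
universe u v

namespace Groth.Agent.Helper6.PLie3

open DualNumber TrivSqZeroExt

section

variable {K : Type u} [Field K] {L : Type v} [LieRing L] [LieAlgebra (DualNumber K) L]
  {bs : Module.Basis (Fin 3) (DualNumber K) L} {a b c d e f g h i t : K}

theorem nonempty_pmap (p : ℕ) [Fact p.Prime] [CharP K p] [CharP (DualNumber K) p]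
    (H : SC bs a b c d e f g h i t) (ht : t ^ p = t) (h1 : b * t = f)
    (h2 : t = 1 → c = 0 ∧ e = 0) (h3 : p = 2 → g = 0) :
    Nonempty (PLie.PMap (DualNumber K) p L) := by
  have hp1 : 1 ≤ p := (Fact.out : p.Prime).one_lt.le
  have hp2' : 2 ≤ p := (Fact.out : p.Prime).two_le
  have hJ := jacobi_d H
  obtain ⟨-, hS2⟩ := geom_p (K := K) (t := t) p ht
  have hcS : c * ∑ j ∈ Finset.range p, t ^ j = c := by
    by_cases ht1 : t = 1
    · rw [(h2 ht1).1, zero_mul]
    · rw [hS2 ht1, mul_one]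
  have heS : e * ∑ j ∈ Finset.range p, t ^ j = e := by
    by_cases ht1 : t = 1
    · rw [(h2 ht1).2, zero_mul]
    · rw [hS2 ht1, mul_one]
  have htd : t ^ (p - 1) * d = d := by
    rw [hJ, ← mul_assoc, ← pow_succ, Nat.sub_add_cancel hp1, ht]
  have hx : LieAlgebra.ad (DualNumber K) L (bs 0) ^ p =
      LieAlgebra.ad (DualNumber K) L ((1 - b • ε : DualNumber K) • bs 0) := by
    apply bs.ext
    intro j
    have hj : j = 0 ∨ j = 1 ∨ j = 2 := by fin_cases j <;> simp
    rcases hj with rfl | rfl | rfl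
    · rw [adx_pow_x p hp1, LieAlgebra.ad_apply, smul_lie, lie_self, smul_zero]
    · rw [adx_pow_p_y H p hp1, LieAlgebra.ad_apply, smul_lie, H.hxy, smul_comb, hcS]
      refine comb_congr bs ?_ ?_ ?_ <;> dn
    · rw [adx_pow_p_z H p hp1 ht, LieAlgebra.ad_apply, smul_lie, H.hxz, smul_comb, htd, heS, ← h1]
      refine comb_congr bs ?_ ?_ ?_ <;> dn
  have hyz : ∃ y1 y2 : L,
      LieAlgebra.ad (DualNumber K) L (bs 1) ^ p = LieAlgebra.ad (DualNumber K) L y1 ∧
      LieAlgebra.ad (DualNumber K) L (bs 2) ^ p = LieAlgebra.ad (DualNumber K) L y2 := by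
    by_cases hp2 : p = 2
    · have hg : g = 0 := h3 hp2
      refine ⟨(-(a • ε) : DualNumber K) • bs 1, (-(d • ε) : DualNumber K) • bs 2, ?_, ?_⟩
      · rw [hp2]
        apply bs.ext
        intro j
        have hj : j = 0 ∨ j = 1 ∨ j = 2 := by fin_cases j <;> simp
        rw [ad_sq_apply, LieAlgebra.ad_apply, smul_lie]
        rcases hj with rfl | rfl | rfl
        · rw [ady_sq_x H, bs0_eq bs, lie_b1_comb H, smul_comb]
          refine comb_congr bs ?_ ?_ ?_ <;> dn
        · rw [lie_self, lie_zero, smul_zero]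
        · rw [ady_sq_z H, H.hyz, smul_comb, hg]
          refine comb_congr bs ?_ ?_ ?_ <;> dn
      · rw [hp2]
        apply bs.ext
        intro j
        have hj : j = 0 ∨ j = 1 ∨ j = 2 := by fin_cases j <;> simp
        rw [ad_sq_apply, LieAlgebra.ad_apply, smul_lie]
        rcases hj with rfl | rfl | rfl
        · rw [adz_sq_x H, bs0_eq bs, lie_b2_comb H, smul_comb]
          refine comb_congr bs ?_ ?_ ?_ <;> dn
        · rw [adz_sq_y H, bs1_eq bs, lie_b2_comb H, smul_comb, hg]
          refine comb_congr bs ?_ ?_ ?_ <;> dn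
        · rw [lie_self, lie_zero, smul_zero]
    · have hp3 : 3 ≤ p := by omega
      refine ⟨0, 0, ?_, ?_⟩
      · rw [pow_eq_zero_of_le hp3 (ady_cube H), map_zero]
      · rw [pow_eq_zero_of_le hp3 (adz_cube H), map_zero]
  obtain ⟨y1, y2, hy1, hy2⟩ := hyz
  obtain ⟨φ, -⟩ := Groth.Agent.Helper6.RPBW.exists_pmap_basis p bs
    (fun j => if j = 0 then (1 - b • ε : DualNumber K) • bs 0 else if j = 1 then y1 else y2) (by
      intro j
      have hj : j = 0 ∨ j = 1 ∨ j = 2 := by fin_cases j <;> simp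
      rcases hj with rfl | rfl | rfl
      · exact hx
      · exact hy1
      · exact hy2)
  exact ⟨φ⟩

theorem conds_of_pmap (p : ℕ) [Fact p.Prime] [CharP K p] [CharP (DualNumber K) p]
    (H : SC bs a b c d e f g h i t) (ht : t ^ p = t) (φ : PLie.PMap (DualNumber K) p L) :
    b * t = f ∧ (t = 1 → c = 0 ∧ e = 0) ∧ (p = 2 → g = 0) := by
  have hp1 : 1 ≤ p := (Fact.out : p.Prime).one_lt.le
  obtain ⟨hS1, -⟩ := geom_p (K := K) (t := t) p ht
  obtain ⟨α, β, γ, hw⟩ := exists_comb bs (φ.toFun (bs 0))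
  have had := φ.ad_map (bs 0)
  have e0 := DFunLike.congr_fun had (bs 0)
  have e1 := DFunLike.congr_fun had (bs 1)
  have e2 := DFunLike.congr_fun had (bs 2)
  rw [LieAlgebra.ad_apply, hw, lie_comb_b0 H, adx_pow_x p hp1, ← comb_zero bs] at e0
  rw [LieAlgebra.ad_apply, hw, lie_comb_b1 H, adx_pow_p_y H p hp1] at e1
  rw [LieAlgebra.ad_apply, hw, lie_comb_b2 H, adx_pow_p_z H p hp1 ht] at e2
  obtain ⟨-, e0y, e0z⟩ := comb_inj bs e0
  obtain ⟨-, e1y, e1z⟩ := comb_inj bs e1
  obtain ⟨-, e2y, e2z⟩ := comb_inj bs e2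
  have A0 := congrArg TrivSqZeroExt.fst e1y
  have A1 := congrArg TrivSqZeroExt.snd e1y
  have B1 := congrArg TrivSqZeroExt.snd e1z
  have C1 := congrArg TrivSqZeroExt.snd e2y
  have D1 := congrArg TrivSqZeroExt.snd e2z
  have X0 := congrArg TrivSqZeroExt.fst e0y
  have X1 := congrArg TrivSqZeroExt.fst e0z
  dns at A0
  dns at A1
  dns at B1
  dns at C1
  dns at D1
  dns at X0
  dns at X1
  have hα : α.fst = 1 := by linear_combination A0
  have hβ : β.fst = 0 := by linear_combination (-1 : K) * X0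
  have hγ : γ.fst * t = 0 := by linear_combination (-1 : K) * X1
  refine ⟨?_, ?_, ?_⟩
  · linear_combination t * A1 - D1 + h * hγ + i * hβ - (b * t - f) * hα
  · intro ht1
    have hγ0 : γ.fst = 0 := by
      rw [ht1, mul_one] at hγ
      exact hγ
    rw [hS1 ht1, mul_zero] at B1 C1
    constructor
    · linear_combination B1 + i * hγ0 - c * hα
    · linear_combination C1 - h * hβ - e * hα
  · intro hp2
    obtain ⟨α', β', γ', hw'⟩ := exists_comb bs (φ.toFun (bs 1))
    have had' := φ.ad_map (bs 1)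
    have hpow : LieAlgebra.ad (DualNumber K) L (bs 1) ^ p =
        LieAlgebra.ad (DualNumber K) L (bs 1) ^ 2 := by rw [hp2]
    rw [hpow] at had'
    have f0 := DFunLike.congr_fun had' (bs 0)
    have f1 := DFunLike.congr_fun had' (bs 1)
    have f2 := DFunLike.congr_fun had' (bs 2)
    rw [LieAlgebra.ad_apply, hw', lie_comb_b0 H, ad_sq_apply, ady_sq_x H] at f0
    rw [LieAlgebra.ad_apply, hw', lie_comb_b1 H, ad_sq_apply, lie_self, lie_zero,
      ← comb_zero bs] at f1
    rw [LieAlgebra.ad_apply, hw', lie_comb_b2 H, ad_sq_apply, ady_sq_z H] at f2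
    obtain ⟨-, f0y, -⟩ := comb_inj bs f0
    obtain ⟨-, f1y, -⟩ := comb_inj bs f1
    obtain ⟨-, f2y, -⟩ := comb_inj bs f2
    have Q := congrArg TrivSqZeroExt.fst f0y
    have P := congrArg TrivSqZeroExt.fst f1y
    have G := congrArg TrivSqZeroExt.snd f2y
    dns at Q
    dns at P
    dns at G
    linear_combination G - e * P + h * Q

end

end Groth.Agent.Helper6.PLie3
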