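import Groth.Prelude.Def_PP16
import Mathlib.RingTheory.Ideal.Quotient.Operations
import Mathlib.LinearAlgebra.TensorProduct.Quotient
import Mathlib.LinearAlgebra.TensorProduct.RightExactness

/-!
# Principal parts (`PP16`): helper lemmas (helper6)
-/

set_option autoImplicit false

namespace Groth.Agent.Helper6
open scoped TensorProduct

universe u

section general

variable {R R' : Type*} [CommRing R] [CommRing R']

/-- If `φ : R → R'` is surjective and maps `I` onto `I'`, then the induced map
`R/I^m → R'/I'^m` is surjective with kernel the image of `ker φ`. -/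
theorem quotientPow_surjective_ker {I : Ideal R} {I' : Ideal R'} {m : ℕ} {F : Type*}
    [FunLike F (R ⧸ I ^ m) (R' ⧸ I' ^ m)]
    [RingHomClass F (R ⧸ I ^ m) (R' ⧸ I' ^ m)]
    (φ : R →+* R') (hφ : Function.Surjective φ)
    (hI : I.map φ = I') (ψ : F)
    (hψ : ∀ x, ψ (Ideal.Quotient.mk _ x) = Ideal.Quotient.mk _ (φ x)) :
    Function.Surjective ψ ∧ RingHom.ker ψ = (RingHom.ker φ).map (Ideal.Quotient.mk (I ^ m)) := by
  constructor
  · intro y
    obtain ⟨y, rfl⟩ := Ideal.Quotient.mk_surjective y
    obtain ⟨x, rfl⟩ := hφ y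
    exact ⟨Ideal.Quotient.mk _ x, hψ x⟩
  · ext x
    obtain ⟨x, rfl⟩ := Ideal.Quotient.mk_surjective x
    rw [RingHom.mem_ker, hψ, Ideal.Quotient.eq_zero_iff_mem, ← hI, ← Ideal.map_pow,
      ← Ideal.mem_comap, Ideal.comap_map_of_surjective φ hφ, Ideal.mem_quotient_iff_mem_sup,
      sup_comm]
    rfl

end general

section tensorMap

variable (n : ℕ) (A B A' B' : Type u) [CommRing A] [CommRing B] [Algebra A B]
  [CommRing A'] [CommRing B'] [Algebra A' B'] [Algebra A A'] [Algebra B B'] [Algebra A B']
  [IsScalarTower A A' B'] [IsScalarTower A B B']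

theorem tensorMap_surjective (h : Function.Surjective (algebraMap B B')) :
    Function.Surjective (PP16.tensorMap A B A' B') := by
  intro y
  induction y using TensorProduct.induction_on with
  | zero => exact ⟨0, map_zero _⟩
  | tmul b c =>
    obtain ⟨b, rfl⟩ := h b
    obtain ⟨c, rfl⟩ := h c
    exact ⟨b ⊗ₜ c, PP16.tensorMap_tmul A B A' B' b c⟩
  | add x y hx hy =>
    obtain ⟨x, rfl⟩ := hx
    obtain ⟨y, rfl⟩ := hy
    exact ⟨x + y, map_add _ _ _⟩

theorem ideal_map_tensorMap_eq (h : Function.Surjective (algebraMap B B')) :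
    (KaehlerDifferential.ideal A B).map (PP16.tensorMap A B A' B') =
      KaehlerDifferential.ideal A' B' := by
  apply le_antisymm (PP16.ideal_map_tensorMap_le A B A' B')
  rw [← KaehlerDifferential.span_range_eq_ideal, Ideal.span_le]
  rintro _ ⟨c, rfl⟩
  obtain ⟨b, rfl⟩ := h c
  have : (1 : B') ⊗ₜ[A'] algebraMap B B' b - algebraMap B B' b ⊗ₜ[A'] (1 : B') =
      PP16.tensorMap A B A' B' ((1 : B) ⊗ₜ[A] b - b ⊗ₜ[A] (1 : B)) := by
    rw [map_sub, PP16.tensorMap_tmul, PP16.tensorMap_tmul, map_one]
  change (1 : B') ⊗ₜ[A'] algebraMap B B' b - algebraMap B B' b ⊗ₜ[A'] (1 : B') ∈ _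
  rw [this]
  exact Ideal.mem_map_of_mem _ (KaehlerDifferential.one_smul_sub_smul_one_mem_ideal A b)

/-- If `B → B'` is surjective then `P^n_{B/A} → P^n_{B'/A'}` is surjective with kernel the image
of the kernel of `B ⊗_A B → B' ⊗_{A'} B'`. -/
theorem map_surjective_ker (h : Function.Surjective (algebraMap B B')) :
    Function.Surjective (PP16.map n A B A' B') ∧
      RingHom.ker (PP16.map n A B A' B') =
        (RingHom.ker (PP16.tensorMap A B A' B' : B ⊗[A] B →+* B' ⊗[A'] B')).map
          (Ideal.Quotient.mk (KaehlerDifferential.ideal A B ^ (n + 1))) :=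
  quotientPow_surjective_ker (PP16.tensorMap A B A' B' : B ⊗[A] B →+* B' ⊗[A'] B')
    (tensorMap_surjective A B A' B' h) (ideal_map_tensorMap_eq A B A' B' h)
    (PP16.map n A B A' B') (fun x => PP16.map_mk n A B A' B' x)

end tensorMap


section tower

variable (A B C : Type u) [CommRing A] [CommRing B] [CommRing C] [Algebra A B] [Algebra B C]
  [Algebra A C] [IsScalarTower A B C]

theorem tensorMap_tower_apply (x : C ⊗[A] C) :
    PP16.tensorMap A C B C x = TensorProduct.mapOfCompatibleSMul B A B C C x := by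
  induction x using TensorProduct.induction_on with
  | zero => simp
  | tmul c c' => rw [PP16.tensorMap_tmul]; simp
  | add x y hx hy => simp [hx, hy]

theorem ker_tensorMap_tower :
    RingHom.ker (PP16.tensorMap A C B C : C ⊗[A] C →+* C ⊗[B] C) =
      (KaehlerDifferential.ideal A B).map (PP16.tensorMap A B A C) := by
  apply le_antisymm
  · intro x hx
    rw [RingHom.mem_ker] at hx
    have hx' : x ∈ LinearMap.ker (TensorProduct.mapOfCompatibleSMul B A B C C) := by
      rw [LinearMap.mem_ker, ← tensorMap_tower_apply]; exact hx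
    rw [TensorProduct.AlgebraTensorModule.ker_mapOfCompatibleSMul] at hx'
    clear hx
    induction hx' using Submodule.span_induction with
    | mem y hy =>
      obtain ⟨b, m, n, rfl⟩ := hy
      have h1 : (b • m) ⊗ₜ[A] n - m ⊗ₜ[A] (b • n) =
          (m ⊗ₜ[A] n) * (-(PP16.tensorMap A B A C ((1 : B) ⊗ₜ[A] b - b ⊗ₜ[A] (1 : B)))) := by
        rw [map_sub, PP16.tensorMap_tmul, PP16.tensorMap_tmul, map_one, neg_sub, mul_sub,
          Algebra.TensorProduct.tmul_mul_tmul, Algebra.TensorProduct.tmul_mul_tmul, mul_one,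
          mul_one, Algebra.smul_def, Algebra.smul_def, mul_comm m, mul_comm n]
      rw [h1]
      apply Ideal.mul_mem_left
      apply neg_mem
      exact Ideal.mem_map_of_mem _ (KaehlerDifferential.one_smul_sub_smul_one_mem_ideal A b)
    | zero => exact Ideal.zero_mem _
    | add y z _ _ hy hz => exact Ideal.add_mem _ hy hz
    | smul b y _ hy =>
      rw [Algebra.smul_def]
      exact Ideal.mul_mem_left _ _ hy
  · rw [Ideal.map_le_iff_le_comap, ← KaehlerDifferential.span_range_eq_ideal, Ideal.span_le]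
    rintro _ ⟨b, rfl⟩
    change PP16.tensorMap A C B C (PP16.tensorMap A B A C ((1 : B) ⊗ₜ[A] b - b ⊗ₜ[A] (1 : B))) = 0
    rw [map_sub, PP16.tensorMap_tmul, PP16.tensorMap_tmul, map_one, map_sub,
      PP16.tensorMap_tmul, PP16.tensorMap_tmul, map_one, sub_eq_zero]
    simp only [Algebra.algebraMap_self, RingHom.id_apply]
    rw [Algebra.algebraMap_eq_smul_one, TensorProduct.tmul_smul, TensorProduct.smul_tmul']

end tower

end Groth.Agent.Helper6
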