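import Groth.Agent.Lib.Helper6.PP16
import Mathlib.RingTheory.IsTensorProduct

/-!
# Principal parts: base change along "epimorphic" squares (helper6)
-/

set_option autoImplicit false

namespace Groth.Agent.Helper6
open scoped TensorProduct

universe u

section facts

variable (n : ℕ) (A B : Type u) [CommRing A] [CommRing B] [Algebra A B]

theorem augIdeal_pow_eq_bot : PP16.augIdeal n A B ^ (n + 1) = ⊥ := by
  rw [PP16.augIdeal, ← Ideal.map_pow, Ideal.map_quotient_self]

theorem dn_sub_algebraMap_mem_augIdeal (b : B) :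
    PP16.dn n A B b - algebraMap B (PP16.P n A B) b ∈ PP16.augIdeal n A B := by
  change Ideal.Quotient.mk _ ((1 : B) ⊗ₜ[A] b) - Ideal.Quotient.mk _ (b ⊗ₜ[A] (1 : B)) ∈ _
  rw [← map_sub]
  exact Ideal.mem_map_of_mem _ (KaehlerDifferential.one_smul_sub_smul_one_mem_ideal A b)

theorem algebraMap_P_apply (b : B) :
    algebraMap B (PP16.P n A B) b = Ideal.Quotient.mk _ (b ⊗ₜ[A] (1 : B)) := rfl

theorem dn_apply (b : B) :
    PP16.dn n A B b = Ideal.Quotient.mk _ ((1 : B) ⊗ₜ[A] b) := rfl

theorem mk_tmul_eq (b c : B) :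
    (Ideal.Quotient.mk (KaehlerDifferential.ideal A B ^ (n + 1)) (b ⊗ₜ[A] c) : PP16.P n A B) =
      algebraMap B (PP16.P n A B) b * PP16.dn n A B c := by
  rw [algebraMap_P_apply, dn_apply, ← map_mul, Algebra.TensorProduct.tmul_mul_tmul, mul_one, one_mul]

end facts

section aux

variable (n : ℕ) {A' B B' P : Type u} [CommRing A'] [CommRing B] [CommRing B'] [CommRing P]
  [Algebra A' B'] [Algebra B B'] [Algebra B P]
  [Algebra P (PP16.P n A' B')] [IsScalarTower B P (PP16.P n A' B')]

theorem isPushout_aux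
    (d : B →+* P) (aug : Ideal P) (haug : aug ^ (n + 1) = ⊥)
    (hd : ∀ b, d b - algebraMap B P b ∈ aug)
    (hmapd : ∀ b, algebraMap P (PP16.P n A' B') (d b) = PP16.dn n A' B' (algebraMap B B' b))
    (hPext : ∀ (f g : P →+* P ⊗[B] B'), f.comp (algebraMap B P) = g.comp (algebraMap B P) →
      f.comp d = g.comp d → f = g)
    (hE : ∀ (C : Type u) [CommRing C] (f g : B' →+* C),
      f.comp (algebraMap B B') = g.comp (algebraMap B B') →
      f.comp (algebraMap A' B') = g.comp (algebraMap A' B') → f = g)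
    (gR : B' →+* P ⊗[B] B')
    (hgRB : ∀ b, gR (algebraMap B B' b) = d b ⊗ₜ[B] (1 : B'))
    (hgRA : ∀ a', gR (algebraMap A' B' a') = (1 : P) ⊗ₜ[B] algebraMap A' B' a') :
    Algebra.IsPushout B P B' (PP16.P n A' B') := by
  -- the comparison map
  let ψ : P ⊗[B] B' →ₐ[P] PP16.P n A' B' :=
    Algebra.TensorProduct.lift (Algebra.ofId _ _) (IsScalarTower.toAlgHom B B' (PP16.P n A' B'))
      (fun _ _ => Commute.all _ _)
  have hψ : ∀ p b', ψ (p ⊗ₜ b') = algebraMap P (PP16.P n A' B') p *
      algebraMap B' (PP16.P n A' B') b' := fun p b' => by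
    simp [ψ, Algebra.TensorProduct.lift_tmul, Algebra.ofId_apply]
  let incP : P →ₐ[B] P ⊗[B] B' := Algebra.TensorProduct.includeLeft
  let gL : B' →+* P ⊗[B] B' :=
    (Algebra.TensorProduct.includeRight : B' →ₐ[B] P ⊗[B] B').toRingHom
  have hgL : ∀ b', gL b' = (1 : P) ⊗ₜ[B] b' := fun b' => rfl
  have hincP : ∀ p, incP p = p ⊗ₜ[B] (1 : B') := fun p => rfl
  -- the ideal generated by the augmentation ideal
  let 𝔞 : Ideal (P ⊗[B] B') := aug.map incP
  have h𝔞 : 𝔞 ^ (n + 1) = ⊥ := by
    have h := Ideal.map_pow incP aug (n + 1)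
    rw [haug, Ideal.map_bot] at h
    exact h.symm
  -- gR - gL lands in 𝔞
  have hdiff : ∀ b', gR b' - gL b' ∈ 𝔞 := by
    have heq : (Ideal.Quotient.mk 𝔞).comp gR = (Ideal.Quotient.mk 𝔞).comp gL := by
      apply hE
      · ext b
        simp only [RingHom.comp_apply]
        rw [Ideal.Quotient.eq, hgRB, hgL]
        have : d b ⊗ₜ[B] (1 : B') - (1 : P) ⊗ₜ[B] algebraMap B B' b =
            incP (d b - algebraMap B P b) := by
          rw [map_sub, hincP, hincP, Algebra.algebraMap_eq_smul_one,
            Algebra.algebraMap_eq_smul_one (A := P), TensorProduct.smul_tmul]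
        rw [this]
        exact Ideal.mem_map_of_mem _ (hd b)
      · ext a'
        simp only [RingHom.comp_apply]
        rw [hgRA, hgL]
    intro b'
    have := congrArg (fun f : B' →+* _ => f b') heq
    simp only [RingHom.comp_apply] at this
    exact Ideal.Quotient.eq.mp this
  -- the inverse map on B' ⊗ B'
  let algA'T : Algebra A' (P ⊗[B] B') := (gL.comp (algebraMap A' B')).toAlgebra
  let gL' : B' →ₐ[A'] P ⊗[B] B' := { gL with commutes' := fun a' => rfl }
  let gR' : B' →ₐ[A'] P ⊗[B] B' := { gR with commutes' := fun a' => hgRA a' }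
  let φ₀ : B' ⊗[A'] B' →ₐ[A'] P ⊗[B] B' :=
    Algebra.TensorProduct.lift gL' gR' (fun _ _ => Commute.all _ _)
  have hφ₀ : ∀ b' c', φ₀ (b' ⊗ₜ c') = gL b' * gR c' := fun b' c' => by
    simp [φ₀, Algebra.TensorProduct.lift_tmul, gL', gR']
  have hφ₀I : (KaehlerDifferential.ideal A' B').map φ₀.toRingHom ≤ 𝔞 := by
    rw [Ideal.map_le_iff_le_comap, ← KaehlerDifferential.span_range_eq_ideal, Ideal.span_le]
    rintro _ ⟨c', rfl⟩
    change φ₀ _ ∈ 𝔞
    rw [map_sub, hφ₀, hφ₀, map_one, map_one, one_mul, mul_one]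
    exact hdiff c'
  have hφ₀kill : ∀ x ∈ KaehlerDifferential.ideal A' B' ^ (n + 1), φ₀.toRingHom x = 0 := by
    intro x hx
    have h1 : φ₀.toRingHom x ∈ (KaehlerDifferential.ideal A' B' ^ (n + 1)).map φ₀.toRingHom :=
      Ideal.mem_map_of_mem _ hx
    rw [Ideal.map_pow] at h1
    have h2 := Ideal.pow_right_mono hφ₀I (n + 1) h1
    rw [h𝔞] at h2
    exact h2
  let φ : PP16.P n A' B' →+* P ⊗[B] B' := Ideal.Quotient.lift _ φ₀.toRingHom hφ₀kill
  have hφ : ∀ x, φ (Ideal.Quotient.mk _ x) = φ₀ x := fun x => rfl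
  -- φ ∘ ψ = id
  have hφP : ∀ p : P, φ (algebraMap P (PP16.P n A' B') p) = p ⊗ₜ[B] (1 : B') := by
    have heq : φ.comp (algebraMap P (PP16.P n A' B')) = incP.toRingHom := by
      apply hPext
      · ext b
        simp only [RingHom.comp_apply]
        rw [← IsScalarTower.algebraMap_apply B P (PP16.P n A' B'),
          IsScalarTower.algebraMap_apply B B' (PP16.P n A' B'), algebraMap_P_apply, hφ, hφ₀,
          map_one, mul_one, hgL]
        change _ = algebraMap B P b ⊗ₜ[B] (1 : B')
        rw [Algebra.algebraMap_eq_smul_one, Algebra.algebraMap_eq_smul_one (A := P),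
          TensorProduct.smul_tmul]
      · ext b
        simp only [RingHom.comp_apply]
        rw [hmapd, dn_apply, hφ, hφ₀, map_one, one_mul, hgRB]
        rfl
    intro p
    exact congrArg (fun f : P →+* _ => f p) heq
  have hφψ : ∀ x, φ (ψ x) = x := by
    intro x
    induction x using TensorProduct.induction_on with
    | zero => simp
    | tmul p b' =>
      rw [hψ, map_mul, hφP, algebraMap_P_apply, hφ, hφ₀, map_one, mul_one, hgL,
        Algebra.TensorProduct.tmul_mul_tmul, mul_one, one_mul]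
    | add x y hx hy => rw [map_add, map_add, hx, hy]
  -- ψ ∘ φ = id
  have hψgR : ∀ c', ψ (gR c') = PP16.dn n A' B' c' := by
    have heq : ψ.toRingHom.comp gR = (PP16.dn n A' B').toRingHom := by
      apply hE
      · ext b
        simp only [RingHom.comp_apply]
        change ψ (gR _) = PP16.dn n A' B' _
        rw [hgRB, hψ, map_one, mul_one, hmapd]
      · ext a'
        simp only [RingHom.comp_apply]
        change ψ (gR _) = PP16.dn n A' B' _
        rw [hgRA, hψ, map_one, one_mul, algebraMap_P_apply, dn_apply]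
        congr 1
        rw [Algebra.algebraMap_eq_smul_one, TensorProduct.smul_tmul]
    intro c'
    exact congrArg (fun f : B' →+* _ => f c') heq
  have hψφ : ∀ y, ψ (φ y) = y := by
    intro y
    obtain ⟨x, rfl⟩ := Ideal.Quotient.mk_surjective y
    rw [hφ]
    induction x using TensorProduct.induction_on with
    | zero => simp
    | tmul b' c' =>
      rw [hφ₀, map_mul, hgL, hψ, map_one, one_mul, hψgR, mk_tmul_eq]
    | add x y hx hy => rw [map_add, map_add, map_add, hx, hy]
  -- conclusion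
  let e : P ⊗[B] B' ≃ₐ[P] PP16.P n A' B' :=
    AlgEquiv.ofBijective ψ ⟨fun x y h => by rw [← hφψ x, ← hφψ y, h], fun y => ⟨φ y, hψφ y⟩⟩
  let _ : Algebra B' (P ⊗[B] B') := Algebra.TensorProduct.rightAlgebra
  have : Algebra.IsPushout B P B' (P ⊗[B] B') := TensorProduct.isPushout
  refine Algebra.IsPushout.of_equiv (R := B) (R' := P) (S := B') (S' := P ⊗[B] B') e ?_
  ext b'
  simp only [RingHom.comp_apply]
  change ψ ((1 : P) ⊗ₜ[B] b') = _
  rw [hψ, map_one, one_mul]

end aux

section pushoutLift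

variable {A B A' B' P : Type u} [CommRing A] [CommRing B] [Algebra A B]
  [CommRing A'] [CommRing B'] [Algebra A' B'] [Algebra A A'] [Algebra B B'] [Algebra A B']
  [IsScalarTower A A' B'] [IsScalarTower A B B'] [CommRing P] [Algebra A P] [Algebra B P]
  [IsScalarTower A B P]

theorem epi_of_isPushout [hpo : Algebra.IsPushout A B A' B'] (C : Type u) [CommRing C]
    (f g : B' →+* C) (h1 : f.comp (algebraMap B B') = g.comp (algebraMap B B'))
    (h2 : f.comp (algebraMap A' B') = g.comp (algebraMap A' B')) : f = g := by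
  refine RingHom.ext fun x => ?_
  refine hpo.1.inductionOn x _ ?_ ?_ ?_ ?_
  · simp only [map_zero]
  · intro a'
    exact congrArg (fun k : A' →+* C => k a') h2
  · intro s s' e
    rw [Algebra.smul_def, map_mul, map_mul, e]
    congr 1
    exact congrArg (fun k : B →+* C => k s) h1
  · intro s₁ s₂ e₁ e₂
    rw [map_add, map_add, e₁, e₂]

theorem exists_lift_of_isPushout [hpo : Algebra.IsPushout A B A' B'] (d : B →ₐ[A] P) :
    ∃ gR : B' →+* P ⊗[B] B', (∀ b, gR (algebraMap B B' b) = d b ⊗ₜ[B] (1 : B')) ∧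
      (∀ a', gR (algebraMap A' B' a') = (1 : P) ⊗ₜ[B] algebraMap A' B' a') := by
  let fB : B →ₐ[A] P ⊗[B] B' :=
    (Algebra.TensorProduct.includeLeft : P →ₐ[A] P ⊗[B] B').comp d
  let fA' : A' →ₐ[A] P ⊗[B] B' :=
    ((Algebra.TensorProduct.includeRight : B' →ₐ[B] P ⊗[B] B').restrictScalars A).comp
      (IsScalarTower.toAlgHom A A' B')
  let gR : B' →ₐ[A] P ⊗[B] B' :=
    Algebra.pushoutDesc B' fB fA' (fun _ _ => mul_comm _ _)
  refine ⟨gR.toRingHom, ?_, ?_⟩
  · intro b
    change gR (algebraMap B B' b) = _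
    rw [Algebra.pushoutDesc_left]
    rfl
  · intro a'
    change gR (algebraMap A' B' a') = _
    rw [Algebra.pushoutDesc_right]
    rfl

end pushoutLift

section locLift

variable {A B B' P : Type u} [CommRing A] [CommRing B] [Algebra A B]
  [CommRing B'] [Algebra B B'] [Algebra A B']
  [IsScalarTower A B B'] [CommRing P] [Algebra A P] [Algebra B P]
  [IsScalarTower A B P]

theorem exists_lift_of_isLocalization (S : Submonoid B) [IsLocalization S B'] (n : ℕ)
    (d : B →ₐ[A] P) (aug : Ideal P) (haug : aug ^ (n + 1) = ⊥)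
    (hd : ∀ b, d b - algebraMap B P b ∈ aug) :
    ∃ gR : B' →+* P ⊗[B] B', (∀ b, gR (algebraMap B B' b) = d b ⊗ₜ[B] (1 : B')) ∧
      (∀ a : A, gR (algebraMap A B' a) = (1 : P) ⊗ₜ[B] algebraMap A B' a) := by
  let incP : P →ₐ[B] P ⊗[B] B' := Algebra.TensorProduct.includeLeft
  let g : B →+* P ⊗[B] B' := incP.toRingHom.comp d.toRingHom
  have hg : ∀ b, g b = d b ⊗ₜ[B] (1 : B') := fun b => rfl
  have hunit : ∀ s : S, IsUnit (g s) := by
    intro s
    have h1 : g s = (1 : P) ⊗ₜ[B] algebraMap B B' s + incP (d s - algebraMap B P s) := by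
      rw [hg, map_sub]
      change _ = _ + (d s ⊗ₜ[B] (1 : B') - algebraMap B P s ⊗ₜ[B] (1 : B'))
      rw [Algebra.algebraMap_eq_smul_one (A := P), Algebra.algebraMap_eq_smul_one (A := B'),
        TensorProduct.smul_tmul]
      abel
    rw [h1]
    apply IsNilpotent.isUnit_add_left_of_commute
    · refine ⟨n + 1, ?_⟩
      rw [← map_pow]
      have : (d s - algebraMap B P s) ^ (n + 1) ∈ aug ^ (n + 1) := Ideal.pow_mem_pow (hd s) _
      rw [haug, Ideal.mem_bot] at this
      rw [this, map_zero]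
    · have hu : IsUnit (algebraMap B B' s) := IsLocalization.map_units B' s
      exact hu.map (Algebra.TensorProduct.includeRight : B' →ₐ[B] P ⊗[B] B')
    · exact Commute.all _ _
  refine ⟨IsLocalization.lift hunit, ?_, ?_⟩
  · intro b
    rw [IsLocalization.lift_eq, hg]
  · intro a
    rw [IsScalarTower.algebraMap_apply A B B', IsLocalization.lift_eq, hg, AlgHom.commutes,
      IsScalarTower.algebraMap_apply A B P, Algebra.algebraMap_eq_smul_one (A := P),
      Algebra.algebraMap_eq_smul_one (A := B'), TensorProduct.smul_tmul]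

end locLift

section inst

variable (n : ℕ) (A B A' B' : Type u) [CommRing A] [CommRing B] [Algebra A B]
  [CommRing A'] [CommRing B'] [Algebra A' B'] [Algebra A A'] [Algebra B B'] [Algebra A B']
  [IsScalarTower A A' B'] [IsScalarTower A B B']

attribute [local instance] PP16.mapAlgebra PP16.isScalarTower_mapAlgebra

/-- Base change for principal parts along a square `A → A'`, `B → B'` such that ring maps out of
`B'` are determined by their restrictions to `B` and `A'`, and such that `d^n ⊗ 1` extends to `B'`.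
-/
theorem isPushout_of_epi_of_lift
    (hE : ∀ (C : Type u) [CommRing C] (f g : B' →+* C),
      f.comp (algebraMap B B') = g.comp (algebraMap B B') →
      f.comp (algebraMap A' B') = g.comp (algebraMap A' B') → f = g)
    (gR : B' →+* PP16.P n A B ⊗[B] B')
    (hgRB : ∀ b, gR (algebraMap B B' b) = PP16.dn n A B b ⊗ₜ[B] (1 : B'))
    (hgRA : ∀ a', gR (algebraMap A' B' a') = (1 : PP16.P n A B) ⊗ₜ[B] algebraMap A' B' a') :
    Algebra.IsPushout B (PP16.P n A B) B' (PP16.P n A' B') := by
  refine isPushout_aux n (A' := A') (B := B) (B' := B') (P := PP16.P n A B)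
    (PP16.dn n A B).toRingHom (PP16.augIdeal n A B) (augIdeal_pow_eq_bot n A B)
    (dn_sub_algebraMap_mem_augIdeal n A B) (fun b => PP16.map_dn n A B A' B' b) ?_ hE gR hgRB hgRA
  intro f g h1 h2
  refine RingHom.ext fun p => ?_
  obtain ⟨x, rfl⟩ := Ideal.Quotient.mk_surjective p
  induction x using TensorProduct.induction_on with
  | zero => simp
  | tmul b c =>
    rw [mk_tmul_eq, map_mul, map_mul]
    congr 1
    · exact congrArg (fun k : B →+* _ => k b) h1
    · exact congrArg (fun k : B →+* _ => k c) h2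
  | add x y hx hy => rw [map_add, map_add, map_add, hx, hy]

end inst

end Groth.Agent.Helper6
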