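import Mathlib
import Groth.Prelude.Def_ParBun
import Groth.Prelude.Def_W4swparbununimodPar
import Groth.Agent.Lib.Helper6.ParCoeff

/-!
# Induced parabolic structures: coherence of the pieces, supports of the quotients,
and comparison of coefficients of parabolic Hilbert polynomials
-/

universe u
open CategoryTheory CategoryTheory.Limits AlgebraicGeometry

namespace Groth.Agent.Helper6.ParInduced

section Abstract

variable {C : Type*} [Category C] [Abelian C] {W E : C}

theorem pbArrow_comp (ι : W ⟶ E) (A : Subobject E) :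
    ((Subobject.pullback ι).obj A).arrow ≫ ι ≫ cokernel.π A.arrow = 0 := by
  rw [← Category.assoc, ← (Subobject.isPullback ι A).w, Category.assoc, cokernel.condition,
    Limits.comp_zero]

theorem exists_lift_pb (ι : W ⟶ E) (A : Subobject E) {T : C} (t : T ⟶ W)
    (ht : t ≫ ι ≫ cokernel.π A.arrow = 0) :
    ∃ l : T ⟶ ((Subobject.pullback ι).obj A : C),
      l ≫ ((Subobject.pullback ι).obj A).arrow = t := by
  have hex : (ShortComplex.mk A.arrow (cokernel.π A.arrow) (cokernel.condition _)).Exact :=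
    ShortComplex.exact_cokernel A.arrow
  haveI : Mono (ShortComplex.mk A.arrow (cokernel.π A.arrow) (cokernel.condition _)).f :=
    (inferInstance : Mono A.arrow)
  have h1 : (t ≫ ι) ≫
      (ShortComplex.mk A.arrow (cokernel.π A.arrow) (cokernel.condition _)).g = 0 := by
    rw [Category.assoc]
    exact ht
  obtain ⟨s, hs⟩ := hex.lift' (t ≫ ι) h1
  exact ⟨(Subobject.isPullback ι A).lift s t hs, (Subobject.isPullback ι A).lift_snd _ _ _⟩

/-- `ι⁻¹ A → W → E / A`. -/
noncomputable def pbSC (ι : W ⟶ E) (A : Subobject E) : ShortComplex C :=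
  ShortComplex.mk ((Subobject.pullback ι).obj A).arrow (ι ≫ cokernel.π A.arrow)
    (pbArrow_comp ι A)

/-- `ι⁻¹ A` is the kernel of `W → E / A`. -/
noncomputable def isKernelPb' (ι : W ⟶ E) (A : Subobject E) :
    IsLimit (KernelFork.ofι ((Subobject.pullback ι).obj A).arrow (pbArrow_comp ι A)) :=
  KernelFork.IsLimit.ofι' _ _ (fun {_} t ht =>
    ⟨(exists_lift_pb ι A t ht).choose, (exists_lift_pb ι A t ht).choose_spec⟩)

theorem pbSC_exact (ι : W ⟶ E) (A : Subobject E) : (pbSC ι A).Exact :=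
  ShortComplex.exact_of_f_is_kernel _ (isKernelPb' ι A)

/-- `W / ι⁻¹ A → E / A`. -/
noncomputable def pbQuotMap (ι : W ⟶ E) (A : Subobject E) :
    cokernel ((Subobject.pullback ι).obj A).arrow ⟶ cokernel A.arrow :=
  cokernel.desc ((Subobject.pullback ι).obj A).arrow (ι ≫ cokernel.π A.arrow)
    (pbArrow_comp ι A)

instance mono_pbQuotMap (ι : W ⟶ E) (A : Subobject E) : Mono (pbQuotMap ι A) :=
  (pbSC_exact ι A).mono_cokernelDesc

noncomputable def pbIsoKernel (ι : W ⟶ E) (A : Subobject E) :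
    ((Subobject.pullback ι).obj A : C) ≅ kernel (ι ≫ cokernel.π A.arrow) :=
  IsLimit.conePointUniqueUpToIso (isKernelPb' ι A) (limit.isLimit _)

end Abstract

section Real

theorem real_coeff_nonneg_of_eventually_nonneg (p : Polynomial ℝ) (e : ℕ) (hdeg : p.natDegree ≤ e)
    (h : ∃ N : ℕ, ∀ m : ℕ, N ≤ m → 0 ≤ p.eval (m : ℝ)) : 0 ≤ p.coeff e := by
  by_contra hneg
  rw [not_le] at hneg
  have hne : p.coeff e ≠ 0 := ne_of_lt hneg
  have hnat : p.natDegree = e := le_antisymm hdeg (Polynomial.le_natDegree_of_ne_zero hne)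
  obtain ⟨N, hN⟩ := h
  rcases Nat.eq_zero_or_pos e with he | he
  · subst he
    have hp : p = Polynomial.C (p.coeff 0) := Polynomial.eq_C_of_natDegree_le_zero hdeg
    have h1 := hN N le_rfl
    rw [hp, Polynomial.eval_C] at h1
    exact absurd h1 (not_le.mpr hneg)
  · have hlead : p.leadingCoeff ≤ 0 := by
      rw [Polynomial.leadingCoeff, hnat]
      exact hneg.le
    have hdeg' : 0 < p.degree := Polynomial.natDegree_pos_iff_degree_pos.mp (by omega)
    have ht := Polynomial.tendsto_atBot_of_leadingCoeff_nonpos p hdeg' hlead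
    have ht' := ht.comp (tendsto_natCast_atTop_atTop (R := ℝ))
    have hev := (ht'.eventually (Filter.eventually_lt_atBot (0 : ℝ))).and
      (Filter.eventually_ge_atTop N)
    obtain ⟨m, hm1, hm2⟩ := hev.exists
    exact absurd (hN m hm2) (not_le.mpr hm1)

theorem real_eventually_pos_of_coeff_pos (p : Polynomial ℝ) (e : ℕ) (hdeg : p.natDegree ≤ e)
    (hpos : 0 < p.coeff e) : ∃ N : ℕ, ∀ m : ℕ, N ≤ m → 0 < p.eval (m : ℝ) := by
  have hne : p.coeff e ≠ 0 := ne_of_gt hpos
  have hnat : p.natDegree = e := le_antisymm hdeg (Polynomial.le_natDegree_of_ne_zero hne)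
  rcases Nat.eq_zero_or_pos e with he | he
  · subst he
    have hp : p = Polynomial.C (p.coeff 0) := Polynomial.eq_C_of_natDegree_le_zero hdeg
    refine ⟨0, fun m _ => ?_⟩
    rw [hp, Polynomial.eval_C]
    exact hpos
  · have hlead : 0 ≤ p.leadingCoeff := by
      rw [Polynomial.leadingCoeff, hnat]
      exact hpos.le
    have hdeg' : 0 < p.degree := Polynomial.natDegree_pos_iff_degree_pos.mp (by omega)
    have ht := Polynomial.tendsto_atTop_of_leadingCoeff_nonneg p hdeg' hlead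
    have ht' := ht.comp (tendsto_natCast_atTop_atTop (R := ℝ))
    have hev := ht'.eventually (Filter.eventually_gt_atTop (0 : ℝ))
    obtain ⟨N, hN⟩ := Filter.eventually_atTop.mp hev
    exact ⟨N, fun m hm => hN m hm⟩

theorem cross_compare (A B : Polynomial ℝ) (a b : ℝ) (e : ℕ)
    (hdeg : ∀ n, e < n → A.coeff n * b = B.coeff n * a) :
    ((∃ M : ℕ, ∀ m : ℕ, M ≤ m → B.eval (m : ℝ) * a ≤ A.eval (m : ℝ) * b) →
        B.coeff e * a ≤ A.coeff e * b) ∧
      (B.coeff e * a < A.coeff e * b →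
        ∃ M : ℕ, ∀ m : ℕ, M ≤ m → B.eval (m : ℝ) * a < A.eval (m : ℝ) * b) := by
  obtain ⟨D, hD⟩ : ∃ D : Polynomial ℝ, D = A * Polynomial.C b - B * Polynomial.C a := ⟨_, rfl⟩
  have hcoeff : ∀ n, D.coeff n = A.coeff n * b - B.coeff n * a := fun n => by
    rw [hD, Polynomial.coeff_sub, Polynomial.coeff_mul_C, Polynomial.coeff_mul_C]
  have heval : ∀ x : ℝ, D.eval x = A.eval x * b - B.eval x * a := fun x => by
    rw [hD, Polynomial.eval_sub, Polynomial.eval_mul, Polynomial.eval_mul, Polynomial.eval_C,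
      Polynomial.eval_C]
  have hnat : D.natDegree ≤ e := by
    rw [Polynomial.natDegree_le_iff_coeff_eq_zero]
    intro n hn
    rw [hcoeff, hdeg n hn, sub_self]
  constructor
  · rintro ⟨M, hM⟩
    have h1 := real_coeff_nonneg_of_eventually_nonneg D e hnat
      ⟨M, fun m hm => by rw [heval]; linarith [hM m hm]⟩
    rw [hcoeff] at h1
    linarith
  · intro hlt
    obtain ⟨M, hM⟩ := real_eventually_pos_of_coeff_pos D e hnat (by rw [hcoeff]; linarith)
    exact ⟨M, fun m hm => by have h2 := hM m hm; rw [heval] at h2; linarith⟩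

end Real

theorem parPoly_coeff_eq {X : Scheme.{u}} {E : X.Modules} (𝓔 : ParSh.Str E)
    (PX : Fin (𝓔.l + 2) → Polynomial ℚ) (P : Polynomial ℚ) (n : ℕ)
    (hc : ∀ j, (PX j).coeff n = P.coeff n) :
    (W4swparbununimod.parPoly 𝓔 PX).coeff n = ((P.coeff n : ℚ) : ℝ) := by
  unfold W4swparbununimod.parPoly
  simp only [Polynomial.coeff_add, Polynomial.finsetSum_coeff, Polynomial.coeff_C_mul,
    Polynomial.coeff_sub, W4swparbununimod.rpoly, Polynomial.coeff_map, hc, eq_ratCast]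
  simp

theorem isCoh_pullback_obj {X : Scheme.{u}} [IsLocallyNoetherian X] {W E : X.Modules} (hW : Coh.IsCoh W) (hE : Coh.IsCoh E) (ι : W ⟶ E)
    (A : Subobject E) (hA : Coh.IsCoh (A : X.Modules)) :
    Coh.IsCoh (((Subobject.pullback ι).obj A : Subobject W) : X.Modules) := by
  have hQ : Coh.IsCoh (cokernel A.arrow) := (Groth.Agent.S9514.result X hA hE A.arrow).2
  have hK : Coh.IsCoh (kernel (ι ≫ cokernel.π A.arrow)) :=
    (Groth.Agent.S9514.result X hW hQ _).1
  exact Groth.Agent.Helper5.K0Coh.isCoh_of_iso (pbIsoKernel ι A).symm hK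

theorem induced_isCoh {X : Scheme.{u}} [IsLocallyNoetherian X] {W E : X.Modules} (hW : Coh.IsCoh W) (hE : Coh.IsCoh E) (ι : W ⟶ E)
    (𝓔 : ParSh.Str E) (hcoh : ∀ j, Coh.IsCoh ((𝓔.pieceX j : Subobject E) : X.Modules))
    (j : Fin (𝓔.l + 2)) :
    Coh.IsCoh (((𝓔.induced ι).pieceX j : Subobject W) : X.Modules) := by
  rw [Groth.Agent.Helper6.ParHilb.induced_pieceX]
  exact isCoh_pullback_obj hW hE ι _ (hcoh j)

theorem induced_support_subset {X : Scheme.{u}} {W E : X.Modules} (ι : W ⟶ E) (𝓔 : ParSh.Str E)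
    (j : Fin (𝓔.l + 2)) :
    CohB1.support (cokernel ((𝓔.induced ι).pieceX j).arrow) ⊆
      CohB1.support (cokernel (𝓔.pieceX j).arrow) := by
  rw [Groth.Agent.Helper6.ParHilb.induced_pieceX]
  exact Groth.Agent.Helper6.ParCoeff.support_subset_of_mono (pbQuotMap ι (𝓔.pieceX j))

variable (k : Type u) [Field k] (X : Scheme.{u}) [X.Over (Spec (CommRingCat.of k))]
  [IsProper (X ↘ Spec (CommRingCat.of k))]

theorem pieces_coeff_eq (L : X.Modules) (hL : PicF.IsInvertible L) (I : X.IdealSheafData)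
    {E : X.Modules} (hE : Coh.IsCoh E) (𝓔 : ParSh.Str E) (h𝓔 : 𝓔.Along I)
    (hcoh : ∀ j, Coh.IsCoh ((𝓔.pieceX j : Subobject E) : X.Modules)) (d : ℕ)
    (hsupp : topologicalKrullDim ↥(CohB1.support E ∩ (I.support : Set X)) < (d : WithBot ℕ∞))
    (P : Polynomial ℚ) (hP : ShStab.IsHilbPoly k X L E P) (PX : Fin (𝓔.l + 2) → Polynomial ℚ)
    (hPX : ∀ j, ShStab.IsHilbPoly k X L ((𝓔.pieceX j : Subobject E) : X.Modules) (PX j))
    (n : ℕ) (hn : d ≤ n) (j : Fin (𝓔.l + 2)) : (PX j).coeff n = P.coeff n := by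
  obtain ⟨hG, hpG⟩ := Groth.Agent.Helper6.HilbDeg.isHilbPoly_cokernel k X L hL (hcoh j) hE
    (𝓔.pieceX j).arrow (PX j) P (hPX j) hP
  have hsub := Groth.Agent.Helper6.TwistSupp.support_cokernel_pieceX_subset I 𝓔 h𝓔 j
  have hdim : topologicalKrullDim ↥(CohB1.support (cokernel (𝓔.pieceX j).arrow)) <
      (d : WithBot ℕ∞) :=
    lt_of_le_of_lt (Topology.IsEmbedding.inclusion hsub).isInducing.topologicalKrullDim_le hsupp
  have h0 := Groth.Agent.Helper6.HilbDeg.coeff_eq_zero_of_dim_lt k X L hL _ hG d hdim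
    (P - PX j) hpG n hn
  rw [Polynomial.coeff_sub, sub_eq_zero] at h0
  exact h0.symm

theorem induced_coeff_eq (L : X.Modules) (hL : PicF.IsInvertible L) (I : X.IdealSheafData)
    {E : X.Modules} (hE : Coh.IsCoh E) (𝓔 : ParSh.Str E) (h𝓔 : 𝓔.Along I)
    (hcoh : ∀ j, Coh.IsCoh ((𝓔.pieceX j : Subobject E) : X.Modules)) (d : ℕ)
    (hsupp : topologicalKrullDim ↥(CohB1.support E ∩ (I.support : Set X)) < (d : WithBot ℕ∞))
    {W : X.Modules} (ι : W ⟶ E) (hW : Coh.IsCoh W)
    (Q : Polynomial ℚ) (hQ : ShStab.IsHilbPoly k X L W Q) (QX : Fin (𝓔.l + 2) → Polynomial ℚ)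
    (hQX : ∀ j, ShStab.IsHilbPoly k X L (((𝓔.induced ι).pieceX j : Subobject W) : X.Modules)
      (QX j))
    (n : ℕ) (hn : d ≤ n) (j : Fin (𝓔.l + 2)) : (QX j).coeff n = Q.coeff n := by
  haveI : IsLocallyNoetherian X :=
    LocallyOfFiniteType.isLocallyNoetherian (X ↘ Spec (CommRingCat.of k))
  have hcW := induced_isCoh hW hE ι 𝓔 hcoh j
  obtain ⟨hG, hpG⟩ := Groth.Agent.Helper6.HilbDeg.isHilbPoly_cokernel k X L hL hcW hW
    ((𝓔.induced ι).pieceX j).arrow (QX j) Q (hQX j) hQ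
  have hsub := (induced_support_subset ι 𝓔 j).trans
    (Groth.Agent.Helper6.TwistSupp.support_cokernel_pieceX_subset I 𝓔 h𝓔 j)
  have hdim : topologicalKrullDim
      ↥(CohB1.support (cokernel ((𝓔.induced ι).pieceX j).arrow)) < (d : WithBot ℕ∞) :=
    lt_of_le_of_lt (Topology.IsEmbedding.inclusion hsub).isInducing.topologicalKrullDim_le hsupp
  have h0 := Groth.Agent.Helper6.HilbDeg.coeff_eq_zero_of_dim_lt k X L hL _ hG d hdim
    (Q - QX j) hpG n hn
  rw [Polynomial.coeff_sub, sub_eq_zero] at h0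
  exact h0.symm

end Groth.Agent.Helper6.ParInduced
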