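import Mathlib
import Groth.Prelude.Def_ParBun
import Groth.Prelude.Def_W4swparbununimodPar
import Groth.Agent.Lib.Helper6.ParInduced

/-!
# Coefficients of `parPoly` and `parPolyOne`
-/

universe u
open CategoryTheory CategoryTheory.Limits AlgebraicGeometry

namespace Groth.Agent.Helper6.ParOne

theorem parPoly_coeff_psum {X : Scheme.{u}} {E : X.Modules} (𝓕 : ParSh.Str E)
    (QX : Fin (𝓕.l + 2) → Polynomial ℚ) (e : ℕ) :
    (W4swparbununimod.parPoly 𝓕 QX).coeff e =
      Groth.Agent.Helper6.ParHilb.psum 𝓕.l 𝓕.wt (fun j => (((QX j).coeff e : ℚ) : ℝ)) := by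
  unfold W4swparbununimod.parPoly Groth.Agent.Helper6.ParHilb.psum
  simp only [Polynomial.coeff_add, Polynomial.finsetSum_coeff, Polynomial.coeff_C_mul,
    Polynomial.coeff_sub, W4swparbununimod.rpoly, Polynomial.coeff_map, eq_ratCast]

theorem parPolyOne_coeff {X : Scheme.{u}} {E : X.Modules} (𝓔 : ParSh.Str E) (d : ℕ)
    (Q : Polynomial ℚ) (QH H : Fin (𝓔.l + 2) → Polynomial ℚ) (e : ℕ) :
    (W4swparbununimod.parPolyOne 𝓔 d Q QH H).coeff e =
      ((Q.coeff e : ℚ) : ℝ) - ∑ j : Fin (𝓔.l + 1),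
        ((𝓔.wtX j.succ - 𝓔.wtX j.castSucc) *
          ((StabCat.alpha (d - 1) (QH j.succ) / StabCat.alpha (d - 1) (H j.succ) : ℚ) : ℝ)) *
            (((H j.succ).coeff e : ℚ) : ℝ) := by
  unfold W4swparbununimod.parPolyOne
  simp only [Polynomial.coeff_sub, Polynomial.finsetSum_coeff, Polynomial.coeff_C_mul,
    W4swparbununimod.rpoly, Polynomial.coeff_map, eq_ratCast]

theorem alpha_ratio_mul (e : ℕ) (A B : Polynomial ℚ) (hB : StabCat.alpha e B ≠ 0) :
    (StabCat.alpha e A / StabCat.alpha e B) * B.coeff e = A.coeff e := by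
  have hc : B.coeff e ≠ 0 := by
    intro h0
    apply hB
    unfold StabCat.alpha
    rw [h0, mul_zero]
  have hf : ((e.factorial : ℕ) : ℚ) ≠ 0 := Nat.cast_ne_zero.mpr (Nat.factorial_ne_zero e)
  unfold StabCat.alpha
  field_simp

variable (k : Type u) [Field k] (X : Scheme.{u}) [X.Over (Spec (CommRingCat.of k))]

theorem hilbPoly_unique (L G : X.Modules) (P P' : Polynomial ℚ)
    (h : ShStab.IsHilbPoly k X L G P) (h' : ShStab.IsHilbPoly k X L G P') : P = P' :=
  Groth.Agent.Helper6.HilbDeg.poly_eq_of_eval_nat_eq P P' (fun m => by rw [← h m, ← h' m])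

variable [IsProper (X ↘ Spec (CommRingCat.of k))]

theorem hilbPoly_eq_zero_of_isZero (L G : X.Modules) (hz : IsZero G) (P : Polynomial ℚ)
    (h : ShStab.IsHilbPoly k X L G P) : P = 0 := by
  apply Groth.Agent.Helper6.HilbDeg.poly_eq_of_eval_nat_eq
  intro m
  rw [← h m, Groth.Agent.Helper6.ParHilb.euler_eq_zero_of_isZero k X _
    (Groth.Agent.Helper6.ParHilb.isZero_twist X L G hz m)]
  simp

end Groth.Agent.Helper6.ParOne
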