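import Mathlib
import Groth.Prelude.Def_ParBun
import Groth.Prelude.Def_W4swparbununimodPar
import Groth.Agent.Lib.Helper6.ParOne

/-!
# Limits of ratios of Hilbert polynomials (for the comparison of `par-P₂` with `par-P₁`)
-/

universe u
open CategoryTheory CategoryTheory.Limits AlgebraicGeometry Filter Topology

namespace Groth.Agent.Helper6.ParLim

theorem tendsto_eval_div_pow (R : Polynomial ℝ) (d : ℕ) (hdeg : R.natDegree ≤ d) :
    Tendsto (fun n : ℕ => R.eval (n : ℝ) / (n : ℝ) ^ d) atTop (𝓝 (R.coeff d)) := by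
  have key : Tendsto (fun x : ℝ => Polynomial.eval x R /
      Polynomial.eval x (Polynomial.X ^ d : Polynomial ℝ)) atTop (𝓝 (R.coeff d)) := by
    by_cases hc : R.coeff d = 0
    · rw [hc]
      apply Polynomial.div_tendsto_atTop_zero_of_degree_lt
      rw [Polynomial.degree_X_pow, Polynomial.degree_lt_iff_coeff_zero]
      intro m hm
      rcases Nat.eq_or_lt_of_le hm with h | h
      · rw [← h]
        exact hc
      · exact Polynomial.coeff_eq_zero_of_natDegree_lt (lt_of_le_of_lt hdeg h)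
    · have hd : R.degree = (Polynomial.X ^ d : Polynomial ℝ).degree := by
        rw [Polynomial.degree_X_pow]
        exact Polynomial.degree_eq_of_le_of_coeff_ne_zero
          (Polynomial.natDegree_le_iff_degree_le.mp hdeg) hc
      have h := Polynomial.div_tendsto_atTop_leadingCoeff_div_of_degree_eq R
        (Polynomial.X ^ d) hd
      have hl : R.leadingCoeff = R.coeff d := by
        rw [Polynomial.leadingCoeff, le_antisymm hdeg (Polynomial.le_natDegree_of_ne_zero hc)]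
      rw [hl, Polynomial.leadingCoeff_X_pow, div_one] at h
      exact h
  have key' := key.comp (tendsto_natCast_atTop_atTop (R := ℝ))
  simpa [Function.comp_def, Polynomial.eval_pow, Polynomial.eval_X] using key'

theorem tendsto_rat_eval_div_pow (Pq : Polynomial ℚ) (d : ℕ) (hdeg : Pq.natDegree ≤ d) :
    Tendsto (fun n : ℕ => ((Pq.eval (n : ℚ) : ℚ) : ℝ) / (n : ℝ) ^ d) atTop
      (𝓝 ((Pq.coeff d : ℚ) : ℝ)) := by
  have h := tendsto_eval_div_pow (Pq.map (Rat.castHom ℝ)) d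
    (le_trans Polynomial.natDegree_map_le hdeg)
  simpa [Polynomial.eval_natCast_map, Polynomial.coeff_map] using h

theorem tendsto_rat_ratio (A B : Polynomial ℚ) (e : ℕ) (hA : A.natDegree ≤ e)
    (hB : B.natDegree ≤ e) (hb : B.coeff e ≠ 0) :
    Tendsto (fun n : ℕ => ((A.eval (n : ℚ) / B.eval (n : ℚ) : ℚ) : ℝ)) atTop
      (𝓝 ((A.coeff e / B.coeff e : ℚ) : ℝ)) := by
  have hA' := tendsto_rat_eval_div_pow A e hA
  have hB' := tendsto_rat_eval_div_pow B e hB
  have hb' : ((B.coeff e : ℚ) : ℝ) ≠ 0 := by exact_mod_cast hb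
  have h := hA'.div hB' hb'
  rw [Rat.cast_div]
  refine h.congr' ?_
  filter_upwards [Filter.eventually_ge_atTop 1] with n hn
  have hn0 : ((n : ℝ)) ^ e ≠ 0 := pow_ne_zero _ (Nat.cast_ne_zero.mpr (by omega))
  change (((A.eval (n : ℚ) : ℚ) : ℝ) / (n : ℝ) ^ e) / (((B.eval (n : ℚ) : ℚ) : ℝ) / (n : ℝ) ^ e) =
    ((A.eval (n : ℚ) / B.eval (n : ℚ) : ℚ) : ℝ)
  rw [Rat.cast_div, div_div_div_cancel_right₀ hn0]

theorem lim_compare (l : ℕ) (c hm : Fin (l + 1) → ℝ) (q₀ A : ℝ) (g : Fin (l + 1) → ℕ → ℝ)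
    (ρ : Fin (l + 1) → ℝ) (hg : ∀ j, Tendsto (g j) atTop (𝓝 (ρ j))) (p q : ℕ → ℝ) (d : ℕ)
    (a b : ℝ) (hp : Tendsto (fun n : ℕ => p n / (n : ℝ) ^ d) atTop (𝓝 a))
    (hq : Tendsto (fun n : ℕ => q n / (n : ℝ) ^ d) atTop (𝓝 b)) :
    ((∃ N : ℕ, ∀ n : ℕ, N ≤ n → (q₀ - ∑ j, c j * (g j n * hm j)) * p n ≤ A * q n) →
        (q₀ - ∑ j, c j * (ρ j * hm j)) * a ≤ A * b) ∧
      ((q₀ - ∑ j, c j * (ρ j * hm j)) * a < A * b →
        ∃ N : ℕ, ∀ n : ℕ, N ≤ n → (q₀ - ∑ j, c j * (g j n * hm j)) * p n < A * q n) := by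
  have hS : Tendsto (fun n : ℕ => q₀ - ∑ j, c j * (g j n * hm j)) atTop
      (𝓝 (q₀ - ∑ j, c j * (ρ j * hm j))) :=
    tendsto_const_nhds.sub (tendsto_finsetSum _
      (fun j _ => ((hg j).mul_const (hm j)).const_mul (c j)))
  have hu := hS.mul hp
  have hv := hq.const_mul A
  constructor
  · rintro ⟨N, hN⟩
    refine le_of_tendsto_of_tendsto hu hv ?_
    filter_upwards [Filter.eventually_ge_atTop (max N 1)] with n hn
    have hn1 : 1 ≤ n := le_trans (le_max_right _ _) hn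
    have hpos : (0 : ℝ) < (n : ℝ) ^ d := pow_pos (Nat.cast_pos.mpr (by omega)) _
    have h := hN n (le_trans (le_max_left _ _) hn)
    calc (q₀ - ∑ j, c j * (g j n * hm j)) * (p n / (n : ℝ) ^ d)
        = ((q₀ - ∑ j, c j * (g j n * hm j)) * p n) / (n : ℝ) ^ d := by ring
      _ ≤ (A * q n) / (n : ℝ) ^ d := div_le_div_of_nonneg_right h hpos.le
      _ = A * (q n / (n : ℝ) ^ d) := by ring
  · intro hlt
    have hev := (hu.eventually_lt hv hlt).and (Filter.eventually_ge_atTop 1)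
    obtain ⟨N, hN⟩ := Filter.eventually_atTop.mp hev
    refine ⟨N, fun n hn => ?_⟩
    obtain ⟨h1, hn1⟩ := hN n hn
    have hpos : (0 : ℝ) < (n : ℝ) ^ d := pow_pos (Nat.cast_pos.mpr (by omega)) _
    have hne : (n : ℝ) ^ d ≠ 0 := hpos.ne'
    have h2 := mul_lt_mul_of_pos_right h1 hpos
    have e1 : (q₀ - ∑ j, c j * (g j n * hm j)) * (p n / (n : ℝ) ^ d) * (n : ℝ) ^ d =
        (q₀ - ∑ j, c j * (g j n * hm j)) * p n := by
      field_simp
    have e2 : A * (q n / (n : ℝ) ^ d) * (n : ℝ) ^ d = A * q n := by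
      field_simp
    rw [e1, e2] at h2
    exact h2

theorem scale_le {S A pc qc f : ℝ} (hf : 0 < f) (h : S * pc ≤ A * qc) :
    S * (f * pc) ≤ A * (f * qc) := by
  have h1 := mul_le_mul_of_nonneg_left h hf.le
  linarith

theorem scale_lt {S A pc qc f : ℝ} (hf : 0 < f) (h : S * (f * pc) < A * (f * qc)) :
    S * pc < A * qc := by
  have h3 : f * (S * pc) < f * (A * qc) := by linarith
  exact lt_of_mul_lt_mul_left h3 hf.le

theorem parPolyOne_eval {X : Scheme.{u}} {E : X.Modules} (𝓔 : ParSh.Str E) (d : ℕ)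
    (Q : Polynomial ℚ) (QH H : Fin (𝓔.l + 2) → Polynomial ℚ) (m : ℕ) :
    (W4swparbununimod.parPolyOne 𝓔 d Q QH H).eval (m : ℝ) =
      ((Q.eval (m : ℚ) : ℚ) : ℝ) - ∑ j : Fin (𝓔.l + 1),
        (𝓔.wtX j.succ - 𝓔.wtX j.castSucc) *
          (((StabCat.alpha (d - 1) (QH j.succ) / StabCat.alpha (d - 1) (H j.succ) : ℚ) : ℝ) *
            (((H j.succ).eval (m : ℚ) : ℚ) : ℝ)) := by
  unfold W4swparbununimod.parPolyOne
  simp only [Polynomial.eval_sub, Polynomial.eval_finsetSum, Polynomial.eval_mul,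
    Polynomial.eval_C, W4swparbununimod.rpoly, Polynomial.eval_natCast_map, eq_ratCast, mul_assoc]

end Groth.Agent.Helper6.ParLim
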