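import Mathlib
import Groth.Prelude.Def_ShStab
import Groth.Prelude.Def_StabCat
import Groth.Prelude.Def_ParBun
import Groth.Prelude.Def_W4swparbununimodPar
import Groth.Agent.Lib.Helper6.ParOne
import Groth.Agent.Lib.Helper6.ParLim
import Groth.Agent.Lib.Helper25.ShStabFormal

/-!
# Comparison of Hilbert polynomials of submodules of a stable module, and evaluation of `parPoly`
-/

universe u
open CategoryTheory CategoryTheory.Limits AlgebraicGeometry

namespace Groth.Agent.Helper6.ParStab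

theorem wtX_step_nonneg {C : Type*} [Category C] {E : C} (𝓔 : ParSh.Str E) (j : Fin (𝓔.l + 1)) :
    0 ≤ 𝓔.wtX j.succ - 𝓔.wtX j.castSucc := by
  rw [sub_nonneg, 𝓔.wtX_castSucc]
  induction j using Fin.lastCases with
  | last =>
    rw [Fin.succ_last, 𝓔.wtX_last]
    exact 𝓔.wt_lt_one.le
  | cast i =>
    rw [Fin.succ_castSucc, 𝓔.wtX_castSucc]
    exact (𝓔.wt_strictMono Fin.castSucc_lt_succ).le

theorem parPoly_eval_psum {X : Scheme.{u}} {E : X.Modules} (𝓕 : ParSh.Str E)
    (QX : Fin (𝓕.l + 2) → Polynomial ℚ) (m : ℕ) :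
    (W4swparbununimod.parPoly 𝓕 QX).eval (m : ℝ) =
      Groth.Agent.Helper6.ParHilb.psum 𝓕.l 𝓕.wt (fun j => (((QX j).eval (m : ℚ) : ℚ) : ℝ)) := by
  unfold W4swparbununimod.parPoly Groth.Agent.Helper6.ParHilb.psum
  simp only [Polynomial.eval_add, Polynomial.eval_finsetSum, Polynomial.eval_mul,
    Polynomial.eval_C, Polynomial.eval_sub, W4swparbununimod.rpoly, Polynomial.eval_natCast_map,
    eq_ratCast]

section Sheaf

variable (k : Type u) [Field k] (X : Scheme.{u}) [X.Over (Spec (CommRingCat.of k))]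
  [IsProper (X ↘ Spec (CommRingCat.of k))]

/-- a submodule of a stable module: `p_A ≤ (α(p_A)/α(p_B)) p_B` eventually. -/
theorem stable_sub_compare (L : X.Modules) (e : ℕ) {A B : X.Modules}
    (hB : ShStab.IsStable k X L B e) (hA : Coh.IsCoh A) (ψ : A ⟶ B) [Mono ψ]
    (pA pB : Polynomial ℚ) (hpA : ShStab.IsHilbPoly k X L A pA)
    (hpB : ShStab.IsHilbPoly k X L B pB) (hα : 0 < StabCat.alpha e pB) :
    ∃ N : ℕ, ∀ m : ℕ, N ≤ m →
      pA.eval (m : ℚ) ≤ (StabCat.alpha e pA / StabCat.alpha e pB) * pB.eval (m : ℚ) := by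
  by_cases hz : IsZero A
  · have h0 : pA = 0 :=
      Groth.Agent.Helper6.ParOne.hilbPoly_eq_zero_of_isZero k X L A hz pA hpA
    refine ⟨0, fun m _ => ?_⟩
    rw [h0]
    simp [StabCat.alpha]
  by_cases hi : IsIso ψ
  · have h1 : pA = pB := Groth.Agent.Helper6.ParOne.hilbPoly_unique k X L B pA pB
      (Groth.Agent.Helper25.ShStabFormal.isHilbPoly_of_iso k X L (asIso ψ) pA hpA) hpB
    refine ⟨0, fun m _ => ?_⟩
    rw [h1, div_self hα.ne', one_mul]
  · obtain ⟨N, hN⟩ := hB.2.2.2 A ψ inferInstance hA hz hi pA pB hpA hpB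
    refine ⟨N, fun m hm => ?_⟩
    have h := hN m hm
    rw [Polynomial.eval_smul, Polynomial.eval_smul, smul_eq_mul, smul_eq_mul] at h
    rw [div_mul_eq_mul_div, le_div_iff₀ hα]
    linarith

/-- the same for `W / ι⁻¹ A ↪ E / A`. -/
theorem stable_pb_compare (L : X.Modules) (e : ℕ) {W E : X.Modules} (ι : W ⟶ E)
    (A : Subobject E) (S : Subobject W) (hS : S = (Subobject.pullback ι).obj A)
    (hB : ShStab.IsStable k X L (cokernel A.arrow) e) (hcS : Coh.IsCoh (cokernel S.arrow))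
    (pA pB : Polynomial ℚ) (hpA : ShStab.IsHilbPoly k X L (cokernel S.arrow) pA)
    (hpB : ShStab.IsHilbPoly k X L (cokernel A.arrow) pB) (hα : 0 < StabCat.alpha e pB) :
    ∃ N : ℕ, ∀ m : ℕ, N ≤ m →
      pA.eval (m : ℚ) ≤ (StabCat.alpha e pA / StabCat.alpha e pB) * pB.eval (m : ℚ) := by
  subst hS
  exact stable_sub_compare k X L e hB hcS (Groth.Agent.Helper6.ParInduced.pbQuotMap ι A) pA pB
    hpA hpB hα

end Sheaf

end Groth.Agent.Helper6.ParStab
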