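import Mathlib

/-!
# Perfect rings of characteristic `p` (zero ring allowed): roots, quotients, tensor products
(helper6)
-/

set_option autoImplicit false

open TensorProduct

namespace Groth.Agent.Helper6.PerfTor

universe u v

variable (p : ℕ) [hp : Fact p.Prime]

/-- `R` is a perfect ring of characteristic `p` (the zero ring allowed). -/
def Perf (R : Type*) [CommRing R] : Prop :=
  (p : R) = 0 ∧ Function.Bijective (fun x : R => x ^ p)

variable {p}

section basic

variable {R : Type*} [CommRing R]

theorem add_pow_of_cast_eq_zero (h0 : (p : R) = 0) (x y : R) : (x + y) ^ p = x ^ p + y ^ p := by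
  rw [add_pow_prime_eq hp.out, h0, zero_mul, zero_mul, zero_mul, add_zero]

theorem Perf.add_pow (h : Perf p R) (x y : R) : (x + y) ^ p = x ^ p + y ^ p :=
  add_pow_of_cast_eq_zero h.1 x y

theorem Perf.pow_inj (h : Perf p R) {x y : R} (hxy : x ^ p = y ^ p) : x = y := h.2.1 hxy

theorem Perf.eq_zero_of_pow_p (h : Perf p R) {x : R} (hx : x ^ p = 0) : x = 0 :=
  h.pow_inj (by rw [hx, zero_pow hp.out.ne_zero])

theorem Perf.iter_bij (h : Perf p R) (n : ℕ) : Function.Bijective (fun x : R => x ^ p ^ n) := by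
  induction n with
  | zero =>
    have : (fun x : R => x ^ p ^ 0) = id := by funext x; simp
    rw [this]; exact Function.bijective_id
  | succ n ih =>
    have : (fun x : R => x ^ p ^ (n + 1)) = (fun x : R => x ^ p) ∘ (fun x : R => x ^ p ^ n) := by
      funext x
      show x ^ p ^ (n + 1) = (x ^ p ^ n) ^ p
      rw [pow_succ, pow_mul]
    rw [this]; exact h.2.comp ih

theorem Perf.eq_zero_of_pow (h : Perf p R) {x : R} {n : ℕ} (hx : x ^ n = 0) : x = 0 := by
  have h1 : x ^ p ^ n = 0 := by
    have hle : n ≤ p ^ n := (Nat.lt_pow_self hp.out.one_lt).le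
    rw [← Nat.sub_add_cancel hle, pow_add, hx, mul_zero]
  apply (h.iter_bij n).1
  show x ^ p ^ n = 0 ^ p ^ n
  rw [h1, zero_pow (pow_ne_zero _ hp.out.ne_zero)]

/-- the `p`-th root -/
noncomputable def Perf.root (h : Perf p R) (x : R) : R := (Equiv.ofBijective _ h.2).symm x

theorem Perf.root_pow (h : Perf p R) (x : R) : h.root x ^ p = x :=
  Equiv.ofBijective_apply_symm_apply (fun x : R => x ^ p) h.2 x

theorem Perf.root_of_pow (h : Perf p R) (x : R) : h.root (x ^ p) = x :=
  Equiv.ofBijective_symm_apply_apply (fun x : R => x ^ p) h.2 x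

theorem Perf.root_add (h : Perf p R) (x y : R) : h.root (x + y) = h.root x + h.root y :=
  h.pow_inj (by rw [h.add_pow, h.root_pow, h.root_pow, h.root_pow])

theorem Perf.root_zero (h : Perf p R) : h.root 0 = 0 :=
  h.pow_inj (by rw [h.root_pow, zero_pow hp.out.ne_zero])

theorem Perf.root_mul (h : Perf p R) (x y : R) : h.root (x * y) = h.root x * h.root y :=
  h.pow_inj (by rw [mul_pow, h.root_pow, h.root_pow, h.root_pow])

/-- the iterated root -/
noncomputable def Perf.rootN (h : Perf p R) (n : ℕ) (x : R) : R :=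
  (Equiv.ofBijective _ (h.iter_bij n)).symm x

theorem Perf.rootN_pow (h : Perf p R) (n : ℕ) (x : R) : h.rootN n x ^ p ^ n = x :=
  Equiv.ofBijective_apply_symm_apply (fun x : R => x ^ p ^ n) (h.iter_bij n) x

theorem Perf.quotient (h : Perf p R) (I : Ideal R) (hI : I.IsRadical) : Perf p (R ⧸ I) := by
  refine ⟨?_, ?_, ?_⟩
  · rw [← map_natCast (Ideal.Quotient.mk I), h.1, map_zero]
  · intro x y hxy
    obtain ⟨x, rfl⟩ := Ideal.Quotient.mk_surjective x
    obtain ⟨y, rfl⟩ := Ideal.Quotient.mk_surjective y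
    have hxy' : (Ideal.Quotient.mk I x) ^ p = (Ideal.Quotient.mk I y) ^ p := hxy
    rw [← map_pow, ← map_pow, Ideal.Quotient.eq] at hxy'
    rw [Ideal.Quotient.eq]
    have hsub : (x - y) ^ p = x ^ p - y ^ p := by
      have := h.add_pow (x - y) y
      rw [sub_add_cancel] at this
      rw [this, add_sub_cancel_right]
    exact hI (Ideal.mem_radical_iff.mpr ⟨p, by rw [hsub]; exact hxy'⟩)
  · intro x
    obtain ⟨x, rfl⟩ := Ideal.Quotient.mk_surjective x
    refine ⟨Ideal.Quotient.mk I (h.root x), ?_⟩
    show (Ideal.Quotient.mk I (h.root x)) ^ p = _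
    rw [← map_pow, h.root_pow]

theorem Perf.charP (h : Perf p R) [Nontrivial R] : CharP R p :=
  ringChar.of_eq (CharP.ringChar_of_prime_eq_zero hp.out h.1)

theorem perf_zmod : Perf p (ZMod p) := by
  refine ⟨ZMod.natCast_self p, ?_⟩
  have : (fun x : ZMod p => x ^ p) = id := by funext x; exact ZMod.pow_card x
  rw [this]; exact Function.bijective_id

end basic

section tensor

variable {A X Y : Type*} [CommRing A] [CommRing X] [CommRing Y] [Algebra A X] [Algebra A Y]

theorem Perf.root_algebraMap (hA : Perf p A) (hX : Perf p X) (r : A) :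
    hX.root (algebraMap A X r) = algebraMap A X (hA.root r) :=
  hX.pow_inj (by rw [hX.root_pow, ← map_pow, hA.root_pow])

theorem Perf.root_smul (hA : Perf p A) (hX : Perf p X) (r : A) (x : X) :
    hX.root (r • x) = hA.root r • hX.root x := by
  rw [Algebra.smul_def, Algebra.smul_def, hX.root_mul, Perf.root_algebraMap hA hX]

/-- the inverse of Frobenius on a tensor product -/
noncomputable def rootTensor (hA : Perf p A) (hX : Perf p X) (hY : Perf p Y) :
    X ⊗[A] Y →+ X ⊗[A] Y :=
  TensorProduct.liftAddHom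
    (AddMonoidHom.mk' (fun x => AddMonoidHom.mk' (fun y => hX.root x ⊗ₜ[A] hY.root y)
        (fun y y' => by rw [hY.root_add, tmul_add]))
      (fun x x' => by
        ext y
        simp only [AddMonoidHom.mk'_apply, AddMonoidHom.add_apply]
        rw [hX.root_add, add_tmul]))
    (fun r x y => by
      simp only [AddMonoidHom.mk'_apply]
      rw [Perf.root_smul hA hX, Perf.root_smul hA hY, smul_tmul])

theorem rootTensor_tmul (hA : Perf p A) (hX : Perf p X) (hY : Perf p Y) (x : X) (y : Y) :
    rootTensor hA hX hY (x ⊗ₜ y) = hX.root x ⊗ₜ hY.root y := by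
  rw [rootTensor, TensorProduct.liftAddHom_tmul]
  rfl

theorem Perf.tensor (hA : Perf p A) (hX : Perf p X) (hY : Perf p Y) : Perf p (X ⊗[A] Y) := by
  have h0 : (p : X ⊗[A] Y) = 0 := by
    rw [← map_natCast (algebraMap A (X ⊗[A] Y)), hA.1, map_zero]
  have h1 : ∀ z : X ⊗[A] Y, (rootTensor hA hX hY z) ^ p = z := by
    intro z
    induction z using TensorProduct.induction_on with
    | zero => rw [map_zero, zero_pow hp.out.ne_zero]
    | tmul x y =>
      rw [rootTensor_tmul, Algebra.TensorProduct.tmul_pow, hX.root_pow, hY.root_pow]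
    | add z w hz hw => rw [map_add, add_pow_of_cast_eq_zero h0, hz, hw]
  have h2 : ∀ z : X ⊗[A] Y, rootTensor hA hX hY (z ^ p) = z := by
    intro z
    induction z using TensorProduct.induction_on with
    | zero => rw [zero_pow hp.out.ne_zero, map_zero]
    | tmul x y =>
      rw [Algebra.TensorProduct.tmul_pow, rootTensor_tmul, hX.root_of_pow, hY.root_of_pow]
    | add z w hz hw => rw [add_pow_of_cast_eq_zero h0, map_add, hz, hw]
  refine ⟨h0, fun z w hzw => ?_, fun z => ⟨_, h1 z⟩⟩
  have hzw' : z ^ p = w ^ p := hzw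
  calc z = rootTensor hA hX hY (z ^ p) := (h2 z).symm
    _ = rootTensor hA hX hY (w ^ p) := by rw [hzw']
    _ = w := h2 w

end tensor

end Groth.Agent.Helper6.PerfTor
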