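import Groth.Agent.Lib.Helper11.TorInd1

/-!
# Vanishing of Tor under change of rings (helper6)

If `Tor^A_{>0}(A', N) = 0` and `M` is an `A'`-module, then `Tor^{A'}_{n+1}(M, A' ⊗_A N) = 0` implies
`Tor^A_{n+1}(M, N) = 0`.
-/

set_option autoImplicit false
universe u

open CategoryTheory Limits MonoidalCategory TensorProduct Function

namespace Groth.Agent.Helper6.PerfTor

open Groth.Agent.Helper11.TA Groth.Agent.Helper11.TorInd Groth.Agent.Helper18.TorLib

/-- shorthand for `Tor_n^R(X, Y)` -/
noncomputable abbrev T (R : Type u) [CommRing R] (n : ℕ) (X Y : Type u) [AddCommGroup X] [Module R X]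
    [AddCommGroup Y] [Module R Y] : ModuleCat.{u} R :=
  ((Tor (ModuleCat.{u} R) n).obj (ModuleCat.of R X)).obj (ModuleCat.of R Y)

section general

variable {R : Type u} [CommRing R]

theorem isZero_of_subsingleton_ring [Subsingleton R] (X : ModuleCat.{u} R) : IsZero X := by
  haveI : Subsingleton X := Module.subsingleton R X
  exact ModuleCat.isZero_of_subsingleton X

theorem isZero_tor_of_linearEquiv {X X' Y : Type u} [AddCommGroup X] [Module R X]
    [AddCommGroup X'] [Module R X'] [AddCommGroup Y] [Module R Y] (e : X ≃ₗ[R] X') (n : ℕ)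
    (h : IsZero (T R n X Y)) : IsZero (T R n X' Y) :=
  h.of_iso (((Tor (ModuleCat.{u} R) n).mapIso e.toModuleIso.symm).app (ModuleCat.of R Y))

variable {K F M N : Type u} [AddCommGroup K] [Module R K] [AddCommGroup F] [Module R F]
  [AddCommGroup M] [Module R M] [AddCommGroup N] [Module R N]

/-- `Tor₁(M, N) = 0` from a presentation `0 → K → F → M → 0` with `Tor₁(F, N) = 0`. -/
theorem isZero_tor_one_of_injective (i : K →ₗ[R] F) (q : F →ₗ[R] M) (hi : Injective i)
    (hex : Exact i q) (hq : Surjective q) (hF : IsZero (T R 1 F N))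
    (hinj : Injective (i.rTensor N)) : IsZero (T R 1 M N) := by
  have hS : (scOf i q hex).ShortExact := scOf_shortExact i q hi hq hex
  have hm : Mono ((scOf i q hex).f ▷ (ModuleCat.of R N)) := by
    rw [mono_whiskerRight_iff]; exact hinj
  rw [← mono_tor0_map_iff] at hm
  have hδ : torδ hS (ModuleCat.of R N) 0 = 0 := by
    rw [← cancel_mono (((Tor (ModuleCat.{u} R) 0).map (scOf i q hex).f).app (ModuleCat.of R N)),
      torδ_comp, zero_comp]
  have hepi : Epi (((Tor (ModuleCat.{u} R) (0 + 1)).map (scOf i q hex).g).app (ModuleCat.of R N)) :=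
    (tor_exact₃ hS (ModuleCat.of R N) 0).epi_f hδ
  exact IsZero.of_epi (((Tor (ModuleCat.{u} R) (0 + 1)).map (scOf i q hex).g).app
    (ModuleCat.of R N)) hF

/-- `Tor_{n+2}(M, N) = 0` if `Tor_{n+2}(F, N) = 0` and `Tor_{n+1}(K, N) = 0`. -/
theorem isZero_tor_succ_succ_of_ses (i : K →ₗ[R] F) (q : F →ₗ[R] M) (hi : Injective i)
    (hex : Exact i q) (hq : Surjective q) (n : ℕ) (hF : IsZero (T R (n + 2) F N))
    (hK : IsZero (T R (n + 1) K N)) : IsZero (T R (n + 2) M N) :=
  (tor_exact₃ (scOf_shortExact i q hi hq hex) (ModuleCat.of R N) (n + 1)).isZero_of_both_isZero hF hK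

/-- `Tor_{n+1}(K, N) = 0` if `Tor_{n+2}(M, N) = 0` and `Tor_{n+1}(F, N) = 0`. -/
theorem isZero_tor_ker_of_ses (i : K →ₗ[R] F) (q : F →ₗ[R] M) (hi : Injective i)
    (hex : Exact i q) (hq : Surjective q) (n : ℕ) (hM : IsZero (T R (n + 2) M N))
    (hF : IsZero (T R (n + 1) F N)) : IsZero (T R (n + 1) K N) :=
  (tor_exact₁ (scOf_shortExact i q hi hq hex) (ModuleCat.of R N) (n + 1)).isZero_of_both_isZero hM hF

end general

section star

variable {A A' : Type u} [CommRing A] [CommRing A'] [Algebra A A']
  (N : Type u) [AddCommGroup N] [Module A N]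

theorem isZero_tor_of_flat_over (hA' : ∀ n, IsZero (T A (n + 1) A' N)) (F : Type u)
    [AddCommGroup F] [Module A F] [Module A' F] [IsScalarTower A A' F] [Module.Flat A' F] (n : ℕ) :
    IsZero (T A (n + 1) F N) := by
  have h := (isZero_tor_succ_iff_exact (ModuleCat.of A A') (ModuleCat.of A N) n).mp (hA' n)
  show IsZero (((Tor (ModuleCat.{u} A) (n + 1)).obj (ModuleCat.of A F)).obj (ModuleCat.of A N))
  rw [isZero_tor_succ_iff_exact]
  exact exact_lTensor_of_exact_baseChange (k := A) (S := A') F _ _ h

theorem rTensor_cancel_comm {K F : Type u} [AddCommGroup K] [Module A K] [Module A' K]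
    [IsScalarTower A A' K] [AddCommGroup F] [Module A F] [Module A' F] [IsScalarTower A A' F]
    (i : K →ₗ[A'] F) (t : K ⊗[A'] (A' ⊗[A] N)) :
    (i.restrictScalars A).rTensor N (AlgebraTensorModule.cancelBaseChange A A' A' K N t) =
      AlgebraTensorModule.cancelBaseChange A A' A' F N (i.rTensor (A' ⊗[A] N) t) := by
  induction t using TensorProduct.induction_on with
  | zero => simp
  | add x y hx hy => simp only [map_add, hx, hy]
  | tmul m t =>
    induction t using TensorProduct.induction_on with
    | zero => simp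
    | add x y hx hy => simp only [map_add, tmul_add, hx, hy]
    | tmul s x => simp

section steps

variable {K F M : Type u} [AddCommGroup K] [Module A K] [Module A' K] [IsScalarTower A A' K]
  [AddCommGroup F] [Module A F] [Module A' F] [IsScalarTower A A' F]
  [AddCommGroup M] [Module A M] [Module A' M] [IsScalarTower A A' M]
  (i : K →ₗ[A'] F) (q : F →ₗ[A'] M) (hi : Injective i) (hex : Exact i q) (hq : Surjective q)

include hi hex hq in
theorem star_step_zero [Module.Flat A' F] (hA' : ∀ n, IsZero (T A (n + 1) A' N))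
    (h : IsZero (T A' 1 M (A' ⊗[A] N))) : IsZero (T A 1 M N) := by
  have hinj' : Injective (i.rTensor (A' ⊗[A] N)) :=
    (isZero_tor_one_iff_injective i q hi hex hq).mp h
  have hinj : Injective ((i.restrictScalars A).rTensor N) := by
    intro x y hxy
    obtain ⟨x, rfl⟩ := (AlgebraTensorModule.cancelBaseChange A A' A' K N).surjective x
    obtain ⟨y, rfl⟩ := (AlgebraTensorModule.cancelBaseChange A A' A' K N).surjective y
    rw [rTensor_cancel_comm N i x, rTensor_cancel_comm N i y] at hxy
    rw [hinj' ((AlgebraTensorModule.cancelBaseChange A A' A' F N).injective hxy)]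
  exact isZero_tor_one_of_injective (i.restrictScalars A) (q.restrictScalars A) hi hex hq
    (isZero_tor_of_flat_over N hA' F 0) hinj

include hi hex hq in
theorem star_step_succ [Module.Flat A' F] (hA' : ∀ n, IsZero (T A (n + 1) A' N)) (n : ℕ)
    (ih : IsZero (T A' (n + 1) K (A' ⊗[A] N)) → IsZero (T A (n + 1) K N))
    (h : IsZero (T A' (n + 2) M (A' ⊗[A] N))) : IsZero (T A (n + 2) M N) := by
  have hK' : IsZero (T A' (n + 1) K (A' ⊗[A] N)) :=
    isZero_tor_ker_of_ses i q hi hex hq n h (isZero_tor_succ_of_flat_left _ _ n)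
  exact isZero_tor_succ_succ_of_ses (i.restrictScalars A) (q.restrictScalars A) hi hex hq n
    (isZero_tor_of_flat_over N hA' F (n + 1)) (ih hK')

end steps

theorem star (hA' : ∀ n, IsZero (T A (n + 1) A' N)) :
    ∀ (n : ℕ) (M : Type u) [AddCommGroup M] [Module A M] [Module A' M] [IsScalarTower A A' M],
      IsZero (T A' (n + 1) M (A' ⊗[A] N)) → IsZero (T A (n + 1) M N) := by
  intro n
  induction n with
  | zero =>
    intro M _ _ _ _ h
    exact star_step_zero N (K := ↥(LinearMap.ker (Finsupp.linearCombination A' (id : M → M))))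
      (F := M →₀ A') (M := M) (Submodule.subtype _) (Finsupp.linearCombination A' (id : M → M))
      (Submodule.injective_subtype _) (LinearMap.exact_subtype_ker_map _)
      (Finsupp.linearCombination_id_surjective A' M) hA' h
  | succ n ih =>
    intro M _ _ _ _ h
    exact star_step_succ N (K := ↥(LinearMap.ker (Finsupp.linearCombination A' (id : M → M))))
      (F := M →₀ A') (M := M) (Submodule.subtype _) (Finsupp.linearCombination A' (id : M → M))
      (Submodule.injective_subtype _) (LinearMap.exact_subtype_ker_map _)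
      (Finsupp.linearCombination_id_surjective A' M) hA' n (ih _) h

end star

end Groth.Agent.Helper6.PerfTor
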