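import Groth.Agent.Lib.Helper6.PerfTorA
import Groth.Agent.Lib.Helper6.PerfTorB
import Groth.Agent.S14262

/-!
# Tor vanishing for `A ⧸ rad(f)` over a perfect ring (helper6)
-/

set_option autoImplicit false
universe u

open CategoryTheory Limits MonoidalCategory TensorProduct Function

namespace Groth.Agent.Helper6.PerfTor

open Groth.Agent.Helper11.TA Groth.Agent.Helper11.TorInd Groth.Agent.Helper18.TorLib

variable {p : ℕ} [hp : Fact p.Prime]

section principal

variable {A C : Type u} [CommRing A] [CommRing C] [Algebra A C] (hA : Perf p A) (hC : Perf p C)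
  (f : A)

/-- the `p^m`-th root of `f` -/
noncomputable def rt (m : ℕ) : A := hA.rootN m f

theorem rt_pow (m : ℕ) : rt hA f m ^ p ^ m = f := hA.rootN_pow m f

theorem rt_succ_pow (m : ℕ) : rt hA f (m + 1) ^ p = rt hA f m := by
  apply (hA.iter_bij m).1
  show (rt hA f (m + 1) ^ p) ^ p ^ m = rt hA f m ^ p ^ m
  rw [rt_pow, ← pow_mul, ← pow_succ', rt_pow]

theorem rt_mem (m : ℕ) : rt hA f m ∈ (Ideal.span {f}).radical :=
  Ideal.mem_radical_iff.mpr ⟨p ^ m, by rw [rt_pow]; exact Ideal.mem_span_singleton_self f⟩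

/-- the roots as elements of the radical -/
noncomputable def g (m : ℕ) : ((Ideal.span {f}).radical : Ideal A) := ⟨rt hA f m, rt_mem hA f m⟩

theorem g_eq (m : ℕ) : g hA f m = (rt hA f (m + 1)) ^ (p - 1) • g hA f (m + 1) := by
  apply Subtype.ext
  rw [Submodule.coe_smul, smul_eq_mul]
  show rt hA f m = rt hA f (m + 1) ^ (p - 1) * rt hA f (m + 1)
  rw [← pow_succ, Nat.sub_add_cancel hp.out.one_le, rt_succ_pow]

theorem g_tmul (m : ℕ) (c : C) :
    g hA f m ⊗ₜ[A] c = g hA f (m + 1) ⊗ₜ[A] ((rt hA f (m + 1)) ^ (p - 1) • c) := by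
  conv_lhs => rw [g_eq hA f m]
  rw [smul_tmul]

theorem g_tmul_add (k m : ℕ) (c : C) : ∃ c' : C, g hA f m ⊗ₜ[A] c = g hA f (m + k) ⊗ₜ[A] c' := by
  induction k with
  | zero => exact ⟨c, rfl⟩
  | succ k ih =>
    obtain ⟨c', hc'⟩ := ih
    exact ⟨_, hc'.trans (g_tmul hA f (m + k) c')⟩

theorem exists_smul_g (x : ((Ideal.span {f}).radical : Ideal A)) :
    ∃ (m : ℕ) (a : A), x = a • g hA f m := by
  obtain ⟨k, hk⟩ := Ideal.mem_radical_iff.mp x.2
  have hle : k ≤ p ^ k := (Nat.lt_pow_self hp.out.one_lt).le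
  have hk' : (x : A) ^ p ^ k ∈ Ideal.span {f} := by
    rw [← Nat.sub_add_cancel hle, pow_add]; exact Ideal.mul_mem_left _ _ hk
  obtain ⟨d, hd⟩ := Ideal.mem_span_singleton'.mp hk'
  refine ⟨k, hA.rootN k d, Subtype.ext ?_⟩
  rw [Submodule.coe_smul, smul_eq_mul]
  apply (hA.iter_bij k).1
  show (x : A) ^ p ^ k = (hA.rootN k d * rt hA f k) ^ p ^ k
  rw [mul_pow, hA.rootN_pow, rt_pow, hd]

theorem exists_repr (z : ((Ideal.span {f}).radical : Ideal A) ⊗[A] C) :
    ∃ (m : ℕ) (c : C), z = g hA f m ⊗ₜ[A] c := by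
  induction z using TensorProduct.induction_on with
  | zero => exact ⟨0, 0, (tmul_zero _ _).symm⟩
  | tmul x c =>
    obtain ⟨m, a, hx⟩ := exists_smul_g hA f x
    exact ⟨m, a • c, by rw [hx, smul_tmul]⟩
  | add z w hz hw =>
    obtain ⟨m, c, rfl⟩ := hz
    obtain ⟨m', c', rfl⟩ := hw
    obtain ⟨c₁, h₁⟩ := g_tmul_add hA f m' m c
    obtain ⟨c₂, h₂⟩ := g_tmul_add hA f m m' c'
    refine ⟨m + m', c₁ + c₂, ?_⟩
    rw [h₁, h₂, Nat.add_comm m' m, tmul_add]

include hA hC in
theorem rTensor_subtype_injective :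
    Injective ((Submodule.subtype ((Ideal.span {f}).radical : Ideal A)).rTensor C) := by
  rw [injective_iff_map_eq_zero]
  intro z hz
  obtain ⟨m, c, rfl⟩ := exists_repr hA f z
  have h1 : rt hA f m • c = 0 := by
    have := congrArg (TensorProduct.lid A C) hz
    rw [LinearMap.rTensor_tmul, TensorProduct.lid_tmul, map_zero] at this
    exact this
  rw [g_tmul]
  have h2 : rt hA f (m + 1) ^ (p - 1) • c = 0 := by
    apply hC.eq_zero_of_pow_p
    rw [smul_pow, ← pow_mul, mul_comm (p - 1) p, pow_mul, rt_succ_pow]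
    have hc : c ^ p = c ^ (p - 1) * c := by
      rw [← pow_succ, Nat.sub_add_cancel hp.out.one_le]
    have ha : rt hA f m ^ (p - 1) = rt hA f m ^ (p - 2) * rt hA f m := by
      rw [← pow_succ]
      congr 1
      have := hp.out.two_le
      omega
    rw [ha, hc, ← smul_mul_smul_comm, h1, mul_zero]
  rw [h2, tmul_zero]

include hA hC in
theorem tor_principal (n : ℕ) : IsZero (T A (n + 1) (A ⧸ (Ideal.span {f}).radical) C) := by
  rcases subsingleton_or_nontrivial A with hs | hn
  · exact isZero_of_subsingleton_ring _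
  · haveI : CharP A p := hA.charP
    haveI : PerfectRing A p := ⟨hA.2⟩
    haveI : Module.Flat A ((Ideal.span {f}).radical : Ideal A) := Groth.Agent.S14262.result p A f
    have hex : Exact (Submodule.subtype ((Ideal.span {f}).radical : Ideal A))
        (Submodule.mkQ ((Ideal.span {f}).radical : Ideal A)) := LinearMap.exact_subtype_mkQ _
    cases n with
    | zero =>
      exact (isZero_tor_one_iff_injective _ _ (Submodule.injective_subtype _) hex
        (Submodule.mkQ_surjective _)).mpr (rTensor_subtype_injective hA hC f)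
    | succ n =>
      exact isZero_tor_succ_succ_of_ses _ _ (Submodule.injective_subtype _) hex
        (Submodule.mkQ_surjective _) n (isZero_tor_succ_of_flat_left _ _ (n + 1))
        (isZero_tor_succ_of_flat_left _ _ n)

end principal

end Groth.Agent.Helper6.PerfTor
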