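import Groth.Agent.Lib.Helper6.PerfTorC

/-!
# Tor vanishing for quotients of a perfect ring by radical ideals (helper6)
-/

set_option autoImplicit false
universe u

open CategoryTheory Limits MonoidalCategory TensorProduct Function

namespace Groth.Agent.Helper6.PerfTor

open Groth.Agent.Helper11.TA Groth.Agent.Helper11.TorInd Groth.Agent.Helper18.TorLib

variable {p : ℕ} [hp : Fact p.Prime]

theorem tor_quot_of_eq_bot {A : Type u} [CommRing A] (N : Type u) [AddCommGroup N] [Module A N]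
    (I : Ideal A) (hI : I = ⊥) (n : ℕ) : IsZero (T A (n + 1) (A ⧸ I) N) := by
  subst hI
  haveI : Module.Flat A (A ⧸ (⊥ : Ideal A)) :=
    Module.Flat.of_linearEquiv (Submodule.quotEquivOfEqBot (⊥ : Ideal A) rfl)
  exact isZero_tor_succ_of_flat_left _ _ n

section fg

theorem ker_algebraMap_quot_quot {A : Type u} [CommRing A] (I₀ : Ideal A) (L : Ideal A) :
    RingHom.ker (Algebra.ofId A
      ((A ⧸ I₀.radical) ⧸ (Ideal.map (Ideal.Quotient.mk I₀.radical) L).radical)) =
      (I₀ ⊔ L).radical := by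
  ext a
  rw [RingHom.mem_ker]
  have h1 : Algebra.ofId A ((A ⧸ I₀.radical) ⧸ (Ideal.map (Ideal.Quotient.mk I₀.radical) L).radical) a =
      Ideal.Quotient.mk _ (Ideal.Quotient.mk I₀.radical a) := rfl
  rw [h1, Ideal.Quotient.eq_zero_iff_mem, ← Ideal.mem_comap, Ideal.comap_radical,
    Ideal.comap_map_of_surjective _ Ideal.Quotient.mk_surjective, ← RingHom.ker_eq_comap_bot,
    Ideal.mk_ker]
  have h2 : (L ⊔ I₀.radical).radical = (I₀ ⊔ L).radical := by
    apply le_antisymm
    · exact Ideal.radical_le_radical_iff.mpr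
        (sup_le (le_sup_right.trans Ideal.le_radical) (Ideal.radical_mono le_sup_left))
    · exact Ideal.radical_mono (sup_le (Ideal.le_radical.trans le_sup_right) le_sup_left)
  rw [h2]

theorem tor_fg : ∀ (r : ℕ) (A C : Type u) [CommRing A] [CommRing C] [Algebra A C],
    Perf p A → Perf p C → ∀ (f : Fin r → A) (n : ℕ),
      IsZero (T A (n + 1) (A ⧸ (Ideal.span (Set.range f)).radical) C) := by
  intro r
  induction r with
  | zero =>
    intro A C _ _ _ hA hC f n
    apply tor_quot_of_eq_bot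
    rw [Set.range_eq_empty f, Ideal.span_empty, eq_bot_iff]
    intro x hx
    obtain ⟨k, hk⟩ := Ideal.mem_radical_iff.mp hx
    rw [Ideal.mem_bot] at hk ⊢
    exact hA.eq_zero_of_pow hk
  | succ r ih =>
    intro A C _ _ _ hA hC f n
    have hA₁ : Perf p (A ⧸ (Ideal.span {f 0}).radical) :=
      hA.quotient _ (Ideal.radical_isRadical _)
    have hC₁ : Perf p ((A ⧸ (Ideal.span {f 0}).radical) ⊗[A] C) := Perf.tensor hA hA₁ hC
    have hrange : Ideal.span (Set.range
        (fun i : Fin r => Ideal.Quotient.mk (Ideal.span {f 0}).radical (f i.succ))) =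
        Ideal.map (Ideal.Quotient.mk (Ideal.span {f 0}).radical)
          (Ideal.span (Set.range (Fin.tail f))) := by
      rw [Ideal.map_span, ← Set.range_comp]
      rfl
    have h1 := ih (A ⧸ (Ideal.span {f 0}).radical) ((A ⧸ (Ideal.span {f 0}).radical) ⊗[A] C) hA₁ hC₁
      (fun i : Fin r => Ideal.Quotient.mk (Ideal.span {f 0}).radical (f i.succ)) n
    rw [hrange] at h1
    have h2 := star C (fun k => tor_principal hA hC (f 0) k) n _ h1
    have hsurj : Surjective (Algebra.ofId A ((A ⧸ (Ideal.span {f 0}).radical) ⧸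
        (Ideal.map (Ideal.Quotient.mk (Ideal.span {f 0}).radical)
          (Ideal.span (Set.range (Fin.tail f)))).radical)) := by
      intro y
      obtain ⟨y, rfl⟩ := Ideal.Quotient.mk_surjective y
      obtain ⟨y, rfl⟩ := Ideal.Quotient.mk_surjective y
      exact ⟨y, rfl⟩
    have hker := ker_algebraMap_quot_quot (Ideal.span {f 0}) (Ideal.span (Set.range (Fin.tail f)))
    have hI : (Ideal.span {f 0} ⊔ Ideal.span (Set.range (Fin.tail f))).radical =
        (Ideal.span (Set.range f)).radical := by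
      rw [Fin.range_fin_succ, Ideal.span_insert]
    exact isZero_tor_of_linearEquiv
      ((Ideal.quotientKerAlgEquivOfSurjective hsurj).symm.trans
        (Ideal.quotientEquivAlgOfEq A (hker.trans hI))).toLinearEquiv (n + 1) h2

end fg

section union

variable {A : Type u} [CommRing A]

theorem exists_finset_of_mem_smul_top (I : Ideal A) {P : Type*} [AddCommGroup P] [Module A P]
    {m : P} (hm : m ∈ I • (⊤ : Submodule A P)) :
    ∃ s : Finset A, (↑s : Set A) ⊆ (I : Set A) ∧
      m ∈ (Ideal.span (↑s : Set A)) • (⊤ : Submodule A P) := by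
  classical
  refine Submodule.smul_induction_on hm ?_ ?_
  · intro r hr x _
    refine ⟨{r}, by simpa using hr, ?_⟩
    exact Submodule.smul_mem_smul (Ideal.subset_span (by simp)) trivial
  · rintro x y ⟨s, hs, hx⟩ ⟨t, ht, hy⟩
    refine ⟨s ∪ t, ?_, ?_⟩
    · rw [Finset.coe_union]; exact Set.union_subset hs ht
    · refine Submodule.add_mem _ ?_ ?_
      · exact Submodule.smul_mono_left (Ideal.span_mono (by simp)) hx
      · exact Submodule.smul_mono_left (Ideal.span_mono (by simp)) hy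

theorem exists_one_tmul (J : Ideal A) {P : Type*} [AddCommGroup P] [Module A P]
    (y : (A ⧸ J) ⊗[A] P) : ∃ x : P, y = (1 : A ⧸ J) ⊗ₜ[A] x := by
  obtain ⟨x, hx⟩ := Submodule.Quotient.mk_surjective _ (TensorProduct.quotTensorEquivQuotSMul P J y)
  refine ⟨x, ?_⟩
  apply (TensorProduct.quotTensorEquivQuotSMul P J).injective
  rw [TensorProduct.quotTensorEquivQuotSMul_mk_one_tmul, hx]

theorem one_tmul_eq_zero_iff (J : Ideal A) {P : Type*} [AddCommGroup P] [Module A P] (x : P) :
    (1 : A ⧸ J) ⊗ₜ[A] x = 0 ↔ x ∈ J • (⊤ : Submodule A P) := by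
  rw [← (TensorProduct.quotTensorEquivQuotSMul P J).map_eq_zero_iff,
    TensorProduct.quotTensorEquivQuotSMul_mk_one_tmul, Submodule.Quotient.mk_eq_zero]

theorem exact_lTensor_quot_of_approx {P₂ P₁ P₀ : Type*} [AddCommGroup P₂] [Module A P₂]
    [AddCommGroup P₁] [Module A P₁] [AddCommGroup P₀] [Module A P₀]
    (d₂ : P₂ →ₗ[A] P₁) (d₁ : P₁ →ₗ[A] P₀) (hdd : d₁ ∘ₗ d₂ = 0) (I : Ideal A)
    (h : ∀ s : Finset A, (↑s : Set A) ⊆ (I : Set A) → ∃ J : Ideal A, Ideal.span (↑s : Set A) ≤ J ∧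
      J ≤ I ∧ Exact (d₂.lTensor (A ⧸ J)) (d₁.lTensor (A ⧸ J))) :
    Exact (d₂.lTensor (A ⧸ I)) (d₁.lTensor (A ⧸ I)) := by
  intro y
  constructor
  · intro hy
    obtain ⟨x, rfl⟩ := exists_one_tmul I y
    rw [LinearMap.lTensor_tmul, one_tmul_eq_zero_iff] at hy
    obtain ⟨s, hs, hxs⟩ := exists_finset_of_mem_smul_top I hy
    obtain ⟨J, hsJ, hJI, hJ⟩ := h s hs
    have hxJ : d₁ x ∈ J • (⊤ : Submodule A P₀) := Submodule.smul_mono_left hsJ hxs
    have h0 : (d₁.lTensor (A ⧸ J)) ((1 : A ⧸ J) ⊗ₜ[A] x) = 0 := by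
      rw [LinearMap.lTensor_tmul, one_tmul_eq_zero_iff]; exact hxJ
    obtain ⟨w, hw⟩ := (hJ _).mp h0
    obtain ⟨x₂, rfl⟩ := exists_one_tmul J w
    rw [LinearMap.lTensor_tmul] at hw
    have h3 : d₂ x₂ - x ∈ J • (⊤ : Submodule A P₁) := by
      rw [← one_tmul_eq_zero_iff, tmul_sub, hw, sub_self]
    have h4 : d₂ x₂ - x ∈ I • (⊤ : Submodule A P₁) := Submodule.smul_mono_left hJI h3
    rw [← one_tmul_eq_zero_iff, tmul_sub, sub_eq_zero] at h4
    exact ⟨(1 : A ⧸ I) ⊗ₜ[A] x₂, by rw [LinearMap.lTensor_tmul, h4]⟩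
  · rintro ⟨w, rfl⟩
    rw [← LinearMap.comp_apply, ← LinearMap.lTensor_comp, hdd, LinearMap.lTensor_zero,
      LinearMap.zero_apply]

theorem tor_of_finset_approx (N : ModuleCat.{u} A) (I : Ideal A) (n : ℕ)
    (h : ∀ s : Finset A, (↑s : Set A) ⊆ (I : Set A) → ∃ J : Ideal A, Ideal.span (↑s : Set A) ≤ J ∧
      J ≤ I ∧ IsZero (((Tor (ModuleCat.{u} A) (n + 1)).obj (ModuleCat.of A (A ⧸ J))).obj N)) :
    IsZero (((Tor (ModuleCat.{u} A) (n + 1)).obj (ModuleCat.of A (A ⧸ I))).obj N) := by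
  rw [isZero_tor_succ_iff_exact]
  refine exact_lTensor_quot_of_approx _ _ ?_ I ?_
  · rw [← ModuleCat.hom_comp, (projectiveResolution N).complex.d_comp_d]
    rfl
  · intro s hs
    obtain ⟨J, h1, h2, h3⟩ := h s hs
    exact ⟨J, h1, h2, (isZero_tor_succ_iff_exact _ N n).mp h3⟩

end union

section radical

variable {A C : Type u} [CommRing A] [CommRing C] [Algebra A C]

theorem tor_radical (hA : Perf p A) (hC : Perf p C) (I : Ideal A) (hI : I.IsRadical) (n : ℕ) :
    IsZero (T A (n + 1) (A ⧸ I) C) := by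
  apply tor_of_finset_approx
  intro s hs
  refine ⟨(Ideal.span (↑s : Set A)).radical, Ideal.le_radical,
    hI.radical_le_iff.mpr (Ideal.span_le.mpr hs), ?_⟩
  have h := tor_fg s.card A C hA hC (fun i => ((s.equivFin.symm i : s) : A)) n
  have hr : Set.range (fun i => ((s.equivFin.symm i : s) : A)) = ↑s := by
    ext x
    constructor
    · rintro ⟨i, rfl⟩
      exact (s.equivFin.symm i).2
    · intro hx
      exact ⟨s.equivFin ⟨x, hx⟩, by simp⟩
  rw [hr] at h
  exact h

end radical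

end Groth.Agent.Helper6.PerfTor
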