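import Groth.Agent.Lib.Helper6.PerfTorD

/-!
# Tor vanishing for perfect algebras over a perfect ring (helper6)
-/

set_option autoImplicit false
universe u

open CategoryTheory Limits MonoidalCategory TensorProduct Function

namespace Groth.Agent.Helper6.PerfTor

open Groth.Agent.Helper11.TA Groth.Agent.Helper11.TorInd Groth.Agent.Helper18.TorLib

variable {p : ℕ} [hp : Fact p.Prime]

theorem tor_perfect_of_charP {A B C : Type u} [CommRing A] [CommRing B] [CommRing C] [CharP A p]
    [Algebra A B] [Algebra A C] (hA : Perf p A) (hB : Perf p B) (hC : Perf p C) (n : ℕ) :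
    IsZero (T A (n + 1) B C) := by
  rcases subsingleton_or_nontrivial B with hs | hn
  · haveI : Module.Flat A B := inferInstance
    exact isZero_tor_succ_of_flat_left _ _ n
  · haveI : CharP B p := hB.charP
    letI : Algebra (ZMod p) A := ZMod.algebra A p
    letI : Algebra (ZMod p) B := ZMod.algebra B p
    haveI : IsScalarTower (ZMod p) A B := IsScalarTower.of_algebraMap_eq' (Subsingleton.elim _ _)
    have hP : Perf p (A ⊗[ZMod p] B) := Perf.tensor perf_zmod hA hB
    let q : (A ⊗[ZMod p] B) →ₐ[A] B :=
      Algebra.TensorProduct.lift (Algebra.ofId A B) (AlgHom.id (ZMod p) B)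
        (fun _ _ => Commute.all _ _)
    have hq : Surjective q := fun b => ⟨1 ⊗ₜ b, by simp [q]⟩
    letI : Algebra (A ⊗[ZMod p] B) B := q.toRingHom.toAlgebra
    haveI : IsScalarTower A (A ⊗[ZMod p] B) B :=
      IsScalarTower.of_algebraMap_eq (fun a => (q.commutes a).symm)
    have hPC : Perf p ((A ⊗[ZMod p] B) ⊗[A] C) := Perf.tensor hA hP hC
    have hflat : ∀ k, IsZero (T A (k + 1) (A ⊗[ZMod p] B) C) :=
      fun k => isZero_tor_succ_of_flat_left _ _ k
    apply star C hflat n B
    have hφ : Surjective (Algebra.ofId (A ⊗[ZMod p] B) B) := hq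
    have hrad : (RingHom.ker (Algebra.ofId (A ⊗[ZMod p] B) B)).IsRadical := by
      intro x hx
      obtain ⟨k, hk⟩ := Ideal.mem_radical_iff.mp hx
      rw [RingHom.mem_ker, map_pow] at hk
      rw [RingHom.mem_ker]
      exact hB.eq_zero_of_pow hk
    have h1 := tor_radical hP hPC (RingHom.ker (Algebra.ofId (A ⊗[ZMod p] B) B)) hrad n
    exact isZero_tor_of_linearEquiv
      (Ideal.quotientKerAlgEquivOfSurjective hφ).toLinearEquiv (n + 1) h1

end Groth.Agent.Helper6.PerfTor
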