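import Mathlib
import Groth.Agent.Lib.Helper14.IdemTensor
import Groth.Agent.Lib.Helper14.AlgClosedTensor

/-!
# `π₀` of algebras over an algebraically closed field (helper6)

* Noetherian rings have a complete system of orthogonal primitive idempotents (`good_of_isNoetherianRing`).
* Over an algebraically closed field `k`: idempotents of `R ⊗[k] R'` lie in the image of `P ⊗ P'` for
  subalgebras `P`, `P'` containing all idempotents (`idem_mem_range`).
* separable elements are linear combinations of idempotents (`mem_span_idem_of_isSeparable`).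
* `comul_mem_range_of_isSeparable`: the separable elements of a "sub-bialgebra" form a "sub-bialgebra".
-/

set_option autoImplicit false
set_option linter.style.haveILetI false

namespace Groth.Agent.Helper6.PiZero

open TensorProduct

universe u

section Prim

variable {S : Type*} [CommRing S]

/-- primitive idempotent -/
def IsPrim (f : S) : Prop :=
  IsIdempotentElem f ∧ f ≠ 0 ∧ ∀ g : S, IsIdempotentElem g → g * f = g → g = 0 ∨ g = f

/-- finite sum of pairwise orthogonal primitive idempotents -/
def Good (f : S) : Prop :=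
  ∃ t : Finset S, (∀ g ∈ t, IsPrim g) ∧ (∀ g ∈ t, ∀ h ∈ t, g ≠ h → g * h = 0) ∧ ∑ g ∈ t, g = f

theorem mul_sum_of_mem {t : Finset S} (horth : ∀ g ∈ t, ∀ h ∈ t, g ≠ h → g * h = 0)
    (hid : ∀ g ∈ t, IsIdempotentElem g) {g : S} (hg : g ∈ t) : g * ∑ h ∈ t, h = g := by
  classical
  rw [Finset.mul_sum, Finset.sum_eq_single_of_mem g hg]
  · exact hid g hg
  · intro h hh hne
    exact horth g hg h hh (Ne.symm hne)

theorem span_lt_of_sub_idem {f g : S} (hf : IsIdempotentElem f) (hgf : g * f = g) (hne : g ≠ f) :
    Ideal.span {1 - f} < Ideal.span ({1 - g} : Set S) := by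
  have e1 : f * g = g := by rw [mul_comm]; exact hgf
  have h1 : (1 - f) = (1 - g) * (1 - f) := by
    have : (1 - g) * (1 - f) = 1 - f - g + g * f := by ring
    rw [this, hgf]; ring
  refine lt_of_le_of_ne ?_ ?_
  · rw [Ideal.span_singleton_le_span_singleton]
    exact ⟨1 - f, h1⟩
  · intro heq
    have hmem : 1 - g ∈ Ideal.span ({1 - f} : Set S) := by
      rw [heq]; exact Ideal.mem_span_singleton_self _
    obtain ⟨c, hc⟩ := Ideal.mem_span_singleton'.1 hmem
    have h2 : (1 - g) * f = 0 := by
      rw [← hc, mul_assoc, sub_mul, one_mul, hf.eq, sub_self, mul_zero]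
    rw [sub_mul, one_mul, hgf, sub_eq_zero] at h2
    exact hne h2.symm

theorem good_of_isNoetherianRing [IsNoetherianRing S] (f : S) (hf : IsIdempotentElem f) :
    Good f := by
  classical
  have key : ∀ I : Ideal S, ∀ f : S, IsIdempotentElem f → Ideal.span {1 - f} = I → Good f := by
    intro I
    induction I using IsNoetherian.induction with
    | hgt I ih =>
      intro f hf hI
      by_cases hf0 : f = 0
      · exact ⟨∅, by simp, by simp, by simp [hf0]⟩
      by_cases hprim : ∀ g : S, IsIdempotentElem g → g * f = g → g = 0 ∨ g = f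
      · refine ⟨{f}, ?_, ?_, by simp⟩
        · intro g hg
          rw [Finset.mem_singleton] at hg
          subst hg
          exact ⟨hf, hf0, hprim⟩
        · intro g hg h hh hne
          rw [Finset.mem_singleton] at hg hh
          exact absurd (hg.trans hh.symm) hne
      push Not at hprim
      obtain ⟨g, hg, hgf, hg0, hgne⟩ := hprim
      have e1 : f * g = g := by rw [mul_comm]; exact hgf
      have hh : IsIdempotentElem (f - g) := by
        show (f - g) * (f - g) = f - g
        have : (f - g) * (f - g) = f * f - f * g - g * f + g * g := by ring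
        rw [this, hf.eq, e1, hgf, hg.eq]; ring
      have hhf : (f - g) * f = f - g := by rw [sub_mul, hf.eq, hgf]
      have hh0 : f - g ≠ 0 := sub_ne_zero.2 (Ne.symm hgne)
      have hhne : f - g ≠ f := fun e => hg0 (sub_eq_self.1 e)
      have hgh : g * (f - g) = 0 := by rw [mul_sub, hgf, hg.eq, sub_self]
      obtain ⟨t₁, p₁, o₁, s₁⟩ := ih (Ideal.span {1 - g})
        (by rw [← hI]; exact span_lt_of_sub_idem hf hgf hgne) g hg rfl
      obtain ⟨t₂, p₂, o₂, s₂⟩ := ih (Ideal.span {1 - (f - g)})
        (by rw [← hI]; exact span_lt_of_sub_idem hf hhf hhne) (f - g) hh rfl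
      have hcross : ∀ a ∈ t₁, ∀ b ∈ t₂, a * b = 0 := by
        intro a ha b hb
        have h1 : a * g = a := by
          rw [← s₁]; exact mul_sum_of_mem o₁ (fun x hx => (p₁ x hx).1) ha
        have h2 : b * (f - g) = b := by
          rw [← s₂]; exact mul_sum_of_mem o₂ (fun x hx => (p₂ x hx).1) hb
        calc a * b = (a * g) * (b * (f - g)) := by rw [h1, h2]
          _ = a * b * (g * (f - g)) := by ring
          _ = 0 := by rw [hgh, mul_zero]
      have hdisj : Disjoint t₁ t₂ := by
        rw [Finset.disjoint_left]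
        intro a ha hb
        have h0 : a * a = 0 := hcross a ha a hb
        rw [(p₁ a ha).1.eq] at h0
        exact (p₁ a ha).2.1 h0
      refine ⟨t₁ ∪ t₂, ?_, ?_, ?_⟩
      · intro x hx
        rcases Finset.mem_union.1 hx with hx | hx
        · exact p₁ x hx
        · exact p₂ x hx
      · intro x hx y hy hne
        rcases Finset.mem_union.1 hx with hx | hx <;> rcases Finset.mem_union.1 hy with hy | hy
        · exact o₁ x hx y hy hne
        · exact hcross x hx y hy
        · rw [mul_comm]; exact hcross y hy x hx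
        · exact o₂ x hx y hy hne
      · rw [Finset.sum_union hdisj, s₁, s₂]; ring
  exact key _ f hf rfl

theorem IsPrim.connectedSpace {f : S} (hf : IsPrim f) :
    ConnectedSpace (PrimeSpectrum (S ⧸ Ideal.span ({1 - f} : Set S))) := by
  rw [Groth.Agent.Helper14.connectedSpace_primeSpectrum_iff]
  obtain ⟨hfi, hf0, hfp⟩ := hf
  have hkill : ∀ i ∈ Ideal.span ({1 - f} : Set S), i * f = 0 := by
    intro i hi
    obtain ⟨c, rfl⟩ := Ideal.mem_span_singleton'.1 hi
    rw [mul_assoc, sub_mul, one_mul, hfi.eq, sub_self, mul_zero]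
  have hmkf : Ideal.Quotient.mk (Ideal.span ({1 - f} : Set S)) f = 1 := by
    have : Ideal.Quotient.mk (Ideal.span ({1 - f} : Set S)) (1 - f) = 0 :=
      Ideal.Quotient.eq_zero_iff_mem.2 (Ideal.mem_span_singleton_self _)
    rw [map_sub, map_one, sub_eq_zero] at this
    exact this.symm
  refine ⟨?_, ?_⟩
  · rw [Ideal.Quotient.nontrivial_iff]
    intro htop
    have h1 : (1 : S) ∈ Ideal.span ({1 - f} : Set S) := by rw [htop]; trivial
    have := hkill 1 h1
    rw [one_mul] at this
    exact hf0 this
  · intro ebar he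
    obtain ⟨s, rfl⟩ := Ideal.Quotient.mk_surjective ebar
    have hs : s * s - s ∈ Ideal.span ({1 - f} : Set S) := by
      rw [← Ideal.Quotient.eq_zero_iff_mem, map_sub, map_mul, sub_eq_zero]
      exact he
    have hsf := hkill _ hs
    have he' : IsIdempotentElem (s * f) := by
      show s * f * (s * f) = s * f
      have : s * f * (s * f) = (s * s - s) * f * f + s * (f * f) := by ring
      rw [this, hsf, zero_mul, zero_add, hfi.eq]
    have hef : s * f * f = s * f := by rw [mul_assoc, hfi.eq]
    have hmk : Ideal.Quotient.mk (Ideal.span ({1 - f} : Set S)) (s * f) =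
        Ideal.Quotient.mk (Ideal.span ({1 - f} : Set S)) s := by
      rw [map_mul, hmkf, mul_one]
    rcases hfp (s * f) he' hef with h | h
    · left; rw [← hmk, h, map_zero]
    · right; rw [← hmk, h, hmkf]

end Prim

section Sep

variable {k : Type*} [Field k] {R : Type*} [CommRing R] [Algebra k R]

theorem isSeparable_of_isIdempotentElem {e : R} (he : IsIdempotentElem e) : IsSeparable k e := by
  have h1 : Polynomial.aeval e (Polynomial.X * (Polynomial.X - 1) : Polynomial k) = 0 := by
    simp [mul_sub, he.eq]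
  have hsep : (Polynomial.X * (Polynomial.X - 1) : Polynomial k).Separable := by
    have hc : IsCoprime (Polynomial.X : Polynomial k) (Polynomial.X - 1) := ⟨1, -1, by ring⟩
    have h1 : (Polynomial.X - 1 : Polynomial k).Separable := by
      have := Polynomial.separable_X_sub_C (x := (1 : k))
      simpa using this
    exact Polynomial.separable_X.mul h1 hc
  exact hsep.of_dvd (minpoly.dvd k e h1)

theorem isSeparable_map {R' : Type*} [CommRing R'] [Algebra k R'] (φ : R →ₐ[k] R') {b : R}
    (hb : IsSeparable k b) : IsSeparable k (φ b) := by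
  have : Polynomial.aeval (φ b) (minpoly k b) = 0 := by
    rw [Polynomial.aeval_algHom_apply, minpoly.aeval, map_zero]
  exact Polynomial.Separable.of_dvd hb (minpoly.dvd k _ this)

theorem prod_mul_congr (b₁ b₂ w : R) (h : b₁ * w = b₂ * w) (t : Finset k) :
    (∏ l ∈ t, (b₁ - algebraMap k R l)) * w = (∏ l ∈ t, (b₂ - algebraMap k R l)) * w := by
  classical
  induction t using Finset.induction_on with
  | empty => simp
  | insert l t hl ih =>
    rw [Finset.prod_insert hl, Finset.prod_insert hl, mul_assoc, ih]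
    have h' : (b₁ - algebraMap k R l) * w = (b₂ - algebraMap k R l) * w := by
      rw [sub_mul, sub_mul, h]
    calc (b₁ - algebraMap k R l) * ((∏ l ∈ t, (b₂ - algebraMap k R l)) * w)
        = (∏ l ∈ t, (b₂ - algebraMap k R l)) * ((b₁ - algebraMap k R l) * w) := by ring
      _ = (∏ l ∈ t, (b₂ - algebraMap k R l)) * ((b₂ - algebraMap k R l) * w) := by rw [h']
      _ = _ := by ring

theorem mem_span_idem_of_prod_eq_zero (s : Finset k) :
    ∀ b : R, ∏ l ∈ s, (b - algebraMap k R l) = 0 →
      b ∈ Submodule.span k {e : R | IsIdempotentElem e} := by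
  classical
  induction s using Finset.induction_on with
  | empty =>
    intro b hb
    rw [Finset.prod_empty] at hb
    haveI : Subsingleton R := subsingleton_of_zero_eq_one hb.symm
    rw [Subsingleton.elim b 0]; exact zero_mem _
  | insert μ t hμ ih =>
    intro b hb
    rw [Finset.prod_insert hμ] at hb
    obtain ⟨q, hq⟩ : ∃ q : R, q = ∏ l ∈ t, (b - algebraMap k R l) := ⟨_, rfl⟩
    rw [← hq] at hb
    have hbq : b * q = algebraMap k R μ * q := by
      have := hb; rw [sub_mul, sub_eq_zero] at this; exact this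
    obtain ⟨c, hc⟩ : ∃ c : k, c = ∏ l ∈ t, (μ - l) := ⟨_, rfl⟩
    have hc0 : c ≠ 0 := by
      rw [hc]
      exact Finset.prod_ne_zero_iff.2 fun l hl => sub_ne_zero.2 (fun h => hμ (h ▸ hl))
    have hqq : q * q = algebraMap k R c * q := by
      have h1 := prod_mul_congr b (algebraMap k R μ) q hbq t
      rw [← hq] at h1
      rw [h1, hc, map_prod]
      congr 1
      exact Finset.prod_congr rfl fun l _ => (map_sub _ _ _).symm
    obtain ⟨e, he⟩ : ∃ e : R, e = algebraMap k R c⁻¹ * q := ⟨_, rfl⟩
    have hqe : q * e = q := by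
      calc q * e = algebraMap k R c⁻¹ * (q * q) := by rw [he]; ring
        _ = algebraMap k R (c⁻¹ * c) * q := by rw [hqq, map_mul]; ring
        _ = q := by rw [inv_mul_cancel₀ hc0, map_one, one_mul]
    have hee : IsIdempotentElem e := by
      show e * e = e
      calc e * e = algebraMap k R c⁻¹ * (q * e) := by rw [he]; ring
        _ = e := by rw [hqe, he]
    have hbe : b * e = algebraMap k R μ * e := by
      calc b * e = algebraMap k R c⁻¹ * (b * q) := by rw [he]; ring
        _ = algebraMap k R c⁻¹ * (algebraMap k R μ * q) := by rw [hbq]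
        _ = algebraMap k R μ * e := by rw [he]; ring
    have hemem : e ∈ Submodule.span k {e : R | IsIdempotentElem e} := Submodule.subset_span hee
    rcases t.eq_empty_or_nonempty with ht | ⟨ν, hν⟩
    · have hq1 : q = 1 := by rw [hq, ht, Finset.prod_empty]
      rw [hq1, mul_one, sub_eq_zero] at hb
      rw [hb, Algebra.algebraMap_eq_smul_one]
      exact Submodule.smul_mem _ _ (Submodule.subset_span IsIdempotentElem.one)
    · obtain ⟨b', hb'⟩ : ∃ b' : R, b' = b + algebraMap k R (ν - μ) * e := ⟨_, rfl⟩
      have hb'e : b' * e = algebraMap k R ν * e := by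
        rw [hb', add_mul, hbe, mul_assoc, hee.eq, ← add_mul, ← map_add]
        congr 2; ring
      have he1 : e * (1 - e) = 0 := by rw [mul_sub, mul_one, hee.eq, sub_self]
      have hb'1 : b' * (1 - e) = b * (1 - e) := by
        rw [hb', add_mul, mul_assoc, he1, mul_zero, add_zero]
      have hP'e : (∏ l ∈ t, (b' - algebraMap k R l)) * e = 0 := by
        rw [prod_mul_congr b' (algebraMap k R ν) e hb'e t,
          Finset.prod_eq_zero (f := fun l => algebraMap k R ν - algebraMap k R l) hν (sub_self _),
          zero_mul]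
      have hP'1 : (∏ l ∈ t, (b' - algebraMap k R l)) * (1 - e) = 0 := by
        rw [prod_mul_congr b' b (1 - e) hb'1 t, ← hq, mul_sub, mul_one, hqe, sub_self]
      have hP' : ∏ l ∈ t, (b' - algebraMap k R l) = 0 := by
        have : ∏ l ∈ t, (b' - algebraMap k R l) =
            (∏ l ∈ t, (b' - algebraMap k R l)) * e +
              (∏ l ∈ t, (b' - algebraMap k R l)) * (1 - e) := by ring
        rw [this, hP'e, hP'1, add_zero]
      have hb'mem := ih b' hP'
      have : b = b' - (ν - μ) • e := by rw [hb', Algebra.smul_def]; ring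
      rw [this]
      exact Submodule.sub_mem _ hb'mem (Submodule.smul_mem _ _ hemem)

theorem mem_span_idem_of_isSeparable [IsAlgClosed k] (b : R) (hb : IsSeparable k b) :
    b ∈ Submodule.span k {e : R | IsIdempotentElem e} := by
  classical
  have hsep : (minpoly k b).Separable := hb
  have hint : IsIntegral k b := hb.isIntegral
  have hmonic := minpoly.monic hint
  have hsplit : (minpoly k b).Splits := IsAlgClosed.splits _
  have hprod := hsplit.eq_prod_roots_of_monic hmonic
  have hnodup := Polynomial.nodup_roots hsep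
  apply mem_span_idem_of_prod_eq_zero (minpoly k b).roots.toFinset b
  have h0 : Polynomial.aeval b (minpoly k b) = 0 := minpoly.aeval k b
  rw [hprod, map_multiset_prod, Multiset.map_map] at h0
  rw [Finset.prod_eq_multiset_prod, Multiset.toFinset_val, Multiset.dedup_eq_self.2 hnodup]
  convert h0 using 2
  refine Multiset.map_congr rfl fun l _ => ?_
  simp

end Sep

section AlgClosed

variable {k : Type u} [Field k] [IsAlgClosed k] {R : Type u} [CommRing R] [Algebra k R]

theorem idem_corner {S : Type u} [CommRing S] [Algebra k S] {f : S} (hf : IsPrim f)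
    (y : R ⊗[k] S) (hy : IsIdempotentElem y) (hyf : y * ((1 : R) ⊗ₜ[k] f) = y) :
    ∃ e : R, IsIdempotentElem e ∧ y = e ⊗ₜ[k] f := by
  haveI : ConnectedSpace (PrimeSpectrum (S ⧸ Ideal.span ({1 - f} : Set S))) := hf.connectedSpace
  have hS : ∀ (k' : Type u) [Field k'] [Algebra k k'],
      ConnectedSpace (PrimeSpectrum (k' ⊗[k] (S ⧸ Ideal.span ({1 - f} : Set S)))) :=
    fun k' _ _ => Groth.Agent.Helper14.AlgClosedTensor.connectedSpace_tensor
      (S ⧸ Ideal.span ({1 - f} : Set S)) k'
  let q : S →ₐ[k] S ⧸ Ideal.span ({1 - f} : Set S) := Ideal.Quotient.mkₐ k _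
  let F : R ⊗[k] S →ₐ[k] R ⊗[k] (S ⧸ Ideal.span ({1 - f} : Set S)) :=
    Algebra.TensorProduct.map (AlgHom.id k R) q
  have hFy : IsIdempotentElem (F y) := hy.map F
  obtain ⟨e, he, hex⟩ := Groth.Agent.Helper14.IdemTensor.exists_idempotent hS (F y) hFy
  refine ⟨e, he, ?_⟩
  have hqf : q f = 1 := by
    have : q (1 - f) = 0 := Ideal.Quotient.eq_zero_iff_mem.2 (Ideal.mem_span_singleton_self _)
    rw [map_sub, map_one, sub_eq_zero] at this
    exact this.symm
  have hFz : F (y - e ⊗ₜ[k] f) = 0 := by
    rw [map_sub, Algebra.TensorProduct.map_tmul, hqf, ← hex, Algebra.TensorProduct.algebraMap_apply]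
    simp
  have hzker : (y - e ⊗ₜ[k] f) ∈ RingHom.ker F := hFz
  rw [Algebra.TensorProduct.lTensor_ker q (Ideal.Quotient.mkₐ_surjective k _)] at hzker
  have hann : ∀ w ∈ Ideal.map (Algebra.TensorProduct.includeRight : S →ₐ[k] R ⊗[k] S)
      (RingHom.ker q), w * ((1 : R) ⊗ₜ[k] f) = 0 := by
    intro w hw
    induction hw using Submodule.span_induction with
    | mem x hx =>
      obtain ⟨i, hi, rfl⟩ := hx
      have hi' : i ∈ Ideal.span ({1 - f} : Set S) := by
        have : RingHom.ker q = Ideal.span ({1 - f} : Set S) := Ideal.Quotient.mkₐ_ker k _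
        rw [← this]; exact hi
      obtain ⟨c, rfl⟩ := Ideal.mem_span_singleton'.1 hi'
      show ((1 : R) ⊗ₜ[k] (c * (1 - f))) * ((1 : R) ⊗ₜ[k] f) = 0
      have h0 : c * (1 - f) * f = 0 := by
        rw [mul_assoc, sub_mul, one_mul, hf.1.eq, sub_self, mul_zero]
      rw [Algebra.TensorProduct.tmul_mul_tmul, h0, TensorProduct.tmul_zero]
    | zero => exact zero_mul _
    | add x y _ _ hx hy => rw [add_mul, hx, hy, add_zero]
    | smul a x _ hx => rw [smul_eq_mul, mul_assoc, hx, mul_zero]
  have hzf : (y - e ⊗ₜ[k] f) * ((1 : R) ⊗ₜ[k] f) = y - e ⊗ₜ[k] f := by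
    rw [sub_mul, hyf, Algebra.TensorProduct.tmul_mul_tmul, mul_one, hf.1.eq]
  have : y - e ⊗ₜ[k] f = 0 := by rw [← hzf]; exact hann _ hzker
  exact sub_eq_zero.1 this

omit [IsAlgClosed k] in
theorem range_mono_right {R' : Type u} [CommRing R'] [Algebra k R'] {S₁ S₂ : Subalgebra k R'}
    (h : S₁ ≤ S₂) :
    (Algebra.TensorProduct.map (AlgHom.id k R) S₁.val).range ≤
      (Algebra.TensorProduct.map (AlgHom.id k R) S₂.val).range := by
  rintro _ ⟨x, rfl⟩
  refine ⟨Algebra.TensorProduct.map (AlgHom.id k R) (Subalgebra.inclusion h) x, ?_⟩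
  induction x using TensorProduct.induction_on with
  | zero => simp
  | tmul a r => rfl
  | add x y hx hy => simp only [map_add, hx, hy]

omit [IsAlgClosed k] in
theorem exists_fg_right {R' : Type u} [CommRing R'] [Algebra k R'] (x : R ⊗[k] R') :
    ∃ S' : Subalgebra k R', S'.FG ∧
      x ∈ (Algebra.TensorProduct.map (AlgHom.id k R) S'.val).range := by
  induction x using TensorProduct.induction_on with
  | zero => exact ⟨⊥, Subalgebra.fg_bot, zero_mem _⟩
  | tmul r c =>
    refine ⟨Algebra.adjoin k {c}, ?_, ?_⟩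
    · have := Subalgebra.fg_adjoin_finset (R := k) ({c} : Finset R')
      simpa using this
    · exact ⟨r ⊗ₜ (⟨c, Algebra.subset_adjoin (Set.mem_singleton c)⟩ : Algebra.adjoin k {c}), rfl⟩
  | add x y hx hy =>
    obtain ⟨A, hA, hxA⟩ := hx
    obtain ⟨B, hB, hyB⟩ := hy
    exact ⟨A ⊔ B, hA.sup hB, add_mem (range_mono_right le_sup_left hxA)
      (range_mono_right le_sup_right hyB)⟩

theorem idem_mem_range {R' : Type u} [CommRing R'] [Algebra k R'] (P : Subalgebra k R)
    (P' : Subalgebra k R') (hP : ∀ e : R, IsIdempotentElem e → e ∈ P)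
    (hP' : ∀ e : R', IsIdempotentElem e → e ∈ P') (x : R ⊗[k] R') (hx : IsIdempotentElem x) :
    x ∈ LinearMap.range (TensorProduct.map P.val.toLinearMap P'.val.toLinearMap) := by
  classical
  obtain ⟨S', hS', hxS⟩ := exists_fg_right x
  obtain ⟨x', rfl⟩ := hxS
  have hinj : Function.Injective (Algebra.TensorProduct.map (AlgHom.id k R) S'.val) :=
    Module.Flat.lTensor_preserves_injective_linearMap (M := R) S'.val.toLinearMap
      Subtype.val_injective
  have hx' : IsIdempotentElem x' := by
    apply hinj
    rw [map_mul]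
    exact hx
  haveI : Algebra.FiniteType k S' := ⟨S'.fg_top.mpr hS'⟩
  haveI : IsNoetherianRing S' := Algebra.FiniteType.isNoetherianRing k S'
  obtain ⟨t, hprim, horth, hsum⟩ := good_of_isNoetherianRing (1 : S') IsIdempotentElem.one
  have hcorner : ∀ f ∈ t, ∃ e : R, IsIdempotentElem e ∧
      x' * ((1 : R) ⊗ₜ[k] f) = e ⊗ₜ[k] f := by
    intro f hf
    have hf1 : IsIdempotentElem ((1 : R) ⊗ₜ[k] f : R ⊗[k] S') := by
      show _ * _ = _
      rw [Algebra.TensorProduct.tmul_mul_tmul, mul_one, (hprim f hf).1.eq]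
    exact idem_corner (hprim f hf) _ (hx'.mul hf1) (by rw [mul_assoc, hf1.eq])
  choose! e he hxe using hcorner
  have hx'sum : x' = ∑ f ∈ t, e f ⊗ₜ[k] f := by
    calc x' = x' * ((1 : R) ⊗ₜ[k] (1 : S')) := by
          rw [← Algebra.TensorProduct.one_def, mul_one]
      _ = x' * ((1 : R) ⊗ₜ[k] ∑ f ∈ t, f) := by rw [hsum]
      _ = ∑ f ∈ t, x' * ((1 : R) ⊗ₜ[k] f) := by rw [TensorProduct.tmul_sum, Finset.mul_sum]
      _ = ∑ f ∈ t, e f ⊗ₜ[k] f := Finset.sum_congr rfl hxe
  rw [hx'sum, map_sum]
  refine Submodule.sum_mem _ fun f hf => ?_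
  have hfR' : IsIdempotentElem (f : R') := congrArg Subtype.val (hprim f hf).1
  exact ⟨(⟨e f, hP _ (he f hf)⟩ : P) ⊗ₜ[k] (⟨(f : R'), hP' _ hfR'⟩ : P'), rfl⟩

/-- If `Δ : A → A ⊗ A` is an algebra map mapping the subalgebra `C` into `C ⊗ C`, and `D` is the
subalgebra of separable elements of `C`, then `Δ` maps `D` into `D ⊗ D`. -/
theorem comul_mem_range_of_isSeparable {A : Type u} [CommRing A] [Algebra k A]
    (Δ : A →ₐ[k] A ⊗[k] A) (C : Subalgebra k A)
    (hC : ∀ c ∈ C, Δ c ∈
      LinearMap.range (TensorProduct.map C.val.toLinearMap C.val.toLinearMap))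
    (D : Subalgebra k A) (hD : ∀ a, a ∈ D ↔ (a ∈ C ∧ IsSeparable k a)) :
    ∀ b ∈ D, Δ b ∈ LinearMap.range (TensorProduct.map D.val.toLinearMap D.val.toLinearMap) := by
  classical
  have hι : Function.Injective (TensorProduct.map C.val.toLinearMap C.val.toLinearMap) :=
    TensorProduct.map_injective_of_flat_flat _ _ Subtype.val_injective Subtype.val_injective
  let P : Subalgebra k C := D.comap C.val
  have hP : ∀ e : C, IsIdempotentElem e → e ∈ P := by
    intro e he
    show C.val e ∈ D
    rw [hD]
    exact ⟨e.2, isSeparable_of_isIdempotentElem (congrArg Subtype.val he)⟩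
  let j : P →ₐ[k] D := (C.val.comp P.val).codRestrict D (fun c => c.2)
  have hcomp : ∀ y : P ⊗[k] P,
      TensorProduct.map D.val.toLinearMap D.val.toLinearMap
        (TensorProduct.map j.toLinearMap j.toLinearMap y) =
      TensorProduct.map C.val.toLinearMap C.val.toLinearMap
        (TensorProduct.map P.val.toLinearMap P.val.toLinearMap y) := by
    intro y
    induction y using TensorProduct.induction_on with
    | zero => simp
    | tmul a b => rfl
    | add y₁ y₂ h₁ h₂ => simp only [map_add, h₁, h₂]
  have hspan : Submodule.span k {e : C | IsIdempotentElem e} ≤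
      Submodule.comap (Δ.toLinearMap ∘ₗ C.val.toLinearMap)
        (LinearMap.range (TensorProduct.map D.val.toLinearMap D.val.toLinearMap)) := by
    rw [Submodule.span_le]
    intro e he
    show Δ (e : A) ∈ LinearMap.range (TensorProduct.map D.val.toLinearMap D.val.toLinearMap)
    obtain ⟨x, hx⟩ := hC e e.2
    have hxi : IsIdempotentElem x := by
      apply hι
      have h1 : TensorProduct.map C.val.toLinearMap C.val.toLinearMap (x * x) =
          TensorProduct.map C.val.toLinearMap C.val.toLinearMap x *
            TensorProduct.map C.val.toLinearMap C.val.toLinearMap x :=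
        map_mul (Algebra.TensorProduct.map C.val C.val) x x
      rw [h1, hx, ← map_mul]
      congr 1
      exact congrArg Subtype.val he
    obtain ⟨y, rfl⟩ := idem_mem_range P P hP hP x hxi
    refine ⟨TensorProduct.map j.toLinearMap j.toLinearMap y, ?_⟩
    rw [← hx]
    exact hcomp y
  intro b hb
  obtain ⟨hbC, hbsep⟩ := (hD b).1 hb
  have hsepC : IsSeparable k (⟨b, hbC⟩ : C) := by
    show (minpoly k (⟨b, hbC⟩ : C)).Separable
    rw [← minpoly.algHom_eq C.val Subtype.val_injective]
    exact hbsep
  exact hspan (mem_span_idem_of_isSeparable _ hsepC)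

end AlgClosed

end Groth.Agent.Helper6.PiZero
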