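import Mathlib
import Groth.Agent.Lib.Helper6.PicDescA
import Groth.Agent.Lib.Helper22.AlbTriv

/-!
# Descent of triviality of invertible modules, in the language of classes (helper6)
-/

set_option autoImplicit false
set_option maxRecDepth 8000
universe u
open CategoryTheory CategoryTheory.Limits AlgebraicGeometry Opposite TopologicalSpace TensorProduct

namespace Groth.Agent.Helper6.PicDesc

/-- equality of classes gives an isomorphism. -/
theorem nonempty_iso_of_cl_eq {Y : Scheme.{u}} {M N : Y.Modules} (h : PicF.cl M = PicF.cl N) :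
    Nonempty (M ≅ N) := by
  have h1 := Quot.eqvGen_exact h
  have heq : Equivalence (fun L L' : Y.Modules => Nonempty (L ≅ L')) :=
    ⟨fun _ => ⟨Iso.refl _⟩, fun ⟨e⟩ => ⟨e.symm⟩, fun ⟨e⟩ ⟨f⟩ => ⟨e ≪≫ f⟩⟩
  exact (heq.eqvGen_iff).1 h1

theorem cl_eq_of_iso {Y : Scheme.{u}} {M N : Y.Modules} (i : M ≅ N) : PicF.cl M = PicF.cl N :=
  Quot.sound ⟨i⟩

/-- if `H^0(X, O_X)` is finite over a field then the ring of global functions is semilocal. -/
theorem finite_maximalSpectrum_of_finite_h0 (k : Type u) [Field k] (X : Scheme.{u})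
    [X.Over (Spec (CommRingCat.of k))]
    (hfin : Module.Finite k (Coh.HH X (Coh.structureModule X) 0)) :
    Finite (MaximalSpectrum Γ(X, ⊤)) := by
  let φ : k →+* Γ(X, ⊤) :=
    ((X ↘ Spec (CommRingCat.of k)).appTop).hom.comp (Scheme.ΓSpecIso (CommRingCat.of k)).inv.hom
  letI : Algebra k Γ(X, ⊤) := φ.toAlgebra
  let E : Coh.HH X (Coh.structureModule X) 0 ≃ₗ[k] Γ(X, ⊤) :=
    { toFun := fun x => (Groth.Agent.Helper22.AlbTriv.h0Equiv X x : Coh.Γtop X)
      invFun := fun y => (Groth.Agent.Helper22.AlbTriv.h0Equiv X).symm y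
      map_add' := fun x y => map_add (Groth.Agent.Helper22.AlbTriv.h0Equiv X) x y
      map_smul' := fun c x => Groth.Agent.Helper22.AlbTriv.h0Equiv_smul X
        (Coh.toGlobal (X ↘ Spec (CommRingCat.of k)) c) x
      left_inv := fun x => (Groth.Agent.Helper22.AlbTriv.h0Equiv X).symm_apply_apply x
      right_inv := fun y => (Groth.Agent.Helper22.AlbTriv.h0Equiv X).apply_symm_apply y }
  haveI : Module.Finite k Γ(X, ⊤) := Module.Finite.equiv E
  haveI : IsArtinianRing Γ(X, ⊤) := IsArtinianRing.of_finite k Γ(X, ⊤)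
  infer_instance

end Groth.Agent.Helper6.PicDesc
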