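import Mathlib

set_option autoImplicit false
universe u v w

/-!
# An augmented algebra whose augmentation ideal is generated by a nilpotent element is spanned
by the powers of that element
-/

namespace Groth.Agent.Lib.Helper6.PowSpan

variable {k : Type u} [Field k] {A : Type v} [CommRing A] [Algebra k A]

theorem top_le_span_pow (ε : A →ₐ[k] k) (x : A) (n : ℕ) (hx : x ^ n = 0)
    (hI : RingHom.ker ε = Ideal.span ({x} : Set A)) :
    ⊤ ≤ Submodule.span k (Set.range fun i : Fin n => x ^ (i : ℕ)) := by
  set W := Submodule.span k (Set.range fun i : Fin n => x ^ (i : ℕ)) with hW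
  have key : ∀ j : ℕ, j ≤ n → ∀ a : A, ∃ w ∈ W, ∃ b : A, a = w + x ^ j * b := by
    intro j
    induction j with
    | zero =>
      intro _ a
      exact ⟨0, W.zero_mem, a, by rw [pow_zero, one_mul, zero_add]⟩
    | succ j ih =>
      intro hj a
      obtain ⟨w, hw, b, hab⟩ := ih (Nat.le_of_succ_le hj) a
      have hb : b - algebraMap k A (ε b) ∈ RingHom.ker ε := by
        rw [RingHom.mem_ker, map_sub, AlgHom.commutes]
        exact sub_self _
      rw [hI, Ideal.mem_span_singleton'] at hb
      obtain ⟨c, hc⟩ := hb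
      have hxj : x ^ j ∈ W := Submodule.subset_span ⟨⟨j, hj⟩, rfl⟩
      refine ⟨w + ε b • x ^ j, W.add_mem hw (W.smul_mem _ hxj), c, ?_⟩
      rw [hab, Algebra.smul_def, pow_succ]
      linear_combination (x ^ j) * hc.symm
  intro a _
  obtain ⟨w, hw, b, hab⟩ := key n le_rfl a
  rw [hx, zero_mul, add_zero] at hab
  rw [hab]
  exact hw

theorem finrank_le (ε : A →ₐ[k] k) (x : A) (n : ℕ) (hx : x ^ n = 0)
    (hI : RingHom.ker ε = Ideal.span ({x} : Set A)) [Module.Finite k A] :
    Module.finrank k A ≤ n := by
  have h := top_le_span_pow ε x n hx hI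
  have h2 := finrank_range_le_card (R := k) (fun i : Fin n => x ^ (i : ℕ))
  rw [Fintype.card_fin] at h2
  refine le_trans ?_ h2
  unfold Set.finrank
  rw [top_le_iff.1 h, finrank_top]

end Groth.Agent.Lib.Helper6.PowSpan
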