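import Groth.Agent.Lib.Helper6.ProjNull
import Mathlib.AlgebraicGeometry.ProjectiveSpectrum.Functor

set_option autoImplicit false
universe u

namespace Groth.Agent.Helper6

open AlgebraicGeometry HomogeneousLocalization CategoryTheory

variable {A B σ τ : Type u} [CommRing A] [SetLike σ A] [AddSubgroupClass σ A]
  [CommRing B] [SetLike τ B] [AddSubgroupClass τ B]
  {𝒜 : ℕ → σ} {ℬ : ℕ → τ} [GradedRing 𝒜] [GradedRing ℬ]
  (φ : 𝒜 →+*ᵍ ℬ) (hφ : HomogeneousIdeal.irrelevant ℬ ≤ (HomogeneousIdeal.irrelevant 𝒜).map φ)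

theorem map_mem_irrelevant {a : A} (ha : a ∈ (HomogeneousIdeal.irrelevant 𝒜).toIdeal) :
    φ a ∈ (HomogeneousIdeal.irrelevant ℬ).toIdeal := by
  classical
  change a ∈ HomogeneousIdeal.irrelevant 𝒜 at ha
  change φ a ∈ HomogeneousIdeal.irrelevant ℬ
  rw [HomogeneousIdeal.mem_irrelevant_iff, GradedRing.proj_apply] at ha ⊢
  rw [← GradedRingHom.map_directSumDecompose, ha, map_zero]

/-- For a non-nilpotent element of the irrelevant ideal there is a point of Proj avoiding it. -/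
theorem exists_projSpec_notMem_of_not_isNilpotent {f : A}
    (hf : f ∈ (HomogeneousIdeal.irrelevant 𝒜).toIdeal) (hn : ¬ IsNilpotent f) :
    ∃ p : ProjectiveSpectrum 𝒜, f ∉ p.asHomogeneousIdeal.toIdeal := by
  have hrad : f ∉ (⊥ : Ideal A).radical := by
    intro h
    obtain ⟨n, hn'⟩ := h
    exact hn ⟨n, by simpa using hn'⟩
  obtain ⟨p, -, hp⟩ := exists_projSpec_of_notMem_radical 𝒜 ⊥ (Ideal.IsHomogeneous.bot 𝒜) f hf hrad
  exact ⟨p, hp⟩

theorem proj_map_denseRange (hker : ∀ a : A, φ a = 0 → IsNilpotent a) :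
    DenseRange (Proj.map φ hφ).base := by
  have hb := (ProjectiveSpectrum.isTopologicalBasis_basic_opens 𝒜).dense_iff
    (s := Set.range (Proj.map φ hφ).base)
  refine hb.mpr ?_
  rintro _ ⟨r, rfl⟩ ⟨p, hp⟩
  have hrp : r ∉ p.asHomogeneousIdeal.toIdeal := hp
  obtain ⟨h, hh, hhp⟩ := SetLike.not_le_iff_exists.mp p.not_irrelevant_le
  have hf : r * h ∈ (HomogeneousIdeal.irrelevant 𝒜).toIdeal := Ideal.mul_mem_left _ _ hh
  have hfp : r * h ∉ p.asHomogeneousIdeal.toIdeal := by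
    intro hmem
    rcases p.isPrime.mem_or_mem hmem with h1 | h1
    · exact hrp h1
    · exact hhp h1
  have hnil : ¬ IsNilpotent (r * h) := by
    rintro ⟨n, hn⟩
    apply hfp
    apply p.isPrime.mem_of_pow_mem n
    rw [hn]; exact Ideal.zero_mem _
  have hnil' : ¬ IsNilpotent (φ (r * h)) := by
    rintro ⟨n, hn⟩
    rw [← map_pow] at hn
    obtain ⟨m, hm⟩ := hker _ hn
    exact hnil ⟨n * m, by rw [pow_mul, hm]⟩
  obtain ⟨q, hq⟩ := exists_projSpec_notMem_of_not_isNilpotent (𝒜 := ℬ)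
    (map_mem_irrelevant φ hf) hnil'
  refine ⟨(Proj.map φ hφ).base q, ?_, ⟨q, rfl⟩⟩
  change r ∉ (q.asHomogeneousIdeal.comap φ).toIdeal
  intro hr
  apply hq
  rw [map_mul]
  exact Ideal.mul_mem_right _ _ hr

end Groth.Agent.Helper6
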