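import Groth.Agent.Lib.Helper6.GrTwistComapIsoA

/-!
# `Proj` of a localization at a degree-zero element

For `ψ : 𝒜 →+*ᵍ ℬ` which looks like the localization at a degree-zero element `g`
(`hker`, `hlift`, `hu`): `Proj.map ψ` is an open immersion with range the preimage of `D(g)`,
and the adjunct of `GrTwist.comap ψ hψ n` is an isomorphism.
-/

set_option autoImplicit false
set_option linter.style.haveILetI false
set_option linter.unusedSectionVars false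
universe u
open DirectSum CategoryTheory CategoryTheory.Limits AlgebraicGeometry Opposite TopologicalSpace
open scoped HomogeneousIdeal
open HomogeneousLocalization

namespace Groth.Agent.Helper6.ProjLoc

open Groth.Agent.Helper6.GrModFrac Groth.Agent.Helper6.GrModComap
open Groth.Agent.Helper28.GrModQcoh Groth.Agent.Helper6.GrTwistComapIso

section OneRing

variable {A σ : Type u} [CommRing A] [SetLike σ A] [AddSubgroupClass σ A] (𝒜 : ℕ → σ) [GradedRing 𝒜]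

theorem away_mk_eq_iff {d : ℕ} {f : A} (hf : f ∈ 𝒜 d) (k k' : ℕ) (a a' : A)
    (ha : a ∈ 𝒜 (k • d)) (ha' : a' ∈ 𝒜 (k' • d)) :
    Away.mk 𝒜 hf k a ha = Away.mk 𝒜 hf k' a' ha' ↔
      ∃ j : ℕ, f ^ j * (f ^ k' * a) = f ^ j * (f ^ k * a') := by
  constructor
  · intro h
    have h' := congrArg HomogeneousLocalization.val h
    rw [Away.val_mk, Away.val_mk, Localization.mk_eq_mk_iff, Localization.r_iff_exists] at h'
    obtain ⟨⟨_, j, rfl⟩, hj⟩ := h'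
    exact ⟨j, hj⟩
  · rintro ⟨j, hj⟩
    apply HomogeneousLocalization.val_injective
    rw [Away.val_mk, Away.val_mk, Localization.mk_eq_mk_iff, Localization.r_iff_exists]
    exact ⟨⟨f ^ j, j, rfl⟩, hj⟩

theorem away_mk_congr {d : ℕ} {f : A} (hf : f ∈ 𝒜 d) (k : ℕ) {a a' : A} (h : a = a')
    (ha : a ∈ 𝒜 (k • d)) (ha' : a' ∈ 𝒜 (k • d)) :
    Away.mk 𝒜 hf k a ha = Away.mk 𝒜 hf k a' ha' := by
  subst h; rfl

theorem zero_smul_mem {g : A} (hg : g ∈ 𝒜 0) (d : ℕ) : g ∈ 𝒜 (0 • d) := by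
  rw [zero_smul]; exact hg

theorem gpow_mul_mem {g : A} (hg : g ∈ 𝒜 0) (i : ℕ) {q : ℕ} {a : A} (ha : a ∈ 𝒜 q) :
    g ^ i * a ∈ 𝒜 q := by
  have h1 : g ^ i ∈ 𝒜 (i • 0) := SetLike.pow_mem_graded i hg
  have h2 := SetLike.mul_mem_graded h1 ha
  rwa [smul_zero, zero_add] at h2

/-- `g / 1` in `A_(f)` for `g` of degree zero. -/
def gz {g : A} (hg : g ∈ 𝒜 0) {d : ℕ} {f : A} (hf : f ∈ 𝒜 d) : Away 𝒜 f :=
  Away.mk 𝒜 hf 0 g (zero_smul_mem 𝒜 hg d)

theorem fromZero_eq_gz {g : A} (hg : g ∈ 𝒜 0) {d : ℕ} {f : A} (hf : f ∈ 𝒜 d) :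
    fromZeroRingHom 𝒜 (Submonoid.powers f) ⟨g, hg⟩ = gz 𝒜 hg hf := by
  apply HomogeneousLocalization.val_injective
  refine Eq.trans (b := Localization.mk g (1 : Submonoid.powers f)) rfl ?_
  rw [gz, Away.val_mk, Localization.mk_eq_mk_iff, Localization.r_iff_exists]
  exact ⟨1, by simp⟩

theorem gz_pow_mul_mk {g : A} (hg : g ∈ 𝒜 0) {d : ℕ} {f : A} (hf : f ∈ 𝒜 d) (i k : ℕ) (a : A)
    (ha : a ∈ 𝒜 (k • d)) (ha' : g ^ i * a ∈ 𝒜 (k • d)) :
    gz 𝒜 hg hf ^ i * Away.mk 𝒜 hf k a ha = Away.mk 𝒜 hf k (g ^ i * a) ha' := by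
  apply HomogeneousLocalization.val_injective
  rw [HomogeneousLocalization.val_mul, HomogeneousLocalization.val_pow, gz, Away.val_mk,
    Away.val_mk, Away.val_mk, Localization.mk_pow, Localization.mk_mul,
    Localization.mk_eq_mk_iff, Localization.r_iff_exists]
  refine ⟨1, ?_⟩
  simp

theorem isUnit_gz_of_mul {g : A} (hg : g ∈ 𝒜 0) {d : ℕ} {f c : A} (hf : f ∈ 𝒜 d) (hc : c ∈ 𝒜 d)
    (hfc : f = c * g) : IsUnit (gz 𝒜 hg hf) := by
  have hc1 : c ∈ 𝒜 (1 • d) := by rw [one_smul]; exact hc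
  have h1 : gz 𝒜 hg hf * Away.mk 𝒜 hf 1 c hc1 = 1 := by
    apply HomogeneousLocalization.val_injective
    rw [HomogeneousLocalization.val_mul, gz, Away.val_mk, Away.val_mk,
      HomogeneousLocalization.val_one, Localization.mk_mul, ← Localization.mk_one,
      Localization.mk_eq_mk_iff, Localization.r_iff_exists]
    refine ⟨1, ?_⟩
    simp only [OneMemClass.coe_one, one_mul, Submonoid.coe_mul, pow_zero, pow_one, mul_one]
    rw [hfc, mul_comm]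
  exact ⟨⟨_, _, h1, by rw [mul_comm]; exact h1⟩, rfl⟩

theorem exists_chart (x : Proj 𝒜) : ∃ (d : ℕ) (hd : 0 < d) (f : A) (hf : f ∈ 𝒜 d)
    (p : Spec (.of (Away 𝒜 f))), (Proj.awayι 𝒜 f hf hd).base p = x := by
  obtain ⟨⟨⟨i, hi⟩, ⟨f, hf0⟩⟩, p, hp⟩ := (Proj.affineOpenCover 𝒜).openCover.exists_eq x
  exact ⟨i, hi, f, hf0, p, hp⟩

theorem toSpecZero_awayι_mem {g : A} (hg : g ∈ 𝒜 0) {d : ℕ} (hd : 0 < d) {f : A} (hf : f ∈ 𝒜 d)
    (p : Spec (.of (Away 𝒜 f))) :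
    (Proj.toSpecZero 𝒜).base ((Proj.awayι 𝒜 f hf hd).base p) ∈
      (PrimeSpectrum.basicOpen (⟨g, hg⟩ : 𝒜 0) : Set (PrimeSpectrum (𝒜 0))) ↔
    gz 𝒜 hg hf ∉ p.asIdeal := by
  have h1 : (Proj.toSpecZero 𝒜).base ((Proj.awayι 𝒜 f hf hd).base p) =
      (Spec.map (CommRingCat.ofHom (fromZeroRingHom 𝒜 (Submonoid.powers f)))).base p :=
    congrArg (fun φ : Spec (.of (Away 𝒜 f)) ⟶ Spec (.of (𝒜 0)) => φ.base p)
      (Proj.awayι_toSpecZero 𝒜 f hf hd)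
  rw [h1, ← fromZero_eq_gz 𝒜 hg hf]
  exact Iff.rfl

theorem basicOpen_eq_of_unit_mul {b b' w : A} (hw : IsUnit w) (h : b' = w * b) :
    Proj.basicOpen 𝒜 b = Proj.basicOpen 𝒜 b' := by
  subst h
  refine TopologicalSpace.Opens.ext (Set.ext fun y => ?_)
  show b ∉ y.asHomogeneousIdeal.toIdeal ↔ w * b ∉ y.asHomogeneousIdeal.toIdeal
  refine not_congr ⟨fun hb => Ideal.mul_mem_left _ w hb, fun hwb => ?_⟩
  obtain ⟨w', hw'⟩ := hw.exists_left_inv
  have h2 := Ideal.mul_mem_left y.asHomogeneousIdeal.toIdeal w' hwb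
  rwa [← mul_assoc, hw', one_mul] at h2

end OneRing

variable {A σ : Type u} [CommRing A] [SetLike σ A] [AddSubgroupClass σ A] {𝒜 : ℕ → σ}
    [GradedRing 𝒜] {B σ' : Type u} [CommRing B] [SetLike σ' B] [AddSubgroupClass σ' B] {ℬ : ℕ → σ'} [GradedRing ℬ]
    (ψ : 𝒜 →+*ᵍ ℬ) (hψ : ℬ₊ ≤ (𝒜₊).map ψ)

section Part1

variable {M τ : Type u} [AddCommGroup M] [Module A M] [SetLike τ M] [AddSubgroupClass τ M] (ℳ : ℕ → τ)
    [SetLike.GradedSMul 𝒜 ℳ] [DirectSum.Decomposition ℳ]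
    {N τ' : Type u} [AddCommGroup N] [Module B N] [SetLike τ' N] [AddSubgroupClass τ' N] (𝒩 : ℕ → τ')
    [SetLike.GradedSMul ℬ 𝒩] [DirectSum.Decomposition 𝒩]
    (v : M →ₛₗ[ψ.toRingHom] N) (hv : ∀ (i : ℕ) (m : M), m ∈ ℳ i → v m ∈ 𝒩 i)

set_option maxHeartbeats 800000 in
theorem comapApp_bijective_of_loc {g c f : A} {d : ℕ} (hd : 0 < d)
    (hc : c ∈ 𝒜 d) (hf : f ∈ 𝒜 d) (hfc : f = c * g)
    (hker : ∀ i, ∀ m ∈ ℳ i, v m = 0 → ∃ j : ℕ, g ^ j • m = 0)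
    (hlift : ∀ i, ∀ y ∈ 𝒩 i, ∃ k : ℕ, ∃ m ∈ ℳ i, ψ g ^ k • y = v m)
    (n : ℤ) :
    Function.Bijective (GrMod.comapApp ψ hψ v hv n (ProjectiveSpectrum.basicOpen 𝒜 f)
        (ProjectiveSpectrum.basicOpen ℬ (ψ f)) (basicOpen_subset ψ hψ f)) := by
  have hψf : ψ f ∈ ℬ d := ψ.map_mem hf
  constructor
  · rw [injective_iff_map_eq_zero]
    intro s hs
    obtain ⟨L, q, m, hm, hq, hval⟩ := exists_global_frac 𝒜 ℳ n hd hf s
    have hkill : ∀ y : ProjectiveSpectrum ℬ, ψ f ∉ y.asHomogeneousIdeal →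
        ∃ t : B, t ∉ y.asHomogeneousIdeal ∧ t • v m = 0 := by
      intro y hy
      have h1 : valAt ℬ 𝒩 n (GrMod.comapApp ψ hψ v hv n (ProjectiveSpectrum.basicOpen 𝒜 f)
          (ProjectiveSpectrum.basicOpen ℬ (ψ f)) (basicOpen_subset ψ hψ f) s) y hy = 0 := by
        rw [hs]
        rfl
      rw [valAt_comapApp, hval _ (notMem_comap ψ hψ y hy), GrMod.locModMap_mk] at h1
      rw [← LocalizedModule.zero_mk 1, LocalizedModule.mk_eq] at h1
      obtain ⟨t, ht⟩ := h1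
      refine ⟨t.1, t.2, ?_⟩
      rw [one_smul, smul_zero, smul_zero] at ht
      exact ht
    obtain ⟨K, hK⟩ := exists_pow_smul_eq_zero ℬ 𝒩 hd hψf (hv q m hm) hkill
    have h3 : v (f ^ K • m) = 0 := by
      rw [LinearMap.map_smulₛₗ]
      change ψ (f ^ K) • v m = 0
      rw [map_pow, hK]
    have hmem : f ^ K • m ∈ ℳ (K • d + q) :=
      SetLike.GradedSMul.smul_mem (SetLike.pow_mem_graded K hf) hm
    obtain ⟨j, hj⟩ := hker _ _ hmem h3
    have h4 : f ^ (j + K) • m = 0 := by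
      have e1 : f ^ (j + K) • m = c ^ j • (g ^ j • (f ^ K • m)) := by
        rw [← mul_smul, ← mul_smul, ← mul_pow, ← hfc, ← pow_add]
      rw [e1, hj, smul_zero]
    refine Subtype.ext (funext fun x => Subtype.ext ?_)
    have hx : f ∉ x.1.asHomogeneousIdeal := (ProjectiveSpectrum.mem_basicOpen 𝒜 f x.1).1 x.2
    have h5 := hval x.1 hx
    change valAt 𝒜 ℳ n s x.1 hx = 0
    rw [h5, ← LocalizedModule.zero_mk 1, LocalizedModule.mk_eq]
    refine ⟨⟨f ^ (j + K), pow_mem_primeCompl 𝒜 x.1 hx (j + K)⟩, ?_⟩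
    rw [one_smul, smul_zero, smul_zero]
    exact h4
  · intro t
    obtain ⟨L, q, n', hn', hq, hval⟩ := exists_global_frac ℬ 𝒩 n hd hψf t
    obtain ⟨k, m, hm, hkm⟩ := hlift q n' hn'
    have hmem : c ^ k • m ∈ ℳ (k • d + q) :=
      SetLike.GradedSMul.smul_mem (SetLike.pow_mem_graded k hc) hm
    have hij : ((k • d + q : ℕ) : ℤ) = (((L + k) • d : ℕ) : ℤ) + n := by
      simp only [smul_eq_mul]
      push_cast
      rw [hq]; ring
    refine ⟨fracPow 𝒜 ℳ n hf (L + k) ⟨c ^ k • m, hmem⟩ hij, ?_⟩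
    refine Subtype.ext (funext fun ⟨y0, hyV⟩ => Subtype.ext ?_)
    obtain ⟨y, rfl⟩ : ∃ y : ProjectiveSpectrum ℬ, y = y0 := ⟨y0, rfl⟩
    have hy : ψ f ∉ y.asHomogeneousIdeal := (ProjectiveSpectrum.mem_basicOpen ℬ (ψ f) y).1 hyV
    change valAt ℬ 𝒩 n (GrMod.comapApp ψ hψ v hv n (ProjectiveSpectrum.basicOpen 𝒜 f)
        (ProjectiveSpectrum.basicOpen ℬ (ψ f)) (basicOpen_subset ψ hψ f)
        (fracPow 𝒜 ℳ n hf (L + k) ⟨c ^ k • m, hmem⟩ hij)) y hy = valAt ℬ 𝒩 n t y hy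
    refine (valAt_comapApp ψ hψ ℳ 𝒩 v hv n f _ y hy).trans ?_
    rw [fracPow_apply]
    refine (GrMod.locModMap_mk ψ hψ v y _ _).trans (Eq.trans ?_ (hval y hy).symm)
    rw [LocalizedModule.mk_eq]
    refine ⟨1, ?_⟩
    rw [one_smul, one_smul]
    change ψ f ^ L • v (c ^ k • m) = ψ (f ^ (L + k)) • n'
    rw [LinearMap.map_smulₛₗ]
    change ψ f ^ L • (ψ (c ^ k) • v m) = ψ (f ^ (L + k)) • n'
    have e2 : ψ f ^ L * ψ (c ^ k) * ψ g ^ k = ψ (f ^ (L + k)) := by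
      rw [mul_assoc, map_pow, map_pow, pow_add, ← mul_pow, ← map_mul, ← hfc]
    rw [← hkm, smul_smul, smul_smul, e2]

end Part1

section Part2

variable {g : A} (hg : g ∈ 𝒜 0)
    (hker : ∀ a : A, ψ a = 0 → ∃ j : ℕ, g ^ j * a = 0)
    (hlift : ∀ i, ∀ b ∈ ℬ i, ∃ k : ℕ, ∃ a ∈ 𝒜 i, ψ g ^ k * b = ψ a)
    (hu : ∃ u ∈ ℬ 0, ψ g * u = 1)

theorem map_gz {d : ℕ} {f : A} (hf : f ∈ 𝒜 d) :
    Away.map ψ f (gz 𝒜 hg hf) = gz ℬ (ψ.map_mem hg) (ψ.map_mem hf) := by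
  rw [gz, Away.map_mk]; rfl

include hu in
theorem isUnit_map_gz {d : ℕ} {f : A} (hf : f ∈ 𝒜 d) :
    IsUnit (Away.map ψ f (gz 𝒜 hg hf)) := by
  obtain ⟨u, hu0, hgu⟩ := hu
  rw [map_gz]
  have hψf : ψ f ∈ ℬ d := ψ.map_mem hf
  have h1 : gz ℬ (ψ.map_mem hg) hψf * gz ℬ hu0 hψf = 1 := by
    apply HomogeneousLocalization.val_injective
    rw [HomogeneousLocalization.val_mul, gz, gz, Away.val_mk, Away.val_mk,
      HomogeneousLocalization.val_one, Localization.mk_mul, ← Localization.mk_one,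
      Localization.mk_eq_mk_iff, Localization.r_iff_exists]
    refine ⟨1, ?_⟩
    simp only [OneMemClass.coe_one, one_mul, Submonoid.coe_mul, pow_zero, mul_one]
    exact hgu
  exact ⟨⟨_, _, h1, by rw [mul_comm]; exact h1⟩, rfl⟩

include hg hker hlift hu in
theorem isLocalization_awayMap {d : ℕ} {f : A} (hf : f ∈ 𝒜 d) :
    @IsLocalization.Away (Away 𝒜 f) _ (gz 𝒜 hg hf) (Away ℬ (ψ f)) _ (Away.map ψ f).toAlgebra := by
  letI : Algebra (Away 𝒜 f) (Away ℬ (ψ f)) := (Away.map ψ f).toAlgebra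
  have hψf : ψ f ∈ ℬ d := ψ.map_mem hf
  show IsLocalization (Submonoid.powers (gz 𝒜 hg hf)) (Away ℬ (ψ f))
  rw [isLocalization_iff]
  refine ⟨?_, ?_, ?_⟩
  · rintro ⟨_, j, rfl⟩
    show IsUnit (Away.map ψ f (gz 𝒜 hg hf ^ j))
    rw [map_pow]
    exact (isUnit_map_gz ψ hg hu hf).pow j
  · intro z
    obtain ⟨k, b, hb, rfl⟩ := Away.mk_surjective ℬ hψf z
    obtain ⟨j, a, ha, hja⟩ := hlift (k • d) b hb
    refine ⟨(Away.mk 𝒜 hf k a ha, ⟨gz 𝒜 hg hf ^ j, j, rfl⟩), ?_⟩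
    show Away.mk ℬ hψf k b hb * Away.map ψ f (gz 𝒜 hg hf ^ j) =
      Away.map ψ f (Away.mk 𝒜 hf k a ha)
    rw [map_pow, map_gz, Away.map_mk, mul_comm]
    have hmem : ψ g ^ j * b ∈ ℬ (k • d) := by rw [hja]; exact ψ.map_mem ha
    rw [gz_pow_mul_mk ℬ (ψ.map_mem hg) hψf j k b hb hmem]
    exact away_mk_congr ℬ hψf k hja _ _
  · intro x y hxy
    obtain ⟨k, a, ha, rfl⟩ := Away.mk_surjective 𝒜 hf x
    obtain ⟨k', a', ha', rfl⟩ := Away.mk_surjective 𝒜 hf y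
    have hxy' : Away.map ψ f (Away.mk 𝒜 hf k a ha) = Away.map ψ f (Away.mk 𝒜 hf k' a' ha') := hxy
    rw [Away.map_mk, Away.map_mk, away_mk_eq_iff] at hxy'
    obtain ⟨j, hj⟩ := hxy'
    have h0 : ψ (f ^ j * (f ^ k' * a) - f ^ j * (f ^ k * a')) = 0 := by
      rw [map_sub, sub_eq_zero]
      simp only [map_mul, map_pow]
      exact hj
    obtain ⟨i, hi⟩ := hker _ h0
    refine ⟨⟨gz 𝒜 hg hf ^ i, i, rfl⟩, ?_⟩
    show gz 𝒜 hg hf ^ i * Away.mk 𝒜 hf k a ha = gz 𝒜 hg hf ^ i * Away.mk 𝒜 hf k' a' ha'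
    rw [gz_pow_mul_mk 𝒜 hg hf i k a ha (gpow_mul_mem 𝒜 hg i ha),
      gz_pow_mul_mk 𝒜 hg hf i k' a' ha' (gpow_mul_mem 𝒜 hg i ha'), away_mk_eq_iff]
    refine ⟨j, ?_⟩
    linear_combination hi

include hg hker hlift hu in
theorem isOpenImmersion_chart {d : ℕ} {f : A} (hf : f ∈ 𝒜 d) :
    IsOpenImmersion (Spec.map (CommRingCat.ofHom (Away.map ψ f))) := by
  letI : Algebra (Away 𝒜 f) (Away ℬ (ψ f)) := (Away.map ψ f).toAlgebra
  haveI : IsLocalization.Away (gz 𝒜 hg hf) (Away ℬ (ψ f)) :=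
    isLocalization_awayMap ψ hg hker hlift hu hf
  exact IsOpenImmersion.of_isLocalization (gz 𝒜 hg hf)

include hg hker hlift hu in
theorem range_chart {d : ℕ} {f : A} (hf : f ∈ 𝒜 d) :
    Set.range (Spec.map (CommRingCat.ofHom (Away.map ψ f))).base =
      (PrimeSpectrum.basicOpen (gz 𝒜 hg hf) : Set (PrimeSpectrum (Away 𝒜 f))) := by
  letI : Algebra (Away 𝒜 f) (Away ℬ (ψ f)) := (Away.map ψ f).toAlgebra
  haveI : IsLocalization.Away (gz 𝒜 hg hf) (Away ℬ (ψ f)) :=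
    isLocalization_awayMap ψ hg hker hlift hu hf
  exact PrimeSpectrum.localization_away_comap_range (Away ℬ (ψ f)) (gz 𝒜 hg hf)

include hg hker hlift hu in
theorem mem_range_of_chart {d : ℕ} (hd : 0 < d) {f : A} (hf : f ∈ 𝒜 d)
    (p : Spec (.of (Away 𝒜 f))) (hp : gz 𝒜 hg hf ∉ p.asIdeal) :
    (Proj.awayι 𝒜 f hf hd).base p ∈ Set.range (Proj.map ψ hψ).base := by
  have hr := range_chart ψ hg hker hlift hu hf
  have hp' : p ∈ Set.range (Spec.map (CommRingCat.ofHom (Away.map ψ f))).base := by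
    rw [hr]; exact hp
  obtain ⟨q, rfl⟩ := hp'
  refine ⟨(Proj.awayι ℬ (ψ f) (ψ.map_mem hf) hd).base q, ?_⟩
  exact congrArg (fun φ : Spec (.of (Away ℬ (ψ f))) ⟶ Proj 𝒜 => φ.base q)
    (Proj.awayι_comp_map ψ hψ hd f hf)

include hg hker hlift hu in
theorem range_projMap :
    Set.range (Proj.map ψ hψ).base =
      (Proj.toSpecZero 𝒜).base ⁻¹'
        (PrimeSpectrum.basicOpen (⟨g, hg⟩ : 𝒜 0) : Set (PrimeSpectrum (𝒜 0))) := by
  ext x
  constructor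
  · rintro ⟨y, rfl⟩
    obtain ⟨d, hd, f, hf, p, hp⟩ := exists_chart 𝒜 ((Proj.map ψ hψ).base y)
    have hy : y ∈ (Proj.awayι ℬ (ψ f) (ψ.map_mem hf) hd).opensRange := by
      rw [Proj.opensRange_awayι]
      show (Proj.map ψ hψ).base y ∈ Proj.basicOpen 𝒜 f
      rw [← Proj.opensRange_awayι 𝒜 f hf hd]
      exact ⟨p, hp⟩
    obtain ⟨q, rfl⟩ := hy
    have e : (Proj.map ψ hψ).base ((Proj.awayι ℬ (ψ f) (ψ.map_mem hf) hd).base q) =
        (Proj.awayι 𝒜 f hf hd).base ((Spec.map (CommRingCat.ofHom (Away.map ψ f))).base q) :=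
      congrArg (fun φ : Spec (.of (Away ℬ (ψ f))) ⟶ Proj 𝒜 => φ.base q)
        (Proj.awayι_comp_map ψ hψ hd f hf)
    show (Proj.toSpecZero 𝒜).base ((Proj.map ψ hψ).base
      ((Proj.awayι ℬ (ψ f) (ψ.map_mem hf) hd).base q)) ∈
        (PrimeSpectrum.basicOpen (⟨g, hg⟩ : 𝒜 0) : Set (PrimeSpectrum (𝒜 0)))
    rw [e, toSpecZero_awayι_mem 𝒜 hg hd hf]
    intro hmem
    have hmem' : Away.map ψ f (gz 𝒜 hg hf) ∈ q.asIdeal := hmem
    exact q.isPrime.ne_top (Ideal.eq_top_of_isUnit_mem _ hmem' (isUnit_map_gz ψ hg hu hf))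
  · intro hx
    obtain ⟨d, hd, f, hf, p, rfl⟩ := exists_chart 𝒜 x
    exact mem_range_of_chart ψ hψ hg hker hlift hu hd hf p
      ((toSpecZero_awayι_mem 𝒜 hg hd hf p).1 hx)

include hg hker hlift hu in
theorem isOpenImmersion_projMap : IsOpenImmersion (Proj.map ψ hψ) := by
  refine (IsZariskiLocalAtTarget.iff_of_openCover (P := @IsOpenImmersion)
    (Proj.affineOpenCover 𝒜).openCover).2 ?_
  rintro ⟨⟨i, hi⟩, ⟨f, hf0⟩⟩
  have hf : f ∈ 𝒜 i := hf0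
  have hpb := IsOpenImmersion.isPullback (Spec.map (CommRingCat.ofHom (Away.map ψ f)))
      (Proj.awayι ℬ (ψ f) (ψ.map_mem hf) hi) (Proj.awayι 𝒜 f hf hi) (Proj.map ψ hψ)
      (Proj.awayι_comp_map ψ hψ hi f hf)
      (by rw [Proj.opensRange_awayι, Proj.opensRange_awayι, Proj.map_preimage_basicOpen])
  haveI : IsOpenImmersion (Spec.map (CommRingCat.ofHom (Away.map ψ f))) :=
    isOpenImmersion_chart ψ hg hker hlift hu hf
  have h2 : pullback.snd (Proj.map ψ hψ) (Proj.awayι 𝒜 f hf hi) =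
      hpb.flip.isoPullback.inv ≫ Spec.map (CommRingCat.ofHom (Away.map ψ f)) := by
    rw [Iso.eq_inv_comp]; exact hpb.flip.isoPullback_hom_snd
  change IsOpenImmersion (pullback.snd (Proj.map ψ hψ) (Proj.awayι 𝒜 f hf hi))
  rw [h2]; infer_instance

include hg hker hlift hu in
theorem basicOpen_le_opensRange [IsOpenImmersion (Proj.map ψ hψ)] {d : ℕ} (hd : 0 < d) {f c : A} (hf : f ∈ 𝒜 d) (hc : c ∈ 𝒜 d)
    (hfc : f = c * g) : Proj.basicOpen 𝒜 f ≤ (Proj.map ψ hψ).opensRange := by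
  intro x hx
  rw [← Proj.opensRange_awayι 𝒜 f hf hd] at hx
  obtain ⟨p, rfl⟩ := hx
  refine mem_range_of_chart ψ hψ hg hker hlift hu hd hf p (fun hmem => ?_)
  exact p.isPrime.ne_top (Ideal.eq_top_of_isUnit_mem _ hmem (isUnit_gz_of_mul 𝒜 hg hf hc hfc))

include hg hker hlift hu in
theorem image_basicOpen [IsOpenImmersion (Proj.map ψ hψ)] {d : ℕ} (hd : 0 < d) {f c : A}
    (hf : f ∈ 𝒜 d) (hc : c ∈ 𝒜 d) (hfc : f = c * g) :
    (Proj.map ψ hψ) ''ᵁ (Proj.basicOpen ℬ (ψ f)) = Proj.basicOpen 𝒜 f := by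
  rw [← Proj.map_preimage_basicOpen ψ hψ f, Scheme.Hom.image_preimage_eq_opensRange_inf,
    inf_eq_right]
  exact basicOpen_le_opensRange ψ hψ hg hker hlift hu hd hf hc hfc

/-- the adjunct along an open immersion `f` of a map `α : M ⟶ f_* N` whose restriction along `f`
is an isomorphism is an isomorphism. -/
theorem isIso_adjunct_of_restrict {X Y : Scheme.{u}} (f : X ⟶ Y) [IsOpenImmersion f]
    {M : Y.Modules} {N : X.Modules} (α : M ⟶ (Scheme.Modules.pushforward f).obj N)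
    (h : IsIso ((Scheme.Modules.restrictFunctor f).map α)) :
    IsIso (((Scheme.Modules.pullbackPushforwardAdjunction f).homEquiv _ _).symm α) := by
  rw [Adjunction.homEquiv_counit]
  haveI : IsIso ((Scheme.Modules.pullback f).map α) :=
    (NatIso.isIso_map_iff (Scheme.Modules.restrictFunctorIsoPullback f) α).1 h
  infer_instance

include hg hker hlift hu in
theorem isIso_restrict_twist_comap [IsOpenImmersion (Proj.map ψ hψ)] (n : ℤ) :
    IsIso ((Scheme.Modules.restrictFunctor (Proj.map ψ hψ)).map (GrTwist.comap ψ hψ n)) := by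
  apply Groth.Agent.Helper13.LocFree.isIso_of_app_bijective_of_isBasis _ (isBasis_pos (𝒜 := ℬ))
  rintro V ⟨d, b, hd, hb, rfl⟩
  obtain ⟨k, a, ha, hka⟩ := hlift d b hb
  have hf : a * g ∈ 𝒜 d := by
    have h2 := SetLike.mul_mem_graded ha hg
    rwa [add_zero] at h2
  have hgunit : IsUnit (ψ g) := by
    obtain ⟨u, _, hgu⟩ := hu
    exact ⟨⟨ψ g, u, hgu, by rw [mul_comm]; exact hgu⟩, rfl⟩
  have hV : Proj.basicOpen ℬ b = Proj.basicOpen ℬ (ψ (a * g)) :=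
    basicOpen_eq_of_unit_mul ℬ (hgunit.pow (k + 1))
      (by rw [map_mul, ← hka, pow_succ]; ring)
  rw [hV]
  have hU := image_basicOpen ψ hψ hg hker hlift hu hd hf ha rfl
  show Function.Bijective ((GrTwist.comap ψ hψ n).app
    ((Proj.map ψ hψ) ''ᵁ (Proj.basicOpen ℬ (ψ (a * g)))))
  rw [hU]
  exact twist_comapApp_bijective ψ hψ n (ProjectiveSpectrum.basicOpen 𝒜 (a * g))
    (ProjectiveSpectrum.basicOpen ℬ (ψ (a * g))) (basicOpen_subset ψ hψ (a * g))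
    (comapApp_bijective_of_loc ψ hψ 𝒜 ℬ (ψlin ψ) (ψlin_mem ψ) hd ha hf rfl
      (fun _ m _ h => hker m h) hlift n)

include hg hker hlift hu in
theorem isIso_adjunct_twist_comap_loc (n : ℤ) :
    IsIso (((Scheme.Modules.pullbackPushforwardAdjunction (Proj.map ψ hψ)).homEquiv _ _).symm
      (GrTwist.comap ψ hψ n)) := by
  haveI := isOpenImmersion_projMap ψ hψ hg hker hlift hu
  exact isIso_adjunct_of_restrict _ _ (isIso_restrict_twist_comap ψ hψ hg hker hlift hu n)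

end Part2

end Groth.Agent.Helper6.ProjLoc
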