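import Mathlib.AlgebraicGeometry.ProjectiveSpectrum.Basic
import Mathlib.RingTheory.GradedAlgebra.Homogeneous.Ideal
import Mathlib.RingTheory.GradedAlgebra.Radical

set_option autoImplicit false
universe u

namespace Groth.Agent.Helper6

open AlgebraicGeometry

variable {A σ : Type*} [CommRing A] [SetLike σ A] [AddSubgroupClass σ A]
  (𝒜 : ℕ → σ) [GradedRing 𝒜]

/-- Weak projective Nullstellensatz: if `f` lies in the irrelevant ideal and not in the radical of
a homogeneous ideal `I`, there is a point of the projective spectrum containing `I` but not `f`. -/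
theorem exists_projSpec_of_notMem_radical
    (I : Ideal A) (hI : I.IsHomogeneous 𝒜) (f : A)
    (hf : f ∈ (HomogeneousIdeal.irrelevant 𝒜).toIdeal) (hfI : f ∉ I.radical) :
    ∃ p : ProjectiveSpectrum 𝒜, I ≤ p.asHomogeneousIdeal.toIdeal ∧
      f ∉ p.asHomogeneousIdeal.toIdeal := by
  rw [Ideal.radical_eq_sInf, Ideal.mem_sInf] at hfI
  push Not at hfI
  obtain ⟨Q, ⟨hIQ, hQ⟩, hfQ⟩ := hfI
  have hfc : f ∉ (Q.homogeneousCore 𝒜).toIdeal :=
    fun h => hfQ (Ideal.toIdeal_homogeneousCore_le 𝒜 Q h)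
  refine ⟨⟨Q.homogeneousCore 𝒜, hQ.homogeneousCore, ?_⟩, ?_, hfc⟩
  · intro hle
    exact hfc (hle hf)
  · have := Ideal.homogeneousCore_mono 𝒜 hIQ
    rw [← toIdeal_le_toIdeal_iff] at this
    rwa [hI.toIdeal_homogeneousCore_eq_self] at this

theorem irrelevant_le_radical_of_forall
    (I : Ideal A) (hI : I.IsHomogeneous 𝒜)
    (h : ∀ p : ProjectiveSpectrum 𝒜, ¬ I ≤ p.asHomogeneousIdeal.toIdeal) :
    (HomogeneousIdeal.irrelevant 𝒜).toIdeal ≤ I.radical := by
  intro f hf
  by_contra hfI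
  obtain ⟨p, hp, -⟩ := exists_projSpec_of_notMem_radical 𝒜 I hI f hf hfI
  exact h p hp

end Groth.Agent.Helper6
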