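import Groth.Agent.Lib.Helper6.VeroneseB
import Groth.Agent.Lib.Helper6.ChartSecA
import Groth.Prelude.Def_SGA1

/-!
# `Proj B ⟶ Proj B^G` is a quotient by the finite group `G` (helper6)
-/

set_option autoImplicit false

namespace Groth.Agent.Helper6.ProjQuot

open AlgebraicGeometry CategoryTheory HomogeneousLocalization Limits Polynomial
open Groth.Agent.Helper6.Veronese Groth.Agent.Helper6.VeroneseB Groth.Agent.Helper6.ChartSec
open Groth.Agent.Helper21.GQuot6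

universe u

variable {A : Type u} [CommRing A]
variable {σA : Type*} [SetLike σA A] [AddSubgroupClass σA A]
variable (𝒜 : ℕ → σA) [GradedRing 𝒜]

/-- Coefficients of `∏ (X - a i)` with the `a i` homogeneous of degree `n` are homogeneous. -/
theorem coeff_prod_X_sub_C_mem {κ : Type*} (a : κ → A) (n : ℕ) (s : Finset κ) :
    (∀ i ∈ s, a i ∈ 𝒜 n) → ∀ j k, j + k = s.card →
      (∏ i ∈ s, (X - C (a i))).coeff j ∈ 𝒜 (k * n) := by
  classical
  refine Finset.induction_on s ?_ ?_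
  · intro _ j k hjk
    simp only [Finset.card_empty] at hjk
    obtain ⟨rfl, rfl⟩ : j = 0 ∧ k = 0 := by omega
    simp only [Finset.prod_empty, Polynomial.coeff_one_zero, zero_mul]
    exact SetLike.GradedOne.one_mem
  · intro i s hi ih ha j k hjk
    rw [Finset.card_insert_of_notMem hi] at hjk
    have ha' : ∀ i' ∈ s, a i' ∈ 𝒜 n := fun i' hi' => ha i' (Finset.mem_insert_of_mem hi')
    have hai : a i ∈ 𝒜 n := ha i (Finset.mem_insert_self i s)
    have hPdeg : (∏ i ∈ s, (X - C (a i))).natDegree ≤ s.card := by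
      refine (Polynomial.natDegree_prod_le s _).trans ?_
      refine (Finset.sum_le_sum (fun i _ => Polynomial.natDegree_X_sub_C_le (a i))).trans ?_
      simp
    rw [Finset.prod_insert hi, sub_mul, Polynomial.coeff_sub, Polynomial.coeff_C_mul]
    refine sub_mem ?_ ?_
    · cases j with
      | zero => rw [Polynomial.coeff_X_mul_zero]; exact zero_mem _
      | succ j' => rw [Polynomial.coeff_X_mul]; exact ih ha' j' k (by omega)
    · cases k with
      | zero =>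
        have h0 : (∏ i ∈ s, (X - C (a i))).coeff j = 0 :=
          Polynomial.coeff_eq_zero_of_natDegree_lt (by omega)
        rw [h0, mul_zero]; exact zero_mem _
      | succ k' =>
        have h1 := ih ha' j k' (by omega)
        have h2 := SetLike.mul_mem_graded hai h1
        have e : n + k' * n = (k' + 1) * n := by ring
        exact e ▸ h2

variable {C : Type u} [CommRing C] {σC : Type*} [SetLike σC C] [AddSubgroupClass σC C]
  (𝒞 : ℕ → σC) [GradedRing 𝒞]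
variable {G : Type u} [Group G] [Finite G] [MulSemiringAction G A]
variable (hGdeg : ∀ (s : G) (i : ℕ) (a : A), a ∈ 𝒜 i → s • a ∈ 𝒜 i)
variable (φ : C →+* A) (hφ0 : ∀ n c, c ∈ 𝒞 n → φ c ∈ 𝒜 n)
  (hφinv : ∀ n c, c ∈ 𝒞 n → ∀ s : G, s • φ c = φ c)
  (hφsurj : ∀ n a, a ∈ 𝒜 n → (∀ s : G, s • a = a) → ∃ c ∈ 𝒞 n, φ c = a)

include hGdeg hφsurj in
/-- Every point of `Proj 𝒜` avoids some invariant homogeneous element of positive degree. -/
theorem exists_inv_not_mem (x : Proj 𝒜) :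
    ∃ (n : ℕ) (c : C), 0 < n ∧ c ∈ 𝒞 n ∧ φ c ∉ x.asHomogeneousIdeal := by
  classical
  cases nonempty_fintype G
  by_contra! H
  haveI : Nontrivial A := by
    by_contra hA
    rw [not_nontrivial_iff_subsingleton] at hA
    exact x.isPrime.ne_top ((Ideal.eq_top_iff_one _).mpr
      (by rw [Subsingleton.elim (1 : A) 0]; exact zero_mem _))
  have key : ∀ k, 0 < k → ∀ f ∈ 𝒜 k, f ∈ x.asHomogeneousIdeal.toIdeal := by
    intro k hk f hf
    have hmonic := MulSemiringAction.monic_charpoly G f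
    have heval := MulSemiringAction.eval_charpoly G f
    have hdeg : (MulSemiringAction.charpoly G f).natDegree = Fintype.card G := by
      rw [MulSemiringAction.charpoly_eq, Polynomial.natDegree_finsetProd_X_sub_C_eq_card,
        Finset.card_univ]
    have hcoeff : ∀ j, j < Fintype.card G →
        (MulSemiringAction.charpoly G f).coeff j ∈ x.asHomogeneousIdeal.toIdeal := by
      intro j hj
      have h1 : (MulSemiringAction.charpoly G f).coeff j ∈ 𝒜 ((Fintype.card G - j) * k) :=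
        coeff_prod_X_sub_C_mem 𝒜 (fun g : G => g • f) k Finset.univ
          (fun g _ => hGdeg g k f hf) j (Fintype.card G - j)
          (by rw [Finset.card_univ]; omega)
      have h2 : ∀ s : G, s • (MulSemiringAction.charpoly G f).coeff j =
          (MulSemiringAction.charpoly G f).coeff j :=
        fun s => MulSemiringAction.smul_coeff_charpoly f j s
      obtain ⟨c, hc, hcP⟩ := hφsurj _ _ h1 h2
      rw [← hcP]
      exact H _ c (Nat.mul_pos (Nat.sub_pos_of_lt hj) hk) hc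
    have hsum : f ^ (Fintype.card G) ∈ x.asHomogeneousIdeal.toIdeal := by
      have h3 := Polynomial.eval_eq_sum_range (p := MulSemiringAction.charpoly G f) f
      rw [heval, Finset.sum_range_succ, hdeg] at h3
      have hlead : (MulSemiringAction.charpoly G f).coeff (Fintype.card G) = 1 := by
        rw [← hdeg]; exact hmonic.coeff_natDegree
      rw [hlead, one_mul] at h3
      have h4 : f ^ Fintype.card G =
          - ∑ j ∈ Finset.range (Fintype.card G),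
            (MulSemiringAction.charpoly G f).coeff j * f ^ j :=
        eq_neg_of_add_eq_zero_right h3.symm
      rw [h4]
      exact neg_mem (Ideal.sum_mem _ fun j hj =>
        Ideal.mul_mem_right _ _ (hcoeff j (Finset.mem_range.mp hj)))
    exact x.isPrime.mem_of_pow_mem _ hsum
  refine x.not_irrelevant_le (fun z hz => ?_)
  rw [← DirectSum.sum_support_decompose 𝒜 z]
  refine x.asHomogeneousIdeal.toIdeal.sum_mem (fun k _ => ?_)
  by_cases hk0 : k = 0
  · subst hk0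
    have h0 : ((DirectSum.decompose 𝒜 z 0 : 𝒜 0) : A) = 0 :=
      (HomogeneousIdeal.mem_irrelevant_iff 𝒜 z).mp hz
    rw [h0]
    exact zero_mem _
  · exact key k (Nat.pos_of_ne_zero hk0) _ (SetLike.coe_mem _)

include hφinv in
theorem theta1_comp_fixed {n : ℕ} {c : C} (hc : c ∈ 𝒞 n) (s : G)
    (h : MulSemiringAction.toRingHom G A s (φ c) = φ c) (b : Away 𝒞 c) :
    theta1 𝒜 𝒜 (MulSemiringAction.toRingHom G A s) (fun m b hb => hGdeg s m b hb)
        (φ c) (φ c) h (theta1 𝒜 𝒞 φ hφ0 c (φ c) rfl b) =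
      theta1 𝒜 𝒞 φ hφ0 c (φ c) rfl b := by
  obtain ⟨k, y, hy, rfl⟩ := Away.mk_surjective 𝒞 hc b
  rw [theta1_mk 𝒜 𝒞 φ hφ0 rfl hc (hφ0 n c hc) k y hy (hφ0 _ y hy),
    theta1_mk 𝒜 𝒜 (MulSemiringAction.toRingHom G A s) (fun m b hb => hGdeg s m b hb) h
      (hφ0 n c hc) (hφ0 n c hc) k (φ y) (hφ0 _ y hy)
      (show (MulSemiringAction.toRingHom G A s) (φ y) ∈ 𝒜 (k • n) from
        hGdeg s _ _ (hφ0 _ y hy))]
  apply val_injective
  rw [Away.val_mk, Away.val_mk]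
  exact congrArg (fun t => Localization.mk t _) (hφinv _ y hy s)

include hφsurj in
theorem fixed_mem_range {n : ℕ} {c : C} (hc : c ∈ 𝒞 n)
    (hinvc : ∀ s : G, MulSemiringAction.toRingHom G A s (φ c) = φ c)
    (a : Away 𝒜 (φ c))
    (ha : ∀ s : G, theta1 𝒜 𝒜 (MulSemiringAction.toRingHom G A s)
      (fun m b hb => hGdeg s m b hb) (φ c) (φ c) (hinvc s) a = a) :
    ∃ b : Away 𝒞 c, theta1 𝒜 𝒞 φ hφ0 c (φ c) rfl b = a := by
  classical
  cases nonempty_fintype G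
  have hφc : φ c ∈ 𝒜 n := hφ0 n c hc
  obtain ⟨k, x, hx, rfl⟩ := Away.mk_surjective 𝒜 hφc a
  have h1 : ∀ s : G, ∃ N : ℕ, φ c ^ N * (s • x) = φ c ^ N * x := by
    intro s
    have h := congrArg HomogeneousLocalization.val (ha s)
    rw [theta1_mk 𝒜 𝒜 (MulSemiringAction.toRingHom G A s) (fun m b hb => hGdeg s m b hb)
      (hinvc s) hφc hφc k x hx
      (show (MulSemiringAction.toRingHom G A s) x ∈ 𝒜 (k • n) from hGdeg s _ x hx),
      Away.val_mk, Away.val_mk,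
      Localization.mk_eq_mk_iff, Localization.r_iff_exists] at h
    obtain ⟨⟨u, hu'⟩, hu⟩ := h
    obtain ⟨N, rfl⟩ := (Submonoid.mem_powers_iff _ _).mp hu'
    refine ⟨N + k, ?_⟩
    rw [pow_add, mul_assoc, mul_assoc]
    exact hu
  choose N hN using h1
  have h2 : ∀ s : G, φ c ^ (∑ t : G, N t) * (s • x) = φ c ^ (∑ t : G, N t) * x := by
    intro s
    have hle : N s ≤ ∑ t : G, N t :=
      Finset.single_le_sum (fun _ _ => Nat.zero_le _) (Finset.mem_univ s)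
    obtain ⟨r, hr⟩ := Nat.exists_eq_add_of_le hle
    rw [hr, pow_add, mul_comm (φ c ^ N s), mul_assoc, mul_assoc, hN s]
  have h3 : ∀ s : G, s • (φ c ^ (∑ t : G, N t) * x) = φ c ^ (∑ t : G, N t) * x := by
    intro s
    rw [smul_mul', smul_pow', show s • φ c = φ c from hinvc s, h2 s]
  have hdeg : φ c ^ (∑ t : G, N t) * x ∈ 𝒜 (((∑ t : G, N t) + k) * n) := by
    have h4 := SetLike.mul_mem_graded (SetLike.pow_mem_graded (∑ t : G, N t) hφc) hx
    have e : (∑ t : G, N t) • n + k • n = ((∑ t : G, N t) + k) * n := by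
      simp only [smul_eq_mul]; ring
    exact e ▸ h4
  obtain ⟨y, hy, hyx⟩ := hφsurj _ _ hdeg h3
  have hy' : y ∈ 𝒞 (((∑ t : G, N t) + k) • n) := by rwa [smul_eq_mul]
  refine ⟨Away.mk 𝒞 hc ((∑ t : G, N t) + k) y hy', ?_⟩
  rw [theta1_mk 𝒜 𝒞 φ hφ0 rfl hc hφc ((∑ t : G, N t) + k) y hy' (hφ0 _ y hy')]
  apply val_injective
  rw [Away.val_mk, Away.val_mk, Localization.mk_eq_mk_iff, Localization.r_iff_exists]
  refine ⟨1, ?_⟩
  simp only [Submonoid.coe_one, one_mul, hyx, pow_add]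
  ring

include hφinv hφsurj in
theorem isQuot_proj (hφ : Function.Injective φ)
    (ρ : G →* Aut (Proj 𝒜)) (π : Proj 𝒜 ⟶ Proj 𝒞)
    (hρ : ∀ (s : G) (n : ℕ) (f : A) (hn : 0 < n) (hf : f ∈ 𝒜 n),
      Proj.awayι 𝒜 (s • f) (hGdeg s n f hf) hn ≫ (ρ s).inv =
        Spec.map (CommRingCat.ofHom (theta1 𝒜 𝒜 (MulSemiringAction.toRingHom G A s)
          (fun m b hb => hGdeg s m b hb) f (s • f) rfl)) ≫ Proj.awayι 𝒜 f hf hn)
    (hπ : ∀ (n : ℕ) (c : C) (hn : 0 < n) (hc : c ∈ 𝒞 n),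
      Proj.awayι 𝒜 (φ c) (hφ0 n c hc) hn ≫ π =
        Spec.map (CommRingCat.ofHom (theta1 𝒜 𝒞 φ hφ0 c (φ c) rfl)) ≫ Proj.awayι 𝒞 c hc hn) :
    SGA1.IsQuot ρ π := by
  have hcov := exists_inv_not_mem 𝒜 𝒞 hGdeg φ hφsurj
  have hpre : ∀ (i : ℕ) (_ : 0 < i) (b : C) (_ : b ∈ 𝒞 i),
      π ⁻¹ᵁ Proj.basicOpen 𝒞 b = Proj.basicOpen 𝒜 (φ b) :=
    fun i hi b hb => preimage_basicOpen_of_chart 𝒜 𝒞 φ hφ0 π hπ hcov hi hb
  have hρ' : ∀ (s : G) (n : ℕ) (f f' : A) (hn : 0 < n) (hf : f ∈ 𝒜 n) (hf' : f' ∈ 𝒜 n)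
      (h : MulSemiringAction.toRingHom G A s f = f'),
      Proj.awayι 𝒜 f' hf' hn ≫ (ρ s).inv =
        Spec.map (CommRingCat.ofHom (theta1 𝒜 𝒜 (MulSemiringAction.toRingHom G A s)
          (fun m b hb => hGdeg s m b hb) f f' h)) ≫ Proj.awayι 𝒜 f hf hn := by
    intro s n f f' hn hf hf' h
    subst h
    exact hρ s n f hn hf
  have hinvc : ∀ (n : ℕ) (c : C), c ∈ 𝒞 n →
      ∀ s : G, MulSemiringAction.toRingHom G A s (φ c) = φ c :=
    fun n c hc s => hφinv n c hc s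
  have hτ : ∀ (n : ℕ) (c : C) (hn : 0 < n) (hc : c ∈ 𝒞 n) (g : G),
      Proj.awayι 𝒜 (φ c) (hφ0 n c hc) hn ≫ (ρ g).inv =
        Spec.map (CommRingCat.ofHom (theta1 𝒜 𝒜 (MulSemiringAction.toRingHom G A g)
          (fun m b hb => hGdeg g m b hb) (φ c) (φ c) (hinvc n c hc g))) ≫
          Proj.awayι 𝒜 (φ c) (hφ0 n c hc) hn :=
    fun n c hn hc g => hρ' g n (φ c) (φ c) hn (hφ0 n c hc) (hφ0 n c hc) (hinvc n c hc g)
  have hinv : ∀ g : G, (ρ g).hom ≫ π = π := by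
    intro g
    refine hom_ext_of_chart 𝒜 𝒞 φ hφ0 hcov _ _ fun n c hn hc => ?_
    have hg : (ρ g).hom = (ρ g⁻¹).inv := by rw [map_inv]; rfl
    have e2 : (theta1 𝒜 𝒜 (MulSemiringAction.toRingHom G A g⁻¹)
        (fun m b hb => hGdeg g⁻¹ m b hb) (φ c) (φ c) (hinvc n c hc g⁻¹)).comp
        (theta1 𝒜 𝒞 φ hφ0 c (φ c) rfl) = theta1 𝒜 𝒞 φ hφ0 c (φ c) rfl :=
      RingHom.ext fun b => theta1_comp_fixed 𝒜 𝒞 hGdeg φ hφ0 hφinv hc g⁻¹ _ b
    rw [hg, ← Category.assoc, hτ n c hn hc g⁻¹, Category.assoc, hπ n c hn hc,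
      ← Spec.map_comp_assoc, ← CommRingCat.ofHom_comp, e2]
  have haff : IsAffineHom π := by
    refine isAffineHom_of_forall_exists_isAffineOpen (f := π) fun y => ?_
    obtain ⟨n, c, hn, hc, hcy⟩ := exists_pos_not_mem 𝒞 y
    refine ⟨Proj.basicOpen 𝒞 c, hcy, Proj.isAffineOpen_basicOpen 𝒞 c hc hn, ?_⟩
    rw [hpre n hn c hc]
    exact Proj.isAffineOpen_basicOpen 𝒜 (φ c) (hφ0 n c hc) hn
  refine isQuot_of_qprop ρ π hinv haff (qprop_of_basis ρ π hinv _ (isBasis_pos 𝒞) ?_)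
  rintro W ⟨n, c, hn, hc, rfl⟩
  refine qprop_of_chart ρ π hinv (Proj.basicOpen 𝒞 c)
    (Proj.awayι 𝒜 (φ c) (hφ0 n c hc) hn) (Proj.awayι 𝒞 c hc hn)
    (Proj.opensRange_awayι 𝒞 c hc hn)
    (by rw [hpre n hn c hc]; exact Proj.opensRange_awayι 𝒜 (φ c) (hφ0 n c hc) hn)
    (CommRingCat.ofHom (theta1 𝒜 𝒞 φ hφ0 c (φ c) rfl)) (hπ n c hn hc)
    (fun g => CommRingCat.ofHom (theta1 𝒜 𝒜 (MulSemiringAction.toRingHom G A g)
      (fun m b hb => hGdeg g m b hb) (φ c) (φ c) (hinvc n c hc g)))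
    (fun g => hτ n c hn hc g) ?_ ?_
  · exact theta1_injective 𝒜 𝒞 φ hφ0 hφ c
  · intro a ha
    obtain ⟨b, hb⟩ := fixed_mem_range 𝒜 𝒞 hGdeg φ hφ0 hφsurj hc (hinvc n c hc) a ha
    exact ⟨b, hb⟩

end Groth.Agent.Helper6.ProjQuot
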