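import Mathlib
import Groth.Agent.Lib.Helper16.Alg.EquiNoEmb
import Groth.Agent.Lib.Helper1.SerreNormal
import Groth.Agent.Lib.Helper7.FieldCM

/-!
# Serre's condition `(S_1)` for `Proj` of a Noetherian graded ring (helper6)

For a Noetherian `ℕ`-graded ring `A` without embedded primes and `f` homogeneous of positive degree,
the ring `A_(f)` is Noetherian and has no embedded primes.
-/

set_option autoImplicit false
set_option linter.unusedSectionVars false
set_option linter.unusedVariables false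
set_option linter.style.haveILetI false

universe u

open DirectSum HomogeneousLocalization

namespace Groth.Agent.Helper6.ProjS1

section FT

variable {A : Type u} [CommRing A] {σ : Type*} [SetLike σ A] [AddSubgroupClass σ A]
  (𝒜 : ℕ → σ) [GradedRing 𝒜]

theorem finiteType_of_noetherian [IsNoetherianRing A] : Algebra.FiniteType (𝒜 0) A := by
  classical
  obtain ⟨G, hG⟩ := (IsNoetherian.noetherian (HomogeneousIdeal.irrelevant 𝒜).toIdeal :
    (HomogeneousIdeal.irrelevant 𝒜).toIdeal.FG)
  let X : Finset A := G.biUnion (fun g => (decompose 𝒜 g).support.image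
    (fun n => (decompose 𝒜 g n : A)))
  have hGmem : ∀ g ∈ G, g ∈ (HomogeneousIdeal.irrelevant 𝒜).toIdeal := by
    intro g hg; rw [← hG]; exact Submodule.subset_span hg
  have hXdeg : ∀ x ∈ X, ∃ n : ℕ, n ≠ 0 ∧ x ∈ 𝒜 n := by
    intro x hx
    simp only [X, Finset.mem_biUnion, Finset.mem_image] at hx
    obtain ⟨g, hg, n, hn, rfl⟩ := hx
    refine ⟨n, ?_, (decompose 𝒜 g n).2⟩
    rintro rfl
    have h0 : (decompose 𝒜 g 0 : A) = 0 := hGmem g hg
    rw [DFinsupp.mem_support_iff] at hn
    exact hn (Subtype.ext h0)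
  have hGX : ∀ g ∈ G, g ∈ Ideal.span (X : Set A) := by
    intro g hg
    rw [← DirectSum.sum_support_decompose 𝒜 g]
    refine Ideal.sum_mem _ fun n hn => Ideal.subset_span ?_
    simp only [X, Finset.coe_biUnion, Finset.coe_image, Set.mem_iUnion, Set.mem_image,
      Finset.mem_coe]
    exact ⟨g, hg, n, hn, rfl⟩
  have hspan : (HomogeneousIdeal.irrelevant 𝒜).toIdeal ≤ Ideal.span (X : Set A) := by
    rw [← hG]
    exact Ideal.span_le.2 fun g hg => hGX g hg
  choose! deg hdeg using hXdeg
  have key : ∀ d : ℕ, ∀ a ∈ 𝒜 d, a ∈ Algebra.adjoin (𝒜 0) (X : Set A) := by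
    intro d
    induction d using Nat.strong_induction_on with
    | _ d ih =>
      intro a ha
      rcases Nat.eq_zero_or_pos d with rfl | hd
      · exact Subalgebra.algebraMap_mem _ (⟨a, ha⟩ : 𝒜 0)
      · have hairr : a ∈ (HomogeneousIdeal.irrelevant 𝒜).toIdeal :=
          HomogeneousIdeal.mem_irrelevant_of_mem 𝒜 hd ha
        have haX := hspan hairr
        rw [Ideal.span, Submodule.mem_span_finset] at haX
        obtain ⟨c, -, hc⟩ := haX
        have hadec : a = (decompose 𝒜 a d : A) := by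
          rw [DirectSum.decompose_of_mem_same 𝒜 ha]
        rw [hadec, ← hc, DirectSum.decompose_sum, DFinsupp.finsetSum_apply,
          AddSubmonoidClass.coe_finsetSum]
        refine Subalgebra.sum_mem _ fun x hx => ?_
        obtain ⟨hx0, hxm⟩ := hdeg x hx
        rw [smul_eq_mul, DirectSum.coe_decompose_mul_of_right_mem 𝒜 d hxm]
        split_ifs with hle
        · refine Subalgebra.mul_mem _ (ih (d - deg x) (by omega) _ (decompose 𝒜 (c x) _).2) ?_
          exact Algebra.subset_adjoin hx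
        · exact Subalgebra.zero_mem _
  refine ⟨⟨X, ?_⟩⟩
  rw [eq_top_iff]
  intro a _
  rw [← DirectSum.sum_support_decompose 𝒜 a]
  exact Subalgebra.sum_mem _ fun n _ => key n _ (decompose 𝒜 a n).2

theorem isNoetherianRing_away [IsNoetherianRing A] {d : ℕ} {f : A} (hf : f ∈ 𝒜 d) :
    IsNoetherianRing (Away 𝒜 f) := by
  haveI := finiteType_of_noetherian 𝒜
  haveI := Away.finiteType (𝒜 := 𝒜) f d hf
  haveI : IsNoetherianRing (𝒜 0) := GradedRing.GradeZero.isNoetherianRing 𝒜
  exact Algebra.FiniteType.isNoetherianRing (𝒜 0) (Away 𝒜 f)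

end FT

section Main

variable {A : Type u} [CommRing A] {σ : Type*} [SetLike σ A] [AddSubgroupClass σ A]
  (𝒜 : ℕ → σ) [GradedRing 𝒜]

/-- minimal primes of a graded ring are homogeneous -/
theorem isHomogeneous_of_mem_minimalPrimes {P : Ideal A} (hP : P ∈ minimalPrimes A) :
    P.IsHomogeneous 𝒜 := by
  have hPp : P.IsPrime := hP.1.1
  have hc : (P.homogeneousCore 𝒜).toIdeal.IsPrime := hPp.homogeneousCore
  have hle : (P.homogeneousCore 𝒜).toIdeal ≤ P := Ideal.toIdeal_homogeneousCore_le 𝒜 P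
  have hge : P ≤ (P.homogeneousCore 𝒜).toIdeal := hP.2 ⟨hc, bot_le⟩ hle
  have h : (P.homogeneousCore 𝒜).toIdeal = P := le_antisymm hle hge
  rw [← h]
  exact (P.homogeneousCore 𝒜).isHomogeneous

omit [SetLike σ A] [AddSubgroupClass σ A] in
/-- an element of a minimal prime is killed, up to a power, by something outside the prime -/
theorem exists_mul_pow_eq_zero {P : Ideal A} (hP : P ∈ minimalPrimes A) {b : A} (hb : b ∈ P) :
    ∃ s : A, s ∉ P ∧ ∃ n : ℕ, s * b ^ n = 0 := by
  haveI hPp : P.IsPrime := hP.1.1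
  by_contra hcon
  push Not at hcon
  let T : Submonoid A := P.primeCompl ⊔ Submonoid.powers b
  have hdis : Disjoint ((⊥ : Ideal A) : Set A) (T : Set A) := by
    rw [Set.disjoint_left]
    intro x hx hxT
    have hx0 : x = 0 := by simpa using hx
    obtain ⟨y, hy, z, ⟨n, rfl⟩, hyz⟩ := Submonoid.mem_sup.mp hxT
    exact hcon y hy n (by rw [hyz, hx0])
  obtain ⟨Q, hQ, -, hQT⟩ := Ideal.exists_le_prime_disjoint ⊥ T hdis
  have hQP : Q ≤ P := by
    intro x hx
    by_contra hxP
    exact Set.disjoint_left.mp hQT hx (Submonoid.mem_sup_left hxP)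
  have hPQ : P ≤ Q := hP.2 ⟨hQ, bot_le⟩ hQP
  have hbT : b ∈ T := Submonoid.mem_sup_right (Submonoid.mem_powers b)
  exact Set.disjoint_left.mp hQT (hPQ hb) hbT

/-- homogeneous version -/
theorem exists_homogeneous_mul_pow_eq_zero {P : Ideal A} (hP : P ∈ minimalPrimes A) {k : ℕ}
    {b : A} (hbk : b ∈ 𝒜 k) (hb : b ∈ P) :
    ∃ (i : ℕ) (t : A), t ∈ 𝒜 i ∧ t ∉ P ∧ ∃ n : ℕ, t * b ^ n = 0 := by
  classical
  obtain ⟨s, hs, n, hsn⟩ := exists_mul_pow_eq_zero hP hb
  have hex : ∃ i, (decompose 𝒜 s i : A) ∉ P := by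
    by_contra h
    push Not at h
    apply hs
    rw [← DirectSum.sum_support_decompose 𝒜 s]
    exact Ideal.sum_mem _ (fun i _ => h i)
  obtain ⟨i, hi⟩ := hex
  refine ⟨i, (decompose 𝒜 s i : A), (decompose 𝒜 s i).2, hi, n, ?_⟩
  have hbn : b ^ n ∈ 𝒜 (n • k) := SetLike.pow_mem_graded n hbk
  have h1 := DirectSum.coe_decompose_mul_add_of_right_mem 𝒜 (i := i) (a := s) hbn
  rw [← h1, hsn, DirectSum.decompose_zero]
  rfl

variable {d : ℕ} {f : A} (hf : f ∈ 𝒜 d)

/-- membership of the value of a degree-zero fraction in a prime of `A_f` -/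
theorem val_mk_mem_iff (P' : Ideal (Localization.Away f)) [hP' : P'.IsPrime] (m : ℕ) (b : A)
    (hb : b ∈ 𝒜 (m • d)) :
    (Away.mk 𝒜 hf m b hb).val ∈ P' ↔ algebraMap A (Localization.Away f) b ∈ P' := by
  rw [Away.val_mk]
  have hu : IsUnit (algebraMap A (Localization.Away f) (f ^ m)) :=
    IsLocalization.map_units _ (⟨f ^ m, ⟨m, rfl⟩⟩ : Submonoid.powers f)
  have h1 : Localization.mk b (⟨f ^ m, ⟨m, rfl⟩⟩ : Submonoid.powers f) *
      algebraMap A (Localization.Away f) (f ^ m) = algebraMap A (Localization.Away f) b := by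
    rw [← Localization.mk_one_eq_algebraMap, ← Localization.mk_one_eq_algebraMap,
      Localization.mk_mul, Localization.mk_eq_mk_iff, Localization.r_iff_exists]
    refine ⟨1, ?_⟩
    simp only [OneMemClass.coe_one, one_mul, mul_one]
    ring
  constructor
  · intro h
    rw [← h1]
    exact Ideal.mul_mem_right _ _ h
  · intro h
    rw [← h1] at h
    refine (hP'.mem_or_mem h).resolve_right (fun h2 => hP'.ne_top ?_)
    exact Ideal.eq_top_of_isUnit_mem _ h2 hu

include hf in
/-- **No embedded primes passes to `A_(f)`.** -/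
theorem noEmb_away [IsNoetherianRing A] (hd : 0 < d)
    (hA : ∀ p ∈ associatedPrimes A A, p ∈ minimalPrimes A) :
    ∀ q ∈ associatedPrimes (Away 𝒜 f) (Away 𝒜 f), q ∈ minimalPrimes (Away 𝒜 f) := by
  classical
  intro q hq
  haveI : IsNoetherianRing (Away 𝒜 f) := isNoetherianRing_away 𝒜 hf
  haveI : IsNoetherianRing (Localization.Away f) :=
    IsLocalization.isNoetherianRing (Submonoid.powers f) (Localization.Away f) inferInstance
  obtain ⟨hqp, β, hβ⟩ := (isAssociatedPrime_iff).mp hq
  have hβ0 : β ≠ 0 := by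
    rintro rfl
    apply hqp.ne_top
    rw [hβ, Ideal.eq_top_iff_one, Submodule.mem_colon_singleton]
    simp
  have hv0 : β.val ≠ 0 := fun h =>
    hβ0 (HomogeneousLocalization.val_injective _ (by rw [h, HomogeneousLocalization.val_zero]))
  obtain ⟨P', hP', hle⟩ := exists_le_isAssociatedPrime_of_isNoetherianRing
    (R := Localization.Away f) (M := Localization.Away f) β.val hv0
  haveI hP'p : P'.IsPrime := hP'.isPrime
  haveI : IsLocalizedModule (Submonoid.powers f) (Algebra.linearMap A (Localization.Away f)) :=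
    isLocalizedModule_iff_isLocalization.mpr inferInstance
  have hPass : P'.comap (algebraMap A (Localization.Away f)) ∈ associatedPrimes A A :=
    Module.associatedPrimes.comap_mem_associatedPrimes_of_mem_associatedPrimes_of_isLocalizedModule_of_fg
      (Submonoid.powers f) (Algebra.linearMap A (Localization.Away f)) P' hP'
      (IsNoetherian.noetherian _)
  have hPmin : P'.comap (algebraMap A (Localization.Away f)) ∈ minimalPrimes A := hA _ hPass
  haveI hPp : (P'.comap (algebraMap A (Localization.Away f))).IsPrime := hPmin.1.1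
  have hqle : ∀ z ∈ q, z.val ∈ P' := by
    intro z hz
    rw [hβ, Submodule.mem_colon_singleton] at hz
    have hzβ : z * β = 0 := by simpa using hz
    apply hle
    rw [Submodule.mem_colon_singleton]
    show z.val • β.val ∈ (⊥ : Submodule (Localization.Away f) (Localization.Away f))
    rw [smul_eq_mul, ← HomogeneousLocalization.val_mul, hzβ, HomogeneousLocalization.val_zero]
    exact Submodule.zero_mem _
  refine ⟨⟨hqp, bot_le⟩, ?_⟩
  rintro q'' ⟨hq''p, -⟩ hq''le
  intro z hz
  obtain ⟨m, b, hb, rfl⟩ := Away.mk_surjective 𝒜 hf z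
  have hzP' := hqle _ hz
  rw [val_mk_mem_iff] at hzP'
  have hbP : b ∈ P'.comap (algebraMap A (Localization.Away f)) := hzP'
  obtain ⟨i, t, hti, htP, n, htn⟩ := exists_homogeneous_mul_pow_eq_zero 𝒜 hPmin hb hbP
  have htd : t ^ d ∈ 𝒜 (i • d) := by
    have h := SetLike.pow_mem_graded d hti
    rwa [smul_eq_mul, mul_comm, ← smul_eq_mul] at h
  have hσ : Away.mk 𝒜 hf i (t ^ d) htd ∉ q'' := by
    intro h
    have h1 := hqle _ (hq''le h)
    rw [val_mk_mem_iff] at h1
    have h2 : t ^ d ∈ P'.comap (algebraMap A (Localization.Away f)) := h1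
    exact htP (hPp.mem_of_pow_mem d h2)
  have hσz : Away.mk 𝒜 hf i (t ^ d) htd * (Away.mk 𝒜 hf m b hb) ^ n = 0 := by
    apply HomogeneousLocalization.val_injective
    rw [HomogeneousLocalization.val_mul, HomogeneousLocalization.val_pow, Away.val_mk,
      Away.val_mk, HomogeneousLocalization.val_zero, Localization.mk_pow, Localization.mk_mul]
    have h0 : t ^ d * b ^ n = 0 := by
      obtain ⟨d', rfl⟩ : ∃ d', d = d' + 1 := ⟨d - 1, by omega⟩
      rw [pow_succ, mul_assoc, htn, mul_zero]
    rw [h0, Localization.mk_zero]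
  have hmem : Away.mk 𝒜 hf i (t ^ d) htd * (Away.mk 𝒜 hf m b hb) ^ n ∈ q'' := by
    rw [hσz]
    exact Ideal.zero_mem _
  rcases hq''p.mem_or_mem hmem with h | h
  · exact absurd h hσ
  · exact hq''p.mem_of_pow_mem n h

/-- `(S_1)` passes from a Noetherian graded ring to `A_(f)`. -/
theorem hasSk_one_away {A : Type u} [CommRing A] [IsNoetherianRing A] (𝒜 : ℕ → AddSubgroup A)
    [GradedRing 𝒜] {d : ℕ} {f : A} (hf : f ∈ 𝒜 d) (hd : 0 < d) (hA : LocCoh.HasSk 1 A A) :
    LocCoh.HasSk 1 (Away 𝒜 f) (Away 𝒜 f) := by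
  haveI : IsNoetherianRing (Away 𝒜 f) := isNoetherianRing_away 𝒜 hf
  rw [← Groth.Agent.Helper16.EquiNoEmb.noEmb_iff_hasSk_one]
  exact noEmb_away 𝒜 hf hd ((Groth.Agent.Helper16.EquiNoEmb.noEmb_iff_hasSk_one A).mpr hA)

end Main

end Groth.Agent.Helper6.ProjS1

namespace Groth.Agent.Helper6.ProjS1

open AlgebraicGeometry CategoryTheory

set_option backward.isDefEq.respectTransparency.types false in
/-- transport of `(S_k)` along an affine chart -/
theorem hasSk_stalk_of_chart {T : Scheme.{u}} {C : Type u} [CommRing C] [IsNoetherianRing C]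
    (j : Spec (CommRingCat.of C) ⟶ T) [IsOpenImmersion j] (z : PrimeSpectrum C) (k : ℕ)
    (h : LocCoh.HasSk k (Localization.AtPrime z.asIdeal) (Localization.AtPrime z.asIdeal)) :
    LocCoh.HasSk k (T.presheaf.stalk (j.base z)) (T.presheaf.stalk (j.base z)) := by
  let e1 : T.presheaf.stalk (j.base z) ≃+*
      (AlgebraicGeometry.Spec (CommRingCat.of C)).presheaf.stalk z :=
    (CategoryTheory.asIso (j.stalkMap z)).commRingCatIsoToRingEquiv
  let e2 : Localization.AtPrime z.asIdeal ≃+*
      (AlgebraicGeometry.Spec (CommRingCat.of C)).presheaf.stalk z :=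
    (AlgebraicGeometry.StructureSheaf.stalkIso C z).toRingEquiv
  haveI : IsNoetherianRing (Localization.AtPrime z.asIdeal) :=
    IsLocalization.isNoetherianRing z.asIdeal.primeCompl _ inferInstance
  haveI : IsNoetherianRing (T.presheaf.stalk (j.base z)) :=
    isNoetherianRing_of_ringEquiv _ (e2.trans e1.symm)
  exact Groth.Agent.Helper7.FieldCM.hasSk_of_ringEquiv (e2.trans e1.symm) k h

end Groth.Agent.Helper6.ProjS1
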