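import Mathlib
import Groth.Prelude.Def_CohB1

set_option autoImplicit false
universe u
open CategoryTheory CategoryTheory.Limits AlgebraicGeometry

namespace Groth.Agent.Helper6.ProjSpaceSec

/-- the ring hom `R[X₀..Xₙ] → Γ(Spec R, ⊤)` evaluating all variables at `1`. -/
noncomputable def evOne (n : ℕ) (R : Type u) [CommRing R] :
    MvPolynomial (Fin (n + 1)) R →+* Γ(Spec (CommRingCat.of R), ⊤) :=
  (Scheme.ΓSpecIso (CommRingCat.of R)).inv.hom.comp (MvPolynomial.eval (fun _ => (1 : R)))

theorem evOne_irrelevant (n : ℕ) (R : Type u) [CommRing R] :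
    (HomogeneousIdeal.irrelevant (CohB1.polyGrading n R)).toIdeal.map (evOne n R) = ⊤ := by
  rw [Ideal.eq_top_iff_one]
  have h1 : (MvPolynomial.X 0 : MvPolynomial (Fin (n + 1)) R) ∈
      (HomogeneousIdeal.irrelevant (CohB1.polyGrading n R)).toIdeal :=
    HomogeneousIdeal.mem_irrelevant_of_mem _ Nat.one_pos (MvPolynomial.isHomogeneous_X R 0)
  have h2 := Ideal.mem_map_of_mem (evOne n R) h1
  have h3 : evOne n R (MvPolynomial.X 0) = 1 := by
    simp [evOne]
  rwa [h3] at h2

/-- A section of the structure morphism of projective space. -/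
noncomputable def sec (n : ℕ) (R : Type u) [CommRing R] :
    Spec (CommRingCat.of R) ⟶ Proj (CohB1.polyGrading n R) :=
  Proj.fromOfGlobalSections (CohB1.polyGrading n R) (evOne n R) (evOne_irrelevant n R)

theorem sec_toSpec (n : ℕ) (R : Type u) [CommRing R] :
    sec n R ≫ (Proj.toSpecZero (CohB1.polyGrading n R) ≫
      Spec.map (CommRingCat.ofHom (algebraMap R (CohB1.polyGrading n R 0)))) = 𝟙 _ := by
  rw [sec, Proj.fromOfGlobalSections_toSpecZero_assoc, ← Spec.map_comp,
    ← CommRingCat.ofHom_comp]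
  have e : ((evOne n R).comp (algebraMap (CohB1.polyGrading n R 0) _)).comp
      (algebraMap R (CohB1.polyGrading n R 0)) = (Scheme.ΓSpecIso (CommRingCat.of R)).inv.hom := by
    ext r
    simp [evOne]
  rw [e]
  exact toSpecΓ_SpecMap_ΓSpecIso_inv _

theorem toSpec_surjective (n : ℕ) (R : Type u) [CommRing R] :
    Surjective (CohB1.ProjSpace.toSpec n R) := by
  have h : Surjective (sec n R ≫ (Proj.toSpecZero (CohB1.polyGrading n R) ≫
      Spec.map (CommRingCat.ofHom (algebraMap R (CohB1.polyGrading n R 0))))) := by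
    rw [sec_toSpec]; infer_instance
  exact @Surjective.of_comp _ _ _ (sec n R) (Proj.toSpecZero (CohB1.polyGrading n R) ≫
      Spec.map (CommRingCat.ofHom (algebraMap R (CohB1.polyGrading n R 0)))) h

end Groth.Agent.Helper6.ProjSpaceSec
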