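import Groth.Agent.Lib.Helper6.ProjClosed
import Groth.Agent.Lib.Helper28.ProjFracK
import Groth.Agent.Lib.Helper28.PullSecBridge
import Groth.Agent.Lib.Helper28.ProjChart
import Groth.Agent.Lib.Helper28.TwistGen
import Groth.Agent.Lib.Helper7.Graded

/-!
# A closed subscheme of `Proj 𝒜` is `Proj` of the quotient by the forms vanishing on it (helper6)

`𝒜` generated by finitely many elements of degree one, `i : Z ⟶ Proj 𝒜` a closed immersion.
* `mem_Jloc_iff`: `z ∈ Jloc i.ker f ↔ i^♯(z) = 0` on `D₊(f)`;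
* `pullSec_eq_zero_iff`: for `F` of degree `d`, `i^*F = 0` in `Γ(Z, i^*O(d))` iff `i^♯(F/f^d) = 0`
  for all generators `f`;
* `exists_iso_of_ker`: if `φ : 𝒜 → ℬ` is a surjective graded map whose kernel in each degree `d`
  is the set of `F` with `i^*F = 0`, then `Z ≅ Proj ℬ` over `Proj 𝒜`.
-/

set_option autoImplicit false
set_option linter.style.haveILetI false
set_option linter.unusedSectionVars false
set_option linter.unusedVariables false
universe u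
open AlgebraicGeometry CategoryTheory Limits HomogeneousLocalization Scheme.IdealSheafData
  Opposite TopologicalSpace DirectSum
open Groth.Agent.Helper6.IdealComap Groth.Agent.Helper6.FSchLib Groth.Agent.Helper6.ProjClosedAlg
  Groth.Agent.Helper6.ProjClosed
open Groth.Agent.Helper13 Groth.Agent.Helper13.Inv Groth.Agent.Helper28

noncomputable section

namespace Groth.Agent.Helper6.ProjSub

theorem ker_transport {X Y : Scheme.{u}} (i : X ⟶ Y) (W D : Y.Opens) (hWD : W = D)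
    (x : Γ(Y, D)) :
    (i.app W).hom ((Y.presheaf.map (eqToHom hWD).op).hom x) = 0 ↔ (i.app D).hom x = 0 := by
  subst hWD
  simp

theorem eq_zero_of_cover {Z : Scheme.{u}} (M : Z.Modules) {ι : Type*} (U : ι → Z.Opens)
    (hU : ∀ y : Z, ∃ k, y ∈ U k) (t : Γ(M, ⊤))
    (h : ∀ k, M.presheaf.map (homOfLE (le_top : U k ≤ ⊤)).op t = 0) : t = 0 := by
  refine TopCat.Sheaf.eq_of_locally_eq' (⟨M.presheaf, M.isSheaf⟩ : TopCat.Sheaf Ab Z) U ⊤
    (fun k => homOfLE le_top) ?_ t 0 (fun k => ?_)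
  · intro y _
    obtain ⟨k, hk⟩ := hU y
    exact Opens.mem_iSup.mpr ⟨k, hk⟩
  · exact (h k).trans (map_zero _).symm

variable {R A : Type u} [CommRing R] [CommRing A] [Algebra R A] (𝒜 : ℕ → Submodule R A)
  [GradedAlgebra 𝒜]

section jloc

variable {f : A} (hf : f ∈ 𝒜 1)

theorem awayToSection_appLE
    (e : (⊤ : (Spec (CommRingCat.of (Away 𝒜 f))).Opens) ≤
      (Proj.awayι 𝒜 f hf one_pos) ⁻¹ᵁ Proj.basicOpen 𝒜 f) :
    Proj.awayToSection 𝒜 f ≫ (Proj.awayι 𝒜 f hf one_pos).appLE (Proj.basicOpen 𝒜 f) ⊤ e =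
      (Scheme.ΓSpecIso (CommRingCat.of (Away 𝒜 f))).inv := by
  have hchart : ProjChart.chartMap 𝒜 hf one_pos
      (Scheme.ΓSpecIso (CommRingCat.of (Away 𝒜 f))).inv.hom = Proj.awayι 𝒜 f hf one_pos := by
    unfold ProjChart.chartMap
    rw [CommRingCat.ofHom_hom, ← SpecMap_ΓSpecIso_hom, ← Category.assoc, ← Spec.map_comp,
      Iso.inv_hom_id, Spec.map_id, Category.id_comp]
  have hθ := ProjChart.θ_chartMap 𝒜 hf one_pos
    (Scheme.ΓSpecIso (CommRingCat.of (Away 𝒜 f))).inv.hom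
  have key : ∀ (t : Spec (CommRingCat.of (Away 𝒜 f)) ⟶ Proj 𝒜)
      (ht : t = Proj.awayι 𝒜 f hf one_pos) (h : t ⁻¹ᵁ Proj.basicOpen 𝒜 f = ⊤),
      ProjChart.θ 𝒜 t h = (Proj.awayToSection 𝒜 f ≫
        (Proj.awayι 𝒜 f hf one_pos).appLE (Proj.basicOpen 𝒜 f) ⊤ e).hom := by
    rintro _ rfl h
    rfl
  have h2 := (key _ hchart _).symm.trans hθ
  exact CommRingCat.hom_ext h2

theorem mem_Jloc_iff {Z : Scheme.{u}} (i : Z ⟶ Proj 𝒜) [IsClosedImmersion i] (z : Away 𝒜 f) :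
    z ∈ Jloc 𝒜 i.ker f hf ↔
      (i.app (Proj.basicOpen 𝒜 f)).hom ((Proj.awayToSection 𝒜 f).hom z) = 0 := by
  have hWD : (Proj.awayι 𝒜 f hf one_pos) ''ᵁ ⊤ = Proj.basicOpen 𝒜 f := by
    rw [Scheme.Hom.image_top_eq_opensRange, Proj.opensRange_awayι]
  have hpre : (⊤ : (Spec (CommRingCat.of (Away 𝒜 f))).Opens) ≤
      (Proj.awayι 𝒜 f hf one_pos) ⁻¹ᵁ Proj.basicOpen 𝒜 f := by
    rw [← hWD, Scheme.Hom.preimage_image_eq]
  have h1 := awayToSection_appLE 𝒜 hf hpre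
  have h2 : (Proj.awayι 𝒜 f hf one_pos).appLE (Proj.basicOpen 𝒜 f) ⊤ hpre =
      (Proj 𝒜).presheaf.map (eqToHom hWD).op ≫
        ((Proj.awayι 𝒜 f hf one_pos).appIso ⊤).hom := by
    rw [Scheme.Hom.appIso_hom', Scheme.Hom.map_appLE]
  have h3 : (Scheme.ΓSpecIso (CommRingCat.of (Away 𝒜 f))).inv ≫
      ((Proj.awayι 𝒜 f hf one_pos).appIso ⊤).inv =
      Proj.awayToSection 𝒜 f ≫ (Proj 𝒜).presheaf.map (eqToHom hWD).op := by
    rw [← h1, h2, Category.assoc, Category.assoc, Iso.hom_inv_id, Category.comp_id]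
  have h4 : ((Proj.awayι 𝒜 f hf one_pos).appIso ⊤).inv.hom
      ((Scheme.ΓSpecIso (CommRingCat.of (Away 𝒜 f))).inv.hom z) =
      ((Proj 𝒜).presheaf.map (eqToHom hWD).op).hom ((Proj.awayToSection 𝒜 f).hom z) :=
    congrArg (fun k => k.hom z) h3
  have e1 := Scheme.IdealSheafData.ideal_comap_of_isOpenImmersion i.ker
    (Proj.awayι 𝒜 f hf one_pos) ⟨⊤, isAffineOpen_top _⟩
  have e2 := Scheme.Hom.ker_apply i ⟨(Proj.awayι 𝒜 f hf one_pos) ''ᵁ ⊤,
    (isAffineOpen_top _).image_of_isOpenImmersion _⟩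
  constructor
  · intro hz
    have hz1 : (Scheme.ΓSpecIso (CommRingCat.of (Away 𝒜 f))).inv.hom z ∈
        (i.ker.comap (Proj.awayι 𝒜 f hf one_pos)).ideal ⟨⊤, isAffineOpen_top _⟩ := hz
    rw [e1] at hz1
    have hz2 : ((Proj.awayι 𝒜 f hf one_pos).appIso ⊤).inv.hom
        ((Scheme.ΓSpecIso (CommRingCat.of (Away 𝒜 f))).inv.hom z) ∈
        i.ker.ideal ⟨(Proj.awayι 𝒜 f hf one_pos) ''ᵁ ⊤,
          (isAffineOpen_top _).image_of_isOpenImmersion _⟩ := hz1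
    rw [e2, RingHom.mem_ker, h4] at hz2
    exact (ker_transport i _ _ hWD _).1 hz2
  · intro h0
    have hz2 : ((Proj.awayι 𝒜 f hf one_pos).appIso ⊤).inv.hom
        ((Scheme.ΓSpecIso (CommRingCat.of (Away 𝒜 f))).inv.hom z) ∈
        i.ker.ideal ⟨(Proj.awayι 𝒜 f hf one_pos) ''ᵁ ⊤,
          (isAffineOpen_top _).image_of_isOpenImmersion _⟩ := by
      rw [e2, RingHom.mem_ker, h4]
      exact (ker_transport i _ _ hWD _).2 h0
    have hz1 : (Scheme.ΓSpecIso (CommRingCat.of (Away 𝒜 f))).inv.hom z ∈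
        (i.ker.comap (Proj.awayι 𝒜 f hf one_pos)).ideal ⟨⊤, isAffineOpen_top _⟩ := by
      rw [e1]
      exact hz2
    exact hz1

end jloc

section core

variable {Z : Scheme.{u}} (i : Z ⟶ Proj 𝒜) {d : ℕ} {f : A} (hf : f ∈ 𝒜 1) {F : A}
  (hF : F ∈ 𝒜 d)

/-- on `i⁻¹ D₊(f)`: `i^*F = i^♯(F/f^d) · i^*(f^d)`. -/
lemma pullSec_res_eqK (hfd : f ^ d ∈ 𝒜 d) :
    ((Scheme.Modules.pullback i).obj (Twist.twist 𝒜 (d : ℤ))).presheaf.map
        (homOfLE (le_top : i ⁻¹ᵁ Proj.basicOpen 𝒜 f ≤ ⊤)).op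
        (ProjUP.pullSec i (Twist.twist 𝒜 (d : ℤ)) (Twist.globalOf 𝒜 ⟨F, hF⟩)) =
      (i.app (Proj.basicOpen 𝒜 f)).hom (ProjFracK.fracK 𝒜 hf d F (mem_smul_one 𝒜 hF)) •
        ((Scheme.Modules.pullback i).obj (Twist.twist 𝒜 (d : ℤ))).presheaf.map
          (homOfLE (le_top : i ⁻¹ᵁ Proj.basicOpen 𝒜 f ≤ ⊤)).op
          (ProjUP.pullSec i (Twist.twist 𝒜 (d : ℤ)) (Twist.globalOf 𝒜 ⟨f ^ d, hfd⟩)) := by
  have h1 := congrArg (PbGen.ηsec i (Twist.twist 𝒜 (d : ℤ)) (Proj.basicOpen 𝒜 f))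
    (ProjFracK.globalOf_res_eqK 𝒜 hf d d (by simp) F hF hfd)
  rw [PbGen.ηsec_smul, PbGen.ηsec_res, PbGen.ηsec_res] at h1
  exact h1

lemma isGen_pullSec_pow (hinv : PicF.IsInvertible (Twist.twist 𝒜 (d : ℤ))) (hfd : f ^ d ∈ 𝒜 d)
    (y : Z) (hy : y ∈ i ⁻¹ᵁ Proj.basicOpen 𝒜 f) :
    IsGen ((Scheme.Modules.pullback i).obj (Twist.twist 𝒜 (d : ℤ)))
      (((Scheme.Modules.pullback i).obj (Twist.twist 𝒜 (d : ℤ))).presheaf.map
        (homOfLE (le_top : i ⁻¹ᵁ Proj.basicOpen 𝒜 f ≤ ⊤)).op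
        (ProjUP.pullSec i (Twist.twist 𝒜 (d : ℤ)) (Twist.globalOf 𝒜 ⟨f ^ d, hfd⟩))) y hy := by
  have h : ((d : ℕ) : ℤ) = 0 + (d : ℤ) := (zero_add _).symm
  rw [isGen_res]
  have hmem : i.base y ∈ CohB1.genLocus _ (TwistMul.secHom 𝒜 hfd h) := by
    apply TwistMul.le_genLocus_secHom 𝒜 hfd h
    change f ^ d ∉ (i.base y).asHomogeneousIdeal
    intro hmem
    exact hy ((i.base y).isPrime.mem_of_pow_mem _ hmem)
  have h2 := (PullSecBridge.preimage_genLocus_iff i (Twist.twist 𝒜 (d : ℤ)) hinv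
    (TwistMul.secHom 𝒜 hfd h) y).1 hmem
  have h3 : GenLoc.sec (Twist.twist 𝒜 (d : ℤ)) (TwistMul.secHom 𝒜 hfd h) =
      Twist.globalOf 𝒜 ⟨f ^ d, hfd⟩ := TwistMul.secHom_app_top_one 𝒜 hfd h
  rw [h3] at h2
  exact h2

theorem pullSec_eq_zero_iff (s : Finset A) (hs1 : ∀ f ∈ s, f ∈ 𝒜 1)
    (hcov : ⨆ f : s, Proj.basicOpen 𝒜 f.1 = ⊤)
    (hinv : PicF.IsInvertible (Twist.twist 𝒜 (d : ℤ))) :
    ProjUP.pullSec i (Twist.twist 𝒜 (d : ℤ)) (Twist.globalOf 𝒜 ⟨F, hF⟩) = 0 ↔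
      ∀ (f : A) (hfs : f ∈ s), (i.app (Proj.basicOpen 𝒜 f)).hom
        ((Proj.awayToSection 𝒜 f).hom
          (Away.mk 𝒜 (hs1 f hfs) d F (mem_smul_one 𝒜 hF))) = 0 := by
  have hfd : ∀ f (hfs : f ∈ s), f ^ d ∈ 𝒜 d := fun f hfs => by
    have h := SetLike.pow_mem_graded d (hs1 f hfs)
    simpa using h
  constructor
  · intro h0 f hfs
    have h1 := pullSec_res_eqK 𝒜 i (hs1 f hfs) hF (hfd f hfs)
    rw [h0, map_zero] at h1
    exact PullSecBridge.smul_cancel_of_isGen _ _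
      (isGen_pullSec_pow 𝒜 i hinv (hfd f hfs))
      ((i.app (Proj.basicOpen 𝒜 f)).hom
        (ProjFracK.fracK 𝒜 (hs1 f hfs) d F (mem_smul_one 𝒜 hF))) 0
      (by rw [← h1, zero_smul])
  · intro h
    refine eq_zero_of_cover _ (fun f : s => i ⁻¹ᵁ Proj.basicOpen 𝒜 f.1) ?_ _ (fun f => ?_)
    · intro y
      have hy : i.base y ∈ (⨆ f : s, Proj.basicOpen 𝒜 f.1 : (Proj 𝒜).Opens) := by
        rw [hcov]
        trivial
      obtain ⟨f, hf⟩ := Opens.mem_iSup.mp hy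
      exact ⟨f, hf⟩
    · rw [pullSec_res_eqK 𝒜 i (hs1 f.1 f.2) hF (hfd f.1 f.2)]
      have h2 : (i.app (Proj.basicOpen 𝒜 f.1)).hom
          (ProjFracK.fracK 𝒜 (hs1 f.1 f.2) d F (mem_smul_one 𝒜 hF)) = 0 := h f.1 f.2
      rw [h2, zero_smul]

end core

section main

open Groth.Agent.Helper6 in
set_option maxHeartbeats 1600000 in
theorem exists_iso_of_ker (s : Finset A) (hs1 : ∀ f ∈ s, f ∈ 𝒜 1)
    (hs : (HomogeneousIdeal.irrelevant 𝒜).toIdeal = Ideal.span (s : Set A))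
    {Z : Scheme.{u}} (i : Z ⟶ Proj 𝒜) [IsClosedImmersion i]
    {B : Type u} [CommRing B] [Algebra R B] (ℬ : ℕ → Submodule R B) [GradedAlgebra ℬ]
    (φ : 𝒜 →+*ᵍ ℬ) (hφs : Function.Surjective φ)
    (hker : ∀ (d : ℕ) (F : A) (hF : F ∈ 𝒜 d), φ F = 0 ↔
      ProjUP.pullSec i (Twist.twist 𝒜 (d : ℤ)) (Twist.globalOf 𝒜 ⟨F, hF⟩) = 0)
    (hφ : HomogeneousIdeal.irrelevant ℬ ≤ (HomogeneousIdeal.irrelevant 𝒜).map φ) :
    ∃ e : Z ≅ Proj ℬ, e.hom ≫ Proj.map φ hφ = i := by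
  classical
  have hcov : ⨆ f : s, Proj.basicOpen 𝒜 f.1 = ⊤ :=
    Proj.iSup_basicOpen_eq_top 𝒜 (fun f : s => f.1) (by rw [hs]; simp)
  have hcovx : ∀ x : Proj 𝒜, ∃ f ∈ 𝒜 1, f ∉ x.asHomogeneousIdeal := by
    intro x
    have hx : x ∈ (⨆ f : s, Proj.basicOpen 𝒜 f.1 : (Proj 𝒜).Opens) := by
      rw [hcov]
      trivial
    obtain ⟨f, hfx⟩ := Opens.mem_iSup.mp hx
    exact ⟨f.1, hs1 f.1 f.2, hfx⟩
  have hinv : ∀ d : ℕ, PicF.IsInvertible (Twist.twist 𝒜 (d : ℤ)) := fun d =>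
    (TwistMul.twist_all_of_degree_one 𝒜 hcovx).1 d
  have hhom : ∀ (d : ℕ) (F : A) (hF : F ∈ 𝒜 d),
      φ F = 0 ↔ F ∈ idl 𝒜 s hs1 (Jloc 𝒜 i.ker) := by
    intro d F hF
    rw [hker d F hF, pullSec_eq_zero_iff 𝒜 i hF s hs1 hcov (hinv d), mem_idl_of_mem hF]
    refine forall₂_congr (fun f hfs => ?_)
    exact (mem_Jloc_iff 𝒜 (hs1 f hfs) i _).symm
  have hφ' : ∀ a, φ a = 0 ↔ a ∈ idl 𝒜 s hs1 (Jloc 𝒜 i.ker) := by
    intro a
    constructor
    · intro h0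
      rw [← DirectSum.sum_support_decompose 𝒜 a]
      refine Ideal.sum_mem _ (fun m _ => ?_)
      refine (hhom m _ (decompose 𝒜 a m).2).1 ?_
      rw [GradedRingHom.map_directSumDecompose, h0, DirectSum.decompose_zero,
        DirectSum.zero_apply, ZeroMemClass.coe_zero]
    · intro ha
      rw [← DirectSum.sum_support_decompose 𝒜 a, map_sum]
      refine Finset.sum_eq_zero (fun m _ => ?_)
      exact (hhom m _ (decompose 𝒜 a m).2).2 (idl_isHomogeneous m ha)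
  have hcl : IsClosedImmersion (Proj.map φ hφ) :=
    proj_map_isClosedImmersion_of_surjective φ hφ hφs
  have hkerEq : (Proj.map φ hφ).ker = i.ker := by
    refine ext_of_openImmersions (ι := s) (fun f => Spec (.of (Away 𝒜 f.1)))
      (fun f => Proj.awayι 𝒜 f.1 (hs1 f.1 f.2) one_pos) ?_ ?_
    · simp_rw [Proj.opensRange_awayι]
      exact hcov
    · intro f
      rw [← ker_of_isPullback (isPullback_awayι_map φ hφ one_pos f.1 (hs1 f.1 f.2)),
        ker_specMap_of_surjective _ (awayMap_surjective φ hφs (hs1 f.1 f.2)), ← idealSpec_Jloc]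
      congr 1
      exact ker_awayMap_eq (fun f g hfs hgs => Jloc_compat 𝒜 i.ker f g _ _) φ hφ' f.2
  have := IsClosedImmersion.isIso_lift (Proj.map φ hφ) i hkerEq
  exact ⟨asIso (IsClosedImmersion.lift (Proj.map φ hφ) i hkerEq.le),
    IsClosedImmersion.lift_fac _ _ _⟩

end main

section poly

variable (n : ℕ) (R : Type u) [CommRing R]

theorem X_mem (k : Fin (n + 1)) :
    (MvPolynomial.X k : MvPolynomial (Fin (n + 1)) R) ∈ CohB1.polyGrading n R 1 :=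
  MvPolynomial.isHomogeneous_X R k

open scoped Classical in
/-- the finite set of variables. -/
def vars : Finset (MvPolynomial (Fin (n + 1)) R) :=
  Finset.univ.image (fun k : Fin (n + 1) => (MvPolynomial.X k : MvPolynomial (Fin (n + 1)) R))

theorem mem_vars (k : Fin (n + 1)) :
    (MvPolynomial.X k : MvPolynomial (Fin (n + 1)) R) ∈ vars n R := by
  classical
  unfold vars
  exact Finset.mem_image.2 ⟨k, Finset.mem_univ k, rfl⟩

theorem vars_mem : ∀ f ∈ vars n R, f ∈ CohB1.polyGrading n R 1 := by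
  classical
  intro f hf
  unfold vars at hf
  obtain ⟨k, -, rfl⟩ := Finset.mem_image.1 hf
  exact X_mem n R k

theorem irrelevant_eq_span_vars :
    (HomogeneousIdeal.irrelevant (CohB1.polyGrading n R)).toIdeal =
      Ideal.span (vars n R : Set (MvPolynomial (Fin (n + 1)) R)) := by
  have hadj : Algebra.adjoin (CohB1.polyGrading n R 0)
      (vars n R : Set (MvPolynomial (Fin (n + 1)) R)) = ⊤ := by
    rw [eq_top_iff]
    intro x hxtop
    clear hxtop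
    have hx : x ∈ Algebra.adjoin R (Set.range
        (MvPolynomial.X : Fin (n + 1) → MvPolynomial (Fin (n + 1)) R)) := by
      rw [MvPolynomial.adjoin_range_X]
      trivial
    induction hx using Algebra.adjoin_induction with
    | mem y hy =>
      obtain ⟨k, rfl⟩ := hy
      exact Algebra.subset_adjoin (mem_vars n R k)
    | algebraMap a =>
      exact Subalgebra.algebraMap_mem _
        (⟨algebraMap R (MvPolynomial (Fin (n + 1)) R) a,
          SetLike.algebraMap_mem_graded (CohB1.polyGrading n R) a⟩ : CohB1.polyGrading n R 0)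
    | add y z _ _ hy hz => exact add_mem hy hz
    | mul y z _ _ hy hz => exact mul_mem hy hz
  exact Groth.Agent.Helper7.Graded.irrelevant_eq_span_of_adjoin_eq_top (CohB1.polyGrading n R) _
    (fun e he => ⟨1, one_pos, vars_mem n R e he⟩) hadj

end poly

end Groth.Agent.Helper6.ProjSub
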