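import Groth.Agent.Lib.Helper6.DehLib
import Groth.Prelude.Def_CohB1

set_option autoImplicit false
universe u
open CategoryTheory CategoryTheory.Limits AlgebraicGeometry HomogeneousLocalization

namespace Groth.Agent.Helper6.ProjZero

variable (A : Type u) [CommRing A]

theorem X_mem : (MvPolynomial.X 0 : MvPolynomial (Fin 1) A) ∈ CohB1.polyGrading 0 A 1 :=
  MvPolynomial.isHomogeneous_X A 0

/-- homogeneous polynomials in one variable are monomials -/
theorem eq_C_mul_X_pow {d : ℕ} {f : MvPolynomial (Fin 1) A} (hf : f ∈ CohB1.polyGrading 0 A d) :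
    f = MvPolynomial.C (MvPolynomial.coeff (Finsupp.single 0 d) f) * MvPolynomial.X 0 ^ d := by
  ext m
  rw [MvPolynomial.coeff_C_mul, MvPolynomial.coeff_X_pow]
  split_ifs with h
  · rw [← h, mul_one]
  · rw [mul_zero]
    have hf' : f.IsHomogeneous d := hf
    apply hf'.coeff_eq_zero
    intro hdeg
    apply h
    ext
    rw [Finsupp.degree_eq_sum] at hdeg
    have hd0 : (default : Fin 1) = 0 := rfl
    rw [hd0, Finsupp.single_eq_same]
    simpa using hdeg.symm

/-- Every point of `Proj` misses some homogeneous element of positive degree. -/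
theorem exists_homogeneous_notMem' {R A : Type u} [CommRing R] [CommRing A] [Algebra R A]
    (𝒜 : ℕ → Submodule R A) [GradedAlgebra 𝒜] (x : ProjectiveSpectrum 𝒜) :
    ∃ (d : ℕ) (f : A), 0 < d ∧ f ∈ 𝒜 d ∧ f ∉ x.asHomogeneousIdeal := by
  classical
  by_contra hcon
  push Not at hcon
  apply x.not_irrelevant_le
  intro a ha
  change a ∈ x.asHomogeneousIdeal.toIdeal
  rw [← DirectSum.sum_support_decompose 𝒜 a]
  refine Ideal.sum_mem _ (fun j _ => ?_)
  rcases Nat.eq_zero_or_pos j with rfl | hj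
  · have h0 : (DirectSum.decompose 𝒜 a 0 : A) = 0 := ha
    rw [h0]; exact zero_mem _
  · exact hcon j _ hj (DirectSum.decompose 𝒜 a j).2

theorem basicOpen_X_eq_top :
    Proj.basicOpen (CohB1.polyGrading 0 A) (MvPolynomial.X 0) = ⊤ := by
  rw [eq_top_iff]
  intro x _
  obtain ⟨d, f, hd, hf, hfx⟩ := Groth.Agent.Helper6.ProjZero.exists_homogeneous_notMem' _ x
  rw [Proj.mem_basicOpen]
  intro hX
  apply hfx
  rw [eq_C_mul_X_pow A hf]
  exact Ideal.mul_mem_left _ _ (Ideal.pow_mem_of_mem _ hX d hd)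

/-- the ring map `A → A[T]_(T)` -/
noncomputable def ψ : A →+* Away (CohB1.polyGrading 0 A) (MvPolynomial.X 0) :=
  (Groth.Agent.Helper6.DehLib.deh (X_mem A)).comp MvPolynomial.C

theorem ψ_eq : ψ A = (algebraMap (CohB1.polyGrading 0 A 0)
    (Away (CohB1.polyGrading 0 A) (MvPolynomial.X 0))).comp
      (algebraMap A (CohB1.polyGrading 0 A 0)) := by
  ext a
  have hC : (MvPolynomial.C a : MvPolynomial (Fin 1) A) ∈ CohB1.polyGrading 0 A 0 :=
    MvPolynomial.isHomogeneous_C _ a
  rw [ψ, RingHom.comp_apply, Groth.Agent.Helper6.DehLib.deh_of_mem (X_mem A) hC]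
  rw [Away.val_mk, RingHom.comp_apply, HomogeneousLocalization.algebraMap_eq]
  simp only [fromZeroRingHom, RingHom.coe_mk, MonoidHom.coe_mk, OneHom.coe_mk,
    HomogeneousLocalization.val_mk]
  congr 1

theorem ψ_surjective : Function.Surjective (ψ A) := by
  intro x
  obtain ⟨p, rfl⟩ := Groth.Agent.Helper6.DehLib.deh_surjective (X_mem A) x
  refine ⟨MvPolynomial.eval (fun _ => (1 : A)) p, ?_⟩
  have e : (ψ A).comp (MvPolynomial.eval (fun _ => (1 : A))) =
      Groth.Agent.Helper6.DehLib.deh (X_mem A) := by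
    apply MvPolynomial.ringHom_ext
    · intro a
      simp [ψ]
    · intro i
      have hi : i = 0 := Subsingleton.elim _ _
      subst hi
      simp [ψ, Groth.Agent.Helper6.DehLib.deh_self]
  exact congrArg (fun φ => φ p) e

theorem ψ_injective : Function.Injective (ψ A) := by
  rw [injective_iff_map_eq_zero]
  intro a ha
  have hC : (MvPolynomial.C a : MvPolynomial (Fin 1) A) ∈ CohB1.polyGrading 0 A 0 :=
    MvPolynomial.isHomogeneous_C _ a
  rw [ψ, RingHom.comp_apply, Groth.Agent.Helper6.DehLib.deh_of_mem (X_mem A) hC] at ha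
  have h1 := congrArg HomogeneousLocalization.val ha
  rw [Away.val_mk, HomogeneousLocalization.val_zero, Localization.mk_eq_mk'_apply,
    IsLocalization.mk'_eq_zero_iff] at h1
  obtain ⟨⟨m, k, rfl⟩, hm⟩ := h1
  change MvPolynomial.X 0 ^ k * MvPolynomial.C a = 0 at hm
  rw [mul_comm] at hm
  have h2 := congrArg (MvPolynomial.coeff (Finsupp.single 0 k)) hm
  rw [MvPolynomial.coeff_C_mul, MvPolynomial.coeff_X_pow, if_pos rfl, mul_one,
    MvPolynomial.coeff_zero] at h2
  exact h2

/-- `P⁰_A → Spec A` is an isomorphism. -/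
theorem isIso_toSpec : IsIso (CohB1.ProjSpace.toSpec 0 A) := by
  have hj : IsIso (Proj.awayι (CohB1.polyGrading 0 A) (MvPolynomial.X 0) (X_mem A) Nat.one_pos) := by
    apply isIso_of_isOpenImmersion_of_opensRange_eq_top
    rw [Proj.opensRange_awayι, basicOpen_X_eq_top]
  have hψ : IsIso (CommRingCat.ofHom (ψ A)) := by
    have e : CommRingCat.ofHom (ψ A) =
        (RingEquiv.ofBijective (ψ A) ⟨ψ_injective A, ψ_surjective A⟩).toCommRingCatIso.hom := rfl
    rw [e]; infer_instance
  have hcomp : Proj.awayι (CohB1.polyGrading 0 A) (MvPolynomial.X 0) (X_mem A) Nat.one_pos ≫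
      (Proj.toSpecZero (CohB1.polyGrading 0 A) ≫
        Spec.map (CommRingCat.ofHom (algebraMap A (CohB1.polyGrading 0 A 0)))) =
      Spec.map (CommRingCat.ofHom (ψ A)) := by
    rw [Proj.awayι_toSpecZero_assoc, ← Spec.map_comp, ← CommRingCat.ofHom_comp, ψ_eq]
  have h3 : IsIso (Proj.awayι (CohB1.polyGrading 0 A) (MvPolynomial.X 0) (X_mem A) Nat.one_pos ≫
      (Proj.toSpecZero (CohB1.polyGrading 0 A) ≫
        Spec.map (CommRingCat.ofHom (algebraMap A (CohB1.polyGrading 0 A 0))))) := by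
    rw [hcomp]; infer_instance
  exact @IsIso.of_isIso_comp_left _ _ _ _ _
    (Proj.awayι (CohB1.polyGrading 0 A) (MvPolynomial.X 0) (X_mem A) Nat.one_pos)
    (Proj.toSpecZero (CohB1.polyGrading 0 A) ≫
        Spec.map (CommRingCat.ofHom (algebraMap A (CohB1.polyGrading 0 A 0)))) hj h3

end Groth.Agent.Helper6.ProjZero
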