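import Mathlib.RingTheory.Unramified.LocalStructure
import Mathlib.RingTheory.QuasiFinite.Polynomial
import Mathlib.RingTheory.Etale.Locus
import Mathlib.RingTheory.Ideal.GoingDown
import Mathlib.RingTheory.Smooth.Flat
import Mathlib.RingTheory.Flat.Localization
import Mathlib.RingTheory.Flat.FaithfullyFlat.Algebra
import Mathlib.Algebra.MvPolynomial.Equiv

/-!
# Smooth + quasi-finite at a prime ⇒ étale at that prime (helper6)
-/

set_option autoImplicit false
universe u

open scoped TensorProduct

namespace Groth.Agent.Helper6.QFEtale

/-- quasi-finiteness descends along a faithfully flat map `S → T`. -/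
theorem quasiFinite_of_faithfullyFlat (R S T : Type*) [CommRing R] [CommRing S] [CommRing T]
    [Algebra R S] [Algebra R T] [Algebra S T] [IsScalarTower R S T] [Module.FaithfullyFlat S T]
    [Algebra.QuasiFinite R T] : Algebra.QuasiFinite R S := by
  refine ⟨fun P hP => ?_⟩
  let f : S →ₗ[R] T := (Algebra.linearMap S T).restrictScalars R
  have h1 : Function.Injective (f.rTensor P.ResidueField) := by
    have h2 : f.rTensor P.ResidueField =
        ((TensorProduct.AlgebraTensorModule.cancelBaseChange R S S T P.ResidueField).toLinearMap.restrictScalars R) ∘ₗ
          ((TensorProduct.mk S T (S ⊗[R] P.ResidueField) 1).restrictScalars R) := by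
      apply TensorProduct.ext'
      intro s c
      simp [f, Algebra.smul_def]
    rw [h2]
    simp only [LinearMap.coe_comp, LinearMap.coe_restrictScalars, LinearEquiv.coe_coe]
    exact (LinearEquiv.injective _).comp (Module.FaithfullyFlat.tensorProduct_mk_injective _)
  have h3 : Function.Injective (f.baseChange P.ResidueField) := by
    have : (f.baseChange P.ResidueField : P.ResidueField ⊗[R] S → P.ResidueField ⊗[R] T) =
        f.lTensor P.ResidueField := by
      ext x; rfl
    rw [this]
    exact (f.lTensor_inj_iff_rTensor_inj P.ResidueField).2 h1
  have : Module.Finite P.ResidueField (P.ResidueField ⊗[R] T) :=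
    Algebra.QuasiFinite.finite_fiber P
  exact Module.Finite.of_injective (f.baseChange P.ResidueField) h3


theorem isEtaleAt_of_isSmoothAt_of_quasiFiniteAt (A B : Type u) [CommRing A] [CommRing B]
    [Algebra A B] [Algebra.FinitePresentation A B] (q : Ideal B) [q.IsPrime]
    [Algebra.QuasiFiniteAt A q] (h : Algebra.IsSmoothAt A q) : Algebra.IsEtaleAt A q := by
  haveI := h
  obtain ⟨f, hfq, n, alg, tower, hstd⟩ :=
    Algebra.IsSmoothAt.exists_isStandardEtale_mvPolynomial (R := A) (p := q)
  suffices hE : Algebra.FormallyEtale A (Localization.Away f) by
    exact (Algebra.basicOpen_subset_etaleLocus_iff (R := A) (f := f)).2 hE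
      (show (⟨q, inferInstance⟩ : PrimeSpectrum B) ∈ PrimeSpectrum.basicOpen f from hfq)
  cases n with
  | zero =>
    have h1 : Algebra.FormallyEtale A (MvPolynomial (Fin 0) A) :=
      Algebra.FormallyEtale.of_equiv (MvPolynomial.isEmptyAlgEquiv A (Fin 0)).symm
    have h2 : Algebra.FormallyEtale (MvPolynomial (Fin 0) A) (Localization.Away f) := inferInstance
    exact Algebra.FormallyEtale.comp A (MvPolynomial (Fin 0) A) (Localization.Away f)
  | succ m =>
    exfalso
    have hdisj : Disjoint (Submonoid.powers f : Set B) (q : Set B) :=
      (Ideal.disjoint_powers_iff_notMem_of_isPrime _).mpr hfq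
    have hq'prime : (q.map (algebraMap B (Localization.Away f))).IsPrime :=
      IsLocalization.isPrime_of_isPrime_disjoint (.powers f) _ _ ‹_› hdisj
    have hq'comap : (q.map (algebraMap B (Localization.Away f))).comap
        (algebraMap B (Localization.Away f)) = q :=
      IsLocalization.under_map_of_isPrime_disjoint (.powers f) _ ‹_› hdisj
    have hqf' : Algebra.QuasiFiniteAt A (q.map (algebraMap B (Localization.Away f))) :=
      Algebra.QuasiFiniteAt.of_surjectiveOnStalks q
        (IsScalarTower.toAlgHom A B (Localization.Away f))
        (RingHom.surjectiveOnStalks_of_isLocalization (.powers f) (Localization.Away f)) _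
        hq'comap.symm
    have hp'LO : (q.map (algebraMap B (Localization.Away f))).LiesOver
        ((q.map (algebraMap B (Localization.Away f))).under (MvPolynomial (Fin (m + 1)) A)) :=
      inferInstance
    letI := Localization.AtPrime.algebraOfLiesOver
      ((q.map (algebraMap B (Localization.Away f))).under (MvPolynomial (Fin (m + 1)) A))
      (q.map (algebraMap B (Localization.Away f)))
    have hloc : IsLocalHom (algebraMap
        (Localization.AtPrime
          ((q.map (algebraMap B (Localization.Away f))).under (MvPolynomial (Fin (m + 1)) A)))
        (Localization.AtPrime (q.map (algebraMap B (Localization.Away f))))) := by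
      rw [RingHom.algebraMap_toAlgebra]
      exact Localization.isLocalHom_localRingHom _ _ (algebraMap _ _) Ideal.LiesOver.over
    have hflat : Module.Flat (MvPolynomial (Fin (m + 1)) A) (Localization.Away f) := inferInstance
    have hff : Module.FaithfullyFlat
        (Localization.AtPrime
          ((q.map (algebraMap B (Localization.Away f))).under (MvPolynomial (Fin (m + 1)) A)))
        (Localization.AtPrime (q.map (algebraMap B (Localization.Away f)))) :=
      Module.FaithfullyFlat.of_flat_of_isLocalHom
    have hqf : Algebra.QuasiFinite A (Localization.AtPrime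
        ((q.map (algebraMap B (Localization.Away f))).under (MvPolynomial (Fin (m + 1)) A))) :=
      quasiFinite_of_faithfullyFlat A _
        (Localization.AtPrime (q.map (algebraMap B (Localization.Away f))))
    have hqfat : Algebra.QuasiFiniteAt A
        ((q.map (algebraMap B (Localization.Away f))).under (MvPolynomial (Fin (m + 1)) A)) := hqf
    have h5 : Algebra.QuasiFiniteAt A
        (((q.map (algebraMap B (Localization.Away f))).under (MvPolynomial (Fin (m + 1)) A)).comap
          (MvPolynomial.finSuccEquiv A m).symm.toRingHom) := inferInstance
    have h6 : Algebra.QuasiFiniteAt (MvPolynomial (Fin m) A)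
        (((q.map (algebraMap B (Localization.Away f))).under (MvPolynomial (Fin (m + 1)) A)).comap
          (MvPolynomial.finSuccEquiv A m).symm.toRingHom) :=
      Algebra.QuasiFinite.of_restrictScalars A _ _
    exact Polynomial.not_quasiFiniteAt _ h6

end Groth.Agent.Helper6.QFEtale
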