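import Groth.Agent.Lib.Helper6.QRNilA

/-!
# Quasi-regular sequences modulo a locally nilpotent ideal, part B (helper6)

Flatness and smoothness of `B'/(f')` over `A'` (S9270 / S9271).
-/

set_option autoImplicit false
set_option linter.style.haveILetI false
universe u
open TensorProduct

namespace Groth.Agent.Helper6.QRNil

section Main

variable {A' B' : Type u} [CommRing A'] [CommRing B'] [Algebra A' B']

theorem le_of_locallyNilpotent (I : Ideal A') (hI : ∀ x ∈ I, IsNilpotent x) (p : Ideal A')
    [p.IsPrime] : I ≤ p := by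
  intro x hx
  obtain ⟨n, hn⟩ := hI x hx
  exact Ideal.IsPrime.mem_of_pow_mem inferInstance n (hn ▸ Ideal.zero_mem _)

/-- the `A'/I`-algebra structure on the residue field of a prime containing `I`. -/
@[instance_reducible]
noncomputable def algQuot (I p : Ideal A') [p.IsPrime] (hle : I ≤ p) :
    Algebra (A' ⧸ I) p.ResidueField :=
  (Ideal.Quotient.lift I (algebraMap A' p.ResidueField)
    (fun _ ha => Ideal.algebraMap_residueField_eq_zero.mpr (hle ha))).toAlgebra

theorem isScalarTower_algQuot (I p : Ideal A') [p.IsPrime] (hle : I ≤ p) :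
    letI := algQuot I p hle
    IsScalarTower A' (A' ⧸ I) p.ResidueField := by
  letI := algQuot I p hle
  exact IsScalarTower.of_algebraMap_eq (fun _ => rfl)

theorem flat_localizedModule_quotient [Module.Flat A' B'] [Algebra.FinitePresentation A' B']
    (I : Ideal A') (hI : ∀ x ∈ I, IsNilpotent x) (r : ℕ) (f' : Fin r → B')
    (hq : CAlgX.IsQuasiRegular
      (fun i => Ideal.Quotient.mk (Ideal.map (algebraMap A' B') I) (f' i)))
    (hflat : Module.Flat (A' ⧸ I)
      ((B' ⧸ Ideal.map (algebraMap A' B') I) ⧸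
        Ideal.span (Set.range
          (fun i => Ideal.Quotient.mk (Ideal.map (algebraMap A' B') I) (f' i)))))
    (Q : Ideal B') [Q.IsPrime] (hQ : ∀ i, f' i ∈ Q) :
    Module.Flat A' (LocalizedModule Q.primeCompl (B' ⧸ Ideal.span (Set.range f'))) := by
  have hle := le_of_locallyNilpotent I hI (Q.comap (algebraMap A' B'))
  letI := algQuot I (Q.comap (algebraMap A' B')) hle
  haveI := isScalarTower_algQuot I (Q.comap (algebraMap A' B')) hle
  have hqF := isQuasiRegular_fiber I (Q.comap (algebraMap A' B')).ResidueField r f' hq hflat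
  have hreg := isRegular_localizedModule_fiber Q r f' hQ hqF
  have hflatQ : Module.Flat A' (LocalizedModule Q.primeCompl B') := by
    haveI : Module.Flat B' (LocalizedModule Q.primeCompl B') := by
      have e := IsLocalizedModule.iso Q.primeCompl (Algebra.linearMap B' (Localization.AtPrime Q))
      haveI : Module.Flat B' (Localization.AtPrime Q) := IsLocalization.flat _ Q.primeCompl
      exact Module.Flat.of_linearEquiv e
    exact Module.Flat.trans A' B' _
  have hg : ∀ b ∈ List.ofFn f', b ∈ Q := by
    intro b hb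
    obtain ⟨i, rfl⟩ := List.mem_ofFn.mp hb
    exact hQ i
  have key := (Groth.Agent.Helper21.MCPF.regular_flat_localizedModule (A := A') B' Q
    (List.ofFn f') hg hflatQ hreg).2 (List.ofFn f').length le_rfl
  have hJ : (Ideal.span {b | b ∈ (List.ofFn f').take (List.ofFn f').length} •
      (⊤ : Submodule B' B')) = Ideal.span (Set.range f') := by
    rw [List.take_length]
    have hset : {b | b ∈ List.ofFn f'} = Set.range f' := by
      ext b
      simp [List.mem_ofFn]
    rw [hset, smul_eq_mul, Ideal.mul_top]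
  rw [hJ] at key
  exact key

theorem flat_quotient [Module.Flat A' B'] [Algebra.FinitePresentation A' B']
    (I : Ideal A') (hI : ∀ x ∈ I, IsNilpotent x) (r : ℕ) (f' : Fin r → B')
    (hq : CAlgX.IsQuasiRegular
      (fun i => Ideal.Quotient.mk (Ideal.map (algebraMap A' B') I) (f' i)))
    (hflat : Module.Flat (A' ⧸ I)
      ((B' ⧸ Ideal.map (algebraMap A' B') I) ⧸
        Ideal.span (Set.range
          (fun i => Ideal.Quotient.mk (Ideal.map (algebraMap A' B') I) (f' i))))) :
    Module.Flat A' (B' ⧸ Ideal.span (Set.range f')) := by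
  refine Module.flat_of_isLocalized_maximal B' (B' ⧸ Ideal.span (Set.range f'))
    (fun P _ => LocalizedModule P.primeCompl (B' ⧸ Ideal.span (Set.range f')))
    (fun P _ => LocalizedModule.mkLinearMap P.primeCompl (B' ⧸ Ideal.span (Set.range f'))) ?_
  intro P hP
  by_cases hPf : ∀ i, f' i ∈ P
  · exact flat_localizedModule_quotient I hI r f' hq hflat P hPf
  · obtain ⟨i, hi⟩ := not_forall.mp hPf
    haveI : Subsingleton (LocalizedModule P.primeCompl (B' ⧸ Ideal.span (Set.range f'))) := by
      refine LocalizedModule.subsingleton_iff.mpr fun m => ⟨f' i, hi, ?_⟩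
      obtain ⟨b, rfl⟩ := Ideal.Quotient.mk_surjective m
      change Ideal.Quotient.mk _ (f' i * b) = 0
      exact Ideal.Quotient.eq_zero_iff_mem.mpr
        (Ideal.mul_mem_right _ _ (Ideal.subset_span ⟨i, rfl⟩))
    infer_instance

theorem isPushout_of_surjective_of_ker {A C D : Type*} [CommRing A] [CommRing C] [CommRing D]
    (J : Ideal A) [Algebra A C] [Algebra A D] [Algebra (A ⧸ J) D] [Algebra C D]
    [IsScalarTower A C D] [IsScalarTower A (A ⧸ J) D]
    (hsurj : Function.Surjective (algebraMap C D))
    (hker : RingHom.ker (algebraMap C D) = J.map (algebraMap A C)) :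
    Algebra.IsPushout A (A ⧸ J) C D := by
  haveI := isPushout_quot' A C J
  let e₀ : (C ⧸ J.map (algebraMap A C)) ≃+* D :=
    (Ideal.quotEquivOfEq hker.symm).trans (RingHom.quotientKerEquivOfSurjective hsurj)
  have he₀ : ∀ c : C, e₀ (Ideal.Quotient.mk _ c) = algebraMap C D c := fun c => rfl
  let e : (C ⧸ J.map (algebraMap A C)) ≃ₐ[A ⧸ J] D := AlgEquiv.ofRingEquiv (f := e₀) (by
    intro x
    obtain ⟨a, rfl⟩ := Ideal.Quotient.mk_surjective x
    rw [Ideal.Quotient.algebraMap_quotient_map_quotient, he₀,
      ← IsScalarTower.algebraMap_apply A C D]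
    exact IsScalarTower.algebraMap_apply A (A ⧸ J) D a)
  exact Algebra.IsPushout.of_equiv e (RingHom.ext fun c => he₀ c)

theorem smooth_quotient [Module.Flat A' B'] [Algebra.FinitePresentation A' B']
    (I : Ideal A') (hI : ∀ x ∈ I, IsNilpotent x) (r : ℕ) (f' : Fin r → B')
    (hq : CAlgX.IsQuasiRegular
      (fun i => Ideal.Quotient.mk (Ideal.map (algebraMap A' B') I) (f' i)))
    (hsm : Algebra.Smooth (A' ⧸ I)
      ((B' ⧸ Ideal.map (algebraMap A' B') I) ⧸
        Ideal.span (Set.range
          (fun i => Ideal.Quotient.mk (Ideal.map (algebraMap A' B') I) (f' i))))) :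
    Algebra.Smooth A' (B' ⧸ Ideal.span (Set.range f')) := by
  haveI hflat : Module.Flat (A' ⧸ I)
      ((B' ⧸ Ideal.map (algebraMap A' B') I) ⧸
        Ideal.span (Set.range
          (fun i => Ideal.Quotient.mk (Ideal.map (algebraMap A' B') I) (f' i)))) :=
    inferInstance
  haveI hflat' : Module.Flat A' (B' ⧸ Ideal.span (Set.range f')) :=
    flat_quotient I hI r f' hq hflat
  haveI hfp : Algebra.FinitePresentation A' (B' ⧸ Ideal.span (Set.range f')) :=
    Algebra.FinitePresentation.quotient (Submodule.fg_span (Set.finite_range f'))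
  apply Algebra.Smooth.of_formallySmooth_fiber
  intro p hp
  have hle := le_of_locallyNilpotent I hI p
  letI := algQuot I p hle
  haveI := isScalarTower_algQuot I p hle
  obtain ⟨IB, hIB⟩ : ∃ IB : Ideal B', IB = Ideal.map (algebraMap A' B') I := ⟨_, rfl⟩
  subst hIB
  have hφ : ∀ b ∈ Ideal.span (Set.range f'),
      ((Ideal.Quotient.mk (Ideal.span (Set.range
          (fun i => Ideal.Quotient.mk (Ideal.map (algebraMap A' B') I) (f' i))))).comp
        (Ideal.Quotient.mk (Ideal.map (algebraMap A' B') I))) b = 0 := by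
    intro b hb
    have hle' : Ideal.span (Set.range f') ≤ RingHom.ker
        ((Ideal.Quotient.mk (Ideal.span (Set.range
          (fun i => Ideal.Quotient.mk (Ideal.map (algebraMap A' B') I) (f' i))))).comp
        (Ideal.Quotient.mk (Ideal.map (algebraMap A' B') I))) := by
      rw [Ideal.span_le]
      rintro _ ⟨i, rfl⟩
      rw [SetLike.mem_coe, RingHom.mem_ker, RingHom.comp_apply, Ideal.Quotient.eq_zero_iff_mem]
      exact Ideal.subset_span ⟨i, rfl⟩
    exact hle' hb
  letI : Algebra (B' ⧸ Ideal.span (Set.range f'))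
      ((B' ⧸ Ideal.map (algebraMap A' B') I) ⧸
        Ideal.span (Set.range
          (fun i => Ideal.Quotient.mk (Ideal.map (algebraMap A' B') I) (f' i)))) :=
    (Ideal.Quotient.lift _ _ hφ).toAlgebra
  haveI : IsScalarTower A' (B' ⧸ Ideal.span (Set.range f'))
      ((B' ⧸ Ideal.map (algebraMap A' B') I) ⧸
        Ideal.span (Set.range
          (fun i => Ideal.Quotient.mk (Ideal.map (algebraMap A' B') I) (f' i)))) :=
    IsScalarTower.of_algebraMap_eq (fun _ => rfl)
  have hsurj : Function.Surjective (algebraMap (B' ⧸ Ideal.span (Set.range f'))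
      ((B' ⧸ Ideal.map (algebraMap A' B') I) ⧸
        Ideal.span (Set.range
          (fun i => Ideal.Quotient.mk (Ideal.map (algebraMap A' B') I) (f' i))))) :=
    Ideal.Quotient.lift_surjective_of_surjective _ hφ
      (Ideal.Quotient.mk_surjective.comp Ideal.Quotient.mk_surjective)
  have hker : RingHom.ker (algebraMap (B' ⧸ Ideal.span (Set.range f'))
      ((B' ⧸ Ideal.map (algebraMap A' B') I) ⧸
        Ideal.span (Set.range
          (fun i => Ideal.Quotient.mk (Ideal.map (algebraMap A' B') I) (f' i))))) =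
      I.map (algebraMap A' (B' ⧸ Ideal.span (Set.range f'))) := by
    apply le_antisymm
    · intro x hx
      obtain ⟨b, rfl⟩ := Ideal.Quotient.mk_surjective x
      rw [RingHom.mem_ker] at hx
      have hx' : Ideal.Quotient.mk (Ideal.span (Set.range
          (fun i => Ideal.Quotient.mk (Ideal.map (algebraMap A' B') I) (f' i))))
          (Ideal.Quotient.mk (Ideal.map (algebraMap A' B') I) b) = 0 := hx
      rw [Ideal.Quotient.eq_zero_iff_mem] at hx'
      have hJb : Ideal.span (Set.range
          (fun i => Ideal.Quotient.mk (Ideal.map (algebraMap A' B') I) (f' i))) =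
          Ideal.map (Ideal.Quotient.mk (Ideal.map (algebraMap A' B') I))
            (Ideal.span (Set.range f')) := by
        rw [Ideal.map_span, ← Set.range_comp]
        rfl
      rw [hJb, Ideal.mem_map_iff_of_surjective _ Ideal.Quotient.mk_surjective] at hx'
      obtain ⟨j, hj, hjb⟩ := hx'
      rw [Ideal.Quotient.eq] at hjb
      have h1 : Ideal.Quotient.mk (Ideal.span (Set.range f')) b =
          Ideal.Quotient.mk (Ideal.span (Set.range f')) (b - j) := by
        rw [map_sub, Ideal.Quotient.eq_zero_iff_mem.mpr hj, sub_zero]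
      rw [h1]
      have h2 : b - j ∈ Ideal.map (algebraMap A' B') I := by
        have h3 := (Ideal.map (algebraMap A' B') I).neg_mem hjb
        rwa [neg_sub] at h3
      have h3 := Ideal.mem_map_of_mem (Ideal.Quotient.mk (Ideal.span (Set.range f'))) h2
      rw [Ideal.map_map] at h3
      exact h3
    · rw [Ideal.map_le_iff_le_comap]
      intro a ha
      rw [Ideal.mem_comap, RingHom.mem_ker, ← IsScalarTower.algebraMap_apply A'
        (B' ⧸ Ideal.span (Set.range f')), IsScalarTower.algebraMap_apply A' (A' ⧸ I)]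
      have ha0 : algebraMap A' (A' ⧸ I) a = 0 := Ideal.Quotient.eq_zero_iff_mem.mpr ha
      rw [ha0, map_zero]
  haveI hpo : Algebra.IsPushout A' (A' ⧸ I) (B' ⧸ Ideal.span (Set.range f'))
      ((B' ⧸ Ideal.map (algebraMap A' B') I) ⧸
        Ideal.span (Set.range
          (fun i => Ideal.Quotient.mk (Ideal.map (algebraMap A' B') I) (f' i)))) :=
    isPushout_of_surjective_of_ker I hsurj hker
  let e₁ : p.ResidueField ⊗[A' ⧸ I] ((A' ⧸ I) ⊗[A'] (B' ⧸ Ideal.span (Set.range f')))
      ≃ₐ[p.ResidueField] p.ResidueField ⊗[A' ⧸ I]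
        ((B' ⧸ Ideal.map (algebraMap A' B') I) ⧸
          Ideal.span (Set.range
            (fun i => Ideal.Quotient.mk (Ideal.map (algebraMap A' B') I) (f' i)))) :=
    Algebra.TensorProduct.congr AlgEquiv.refl
      (Algebra.IsPushout.equiv A' (A' ⧸ I) (B' ⧸ Ideal.span (Set.range f')) _)
  let e₂ : p.ResidueField ⊗[A' ⧸ I] ((A' ⧸ I) ⊗[A'] (B' ⧸ Ideal.span (Set.range f')))
      ≃ₐ[p.ResidueField] p.ResidueField ⊗[A'] (B' ⧸ Ideal.span (Set.range f')) :=
    Algebra.TensorProduct.cancelBaseChange A' (A' ⧸ I) p.ResidueField p.ResidueField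
      (B' ⧸ Ideal.span (Set.range f'))
  haveI : Algebra.FormallySmooth p.ResidueField (p.ResidueField ⊗[A' ⧸ I]
      ((B' ⧸ Ideal.map (algebraMap A' B') I) ⧸
        Ideal.span (Set.range
          (fun i => Ideal.Quotient.mk (Ideal.map (algebraMap A' B') I) (f' i))))) :=
    inferInstance
  exact Algebra.FormallySmooth.of_equiv (A := p.ResidueField ⊗[A' ⧸ I]
      ((B' ⧸ Ideal.map (algebraMap A' B') I) ⧸
        Ideal.span (Set.range
          (fun i => Ideal.Quotient.mk (Ideal.map (algebraMap A' B') I) (f' i)))))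
    (e₁.symm.trans e₂)

end Main

end Groth.Agent.Helper6.QRNil
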