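import Groth.Agent.Lib.Helper6.GrTildeLib6
import Groth.Agent.Lib.Helper6.QcohLocal

set_option autoImplicit false
universe u
open DirectSum CategoryTheory CategoryTheory.Limits AlgebraicGeometry Opposite TopologicalSpace

namespace Groth.Agent.Helper6.QcohProj

variable {R A : Type u} [CommRing R] [CommRing A] [Algebra R A] (𝒜 : ℕ → Submodule R A) [GradedAlgebra 𝒜]

/-- every section of the structure sheaf over `D₊(f)` is one fraction `g'/f^k`. -/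
theorem exists_frac_structure {d : ℕ} (hd : 0 < d) {f : A} (hf : f ∈ 𝒜 d)
    (r : Γ(Proj 𝒜, Proj.basicOpen 𝒜 f)) :
    ∃ (e k : ℕ) (g : A), g ∈ 𝒜 e ∧ f ^ k ∈ 𝒜 e ∧
      ∀ (x : ProjectiveSpectrum 𝒜) (hx : f ∉ x.asHomogeneousIdeal),
        ((r.1 ⟨x, (ProjectiveSpectrum.mem_basicOpen 𝒜 f x).2 hx⟩ : Twist.A0 𝒜 x)).val =
          (Localization.mk g ⟨f ^ k, fun h => hx (x.isPrime.mem_of_pow_mem k h)⟩ : Twist.Loc 𝒜 x) := by
  have h1 : r = (Proj.awayToSection 𝒜 f) ((Proj.basicOpenIsoAway 𝒜 f hf hd).inv r) := by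
    have := (Proj.basicOpenIsoAway 𝒜 f hf hd).inv_hom_id_apply r
    rw [Proj.basicOpenIsoAway_hom] at this
    exact this.symm
  obtain ⟨⟨e, ⟨g, hg⟩, ⟨s, hs⟩, ⟨k, hk⟩⟩, hz⟩ :=
    HomogeneousLocalization.mk_surjective ((Proj.basicOpenIsoAway 𝒜 f hf hd).inv r)
  dsimp only at hk
  subst hk
  refine ⟨e, k, g, hg, hs, fun x hx => ?_⟩
  rw [h1, ← hz]
  rfl

theorem mem_basicOpen_iff {f : A} (r : Γ(Proj 𝒜, Proj.basicOpen 𝒜 f)) (x : ProjectiveSpectrum 𝒜)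
    (hx : f ∉ x.asHomogeneousIdeal) {g s : A} (hs : s ∉ x.asHomogeneousIdeal)
    (hr : ((r.1 ⟨x, (ProjectiveSpectrum.mem_basicOpen 𝒜 f x).2 hx⟩ : Twist.A0 𝒜 x)).val =
          (Localization.mk g ⟨s, hs⟩ : Twist.Loc 𝒜 x)) :
    (x : ↥(Proj 𝒜)) ∈ (Proj 𝒜).basicOpen r ↔ g ∉ x.asHomogeneousIdeal := by
  have hxU : (x : ↥(Proj 𝒜)) ∈ Proj.basicOpen 𝒜 f := (ProjectiveSpectrum.mem_basicOpen 𝒜 f x).2 hx
  refine (Scheme.mem_basicOpen (Proj 𝒜) r (x : ↥(Proj 𝒜)) hxU).trans ?_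
  have h1 : IsUnit ((Proj 𝒜).presheaf.germ (Proj.basicOpen 𝒜 f) x hxU r) ↔
      IsUnit (r.1 ⟨x, hxU⟩ : Twist.A0 𝒜 x) := by
    have := Proj.stalkIso'_germ 𝒜 (Proj.basicOpen 𝒜 f) x hxU r
    rw [← this]
    exact (MulEquiv.isUnit_map (Proj.stalkIso' 𝒜 x)).symm
  rw [h1, ← HomogeneousLocalization.isUnit_iff_isUnit_val, hr, Localization.mk_eq_mk']
  rw [IsLocalization.AtPrime.isUnit_mk'_iff _ x.asHomogeneousIdeal.toIdeal]
  rfl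

variable {M : Type u} [AddCommGroup M] [Module R M] [Module A M] (ℳ : ℕ → Submodule R M)
  [DirectSum.Decomposition ℳ] [SetLike.GradedSMul 𝒜 ℳ]

omit [DirectSum.Decomposition ℳ] in
/-- the section `m/s` over an open on which `s` is invertible. -/
def fracOn (n : ℤ) {i j : ℕ} (m : ℳ i) (s : 𝒜 j) (hij : (i : ℤ) = j + n)
    (V : Opens (ProjectiveSpectrum.top 𝒜)) (hV : ∀ x : V, s.1 ∉ x.1.asHomogeneousIdeal) :
    GrTilde.sect 𝒜 ℳ n (op V) :=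
  ⟨fun x => ⟨LocalizedModule.mk m.1 ⟨s.1, hV x⟩, Submodule.subset_span ⟨i, j, m, s, _, hij, rfl⟩⟩,
   fun x => ⟨V, x.2, 𝟙 _, i, j, m, s, hV, Or.inl hij, fun _ => rfl⟩⟩

theorem exists_global_frac' (n : ℤ) {d : ℕ} (hd : 0 < d) {f : A} (hf : f ∈ 𝒜 d)
    (W : Opens (ProjectiveSpectrum.top 𝒜))
    (hW : ∀ x : ProjectiveSpectrum 𝒜, x ∈ W ↔ f ∉ x.asHomogeneousIdeal)
    (s : GrTilde.sect 𝒜 ℳ n (op W)) :
    ∃ (L q : ℕ) (m : M), m ∈ ℳ q ∧ (q : ℤ) = L * d + n ∧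
      ∀ (y : ProjectiveSpectrum 𝒜) (hy : y ∈ W),
        ((s.1 ⟨y, hy⟩).1 : GrTilde.LocMod 𝒜 (M := M) y) =
          (LocalizedModule.mk m ⟨f ^ L, fun h => (hW y).1 hy (y.isPrime.mem_of_pow_mem L h)⟩ :
            GrTilde.LocMod 𝒜 (M := M) y) := by
  obtain rfl : W = ProjectiveSpectrum.basicOpen 𝒜 f :=
    Opens.ext (Set.ext fun x => (hW x).trans (ProjectiveSpectrum.mem_basicOpen 𝒜 f x).symm)
  obtain ⟨L, q, m, hm, hq, hval⟩ := GrTildeLib.exists_global_frac 𝒜 ℳ n hd hf s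
  exact ⟨L, q, m, hm, hq, fun y hy => hval y ((hW y).1 hy)⟩

end Groth.Agent.Helper6.QcohProj
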