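import Mathlib

/-!
# Bialgebra maps between quotients by Hopf ideals (helper6)
-/

set_option autoImplicit false

namespace Groth.Agent.Helper6.QuotBialg

open TensorProduct

universe u v w

variable {R : Type u} [CommRing R] {A : Type v} [CommRing A] [HopfAlgebra R A]
  {B : Type w} [CommRing B] [HopfAlgebra R B]

/-- the algebra map `B/J → A/I` induced by `ψ` -/
noncomputable def quotAlgHom (ψ : B →ₐc[R] A) (J : Ideal B) (I : Ideal A)
    (h : ∀ b ∈ J, ψ b ∈ I) : B ⧸ J →ₐ[R] A ⧸ I :=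
  Ideal.Quotient.liftₐ J ((Ideal.Quotient.mkₐ R I).comp (ψ : B →ₐ[R] A))
    (fun b hb => Ideal.Quotient.eq_zero_iff_mem.2 (h b hb))

@[simp] theorem quotAlgHom_mk (ψ : B →ₐc[R] A) (J : Ideal B) (I : Ideal A)
    (h : ∀ b ∈ J, ψ b ∈ I) (b : B) :
    quotAlgHom ψ J I h (Ideal.Quotient.mk J b) = Ideal.Quotient.mk I (ψ b) := rfl

theorem map_map_mk (ψ : B →ₐc[R] A) (J : Ideal B) (I : Ideal A)
    (h : ∀ b ∈ J, ψ b ∈ I) (t : B ⊗[R] B) :
    Algebra.TensorProduct.map (quotAlgHom ψ J I h) (quotAlgHom ψ J I h)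
      (TensorProduct.map (Ideal.Quotient.mkₐ R J).toLinearMap (Ideal.Quotient.mkₐ R J).toLinearMap t)
      = TensorProduct.map (Ideal.Quotient.mkₐ R I).toLinearMap (Ideal.Quotient.mkₐ R I).toLinearMap
        (TensorProduct.map (ψ : B →ₗ[R] A) (ψ : B →ₗ[R] A) t) := by
  induction t using TensorProduct.induction_on with
  | zero => simp
  | tmul x y => rfl
  | add x y hx hy => simp only [map_add, hx, hy]

/-- A bialgebra map `ψ : B → A` with `ψ(J) ⊆ I` induces a bialgebra map `B/J → A/I`. -/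
noncomputable def quotMap (ψ : B →ₐc[R] A) (J : Ideal B) [J.IsHopfIdeal R] (I : Ideal A)
    [I.IsHopfIdeal R] (h : ∀ b ∈ J, ψ b ∈ I) : B ⧸ J →ₐc[R] A ⧸ I :=
  BialgHom.ofAlgHom (quotAlgHom ψ J I h)
    (by
      refine Ideal.Quotient.algHom_ext R (AlgHom.ext fun b => ?_)
      show CoalgebraStruct.counit (R := R) (Ideal.Quotient.mk I (ψ b)) =
        CoalgebraStruct.counit (R := R) (Ideal.Quotient.mk J b)
      rw [Bialgebra.Quotient.counit_mk, Bialgebra.Quotient.counit_mk]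
      exact CoalgHomClass.counit_comp_apply ψ b)
    (by
      refine Ideal.Quotient.algHom_ext R (AlgHom.ext fun b => ?_)
      show Algebra.TensorProduct.map (quotAlgHom ψ J I h) (quotAlgHom ψ J I h)
          (CoalgebraStruct.comul (R := R) (Ideal.Quotient.mk J b)) =
        CoalgebraStruct.comul (R := R) (Ideal.Quotient.mk I (ψ b))
      rw [Bialgebra.Quotient.comul_mk, Bialgebra.Quotient.comul_mk, map_map_mk]
      congr 1
      exact CoalgHomClass.map_comp_comul_apply ψ b)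

@[simp] theorem quotMap_mk (ψ : B →ₐc[R] A) (J : Ideal B) [J.IsHopfIdeal R] (I : Ideal A)
    [I.IsHopfIdeal R] (h : ∀ b ∈ J, ψ b ∈ I) (b : B) :
    quotMap ψ J I h (Ideal.Quotient.mk J b) = Ideal.Quotient.mk I (ψ b) := rfl

end Groth.Agent.Helper6.QuotBialg
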