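import Mathlib
import Groth.Prelude.Def_SGA1
import Groth.Agent.S2908
import Groth.Agent.Lib.Helper23.QuotSub

/-!
# Quotients by a finite group acting freely on geometric points, with a section

If `p : X ⟶ Y` is a quotient of `X` by `G` (`SGA1.IsQuot`), `G` acts freely on geometric points and
`s : Y ⟶ X` is a section of `p`, then `X` is the disjoint union of the translates of `s`.
-/

set_option autoImplicit false
universe u
open CategoryTheory CategoryTheory.Limits AlgebraicGeometry TopologicalSpace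

namespace Groth.Agent.Helper6.QuotSec

open Groth.Agent.Helper23

theorem exists_geomPt (W : Scheme.{u}) (w : W) :
    ∃ (K : Type u) (_ : Field K) (_ : IsAlgClosed K), Nonempty (Spec (CommRingCat.of K) ⟶ W) :=
  ⟨AlgebraicClosure (W.residueField w), inferInstance, inferInstance,
    ⟨Spec.map (CommRingCat.ofHom (algebraMap (W.residueField w)
      (AlgebraicClosure (W.residueField w)))) ≫ W.fromSpecResidueField w⟩⟩

variable {X Y : Scheme.{u}} {G : Type u} [Group G] [Finite G] (ρ : G →* Aut X)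
  (p : X ⟶ Y) (hp : SGA1.IsQuot ρ p)
  (hfree : ∀ (K : Type u) [Field K] [IsAlgClosed K] (ξ : Spec (CommRingCat.of K) ⟶ X) (g : G),
    ξ ≫ (ρ g).hom = ξ → g = 1)
  (s : Y ⟶ X) (hs : s ≫ p = 𝟙 Y)

include hp hfree hs in
theorem disjoint_range (k : G) (hk : k ≠ 1) :
    Disjoint (Set.range s) (Set.range (s ≫ (ρ k).hom)) := by
  rw [← Scheme.isEmpty_pullback_iff]
  by_contra hne
  rw [not_isEmpty_iff] at hne
  obtain ⟨w⟩ := hne
  obtain ⟨K, _, _, ⟨ζ⟩⟩ := exists_geomPt (pullback s (s ≫ (ρ k).hom)) w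
  apply hk
  have h1 := pullback.condition (f := s) (g := s ≫ (ρ k).hom)
  have hab : pullback.fst s (s ≫ (ρ k).hom) = pullback.snd s (s ≫ (ρ k).hom) := by
    have h2 := congrArg (· ≫ p) h1
    simp only [Category.assoc] at h2
    rw [hp.inv k, hs, Category.comp_id, Category.comp_id] at h2
    exact h2
  apply hfree K (ζ ≫ pullback.fst s (s ≫ (ρ k).hom) ≫ s) k
  simp only [Category.assoc]
  rw [h1, hab]

include hp hfree hs in
theorem disjoint_range' (g h : G) (hgh : g ≠ h) :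
    Disjoint (Set.range (s ≫ (ρ g).hom)) (Set.range (s ≫ (ρ h).hom)) := by
  rw [Set.disjoint_left]
  rintro x ⟨y, rfl⟩ ⟨y', hy'⟩
  have hk : g⁻¹ * h ≠ 1 := by
    intro h1
    apply hgh
    rw [inv_mul_eq_one] at h1
    exact h1
  have hd := disjoint_range ρ p hp hfree s hs (g⁻¹ * h) hk
  rw [Set.disjoint_left] at hd
  apply hd ⟨y, rfl⟩
  refine ⟨y', ?_⟩
  have hy'' : (ρ h).hom (s y') = (ρ g).hom (s y) := hy'
  show (ρ (g⁻¹ * h)).hom (s y') = s y
  rw [QuotSub.apply_mul, hy'', ← QuotSub.apply_mul, inv_mul_cancel, QuotSub.apply_one]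

include hp hs in
theorem exists_translate (x : X) : ∃ g : G, (ρ g).hom (s (p x)) = x := by
  have h := (Groth.Agent.S2908.result ρ p hp).2.1 (s (p x)) x
  have h3 : (s ≫ p) (p x) = p x := by rw [hs]; rfl
  exact h.mp h3

include hp hfree hs in
theorem isOpen_range [IsClosedImmersion s] : IsOpen (Set.range s) := by
  have hcompl : (Set.range s)ᶜ = ⋃ g ∈ {g : G | g ≠ 1}, Set.range (s ≫ (ρ g).hom) := by
    ext x
    constructor
    · intro hx
      obtain ⟨g, hg⟩ := exists_translate ρ p hp s hs x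
      have hg1 : g ≠ 1 := by
        rintro rfl
        apply hx
        rw [QuotSub.apply_one] at hg
        exact ⟨p x, hg⟩
      simp only [Set.mem_iUnion]
      exact ⟨g, hg1, p x, hg⟩
    · simp only [Set.mem_iUnion]
      rintro ⟨g, hg1, hx⟩ hx'
      exact Set.disjoint_left.mp (disjoint_range ρ p hp hfree s hs g hg1) hx' hx
  rw [← isClosed_compl_iff, hcompl]
  refine Set.Finite.isClosed_biUnion (Set.toFinite _) fun g _ => ?_
  exact (s ≫ (ρ g).hom).isClosedEmbedding.isClosed_range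

include hp hfree hs in
theorem isOpenImmersion_section [IsClosedImmersion s] : IsOpenImmersion s := by
  let Y₁ : X.Opens := ⟨Set.range s, isOpen_range ρ p hp hfree s hs⟩
  have hcov : ∀ x : X, ∃ g : G, x ∈ (ρ g).hom.base '' (Y₁ : Set X) := by
    intro x
    obtain ⟨g, hg⟩ := exists_translate ρ p hp s hs x
    exact ⟨g, s (p x), ⟨p x, rfl⟩, hg⟩
  have hdisj : ∀ g : G, g ∉ (⊥ : Subgroup G) →
      Disjoint ((ρ g).hom.base '' (Y₁ : Set X)) (Y₁ : Set X) := by
    intro g hg
    rw [Subgroup.mem_bot] at hg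
    have hd := disjoint_range ρ p hp hfree s hs g hg
    rw [Set.disjoint_left] at hd ⊢
    rintro x ⟨x', ⟨y, rfl⟩, rfl⟩ hx
    exact hd hx ⟨y, rfl⟩
  let ρY : (⊥ : Subgroup G) →* Aut (Y₁ : Scheme.{u}) := 1
  have hρY : ∀ h : (⊥ : Subgroup G), (ρY h).hom ≫ Y₁.ι = Y₁.ι ≫ (ρ (h : G)).hom := by
    intro h
    have h1 : (h : G) = 1 := Subgroup.mem_bot.mp h.2
    rw [h1, QuotSub.hom_one]
    show 𝟙 _ ≫ Y₁.ι = Y₁.ι ≫ 𝟙 _
    rw [Category.id_comp, Category.comp_id]
  have hQ := QuotSub.main ρ p hp ⊥ Y₁ hcov hdisj ρY hρY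
  haveI := hQ.affine
  have hsurj : ∀ (U : Y.Opens), Function.Surjective ((Y₁.ι ≫ p).app U).hom := by
    intro U t
    apply (hQ.range_iff U t).mpr
    intro h
    have e0 : (ρY h).hom = 𝟙 _ := rfl
    exact (QuotSub.appLE_congr_hom e0 _ (le_of_eq rfl) t).trans (QuotSub.id_appLE_apply _ t)
  have hiso : IsIso (Y₁.ι ≫ p) := by
    apply IsZariskiLocalAtTarget.of_iSup_eq_top (P := MorphismProperty.isomorphisms Scheme)
      (fun U : Y.affineOpens => (U : Y.Opens)) (iSup_affineOpens_eq_top Y)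
    intro U
    have hU : IsIso ((Y₁.ι ≫ p).app (U : Y.Opens)) :=
      (ConcreteCategory.isIso_iff_bijective ((Y₁.ι ≫ p).app (U : Y.Opens))).mpr
        ⟨hQ.injective U, hsurj U⟩
    exact (isIso_morphismRestrict_iff_isIso_app (Y₁.ι ≫ p) U.2).mpr hU
  have hsub : Set.range s ⊆ Set.range Y₁.ι := by
    rw [Scheme.Opens.range_ι]
    exact subset_rfl
  have hs' : IsOpenImmersion.lift Y₁.ι s hsub ≫ Y₁.ι = s := IsOpenImmersion.lift_fac _ _ _
  have h1 : IsOpenImmersion.lift Y₁.ι s hsub ≫ (Y₁.ι ≫ p) = 𝟙 Y := by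
    rw [← Category.assoc, hs', hs]
  haveI : IsIso (IsOpenImmersion.lift Y₁.ι s hsub) := by
    have e : IsOpenImmersion.lift Y₁.ι s hsub = inv (Y₁.ι ≫ p) := by
      rw [← cancel_mono (Y₁.ι ≫ p), h1, IsIso.inv_hom_id]
    rw [e]
    infer_instance
  rw [← hs']
  infer_instance

include hp hfree hs in
theorem main : IsIso (Sigma.desc (fun g : G => s ≫ (ρ g).hom) : (∐ fun _ : G => Y) ⟶ X) := by
  haveI := hp.affine
  haveI : IsClosedImmersion (s ≫ p) := by rw [hs]; infer_instance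
  haveI : IsClosedImmersion s := IsClosedImmersion.of_comp s p
  haveI : IsOpenImmersion s := isOpenImmersion_section ρ p hp hfree s hs
  haveI : ∀ g : G, IsOpenImmersion (s ≫ (ρ g).hom) := fun g => inferInstance
  rw [isIso_iff_isOpenImmersion_and_surjective]
  refine ⟨isOpenImmersion_sigmaDesc _ _ ?_, ⟨fun x => ?_⟩⟩
  · intro g h hgh
    exact disjoint_range' ρ p hp hfree s hs g h hgh
  · obtain ⟨g, hg⟩ := exists_translate ρ p hp s hs x
    refine ⟨(Sigma.ι (fun _ : G => Y) g) (p x), ?_⟩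
    rw [← Scheme.Hom.comp_apply, Sigma.ι_desc]
    exact hg

end Groth.Agent.Helper6.QuotSec
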