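import Groth.Agent.Lib.Helper5.PBW5
import Mathlib

/-!
# Restricted PBW, part 1 (helper6): monomials indexed by multisets, degree filtration on `U(L)`

`Mm b m` is the sorted monomial attached to a multiset `m` of indices; `Tle b n` (from helper5's PBW
library) is the span of the sorted monomials of length `≤ n`, and `Tlt b n` the span of those of
length `< n`.  We prove multiplicativity of the filtration and the leading-term formula
`Mm m * Mm m' ≡ Mm (m + m')` modulo lower order.
-/

set_option autoImplicit false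

namespace Groth.Agent.Helper6.RPBW

open Groth.Agent.Helper5.PBW Groth.Agent.Helper5.PBW.SL

attribute [local instance 100] LieRing.ofAssociativeRing

section Sorted

variable {ι : Type*} [LinearOrder ι]

/-- the sorted list of a multiset -/
def srt (m : Multiset ι) : SL ι := ⟨m.sort (· ≤ ·), Multiset.pairwise_sort m (· ≤ ·)⟩

theorem srt_val (m : Multiset ι) : ((srt m).1 : Multiset ι) = m := Multiset.sort_eq m _

theorem srt_coe (l : SL ι) : srt (l.1 : Multiset ι) = l := by
  apply Subtype.ext
  refine List.Perm.eq_of_pairwise' (r := (· ≤ ·)) (srt (l.1 : Multiset ι)).2 l.2 ?_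
  exact Multiset.coe_eq_coe.1 (srt_val _)

theorem len_srt (m : Multiset ι) : len (srt m) = Multiset.card m := Multiset.length_sort _

theorem ins_srt (i : ι) (m : Multiset ι) : ins i (srt m) = srt (i ::ₘ m) := by
  rw [← srt_coe (ins i (srt m))]
  congr 1
  show ((List.orderedInsert (· ≤ ·) i (srt m).1 : List ι) : Multiset ι) = i ::ₘ m
  rw [Multiset.coe_eq_coe.2 (List.perm_orderedInsert _ _ _), ← Multiset.cons_coe, srt_val]

theorem srt_injective : Function.Injective (srt : Multiset ι → SL ι) := fun m m' h => by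
  rw [← srt_val m, ← srt_val m', h]

theorem srt_zero : srt (0 : Multiset ι) = nil := Subtype.ext (Multiset.sort_zero _)

theorem srt_replicate (n : ℕ) (i : ι) :
    (srt (Multiset.replicate n i)).1 = List.replicate n i := by
  refine List.Perm.eq_of_pairwise' (r := (· ≤ ·)) (srt _).2 ?_ ?_
  · exact List.pairwise_replicate_of_refl
  · exact Multiset.coe_eq_coe.1 (by rw [srt_val, Multiset.coe_replicate])

end Sorted

section Mon

variable {k : Type*} [CommRing k] {L : Type*} [LieRing L] [LieAlgebra k L]
  {ι : Type*} [LinearOrder ι] (b : Module.Basis ι k L)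

local notation "ιU" => UniversalEnvelopingAlgebra.ι k

/-- the sorted monomial attached to a multiset of indices -/
noncomputable def Mm (m : Multiset ι) : UniversalEnvelopingAlgebra k L := mon b (srt m).1

theorem Mm_zero : Mm b 0 = 1 := by
  unfold Mm
  rw [srt_zero]
  exact mon_nil b

theorem Mm_coe (l : SL ι) : Mm b (l.1 : Multiset ι) = mon b l.1 := by
  unfold Mm
  rw [srt_coe]

theorem Mm_replicate (n : ℕ) (i : ι) : Mm b (Multiset.replicate n i) = (ιU (b i)) ^ n := by
  unfold Mm
  rw [srt_replicate]
  unfold mon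
  rw [List.map_replicate, List.prod_replicate]

theorem Mm_singleton (i : ι) : Mm b {i} = ιU (b i) := by
  have h := Mm_replicate b 1 i
  rwa [Multiset.replicate_one, pow_one] at h

theorem linearIndependent_Mm : LinearIndependent k (Mm b) :=
  (linearIndependent_mon b).comp srt srt_injective

theorem span_range_Mm : Submodule.span k (Set.range (Mm b)) = ⊤ := by
  rw [eq_top_iff, ← Tall_eq_top b]
  unfold Tall
  apply Submodule.span_mono
  rintro _ ⟨l, rfl⟩
  exact ⟨(l.1 : Multiset ι), Mm_coe b l⟩

/-- span of the sorted monomials of length `< n` -/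
noncomputable def Tlt : ℕ → Submodule k (UniversalEnvelopingAlgebra k L)
  | 0 => ⊥
  | n + 1 => Tle b n

theorem Tlt_zero : Tlt b 0 = ⊥ := rfl

theorem Tlt_succ (n : ℕ) : Tlt b (n + 1) = Tle b n := rfl

theorem Tlt_le_Tle (n : ℕ) : Tlt b n ≤ Tle b n := by
  cases n with
  | zero => exact bot_le
  | succ n => exact Tle_mono b (Nat.le_succ _)

theorem Tlt_mono {m n : ℕ} (h : m ≤ n) : Tlt b m ≤ Tlt b n := by
  cases m with
  | zero => exact bot_le
  | succ m =>
    obtain ⟨n, rfl⟩ : ∃ n', n = n' + 1 := ⟨n - 1, by omega⟩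
    exact Tle_mono b (by omega)

theorem Tle_le_Tlt {m n : ℕ} (h : m < n) : Tle b m ≤ Tlt b n := by
  obtain ⟨n, rfl⟩ : ∃ n', n = n' + 1 := ⟨n - 1, by omega⟩
  exact Tle_mono b (by omega)

theorem Mm_mem_Tle (m : Multiset ι) : Mm b m ∈ Tle b (Multiset.card m) :=
  mon_mem_Tle b (le_of_eq (len_srt m))

theorem one_mem_Tle (n : ℕ) : (1 : UniversalEnvelopingAlgebra k L) ∈ Tle b n := by
  have h := Mm_mem_Tle b (0 : Multiset ι)
  rw [Mm_zero, Multiset.card_zero] at h
  exact Tle_mono b (Nat.zero_le n) h

theorem ι_mem_Tle (x : L) : ιU x ∈ Tle b 1 := by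
  have h := ι_mul_mem b x (one_mem_Tle b 0)
  rwa [mul_one] at h

theorem ι_mul_mem_Tlt (x : L) {u : UniversalEnvelopingAlgebra k L} {m : ℕ} (hu : u ∈ Tlt b m) :
    ιU x * u ∈ Tlt b (m + 1) := by
  cases m with
  | zero =>
    rw [Tlt_zero, Submodule.mem_bot] at hu
    rw [hu, mul_zero]
    exact zero_mem _
  | succ m => exact ι_mul_mem b x hu

theorem mon_mul_mem_Tle (l : List ι) {n : ℕ} {v : UniversalEnvelopingAlgebra k L}
    (hv : v ∈ Tle b n) : mon b l * v ∈ Tle b (l.length + n) := by
  induction l with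
  | nil =>
    rw [mon_nil, one_mul, List.length_nil, zero_add]
    exact hv
  | cons i t ih =>
    rw [mon_cons, mul_assoc, List.length_cons]
    have h : t.length + 1 + n = t.length + n + 1 := by omega
    rw [h]
    exact ι_mul_mem b (b i) ih

theorem Tle_mul_Tle {m n : ℕ} {u v : UniversalEnvelopingAlgebra k L} (hu : u ∈ Tle b m)
    (hv : v ∈ Tle b n) : u * v ∈ Tle b (m + n) := by
  induction hu using Submodule.span_induction with
  | mem u hu =>
    obtain ⟨l, hl, rfl⟩ := hu
    have hl' : l.1.length ≤ m := hl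
    exact Tle_mono b (by omega) (mon_mul_mem_Tle b l.1 hv)
  | zero =>
    rw [zero_mul]
    exact zero_mem _
  | add s t _ _ h1 h2 =>
    rw [add_mul]
    exact add_mem h1 h2
  | smul c s _ h =>
    rw [smul_mul_assoc]
    exact Submodule.smul_mem _ _ h

theorem Tle_mul_Tlt {m n : ℕ} {u v : UniversalEnvelopingAlgebra k L} (hu : u ∈ Tle b m)
    (hv : v ∈ Tlt b n) : u * v ∈ Tlt b (m + n) := by
  cases n with
  | zero =>
    rw [Tlt_zero, Submodule.mem_bot] at hv
    rw [hv, mul_zero]
    exact zero_mem _
  | succ n => exact Tle_mul_Tle b hu hv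

theorem Tlt_mul_Tle {m n : ℕ} {u v : UniversalEnvelopingAlgebra k L} (hu : u ∈ Tlt b m)
    (hv : v ∈ Tle b n) : u * v ∈ Tlt b (m + n) := by
  cases m with
  | zero =>
    rw [Tlt_zero, Submodule.mem_bot] at hu
    rw [hu, zero_mul]
    exact zero_mem _
  | succ m =>
    have h : m + 1 + n = (m + n) + 1 := by omega
    rw [h]
    exact Tle_mul_Tle b hu hv

theorem mon_mul_Mm_sub (l : List ι) (m' : Multiset ι) :
    mon b l * Mm b m' - Mm b ((l : Multiset ι) + m') ∈ Tlt b (l.length + Multiset.card m') := by
  induction l with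
  | nil =>
    rw [mon_nil, one_mul, Multiset.coe_nil, zero_add, sub_self]
    exact zero_mem _
  | cons i t ih =>
    have h1 : ιU (b i) * Mm b ((t : Multiset ι) + m') - Mm b (i ::ₘ ((t : Multiset ι) + m')) ∈
        Tle b (t.length + Multiset.card m') := by
      have h := ι_mul_mon_sub b _ (srt ((t : Multiset ι) + m')) rfl i
      rw [ins_srt, len_srt, Multiset.card_add, Multiset.coe_card] at h
      exact h
    have h2 := ι_mul_mem_Tlt b (b i) ih
    have h3 : mon b (i :: t) * Mm b m' - Mm b (((i :: t : List ι) : Multiset ι) + m') =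
        ιU (b i) * (mon b t * Mm b m' - Mm b ((t : Multiset ι) + m')) +
          (ιU (b i) * Mm b ((t : Multiset ι) + m') - Mm b (i ::ₘ ((t : Multiset ι) + m'))) := by
      rw [mon_cons, ← Multiset.cons_coe, Multiset.cons_add, mul_sub, mul_assoc]
      abel
    rw [h3, List.length_cons]
    have e1 : t.length + 1 + Multiset.card m' = (t.length + Multiset.card m') + 1 := by omega
    rw [e1]
    exact add_mem h2 h1

theorem Mm_mul_Mm_sub (m m' : Multiset ι) :
    Mm b m * Mm b m' - Mm b (m + m') ∈ Tlt b (Multiset.card m + Multiset.card m') := by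
  have h := mon_mul_Mm_sub b (srt m).1 m'
  rw [srt_val] at h
  have hl : (srt m).1.length = Multiset.card m := len_srt m
  rw [hl] at h
  exact h

end Mon

end Groth.Agent.Helper6.RPBW
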