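import Groth.Prelude.Def_CartDual
import Mathlib

/-!
# Right translations on the dual of a finite cocommutative Hopf algebra (helper6)

`H` a finite-dimensional cocommutative Hopf algebra over a field `k` (not necessarily commutative),
`A = CartDual.D k H` its dual (a commutative Hopf algebra).  For `w ∈ H`, `Rw w : A → A` is the
transpose of right multiplication by `w`.  It is left invariant; it is a derivation iff `w` is
primitive; every left-invariant linear endomorphism of `A` is an `Rw w`.
-/

set_option autoImplicit false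
universe u v

open scoped TensorProduct
open WithConv

namespace Groth.Agent.Helper6.DualDer

section

variable {k : Type u} [Field k] {H : Type v} [Ring H] [HopfAlgebra k H] [Module.Finite k H]

/-- transpose of right multiplication by `w` -/
noncomputable def Rw (w : H) : CartDual.D k H →ₗ[k] CartDual.D k H where
  toFun f := toConv (f.ofConv ∘ₗ LinearMap.mulRight k w)
  map_add' _ _ := rfl
  map_smul' _ _ := rfl

theorem Rw_apply (w : H) (f : CartDual.D k H) (v : H) : (Rw w f).ofConv v = f.ofConv (v * w) :=
  rfl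

theorem Rw_ext {T T' : CartDual.D k H} (h : ∀ v : H, T.ofConv v = T'.ofConv v) : T = T' :=
  WithConv.ofConv_injective (LinearMap.ext h)

theorem Rw_add (a c : H) : Rw (k := k) (a + c) = Rw a + Rw c := by
  apply LinearMap.ext
  intro f
  apply Rw_ext
  intro v
  rw [LinearMap.add_apply, WithConv.ofConv_add, LinearMap.add_apply, Rw_apply, Rw_apply, Rw_apply,
    mul_add, map_add]

theorem Rw_sub (a c : H) : Rw (k := k) (a - c) = Rw a - Rw c := by
  apply LinearMap.ext
  intro f
  apply Rw_ext
  intro v
  rw [LinearMap.sub_apply, WithConv.ofConv_sub, LinearMap.sub_apply, Rw_apply, Rw_apply, Rw_apply,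
    mul_sub, map_sub]

theorem Rw_smul (r : k) (a : H) : Rw (k := k) (r • a) = r • Rw a := by
  apply LinearMap.ext
  intro f
  apply Rw_ext
  intro v
  rw [LinearMap.smul_apply, WithConv.ofConv_smul, LinearMap.smul_apply, Rw_apply, Rw_apply,
    mul_smul_comm, map_smul]

theorem Rw_mul (a c : H) : Rw (k := k) (a * c) = Rw a * Rw c := by
  apply LinearMap.ext
  intro f
  apply Rw_ext
  intro v
  rw [Module.End.mul_apply, Rw_apply, Rw_apply, Rw_apply, mul_assoc]

theorem Rw_one : Rw (k := k) (1 : H) = 1 := by
  apply LinearMap.ext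
  intro f
  apply Rw_ext
  intro v
  rw [Module.End.one_apply, Rw_apply, mul_one]

theorem Rw_pow (a : H) (n : ℕ) : Rw (k := k) (a ^ n) = Rw a ^ n := by
  induction n with
  | zero => rw [pow_zero, pow_zero, Rw_one]
  | succ n ih => rw [pow_succ, pow_succ, Rw_mul, ih]

/-- the linear map `w ↦ Rw w` -/
noncomputable def RwLin : H →ₗ[k] Module.End k (CartDual.D k H) where
  toFun := Rw
  map_add' := Rw_add
  map_smul' := Rw_smul

theorem RwLin_apply (w : H) : RwLin (k := k) w = Rw w := rfl

theorem Rw_injective : Function.Injective (Rw (k := k) (H := H)) := by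
  intro a c h
  rw [← sub_eq_zero]
  rw [← Module.forall_dual_apply_eq_zero_iff k]
  intro ψ
  have h1 := congrArg (fun T => (T (toConv ψ)).ofConv 1) h
  simp only [Rw_apply, one_mul, WithConv.ofConv_toConv] at h1
  rw [map_sub, h1, sub_self]

/-- `Rw w` is left invariant -/
theorem ev₂_lTensor_Rw (w : H) (y : CartDual.D k H ⊗[k] CartDual.D k H) (a c : H) :
    CartDual.ev₂ k H (LinearMap.lTensor (CartDual.D k H) (Rw w) y) (a ⊗ₜ[k] c) =
      CartDual.ev₂ k H y (a ⊗ₜ[k] (c * w)) := by
  induction y using TensorProduct.induction_on with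
  | zero => simp
  | tmul f g =>
    rw [LinearMap.lTensor_tmul, CartDual.ev₂_tmul, CartDual.ev₂_tmul]
    rfl
  | add y y' h h' => rw [map_add, map_add, LinearMap.add_apply, h, h', map_add, LinearMap.add_apply]

theorem leftInv_Rw (w : H) :
    (Coalgebra.comul (R := k) (A := CartDual.D k H)) ∘ₗ Rw w =
      LinearMap.lTensor (CartDual.D k H) (Rw w) ∘ₗ Coalgebra.comul (R := k) := by
  apply LinearMap.ext
  intro f
  apply (CartDual.ev₂ k H).injective
  apply TensorProduct.ext'
  intro a c
  rw [LinearMap.comp_apply, LinearMap.comp_apply, ev₂_lTensor_Rw, CartDual.comul_def,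
    CartDual.ev₂_comul_tmul, CartDual.ev₂_comul_tmul, CartDual.coe_apply, CartDual.coe_apply,
    Rw_apply, mul_assoc]

/-- every left-invariant linear endomorphism of the dual is a right translation -/
theorem exists_eq_Rw (T : CartDual.D k H →ₗ[k] CartDual.D k H)
    (hT : (Coalgebra.comul (R := k) (A := CartDual.D k H)) ∘ₗ T =
      LinearMap.lTensor (CartDual.D k H) T ∘ₗ Coalgebra.comul (R := k)) :
    ∃ w : H, T = Rw w := by
  -- the functional `f ↦ (T f) 1` is evaluation at some `w`
  let δ : Module.Dual k (Module.Dual k H) :=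
    (LinearMap.applyₗ (1 : H)) ∘ₗ (CartDual.toDual k H).toLinearMap ∘ₗ T ∘ₗ
      (CartDual.toDual k H).symm.toLinearMap
  obtain ⟨w, hw⟩ : ∃ w : H, Module.Dual.eval k H w = δ :=
    ⟨(Module.evalEquiv k H).symm δ, by
      rw [← Module.evalEquiv_apply, LinearEquiv.apply_symm_apply]⟩
  have hδ : ∀ f : CartDual.D k H, (T f).ofConv 1 = f.ofConv w := by
    intro f
    have h1 := LinearMap.congr_fun hw f.ofConv
    rw [Module.Dual.eval_apply] at h1
    rw [h1]
    rfl
  refine ⟨w, ?_⟩
  have key : ∀ (y : CartDual.D k H ⊗[k] CartDual.D k H) (v : H),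
      CartDual.ev₂ k H (LinearMap.lTensor (CartDual.D k H) T y) (v ⊗ₜ[k] 1) =
        CartDual.ev₂ k H y (v ⊗ₜ[k] w) := by
    intro y v
    induction y using TensorProduct.induction_on with
    | zero => simp
    | tmul f g =>
      rw [LinearMap.lTensor_tmul, CartDual.ev₂_tmul, CartDual.ev₂_tmul, CartDual.coe_apply,
        CartDual.coe_apply, CartDual.coe_apply, hδ]
    | add y y' h h' =>
      rw [map_add, map_add, LinearMap.add_apply, h, h', map_add, LinearMap.add_apply]
  apply LinearMap.ext
  intro f
  apply Rw_ext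
  intro v
  have h1 := LinearMap.congr_fun hT f
  rw [LinearMap.comp_apply, LinearMap.comp_apply] at h1
  have h2 := congrArg (fun y => CartDual.ev₂ k H y (v ⊗ₜ[k] (1 : H))) h1
  rw [key, CartDual.comul_def, CartDual.ev₂_comul_tmul, CartDual.ev₂_comul_tmul, mul_one,
    CartDual.coe_apply, CartDual.coe_apply] at h2
  rw [h2, Rw_apply]

end

section Cocomm

variable {k : Type u} [Field k] {H : Type v} [Ring H] [HopfAlgebra k H] [Module.Finite k H]
  [Coalgebra.IsCocomm k H]

theorem mul_apply' (f g : CartDual.D k H) (v : H) :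
    (f * g).ofConv v =
      LinearMap.mul' k k (TensorProduct.map f.ofConv g.ofConv (Coalgebra.comul (R := k) v)) :=
  rfl

theorem aux_left (f g : CartDual.D k H) (x : H) (t : H ⊗[k] H) :
    LinearMap.mul' k k (TensorProduct.map f.ofConv g.ofConv (t * (x ⊗ₜ[k] (1 : H)))) =
      LinearMap.mul' k k (TensorProduct.map (Rw x f).ofConv g.ofConv t) := by
  induction t using TensorProduct.induction_on with
  | zero => simp
  | tmul a c =>
    rw [Algebra.TensorProduct.tmul_mul_tmul, mul_one, TensorProduct.map_tmul,
      TensorProduct.map_tmul, Rw_apply]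
  | add s t hs ht => rw [add_mul, map_add, map_add, hs, ht, map_add, map_add]

theorem aux_right (f g : CartDual.D k H) (x : H) (t : H ⊗[k] H) :
    LinearMap.mul' k k (TensorProduct.map f.ofConv g.ofConv (t * ((1 : H) ⊗ₜ[k] x))) =
      LinearMap.mul' k k (TensorProduct.map f.ofConv (Rw x g).ofConv t) := by
  induction t using TensorProduct.induction_on with
  | zero => simp
  | tmul a c =>
    rw [Algebra.TensorProduct.tmul_mul_tmul, mul_one, TensorProduct.map_tmul,
      TensorProduct.map_tmul, Rw_apply]
  | add s t hs ht => rw [add_mul, map_add, map_add, hs, ht, map_add, map_add]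

/-- right translation by a primitive element is a derivation -/
theorem Rw_leibniz (x : H)
    (hx : Coalgebra.comul (R := k) x = x ⊗ₜ[k] 1 + 1 ⊗ₜ[k] x) (f g : CartDual.D k H) :
    Rw x (f * g) = f • Rw x g + g • Rw x f := by
  apply Rw_ext
  intro v
  rw [Rw_apply, mul_apply', Bialgebra.comul_mul, hx, mul_add, map_add, map_add, aux_left,
    aux_right, smul_eq_mul, smul_eq_mul, WithConv.ofConv_add, LinearMap.add_apply, mul_apply',
    mul_comm g (Rw x f), mul_apply', add_comm]

/-- the derivation attached to a primitive element -/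
noncomputable def RwDer (x : H)
    (hx : Coalgebra.comul (R := k) x = x ⊗ₜ[k] 1 + 1 ⊗ₜ[k] x) :
    Derivation k (CartDual.D k H) (CartDual.D k H) :=
  Derivation.mk' (Rw x) (Rw_leibniz x hx)

theorem RwDer_toLinearMap (x : H)
    (hx : Coalgebra.comul (R := k) x = x ⊗ₜ[k] 1 + 1 ⊗ₜ[k] x) :
    (RwDer x hx).toLinearMap = Rw x := rfl

/-- if a right translation satisfies the Leibniz rule, then `w` is primitive -/
theorem prim_of_leibniz (w : H)
    (h : ∀ f g : CartDual.D k H, Rw w (f * g) = f * Rw w g + g * Rw w f) :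
    Coalgebra.comul (R := k) w = w ⊗ₜ[k] 1 + 1 ⊗ₜ[k] w := by
  rw [← sub_eq_zero, ← Module.forall_dual_apply_eq_zero_iff k]
  intro ψ
  obtain ⟨y, rfl⟩ := (CartDual.ev₂ k H).surjective ψ
  induction y using TensorProduct.induction_on with
  | zero => simp
  | tmul f g =>
    have h1 := congrArg (fun T : CartDual.D k H => T.ofConv 1) (h f g)
    rw [Rw_apply, one_mul, mul_apply', WithConv.ofConv_add, LinearMap.add_apply, mul_apply',
      mul_apply', Bialgebra.comul_one, Algebra.TensorProduct.one_def, TensorProduct.map_tmul,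
      TensorProduct.map_tmul, LinearMap.mul'_apply, LinearMap.mul'_apply, Rw_apply, Rw_apply,
      one_mul] at h1
    rw [map_sub, map_add, CartDual.ev₂_tmul, CartDual.ev₂_tmul, CartDual.ev₂_tmul_eq,
      LinearMap.comp_apply, CartDual.coe_apply, CartDual.coe_apply, CartDual.coe_apply,
      CartDual.coe_apply, sub_eq_zero]
    have h2 : (TensorProduct.lid k k : k ⊗[k] k →ₗ[k] k) = LinearMap.mul' k k := by
      apply TensorProduct.ext'
      intro r s
      rw [LinearEquiv.coe_coe, TensorProduct.lid_tmul, LinearMap.mul'_apply, smul_eq_mul]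
    rw [h2, h1]
    ring
  | add y y' hy hy' => rw [map_add, LinearMap.add_apply, hy, hy', add_zero]

end Cocomm

end Groth.Agent.Helper6.DualDer
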