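import Groth.Agent.Lib.Helper6.RPBW8
import Groth.Agent.Lib.Helper6.RPBW9
import Mathlib

/-!
# A restricted Lie algebra is the Lie algebra of a height-one group (helper6)
-/

set_option autoImplicit false
universe u v w

open scoped TensorProduct

attribute [local instance] LieRing.ofAssociativeRing

namespace Groth.Agent.Helper6.RLie

open Groth.Agent.Helper5.PBW Groth.Agent.Helper5.PBW.SL Groth.Agent.Helper6.RPBW
  Groth.Agent.Helper6.CMM Groth.Agent.Helper6.UEAHopf Groth.Agent.Helper6.DualDer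

section Span

variable {k : Type u} [Field k] {L : Type v} [LieRing L] [LieAlgebra k L]

local notation "𝒰" => UniversalEnvelopingAlgebra k L
local notation "ιU" => UniversalEnvelopingAlgebra.ι k (L := L)

theorem mem_span_one_mul_ι (a : 𝒰) :
    a ∈ Submodule.span k (({1} : Set 𝒰) ∪ {a' : 𝒰 | ∃ (v : 𝒰) (x : L), a' = v * ιU x}) := by
  obtain ⟨t, rfl⟩ : ∃ t, UniversalEnvelopingAlgebra.mkAlgHom k L t = a :=
    RingCon.mkₐ_surjective _ a
  have key : ∀ t : TensorAlgebra k L, ∀ s : 𝒰,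
      s ∈ Submodule.span k (({1} : Set 𝒰) ∪ {a' : 𝒰 | ∃ (v : 𝒰) (x : L), a' = v * ιU x}) →
      s * UniversalEnvelopingAlgebra.mkAlgHom k L t ∈
        Submodule.span k (({1} : Set 𝒰) ∪ {a' : 𝒰 | ∃ (v : 𝒰) (x : L), a' = v * ιU x}) := by
    intro t
    induction t using TensorAlgebra.induction with
    | algebraMap r =>
      intro s hs
      rw [AlgHom.commutes, ← Algebra.commutes, ← Algebra.smul_def]
      exact Submodule.smul_mem _ _ hs
    | ι x =>
      intro s _
      exact Submodule.subset_span (Or.inr ⟨s, x, rfl⟩)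
    | mul a c ha hc =>
      intro s hs
      rw [map_mul (UniversalEnvelopingAlgebra.mkAlgHom k L) a c, ← mul_assoc]
      exact hc _ (ha _ hs)
    | add a c ha hc =>
      intro s hs
      rw [map_add (UniversalEnvelopingAlgebra.mkAlgHom k L) a c, mul_add]
      exact add_mem (ha _ hs) (hc _ hs)
  have h1 : (1 : 𝒰) ∈
      Submodule.span k (({1} : Set 𝒰) ∪ {a' : 𝒰 | ∃ (v : 𝒰) (x : L), a' = v * ιU x}) :=
    Submodule.subset_span (Or.inl rfl)
  have := key t 1 h1
  rwa [one_mul] at this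

end Span

section

variable {k : Type u} [Field k] {p : ℕ} [Fact p.Prime] [CharP k p]
  {L : Type v} [LieRing L] [LieAlgebra k L] {ι : Type w} [LinearOrder ι] [Finite ι]
  (φ : PLie.PMap k p L) (b : Module.Basis ι k L)

local notation "𝒰" => UniversalEnvelopingAlgebra k L
local notation "ιU" => UniversalEnvelopingAlgebra.ι k (L := L)

instance instFiniteUφ : Module.Finite k (uφ φ b) := finite_uφ φ b

theorem comul_jφ (x : L) :
    Coalgebra.comul (R := k) (jφ φ b x) = jφ φ b x ⊗ₜ[k] 1 + 1 ⊗ₜ[k] jφ φ b x := by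
  rw [jφ_apply, Ideal.Quotient.mkₐ_eq_mk, Bialgebra.Quotient.comul_mk, comul_ι, map_add,
    TensorProduct.map_tmul, TensorProduct.map_tmul]
  rfl

/-- the dual Hopf algebra -/
abbrev Aφ : Type (max u v) := CartDual.D k (uφ φ b)

/-- the map from `L` to the derivations of the dual Hopf algebra -/
noncomputable def eφ : L →ₗ[k] Derivation k (Aφ φ b) (Aφ φ b) where
  toFun x := RwDer (jφ φ b x) (comul_jφ φ b x)
  map_add' x y := by
    apply Derivation.ext
    intro f
    show Rw (jφ φ b (x + y)) f = Rw (jφ φ b x) f + Rw (jφ φ b y) f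
    rw [map_add, Rw_add, LinearMap.add_apply]
  map_smul' c x := by
    apply Derivation.ext
    intro f
    show Rw (jφ φ b (c • x)) f = c • Rw (jφ φ b x) f
    rw [map_smul, Rw_smul, LinearMap.smul_apply]

theorem eφ_apply (x : L) (f : Aφ φ b) : eφ φ b x f = Rw (jφ φ b x) f := rfl

theorem eφ_toLinearMap (x : L) : (eφ φ b x).toLinearMap = Rw (jφ φ b x) := rfl

theorem eφ_injective : Function.Injective (eφ φ b) := by
  intro x y h
  apply jφ_injective φ b
  apply Rw_injective (k := k)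
  rw [← eφ_toLinearMap, ← eφ_toLinearMap, h]

theorem eφ_lie (x y : L) : eφ φ b ⁅x, y⁆ = ⁅eφ φ b x, eφ φ b y⁆ := by
  apply Derivation.ext
  intro f
  rw [Derivation.commutator_apply, eφ_apply, eφ_apply, eφ_apply, eφ_apply, eφ_apply, jφ_lie,
    Rw_sub, Rw_mul, Rw_mul]
  rfl

theorem eφ_pow (x : L) : (eφ φ b (φ x)).toLinearMap = (eφ φ b x).toLinearMap ^ p := by
  rw [eφ_toLinearMap, eφ_toLinearMap, jφ_pow, Rw_pow]

theorem eφ_leftInv (x : L) :
    (Coalgebra.comul (R := k) (A := Aφ φ b)) ∘ₗ (eφ φ b x).toLinearMap =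
      LinearMap.lTensor (Aφ φ b) (eφ φ b x).toLinearMap ∘ₗ Coalgebra.comul (R := k) := by
  rw [eφ_toLinearMap]
  exact leftInv_Rw _

theorem eφ_surj (D : Derivation k (Aφ φ b) (Aφ φ b))
    (hD : (Coalgebra.comul (R := k) (A := Aφ φ b)) ∘ₗ D.toLinearMap =
      LinearMap.lTensor (Aφ φ b) D.toLinearMap ∘ₗ Coalgebra.comul (R := k)) :
    ∃ x : L, eφ φ b x = D := by
  obtain ⟨w, hw⟩ := exists_eq_Rw D.toLinearMap hD
  have hD' : ∀ f : Aφ φ b, D f = Rw w f := fun f => LinearMap.congr_fun hw f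
  have hprim := prim_of_leibniz w (fun f g => by
    rw [← hD', ← hD', ← hD', D.leibniz, smul_eq_mul, smul_eq_mul])
  obtain ⟨x, rfl⟩ := prim_mem_range φ b w hprim
  refine ⟨x, ?_⟩
  apply Derivation.ext
  intro f
  rw [eφ_apply, hD']

theorem pow_p_eq_zero (f : Aφ φ b) (hf : Bialgebra.counitAlgHom k (Aφ φ b) f = 0) :
    f ^ p = 0 := by
  have hp0 : p ≠ 0 := (Fact.out : p.Prime).ne_zero
  have h1 : (f ^ p).ofConv 1 = 0 := by
    have h : Bialgebra.counitAlgHom k (Aφ φ b) (f ^ p) = 0 := by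
      rw [map_pow, hf, zero_pow hp0]
    exact h
  have h2 : ∀ x : L, Rw (jφ φ b x) (f ^ p) = 0 := by
    intro x
    have h := (eφ φ b x).leibniz_pow f p
    have h0 : (p : ℕ) • (f ^ (p - 1) • (eφ φ b x) f) = 0 := by
      rw [← Nat.cast_smul_eq_nsmul k, CharP.cast_eq_zero, zero_smul]
    rw [h0] at h
    exact h
  apply WithConv.ofConv_injective
  apply LinearMap.ext
  intro q
  obtain ⟨a, rfl⟩ := Ideal.Quotient.mk_surjective q
  have ha := mem_span_one_mul_ι (k := k) a
  show ((f ^ p).ofConv ∘ₗ (πφ φ b).toLinearMap) a = 0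
  have hle : Submodule.span k (({1} : Set 𝒰) ∪ {a' : 𝒰 | ∃ (v : 𝒰) (x : L), a' = v * ιU x}) ≤
      LinearMap.ker ((f ^ p).ofConv ∘ₗ (πφ φ b).toLinearMap) := by
    rw [Submodule.span_le]
    rintro a' (ha' | ⟨v, x, rfl⟩)
    · rw [Set.mem_singleton_iff] at ha'
      rw [ha', SetLike.mem_coe, LinearMap.mem_ker, LinearMap.comp_apply]
      show (f ^ p).ofConv (πφ φ b 1) = 0
      rw [map_one, h1]
    · rw [SetLike.mem_coe, LinearMap.mem_ker, LinearMap.comp_apply]
      show (f ^ p).ofConv (πφ φ b (v * ιU x)) = 0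
      rw [map_mul, ← jφ_apply, ← Rw_apply, h2]
      rfl
  exact hle ha

end

end Groth.Agent.Helper6.RLie
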