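import Groth.Agent.Lib.Helper6.RPBW1
import Mathlib

/-!
# Restricted PBW, part 2 (helper6)

Given central elements `z i ∈ U(L)` with leading term `(b i)^p` (`p ≥ 2`), the left ideal
`W = Σ z i U(L)` meets `L` trivially, and `U(L) = W + span of restricted monomials`.
-/

set_option autoImplicit false

namespace Groth.Agent.Helper6.RPBW

open Groth.Agent.Helper5.PBW Groth.Agent.Helper5.PBW.SL

attribute [local instance 100] LieRing.ofAssociativeRing

section Div

variable {ι : Type*} [DecidableEq ι] (p : ℕ)

/-- exponents divided by `p` -/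
noncomputable def qm (m : Multiset ι) : Multiset ι :=
  Finsupp.toMultiset ((Multiset.toFinsupp m).mapRange (· / p) (Nat.zero_div p))

/-- exponents modulo `p` -/
noncomputable def rm (m : Multiset ι) : Multiset ι :=
  Finsupp.toMultiset ((Multiset.toFinsupp m).mapRange (· % p) (Nat.zero_mod p))

theorem count_qm (m : Multiset ι) (i : ι) : (qm p m).count i = m.count i / p := by
  unfold qm
  rw [Finsupp.count_toMultiset, Finsupp.mapRange_apply, Multiset.toFinsupp_apply]

theorem count_rm (m : Multiset ι) (i : ι) : (rm p m).count i = m.count i % p := by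
  unfold rm
  rw [Finsupp.count_toMultiset, Finsupp.mapRange_apply, Multiset.toFinsupp_apply]

theorem qm_add_rm (m : Multiset ι) : p • qm p m + rm p m = m := by
  ext i
  rw [Multiset.count_add, Multiset.count_nsmul, count_qm, count_rm]
  exact Nat.div_add_mod _ _

theorem qm_replicate_add (hp : 0 < p) (i : ι) (m : Multiset ι) :
    qm p (Multiset.replicate p i + m) = i ::ₘ qm p m := by
  ext j
  rw [count_qm, Multiset.count_add]
  by_cases h : j = i
  · subst h
    rw [Multiset.count_replicate_self, Multiset.count_cons_self, count_qm, Nat.add_div_left _ hp]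
  · rw [Multiset.count_replicate, if_neg (Ne.symm h), zero_add, Multiset.count_cons_of_ne h,
      count_qm]

theorem rm_replicate_add (i : ι) (m : Multiset ι) :
    rm p (Multiset.replicate p i + m) = rm p m := by
  ext j
  rw [count_rm, count_rm, Multiset.count_add]
  by_cases h : j = i
  · subst h
    rw [Multiset.count_replicate_self, Nat.add_mod_left]
  · rw [Multiset.count_replicate, if_neg (Ne.symm h), zero_add]

theorem qm_eq_zero_of_card_lt {m : Multiset ι} (h : Multiset.card m < p) : qm p m = 0 := by
  ext i
  rw [count_qm, Multiset.count_zero]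
  exact Nat.div_eq_of_lt (lt_of_le_of_lt (Multiset.count_le_card i m) h)

theorem rm_eq_self_of_card_lt {m : Multiset ι} (h : Multiset.card m < p) : rm p m = m := by
  ext i
  rw [count_rm]
  exact Nat.mod_eq_of_lt (lt_of_le_of_lt (Multiset.count_le_card i m) h)

theorem count_rm_lt (hp : 0 < p) (m : Multiset ι) (i : ι) : (rm p m).count i < p := by
  rw [count_rm]
  exact Nat.mod_lt _ hp

theorem card_eq (m : Multiset ι) :
    Multiset.card m = p * Multiset.card (qm p m) + Multiset.card (rm p m) := by
  conv_lhs => rw [← qm_add_rm p m]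
  rw [Multiset.card_add, Multiset.card_nsmul]

end Div

section Filt

variable {k : Type*} [CommRing k] {V : Type*} [AddCommGroup V] [Module k V]

theorem bijective_of_filtration (F : ℕ → Submodule k V) (h0 : F 0 = ⊥)
    (hex : ∀ v : V, ∃ n, v ∈ F n) (N : Module.End k V)
    (hN : ∀ n, ∀ v ∈ F (n + 1), N v ∈ F n) :
    Function.Bijective ((1 : Module.End k V) - N) := by
  have hpow : ∀ n, ∀ v ∈ F n, (N ^ n) v = 0 := by
    intro n
    induction n with
    | zero =>
      intro v hv
      rw [h0, Submodule.mem_bot] at hv
      rw [hv, map_zero]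
    | succ n ih =>
      intro v hv
      rw [pow_succ, Module.End.mul_apply]
      exact ih _ (hN n v hv)
  constructor
  · rw [injective_iff_map_eq_zero]
    intro v hv
    have hv' : N v = v := by
      rw [LinearMap.sub_apply, Module.End.one_apply, sub_eq_zero] at hv
      exact hv.symm
    have hit : ∀ n, (N ^ n) v = v := by
      intro n
      induction n with
      | zero => rfl
      | succ n ih => rw [pow_succ, Module.End.mul_apply, hv', ih]
    obtain ⟨n, hn⟩ := hex v
    rw [← hit n]
    exact hpow n v hn
  · intro v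
    obtain ⟨n, hn⟩ := hex v
    refine ⟨(∑ i ∈ Finset.range n, N ^ i) v, ?_⟩
    rw [← Module.End.mul_apply, mul_neg_geom_sum, LinearMap.sub_apply, hpow n v hn, sub_zero]
    rfl

end Filt

section Central

variable {k : Type*} [CommRing k] {L : Type*} [LieRing L] [LieAlgebra k L]
  {ι : Type*} [LinearOrder ι] (b : Module.Basis ι k L) (p : ℕ)
  (z : ι → UniversalEnvelopingAlgebra k L) (hc : ∀ i u, z i * u = u * z i)

local notation "ιU" => UniversalEnvelopingAlgebra.ι k

/-- the `z i` as elements of the centre -/
noncomputable def zc (i : ι) : Subalgebra.center k (UniversalEnvelopingAlgebra k L) :=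
  ⟨z i, Subalgebra.mem_center_iff.2 (fun u => (hc i u).symm)⟩

/-- products of the `z i` -/
noncomputable def zprod (s : Multiset ι) : UniversalEnvelopingAlgebra k L :=
  ((s.map (zc z hc)).prod : Subalgebra.center k (UniversalEnvelopingAlgebra k L))

theorem zprod_zero : zprod z hc 0 = 1 := by
  unfold zprod
  rw [Multiset.map_zero, Multiset.prod_zero]
  rfl

theorem zprod_cons (i : ι) (s : Multiset ι) : zprod z hc (i ::ₘ s) = z i * zprod z hc s := by
  unfold zprod
  rw [Multiset.map_cons, Multiset.prod_cons]
  rfl

variable (hz : ∀ i, z i -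
  (UniversalEnvelopingAlgebra.ι k (b i) : UniversalEnvelopingAlgebra k L) ^ p ∈ Tlt b p)

include hz in
theorem z_mem_Tle (i : ι) : z i ∈ Tle b p := by
  have h1 : ιU (b i) ^ p ∈ Tle b p := by
    have h := Mm_mem_Tle b (Multiset.replicate p i)
    rwa [Mm_replicate, Multiset.card_replicate] at h
  have h2 := Tlt_le_Tle b p (hz i)
  have : z i = (z i - ιU (b i) ^ p) + ιU (b i) ^ p := by abel
  rw [this]
  exact add_mem h2 h1

include hz in
theorem zprod_lead (s : Multiset ι) :
    zprod z hc s ∈ Tle b (p * Multiset.card s) ∧
      zprod z hc s - Mm b (p • s) ∈ Tlt b (p * Multiset.card s) := by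
  induction s using Multiset.induction_on with
  | empty =>
    rw [zprod_zero, smul_zero, Mm_zero, sub_self]
    exact ⟨one_mem_Tle b _, zero_mem _⟩
  | cons i s ih =>
    obtain ⟨ih1, ih2⟩ := ih
    have hcard : p * Multiset.card (i ::ₘ s) = p + p * Multiset.card s := by
      rw [Multiset.card_cons]
      ring
    have hsm : p • (i ::ₘ s) = Multiset.replicate p i + p • s := by
      rw [Multiset.nsmul_cons, Multiset.nsmul_singleton]
    rw [zprod_cons, hcard, hsm]
    refine ⟨Tle_mul_Tle b (z_mem_Tle b p z hz i) ih1, ?_⟩
    have hrep : Mm b (Multiset.replicate p i) ∈ Tle b p := by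
      have h := Mm_mem_Tle b (Multiset.replicate p i)
      rwa [Multiset.card_replicate] at h
    have t1 : (z i - Mm b (Multiset.replicate p i)) * zprod z hc s ∈
        Tlt b (p + p * Multiset.card s) := by
      rw [Mm_replicate]
      exact Tlt_mul_Tle b (hz i) ih1
    have t2 : Mm b (Multiset.replicate p i) * (zprod z hc s - Mm b (p • s)) ∈
        Tlt b (p + p * Multiset.card s) := Tle_mul_Tlt b hrep ih2
    have t3 : Mm b (Multiset.replicate p i) * Mm b (p • s) -
        Mm b (Multiset.replicate p i + p • s) ∈ Tlt b (p + p * Multiset.card s) := by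
      have h := Mm_mul_Mm_sub b (Multiset.replicate p i) (p • s)
      rwa [Multiset.card_replicate, Multiset.card_nsmul] at h
    have : z i * zprod z hc s - Mm b (Multiset.replicate p i + p • s) =
        (z i - Mm b (Multiset.replicate p i)) * zprod z hc s +
          Mm b (Multiset.replicate p i) * (zprod z hc s - Mm b (p • s)) +
          (Mm b (Multiset.replicate p i) * Mm b (p • s) -
            Mm b (Multiset.replicate p i + p • s)) := by
      rw [sub_mul, mul_sub]
      abel
    rw [this]
    exact add_mem (add_mem t1 t2) t3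

/-- the new basis element attached to a multiset -/
noncomputable def Th (m : Multiset ι) : UniversalEnvelopingAlgebra k L :=
  zprod z hc (qm p m) * Mm b (rm p m)

include hz in
theorem Th_sub (m : Multiset ι) : Th b p z hc m - Mm b m ∈ Tlt b (Multiset.card m) := by
  obtain ⟨_, h2⟩ := zprod_lead b p z hc hz (qm p m)
  have h3 := Mm_mul_Mm_sub b (p • qm p m) (rm p m)
  rw [qm_add_rm, Multiset.card_nsmul] at h3
  have h4 := Tlt_mul_Tle b h2 (Mm_mem_Tle b (rm p m))
  have hcard := card_eq p m
  have : Th b p z hc m - Mm b m =
      (zprod z hc (qm p m) - Mm b (p • qm p m)) * Mm b (rm p m) +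
        (Mm b (p • qm p m) * Mm b (rm p m) - Mm b m) := by
    unfold Th
    rw [sub_mul]
    abel
  rw [this, hcard]
  exact add_mem h4 h3

theorem z_mul_Th (hp : 0 < p) (i : ι) (m : Multiset ι) :
    z i * Th b p z hc m = Th b p z hc (Multiset.replicate p i + m) := by
  unfold Th
  rw [qm_replicate_add p hp, rm_replicate_add, zprod_cons, mul_assoc]

theorem Th_of_card_lt {m : Multiset ι} (h : Multiset.card m < p) : Th b p z hc m = Mm b m := by
  unfold Th
  rw [qm_eq_zero_of_card_lt p h, rm_eq_self_of_card_lt p h, zprod_zero, one_mul]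

/-- the change of basis -/
noncomputable def Psi : UniversalEnvelopingAlgebra k L →ₗ[k] UniversalEnvelopingAlgebra k L :=
  (pbwBasis b).constr k (fun l => Th b p z hc (l.1 : Multiset ι))

theorem Psi_Mm (m : Multiset ι) : Psi b p z hc (Mm b m) = Th b p z hc m := by
  have h : Mm b m = pbwBasis b (srt m) := (pbwBasis_apply b (srt m)).symm
  rw [h]
  unfold Psi
  rw [Module.Basis.constr_basis, srt_val]

include hz in
theorem Psi_bijective : Function.Bijective (Psi b p z hc) := by
  have hb := bijective_of_filtration (k := k) (Tlt b) (Tlt_zero b)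
    (fun v => by
      have hv : v ∈ Tall b := by rw [Tall_eq_top]; trivial
      obtain ⟨n, hn⟩ := exists_mem_Tle b hv
      exact ⟨n + 1, hn⟩)
    (1 - Psi b p z hc)
    (fun n v hv => by
      rw [Tlt_succ] at hv
      induction hv using Submodule.span_induction with
      | mem u hu =>
        obtain ⟨l, hl, rfl⟩ := hu
        have hl' : len l ≤ n := hl
        show (1 - Psi b p z hc) (mon b l.1) ∈ Tlt b n
        rw [← Mm_coe, LinearMap.sub_apply, Module.End.one_apply, Psi_Mm]
        have h := Th_sub b p z hc hz (l.1 : Multiset ι)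
        have h' := Tlt_mono b (show Multiset.card (l.1 : Multiset ι) ≤ n from by
          rw [Multiset.coe_card]; exact hl') h
        have : Mm b (l.1 : Multiset ι) - Th b p z hc (l.1 : Multiset ι) =
            -(Th b p z hc (l.1 : Multiset ι) - Mm b (l.1 : Multiset ι)) := by abel
        rw [this]
        exact neg_mem h'
      | zero => rw [map_zero]; exact zero_mem _
      | add s t _ _ h1 h2 => rw [map_add]; exact add_mem h1 h2
      | smul c s _ h => rw [map_smul]; exact Submodule.smul_mem _ _ h)
  have : (1 : Module.End k (UniversalEnvelopingAlgebra k L)) - (1 - Psi b p z hc) =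
      Psi b p z hc := by abel
  rw [this] at hb
  exact hb

/-- the left ideal generated by the `z i` -/
noncomputable def W : Submodule k (UniversalEnvelopingAlgebra k L) :=
  Submodule.span k {u | ∃ i v, u = z i * v}

/-- span of monomials with some exponent `≥ p` -/
noncomputable def Spos : Submodule k (UniversalEnvelopingAlgebra k L) :=
  Submodule.span k (Mm b '' {m | qm p m ≠ 0})

/-- span of restricted monomials -/
noncomputable def Sres : Submodule k (UniversalEnvelopingAlgebra k L) :=
  Submodule.span k (Mm b '' {m | qm p m = 0})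

theorem disjoint_Spos_Sres : Disjoint (Spos b p) (Sres b p) := by
  apply (linearIndependent_Mm b).disjoint_span_image
  rw [Set.disjoint_left]
  intro m hm hm'
  exact hm hm'

theorem z_mul_Psi_mem (hp : 0 < p) (i : ι) (v : UniversalEnvelopingAlgebra k L) :
    z i * Psi b p z hc v ∈ Submodule.map (Psi b p z hc) (Spos b p) := by
  have hv : v ∈ Submodule.span k (Set.range (Mm b)) := by rw [span_range_Mm]; trivial
  induction hv using Submodule.span_induction with
  | mem u hu =>
    obtain ⟨m, rfl⟩ := hu
    rw [Psi_Mm, z_mul_Th b p z hc hp, ← Psi_Mm]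
    refine Submodule.mem_map_of_mem (Submodule.subset_span ⟨_, ?_, rfl⟩)
    show qm p (Multiset.replicate p i + m) ≠ 0
    rw [qm_replicate_add p hp]
    exact Multiset.cons_ne_zero
  | zero => rw [map_zero, mul_zero]; exact zero_mem _
  | add s t _ _ h1 h2 => rw [map_add, mul_add]; exact add_mem h1 h2
  | smul c s _ h => rw [map_smul, mul_smul_comm]; exact Submodule.smul_mem _ _ h

include hz in
theorem W_le (hp : 0 < p) : W z ≤ Submodule.map (Psi b p z hc) (Spos b p) := by
  unfold W
  rw [Submodule.span_le]
  rintro _ ⟨i, v, rfl⟩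
  obtain ⟨v', rfl⟩ := (Psi_bijective b p z hc hz).2 v
  exact z_mul_Psi_mem b p z hc hp i v'

theorem ι_mem_Sres (hp : 1 < p) (x : L) : ιU x ∈ Sres b p ∧ Psi b p z hc (ιU x) = ιU x := by
  have hx : x ∈ Submodule.span k (Set.range b) := by rw [b.span_eq]; trivial
  induction hx using Submodule.span_induction with
  | mem x hx =>
    obtain ⟨i, rfl⟩ := hx
    have hcard : Multiset.card ({i} : Multiset ι) < p := by
      rw [Multiset.card_singleton]; exact hp
    rw [← Mm_singleton]
    refine ⟨Submodule.subset_span ⟨_, qm_eq_zero_of_card_lt p hcard, rfl⟩, ?_⟩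
    rw [Psi_Mm, Th_of_card_lt b p z hc hcard]
  | zero =>
    rw [map_zero, map_zero]
    exact ⟨zero_mem _, rfl⟩
  | add s t _ _ h1 h2 =>
    rw [map_add, map_add, h1.2, h2.2]
    exact ⟨add_mem h1.1 h2.1, rfl⟩
  | smul c s _ h =>
    rw [map_smul, map_smul, h.2]
    exact ⟨Submodule.smul_mem _ _ h.1, rfl⟩

include hc hz in
/-- **Restricted PBW, injectivity part**: `L` meets the ideal generated by the `z i` trivially. -/
theorem ι_eq_zero_of_mem_W (hp : 1 < p) (x : L) (hx : ιU x ∈ W z) : ιU x = 0 := by
  have h1 := W_le b p z hc hz (by omega) hx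
  obtain ⟨v', hv', hv'x⟩ := h1
  obtain ⟨h2, h3⟩ := ι_mem_Sres b p z hc hp x
  have h4 : v' = ιU x := (Psi_bijective b p z hc hz).1 (by rw [hv'x, h3])
  rw [h4] at hv'
  exact (Submodule.disjoint_def.1 (disjoint_Spos_Sres b p)) _ hv' h2

include b in
theorem ι_injective : Function.Injective (ιU : L → UniversalEnvelopingAlgebra k L) := by
  have hli : LinearIndependent k (fun i : ι => ιU (b i)) := by
    have h := (linearIndependent_Mm b).comp (fun i : ι => ({i} : Multiset ι))
      (fun a a' h => Multiset.singleton_inj.1 h)
    have he : (Mm b ∘ fun i : ι => ({i} : Multiset ι)) = fun i : ι => ιU (b i) := by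
      funext i
      exact Mm_singleton b i
    rwa [he] at h
  rw [injective_iff_map_eq_zero]
  intro x hx
  have h1 : x = Finsupp.linearCombination k b (b.repr x) := (b.linearCombination_repr x).symm
  have h2 : Finsupp.linearCombination k (fun i : ι => ιU (b i)) (b.repr x) = 0 := by
    rw [← hx]
    conv_rhs => rw [h1]
    rw [Finsupp.linearCombination_apply, Finsupp.linearCombination_apply, map_finsuppSum]
    simp only [map_smul]
  have h3 := (linearIndependent_iff.1 hli) _ h2
  rw [h1, h3, map_zero]

include hc hz in
/-- **Restricted PBW, spanning part** -/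
theorem W_sup_Sres (hp : 0 < p) : W z ⊔ Sres b p = ⊤ := by
  rw [eq_top_iff]
  intro u _
  obtain ⟨v, rfl⟩ := (Psi_bijective b p z hc hz).2 u
  clear * - hp
  have hv : v ∈ Submodule.span k (Set.range (Mm b)) := by rw [span_range_Mm]; trivial
  induction hv using Submodule.span_induction with
  | mem u hu =>
    obtain ⟨m, rfl⟩ := hu
    rw [Psi_Mm]
    by_cases hq : qm p m = 0
    · apply Submodule.mem_sup_right
      unfold Th
      rw [hq, zprod_zero, one_mul]
      refine Submodule.subset_span ⟨_, ?_, rfl⟩
      show qm p (rm p m) = 0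
      ext i
      rw [count_qm, Multiset.count_zero]
      exact Nat.div_eq_of_lt (count_rm_lt p hp m i)
    · apply Submodule.mem_sup_left
      obtain ⟨i, hi⟩ := Multiset.exists_mem_of_ne_zero hq
      unfold Th
      rw [← Multiset.cons_erase hi, zprod_cons, mul_assoc]
      exact Submodule.subset_span ⟨i, _, rfl⟩
  | zero => rw [map_zero]; exact zero_mem _
  | add s t _ _ h1 h2 => rw [map_add]; exact add_mem h1 h2
  | smul c s _ h => rw [map_smul]; exact Submodule.smul_mem _ _ h

end Central

end Groth.Agent.Helper6.RPBW
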