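import Groth.Agent.Lib.Helper6.RPBW3
import Mathlib

/-!
# Restricted PBW, part 4 (helper6): the restricted enveloping algebra of a finite free restricted
Lie algebra is finite, and gives a faithful restricted matrix representation.
-/

set_option autoImplicit false

namespace Groth.Agent.Helper6.RPBW

open Groth.Agent.Helper5.PBW Groth.Agent.Helper5.PBW.SL Groth.Agent.Helper22.Jac

attribute [local instance 100] LieRing.ofAssociativeRing

section Compat

variable {R : Type*} [CommRing R] (p : ℕ) [Fact p.Prime] [CharP R p]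
  {L : Type*} [LieRing L] [LieAlgebra R L] {ι : Type*}

theorem pmap_zero (φ : PLie.PMap R p L) : φ 0 = 0 := by
  have hp0 : p ≠ 0 := (Fact.out : p.Prime).ne_zero
  have h1 := φ.map_smul 0 0
  rw [zero_smul, zero_pow hp0, zero_smul] at h1
  exact h1

/-- a `p`-map is compatible with `p`-th powers in an embedding as soon as it is on a basis -/
theorem embedding_pmap_compat {A : Type*} [Ring A] [Algebra R A] (e : L →ₗ[R] A)
    (he : ∀ x y : L, e ⁅x, y⁆ = e x * e y - e y * e x) (φ : PLie.PMap R p L)
    (b : Module.Basis ι R L) (hb : ∀ i, e (φ (b i)) = e (b i) ^ p) :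
    ∀ x, e (φ x) = e x ^ p := by
  have hp0 : p ≠ 0 := (Fact.out : p.Prime).ne_zero
  intro x
  have hx : x ∈ Submodule.span R (Set.range b) := by rw [b.span_eq]; trivial
  induction hx using Submodule.span_induction with
  | mem x hx =>
    obtain ⟨i, rfl⟩ := hx
    exact hb i
  | zero => rw [pmap_zero, map_zero, zero_pow hp0]
  | add s t _ _ h1 h2 =>
    have a1 := φ.map_add s t
    have a1' : φ (s + t) = φ s + φ t - PLie.jacobson R p s t := a1
    rw [a1', map_sub, map_add, h1, h2, map_add, jacobson_assoc (R := R) (e s) (e t)]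
    congr 1
    unfold PLie.jacobson
    rw [map_sum]
    apply Finset.sum_congr rfl
    intro t' _
    rw [map_smul, bracketWord_map e he, pair_map]
  | smul c s _ h =>
    have a1 : φ (c • s) = c ^ p • φ s := φ.map_smul c s
    rw [a1, map_smul, map_smul, h, smul_pow]

end Compat

section Finite

variable {ι : Type*} [DecidableEq ι] [Fintype ι] (p : ℕ)

theorem finite_restricted (hp : 0 < p) : Set.Finite {m : Multiset ι | qm p m = 0} := by
  let f : Multiset ι → (ι → ℕ) := fun m i => m.count i
  apply Set.Finite.of_finite_image (f := f)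
  · apply Set.Finite.subset (Set.Finite.pi (t := fun _ : ι => Set.Iio p) (fun _ => Set.finite_Iio p))
    rintro _ ⟨m, hm, rfl⟩
    intro i _
    show m.count i < p
    have h := count_qm p m i
    rw [show qm p m = 0 from hm, Multiset.count_zero] at h
    rcases (Nat.div_eq_zero_iff.1 h.symm) with h' | h'
    · omega
    · exact h'
  · intro m _ m' _ h
    ext i
    exact congrFun h i

end Finite

section FiniteQuot

variable {k : Type*} [CommRing k] {L : Type*} [LieRing L] [LieAlgebra k L]
  {ι : Type*} [LinearOrder ι] [Fintype ι] (b : Module.Basis ι k L) (p : ℕ)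
  (z : ι → UniversalEnvelopingAlgebra k L) (hc : ∀ i u, z i * u = u * z i)

include hc in
theorem finite_quot (hp : 0 < p)
    (hz : ∀ i, z i -
      (UniversalEnvelopingAlgebra.ι k (b i) : UniversalEnvelopingAlgebra k L) ^ p ∈ Tlt b p) :
    Module.Finite k (UniversalEnvelopingAlgebra k L ⧸ W z) := by
  have h1 : (Sres b p).FG := by
    unfold Sres
    exact Submodule.fg_span ((finite_restricted p hp).image _)
  have h2 : Submodule.map (W z).mkQ (Sres b p) = ⊤ := by
    have h3 := W_sup_Sres b p z hc hz hp
    have h4 : Submodule.map (W z).mkQ (W z ⊔ Sres b p) = ⊤ := by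
      rw [h3, Submodule.map_top, Submodule.range_mkQ]
    rw [Submodule.map_sup, Submodule.mkQ_map_self, bot_sup_eq] at h4
    exact h4
  rw [Module.finite_def, ← h2]
  exact h1.map _

end FiniteQuot

section Matrix

variable {k : Type*} [Field k] (p : ℕ) [Fact p.Prime] [CharP k p]
  {L : Type*} [LieRing L] [LieAlgebra k L] [Module.Finite k L]

/-- every finite-dimensional restricted Lie algebra has a faithful restricted matrix
representation -/
theorem exists_matrix_rep (φ : PLie.PMap k p L) :
    ∃ (n : ℕ) (e : L →ₗ[k] Matrix (Fin n) (Fin n) k), PLie.IsPSubOfAssoc φ e := by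
  classical
  have hp2 : 1 < p := (Fact.out : p.Prime).one_lt
  let b := Module.finBasis k L
  let z : Fin (Module.finrank k L) → UniversalEnvelopingAlgebra k L :=
    fun i => UniversalEnvelopingAlgebra.ι k (b i) ^ p - UniversalEnvelopingAlgebra.ι k (φ (b i))
  have hc : ∀ i u, z i * u = u * z i := fun i => z_central (b i) (φ (b i)) (φ.ad_map (b i)).symm
  have hz : ∀ i, z i -
      (UniversalEnvelopingAlgebra.ι k (b i) : UniversalEnvelopingAlgebra k L) ^ p ∈ Tlt b p := by
    intro i
    have h : z i - (UniversalEnvelopingAlgebra.ι k (b i) : UniversalEnvelopingAlgebra k L) ^ p =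
        -UniversalEnvelopingAlgebra.ι k (φ (b i)) := by
      show UniversalEnvelopingAlgebra.ι k (b i) ^ p - UniversalEnvelopingAlgebra.ι k (φ (b i)) -
        UniversalEnvelopingAlgebra.ι k (b i) ^ p = -UniversalEnvelopingAlgebra.ι k (φ (b i))
      abel
    rw [h]
    exact neg_mem (Tle_le_Tlt b hp2 (ι_mem_Tle b (φ (b i))))
  have hinj := rep_injective z hc b p hp2 hz
  have hbp : ∀ i, rep z hc (φ (b i)) = rep z hc (b i) ^ p := by
    intro i
    rw [rep_apply, rep_apply, ← map_pow]
    have h : UniversalEnvelopingAlgebra.ι k (b i) ^ p =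
        z i + UniversalEnvelopingAlgebra.ι k (φ (b i)) := by
      show UniversalEnvelopingAlgebra.ι k (b i) ^ p =
        UniversalEnvelopingAlgebra.ι k (b i) ^ p - UniversalEnvelopingAlgebra.ι k (φ (b i)) +
          UniversalEnvelopingAlgebra.ι k (φ (b i))
      abel
    rw [h, map_add, lmAlg_z, zero_add]
  have hcompat := embedding_pmap_compat p (rep z hc) (rep_lie z hc) φ b hbp
  have : Module.Finite k (UniversalEnvelopingAlgebra k L ⧸ W z) :=
    finite_quot b p z hc (by omega) hz
  let bQ := Module.finBasis k (UniversalEnvelopingAlgebra k L ⧸ W z)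
  let T := LinearMap.toMatrixAlgEquiv bQ
  refine ⟨_, T.toLinearMap ∘ₗ rep z hc, ?_, ?_, ?_⟩
  · exact T.injective.comp hinj
  · intro x y
    show T (rep z hc ⁅x, y⁆) = T (rep z hc x) * T (rep z hc y) - T (rep z hc y) * T (rep z hc x)
    rw [rep_lie, map_sub, map_mul, map_mul]
  · intro x
    show T (rep z hc (φ x)) = T (rep z hc x) ^ p
    rw [hcompat, map_pow]

end Matrix

end Groth.Agent.Helper6.RPBW
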