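import Groth.Agent.Lib.Helper6.CMM5
import Mathlib

/-!
# The universal enveloping algebra is a Hopf algebra (helper6)
-/

set_option autoImplicit false
universe u v

open scoped TensorProduct

attribute [local instance] LieRing.ofAssociativeRing

namespace Groth.Agent.Helper6.UEAHopf

open Groth.Agent.Helper6.CMM

section
variable (k : Type u) [Field k] (L : Type v) [LieRing L] [LieAlgebra k L]

local notation "𝒰" => UniversalEnvelopingAlgebra k L
local notation "ιU" => UniversalEnvelopingAlgebra.ι k (L := L)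

/-- the Lie hom `x ↦ op (- ι x)` -/
noncomputable def antiLie : L →ₗ⁅k⁆ 𝒰ᵐᵒᵖ :=
  { toLinearMap := (MulOpposite.opLinearEquiv k : 𝒰 ≃ₗ[k] 𝒰ᵐᵒᵖ).toLinearMap ∘ₗ
      (-(ιU : L →ₗ⁅k⁆ 𝒰).toLinearMap)
    map_lie' := by
      intro x y
      simp only [AddHom.toFun_eq_coe, LinearMap.coe_toAddHom, LinearMap.comp_apply,
        LinearMap.neg_apply, LieHom.coe_toLinearMap, LieHom.map_lie,
        LieRing.of_associative_ring_bracket, LinearEquiv.coe_coe,
        MulOpposite.coe_opLinearEquiv]
      rw [← MulOpposite.op_mul, ← MulOpposite.op_mul, ← MulOpposite.op_sub]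
      congr 1
      noncomm_ring }

theorem antiLie_apply (x : L) : antiLie k L x = MulOpposite.op (-(ιU x)) := rfl

/-- the antipode as an algebra hom to the opposite algebra -/
noncomputable def antiAlg : 𝒰 →ₐ[k] 𝒰ᵐᵒᵖ := UniversalEnvelopingAlgebra.lift k (antiLie k L)

/-- the antipode of `U(L)` -/
noncomputable def anti : 𝒰 →ₗ[k] 𝒰 :=
  (MulOpposite.opLinearEquiv k : 𝒰 ≃ₗ[k] 𝒰ᵐᵒᵖ).symm.toLinearMap ∘ₗ (antiAlg k L).toLinearMap

theorem anti_apply (w : 𝒰) : anti k L w = MulOpposite.unop (antiAlg k L w) := rfl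

theorem anti_mul (a c : 𝒰) : anti k L (a * c) = anti k L c * anti k L a := by
  rw [anti_apply, anti_apply, anti_apply, map_mul, MulOpposite.unop_mul]

theorem anti_ι (x : L) : anti k L (ιU x) = -(ιU x) := by
  rw [anti_apply, antiAlg, UniversalEnvelopingAlgebra.lift_ι_apply, antiLie_apply,
    MulOpposite.unop_op]

theorem anti_one : anti k L 1 = 1 := by
  rw [anti_apply, map_one, MulOpposite.unop_one]

theorem left_aux (x : L) (t : 𝒰 ⊗[k] 𝒰) :
    LinearMap.mul' k 𝒰 (LinearMap.rTensor 𝒰 (anti k L)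
      ((ιU x ⊗ₜ[k] (1 : 𝒰) + (1 : 𝒰) ⊗ₜ[k] ιU x) * t)) = 0 := by
  induction t using TensorProduct.induction_on with
  | zero => rw [mul_zero, map_zero, map_zero]
  | tmul a c =>
    rw [add_mul, Algebra.TensorProduct.tmul_mul_tmul, Algebra.TensorProduct.tmul_mul_tmul,
      one_mul, one_mul, map_add, map_add, LinearMap.rTensor_tmul, LinearMap.rTensor_tmul,
      LinearMap.mul'_apply, LinearMap.mul'_apply, anti_mul, anti_ι]
    noncomm_ring
  | add s t hs ht => rw [mul_add, map_add, map_add, hs, ht, add_zero]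

theorem right_aux (x : L) (t : 𝒰 ⊗[k] 𝒰) :
    LinearMap.mul' k 𝒰 (LinearMap.lTensor 𝒰 (anti k L)
      (t * (ιU x ⊗ₜ[k] (1 : 𝒰) + (1 : 𝒰) ⊗ₜ[k] ιU x))) = 0 := by
  induction t using TensorProduct.induction_on with
  | zero => rw [zero_mul, map_zero, map_zero]
  | tmul a c =>
    rw [mul_add, Algebra.TensorProduct.tmul_mul_tmul, Algebra.TensorProduct.tmul_mul_tmul,
      mul_one, mul_one, map_add, map_add, LinearMap.lTensor_tmul, LinearMap.lTensor_tmul,
      LinearMap.mul'_apply, LinearMap.mul'_apply, anti_mul, anti_ι]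
    noncomm_ring
  | add s t hs ht => rw [add_mul, map_add, map_add, hs, ht, add_zero]

theorem left_axiom (w : 𝒰) :
    LinearMap.mul' k 𝒰 (LinearMap.rTensor 𝒰 (anti k L) (Coalgebra.comul (R := k) w)) =
      algebraMap k 𝒰 (Coalgebra.counit (R := k) w) := by
  obtain ⟨t, rfl⟩ : ∃ t, UniversalEnvelopingAlgebra.mkAlgHom k L t = w :=
    RingCon.mkₐ_surjective _ w
  have key : ∀ t : TensorAlgebra k L, ∀ s : 𝒰,
      LinearMap.mul' k 𝒰 (LinearMap.rTensor 𝒰 (anti k L) (Coalgebra.comul (R := k) s)) =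
        algebraMap k 𝒰 (Coalgebra.counit (R := k) s) →
      LinearMap.mul' k 𝒰 (LinearMap.rTensor 𝒰 (anti k L)
        (Coalgebra.comul (R := k) (UniversalEnvelopingAlgebra.mkAlgHom k L t * s))) =
        algebraMap k 𝒰
          (Coalgebra.counit (R := k) (UniversalEnvelopingAlgebra.mkAlgHom k L t * s)) := by
    intro t
    induction t using TensorAlgebra.induction with
    | algebraMap r =>
      intro s hs
      rw [AlgHom.commutes, Algebra.algebraMap_eq_smul_one, smul_mul_assoc, one_mul]
      simp only [map_smul, hs, smul_eq_mul, map_mul]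
      rw [Algebra.smul_def]
    | ι x =>
      intro s _
      have h1 : UniversalEnvelopingAlgebra.mkAlgHom k L (TensorAlgebra.ι k x) = ιU x := rfl
      rw [h1, Bialgebra.comul_mul, comul_ι, left_aux, Bialgebra.counit_mul, counit_ι, zero_mul,
        map_zero]
    | mul a c ha hc =>
      intro s hs
      rw [map_mul (UniversalEnvelopingAlgebra.mkAlgHom k L) a c, mul_assoc]
      exact ha _ (hc _ hs)
    | add a c ha hc =>
      intro s hs
      rw [map_add (UniversalEnvelopingAlgebra.mkAlgHom k L) a c, add_mul]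
      simp only [map_add, ha _ hs, hc _ hs]
  have h1 : LinearMap.mul' k 𝒰 (LinearMap.rTensor 𝒰 (anti k L)
      (Coalgebra.comul (R := k) (1 : 𝒰))) = algebraMap k 𝒰 (Coalgebra.counit (R := k) (1 : 𝒰)) := by
    rw [Bialgebra.comul_one, Bialgebra.counit_one, Algebra.TensorProduct.one_def,
      LinearMap.rTensor_tmul, LinearMap.mul'_apply, anti_one, one_mul, map_one]
  have := key t 1 h1
  rwa [mul_one] at this

theorem right_axiom (w : 𝒰) :
    LinearMap.mul' k 𝒰 (LinearMap.lTensor 𝒰 (anti k L) (Coalgebra.comul (R := k) w)) =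
      algebraMap k 𝒰 (Coalgebra.counit (R := k) w) := by
  obtain ⟨t, rfl⟩ : ∃ t, UniversalEnvelopingAlgebra.mkAlgHom k L t = w :=
    RingCon.mkₐ_surjective _ w
  have key : ∀ t : TensorAlgebra k L, ∀ s : 𝒰,
      LinearMap.mul' k 𝒰 (LinearMap.lTensor 𝒰 (anti k L) (Coalgebra.comul (R := k) s)) =
        algebraMap k 𝒰 (Coalgebra.counit (R := k) s) →
      LinearMap.mul' k 𝒰 (LinearMap.lTensor 𝒰 (anti k L)
        (Coalgebra.comul (R := k) (s * UniversalEnvelopingAlgebra.mkAlgHom k L t))) =
        algebraMap k 𝒰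
          (Coalgebra.counit (R := k) (s * UniversalEnvelopingAlgebra.mkAlgHom k L t)) := by
    intro t
    induction t using TensorAlgebra.induction with
    | algebraMap r =>
      intro s hs
      rw [AlgHom.commutes, Algebra.algebraMap_eq_smul_one, mul_smul_comm, mul_one]
      simp only [map_smul, hs, smul_eq_mul, map_mul]
      rw [Algebra.smul_def]
    | ι x =>
      intro s _
      have h1 : UniversalEnvelopingAlgebra.mkAlgHom k L (TensorAlgebra.ι k x) = ιU x := rfl
      rw [h1, Bialgebra.comul_mul, comul_ι, right_aux, Bialgebra.counit_mul, counit_ι, mul_zero,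
        map_zero]
    | mul a c ha hc =>
      intro s hs
      rw [map_mul (UniversalEnvelopingAlgebra.mkAlgHom k L) a c, ← mul_assoc]
      exact hc _ (ha _ hs)
    | add a c ha hc =>
      intro s hs
      rw [map_add (UniversalEnvelopingAlgebra.mkAlgHom k L) a c, mul_add]
      simp only [map_add, ha _ hs, hc _ hs]
  have h1 : LinearMap.mul' k 𝒰 (LinearMap.lTensor 𝒰 (anti k L)
      (Coalgebra.comul (R := k) (1 : 𝒰))) = algebraMap k 𝒰 (Coalgebra.counit (R := k) (1 : 𝒰)) := by
    rw [Bialgebra.comul_one, Bialgebra.counit_one, Algebra.TensorProduct.one_def,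
      LinearMap.lTensor_tmul, LinearMap.mul'_apply, anti_one, one_mul, map_one]
  have := key t 1 h1
  rwa [one_mul] at this

noncomputable instance instHopfAlgebraUEA : HopfAlgebra k 𝒰 where
  antipode := anti k L
  mul_antipode_rTensor_comul := by
    apply LinearMap.ext
    intro w
    exact left_axiom k L w
  mul_antipode_lTensor_comul := by
    apply LinearMap.ext
    intro w
    exact right_axiom k L w

theorem antipode_eq : HopfAlgebraStruct.antipode (R := k) (A := 𝒰) = anti k L := rfl

end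

end Groth.Agent.Helper6.UEAHopf
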