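import Groth.Agent.Lib.Helper6.RPBW4
import Groth.Agent.Lib.Helper6.RPBW5
import Mathlib

/-!
# The restricted enveloping algebra as a finite cocommutative Hopf algebra (helper6)
-/

set_option autoImplicit false
universe u v w

open scoped TensorProduct

attribute [local instance] LieRing.ofAssociativeRing

namespace Groth.Agent.Helper6.RLie

open Groth.Agent.Helper5.PBW Groth.Agent.Helper6.RPBW Groth.Agent.Helper6.CMM
  Groth.Agent.Helper6.UEAHopf

section

variable {k : Type u} [Field k] {p : ℕ} [Fact p.Prime] [CharP k p]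
  {L : Type v} [LieRing L] [LieAlgebra k L] {ι : Type w}
  (φ : PLie.PMap k p L) (b : Module.Basis ι k L)

local notation "𝒰" => UniversalEnvelopingAlgebra k L
local notation "ιU" => UniversalEnvelopingAlgebra.ι k (L := L)

/-- the central elements `b_i^p - b_i^{[p]}` -/
noncomputable def zφ (i : ι) : 𝒰 := ιU (b i) ^ p - ιU (φ (b i))

theorem zφ_central (i : ι) (w : 𝒰) : zφ φ b i * w = w * zφ φ b i :=
  z_central (b i) (φ (b i)) (φ.ad_map (b i)).symm w

omit [CharP k p] in
theorem comul_pow_prim [CharP k p] (a : 𝒰)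
    (ha : Coalgebra.comul (R := k) a = a ⊗ₜ[k] 1 + 1 ⊗ₜ[k] a) :
    Coalgebra.comul (R := k) (a ^ p) = (a ^ p) ⊗ₜ[k] 1 + 1 ⊗ₜ[k] (a ^ p) := by
  have hc : Commute (a ⊗ₜ[k] (1 : 𝒰)) ((1 : 𝒰) ⊗ₜ[k] a) := by
    change _ * _ = _ * _
    rw [Algebra.TensorProduct.tmul_mul_tmul, Algebra.TensorProduct.tmul_mul_tmul, mul_one,
      one_mul]
  have hp0 : ((p : ℕ) : 𝒰 ⊗[k] 𝒰) = 0 := by
    rw [← map_natCast (algebraMap k (𝒰 ⊗[k] 𝒰)), CharP.cast_eq_zero, map_zero]
  obtain ⟨r, hr⟩ := hc.exists_add_pow_prime_eq (Fact.out : p.Prime)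
  rw [Bialgebra.comul_pow, ha, hr, hp0, zero_mul, zero_mul, zero_mul, add_zero,
    Algebra.TensorProduct.tmul_pow, Algebra.TensorProduct.tmul_pow, one_pow]

theorem comul_zφ (i : ι) :
    Coalgebra.comul (R := k) (zφ φ b i) = zφ φ b i ⊗ₜ[k] 1 + 1 ⊗ₜ[k] zφ φ b i := by
  unfold zφ
  rw [map_sub, comul_pow_prim _ (comul_ι k L (b i)), comul_ι, TensorProduct.sub_tmul,
    TensorProduct.tmul_sub]
  abel

theorem counit_zφ (i : ι) : Coalgebra.counit (R := k) (zφ φ b i) = 0 := by
  have hp0 : p ≠ 0 := (Fact.out : p.Prime).ne_zero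
  show Bialgebra.counitAlgHom k 𝒰 (zφ φ b i) = 0
  unfold zφ
  rw [map_sub, map_pow, Bialgebra.counitAlgHom_apply, Bialgebra.counitAlgHom_apply, counit_ι,
    counit_ι, zero_pow hp0, sub_zero]

omit [Fact p.Prime] [CharP k p] in
theorem antipode_prim (a : 𝒰)
    (ha : Coalgebra.comul (R := k) a = a ⊗ₜ[k] 1 + 1 ⊗ₜ[k] a)
    (hε : Coalgebra.counit (R := k) a = 0) : HopfAlgebraStruct.antipode (R := k) a = -a := by
  have h := HopfAlgebra.mul_antipode_rTensor_comul_apply (R := k) a
  rw [ha, map_add, map_add, LinearMap.rTensor_tmul, LinearMap.rTensor_tmul, LinearMap.mul'_apply,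
    LinearMap.mul'_apply, HopfAlgebra.antipode_one, mul_one, one_mul, hε, map_zero] at h
  exact eq_neg_of_add_eq_zero_left h

/-- the ideal generated by the `zφ i` -/
noncomputable def Iφ : Ideal 𝒰 := Ideal.span (Set.range (zφ φ b))

theorem Iφ_eq_W : (Iφ φ b).restrictScalars k = W (zφ φ b) := by
  apply le_antisymm
  · intro a ha
    rw [Submodule.restrictScalars_mem] at ha
    unfold Iφ at ha
    induction ha using Submodule.span_induction with
    | mem a ha =>
      obtain ⟨i, rfl⟩ := ha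
      exact Submodule.subset_span ⟨i, 1, (mul_one _).symm⟩
    | zero => exact zero_mem _
    | add s t _ _ h1 h2 => exact add_mem h1 h2
    | smul r s _ h => exact mul_mem_W _ (zφ_central φ b) r h
  · unfold W
    rw [Submodule.span_le]
    rintro _ ⟨i, v, rfl⟩
    rw [SetLike.mem_coe, Submodule.restrictScalars_mem, zφ_central]
    exact Ideal.mul_mem_left _ _ (Ideal.subset_span ⟨i, rfl⟩)

theorem mem_Iφ_iff (a : 𝒰) : a ∈ Iφ φ b ↔ a ∈ W (zφ φ b) := by
  rw [← Iφ_eq_W, Submodule.restrictScalars_mem]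

theorem zφ_mul_mem (i : ι) (v : 𝒰) : zφ φ b i * v ∈ Iφ φ b := by
  rw [mem_Iφ_iff]
  exact Submodule.subset_span ⟨i, v, rfl⟩

instance instIsTwoSided : (Iφ φ b).IsTwoSided := ⟨fun {a} c ha => by
  rw [mem_Iφ_iff] at ha ⊢
  induction ha using Submodule.span_induction with
  | mem a ha =>
    obtain ⟨i, v, rfl⟩ := ha
    rw [mul_assoc]
    exact Submodule.subset_span ⟨i, _, rfl⟩
  | zero => rw [zero_mul]; exact zero_mem _
  | add s t _ _ h1 h2 => rw [add_mul]; exact add_mem h1 h2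
  | smul r s _ h => rw [smul_mul_assoc]; exact Submodule.smul_mem _ _ h⟩

theorem mkQ_aux (i : ι) (t : 𝒰 ⊗[k] 𝒰) :
    TensorProduct.map ((Iφ φ b).restrictScalars k).mkQ ((Iφ φ b).restrictScalars k).mkQ
      ((zφ φ b i ⊗ₜ[k] (1 : 𝒰) + (1 : 𝒰) ⊗ₜ[k] zφ φ b i) * t) = 0 := by
  induction t using TensorProduct.induction_on with
  | zero => rw [mul_zero, map_zero]
  | tmul a c =>
    have h1 : ((Iφ φ b).restrictScalars k).mkQ (zφ φ b i * a) = 0 := by
      rw [Submodule.mkQ_apply, Submodule.Quotient.mk_eq_zero, Submodule.restrictScalars_mem]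
      exact zφ_mul_mem φ b i a
    have h2 : ((Iφ φ b).restrictScalars k).mkQ (zφ φ b i * c) = 0 := by
      rw [Submodule.mkQ_apply, Submodule.Quotient.mk_eq_zero, Submodule.restrictScalars_mem]
      exact zφ_mul_mem φ b i c
    rw [add_mul, Algebra.TensorProduct.tmul_mul_tmul, Algebra.TensorProduct.tmul_mul_tmul,
      one_mul, one_mul, map_add, TensorProduct.map_tmul, TensorProduct.map_tmul, h1, h2,
      TensorProduct.zero_tmul, TensorProduct.tmul_zero, add_zero]
  | add s t hs ht => rw [mul_add, map_add, hs, ht, add_zero]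

instance instIsHopfIdeal : (Iφ φ b).IsHopfIdeal k where
  counit_eq_zero := by
    intro a ha
    rw [Submodule.restrictScalars_mem, mem_Iφ_iff] at ha
    induction ha using Submodule.span_induction with
    | mem a ha =>
      obtain ⟨i, v, rfl⟩ := ha
      rw [Bialgebra.counit_mul, counit_zφ, zero_mul]
    | zero => rw [map_zero]
    | add s t _ _ h1 h2 => rw [map_add, h1, h2, add_zero]
    | smul r s _ h => rw [map_smul, h, smul_zero]
  map_mkQ_comul_eq_zero := by
    intro a ha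
    rw [Submodule.restrictScalars_mem, mem_Iφ_iff] at ha
    induction ha using Submodule.span_induction with
    | mem a ha =>
      obtain ⟨i, v, rfl⟩ := ha
      rw [Bialgebra.comul_mul, comul_zφ]
      exact mkQ_aux φ b i _
    | zero => rw [map_zero, map_zero]
    | add s t _ _ h1 h2 => rw [map_add, map_add, h1, h2, add_zero]
    | smul r s _ h => rw [map_smul, map_smul, h, smul_zero]
  antipode_mem := by
    intro a ha
    rw [mem_Iφ_iff] at ha
    induction ha using Submodule.span_induction with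
    | mem a ha =>
      obtain ⟨i, v, rfl⟩ := ha
      rw [antipode_eq, anti_mul, ← antipode_eq,
        antipode_prim _ (comul_zφ φ b i) (counit_zφ φ b i), mul_neg]
      exact neg_mem (Ideal.mul_mem_left _ _ (Ideal.subset_span ⟨i, rfl⟩))
    | zero => rw [map_zero]; exact zero_mem _
    | add s t _ _ h1 h2 => rw [map_add]; exact add_mem h1 h2
    | smul r s _ h =>
      rw [map_smul]
      have := Submodule.smul_mem ((Iφ φ b).restrictScalars k) r
        ((Submodule.restrictScalars_mem k _ _).2 h)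
      exact (Submodule.restrictScalars_mem k _ _).1 this

/-- the restricted enveloping algebra -/
abbrev uφ : Type (max u v) := 𝒰 ⧸ Iφ φ b

/-- the projection `U(L) → u(L)` -/
noncomputable abbrev πφ : 𝒰 →ₐ[k] uφ φ b := Ideal.Quotient.mkₐ k (Iφ φ b)

/-- the map `L → u(L)` -/
noncomputable def jφ : L →ₗ[k] uφ φ b :=
  (πφ φ b).toLinearMap ∘ₗ (ιU : L →ₗ⁅k⁆ 𝒰).toLinearMap

theorem jφ_apply (x : L) : jφ φ b x = πφ φ b (ιU x) := rfl

theorem jφ_lie (x y : L) : jφ φ b ⁅x, y⁆ = jφ φ b x * jφ φ b y - jφ φ b y * jφ φ b x := by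
  rw [jφ_apply, jφ_apply, jφ_apply, LieHom.map_lie, LieRing.of_associative_ring_bracket,
    map_sub, map_mul, map_mul]

theorem πφ_zφ (i : ι) : πφ φ b (zφ φ b i) = 0 := by
  rw [Ideal.Quotient.mkₐ_eq_mk, Ideal.Quotient.eq_zero_iff_mem]
  have := zφ_mul_mem φ b i 1
  rwa [mul_one] at this

theorem jφ_pow_basis (i : ι) : jφ φ b (φ (b i)) = jφ φ b (b i) ^ p := by
  rw [jφ_apply, jφ_apply, ← map_pow]
  have h : ιU (b i) ^ p = zφ φ b i + ιU (φ (b i)) := by
    unfold zφ
    abel
  rw [h, map_add, πφ_zφ, zero_add]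

theorem jφ_pow (x : L) : jφ φ b (φ x) = jφ φ b x ^ p :=
  embedding_pmap_compat p (jφ φ b) (jφ_lie φ b) φ b (jφ_pow_basis φ b) x

theorem hzφ [LinearOrder ι] (i : ι) :
    zφ φ b i - (UniversalEnvelopingAlgebra.ι k (b i) : 𝒰) ^ p ∈ Tlt b p := by
  have hp2 : 1 < p := (Fact.out : p.Prime).one_lt
  have h : zφ φ b i - (UniversalEnvelopingAlgebra.ι k (b i) : 𝒰) ^ p = -ιU (φ (b i)) := by
    unfold zφ
    abel
  rw [h]
  exact neg_mem (Tle_le_Tlt b hp2 (ι_mem_Tle b (φ (b i))))

theorem jφ_injective : Function.Injective (jφ φ b) := by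
  classical
  let _ : LinearOrder ι := IsWellOrder.linearOrder WellOrderingRel
  have hp2 : 1 < p := (Fact.out : p.Prime).one_lt
  rw [injective_iff_map_eq_zero]
  intro x hx
  rw [jφ_apply, Ideal.Quotient.mkₐ_eq_mk, Ideal.Quotient.eq_zero_iff_mem, mem_Iφ_iff] at hx
  have h3 := ι_eq_zero_of_mem_W b p (zφ φ b) (zφ_central φ b) (hzφ φ b) hp2 x hx
  apply ι_injective b
  rw [h3, map_zero]

theorem finite_uφ [Finite ι] : Module.Finite k (uφ φ b) := by
  classical
  let _ : LinearOrder ι := IsWellOrder.linearOrder WellOrderingRel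
  have := Fintype.ofFinite ι
  have hp0 : 0 < p := (Fact.out : p.Prime).pos
  have h1 : Module.Finite k (𝒰 ⧸ W (zφ φ b)) :=
    finite_quot b p (zφ φ b) (zφ_central φ b) hp0 (hzφ φ b)
  let f : (𝒰 ⧸ W (zφ φ b)) →ₗ[k] uφ φ b :=
    (W (zφ φ b)).liftQ (πφ φ b).toLinearMap (by
      intro a ha
      rw [LinearMap.mem_ker]
      show πφ φ b a = 0
      rw [Ideal.Quotient.mkₐ_eq_mk, Ideal.Quotient.eq_zero_iff_mem, mem_Iφ_iff]
      exact ha)
  have hf : Function.Surjective f := by
    intro q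
    obtain ⟨a, rfl⟩ := Ideal.Quotient.mk_surjective q
    exact ⟨Submodule.Quotient.mk a, rfl⟩
  exact Module.Finite.of_surjective f hf

instance instIsCocomm : Coalgebra.IsCocomm k (uφ φ b) where
  comm_comp_comul := by
    apply LinearMap.ext
    intro q
    obtain ⟨a, rfl⟩ := Ideal.Quotient.mk_surjective q
    rw [LinearMap.comp_apply, Bialgebra.Quotient.comul_mk]
    have h := Coalgebra.comm_comul k a
    conv_rhs => rw [← h]
    rw [LinearEquiv.coe_coe, TensorProduct.map_comm]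

end

end Groth.Agent.Helper6.RLie
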