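import Groth.Agent.Lib.Helper6.RPBW6
import Mathlib

/-!
# Primitive elements of the restricted enveloping algebra (helper6)
-/

set_option autoImplicit false
universe u v w

open scoped TensorProduct

attribute [local instance] LieRing.ofAssociativeRing

namespace Groth.Agent.Helper6.RLie

open Groth.Agent.Helper5.PBW Groth.Agent.Helper5.PBW.SL Groth.Agent.Helper6.RPBW
  Groth.Agent.Helper6.CMM Groth.Agent.Helper6.UEAHopf

section Count

variable {ι : Type*} [DecidableEq ι] {V : Type*} [AddCommMonoid V]

theorem sum_antidiagonal_fst_zero (m : Multiset ι) (G : Multiset ι → V) :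
    ((Multiset.antidiagonal m).map (fun st => if st.1 = 0 then G st.2 else 0)).sum = G m := by
  induction m using Multiset.induction_on generalizing G with
  | empty => simp
  | cons j m ih =>
    rw [Multiset.antidiagonal_cons, Multiset.map_add, Multiset.sum_add, Multiset.map_map,
      Multiset.map_map]
    have h1 : ((Multiset.antidiagonal m).map
        ((fun st : Multiset ι × Multiset ι => if st.1 = 0 then G st.2 else 0) ∘
          Prod.map id (Multiset.cons j))).sum = G (j ::ₘ m) := by
      have := ih (fun t => G (j ::ₘ t))
      exact this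
    have h2 : ((Multiset.antidiagonal m).map
        ((fun st : Multiset ι × Multiset ι => if st.1 = 0 then G st.2 else 0) ∘
          Prod.map (Multiset.cons j) id)).sum = 0 := by
      apply Multiset.sum_eq_zero
      intro x hx
      rw [Multiset.mem_map] at hx
      obtain ⟨st, _, rfl⟩ := hx
      simp only [Function.comp_apply, Prod.map_fst]
      rw [if_neg (Multiset.cons_ne_zero)]
    rw [h1, h2, add_zero]

theorem sum_antidiagonal_fst_singleton (i : ι) (m : Multiset ι) (G : Multiset ι → V) :
    ((Multiset.antidiagonal m).map (fun st => if st.1 = {i} then G st.2 else 0)).sum =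
      (m.count i) • G (m.erase i) := by
  induction m using Multiset.induction_on generalizing G with
  | empty =>
    rw [Multiset.antidiagonal_zero, Multiset.map_singleton, Multiset.sum_singleton,
      Multiset.count_zero, zero_smul]
    exact if_neg (Multiset.singleton_ne_zero i).symm
  | cons j m ih =>
    rw [Multiset.antidiagonal_cons, Multiset.map_add, Multiset.sum_add, Multiset.map_map,
      Multiset.map_map]
    have h1 : ((Multiset.antidiagonal m).map
        ((fun st : Multiset ι × Multiset ι => if st.1 = {i} then G st.2 else 0) ∘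
          Prod.map id (Multiset.cons j))).sum = (m.count i) • G (j ::ₘ m.erase i) := by
      have := ih (fun t => G (j ::ₘ t))
      exact this
    rw [h1]
    by_cases hji : j = i
    · subst hji
      have h2 : ((Multiset.antidiagonal m).map
          ((fun st : Multiset ι × Multiset ι => if st.1 = {j} then G st.2 else 0) ∘
            Prod.map (Multiset.cons j) id)).sum = G m := by
        rw [← sum_antidiagonal_fst_zero m G]
        apply congrArg
        apply Multiset.map_congr rfl
        intro st _
        simp only [Function.comp_apply, Prod.map_fst, Prod.map_snd, id_eq]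
        have : (j ::ₘ st.1 = {j}) ↔ st.1 = 0 := by
          rw [← Multiset.cons_zero j, Multiset.cons_inj_right]
        simp only [this]
      rw [h2, Multiset.count_cons_self, Multiset.erase_cons_head]
      by_cases hjm : j ∈ m
      · rw [Multiset.cons_erase hjm, succ_nsmul]
      · rw [Multiset.count_eq_zero_of_notMem hjm, zero_smul, zero_add, zero_add, one_smul]
    · have h2 : ((Multiset.antidiagonal m).map
          ((fun st : Multiset ι × Multiset ι => if st.1 = {i} then G st.2 else 0) ∘
            Prod.map (Multiset.cons j) id)).sum = 0 := by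
        apply Multiset.sum_eq_zero
        intro x hx
        rw [Multiset.mem_map] at hx
        obtain ⟨st, _, rfl⟩ := hx
        simp only [Function.comp_apply, Prod.map_fst]
        rw [if_neg]
        intro h
        have : j ∈ ({i} : Multiset ι) := by rw [← h]; exact Multiset.mem_cons_self j _
        exact hji (Multiset.mem_singleton.1 this)
      rw [h2, add_zero, Multiset.count_cons_of_ne (Ne.symm hji),
        Multiset.erase_cons_tail _ hji]

end Count

section Res

variable {ι : Type*} [DecidableEq ι] (p : ℕ)

theorem qm_eq_zero_iff (hp : 0 < p) (m : Multiset ι) : qm p m = 0 ↔ ∀ i, m.count i < p := by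
  constructor
  · intro h i
    have h1 := count_qm p m i
    rw [h, Multiset.count_zero] at h1
    rcases Nat.div_eq_zero_iff.1 h1.symm with h' | h'
    · omega
    · exact h'
  · intro h
    ext i
    rw [count_qm, Multiset.count_zero]
    exact Nat.div_eq_of_lt (h i)

theorem qm_eq_zero_of_le (hp : 0 < p) {s m : Multiset ι} (h : s ≤ m) (hm : qm p m = 0) :
    qm p s = 0 := by
  rw [qm_eq_zero_iff p hp] at hm ⊢
  intro i
  exact lt_of_le_of_lt (Multiset.count_le_of_le i h) (hm i)

end Res

section UEA

variable {k : Type u} [Field k] {L : Type v} [LieRing L] [LieAlgebra k L] {ι : Type w}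
  [LinearOrder ι] (b : Module.Basis ι k L)

local notation "𝒰" => UniversalEnvelopingAlgebra k L
local notation "ιU" => UniversalEnvelopingAlgebra.ι k (L := L)

theorem Mm_cons_of_le (j : ι) (m : Multiset ι) (h : ∀ a ∈ m, j ≤ a) :
    Mm b (j ::ₘ m) = ιU (b j) * Mm b m := by
  unfold Mm
  rw [← ins_srt]
  apply mon_ins_of_lb
  intro a ha
  apply h
  have : a ∈ ((srt m).1 : Multiset ι) := Multiset.mem_coe.2 ha
  rwa [srt_val] at this

theorem comul_Mm (m : Multiset ι) :
    Coalgebra.comul (R := k) (Mm b m) =
      ((Multiset.antidiagonal m).map (fun st => Mm b st.1 ⊗ₜ[k] Mm b st.2)).sum := by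
  have key : ∀ l : List ι, l.Pairwise (· ≤ ·) →
      Coalgebra.comul (R := k) (Mm b (l : Multiset ι)) =
        ((Multiset.antidiagonal (l : Multiset ι)).map
          (fun st => Mm b st.1 ⊗ₜ[k] Mm b st.2)).sum := by
    intro l
    induction l with
    | nil =>
      intro _
      rw [Multiset.coe_nil, Multiset.antidiagonal_zero, Multiset.map_singleton,
        Multiset.sum_singleton, Mm_zero, Bialgebra.comul_one, Algebra.TensorProduct.one_def]
    | cons j t ih =>
      intro hl
      have hjt : ∀ a ∈ (t : Multiset ι), j ≤ a := fun a ha =>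
        List.rel_of_pairwise_cons hl (Multiset.mem_coe.1 ha)
      rw [← Multiset.cons_coe, Mm_cons_of_le b j _ hjt, Bialgebra.comul_mul, comul_ι,
        ih hl.of_cons, Multiset.antidiagonal_cons, Multiset.map_add, Multiset.sum_add,
        Multiset.map_map, Multiset.map_map, add_mul, ← Multiset.sum_map_mul_left,
        ← Multiset.sum_map_mul_left, add_comm]
      congr 1
      · apply congrArg
        apply Multiset.map_congr rfl
        intro st hst
        rw [Multiset.mem_antidiagonal] at hst
        have h2 : ∀ a ∈ st.2, j ≤ a := fun a ha =>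
          hjt a (by rw [← hst]; exact Multiset.mem_add.2 (Or.inr ha))
        simp only [Function.comp_apply, Prod.map_fst, Prod.map_snd, id_eq]
        rw [Algebra.TensorProduct.tmul_mul_tmul, one_mul, Mm_cons_of_le b j _ h2]
      · apply congrArg
        apply Multiset.map_congr rfl
        intro st hst
        rw [Multiset.mem_antidiagonal] at hst
        have h1 : ∀ a ∈ st.1, j ≤ a := fun a ha =>
          hjt a (by rw [← hst]; exact Multiset.mem_add.2 (Or.inl ha))
        simp only [Function.comp_apply, Prod.map_fst, Prod.map_snd, id_eq]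
        rw [Algebra.TensorProduct.tmul_mul_tmul, one_mul, Mm_cons_of_le b j _ h1]
  have := key (srt m).1 (srt m).2
  rwa [srt_val] at this

theorem counit_Mm (m : Multiset ι) (hm : m ≠ 0) : Coalgebra.counit (R := k) (Mm b m) = 0 := by
  unfold Mm
  have hne : (srt m).1 ≠ [] := by
    intro h
    apply hm
    rw [← srt_val m, h]
    rfl
  obtain ⟨j, t, hjt⟩ := List.exists_cons_of_ne_nil hne
  rw [hjt, mon_cons, Bialgebra.counit_mul, counit_ι, zero_mul]

end UEA

section Central

variable {k : Type*} [CommRing k] {L : Type*} [LieRing L] [LieAlgebra k L]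
  {ι : Type*} [LinearOrder ι] (b : Module.Basis ι k L) (p : ℕ)
  (z : ι → UniversalEnvelopingAlgebra k L) (hc : ∀ i u, z i * u = u * z i)

theorem Psi_fix_Sres {x : UniversalEnvelopingAlgebra k L} (hx : x ∈ Sres b p) :
    Psi b p z hc x = x := by
  unfold Sres at hx
  induction hx using Submodule.span_induction with
  | mem x hx =>
    obtain ⟨m, hm, rfl⟩ := hx
    have hm' : qm p m = 0 := hm
    have hr : rm p m = m := by
      have h := qm_add_rm p m
      rwa [hm', smul_zero, zero_add] at h
    rw [Psi_Mm]
    unfold Th
    rw [hm', hr, zprod_zero, one_mul]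
  | zero => rw [map_zero]
  | add s t _ _ h1 h2 => rw [map_add, h1, h2]
  | smul c s _ h => rw [map_smul, h]

include hc in
theorem disjoint_W_Sres (hp : 0 < p)
    (hz : ∀ i, z i -
      (UniversalEnvelopingAlgebra.ι k (b i) : UniversalEnvelopingAlgebra k L) ^ p ∈ Tlt b p) :
    Disjoint (W z) (Sres b p) := by
  rw [Submodule.disjoint_def]
  intro x hxW hxS
  obtain ⟨v', hv', hv'x⟩ := W_le b p z hc hz hp hxW
  have hfix := Psi_fix_Sres b p z hc hxS
  have h4 : v' = x := (Psi_bijective b p z hc hz).1 (hv'x.trans hfix.symm)
  rw [h4] at hv'
  exact (Submodule.disjoint_def.1 (disjoint_Spos_Sres b p)) _ hv' hxS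

end Central

end Groth.Agent.Helper6.RLie
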