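import Groth.Agent.Lib.Helper6.RPBW7
import Mathlib

/-!
# Basis of the restricted enveloping algebra; its primitive elements are `L` (helper6)
-/

set_option autoImplicit false
universe u v w

open scoped TensorProduct

attribute [local instance] LieRing.ofAssociativeRing

namespace Groth.Agent.Helper6.RLie

open Groth.Agent.Helper5.PBW Groth.Agent.Helper5.PBW.SL Groth.Agent.Helper6.RPBW
  Groth.Agent.Helper6.CMM Groth.Agent.Helper6.UEAHopf

section

variable {k : Type u} [Field k] {p : ℕ} [Fact p.Prime] [CharP k p]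
  {L : Type v} [LieRing L] [LieAlgebra k L] {ι : Type w} [LinearOrder ι]
  (φ : PLie.PMap k p L) (b : Module.Basis ι k L)

local notation "𝒰" => UniversalEnvelopingAlgebra k L
local notation "ιU" => UniversalEnvelopingAlgebra.ι k (L := L)

/-- index type: restricted multisets -/
abbrev Res (p : ℕ) (ι : Type w) [DecidableEq ι] : Type w := {m : Multiset ι // qm p m = 0}

/-- images of the sorted monomials in `u(L)` -/
noncomputable def Bm (m : Multiset ι) : uφ φ b := πφ φ b (Mm b m)

theorem Bm_zero : Bm φ b 0 = 1 := by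
  unfold Bm
  rw [Mm_zero, map_one]

theorem Bm_singleton (i : ι) : Bm φ b {i} = jφ φ b (b i) := by
  unfold Bm
  rw [Mm_singleton, jφ_apply]

theorem ker_πφ : LinearMap.ker (πφ φ b).toLinearMap = W (zφ φ b) := by
  ext a
  rw [LinearMap.mem_ker, ← mem_Iφ_iff]
  show πφ φ b a = 0 ↔ _
  rw [Ideal.Quotient.mkₐ_eq_mk, Ideal.Quotient.eq_zero_iff_mem]

theorem li_Bm : LinearIndependent k (fun m : Res p ι => Bm φ b m.1) := by
  have hp0 : 0 < p := (Fact.out : p.Prime).pos
  have h1 : LinearIndependent k (fun m : Res p ι => Mm b m.1) :=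
    (linearIndependent_Mm b).comp Subtype.val Subtype.val_injective
  have hsp : Submodule.span k (Set.range (fun m : Res p ι => Mm b m.1)) = Sres b p := by
    unfold Sres
    congr 1
    ext x
    constructor
    · rintro ⟨m, rfl⟩
      exact ⟨m.1, m.2, rfl⟩
    · rintro ⟨m, hm, rfl⟩
      exact ⟨⟨m, hm⟩, rfl⟩
  have h2 := h1.map (f := (πφ φ b).toLinearMap) (by
    rw [ker_πφ, hsp]
    exact (disjoint_W_Sres b p (zφ φ b) (zφ_central φ b) hp0 (hzφ φ b)).symm)
  exact h2

theorem span_Bm : ⊤ ≤ Submodule.span k (Set.range (fun m : Res p ι => Bm φ b m.1)) := by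
  have hp0 : 0 < p := (Fact.out : p.Prime).pos
  intro q hq
  clear hq
  obtain ⟨a, rfl⟩ := Ideal.Quotient.mk_surjective q
  have ha : a ∈ W (zφ φ b) ⊔ Sres b p := by
    rw [W_sup_Sres b p _ (zφ_central φ b) (hzφ φ b) hp0]
    trivial
  obtain ⟨w, hw, s, hs, rfl⟩ := Submodule.mem_sup.1 ha
  have hw0 : πφ φ b w = 0 := by
    rw [Ideal.Quotient.mkₐ_eq_mk, Ideal.Quotient.eq_zero_iff_mem, mem_Iφ_iff]
    exact hw
  show πφ φ b (w + s) ∈ _
  rw [map_add, hw0, zero_add]
  clear ha hw0 hw
  unfold Sres at hs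
  induction hs using Submodule.span_induction with
  | mem x hx =>
    obtain ⟨m, hm, rfl⟩ := hx
    exact Submodule.subset_span ⟨⟨m, hm⟩, rfl⟩
  | zero => rw [map_zero]; exact zero_mem _
  | add s t _ _ h1 h2 => rw [map_add]; exact add_mem h1 h2
  | smul c s _ h => rw [map_smul]; exact Submodule.smul_mem _ _ h

/-- the PBW basis of the restricted enveloping algebra -/
noncomputable def Bφ : Module.Basis (Res p ι) k (uφ φ b) :=
  Module.Basis.mk (li_Bm φ b) (span_Bm φ b)

theorem Bφ_apply (m : Res p ι) : Bφ φ b m = Bm φ b m.1 := by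
  unfold Bφ
  rw [Module.Basis.mk_apply]

/-- coordinate functionals (zero for non-restricted multisets) -/
noncomputable def cφ (s : Multiset ι) : uφ φ b →ₗ[k] k :=
  if h : qm p s = 0 then (Bφ φ b).coord ⟨s, h⟩ else 0

theorem cφ_Bm (s t : Multiset ι) (ht : qm p t = 0) :
    cφ φ b s (Bm φ b t) = if s = t then 1 else 0 := by
  unfold cφ
  by_cases h : qm p s = 0
  · rw [dif_pos h]
    have h1 : Bm φ b t = Bφ φ b ⟨t, ht⟩ := (Bφ_apply φ b ⟨t, ht⟩).symm
    rw [h1, Module.Basis.coord_apply, Module.Basis.repr_self, Finsupp.single_apply]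
    by_cases hst : s = t
    · subst hst
      rw [if_pos rfl, if_pos rfl]
    · rw [if_neg hst, if_neg]
      intro h2
      exact hst (congrArg Subtype.val h2).symm
  · rw [dif_neg h, LinearMap.zero_apply, if_neg]
    intro hst
    exact h (hst ▸ ht)

theorem comul_Bm (m : Multiset ι) :
    Coalgebra.comul (R := k) (Bm φ b m) =
      ((Multiset.antidiagonal m).map (fun st => Bm φ b st.1 ⊗ₜ[k] Bm φ b st.2)).sum := by
  unfold Bm
  rw [Ideal.Quotient.mkₐ_eq_mk, Bialgebra.Quotient.comul_mk, comul_Mm, map_multiset_sum,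
    Multiset.map_map]
  rfl

theorem counit_Bm (m : Multiset ι) :
    Coalgebra.counit (R := k) (Bm φ b m) = if m = 0 then 1 else 0 := by
  unfold Bm
  rw [Ideal.Quotient.mkₐ_eq_mk, Bialgebra.Quotient.counit_mk]
  by_cases hm : m = 0
  · rw [if_pos hm, hm, Mm_zero, Bialgebra.counit_one]
  · rw [if_neg hm, counit_Mm b m hm]

/-- "partial derivative": `(c_i ⊗ id) ∘ Δ` -/
noncomputable def Ei (i : ι) : uφ φ b →ₗ[k] uφ φ b :=
  (TensorProduct.lid k (uφ φ b)).toLinearMap ∘ₗ
    LinearMap.rTensor (uφ φ b) (cφ φ b {i}) ∘ₗ Coalgebra.comul (R := k)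

theorem Ei_apply (i : ι) (w : uφ φ b) :
    Ei φ b i w = TensorProduct.lid k (uφ φ b)
      (LinearMap.rTensor (uφ φ b) (cφ φ b {i}) (Coalgebra.comul (R := k) w)) := rfl

theorem Ei_Bm (i : ι) (m : Multiset ι) (hm : qm p m = 0) :
    Ei φ b i (Bm φ b m) = (m.count i) • Bm φ b (m.erase i) := by
  have hp0 : 0 < p := (Fact.out : p.Prime).pos
  rw [Ei_apply, comul_Bm, map_multiset_sum, map_multiset_sum, Multiset.map_map, Multiset.map_map,
    ← sum_antidiagonal_fst_singleton i m (fun t => Bm φ b t)]
  apply congrArg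
  apply Multiset.map_congr rfl
  intro st hst
  rw [Multiset.mem_antidiagonal] at hst
  have hs : qm p st.1 = 0 :=
    qm_eq_zero_of_le p hp0 (by rw [← hst]; exact Multiset.le_add_right _ _) hm
  simp only [Function.comp_apply]
  rw [LinearMap.rTensor_tmul, TensorProduct.lid_tmul, cφ_Bm φ b _ _ hs]
  by_cases h : st.1 = {i}
  · rw [if_pos h, if_pos h.symm, one_smul]
  · rw [if_neg h, if_neg (fun h' => h h'.symm), zero_smul]

theorem natCast_ne_zero_of_lt {n : ℕ} (h0 : 0 < n) (hn : n < p) : (n : k) ≠ 0 := by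
  intro h
  rw [CharP.cast_eq_zero_iff k p] at h
  exact absurd (Nat.le_of_dvd h0 h) (not_le.2 hn)

/-- **primitive elements of the restricted enveloping algebra** -/
theorem prim_mem_range (w : uφ φ b)
    (hw : Coalgebra.comul (R := k) w = w ⊗ₜ[k] 1 + 1 ⊗ₜ[k] w) :
    w ∈ LinearMap.range (jφ φ b) := by
  have hp0 : 0 < p := (Fact.out : p.Prime).pos
  have hp2 : 1 < p := (Fact.out : p.Prime).one_lt
  -- (1) the counit kills `w`
  have hε : Coalgebra.counit (R := k) w = 0 := by
    have h := Coalgebra.rTensor_counit_comul (R := k) w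
    rw [hw, map_add, LinearMap.rTensor_tmul, LinearMap.rTensor_tmul, Bialgebra.counit_one] at h
    have h2 : Coalgebra.counit (R := k) w ⊗ₜ[k] (1 : uφ φ b) = 0 := by
      have := add_eq_right.1 h
      exact this
    have h3 := congrArg (TensorProduct.lid k (uφ φ b)) h2
    rw [TensorProduct.lid_tmul, map_zero] at h3
    have h4 := congrArg (Coalgebra.counit (R := k)) h3
    rwa [map_smul, Bialgebra.counit_one, smul_eq_mul, mul_one, map_zero] at h4
  have hq1 : ∀ i : ι, qm p ({i} : Multiset ι) = 0 := fun i =>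
    qm_eq_zero_of_card_lt p (by rw [Multiset.card_singleton]; exact hp2)
  have hq0 : qm p (0 : Multiset ι) = 0 :=
    qm_eq_zero_of_card_lt p (by rw [Multiset.card_zero]; exact hp0)
  -- (2) coordinates of `w` vanish except at singletons
  have key : ∀ m : Res p ι, Multiset.card m.1 ≠ 1 → (Bφ φ b).repr w m = 0 := by
    intro m hm1
    have hc : (Bφ φ b).repr w m = cφ φ b m.1 w := by
      unfold cφ
      rw [dif_pos m.2, Module.Basis.coord_apply]
    rw [hc]
    by_cases hm0 : m.1 = 0
    · -- the coordinate at `1` is the counit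
      have hcc : cφ φ b m.1 = Coalgebra.counit (R := k) := by
        apply (Bφ φ b).ext
        intro n
        rw [Bφ_apply, cφ_Bm φ b _ _ n.2, counit_Bm, hm0]
        by_cases hn : n.1 = 0
        · rw [if_pos hn, if_pos hn.symm]
        · rw [if_neg hn, if_neg (fun h => hn h.symm)]
      rw [hcc, hε]
    · have hcard : 2 ≤ Multiset.card m.1 := by
        have : Multiset.card m.1 ≠ 0 := fun h => hm0 (Multiset.card_eq_zero.1 h)
        omega
      obtain ⟨i, hi⟩ := Multiset.exists_mem_of_ne_zero hm0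
      have hm' : qm p (m.1.erase i) = 0 :=
        qm_eq_zero_of_le p hp0 (Multiset.erase_le i m.1) m.2
      have hm'0 : m.1.erase i ≠ 0 := by
        intro h
        have h1 := Multiset.card_erase_add_one hi
        rw [h, Multiset.card_zero] at h1
        omega
      have hcnt : (m.1.count i : k) ≠ 0 := by
        apply natCast_ne_zero_of_lt (Multiset.count_pos.2 hi)
        exact (qm_eq_zero_iff p hp0 m.1).1 m.2 i
      -- the functional `G`
      have hG1 : cφ φ b (m.1.erase i) (Ei φ b i w) = 0 := by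
        rw [Ei_apply, hw, map_add, LinearMap.rTensor_tmul, LinearMap.rTensor_tmul, map_add,
          TensorProduct.lid_tmul, TensorProduct.lid_tmul, ← Bm_zero φ b,
          cφ_Bm φ b _ _ hq0, if_neg (Multiset.singleton_ne_zero i), zero_smul, add_zero,
          map_smul, cφ_Bm φ b _ _ hq0, if_neg hm'0, smul_zero]
      have hG2 : (cφ φ b (m.1.erase i)).comp (Ei φ b i) = (m.1.count i : k) • cφ φ b m.1 := by
        apply (Bφ φ b).ext
        intro n
        rw [LinearMap.comp_apply, Bφ_apply, Ei_Bm φ b i n.1 n.2, map_nsmul,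
          LinearMap.smul_apply, cφ_Bm φ b _ _ n.2,
          cφ_Bm φ b _ _ (qm_eq_zero_of_le p hp0 (Multiset.erase_le i n.1) n.2)]
        by_cases hin : i ∈ n.1
        · by_cases hmn : m.1 = n.1
          · rw [if_pos hmn, if_pos (by rw [hmn]), hmn, nsmul_eq_mul, smul_eq_mul]
          · rw [if_neg hmn, if_neg, smul_zero, smul_zero]
            intro h
            apply hmn
            rw [← Multiset.cons_erase hi, ← Multiset.cons_erase hin, h]
        · rw [Multiset.count_eq_zero_of_notMem hin, zero_smul, if_neg, smul_zero]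
          intro h
          exact hin (h ▸ hi)
      have hG3 := LinearMap.congr_fun hG2 w
      rw [LinearMap.comp_apply, hG1, LinearMap.smul_apply, smul_eq_mul] at hG3
      rcases mul_eq_zero.1 hG3.symm with h | h
      · exact absurd h hcnt
      · exact h
  -- (3) conclusion
  have hw' := (Bφ φ b).linearCombination_repr w
  rw [← hw', Finsupp.linearCombination_apply]
  apply Submodule.sum_mem
  intro m hm
  rw [Finsupp.mem_support_iff] at hm
  have h1 : Multiset.card m.1 = 1 := by
    by_contra h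
    exact hm (key m h)
  obtain ⟨i, hi⟩ := Multiset.card_eq_one.1 h1
  apply Submodule.smul_mem
  rw [Bφ_apply, hi, Bm_singleton]
  exact ⟨b i, rfl⟩

end

end Groth.Agent.Helper6.RLie
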