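import Mathlib

/-!
# Polynomial lemmas for pencils with prescribed ramification (helper6)

Divisibility by coprime powers `(X - C a)^m`, degrees, and Wronskians.
-/

set_option autoImplicit false
universe u

namespace Groth.Agent.Helper6.RamA

open Polynomial

variable {k : Type u} [Field k]

lemma coprime_pow {a b : k} (hab : a ≠ b) (m n : ℕ) :
    IsCoprime ((X - C a : k[X]) ^ m) ((X - C b) ^ n) :=
  (Polynomial.isCoprime_X_sub_C_of_isUnit_sub (sub_ne_zero.2 hab).isUnit).pow

lemma pow_ne_zero' (a : k) (m : ℕ) : ((X - C a : k[X]) ^ m) ≠ 0 :=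
  pow_ne_zero _ (Polynomial.X_sub_C_ne_zero a)

lemma natDegree_pow_X_sub_C (a : k) (m : ℕ) : ((X - C a : k[X]) ^ m).natDegree = m := by
  rw [Polynomial.natDegree_pow, Polynomial.natDegree_X_sub_C, mul_one]

lemma eq_zero_of_dvd_of_natDegree_lt {D N : k[X]} (h : D ∣ N) (hd : N.natDegree < D.natDegree) :
    N = 0 := by
  by_contra hN
  exact absurd (Polynomial.natDegree_le_of_dvd h hN) (not_le.2 hd)

lemma three_dvd {a b c : k} (hab : a ≠ b) (hac : a ≠ c) (hbc : b ≠ c) (l m n : ℕ) {N : k[X]}
    (h1 : (X - C a) ^ l ∣ N) (h2 : (X - C b) ^ m ∣ N) (h3 : (X - C c) ^ n ∣ N) :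
    (X - C a) ^ l * (X - C b) ^ m * (X - C c) ^ n ∣ N := by
  have h12 : (X - C a) ^ l * (X - C b) ^ m ∣ N := (coprime_pow hab l m).mul_dvd h1 h2
  have hc : IsCoprime ((X - C a : k[X]) ^ l * (X - C b) ^ m) ((X - C c) ^ n) :=
    IsCoprime.mul_left (coprime_pow hac l n) (coprime_pow hbc m n)
  exact hc.mul_dvd h12 h3

lemma natDegree_three (a b c : k) (l m n : ℕ) :
    ((X - C a : k[X]) ^ l * (X - C b) ^ m * (X - C c) ^ n).natDegree = l + m + n := by
  rw [Polynomial.natDegree_mul (mul_ne_zero (pow_ne_zero' a l) (pow_ne_zero' b m))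
      (pow_ne_zero' c n),
    Polynomial.natDegree_mul (pow_ne_zero' a l) (pow_ne_zero' b m), natDegree_pow_X_sub_C,
    natDegree_pow_X_sub_C, natDegree_pow_X_sub_C]

/-- no nonzero polynomial of degree `≤ d` is divisible by two coprime powers of total degree `> d` -/
lemma eq_zero_of_two_dvd {a b : k} (hab : a ≠ b) {m n d : ℕ} {s : k[X]} (hs : s.natDegree ≤ d)
    (hmn : d < m + n) (h1 : (X - C a) ^ m ∣ s) (h2 : (X - C b) ^ n ∣ s) : s = 0 := by
  have h12 := (coprime_pow hab m n).mul_dvd h1 h2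
  apply eq_zero_of_dvd_of_natDegree_lt h12
  rw [Polynomial.natDegree_mul (pow_ne_zero' a m) (pow_ne_zero' b n), natDegree_pow_X_sub_C,
    natDegree_pow_X_sub_C]
  omega

/-- three coprime powers of total degree `> D` kill a polynomial of degree `≤ D` -/
lemma eq_zero_of_three_dvd {a b c : k} (hab : a ≠ b) (hac : a ≠ c) (hbc : b ≠ c) {l m n D : ℕ}
    {N : k[X]} (hN : N.natDegree ≤ D) (hlmn : D < l + m + n)
    (h1 : (X - C a) ^ l ∣ N) (h2 : (X - C b) ^ m ∣ N) (h3 : (X - C c) ^ n ∣ N) : N = 0 := by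
  apply eq_zero_of_dvd_of_natDegree_lt (three_dvd hab hac hbc l m n h1 h2 h3)
  rw [natDegree_three]
  omega

lemma cross_eq {a b c : k} (hab : a ≠ b) (hac : a ≠ c) (hbc : b ≠ c) {e0 e1 e2 d : ℕ}
    (hsum : 2 * d < e0 + e1 + e2) {F G F₂ G₂ : k[X]} (hF : F.natDegree ≤ d)
    (hG : G.natDegree ≤ d) (hF₂ : F₂.natDegree ≤ d) (hG₂ : G₂.natDegree ≤ d)
    (h0 : (X - C a) ^ e0 ∣ F) (h0' : (X - C a) ^ e0 ∣ F₂) (h1 : (X - C b) ^ e1 ∣ G)
    (h1' : (X - C b) ^ e1 ∣ G₂) (h2 : (X - C c) ^ e2 ∣ F - G) (h2' : (X - C c) ^ e2 ∣ F₂ - G₂) :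
    F * G₂ = F₂ * G := by
  have hdeg : (F * G₂ - F₂ * G).natDegree ≤ 2 * d := by
    refine (Polynomial.natDegree_sub_le _ _).trans (max_le ?_ ?_)
    · exact Polynomial.natDegree_mul_le.trans (by omega)
    · exact Polynomial.natDegree_mul_le.trans (by omega)
  have hd0 : (X - C a) ^ e0 ∣ F * G₂ - F₂ * G := dvd_sub (h0.mul_right _) (h0'.mul_right _)
  have hd1 : (X - C b) ^ e1 ∣ F * G₂ - F₂ * G := dvd_sub (h1'.mul_left _) (h1.mul_left _)
  have hd2 : (X - C c) ^ e2 ∣ F * G₂ - F₂ * G := by
    have e : F * G₂ - F₂ * G = F₂ * (F - G) - F * (F₂ - G₂) := by ring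
    rw [e]
    exact dvd_sub (h2.mul_left _) (h2'.mul_left _)
  exact sub_eq_zero.1 (eq_zero_of_three_dvd hab hac hbc hdeg hsum hd0 hd1 hd2)

/-! ### Wronskians -/

lemma wronskian_def' (s t : k[X]) : wronskian s t = s * derivative t - derivative s * t := rfl

lemma natDegree_wronskian_le {d : ℕ} (hd : 1 ≤ d) {F G : k[X]} (hF : F.natDegree ≤ d)
    (hG : G.natDegree ≤ d) : (wronskian F G).natDegree ≤ 2 * d - 2 := by
  rw [Polynomial.natDegree_le_iff_coeff_eq_zero]
  intro N hN
  have hF' : (derivative F).natDegree ≤ d - 1 :=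
    (Polynomial.natDegree_derivative_le F).trans (by omega)
  have hG' : (derivative G).natDegree ≤ d - 1 :=
    (Polynomial.natDegree_derivative_le G).trans (by omega)
  rw [wronskian_def', Polynomial.coeff_sub]
  by_cases hN' : N = d + (d - 1)
  · rw [hN', Polynomial.coeff_mul_add_eq_of_natDegree_le hF hG']
    have e1 : d + (d - 1) = (d - 1) + d := by omega
    rw [e1, Polynomial.coeff_mul_add_eq_of_natDegree_le hF' hG, Polynomial.coeff_derivative,
      Polynomial.coeff_derivative]
    have hd1 : d - 1 + 1 = d := by omega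
    rw [hd1]
    ring
  · have h1 : (F * derivative G).natDegree < N :=
      lt_of_le_of_lt (Polynomial.natDegree_mul_le.trans (add_le_add hF hG')) (by omega)
    have h2 : (derivative F * G).natDegree < N :=
      lt_of_le_of_lt (Polynomial.natDegree_mul_le.trans (add_le_add hF' hG)) (by omega)
    rw [Polynomial.coeff_eq_zero_of_natDegree_lt h1, Polynomial.coeff_eq_zero_of_natDegree_lt h2,
      sub_zero]

lemma dvd_wronskian_of_pow_dvd {a : k} {m : ℕ} {s : k[X]} (t : k[X])
    (h : (X - C a) ^ m ∣ s) : (X - C a) ^ (m - 1) ∣ wronskian s t := by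
  obtain ⟨u, rfl⟩ := h
  rw [wronskian_def', Polynomial.derivative_mul, Polynomial.derivative_X_sub_C_pow]
  have h1 : (X - C a : k[X]) ^ (m - 1) ∣ (X - C a) ^ m := pow_dvd_pow _ (Nat.sub_le m 1)
  refine dvd_sub ?_ ?_
  · exact (h1.mul_right u).mul_right _
  · refine Dvd.dvd.mul_right (dvd_add ?_ ?_) t
    · exact (dvd_mul_left _ _).mul_right u
    · exact h1.mul_right _

lemma pow_dvd_wronskian_of_dvd {a : k} {m : ℕ} {s t : k[X]} (h : (X - C a) ^ m ∣ s)
    (ht : (X - C a) ∣ t) : (X - C a) ^ m ∣ wronskian s t := by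
  rcases m with _ | m
  · simp
  obtain ⟨u, rfl⟩ := h
  rw [wronskian_def', Polynomial.derivative_mul, Polynomial.derivative_X_sub_C_pow]
  refine dvd_sub ?_ ?_
  · exact (dvd_mul_right _ u).mul_right _
  · obtain ⟨v, rfl⟩ := ht
    have e : (C ((m + 1 : ℕ) : k) * (X - C a) ^ (m + 1 - 1) * u +
        (X - C a) ^ (m + 1) * derivative u) * ((X - C a) * v) =
        (X - C a) ^ (m + 1) * ((C ((m + 1 : ℕ) : k) * u + (X - C a) * derivative u) * v) := by
      simp only [Nat.add_sub_cancel]; ring
    rw [e]; exact dvd_mul_right _ _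

lemma not_pow_dvd_wronskian {a : k} {m : ℕ} (hm : 1 ≤ m) (hmk : (m : k) ≠ 0) {u t : k[X]}
    (hu : u.eval a ≠ 0) (ht : t.eval a ≠ 0) :
    ¬ (X - C a) ^ m ∣ wronskian ((X - C a) ^ m * u) t := by
  obtain ⟨m', rfl⟩ : ∃ m', m = m' + 1 := ⟨m - 1, by omega⟩
  intro h
  have e : wronskian ((X - C a) ^ (m' + 1) * u) t =
      (X - C a) ^ m' * ((X - C a) * (u * derivative t - derivative u * t) -
        C ((m' + 1 : ℕ) : k) * u * t) := by
    rw [wronskian_def', Polynomial.derivative_mul, Polynomial.derivative_X_sub_C_pow]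
    simp only [Nat.add_sub_cancel]; ring
  rw [e, pow_succ, mul_dvd_mul_iff_left (pow_ne_zero' a m'), Polynomial.dvd_iff_isRoot] at h
  simp only [Polynomial.IsRoot.def, Polynomial.eval_sub, Polynomial.eval_mul, Polynomial.eval_X,
    Polynomial.eval_C, sub_self, zero_mul, zero_sub, neg_eq_zero, mul_eq_zero] at h
  rcases h with (h | h) | h
  · exact hmk h
  · exact hu h
  · exact ht h

lemma wronskian_comb (F G : k[X]) (α β γ δ : k) :
    wronskian (α • F + β • G) (γ • F + δ • G) = (α * δ - β * γ) • wronskian F G := by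
  simp only [wronskian_def', Polynomial.smul_eq_C_mul, Polynomial.derivative_add,
    Polynomial.derivative_mul, Polynomial.derivative_C, zero_mul, zero_add, map_sub, map_mul]
  ring

lemma wronskian_mul_mul (h F G : k[X]) : wronskian (h * F) (h * G) = h ^ 2 * wronskian F G := by
  rw [wronskian_def', wronskian_def', Polynomial.derivative_mul, Polynomial.derivative_mul]; ring

lemma derivative_mul_pow_char (p : ℕ) [CharP k p] (F u : k[X]) :
    derivative (F * u ^ p) = derivative F * u ^ p := by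
  rw [Polynomial.derivative_mul, Polynomial.derivative_pow, CharP.cast_eq_zero k p, map_zero,
    zero_mul, zero_mul, mul_zero, add_zero]

lemma wronskian_mul_pow_char (p : ℕ) [CharP k p] (F G u v : k[X]) :
    wronskian (F * u ^ p) (G * v ^ p) = u ^ p * v ^ p * wronskian F G := by
  rw [wronskian_def', wronskian_def', derivative_mul_pow_char, derivative_mul_pow_char]; ring

lemma wronskian_sub_C_mul_self (F G : k[X]) (c : k) : wronskian (F - C c * G) G = wronskian F G := by
  rw [wronskian_def', wronskian_def', Polynomial.derivative_sub, Polynomial.derivative_C_mul]; ring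

lemma natCast_ne_of_lt (p : ℕ) [CharP k p] {d : ℕ} (hp : p = 0 ∨ d < p) {m n : ℕ} (hm : m ≤ d)
    (hnm : n < m) : (n : k) ≠ (m : k) := by
  intro h
  rcases hp with hp | hp
  · subst hp
    have : CharZero k := CharP.charP_to_charZero k
    exact absurd (Nat.cast_injective h) (by omega)
  · have h1 := (CharP.natCast_eq_natCast k p).1 h
    exact absurd (Nat.ModEq.eq_of_lt_of_lt h1 (by omega) (by omega)) (by omega)

/-- if `deg G < deg F ≤ d` and `d < p` (or char 0) then the Wronskian is nonzero -/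
lemma wronskian_ne_zero_of_natDegree_lt (p : ℕ) [CharP k p] {d : ℕ} (hp : p = 0 ∨ d < p)
    {F G : k[X]} (hG : G ≠ 0) (hFd : F.natDegree ≤ d) (hlt : G.natDegree < F.natDegree) :
    wronskian F G ≠ 0 := by
  intro hW
  have hF : F ≠ 0 := by
    intro h; rw [h, Polynomial.natDegree_zero] at hlt; exact absurd hlt (Nat.not_lt_zero _)
  have hm1 : 1 ≤ F.natDegree := by omega
  have hc : (wronskian F G).coeff ((F.natDegree - 1) + G.natDegree) = 0 := by rw [hW]; simp
  rw [wronskian_def', Polynomial.coeff_sub] at hc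
  have h2 : (derivative F * G).coeff ((F.natDegree - 1) + G.natDegree) =
      (F.leadingCoeff * (F.natDegree : k)) * G.leadingCoeff := by
    rw [Polynomial.coeff_mul_add_eq_of_natDegree_le (Polynomial.natDegree_derivative_le F) le_rfl,
      Polynomial.coeff_derivative]
    have e1 : F.natDegree - 1 + 1 = F.natDegree := by omega
    have e2 : ((F.natDegree - 1 : ℕ) : k) + 1 = (F.natDegree : k) := by
      exact_mod_cast congrArg (Nat.cast : ℕ → k) e1
    rw [e1, e2]
    rfl
  have h1 : (F * derivative G).coeff ((F.natDegree - 1) + G.natDegree) =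
      F.leadingCoeff * (G.leadingCoeff * (G.natDegree : k)) := by
    by_cases hn : G.natDegree = 0
    · rw [Polynomial.eq_C_of_natDegree_eq_zero hn, Polynomial.derivative_C, mul_zero,
        Polynomial.coeff_zero]
      simp
    · have e3 : F.natDegree - 1 + G.natDegree = F.natDegree + (G.natDegree - 1) := by omega
      rw [e3, Polynomial.coeff_mul_add_eq_of_natDegree_le le_rfl
        (Polynomial.natDegree_derivative_le G), Polynomial.coeff_derivative]
      have e1 : G.natDegree - 1 + 1 = G.natDegree := by omega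
      have e2 : ((G.natDegree - 1 : ℕ) : k) + 1 = (G.natDegree : k) := by
        exact_mod_cast congrArg (Nat.cast : ℕ → k) e1
      rw [e1, e2]
      rfl
  rw [h1, h2] at hc
  have hc' : F.leadingCoeff * G.leadingCoeff * ((G.natDegree : k) - (F.natDegree : k)) = 0 := by
    linear_combination hc
  rcases mul_eq_zero.1 hc' with h | h
  · rcases mul_eq_zero.1 h with h | h
    · exact hF (Polynomial.leadingCoeff_eq_zero.1 h)
    · exact hG (Polynomial.leadingCoeff_eq_zero.1 h)
  · exact natCast_ne_of_lt p hp hFd hlt (sub_eq_zero.1 h)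

/-- linearly independent polynomials of small degree have nonzero Wronskian -/
lemma wronskian_ne_zero_of_indep (p : ℕ) [CharP k p] {d : ℕ} (hp : p = 0 ∨ d < p) {F G : k[X]}
    (hFd : F.natDegree ≤ d) (hGd : G.natDegree ≤ d)
    (hind : ∀ α β : k, α • F + β • G = 0 → α = 0 ∧ β = 0) : wronskian F G ≠ 0 := by
  have hF : F ≠ 0 := by
    intro h
    have := (hind 1 0 (by rw [h]; simp)).1
    exact one_ne_zero this
  have hG : G ≠ 0 := by
    intro h
    have := (hind 0 1 (by rw [h]; simp)).2
    exact one_ne_zero this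
  rcases lt_trichotomy G.natDegree F.natDegree with hlt | heq | hgt
  · exact wronskian_ne_zero_of_natDegree_lt p hp hG hFd hlt
  · -- equal degrees: subtract
    have hlG : G.leadingCoeff ≠ 0 := Polynomial.leadingCoeff_ne_zero.2 hG
    have hF₁ : F - C (F.leadingCoeff / G.leadingCoeff) * G ≠ 0 := by
      intro h
      have h' : (1 : k) • F + (-(F.leadingCoeff / G.leadingCoeff)) • G = 0 := by
        rw [one_smul, Polynomial.smul_eq_C_mul, map_neg, neg_mul, ← sub_eq_add_neg]; exact h
      exact one_ne_zero (hind _ _ h').1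
    have hcne : F.leadingCoeff / G.leadingCoeff ≠ 0 :=
      div_ne_zero (Polynomial.leadingCoeff_ne_zero.2 hF) hlG
    have hdeg : (F - C (F.leadingCoeff / G.leadingCoeff) * G).degree < F.degree := by
      apply Polynomial.degree_sub_lt_left _ hF
      · rw [Polynomial.leadingCoeff_mul, Polynomial.leadingCoeff_C, div_mul_cancel₀ _ hlG]
      · rw [Polynomial.degree_C_mul hcne, Polynomial.degree_eq_natDegree hF,
          Polynomial.degree_eq_natDegree hG, heq]
    have hnd : (F - C (F.leadingCoeff / G.leadingCoeff) * G).natDegree < G.natDegree := by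
      rw [heq]
      exact Polynomial.natDegree_lt_natDegree hF₁ hdeg
    have h1 := wronskian_ne_zero_of_natDegree_lt p hp hF₁ hGd hnd
    rw [← Polynomial.wronskian_neg_eq, wronskian_sub_C_mul_self] at h1
    exact fun h => h1 (by rw [h, neg_zero])
  · have h1 := wronskian_ne_zero_of_natDegree_lt p hp hF hGd hgt
    rw [← Polynomial.wronskian_neg_eq] at h1
    exact fun h => h1 (by rw [h, neg_zero])

end Groth.Agent.Helper6.RamA
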