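import Mathlib
import Groth.Prelude.Def_W4c1limliniiiiRamP1
import Groth.Agent.Lib.Helper6.RamA

/-!
# Pencils with three ramification points (helper6)

Normal form `(F, G)` of a pencil with prescribed vanishing at three points, uniqueness,
existence by a dimension count, and the passage from a non-vanishing Wronskian to a member of
`ramMaps`.
-/

set_option autoImplicit false
universe u

namespace Groth.Agent.Helper6.RamB

open Polynomial W4c1limliniiii Groth.Agent.Helper6.RamA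

variable {k : Type u} [Field k]

/-- the numerical hypotheses for three points -/
structure Hyp (P : Fin 3 → k) (e : Fin 3 → ℕ) (d : ℕ) : Prop where
  h01 : P 0 ≠ P 1
  h02 : P 0 ≠ P 2
  h12 : P 1 ≠ P 2
  two : ∀ i, 2 ≤ e i
  le : ∀ i, e i ≤ d
  sum : e 0 + e 1 + e 2 = 2 * d + 1

lemma hyp_of_admissible {p d : ℕ} {P : Fin 3 → k} (hP : Function.Injective P) {e : Fin 3 → ℕ}
    (he : Admissible p d e) : Hyp P e d := by
  obtain ⟨h1, h2⟩ := he
  refine ⟨?_, ?_, ?_, fun i => (h1 i).1, fun i => (h1 i).2.1, ?_⟩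
  · exact fun h => absurd (hP h) (by decide)
  · exact fun h => absurd (hP h) (by decide)
  · exact fun h => absurd (hP h) (by decide)
  · rw [Fin.sum_univ_three] at h2
    omega

lemma dvd_smul_iff {c : k} (hc : c ≠ 0) (D N : k[X]) : D ∣ c • N ↔ D ∣ N := by
  rw [Polynomial.smul_eq_C_mul]
  exact Polynomial.dvd_C_mul hc

lemma dvd_of_smul_add_smul_eq_zero {α β : k} {s t D : k[X]} (hβ : β ≠ 0)
    (h : α • s + β • t = 0) (hD : D ∣ s) : D ∣ t := by
  have h1 : β • t = -(α • s) := eq_neg_of_add_eq_zero_right h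
  rw [← dvd_smul_iff hβ, h1, dvd_neg, Polynomial.smul_eq_C_mul]
  exact hD.mul_left _

lemma finrank_span_pair {F G : k[X]}
    (hind : ∀ α β : k, α • F + β • G = 0 → α = 0 ∧ β = 0) :
    Module.finrank k (Submodule.span k ({F, G} : Set k[X])) = 2 := by
  have hli : LinearIndependent k ![F, G] := LinearIndependent.pair_iff.2 hind
  have h := finrank_span_eq_card hli
  rw [Matrix.range_cons_cons_empty] at h
  simpa using h

lemma span_smul_pair {a b : k} (ha : a ≠ 0) (hb : b ≠ 0) (F G : k[X]) :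
    Submodule.span k ({a • F, b • G} : Set k[X]) = Submodule.span k {F, G} := by
  apply le_antisymm
  · rw [Submodule.span_le]
    intro x hx
    simp only [Set.mem_insert_iff, Set.mem_singleton_iff] at hx
    rcases hx with hx | hx
    · rw [hx]; exact Submodule.smul_mem _ _ (Submodule.subset_span (by simp))
    · rw [hx]; exact Submodule.smul_mem _ _ (Submodule.subset_span (by simp))
  · rw [Submodule.span_le]
    intro x hx
    simp only [Set.mem_insert_iff, Set.mem_singleton_iff] at hx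
    rcases hx with hx | hx
    · rw [hx]
      exact Submodule.mem_span_pair.2 ⟨a⁻¹, 0, by rw [inv_smul_smul₀ ha, zero_smul, add_zero]⟩
    · rw [hx]
      exact Submodule.mem_span_pair.2 ⟨0, b⁻¹, by rw [inv_smul_smul₀ hb, zero_smul, zero_add]⟩

lemma indep_of_dvd {a b : k} (hab : a ≠ b) {m n d : ℕ} (hmn : d < m + n) {F G : k[X]}
    (hF : F ≠ 0) (hG : G ≠ 0) (hGd : G.natDegree ≤ d) (h0 : (X - C a) ^ m ∣ F)
    (h1 : (X - C b) ^ n ∣ G) : ∀ α β : k, α • F + β • G = 0 → α = 0 ∧ β = 0 := by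
  intro α β h
  have hβ : β = 0 := by
    by_contra hβ
    have h2 : (X - C a) ^ m ∣ G := dvd_of_smul_add_smul_eq_zero hβ h h0
    exact hG (eq_zero_of_two_dvd hab hGd hmn h2 h1)
  have hα : α = 0 := by
    rw [hβ, zero_smul, add_zero] at h
    exact (smul_eq_zero.1 h).resolve_right hF
  exact ⟨hα, hβ⟩

lemma eq_zero_of_four_dvd {a b c x : k} (hab : a ≠ b) (hac : a ≠ c) (hbc : b ≠ c)
    (hax : a ≠ x) (hbx : b ≠ x) (hcx : c ≠ x) {l m n D : ℕ} {N : k[X]} (hN : N.natDegree ≤ D)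
    (hlmn : D < l + m + n + 1) (h1 : (X - C a) ^ l ∣ N) (h2 : (X - C b) ^ m ∣ N)
    (h3 : (X - C c) ^ n ∣ N) (h4 : (X - C x) ∣ N) : N = 0 := by
  have h123 := three_dvd hab hac hbc l m n h1 h2 h3
  have hc : IsCoprime ((X - C a : k[X]) ^ l * (X - C b) ^ m * (X - C c) ^ n) ((X - C x) ^ 1) :=
    IsCoprime.mul_left (IsCoprime.mul_left (coprime_pow hax l 1) (coprime_pow hbx m 1))
      (coprime_pow hcx n 1)
  rw [pow_one] at hc
  have h := hc.mul_dvd h123 h4
  apply RamA.eq_zero_of_dvd_of_natDegree_lt h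
  rw [Polynomial.natDegree_mul (mul_ne_zero (mul_ne_zero (pow_ne_zero' a l) (pow_ne_zero' b m))
    (pow_ne_zero' c n)) (Polynomial.X_sub_C_ne_zero x), natDegree_three,
    Polynomial.natDegree_X_sub_C]
  omega

/-- normal form of a pencil with the prescribed vanishing at the three points -/
structure NData (P : Fin 3 → k) (e : Fin 3 → ℕ) (d : ℕ) (V : Submodule k k[X]) (F G : k[X]) :
    Prop where
  hF : F.natDegree ≤ d
  hG : G.natDegree ≤ d
  d0 : (X - C (P 0)) ^ e 0 ∣ F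
  d1 : (X - C (P 1)) ^ e 1 ∣ G
  d2 : (X - C (P 2)) ^ e 2 ∣ F - G
  span : V = Submodule.span k {F, G}
  ind : ∀ α β : k, α • F + β • G = 0 → α = 0 ∧ β = 0

namespace NData

variable {P : Fin 3 → k} {e : Fin 3 → ℕ} {d : ℕ} {V : Submodule k k[X]} {F G : k[X]}

lemma F_ne (h : NData P e d V F G) : F ≠ 0 := by
  intro hF0
  have := (h.ind 1 0 (by rw [hF0]; simp)).1
  exact one_ne_zero this

lemma G_ne (h : NData P e d V F G) : G ≠ 0 := by
  intro hG0
  have := (h.ind 0 1 (by rw [hG0]; simp)).2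
  exact one_ne_zero this

lemma sub_ne (h : NData P e d V F G) : F - G ≠ 0 := by
  intro hFG
  have := (h.ind 1 (-1) (by rw [one_smul, neg_smul, one_smul, ← sub_eq_add_neg]; exact hFG)).1
  exact one_ne_zero this

lemma mem_iff (h : NData P e d V F G) (s : k[X]) : s ∈ V ↔ ∃ α β : k, α • F + β • G = s := by
  rw [h.span, Submodule.mem_span_pair]

lemma F_mem (h : NData P e d V F G) : F ∈ V := (h.mem_iff F).2 ⟨1, 0, by simp⟩

lemma G_mem (h : NData P e d V F G) : G ∈ V := (h.mem_iff G).2 ⟨0, 1, by simp⟩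

lemma sub_mem (h : NData P e d V F G) : F - G ∈ V := V.sub_mem h.F_mem h.G_mem

lemma natDegree_le (h : NData P e d V F G) {s : k[X]} (hs : s ∈ V) : s.natDegree ≤ d := by
  obtain ⟨α, β, rfl⟩ := (h.mem_iff s).1 hs
  exact (Polynomial.natDegree_add_le _ _).trans
    (max_le ((Polynomial.natDegree_smul_le _ _).trans h.hF)
      ((Polynomial.natDegree_smul_le _ _).trans h.hG))

lemma le_degreeLE (h : NData P e d V F G) : V ≤ Polynomial.degreeLE k d := by
  intro s hs
  rw [Polynomial.mem_degreeLE, ← Polynomial.natDegree_le_iff_degree_le]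
  exact h.natDegree_le hs

lemma finrank_eq (h : NData P e d V F G) : Module.finrank k V = 2 := by
  rw [h.span]; exact finrank_span_pair h.ind

lemma exists_mult (h : NData P e d V F G) :
    ∀ i, ∃ s ∈ V, s ≠ 0 ∧ e i ≤ Polynomial.rootMultiplicity (P i) s := by
  intro i
  have hi : i = 0 ∨ i = 1 ∨ i = 2 := by fin_cases i <;> simp
  rcases hi with rfl | rfl | rfl
  · exact ⟨F, h.F_mem, h.F_ne, (Polynomial.le_rootMultiplicity_iff h.F_ne).2 h.d0⟩
  · exact ⟨G, h.G_mem, h.G_ne, (Polynomial.le_rootMultiplicity_iff h.G_ne).2 h.d1⟩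
  · exact ⟨F - G, h.sub_mem, h.sub_ne, (Polynomial.le_rootMultiplicity_iff h.sub_ne).2 h.d2⟩

/-- every pair of members has Wronskian a multiple of `wronskian F G` -/
lemma wronskian_mem (h : NData P e d V F G) {s t : k[X]} (hs : s ∈ V) (ht : t ∈ V) :
    ∃ c : k, wronskian s t = c • wronskian F G := by
  obtain ⟨α, β, rfl⟩ := (h.mem_iff s).1 hs
  obtain ⟨γ, δ, rfl⟩ := (h.mem_iff t).1 ht
  exact ⟨_, wronskian_comb F G α β γ δ⟩

lemma wronskian_ne_zero_of_isSeparable (h : NData P e d V F G) (hsep : IsSeparable V) :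
    wronskian F G ≠ 0 := by
  obtain ⟨s, hs, t, ht, hW⟩ := hsep
  obtain ⟨c, hc⟩ := h.wronskian_mem hs ht
  intro h0
  apply hW
  rw [hc, h0, smul_zero]

lemma not_isSeparable_of_wronskian_eq_zero (h : NData P e d V F G) (hW : wronskian F G = 0) :
    ¬ IsSeparable V := by
  rintro ⟨s, hs, t, ht, hne⟩
  obtain ⟨c, hc⟩ := h.wronskian_mem hs ht
  apply hne
  rw [hc, hW, smul_zero]

end NData

/-- normalisation: a two-dimensional space with the three vanishing conditions has a normal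
form -/
lemma exists_ndata {P : Fin 3 → k} {e : Fin 3 → ℕ} {d : ℕ} (H : Hyp P e d)
    {V : Submodule k k[X]} (hV : V ≤ Polynomial.degreeLE k d) (hfr : Module.finrank k V = 2)
    (hs : ∀ i, ∃ s ∈ V, s ≠ 0 ∧ e i ≤ Polynomial.rootMultiplicity (P i) s) :
    ∃ F G, NData P e d V F G := by
  obtain ⟨s0, hs0V, hs0, hm0⟩ := hs 0
  obtain ⟨s1, hs1V, hs1, hm1⟩ := hs 1
  obtain ⟨s2, hs2V, hs2, hm2⟩ := hs 2
  have hd0 : (X - C (P 0)) ^ e 0 ∣ s0 := (Polynomial.le_rootMultiplicity_iff hs0).1 hm0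
  have hd1 : (X - C (P 1)) ^ e 1 ∣ s1 := (Polynomial.le_rootMultiplicity_iff hs1).1 hm1
  have hd2 : (X - C (P 2)) ^ e 2 ∣ s2 := (Polynomial.le_rootMultiplicity_iff hs2).1 hm2
  have hdeg : ∀ s ∈ V, s.natDegree ≤ d := fun s hs => by
    have := hV hs
    rw [Polynomial.mem_degreeLE] at this
    exact Polynomial.natDegree_le_of_degree_le this
  have l0 := H.le 0
  have l1 := H.le 1
  have l2 := H.le 2
  have hsum := H.sum
  have hind : ∀ α β : k, α • s0 + β • s1 = 0 → α = 0 ∧ β = 0 :=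
    indep_of_dvd H.h01 (by omega) hs0 hs1 (hdeg s1 hs1V) hd0 hd1
  have hle : Submodule.span k ({s0, s1} : Set k[X]) ≤ V := by
    rw [Submodule.span_le]
    intro x hx
    simp only [Set.mem_insert_iff, Set.mem_singleton_iff] at hx
    rcases hx with hx | hx
    · rw [hx]; exact hs0V
    · rw [hx]; exact hs1V
  have hfin : Module.Finite k V := Module.finite_of_finrank_pos (by rw [hfr]; norm_num)
  have hspan : Submodule.span k ({s0, s1} : Set k[X]) = V :=
    Submodule.eq_of_le_of_finrank_eq hle (by rw [finrank_span_pair hind, hfr])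
  have hs2' : s2 ∈ Submodule.span k ({s0, s1} : Set k[X]) := by rw [hspan]; exact hs2V
  obtain ⟨a, b, hab⟩ := Submodule.mem_span_pair.1 hs2'
  have ha : a ≠ 0 := by
    intro ha
    rw [ha, zero_smul, zero_add] at hab
    have h1 : (X - C (P 1)) ^ e 1 ∣ s2 := by
      rw [← hab, Polynomial.smul_eq_C_mul]; exact hd1.mul_left _
    exact hs2 (eq_zero_of_two_dvd H.h12 (hdeg s2 hs2V) (by omega) h1 hd2)
  have hb : b ≠ 0 := by
    intro hb
    rw [hb, zero_smul, add_zero] at hab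
    have h0 : (X - C (P 0)) ^ e 0 ∣ s2 := by
      rw [← hab, Polynomial.smul_eq_C_mul]; exact hd0.mul_left _
    exact hs2 (eq_zero_of_two_dvd H.h02 (hdeg s2 hs2V) (by omega) h0 hd2)
  have hnb : -b ≠ 0 := neg_ne_zero.2 hb
  refine ⟨a • s0, (-b) • s1, ?_, ?_, ?_, ?_, ?_, ?_, ?_⟩
  · exact (Polynomial.natDegree_smul_le a s0).trans (hdeg s0 hs0V)
  · exact (Polynomial.natDegree_smul_le (-b) s1).trans (hdeg s1 hs1V)
  · rw [Polynomial.smul_eq_C_mul]; exact hd0.mul_left _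
  · rw [Polynomial.smul_eq_C_mul]; exact hd1.mul_left _
  · have h3 : a • s0 - (-b) • s1 = s2 := by rw [neg_smul, sub_neg_eq_add]; exact hab
    rw [h3]; exact hd2
  · rw [span_smul_pair ha hnb, hspan]
  · intro α β h
    rw [smul_smul, smul_smul] at h
    obtain ⟨h1, h2⟩ := hind _ _ h
    exact ⟨(mul_eq_zero.1 h1).resolve_right ha, (mul_eq_zero.1 h2).resolve_right hnb⟩

lemma ndata_of_mem_ramMaps {P : Fin 3 → k} {e : Fin 3 → ℕ} {d : ℕ} (H : Hyp P e d)
    {V : Submodule k k[X]} (hV : V ∈ ramMaps d P e) : ∃ F G, NData P e d V F G := by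
  obtain ⟨⟨hle, hfr, -, -⟩, -, hram⟩ := hV
  exact exists_ndata H hle hfr (fun i => (hram i).1)

/-- uniqueness: a base-point-free pencil of exact degree `d` is determined by the vanishing
conditions -/
lemma eq_of_ndata [IsAlgClosed k] {P : Fin 3 → k} {e : Fin 3 → ℕ} {d : ℕ} (H : Hyp P e d)
    {V V₀ : Submodule k k[X]} {F G F₂ G₂ : k[X]} (h : NData P e d V F G)
    (h₀ : NData P e d V₀ F₂ G₂) (hdeg : ∃ s ∈ V, s.natDegree = d)
    (hbpf : ∀ a : k, ∃ s ∈ V, s.eval a ≠ 0) : V₀ = V := by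
  classical
  have hcross : F * G₂ = F₂ * G :=
    cross_eq H.h01 H.h02 H.h12 (by have := H.sum; omega) h.hF h.hG h₀.hF h₀.hG h.d0 h₀.d0
      h.d1 h₀.d1 h.d2 h₀.d2
  have hcop : IsCoprime F G := by
    rw [← EuclideanDomain.gcd_isUnit_iff, Polynomial.isUnit_iff_degree_eq_zero]
    by_contra hg
    obtain ⟨a, ha⟩ := IsAlgClosed.exists_root _ hg
    obtain ⟨s, hsV, hsa⟩ := hbpf a
    obtain ⟨α, β, rfl⟩ := (h.mem_iff s).1 hsV
    apply hsa
    have hFa : F.eval a = 0 :=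
      Polynomial.eval_eq_zero_of_dvd_of_eval_eq_zero (EuclideanDomain.gcd_dvd_left F G) ha
    have hGa : G.eval a = 0 :=
      Polynomial.eval_eq_zero_of_dvd_of_eval_eq_zero (EuclideanDomain.gcd_dvd_right F G) ha
    rw [Polynomial.eval_add, Polynomial.eval_smul, Polynomial.eval_smul, hFa, hGa]
    simp
  have hFF₂ : F ∣ F₂ := hcop.dvd_of_dvd_mul_right ⟨G₂, hcross.symm⟩
  obtain ⟨q, hq⟩ := hFF₂
  have hG₂ : G₂ = q * G := by
    apply mul_left_cancel₀ h.F_ne
    rw [hcross, hq]; ring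
  have hq_ne : q ≠ 0 := by
    intro h0
    apply h₀.F_ne
    rw [hq, h0, mul_zero]
  obtain ⟨s, hsV, hsd⟩ := hdeg
  obtain ⟨α, β, hs⟩ := (h.mem_iff s).1 hsV
  have hs_ne : s ≠ 0 := by
    intro h0
    rw [h0, Polynomial.natDegree_zero] at hsd
    have := H.two 0
    have := H.le 0
    omega
  have hprod : α • F₂ + β • G₂ = q * s := by
    rw [← hs, hq, hG₂]
    simp only [Polynomial.smul_eq_C_mul]; ring
  have hdeg2 : (α • F₂ + β • G₂).natDegree ≤ d :=
    (Polynomial.natDegree_add_le _ _).trans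
      (max_le ((Polynomial.natDegree_smul_le _ _).trans h₀.hF)
        ((Polynomial.natDegree_smul_le _ _).trans h₀.hG))
  rw [hprod, Polynomial.natDegree_mul hq_ne hs_ne, hsd] at hdeg2
  have hnd : q.natDegree = 0 := by omega
  obtain ⟨c, hc⟩ : ∃ c, q = C c := ⟨_, Polynomial.eq_C_of_natDegree_eq_zero hnd⟩
  have hc0 : c ≠ 0 := by
    intro h0
    apply hq_ne
    rw [hc, h0, map_zero]
  have eF : F₂ = c • F := by rw [hq, hc, Polynomial.smul_eq_C_mul, mul_comm]
  have eG : G₂ = c • G := by rw [hG₂, hc, Polynomial.smul_eq_C_mul]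
  rw [h.span, h₀.span, eF, eG, span_smul_pair hc0 hc0]

/-! ### existence by a dimension count -/

/-- polynomial with prescribed coefficient vector -/
noncomputable def par (n : ℕ) : (Fin n → k) →ₗ[k] k[X] :=
  (Polynomial.degreeLT k n).subtype.comp (Polynomial.degreeLTEquiv k n).symm.toLinearMap

lemma par_mem (n : ℕ) (v : Fin n → k) : par n v ∈ Polynomial.degreeLT k n :=
  ((Polynomial.degreeLTEquiv k n).symm v).2

lemma par_injective (n : ℕ) : Function.Injective (par (k := k) n) := by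
  intro v w h
  have h' : (Polynomial.degreeLTEquiv k n).symm v = (Polynomial.degreeLTEquiv k n).symm w :=
    Subtype.ext h
  exact (Polynomial.degreeLTEquiv k n).symm.injective h'

lemma par_natDegree_le (n : ℕ) (v : Fin (n + 1) → k) : (par (n + 1) v).natDegree ≤ n := by
  have h := par_mem (n + 1) v
  rw [Polynomial.mem_degreeLT] at h
  by_cases h0 : par (n + 1) v = 0
  · rw [h0]; simp
  · have := (Polynomial.natDegree_lt_iff_degree_lt h0).2 h
    omega

/-- the linear map `(A, B, C) ↦ L0 * A - L1 * B - L2 * C` on coefficient vectors -/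
noncomputable def Psi (L0 L1 L2 : k[X]) (n0 n1 n2 : ℕ) :
    ((Fin n0 → k) × (Fin n1 → k) × (Fin n2 → k)) →ₗ[k] k[X] :=
  (LinearMap.mulLeft k L0).comp ((par n0).comp (LinearMap.fst k _ _)) -
    (LinearMap.mulLeft k L1).comp
      ((par n1).comp ((LinearMap.fst k _ _).comp (LinearMap.snd k _ _))) -
    (LinearMap.mulLeft k L2).comp
      ((par n2).comp ((LinearMap.snd k _ _).comp (LinearMap.snd k _ _)))

lemma Psi_apply (L0 L1 L2 : k[X]) (n0 n1 n2 : ℕ)
    (v : (Fin n0 → k) × (Fin n1 → k) × (Fin n2 → k)) :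
    Psi L0 L1 L2 n0 n1 n2 v = L0 * par n0 v.1 - L1 * par n1 v.2.1 - L2 * par n2 v.2.2 := rfl

lemma exists_ndata_span {P : Fin 3 → k} {e : Fin 3 → ℕ} {d : ℕ} (H : Hyp P e d) :
    ∃ F G : k[X], NData P e d (Submodule.span k {F, G}) F G := by
  have l0 := H.le 0
  have l1 := H.le 1
  have l2 := H.le 2
  have hsum := H.sum
  obtain ⟨Φ, hΦ⟩ : ∃ Φ, Φ = (LinearMap.pi (fun i : Fin (d + 1) => Polynomial.lcoeff k (i : ℕ))).comp
      (Psi ((X - C (P 0)) ^ e 0) ((X - C (P 1)) ^ e 1) ((X - C (P 2)) ^ e 2)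
        (d - e 0 + 1) (d - e 1 + 1) (d - e 2 + 1)) := ⟨_, rfl⟩
  have hker : LinearMap.ker Φ ≠ ⊥ := by
    apply LinearMap.ker_ne_bot_of_finrank_lt
    simp only [Module.finrank_prod, Module.finrank_fin_fun]
    omega
  obtain ⟨v, hvker, hv0⟩ := Submodule.exists_mem_ne_zero_of_ne_bot hker
  rw [LinearMap.mem_ker, hΦ] at hvker
  have hcoef : ∀ i : Fin (d + 1),
      (Psi ((X - C (P 0)) ^ e 0) ((X - C (P 1)) ^ e 1) ((X - C (P 2)) ^ e 2)
        (d - e 0 + 1) (d - e 1 + 1) (d - e 2 + 1) v).coeff (i : ℕ) = 0 :=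
    fun i => congrFun hvker i
  obtain ⟨A, hA⟩ : ∃ A, A = par (d - e 0 + 1) v.1 := ⟨_, rfl⟩
  obtain ⟨B, hB⟩ : ∃ B, B = par (d - e 1 + 1) v.2.1 := ⟨_, rfl⟩
  obtain ⟨Cc, hCc⟩ : ∃ Cc, Cc = par (d - e 2 + 1) v.2.2 := ⟨_, rfl⟩
  have hAd : A.natDegree ≤ d - e 0 := by rw [hA]; exact par_natDegree_le _ _
  have hBd : B.natDegree ≤ d - e 1 := by rw [hB]; exact par_natDegree_le _ _
  have hCd : Cc.natDegree ≤ d - e 2 := by rw [hCc]; exact par_natDegree_le _ _
  have hΨ : Psi ((X - C (P 0)) ^ e 0) ((X - C (P 1)) ^ e 1) ((X - C (P 2)) ^ e 2)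
      (d - e 0 + 1) (d - e 1 + 1) (d - e 2 + 1) v =
      (X - C (P 0)) ^ e 0 * A - (X - C (P 1)) ^ e 1 * B - (X - C (P 2)) ^ e 2 * Cc := by
    rw [hA, hB, hCc, Psi_apply]
  have hFd : ((X - C (P 0)) ^ e 0 * A).natDegree ≤ d := by
    refine Polynomial.natDegree_mul_le.trans ?_
    rw [natDegree_pow_X_sub_C]; omega
  have hGd : ((X - C (P 1)) ^ e 1 * B).natDegree ≤ d := by
    refine Polynomial.natDegree_mul_le.trans ?_
    rw [natDegree_pow_X_sub_C]; omega
  have hHd : ((X - C (P 2)) ^ e 2 * Cc).natDegree ≤ d := by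
    refine Polynomial.natDegree_mul_le.trans ?_
    rw [natDegree_pow_X_sub_C]; omega
  have hzero : (X - C (P 0)) ^ e 0 * A - (X - C (P 1)) ^ e 1 * B - (X - C (P 2)) ^ e 2 * Cc = 0 := by
    apply Polynomial.ext
    intro n
    rw [Polynomial.coeff_zero]
    by_cases hn : n < d + 1
    · have := hcoef ⟨n, hn⟩
      rw [hΨ] at this
      exact this
    · apply Polynomial.coeff_eq_zero_of_natDegree_lt
      refine lt_of_le_of_lt ((Polynomial.natDegree_sub_le _ _).trans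
        (max_le ((Polynomial.natDegree_sub_le _ _).trans (max_le hFd hGd)) hHd)) (by omega)
  have hFG : (X - C (P 0)) ^ e 0 * A - (X - C (P 1)) ^ e 1 * B = (X - C (P 2)) ^ e 2 * Cc :=
    sub_eq_zero.1 hzero
  have hvz : (X - C (P 0)) ^ e 0 * A = 0 → (X - C (P 1)) ^ e 1 * B = 0 → False := by
    intro hF hG
    have hA0 : A = 0 := (mul_eq_zero.1 hF).resolve_left (pow_ne_zero' _ _)
    have hB0 : B = 0 := (mul_eq_zero.1 hG).resolve_left (pow_ne_zero' _ _)
    have hC0 : Cc = 0 := by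
      rw [hF, hG, sub_zero] at hFG
      exact (mul_eq_zero.1 hFG.symm).resolve_left (pow_ne_zero' _ _)
    apply hv0
    have h1 : v.1 = 0 := par_injective _ (by rw [← hA, hA0, map_zero])
    have h2 : v.2.1 = 0 := par_injective _ (by rw [← hB, hB0, map_zero])
    have h3 : v.2.2 = 0 := par_injective _ (by rw [← hCc, hC0, map_zero])
    exact Prod.ext h1 (Prod.ext h2 h3)
  have hF_ne : (X - C (P 0)) ^ e 0 * A ≠ 0 := by
    intro hF
    apply hvz hF
    have hG' : (X - C (P 1)) ^ e 1 * B = -((X - C (P 2)) ^ e 2 * Cc) := by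
      rw [hF, zero_sub] at hFG
      exact neg_eq_iff_eq_neg.1 hFG
    apply eq_zero_of_two_dvd (n := e 2) H.h12 hGd (by omega) (dvd_mul_right _ _)
    rw [hG']
    exact dvd_neg.2 (dvd_mul_right _ _)
  have hG_ne : (X - C (P 1)) ^ e 1 * B ≠ 0 := by
    intro hG
    refine hvz ?_ hG
    have hF' : (X - C (P 0)) ^ e 0 * A = (X - C (P 2)) ^ e 2 * Cc := by
      rw [hG, sub_zero] at hFG
      exact hFG
    apply eq_zero_of_two_dvd (n := e 2) H.h02 hFd (by omega) (dvd_mul_right _ _)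
    rw [hF']
    exact dvd_mul_right _ _
  refine ⟨(X - C (P 0)) ^ e 0 * A, (X - C (P 1)) ^ e 1 * B, hFd, hGd, dvd_mul_right _ _,
    dvd_mul_right _ _, ?_, rfl, ?_⟩
  · rw [hFG]; exact dvd_mul_right _ _
  · exact indep_of_dvd H.h01 (by omega) hF_ne hG_ne hGd (dvd_mul_right _ _) (dvd_mul_right _ _)

/-! ### from a non-vanishing Wronskian to a member of `ramMaps` -/

lemma pow_dvd_wronskian_of_mem {F G s : k[X]} {a : k} {m : ℕ} (α β : k)
    (hs : α • F + β • G = s) (hs0 : s ≠ 0) (hd : (X - C a) ^ (m + 1) ∣ s) :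
    (X - C a) ^ m ∣ wronskian F G := by
  have hαβ : α ≠ 0 ∨ β ≠ 0 := by
    by_contra hcon
    push Not at hcon
    apply hs0
    rw [← hs, hcon.1, hcon.2, zero_smul, zero_smul, add_zero]
  rcases hαβ with hα | hβ
  · have h1 : (X - C a) ^ (m + 1 - 1) ∣ wronskian s G := dvd_wronskian_of_pow_dvd G hd
    have h2 : wronskian s G = α • wronskian F G := by
      have h3 := wronskian_comb F G α β 0 1
      rw [zero_smul, one_smul, zero_add, hs] at h3
      rw [h3, mul_one, mul_zero, sub_zero]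
    rw [h2, Nat.add_sub_cancel, dvd_smul_iff hα] at h1
    exact h1
  · have h1 : (X - C a) ^ (m + 1 - 1) ∣ wronskian s F := dvd_wronskian_of_pow_dvd F hd
    have h2 : wronskian s F = (-β) • wronskian F G := by
      have h3 := wronskian_comb F G α β 1 0
      rw [zero_smul, one_smul, add_zero, hs] at h3
      rw [h3, mul_one, mul_zero, zero_sub]
    rw [h2, Nat.add_sub_cancel, dvd_smul_iff (neg_ne_zero.2 hβ)] at h1
    exact h1

lemma mem_ramMaps_of_ndata {P : Fin 3 → k} {e : Fin 3 → ℕ} {d : ℕ} (H : Hyp P e d)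
    {V : Submodule k k[X]} {F G : k[X]} (h : NData P e d V F G) (hW : wronskian F G ≠ 0) :
    V ∈ ramMaps d P e := by
  have t0 := H.two 0
  have t1 := H.two 1
  have t2 := H.two 2
  have l0 := H.le 0
  have l1 := H.le 1
  have l2 := H.le 2
  have hsum := H.sum
  have hWd : (wronskian F G).natDegree ≤ 2 * d - 2 :=
    natDegree_wronskian_le (by omega) h.hF h.hG
  have hGF : wronskian F G = -wronskian G F := (Polynomial.wronskian_neg_eq G F).symm
  have hFGG : wronskian (F - G) G = wronskian F G := by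
    have h1 := wronskian_sub_C_mul_self F G 1
    rwa [map_one, one_mul] at h1
  have D0 : (X - C (P 0)) ^ (e 0 - 1) ∣ wronskian F G := dvd_wronskian_of_pow_dvd G h.d0
  have D1 : (X - C (P 1)) ^ (e 1 - 1) ∣ wronskian F G := by
    rw [hGF, dvd_neg]; exact dvd_wronskian_of_pow_dvd F h.d1
  have D2 : (X - C (P 2)) ^ (e 2 - 1) ∣ wronskian F G := by
    rw [← hFGG]; exact dvd_wronskian_of_pow_dvd G h.d2
  have X0 : ¬ (X - C (P 0)) ^ e 0 ∣ wronskian F G := fun hd =>
    hW (eq_zero_of_three_dvd H.h01 H.h02 H.h12 hWd (by omega) hd D1 D2)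
  have X1 : ¬ (X - C (P 1)) ^ e 1 ∣ wronskian F G := fun hd =>
    hW (eq_zero_of_three_dvd H.h01 H.h02 H.h12 hWd (by omega) D0 hd D2)
  have X2 : ¬ (X - C (P 2)) ^ e 2 ∣ wronskian F G := fun hd =>
    hW (eq_zero_of_three_dvd H.h01 H.h02 H.h12 hWd (by omega) D0 D1 hd)
  have hdegd : ∃ s ∈ V, s.natDegree = d := by
    by_cases hFd : F.natDegree = d
    · exact ⟨F, h.F_mem, hFd⟩
    by_cases hGd : G.natDegree = d
    · exact ⟨G, h.G_mem, hGd⟩
    exfalso
    have hF' : F.natDegree ≤ d - 1 := by have := h.hF; omega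
    have hG' : G.natDegree ≤ d - 1 := by have := h.hG; omega
    have hWd' := natDegree_wronskian_le (d := d - 1) (by omega) hF' hG'
    exact hW (eq_zero_of_three_dvd H.h01 H.h02 H.h12 hWd' (by omega) D0 D1 D2)
  have hbpf : ∀ a : k, ∃ s ∈ V, s.eval a ≠ 0 := by
    intro a
    by_contra hcon
    push Not at hcon
    have hFa : (X - C a) ∣ F := Polynomial.dvd_iff_isRoot.2 (hcon F h.F_mem)
    have hGa : (X - C a) ∣ G := Polynomial.dvd_iff_isRoot.2 (hcon G h.G_mem)
    by_cases ha0 : a = P 0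
    · rw [ha0] at hGa
      exact X0 (pow_dvd_wronskian_of_dvd h.d0 hGa)
    by_cases ha1 : a = P 1
    · rw [ha1] at hFa
      apply X1
      rw [hGF, dvd_neg]
      exact pow_dvd_wronskian_of_dvd h.d1 hFa
    by_cases ha2 : a = P 2
    · rw [ha2] at hGa
      apply X2
      rw [← hFGG]
      exact pow_dvd_wronskian_of_dvd h.d2 hGa
    · have h4 : (X - C a) ^ 1 ∣ wronskian F G :=
        pow_dvd_wronskian_of_dvd (by rw [pow_one]; exact hFa) hGa
      rw [pow_one] at h4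
      exact hW (eq_zero_of_four_dvd H.h01 H.h02 H.h12 (Ne.symm ha0) (Ne.symm ha1) (Ne.symm ha2)
        hWd (by omega) D0 D1 D2 h4)
  have ram : ∀ (a : k) (m : ℕ), ¬ (X - C a) ^ m ∣ wronskian F G →
      ∀ s ∈ V, s ≠ 0 → Polynomial.rootMultiplicity a s ≤ m := by
    intro a m hnd s hsV hs0
    by_contra hlt
    push Not at hlt
    have hd : (X - C a) ^ (m + 1) ∣ s :=
      (Polynomial.le_rootMultiplicity_iff hs0).1 (Nat.succ_le_of_lt hlt)
    obtain ⟨α, β, hs⟩ := (h.mem_iff s).1 hsV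
    exact hnd (pow_dvd_wronskian_of_mem α β hs hs0 hd)
  refine ⟨⟨h.le_degreeLE, h.finrank_eq, hdegd, hbpf⟩, ⟨F, h.F_mem, G, h.G_mem, hW⟩, ?_⟩
  intro i
  have hi : i = 0 ∨ i = 1 ∨ i = 2 := by fin_cases i <;> simp
  rcases hi with rfl | rfl | rfl
  · exact ⟨⟨F, h.F_mem, h.F_ne, (Polynomial.le_rootMultiplicity_iff h.F_ne).2 h.d0⟩,
      ram _ _ X0⟩
  · exact ⟨⟨G, h.G_mem, h.G_ne, (Polynomial.le_rootMultiplicity_iff h.G_ne).2 h.d1⟩,
      ram _ _ X1⟩
  · exact ⟨⟨F - G, h.sub_mem, h.sub_ne, (Polynomial.le_rootMultiplicity_iff h.sub_ne).2 h.d2⟩,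
      ram _ _ X2⟩

/-- at most one member -/
lemma ramMaps_subsingleton [IsAlgClosed k] {P : Fin 3 → k} {e : Fin 3 → ℕ} {d : ℕ}
    (H : Hyp P e d) : (ramMaps d P e).Subsingleton := by
  intro V hV V' hV'
  obtain ⟨F, G, h⟩ := ndata_of_mem_ramMaps H hV
  obtain ⟨F', G', h'⟩ := ndata_of_mem_ramMaps H hV'
  exact (eq_of_ndata H h' h hV'.1.2.2.1 hV'.1.2.2.2)

end Groth.Agent.Helper6.RamB
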