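import Mathlib
import Groth.Prelude.Def_W4c1limliniiiiRamP1
import Groth.Agent.Lib.Helper6.RamA
import Groth.Agent.Lib.Helper6.RamB

/-!
# Three ramification points: non-existence in small characteristic, and the space of pairs
(helper6)
-/

set_option autoImplicit false
universe u

namespace Groth.Agent.Helper6.RamC

open Polynomial W4c1limliniiii Groth.Agent.Helper6.RamA Groth.Agent.Helper6.RamB

variable {k : Type u} [Field k]

lemma wronskian_twist (p : ℕ) [CharP k p] (u v A B : k[X]) {e0 e1 r0 r1 : ℕ} (h0 : e0 + r0 = p)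
    (h1 : e1 + r1 = p) :
    (v ^ e0 * u ^ e1) ^ 2 * wronskian (u ^ r1 * A) (v ^ r0 * B) =
      u ^ p * v ^ p * wronskian (v ^ e0 * A) (u ^ e1 * B) := by
  have hu : u ^ p = u ^ e1 * u ^ r1 := by rw [← pow_add, h1]
  have hv : v ^ p = v ^ e0 * v ^ r0 := by rw [← pow_add, h0]
  have e1' : v ^ e0 * u ^ e1 * (u ^ r1 * A) = (v ^ e0 * A) * u ^ p := by rw [hu]; ring
  have e2' : v ^ e0 * u ^ e1 * (v ^ r0 * B) = (u ^ e1 * B) * v ^ p := by rw [hv]; ring
  rw [← wronskian_mul_mul, e1', e2', wronskian_mul_pow_char]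

/-- no separable map when `e 0, e 1 < p ≤ d` -/
theorem ramMaps_eq_empty (p : ℕ) [CharP k p] {P : Fin 3 → k} {e : Fin 3 → ℕ} {d : ℕ}
    (H : Hyp P e d) (he0 : e 0 < p) (he1 : e 1 < p) (hpd : p ≤ d) : ramMaps d P e = ∅ := by
  rw [Set.eq_empty_iff_forall_notMem]
  intro V hV
  obtain ⟨F, G, h⟩ := ndata_of_mem_ramMaps H hV
  obtain ⟨⟨-, -, -, hbpf⟩, hsep, -⟩ := hV
  have hW : wronskian F G ≠ 0 := h.wronskian_ne_zero_of_isSeparable hsep
  have t2 := H.two 2
  have l0 := H.le 0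
  have l1 := H.le 1
  have l2 := H.le 2
  have hsum := H.sum
  obtain ⟨A, hA⟩ := h.d0
  obtain ⟨B, hB⟩ := h.d1
  have hA_ne : A ≠ 0 := by
    intro h0; apply h.F_ne; rw [hA, h0, mul_zero]
  have hB_ne : B ≠ 0 := by
    intro h0; apply h.G_ne; rw [hB, h0, mul_zero]
  have hAd : A.natDegree ≤ d - e 0 := by
    have h1 := h.hF
    rw [hA, Polynomial.natDegree_mul (pow_ne_zero' _ _) hA_ne, natDegree_pow_X_sub_C] at h1
    omega
  have hBd : B.natDegree ≤ d - e 1 := by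
    have h1 := h.hG
    rw [hB, Polynomial.natDegree_mul (pow_ne_zero' _ _) hB_ne, natDegree_pow_X_sub_C] at h1
    omega
  obtain ⟨Ft, hFt⟩ : ∃ Ft : k[X], Ft = (X - C (P 1)) ^ (p - e 1) * A := ⟨_, rfl⟩
  obtain ⟨Gt, hGt⟩ : ∃ Gt : k[X], Gt = (X - C (P 0)) ^ (p - e 0) * B := ⟨_, rfl⟩
  have htw : ((X - C (P 0)) ^ e 0 * (X - C (P 1)) ^ e 1) ^ 2 * wronskian Ft Gt =
      (X - C (P 1)) ^ p * (X - C (P 0)) ^ p * wronskian F G := by
    rw [hFt, hGt, hA, hB]
    exact wronskian_twist p (X - C (P 1)) (X - C (P 0)) A B (by omega) (by omega)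
  have hWt : wronskian Ft Gt ≠ 0 := by
    intro h0
    rw [h0, mul_zero] at htw
    exact mul_ne_zero (mul_ne_zero (pow_ne_zero' _ _) (pow_ne_zero' _ _)) hW htw.symm
  have hD2 : (X - C (P 2)) ^ (e 2 - 1) ∣ wronskian F G := by
    have hFGG : wronskian (F - G) G = wronskian F G := by
      have h1 := wronskian_sub_C_mul_self F G 1
      rwa [map_one, one_mul] at h1
    rw [← hFGG]; exact dvd_wronskian_of_pow_dvd G h.d2
  have hD2t : (X - C (P 2)) ^ (e 2 - 1) ∣ wronskian Ft Gt := by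
    have hcop : IsCoprime ((X - C (P 2)) ^ (e 2 - 1))
        (((X - C (P 0)) ^ e 0 * (X - C (P 1)) ^ e 1) ^ 2) :=
      (IsCoprime.mul_right (coprime_pow H.h02.symm _ _) (coprime_pow H.h12.symm _ _)).pow_right
    apply hcop.dvd_of_dvd_mul_left
    rw [htw]
    exact hD2.mul_left _
  have hFGeval : F.eval (P 2) = G.eval (P 2) := by
    have h1 : (F - G).eval (P 2) = 0 := by
      apply Polynomial.eval_eq_zero_of_dvd_of_eval_eq_zero h.d2
      rw [Polynomial.eval_pow, Polynomial.eval_sub, Polynomial.eval_X, Polynomial.eval_C,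
        sub_self, zero_pow (by omega)]
    rw [Polynomial.eval_sub] at h1
    exact sub_eq_zero.1 h1
  have hGeval : G.eval (P 2) ≠ 0 := by
    intro h0
    obtain ⟨s, hsV, hs⟩ := hbpf (P 2)
    obtain ⟨α, β, rfl⟩ := (h.mem_iff s).1 hsV
    apply hs
    rw [Polynomial.eval_add, Polynomial.eval_smul, Polynomial.eval_smul, hFGeval, h0]
    simp
  have hBeval : B.eval (P 2) ≠ 0 := by
    intro h0
    apply hGeval
    rw [hB, Polynomial.eval_mul, h0, mul_zero]
  have hGteval : Gt.eval (P 2) ≠ 0 := by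
    rw [hGt, Polynomial.eval_mul, Polynomial.eval_pow, Polynomial.eval_sub, Polynomial.eval_X,
      Polynomial.eval_C]
    exact mul_ne_zero (pow_ne_zero _ (sub_ne_zero.2 H.h02.symm)) hBeval
  obtain ⟨c, hc⟩ : ∃ c : k, c = Ft.eval (P 2) / Gt.eval (P 2) := ⟨_, rfl⟩
  obtain ⟨st, hst⟩ : ∃ st : k[X], st = Ft - C c * Gt := ⟨_, rfl⟩
  have hst_eval : st.eval (P 2) = 0 := by
    rw [hst, Polynomial.eval_sub, Polynomial.eval_mul, Polynomial.eval_C, hc,
      div_mul_cancel₀ _ hGteval, sub_self]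
  have hst_W : wronskian st Gt = wronskian Ft Gt := by
    rw [hst]; exact wronskian_sub_C_mul_self Ft Gt c
  have hst_ne : st ≠ 0 := by
    intro h0
    apply hWt
    rw [← hst_W, h0, Polynomial.wronskian_zero_left]
  obtain ⟨m, hm⟩ : ∃ m : ℕ, m = Polynomial.rootMultiplicity (P 2) st := ⟨_, rfl⟩
  have hm_pos : 0 < m := by
    rw [hm]; exact (Polynomial.rootMultiplicity_pos hst_ne).2 hst_eval
  obtain ⟨u', hu', hnd⟩ :=
    Polynomial.exists_eq_pow_rootMultiplicity_mul_and_not_dvd st hst_ne (P 2)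
  rw [← hm] at hu'
  have hu'eval : u'.eval (P 2) ≠ 0 := fun h0 => hnd (Polynomial.dvd_iff_isRoot.2 h0)
  have hm_le : m ≤ st.natDegree := by
    have h1 := Polynomial.natDegree_le_of_dvd (⟨u', hu'⟩ : (X - C (P 2)) ^ m ∣ st) hst_ne
    rwa [natDegree_pow_X_sub_C] at h1
  have hFtd : Ft.natDegree ≤ (p - e 1) + (d - e 0) := by
    rw [hFt]
    refine Polynomial.natDegree_mul_le.trans ?_
    rw [natDegree_pow_X_sub_C]; omega
  have hGtd : (C c * Gt).natDegree ≤ (p - e 1) + (d - e 0) := by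
    refine (Polynomial.natDegree_C_mul_le _ _).trans ?_
    rw [hGt]
    refine Polynomial.natDegree_mul_le.trans ?_
    rw [natDegree_pow_X_sub_C]; omega
  have hstd : st.natDegree ≤ (p - e 1) + (d - e 0) := by
    rw [hst]; exact (Polynomial.natDegree_sub_le _ _).trans (max_le hFtd hGtd)
  have hm1 : m ≤ e 2 - 1 := by omega
  have hmp : m < p := by omega
  have hmk : (m : k) ≠ 0 := by
    intro h0
    have hdvd := (CharP.cast_eq_zero_iff k p m).1 h0
    exact absurd (Nat.le_of_dvd hm_pos hdvd) (by omega)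
  have hcontra := not_pow_dvd_wronskian (a := P 2) (m := m) (Nat.succ_le_of_lt hm_pos) hmk
    hu'eval hGteval
  apply hcontra
  rw [← hu', hst_W]
  exact (pow_dvd_pow _ hm1).trans hD2t

/-! ### the linear space of normalised pairs -/

/-- pairs `(F, G)` of polynomials of degree `≤ d` with `F`, `G`, `F - G` vanishing to the
prescribed orders at the three points -/
def pairSpace (P : Fin 3 → k) (e : Fin 3 → ℕ) (d : ℕ) : Submodule k (k[X] × k[X]) where
  carrier := {v | v.1.natDegree ≤ d ∧ v.2.natDegree ≤ d ∧ (X - C (P 0)) ^ e 0 ∣ v.1 ∧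
    (X - C (P 1)) ^ e 1 ∣ v.2 ∧ (X - C (P 2)) ^ e 2 ∣ v.1 - v.2}
  add_mem' := by
    rintro v w ⟨h1, h2, h3, h4, h5⟩ ⟨g1, g2, g3, g4, g5⟩
    refine ⟨?_, ?_, ?_, ?_, ?_⟩
    · show (v.1 + w.1).natDegree ≤ d
      exact (Polynomial.natDegree_add_le _ _).trans (max_le h1 g1)
    · show (v.2 + w.2).natDegree ≤ d
      exact (Polynomial.natDegree_add_le _ _).trans (max_le h2 g2)
    · show _ ∣ v.1 + w.1
      exact dvd_add h3 g3
    · show _ ∣ v.2 + w.2
      exact dvd_add h4 g4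
    · show _ ∣ (v.1 + w.1) - (v.2 + w.2)
      have e1 : (v.1 + w.1) - (v.2 + w.2) = (v.1 - v.2) + (w.1 - w.2) := by ring
      rw [e1]; exact dvd_add h5 g5
  zero_mem' := by
    refine ⟨?_, ?_, ?_, ?_, ?_⟩
    · show (0 : k[X]).natDegree ≤ d
      simp
    · show (0 : k[X]).natDegree ≤ d
      simp
    · show _ ∣ (0 : k[X])
      exact dvd_zero _
    · show _ ∣ (0 : k[X])
      exact dvd_zero _
    · show _ ∣ (0 : k[X]) - 0
      rw [sub_zero]; exact dvd_zero _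
  smul_mem' := by
    rintro c v ⟨h1, h2, h3, h4, h5⟩
    refine ⟨?_, ?_, ?_, ?_, ?_⟩
    · show (c • v.1).natDegree ≤ d
      exact (Polynomial.natDegree_smul_le _ _).trans h1
    · show (c • v.2).natDegree ≤ d
      exact (Polynomial.natDegree_smul_le _ _).trans h2
    · show _ ∣ c • v.1
      rw [Polynomial.smul_eq_C_mul]; exact h3.mul_left _
    · show _ ∣ c • v.2
      rw [Polynomial.smul_eq_C_mul]; exact h4.mul_left _
    · show _ ∣ c • v.1 - c • v.2
      rw [← smul_sub, Polynomial.smul_eq_C_mul]; exact h5.mul_left _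

lemma mem_pairSpace {P : Fin 3 → k} {e : Fin 3 → ℕ} {d : ℕ} {v : k[X] × k[X]} :
    v ∈ pairSpace P e d ↔ v.1.natDegree ≤ d ∧ v.2.natDegree ≤ d ∧ (X - C (P 0)) ^ e 0 ∣ v.1 ∧
      (X - C (P 1)) ^ e 1 ∣ v.2 ∧ (X - C (P 2)) ^ e 2 ∣ v.1 - v.2 := Iff.rfl

lemma ndata_of_mem_pairSpace {P : Fin 3 → k} {e : Fin 3 → ℕ} {d : ℕ} (H : Hyp P e d)
    {v : k[X] × k[X]} (hv : v ∈ pairSpace P e d) (hv0 : v ≠ 0) :
    NData P e d (Submodule.span k {v.1, v.2}) v.1 v.2 := by
  obtain ⟨h1, h2, h3, h4, h5⟩ := mem_pairSpace.1 hv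
  have l0 := H.le 0
  have l1 := H.le 1
  have l2 := H.le 2
  have hsum := H.sum
  have hz : v.1 = 0 → v.2 = 0 → False := fun a b => hv0 (Prod.ext a b)
  have hF : v.1 ≠ 0 := by
    intro h0
    apply hz h0
    rw [h0, zero_sub, dvd_neg] at h5
    exact eq_zero_of_two_dvd H.h12 h2 (by omega) h4 h5
  have hG : v.2 ≠ 0 := by
    intro h0
    refine hz ?_ h0
    rw [h0, sub_zero] at h5
    exact eq_zero_of_two_dvd H.h02 h1 (by omega) h3 h5
  exact ⟨h1, h2, h3, h4, h5, rfl, indep_of_dvd H.h01 (by omega) hF hG h2 h3 h4⟩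

lemma prop_of_span_eq {P : Fin 3 → k} {e : Fin 3 → ℕ} {d : ℕ} (H : Hyp P e d)
    {v w : k[X] × k[X]} (hv : v ∈ pairSpace P e d) (hw : w ∈ pairSpace P e d) (hv0 : v ≠ 0)
    (hspan : Submodule.span k ({v.1, v.2} : Set k[X]) = Submodule.span k {w.1, w.2}) :
    ∃ c : k, w = c • v := by
  have hn := ndata_of_mem_pairSpace H hv hv0
  obtain ⟨h1, h2, h3, h4, h5⟩ := mem_pairSpace.1 hv
  obtain ⟨g1, g2, g3, g4, g5⟩ := mem_pairSpace.1 hw
  have l0 := H.le 0
  have l1 := H.le 1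
  have l2 := H.le 2
  have hsum := H.sum
  have hw1 : w.1 ∈ Submodule.span k ({v.1, v.2} : Set k[X]) := by
    rw [hspan]; exact Submodule.subset_span (by simp)
  have hw2 : w.2 ∈ Submodule.span k ({v.1, v.2} : Set k[X]) := by
    rw [hspan]; exact Submodule.subset_span (by simp)
  obtain ⟨α, β, hαβ⟩ := Submodule.mem_span_pair.1 hw1
  obtain ⟨γ, δ, hγδ⟩ := Submodule.mem_span_pair.1 hw2
  have hβ : β = 0 := by
    by_contra hβ
    have h6 : (X - C (P 0)) ^ e 0 ∣ β • v.2 := by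
      have e1 : β • v.2 = w.1 - α • v.1 := by rw [← hαβ, add_sub_cancel_left]
      rw [e1]
      exact dvd_sub g3 (by rw [Polynomial.smul_eq_C_mul]; exact h3.mul_left _)
    rw [dvd_smul_iff hβ] at h6
    exact hn.G_ne (eq_zero_of_two_dvd H.h01 h2 (by omega) h6 h4)
  have hγ : γ = 0 := by
    by_contra hγ
    have h6 : (X - C (P 1)) ^ e 1 ∣ γ • v.1 := by
      have e1 : γ • v.1 = w.2 - δ • v.2 := by rw [← hγδ, add_sub_cancel_right]
      rw [e1]
      exact dvd_sub g4 (by rw [Polynomial.smul_eq_C_mul]; exact h4.mul_left _)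
    rw [dvd_smul_iff hγ] at h6
    exact hn.F_ne (eq_zero_of_two_dvd H.h01 h1 (by omega) h3 h6)
  rw [hβ, zero_smul, add_zero] at hαβ
  rw [hγ, zero_smul, zero_add] at hγδ
  have hαδ : α = δ := by
    by_contra hne
    have h6 : (X - C (P 2)) ^ e 2 ∣ (α - δ) • v.2 := by
      have e3 : (α - δ) • v.2 = (w.1 - w.2) - α • (v.1 - v.2) := by
        rw [← hαβ, ← hγδ, sub_smul, smul_sub]; abel
      rw [e3]
      exact dvd_sub g5 (by rw [Polynomial.smul_eq_C_mul]; exact h5.mul_left _)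
    rw [dvd_smul_iff (sub_ne_zero.2 hne)] at h6
    exact hn.G_ne (eq_zero_of_two_dvd H.h12 h2 (by omega) h4 h6)
  refine ⟨α, Prod.ext ?_ ?_⟩
  · show w.1 = α • v.1
    exact hαβ.symm
  · show w.2 = α • v.2
    rw [hαδ]; exact hγδ.symm

end Groth.Agent.Helper6.RamC
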