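import Mathlib
import Groth.Prelude.Def_W4c1limliniiiiRamP1
import Groth.Agent.Lib.Helper6.RamA
import Groth.Agent.Lib.Helper6.RamB

/-!
# Ramification index versus order of the Wronskian; the family `F + c X^p G` (helper6)
-/

set_option autoImplicit false
universe u

namespace Groth.Agent.Helper6.RamD

open Polynomial W4c1limliniiii Groth.Agent.Helper6.RamA Groth.Agent.Helper6.RamB

variable {k : Type u} [Field k]

/-- ramification index `m` (prime to the characteristic) at a non-base-point gives the exact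
order `m - 1` of the Wronskian -/
lemma wronskian_order_of_hasRamIdx {V : Submodule k k[X]} {F G : k[X]}
    (hmem : ∀ s, s ∈ V ↔ ∃ α β : k, α • F + β • G = s) {a : k} {m : ℕ} (hm : 1 ≤ m)
    (hmk : (m : k) ≠ 0) (hbpf : ∃ t ∈ V, t.eval a ≠ 0) (hram : HasRamIdx V a m) :
    (X - C a) ^ (m - 1) ∣ wronskian F G ∧ ¬ (X - C a) ^ m ∣ wronskian F G := by
  obtain ⟨⟨s, hsV, hs0, hle⟩, hmax⟩ := hram
  obtain ⟨t, htV, hta⟩ := hbpf
  obtain ⟨α, β, hs⟩ := (hmem s).1 hsV
  obtain ⟨γ, δ, ht⟩ := (hmem t).1 htV
  have hd : (X - C a) ^ m ∣ s := (Polynomial.le_rootMultiplicity_iff hs0).1 hle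
  constructor
  · have hd' : (X - C a) ^ (m - 1 + 1) ∣ s := by rwa [Nat.sub_add_cancel hm]
    exact pow_dvd_wronskian_of_mem α β hs hs0 hd'
  · intro hW
    have hrm : Polynomial.rootMultiplicity a s = m := le_antisymm (hmax s hsV hs0) hle
    obtain ⟨u, hu, hnd⟩ := Polynomial.exists_eq_pow_rootMultiplicity_mul_and_not_dvd s hs0 a
    rw [hrm] at hu
    have hua : u.eval a ≠ 0 := fun h0 => hnd (Polynomial.dvd_iff_isRoot.2 h0)
    have h1 := not_pow_dvd_wronskian hm hmk hua hta
    apply h1
    rw [← hu, ← hs, ← ht, wronskian_comb, Polynomial.smul_eq_C_mul]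
    exact hW.mul_left _

/-- conversely the exact order `m - 1` of the Wronskian at a non-base-point gives ramification
index `m`, provided no positive multiple of the characteristic is `≤ m` -/
lemma hasRamIdx_of_wronskian_order {V : Submodule k k[X]} {F G : k[X]}
    (hmem : ∀ s, s ∈ V ↔ ∃ α β : k, α • F + β • G = s)
    (hind : ∀ α β : k, α • F + β • G = 0 → α = 0 ∧ β = 0) {a : k} {m : ℕ}
    (hchar : ∀ r : ℕ, 1 ≤ r → (r : k) = 0 → m < r)
    (hbpf : ∃ t ∈ V, t.eval a ≠ 0) (hd : (X - C a) ^ (m - 1) ∣ wronskian F G)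
    (hnd : ¬ (X - C a) ^ m ∣ wronskian F G) : HasRamIdx V a m := by
  obtain ⟨t, htV, hta⟩ := hbpf
  obtain ⟨γ, δ, ht⟩ := (hmem t).1 htV
  constructor
  · obtain ⟨s, hsdef⟩ : ∃ s : k[X], s = (G.eval a) • F + (-(F.eval a)) • G := ⟨_, rfl⟩
    have hsV : s ∈ V := (hmem s).2 ⟨_, _, hsdef.symm⟩
    have hsa : s.eval a = 0 := by
      rw [hsdef, Polynomial.eval_add, Polynomial.eval_smul, Polynomial.eval_smul, smul_eq_mul,
        smul_eq_mul]
      ring
    have hta' : γ * F.eval a + δ * G.eval a ≠ 0 := by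
      rw [← ht, Polynomial.eval_add, Polynomial.eval_smul, Polynomial.eval_smul, smul_eq_mul,
        smul_eq_mul] at hta
      exact hta
    have hs0 : s ≠ 0 := by
      intro h0
      rw [hsdef] at h0
      obtain ⟨h1, h2⟩ := hind _ _ h0
      apply hta'
      rw [h1, neg_eq_zero.1 h2]; ring
    have hWst : wronskian s t = (γ * F.eval a + δ * G.eval a) • wronskian F G := by
      rw [hsdef, ← ht, wronskian_comb]
      congr 1; ring
    obtain ⟨r, hr⟩ : ∃ r, r = Polynomial.rootMultiplicity a s := ⟨_, rfl⟩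
    have hr_pos : 0 < r := by rw [hr]; exact (Polynomial.rootMultiplicity_pos hs0).2 hsa
    obtain ⟨u, hu, hndu⟩ := Polynomial.exists_eq_pow_rootMultiplicity_mul_and_not_dvd s hs0 a
    rw [← hr] at hu
    have hua : u.eval a ≠ 0 := fun h0 => hndu (Polynomial.dvd_iff_isRoot.2 h0)
    refine ⟨s, hsV, hs0, ?_⟩
    rw [← hr]
    by_contra hlt
    push Not at hlt
    by_cases hrk : (r : k) = 0
    · have := hchar r hr_pos hrk
      omega
    · have h1 := not_pow_dvd_wronskian (Nat.succ_le_of_lt hr_pos) hrk hua hta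
      apply h1
      rw [← hu, hWst, dvd_smul_iff hta']
      exact (pow_dvd_pow _ (by omega : r ≤ m - 1)).trans hd
  · intro s hsV hs0
    by_contra hlt
    push Not at hlt
    have hd' : (X - C a) ^ (m + 1) ∣ s :=
      (Polynomial.le_rootMultiplicity_iff hs0).1 (Nat.succ_le_of_lt hlt)
    obtain ⟨α, β, hs⟩ := (hmem s).1 hsV
    exact hnd (pow_dvd_wronskian_of_mem α β hs hs0 hd')

lemma indep_of_natDegree_lt {F G : k[X]} (hG0 : G ≠ 0) (hlt : G.natDegree < F.natDegree) :
    ∀ α β : k, α • F + β • G = 0 → α = 0 ∧ β = 0 := by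
  intro α β h
  have hF0 : F ≠ 0 := by
    intro h0; rw [h0, Polynomial.natDegree_zero] at hlt; exact absurd hlt (Nat.not_lt_zero _)
  have hα : α = 0 := by
    have h1 : (α • F + β • G).coeff F.natDegree = 0 := by rw [h]; simp
    rw [Polynomial.coeff_add, Polynomial.coeff_smul, Polynomial.coeff_smul,
      Polynomial.coeff_eq_zero_of_natDegree_lt hlt, smul_zero, add_zero,
      Polynomial.coeff_natDegree, smul_eq_mul] at h1
    exact (mul_eq_zero.1 h1).resolve_right (Polynomial.leadingCoeff_ne_zero.2 hF0)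
  refine ⟨hα, ?_⟩
  rw [hα, zero_smul, zero_add] at h
  exact (smul_eq_zero.1 h).resolve_right hG0

lemma span_eq_of_finrank {V : Submodule k k[X]} (hfr : Module.finrank k V = 2) {F G : k[X]}
    (hF : F ∈ V) (hG : G ∈ V) (hind : ∀ α β : k, α • F + β • G = 0 → α = 0 ∧ β = 0) :
    Submodule.span k ({F, G} : Set k[X]) = V := by
  have hle : Submodule.span k ({F, G} : Set k[X]) ≤ V := by
    rw [Submodule.span_le]
    intro x hx
    simp only [Set.mem_insert_iff, Set.mem_singleton_iff] at hx
    rcases hx with hx | hx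
    · rw [hx]; exact hF
    · rw [hx]; exact hG
  have hfin : Module.Finite k V := Module.finite_of_finrank_pos (by rw [hfr]; norm_num)
  exact Submodule.eq_of_le_of_finrank_eq hle (by rw [finrank_span_pair hind, hfr])

section family

variable (p : ℕ) [CharP k p]

/-- the deformed first generator `F + c X^p G` -/
noncomputable def Fc (F G : k[X]) (c : k) : k[X] := F + (C c * G) * X ^ p

lemma wronskian_Fc (F G : k[X]) (c : k) : wronskian (Fc p F G c) G = wronskian F G := by
  unfold Fc
  rw [wronskian_def', wronskian_def', Polynomial.derivative_add, derivative_mul_pow_char,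
    Polynomial.derivative_C_mul]
  ring

theorem family_mem {d n : ℕ} {P : Fin n → k} {e : Fin n → ℕ} {E : ℕ} (hE1 : 1 ≤ E)
    (hpE : p < E) (he1 : ∀ i, 1 ≤ e i) (hlt : ∀ i, e i < p)
    {V : Submodule k k[X]} (hV : V ∈ ramMaps d P e) (hinf : HasRamIdxInf d V E) :
    ∃ F G : k[X], G ≠ 0 ∧ F.natDegree = d ∧ G.natDegree + E = d ∧
      ∀ c : k, Submodule.span k ({Fc p F G c, G} : Set k[X]) ∈ ramMaps d P e ∧
        HasRamIdxInf d (Submodule.span k ({Fc p F G c, G} : Set k[X])) E := by
  obtain ⟨⟨hle, hfr, ⟨F, hFV, hFd⟩, hbpf⟩, hsep, hram⟩ := hV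
  obtain ⟨⟨G, hGV, hG0, hGd⟩, hinf2⟩ := hinf
  have hGd' : G.natDegree + E = d := le_antisymm hGd (hinf2 G hGV hG0)
  have hlt' : G.natDegree < F.natDegree := by omega
  have hind := indep_of_natDegree_lt hG0 hlt'
  have hspan := span_eq_of_finrank hfr hFV hGV hind
  have hmem : ∀ s, s ∈ V ↔ ∃ α β : k, α • F + β • G = s := by
    intro s; rw [← hspan]; exact Submodule.mem_span_pair
  have hW : wronskian F G ≠ 0 := by
    obtain ⟨s, hs, t, ht, hne⟩ := hsep
    obtain ⟨α, β, rfl⟩ := (hmem s).1 hs
    obtain ⟨γ, δ, rfl⟩ := (hmem t).1 ht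
    rw [wronskian_comb] at hne
    intro h0; apply hne; rw [h0, smul_zero]
  have hord : ∀ i, (X - C (P i)) ^ (e i - 1) ∣ wronskian F G ∧
      ¬ (X - C (P i)) ^ e i ∣ wronskian F G := by
    intro i
    have hek : ((e i : ℕ) : k) ≠ 0 := by
      intro h0
      have hdvd := (CharP.cast_eq_zero_iff k p (e i)).1 h0
      exact absurd (Nat.le_of_dvd (he1 i) hdvd) (by have := hlt i; omega)
    exact wronskian_order_of_hasRamIdx hmem (he1 i) hek (hbpf (P i)) (hram i)
  refine ⟨F, G, hG0, hFd, hGd', fun c => ?_⟩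
  have hXd : ((C c * G) * X ^ p).natDegree < F.natDegree := by
    refine lt_of_le_of_lt Polynomial.natDegree_mul_le ?_
    rw [Polynomial.natDegree_X_pow]
    have := Polynomial.natDegree_C_mul_le c G
    omega
  have hFcd : (Fc p F G c).natDegree = d := by
    unfold Fc
    rw [Polynomial.natDegree_add_eq_left_of_natDegree_lt hXd, hFd]
  have hindc := indep_of_natDegree_lt (F := Fc p F G c) hG0 (by omega)
  have hmemc : ∀ s, s ∈ Submodule.span k ({Fc p F G c, G} : Set k[X]) ↔
      ∃ α β : k, α • Fc p F G c + β • G = s := fun s => Submodule.mem_span_pair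
  have hWc : wronskian (Fc p F G c) G ≠ 0 := by rw [wronskian_Fc]; exact hW
  have hbpfc : ∀ a : k, ∃ t ∈ Submodule.span k ({Fc p F G c, G} : Set k[X]), t.eval a ≠ 0 := by
    intro a
    by_cases hGa : G.eval a = 0
    · refine ⟨Fc p F G c, Submodule.subset_span (by simp), ?_⟩
      intro h0
      obtain ⟨s, hsV, hsa⟩ := hbpf a
      obtain ⟨α, β, rfl⟩ := (hmem s).1 hsV
      apply hsa
      have hFa : F.eval a = 0 := by
        unfold Fc at h0
        simp only [Polynomial.eval_add, Polynomial.eval_mul, Polynomial.eval_C,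
          Polynomial.eval_pow, Polynomial.eval_X, hGa, mul_zero, zero_mul, add_zero] at h0
        exact h0
      rw [Polynomial.eval_add, Polynomial.eval_smul, Polynomial.eval_smul, hFa, hGa]
      simp
    · exact ⟨G, Submodule.subset_span (by simp), hGa⟩
  refine ⟨⟨⟨?_, finrank_span_pair hindc, ⟨_, Submodule.subset_span (by simp), hFcd⟩, hbpfc⟩,
    ⟨_, Submodule.subset_span (by simp), G, Submodule.subset_span (by simp), hWc⟩, ?_⟩, ?_⟩
  · rw [Submodule.span_le]
    intro x hx
    simp only [Set.mem_insert_iff, Set.mem_singleton_iff] at hx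
    rcases hx with hx | hx
    · rw [hx]
      show Fc p F G c ∈ Polynomial.degreeLE k d
      rw [Polynomial.mem_degreeLE, ← Polynomial.natDegree_le_iff_degree_le, hFcd]
    · rw [hx]
      show G ∈ Polynomial.degreeLE k d
      rw [Polynomial.mem_degreeLE, ← Polynomial.natDegree_le_iff_degree_le]
      omega
  · intro i
    have hchar : ∀ r : ℕ, 1 ≤ r → (r : k) = 0 → e i < r := by
      intro r hr hrk
      have hdvd := (CharP.cast_eq_zero_iff k p r).1 hrk
      have := Nat.le_of_dvd hr hdvd
      have := hlt i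
      omega
    have h1 := hord i
    rw [← wronskian_Fc p F G c] at h1
    exact hasRamIdx_of_wronskian_order hmemc hindc hchar (hbpfc (P i)) h1.1 h1.2
  · constructor
    · exact ⟨G, Submodule.subset_span (by simp), hG0, hGd'.le⟩
    · intro s hs hs0
      obtain ⟨α, β, rfl⟩ := (hmemc s).1 hs
      by_cases hα : α = 0
      · rw [hα, zero_smul, zero_add] at hs0 ⊢
        have hβ : β ≠ 0 := by
          intro h0; apply hs0; rw [h0, zero_smul]
        rw [Polynomial.smul_eq_C_mul, Polynomial.natDegree_C_mul hβ]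
        omega
      · have h1 : (α • Fc p F G c).natDegree = d := by
          rw [Polynomial.smul_eq_C_mul, Polynomial.natDegree_C_mul hα, hFcd]
        have h2 : (β • G).natDegree < (α • Fc p F G c).natDegree := by
          rw [h1]
          exact lt_of_le_of_lt (Polynomial.natDegree_smul_le _ _) (by omega)
        rw [Polynomial.natDegree_add_eq_left_of_natDegree_lt h2, h1]
        omega

lemma family_injective {d E : ℕ} {F G : k[X]} (hG0 : G ≠ 0) (hFd : F.natDegree = d)
    (hGd : G.natDegree + E = d) (hpE : p < E) (hp1 : 1 ≤ p) :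
    Function.Injective (fun c : k => Submodule.span k ({Fc p F G c, G} : Set k[X])) := by
  intro c c' h
  have h' : Submodule.span k ({Fc p F G c, G} : Set k[X]) =
      Submodule.span k ({Fc p F G c', G} : Set k[X]) := h
  have h1 : Fc p F G c ∈ Submodule.span k ({Fc p F G c', G} : Set k[X]) := by
    rw [← h']; exact Submodule.subset_span (by simp)
  obtain ⟨α, β, hαβ⟩ := Submodule.mem_span_pair.1 h1
  unfold Fc at hαβ
  simp only [Polynomial.smul_eq_C_mul] at hαβ
  have key : C (1 - α) * F = (C (α * c' - c) * X ^ p + C β) * G := by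
    rw [map_sub, map_sub, map_mul, map_one]
    linear_combination (-1 : k[X]) * hαβ
  have hα : α = 1 := by
    by_contra hne
    have hne' : (1 - α) ≠ 0 := sub_ne_zero.2 (Ne.symm hne)
    have h2 : (C (1 - α) * F).natDegree = d := by rw [Polynomial.natDegree_C_mul hne', hFd]
    have h3 : ((C (α * c' - c) * X ^ p + C β) * G).natDegree ≤ p + G.natDegree := by
      refine Polynomial.natDegree_mul_le.trans (Nat.add_le_add_right ?_ _)
      refine (Polynomial.natDegree_add_le _ _).trans (max_le ?_ ?_)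
      · exact (Polynomial.natDegree_C_mul_le _ _).trans (by rw [Polynomial.natDegree_X_pow])
      · rw [Polynomial.natDegree_C]; exact Nat.zero_le _
    rw [key] at h2
    omega
  rw [hα, sub_self, map_zero, zero_mul, one_mul] at key
  have h4 : C (c' - c) * X ^ p + C β = 0 := (mul_eq_zero.1 key.symm).resolve_right hG0
  have h5 : (C (c' - c) * X ^ p + C β : k[X]).coeff p = 0 := by rw [h4]; simp
  rw [Polynomial.coeff_add, Polynomial.coeff_C_mul, Polynomial.coeff_X_pow, if_pos rfl, mul_one,
    Polynomial.coeff_C, if_neg (show ¬ p = 0 by omega), add_zero] at h5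
  exact (sub_eq_zero.1 h5).symm

end family

end Groth.Agent.Helper6.RamD
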