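import Mathlib
import Groth.Prelude.Def_FDesc
import Groth.Agent.Lib.Helper28.SchSupport
import Groth.Agent.Lib.Helper13.PullbackStalk

/-!
# Reduced modules and restriction to a dense open (helper6)

* algebra: transport of "maximal ideal associated" and of length along `R' ⊗[R] M` when
  `R → R'` is bijective;
* stalks of the restriction of a quasi-coherent module to an open subscheme: associated points
  and lengths;
* a maximal point of a closed subset `S` of a locally Noetherian scheme lying in the closure of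
  `U ∩ S` lies in `U`.
-/

set_option autoImplicit false
set_option linter.unusedSectionVars false
set_option linter.style.haveILetI false
universe u
open CategoryTheory CategoryTheory.Limits AlgebraicGeometry TopologicalSpace TensorProduct IsLocalRing

namespace Groth.Agent.Helper6.RedModOpen

section Alg

variable {R R' : Type*} [CommRing R] [CommRing R'] [Algebra R R']
  {M : Type*} [AddCommGroup M] [Module R M]

/-- `M ≃ R' ⊗[R] M` as `R`-modules when `R → R'` is bijective. -/
noncomputable def tensorEquivOfBijective (hb : Function.Bijective (algebraMap R R')) :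
    M ≃ₗ[R] R' ⊗[R] M :=
  (TensorProduct.lid R M).symm ≪≫ₗ
    TensorProduct.congr (LinearEquiv.ofBijective (Algebra.linearMap R R') hb) (LinearEquiv.refl R M)

theorem length_tensor_of_bijective (hb : Function.Bijective (algebraMap R R')) :
    Module.length R' (R' ⊗[R] M) = Module.length R M := by
  rw [← Module.length_eq_of_surjective (S := R) (R := R') (M := R' ⊗[R] M) hb.2]
  exact (tensorEquivOfBijective (M := M) hb).length_eq.symm

theorem isAssociatedPrime_iff_of_bijective [IsLocalRing R] [IsLocalRing R']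
    {N : Type*} [AddCommGroup N] [Module R N] [Module R' N]
    [IsScalarTower R R' N] (hb : Function.Bijective (algebraMap R R')) (e : M ≃ₗ[R] N) :
    IsAssociatedPrime (maximalIdeal R') N ↔ IsAssociatedPrime (maximalIdeal R) M := by
  have hmem : ∀ a : R, algebraMap R R' a ∈ maximalIdeal R' ↔ a ∈ maximalIdeal R := by
    intro a
    rw [mem_maximalIdeal, mem_maximalIdeal, mem_nonunits_iff, mem_nonunits_iff, not_iff_not]
    exact isUnit_map_iff (RingEquiv.ofBijective (algebraMap R R') hb) a
  have hcol : ∀ (a : R) (ξ : M),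
      algebraMap R R' a ∈ ((⊥ : Submodule R' N).colon {e ξ}).radical ↔
        a ∈ ((⊥ : Submodule R M).colon {ξ}).radical := by
    intro a ξ
    rw [Ideal.mem_radical_iff, Ideal.mem_radical_iff]
    refine exists_congr fun n => ?_
    rw [Submodule.mem_colon_singleton, Submodule.mem_colon_singleton, Submodule.mem_bot,
      Submodule.mem_bot, ← map_pow, algebraMap_smul, ← map_smul, EmbeddingLike.map_eq_zero_iff]
  constructor
  · rintro ⟨-, x, hx⟩
    refine ⟨inferInstance, e.symm x, ?_⟩
    ext a
    rw [← hmem, hx, ← hcol, LinearEquiv.apply_symm_apply]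
  · rintro ⟨-, ξ, hξ⟩
    refine ⟨inferInstance, e ξ, ?_⟩
    ext a'
    obtain ⟨a, rfl⟩ := hb.2 a'
    rw [hmem, hξ, hcol]

end Alg

section Sch

variable {X : Scheme.{u}}

theorem bijective_stalkMap (U : X.Opens) (x' : U.toScheme) :
    Function.Bijective (U.ι.stalkMap x').hom :=
  ConcreteCategory.bijective_of_isIso (U.ι.stalkMap x')

/-- associated points of the restriction of a quasi-coherent module to an open subscheme -/
theorem mem_ass_restrict_iff (U : X.Opens) (F : X.Modules) [F.IsQuasicoherent] (x' : U.toScheme) :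
    x' ∈ AssSch.Ass ((Scheme.Modules.pullback U.ι).obj F) ↔ U.ι x' ∈ AssSch.Ass F := by
  letI := (U.ι.stalkMap x').hom.toAlgebra
  obtain ⟨e⟩ := Groth.Agent.Helper13.Pullback.exists_stalk_pullback_equiv U.ι F x'
  have hb : Function.Bijective
      (algebraMap (X.presheaf.stalk (U.ι x')) (U.toScheme.presheaf.stalk x')) :=
    bijective_stalkMap U x'
  change IsAssociatedPrime _ _ ↔ IsAssociatedPrime _ _
  exact (LinearEquiv.isAssociatedPrime_iff e).trans
    (isAssociatedPrime_iff_of_bijective hb (tensorEquivOfBijective hb))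

/-- lengths of the stalks of the restriction of a quasi-coherent module to an open subscheme -/
theorem length_stalk_restrict (U : X.Opens) (F : X.Modules) [F.IsQuasicoherent]
    (x' : U.toScheme) :
    Module.length (U.toScheme.presheaf.stalk x')
        (((Scheme.Modules.pullback U.ι).obj F).presheaf.stalk x') =
      Module.length (X.presheaf.stalk (U.ι x')) (F.presheaf.stalk (U.ι x')) := by
  letI := (U.ι.stalkMap x').hom.toAlgebra
  obtain ⟨e⟩ := Groth.Agent.Helper13.Pullback.exists_stalk_pullback_equiv U.ι F x'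
  have hb : Function.Bijective
      (algebraMap (X.presheaf.stalk (U.ι x')) (U.toScheme.presheaf.stalk x')) :=
    bijective_stalkMap U x'
  rw [e.length_eq]
  exact length_tensor_of_bijective hb

/-- the support of a coherent module is closed (light copy of helper26's `DevD.isClosed_support`) -/
theorem isClosed_support' (F : X.Modules) (hF : Coh.IsCoh F) : IsClosed (CohB1.support F) := by
  haveI : F.IsQuasicoherent := hF.1
  haveI : SheafOfModules.IsFiniteType (R := X.ringCatSheaf) F := hF.2
  have h : CohB1.support F = ((Groth.Agent.Helper28.SchSupport.annIdeal F).support : Set X) :=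
    (Groth.Agent.Helper28.SchSupport.support_annIdeal F).symm
  rw [h]
  exact (Groth.Agent.Helper28.SchSupport.annIdeal F).support.isClosed

end Sch

section Top

/-- In a quasi-sober space, let `W` be an open Noetherian neighbourhood of `x`, `S` closed with `x`
maximal in `S` for specialization, `U` open. If `x ∈ closure (U ∩ S)` then `x ∈ U`. -/
theorem top_aux {Y : Type*} [TopologicalSpace Y] [QuasiSober Y] (W : Set Y) (hW : IsOpen W)
    [NoetherianSpace W] (U : Set Y) (hU : IsOpen U) (S : Set Y) (hS : IsClosed S) (x : Y)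
    (hxW : x ∈ W) (hxc : x ∈ closure (U ∩ S)) (hmax : ∀ y ∈ S, y ⤳ x → y = x) : x ∈ U := by
  classical
  have hemb : Topology.IsOpenEmbedding ((↑) : W → Y) := hW.isOpenEmbedding_subtypeVal
  have hx' : (⟨x, hxW⟩ : W) ∈ closure (((↑) : W → Y) ⁻¹' (U ∩ S)) := by
    rw [← hemb.isOpenMap.preimage_closure_eq_closure_preimage continuous_subtype_val]
    exact hxc
  obtain ⟨𝒮, hfin, hcl, hirr, hEq⟩ :=
    NoetherianSpace.exists_finite_set_isClosed_irreducible
      (isClosed_closure (s := ((↑) : W → Y) ⁻¹' (U ∩ S)))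
  have hA : IsClosed (⋃ Z ∈ {Z ∈ 𝒮 | (⟨x, hxW⟩ : W) ∉ Z}, Z) :=
    (hfin.subset (Set.sep_subset _ _)).isClosed_biUnion (fun Z hZ => hcl Z hZ.1)
  have hxA : (⟨x, hxW⟩ : W) ∉ ⋃ Z ∈ {Z ∈ 𝒮 | (⟨x, hxW⟩ : W) ∉ Z}, Z := by
    intro h
    obtain ⟨Z, hZ, hxZ⟩ := Set.mem_iUnion₂.1 h
    exact hZ.2 hxZ
  obtain ⟨t, htA, htT⟩ := mem_closure_iff.mp hx' _ hA.isOpen_compl hxA
  have ht𝒮 : t ∈ ⋃₀ 𝒮 := by rw [← hEq]; exact subset_closure htT
  obtain ⟨Z, hZ𝒮, htZ⟩ := ht𝒮
  have hxZ : (⟨x, hxW⟩ : W) ∈ Z := by
    by_contra h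
    exact htA (Set.mem_iUnion₂.2 ⟨Z, ⟨hZ𝒮, h⟩, htZ⟩)
  have hZirr : IsIrreducible (closure (((↑) : W → Y) '' Z)) :=
    ((hirr Z hZ𝒮).image _ continuous_subtype_val.continuousOn).closure
  obtain ⟨ξ, hξ⟩ := QuasiSober.sober hZirr isClosed_closure
  have hclS : closure (((↑) : W → Y) ⁻¹' (U ∩ S)) ⊆ ((↑) : W → Y) ⁻¹' S :=
    closure_minimal (fun z hz => hz.2) (hS.preimage continuous_subtype_val)
  have hZS : closure (((↑) : W → Y) '' Z) ⊆ S := by
    apply closure_minimal _ hS
    rintro _ ⟨z, hzZ, rfl⟩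
    have hz : z ∈ closure (((↑) : W → Y) ⁻¹' (U ∩ S)) := by
      rw [hEq]; exact Set.mem_sUnion.2 ⟨Z, hZ𝒮, hzZ⟩
    exact hclS hz
  have hξx : ξ = x :=
    hmax ξ (hZS hξ.mem) (hξ.specializes (subset_closure ⟨⟨x, hxW⟩, hxZ, rfl⟩))
  have hxt : x ⤳ (t : Y) := by
    rw [← hξx]
    exact hξ.specializes (subset_closure ⟨t, htZ, rfl⟩)
  exact hxt.mem_open hU htT.1

theorem mem_of_maximal_of_dense {X : Scheme.{u}} [IsLocallyNoetherian X] (U : X.Opens)
    (S : Set X) (hS : IsClosed S) (x : X) (hxc : x ∈ closure ((U : Set X) ∩ S))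
    (hmax : ∀ y ∈ S, y ⤳ x → y = x) : x ∈ U := by
  obtain ⟨_, ⟨W, hW, rfl⟩, hxW, -⟩ :=
    X.isBasis_affineOpens.exists_subset_of_mem_open (Set.mem_univ x) isOpen_univ
  have hW' : IsAffineOpen W := hW
  haveI : IsNoetherianRing Γ(X, W) := IsLocallyNoetherian.component_noetherian ⟨W, hW'⟩
  haveI hN : NoetherianSpace ((W : Set X) : Type u) := noetherianSpace_of_isAffineOpen W hW'
  exact top_aux (W : Set X) W.2 (U : Set X) U.2 S hS x hxW hxc hmax

end Top

end Groth.Agent.Helper6.RedModOpen
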