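import Mathlib

/-!
# The graded map `⊕ I^{nc} → A[T_1..T_r]` attached to maps `φ_j : I^c → A`

Given `A`-linear maps `φ_j : I^c → A`, we define `Phi n g = Σ_j Phi (n-1) (φ_j g) * T_j`
(for `g ∈ I^c`), and prove additivity, linearity, homogeneity, multiplicativity,
`aeval f (Phi n g) = g` when `x = Σ f_j φ_j x`, and uniqueness.
-/

set_option autoImplicit false
set_option linter.style.haveILetI false
universe u
open scoped BigOperators

namespace Groth.Agent.Helper6.ReesPhi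

variable {A : Type u} [CommRing A] {r : ℕ} (I : Ideal A) (c : ℕ) (φ : Fin r → (↥(I ^ c) →ₗ[A] A))

open Classical in
/-- The recursive definition of the graded map. -/
noncomputable def Phi (n : ℕ) : A → MvPolynomial (Fin r) A :=
  Nat.rec (fun a => MvPolynomial.C a)
    (fun _ F g => if hg : g ∈ I ^ c then ∑ j, F (φ j ⟨g, hg⟩) * MvPolynomial.X j else 0) n

theorem Phi_zero (a : A) : Phi I c φ 0 a = MvPolynomial.C a := rfl

theorem Phi_succ (n : ℕ) (g : A) (hg : g ∈ I ^ c) :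
    Phi I c φ (n + 1) g = ∑ j, Phi I c φ n (φ j ⟨g, hg⟩) * MvPolynomial.X j := by
  classical
  change (if hg : g ∈ I ^ c then ∑ j, Phi I c φ n (φ j ⟨g, hg⟩) * MvPolynomial.X j else 0) = _
  rw [dif_pos hg]

theorem le_c (n : ℕ) : I ^ ((n + 1) * c) ≤ I ^ c :=
  Ideal.pow_le_pow_right (Nat.le_mul_of_pos_left c (Nat.succ_pos n))

theorem phi_mem (n : ℕ) (j : Fin r) (x : ↥(I ^ c)) (hx : (x : A) ∈ I ^ ((n + 1) * c)) :
    φ j x ∈ I ^ (n * c) := by
  have h1 : x ∈ (I ^ (n * c)) • (⊤ : Submodule A ↥(I ^ c)) := by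
    rw [Submodule.mem_smul_top_iff]
    have h : (n + 1) * c = n * c + c := Nat.succ_mul n c
    rw [h, pow_add] at hx
    exact hx
  have h2 : φ j x ∈ Submodule.map (φ j) ((I ^ (n * c)) • (⊤ : Submodule A ↥(I ^ c))) :=
    Submodule.mem_map_of_mem h1
  rw [Submodule.map_smul''] at h2
  exact Submodule.smul_le.mpr (fun a ha b _ => Ideal.mul_mem_right b _ ha) h2

theorem Phi_add (n : ℕ) : ∀ g ∈ I ^ (n * c), ∀ h ∈ I ^ (n * c),
    Phi I c φ n (g + h) = Phi I c φ n g + Phi I c φ n h := by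
  induction n with
  | zero =>
    intro g _ h _
    rw [Phi_zero, Phi_zero, Phi_zero, map_add]
  | succ n ih =>
    intro g hg h hh
    have hg' := le_c I c n hg
    have hh' := le_c I c n hh
    rw [Phi_succ I c φ n g hg', Phi_succ I c φ n h hh',
      Phi_succ I c φ n (g + h) (Ideal.add_mem _ hg' hh'), ← Finset.sum_add_distrib]
    refine Finset.sum_congr rfl fun j _ => ?_
    have e : φ j ⟨g + h, Ideal.add_mem _ hg' hh'⟩ = φ j ⟨g, hg'⟩ + φ j ⟨h, hh'⟩ := by
      rw [← map_add]; rfl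
    rw [e, ih _ (phi_mem I c φ n j ⟨g, hg'⟩ hg) _ (phi_mem I c φ n j ⟨h, hh'⟩ hh), add_mul]

theorem Phi_smul (n : ℕ) : ∀ (a : A), ∀ g ∈ I ^ (n * c),
    Phi I c φ n (a * g) = a • Phi I c φ n g := by
  induction n with
  | zero =>
    intro a g _
    rw [Phi_zero, Phi_zero, MvPolynomial.smul_eq_C_mul, map_mul]
  | succ n ih =>
    intro a g hg
    have hg' := le_c I c n hg
    rw [Phi_succ I c φ n g hg', Phi_succ I c φ n (a * g) (Ideal.mul_mem_left _ a hg'),
      Finset.smul_sum]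
    refine Finset.sum_congr rfl fun j _ => ?_
    have e : φ j ⟨a * g, Ideal.mul_mem_left _ a hg'⟩ = a * φ j ⟨g, hg'⟩ := by
      have : (⟨a * g, Ideal.mul_mem_left _ a hg'⟩ : ↥(I ^ c)) = a • ⟨g, hg'⟩ := rfl
      rw [this, map_smul, smul_eq_mul]
    rw [e, ih a _ (phi_mem I c φ n j ⟨g, hg'⟩ hg), smul_mul_assoc]

theorem Phi_hom (n : ℕ) : ∀ g ∈ I ^ (n * c), (Phi I c φ n g).IsHomogeneous n := by
  induction n with
  | zero =>
    intro g _
    rw [Phi_zero]
    exact MvPolynomial.isHomogeneous_C _ _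
  | succ n ih =>
    intro g hg
    have hg' := le_c I c n hg
    rw [Phi_succ I c φ n g hg']
    refine MvPolynomial.IsHomogeneous.sum _ _ _ fun j _ => ?_
    exact (ih _ (phi_mem I c φ n j ⟨g, hg'⟩ hg)).mul (MvPolynomial.isHomogeneous_X A j)

theorem Phi_mul (n m : ℕ) : ∀ g ∈ I ^ (n * c), ∀ h ∈ I ^ (m * c),
    Phi I c φ (n + m) (g * h) = Phi I c φ n g * Phi I c φ m h := by
  induction n with
  | zero =>
    intro g _ h hh
    rw [Nat.zero_add, Phi_smul I c φ m g h hh, Phi_zero, MvPolynomial.smul_eq_C_mul]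
  | succ n ih =>
    intro g hg h hh
    have hg' := le_c I c n hg
    have hgh : g * h ∈ I ^ c := Ideal.mul_mem_right h _ hg'
    have hnm : n + 1 + m = n + m + 1 := Nat.add_right_comm n 1 m
    rw [hnm, Phi_succ I c φ (n + m) (g * h) hgh, Phi_succ I c φ n g hg', Finset.sum_mul]
    refine Finset.sum_congr rfl fun j _ => ?_
    have e : φ j ⟨g * h, hgh⟩ = φ j ⟨g, hg'⟩ * h := by
      have : (⟨g * h, hgh⟩ : ↥(I ^ c)) = h • ⟨g, hg'⟩ := by
        apply Subtype.ext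
        change g * h = h * g
        exact mul_comm g h
      rw [this, map_smul, smul_eq_mul, mul_comm]
    rw [e, ih _ (phi_mem I c φ n j ⟨g, hg'⟩ hg) h hh, mul_right_comm]

theorem Phi_one (g : A) (hg : g ∈ I ^ c) :
    Phi I c φ 1 g = ∑ j, MvPolynomial.C (φ j ⟨g, hg⟩) * MvPolynomial.X j :=
  Phi_succ I c φ 0 g hg

theorem Phi_aeval (f : Fin r → A) (hφ : ∀ x : ↥(I ^ c), (x : A) = ∑ j, f j * φ j x) (n : ℕ) :
    ∀ g ∈ I ^ (n * c), MvPolynomial.aeval f (Phi I c φ n g) = g := by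
  induction n with
  | zero =>
    intro g _
    rw [Phi_zero, MvPolynomial.aeval_C]
    rfl
  | succ n ih =>
    intro g hg
    have hg' := le_c I c n hg
    rw [Phi_succ I c φ n g hg', map_sum]
    have h2 := hφ ⟨g, hg'⟩
    change g = _ at h2
    conv_rhs => rw [h2]
    refine Finset.sum_congr rfl fun j _ => ?_
    rw [map_mul, MvPolynomial.aeval_X, ih _ (phi_mem I c φ n j ⟨g, hg'⟩ hg), mul_comm]

/-- Uniqueness. -/
theorem Phi_unique (Ψ : ℕ → A → MvPolynomial (Fin r) A)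
    (hadd : ∀ n : ℕ, ∀ g ∈ I ^ (n * c), ∀ h ∈ I ^ (n * c), Ψ n (g + h) = Ψ n g + Ψ n h)
    (hmul : ∀ n m : ℕ, ∀ g ∈ I ^ (n * c), ∀ h ∈ I ^ (m * c), Ψ (n + m) (g * h) = Ψ n g * Ψ m h)
    (h0 : ∀ a : A, Ψ 0 a = MvPolynomial.C a)
    (h1 : ∀ (g : A) (hg : g ∈ I ^ c),
      Ψ 1 g = ∑ j, MvPolynomial.C (φ j ⟨g, hg⟩) * MvPolynomial.X j) (n : ℕ) :
    ∀ g ∈ I ^ (n * c), Ψ n g = Phi I c φ n g := by
  induction n with
  | zero =>
    intro g _
    rw [h0, Phi_zero]
  | succ n ih =>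
    intro g hg
    have hsplit : (n + 1) * c = n * c + c := Nat.succ_mul n c
    have hg2 : g ∈ I ^ (n * c) * I ^ c := by
      rw [← pow_add, ← hsplit]; exact hg
    have key : g ∈ I ^ ((n + 1) * c) ∧ Ψ (n + 1) g = Phi I c φ (n + 1) g := by
      refine Submodule.mul_induction_on hg2 ?_ ?_
      · intro a ha b hb
        have hb1 : b ∈ I ^ (1 * c) := by rw [Nat.one_mul]; exact hb
        refine ⟨?_, ?_⟩
        · rw [hsplit, pow_add]; exact Ideal.mul_mem_mul ha hb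
        · rw [hmul n 1 a ha b hb1, Phi_mul I c φ n 1 a ha b hb1, ih a ha, h1 b hb,
            Phi_one I c φ b hb]
      · intro x y hx hy
        refine ⟨Ideal.add_mem _ hx.1 hy.1, ?_⟩
        rw [hadd (n + 1) x hx.1 y hy.1, Phi_add I c φ (n + 1) x hx.1 y hy.1, hx.2, hy.2]
    exact key.2

end Groth.Agent.Helper6.ReesPhi
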