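import Groth.Agent.Lib.Helper6.ReesPhiA

/-!
# The module version: `Ψ_n : I^{nc'} N → N[T_1..T_r]`
-/

set_option autoImplicit false
set_option linter.style.haveILetI false
universe u
open scoped BigOperators TensorProduct

namespace Groth.Agent.Helper6.ReesPhi

section General

/-- Factor a linear map through the range of another, restricted to a submodule of the range. -/
theorem exists_factor {R M N T : Type*} [CommRing R] [AddCommGroup M] [Module R M]
    [AddCommGroup N] [Module R N] [AddCommGroup T] [Module R T]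
    (π : M →ₗ[R] N) (F : M →ₗ[R] T) (hk : LinearMap.ker π ≤ LinearMap.ker F)
    (Q : Submodule R N) (hQ : Q ≤ LinearMap.range π) :
    ∃ Ψ : Q →ₗ[R] T, ∀ (m : M) (h : π m ∈ Q), Ψ ⟨π m, h⟩ = F m := by
  refine ⟨((LinearMap.ker π).liftQ F hk) ∘ₗ (π.quotKerEquivRange).symm.toLinearMap ∘ₗ
    Submodule.inclusion hQ, ?_⟩
  intro m h
  have h1 : (π.quotKerEquivRange).symm (Submodule.inclusion hQ ⟨π m, h⟩) =
      Submodule.Quotient.mk m := by
    rw [LinearEquiv.symm_apply_eq]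
    apply Subtype.ext
    rw [LinearMap.quotKerEquivRange_apply_mk]
    rfl
  rw [LinearMap.comp_apply, LinearMap.comp_apply, LinearEquiv.coe_coe, h1, Submodule.liftQ_apply]

/-- Two linear maps on a span agreeing on generators are equal. -/
theorem ext_span {R N T : Type*} [CommRing R] [AddCommGroup N] [Module R N]
    [AddCommGroup T] [Module R T] (S : Set N) (u v : ↥(Submodule.span R S) →ₗ[R] T)
    (h : ∀ y (hy : y ∈ S), u ⟨y, Submodule.subset_span hy⟩ = v ⟨y, Submodule.subset_span hy⟩) :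
    u = v := by
  apply LinearMap.ext
  rintro ⟨y, hy⟩
  refine Submodule.span_induction (p := fun y hy => u ⟨y, hy⟩ = v ⟨y, hy⟩) ?_ ?_ ?_ ?_ hy
  · intro x hx
    exact h x hx
  · have : (⟨0, Submodule.zero_mem _⟩ : ↥(Submodule.span R S)) = 0 := rfl
    rw [this, map_zero, map_zero]
  · intro x y hx hy h1 h2
    have : (⟨x + y, Submodule.add_mem _ hx hy⟩ : ↥(Submodule.span R S)) = ⟨x, hx⟩ + ⟨y, hy⟩ := rfl
    rw [this, map_add, map_add, h1, h2]
  · intro a x hx h1
    have : (⟨a • x, Submodule.smul_mem _ a hx⟩ : ↥(Submodule.span R S)) = a • ⟨x, hx⟩ := rfl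
    rw [this, map_smul, map_smul, h1]

end General

section Torsion

variable {A : Type u} [CommRing A] (I : Ideal A) (B : Type u) [CommRing B] [Algebra A B]
  (N : Type u) [AddCommGroup N] [Module B N]

/-- The elements of `N` killed by `I^k`. -/
def Gam (k : ℕ) : Submodule B N where
  carrier := {x | ∀ h ∈ I ^ k, algebraMap A B h • x = 0}
  add_mem' := fun {x y} hx hy h hh => by rw [smul_add, hx h hh, hy h hh, add_zero]
  zero_mem' := fun h _ => smul_zero _
  smul_mem' := fun b x hx h hh => by rw [smul_comm, hx h hh, smul_zero]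

theorem mem_Gam (k : ℕ) (x : N) : x ∈ Gam I B N k ↔ ∀ h ∈ I ^ k, algebraMap A B h • x = 0 :=
  Iff.rfl

theorem Gam_mono : Monotone (Gam I B N) := fun _ _ hkk' _ hx h hh =>
  hx h (Ideal.pow_le_pow_right hkk' hh)

/-- Artin–Rees consequence: `I^d N` meets the `I`-power torsion trivially for `d` large. -/
theorem exists_AR [IsNoetherianRing B] [Module.Finite B N] :
    ∃ d : ℕ, ∀ y ∈ ((I ^ d).map (algebraMap A B)) • (⊤ : Submodule B N),
      ∀ k : ℕ, (∀ h ∈ I ^ k, algebraMap A B h • y = 0) → y = 0 := by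
  haveI : IsNoetherian B N := isNoetherian_of_isNoetherianRing_of_finite B N
  obtain ⟨t, ht⟩ := monotone_stabilizes_iff_noetherian.mpr ‹IsNoetherian B N›
    ⟨Gam I B N, Gam_mono I B N⟩
  have ht' : ∀ m, t ≤ m → Gam I B N t = Gam I B N m := ht
  have hmem : ∀ k (y : N), (∀ h ∈ I ^ k, algebraMap A B h • y = 0) → y ∈ Gam I B N t := by
    intro k y hy
    have h1 : y ∈ Gam I B N (max k t) := Gam_mono I B N (le_max_left k t) hy
    rw [ht' (max k t) (le_max_right k t)]
    exact h1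
  obtain ⟨IB, hIB⟩ : ∃ IB : Ideal B, IB = I.map (algebraMap A B) := ⟨_, rfl⟩
  have hkill : IB ^ t • Gam I B N t = ⊥ := by
    rw [eq_bot_iff, Submodule.smul_le]
    intro b hb x hx
    rw [Submodule.mem_bot]
    have h2 : (I ^ t).map (algebraMap A B) ≤ LinearMap.ker (LinearMap.toSpanSingleton B N x) := by
      rw [Ideal.map_le_iff_le_comap]
      intro a ha
      rw [Ideal.mem_comap, LinearMap.mem_ker, LinearMap.toSpanSingleton_apply]
      exact hx a ha
    rw [hIB, ← Ideal.map_pow] at hb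
    have h3 := h2 hb
    rwa [LinearMap.mem_ker, LinearMap.toSpanSingleton_apply] at h3
  obtain ⟨k0, hk0⟩ := Ideal.exists_pow_inf_eq_pow_smul IB (Gam I B N t)
  refine ⟨k0 + t, ?_⟩
  intro y hy k hyk
  have h1 : y ∈ IB ^ (k0 + t) • (⊤ : Submodule B N) ⊓ Gam I B N t := by
    refine ⟨?_, hmem k y hyk⟩
    rw [hIB, ← Ideal.map_pow]; exact hy
  rw [hk0 (k0 + t) (Nat.le_add_right k0 t), Nat.add_sub_cancel_left] at h1
  have h2 : IB ^ t • (IB ^ k0 • ⊤ ⊓ Gam I B N t) ≤ IB ^ t • Gam I B N t :=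
    Submodule.smul_mono le_rfl inf_le_right
  have h3 := h2 h1
  rw [hkill] at h3
  exact (Submodule.mem_bot B).mp h3

end Torsion

section Key

variable {A : Type u} [CommRing A] {r : ℕ} (I : Ideal A) (c : ℕ) (φ : Fin r → (↥(I ^ c) →ₗ[A] A))
  {B : Type u} [CommRing B] [Algebra A B] {N : Type u} [AddCommGroup N] [Module B N]

theorem phi_mem' (J : Ideal A) (j : Fin r) (x : ↥(I ^ c)) (hx : (x : A) ∈ J * I ^ c) :
    φ j x ∈ J := by
  have h1 : x ∈ J • (⊤ : Submodule A ↥(I ^ c)) := by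
    rw [Submodule.mem_smul_top_iff]
    exact hx
  have h2 : φ j x ∈ Submodule.map (φ j) (J • (⊤ : Submodule A ↥(I ^ c))) :=
    Submodule.mem_map_of_mem h1
  rw [Submodule.map_smul''] at h2
  exact Submodule.smul_le.mpr (fun a ha b _ => Ideal.mul_mem_right b _ ha) h2

theorem key (J : Ideal A) (hφJ : ∀ j (x : ↥(I ^ c)), φ j x ∈ J)
    (hAR : ∀ y ∈ (J.map (algebraMap A B)) • (⊤ : Submodule B N),
      (∀ h ∈ I ^ c, algebraMap A B h • y = 0) → y = 0) (n : ℕ) :
    ∀ (ι : Type u) (s : Finset ι) (g : ι → A) (x : ι → N), (∀ k, g k ∈ I ^ (n * c)) →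
      ∑ k ∈ s, algebraMap A B (g k) • x k = 0 →
      ∑ k ∈ s, (MvPolynomial.map (algebraMap A B) (Phi I c φ n (g k))) ⊗ₜ[B] x k =
        (0 : MvPolynomial (Fin r) B ⊗[B] N) := by
  induction n with
  | zero =>
    intro ι s g x _ h
    have h1 : ∀ k, MvPolynomial.map (algebraMap A B) (Phi I c φ 0 (g k)) ⊗ₜ[B] x k =
        (1 : MvPolynomial (Fin r) B) ⊗ₜ[B] (algebraMap A B (g k) • x k) := by
      intro k
      rw [Phi_zero, MvPolynomial.map_C, TensorProduct.tmul_smul, TensorProduct.smul_tmul',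
        MvPolynomial.smul_eq_C_mul, mul_one]
    rw [Finset.sum_congr rfl (fun k _ => h1 k), ← TensorProduct.tmul_sum, h,
      TensorProduct.tmul_zero]
  | succ n ih =>
    intro ι s g x hg h
    have hg' : ∀ k, g k ∈ I ^ c := fun k => le_c I c n (hg k)
    have hy : ∀ j, ∑ k ∈ s, algebraMap A B (φ j ⟨g k, hg' k⟩) • x k = 0 := by
      intro j
      apply hAR
      · refine Submodule.sum_mem _ fun k _ => ?_
        exact Submodule.smul_mem_smul (Ideal.mem_map_of_mem _ (hφJ j _)) Submodule.mem_top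
      · intro h' hh'
        rw [Finset.smul_sum]
        have h2 : ∀ k, algebraMap A B h' • algebraMap A B (φ j ⟨g k, hg' k⟩) • x k =
            algebraMap A B (φ j ⟨h', hh'⟩) • (algebraMap A B (g k) • x k) := by
          intro k
          have e1 : h' • (⟨g k, hg' k⟩ : ↥(I ^ c)) = g k • (⟨h', hh'⟩ : ↥(I ^ c)) := by
            apply Subtype.ext
            change h' * g k = g k * h'
            exact mul_comm _ _
          have e2 := congrArg (φ j) e1
          rw [map_smul, map_smul, smul_eq_mul, smul_eq_mul] at e2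
          rw [smul_smul, smul_smul, ← map_mul, ← map_mul, e2, mul_comm]
        rw [Finset.sum_congr rfl (fun k _ => h2 k), ← Finset.smul_sum, h, smul_zero]
    have hterm : ∀ k, MvPolynomial.map (algebraMap A B) (Phi I c φ (n + 1) (g k)) ⊗ₜ[B] x k =
        ∑ j, (LinearMap.rTensor N
          (LinearMap.mulRight B (MvPolynomial.X j : MvPolynomial (Fin r) B)))
          (MvPolynomial.map (algebraMap A B) (Phi I c φ n (φ j ⟨g k, hg' k⟩)) ⊗ₜ[B] x k) := by
      intro k
      rw [Phi_succ I c φ n (g k) (hg' k), map_sum, TensorProduct.sum_tmul]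
      refine Finset.sum_congr rfl fun j _ => ?_
      rw [LinearMap.rTensor_tmul, LinearMap.mulRight_apply, map_mul, MvPolynomial.map_X]
    rw [Finset.sum_congr rfl (fun k _ => hterm k), Finset.sum_comm]
    refine Finset.sum_eq_zero fun j _ => ?_
    rw [← map_sum, ih ι s (fun k => φ j ⟨g k, hg' k⟩) x
      (fun k => phi_mem I c φ n j ⟨g k, hg' k⟩ (hg k)) (hy j), map_zero]

end Key

end Groth.Agent.Helper6.ReesPhi

namespace Groth.Agent.Helper6.ReesPhi

section Main

theorem main (A : Type u) [CommRing A] (r : ℕ) (f : Fin r → A) (I : Ideal A) (c : ℕ)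
    (φ : Fin r → (↥(I ^ c) →ₗ[A] A)) (hφ : ∀ x : ↥(I ^ c), (x : A) = ∑ j, f j * φ j x)
    (B : Type u) [CommRing B] [Algebra A B] [IsNoetherianRing B] (N : Type u) [AddCommGroup N]
    [Module B N] [Module.Finite B N] :
    ∃ c' : ℕ, ∃ hcc' : c ≤ c', ∀ Φ : ℕ → A → MvPolynomial (Fin r) A,
      ((∀ n : ℕ, ∀ g ∈ I ^ (n * c'), ∀ h ∈ I ^ (n * c'), Φ n (g + h) = Φ n g + Φ n h) ∧
        (∀ (n : ℕ) (a : A), ∀ g ∈ I ^ (n * c'), Φ n (a * g) = a • Φ n g) ∧
        (∀ n : ℕ, ∀ g ∈ I ^ (n * c'), (Φ n g).IsHomogeneous n) ∧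
        (∀ n m : ℕ, ∀ g ∈ I ^ (n * c'), ∀ h ∈ I ^ (m * c'), Φ (n + m) (g * h) = Φ n g * Φ m h) ∧
        (∀ a : A, Φ 0 a = MvPolynomial.C a) ∧
        (∀ (g : A) (hg : g ∈ I ^ c'), Φ 1 g =
          ∑ j, MvPolynomial.C (φ j ⟨g, Ideal.pow_le_pow_right hcc' hg⟩) * MvPolynomial.X j)) →
      ∀ n : ℕ, ∃ Ψ : ↥(Submodule.span B {y : N | ∃ g ∈ I ^ (n * c'), ∃ x : N,
          y = algebraMap A B g • x}) →ₗ[B] (MvPolynomial (Fin r) B ⊗[B] N),
        (∀ (g : A) (hg : g ∈ I ^ (n * c')) (x : N),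
          Ψ ⟨algebraMap A B g • x, Submodule.subset_span ⟨g, hg, x, rfl⟩⟩ =
            MvPolynomial.map (algebraMap A B) (Φ n g) ⊗ₜ[B] x) ∧
        (∀ y : ↥(Submodule.span B {y : N | ∃ g ∈ I ^ (n * c'), ∃ x : N,
            y = algebraMap A B g • x}),
          TensorProduct.lift ((LinearMap.lsmul B N).comp
            (MvPolynomial.aeval (fun j ↦ algebraMap A B (f j))).toLinearMap) (Ψ y) = (y : N)) ∧
        (∀ Ψ' : ↥(Submodule.span B {y : N | ∃ g ∈ I ^ (n * c'), ∃ x : N,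
            y = algebraMap A B g • x}) →ₗ[B] (MvPolynomial (Fin r) B ⊗[B] N),
          (∀ (g : A) (hg : g ∈ I ^ (n * c')) (x : N),
            Ψ' ⟨algebraMap A B g • x, Submodule.subset_span ⟨g, hg, x, rfl⟩⟩ =
              MvPolynomial.map (algebraMap A B) (Φ n g) ⊗ₜ[B] x) → Ψ' = Ψ) := by
  obtain ⟨d, hd⟩ := exists_AR I B N
  have hcc' : c ≤ d + c := Nat.le_add_left c d
  refine ⟨d + c, hcc', ?_⟩
  intro Φ hΦ n
  -- the restricted maps
  obtain ⟨φ', hφ'⟩ : ∃ φ' : Fin r → (↥(I ^ (d + c)) →ₗ[A] A),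
      ∀ j (g : A) (hg : g ∈ I ^ (d + c)), φ' j ⟨g, hg⟩ = φ j ⟨g, Ideal.pow_le_pow_right hcc' hg⟩ := by
    refine ⟨fun j => (φ j).comp (Submodule.inclusion (Ideal.pow_le_pow_right hcc')), ?_⟩
    intro j g hg
    rfl
  have hφ'sum : ∀ x : ↥(I ^ (d + c)), (x : A) = ∑ j, f j * φ' j x := by
    rintro ⟨g, hg⟩
    have h1 := hφ ⟨g, Ideal.pow_le_pow_right hcc' hg⟩
    rw [Finset.sum_congr rfl (fun j _ => by rw [hφ' j g hg])]
    exact h1
  have hφJ : ∀ j (x : ↥(I ^ (d + c))), φ' j x ∈ I ^ d := by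
    rintro j ⟨g, hg⟩
    rw [hφ' j g hg]
    apply phi_mem' I c φ (I ^ d) j
    change g ∈ I ^ d * I ^ c
    rw [← pow_add]
    exact hg
  have hAR : ∀ y ∈ ((I ^ d).map (algebraMap A B)) • (⊤ : Submodule B N),
      (∀ h ∈ I ^ (d + c), algebraMap A B h • y = 0) → y = 0 :=
    fun y hy hk => hd y hy (d + c) hk
  have hΦeq : ∀ g ∈ I ^ (n * (d + c)), Φ n g = Phi I (d + c) φ' n g := by
    refine Phi_unique I (d + c) φ' Φ hΦ.1 hΦ.2.2.2.1 hΦ.2.2.2.2.1 ?_ n
    intro g hg
    rw [hΦ.2.2.2.2.2 g hg]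
    refine Finset.sum_congr rfl fun j _ => ?_
    rw [hφ' j g hg]
  -- the presentation
  obtain ⟨v, hv⟩ : ∃ v : ↥(I ^ (n * (d + c))) × N → N,
      ∀ p, v p = algebraMap A B (p.1 : A) • p.2 := ⟨_, fun _ => rfl⟩
  obtain ⟨w, hw⟩ : ∃ w : ↥(I ^ (n * (d + c))) × N → MvPolynomial (Fin r) B ⊗[B] N,
      ∀ p, w p = MvPolynomial.map (algebraMap A B) (Φ n (p.1 : A)) ⊗ₜ[B] p.2 := ⟨_, fun _ => rfl⟩
  have hk : LinearMap.ker (Finsupp.linearCombination B v) ≤
      LinearMap.ker (Finsupp.linearCombination B w) := by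
    intro l hl
    rw [LinearMap.mem_ker, Finsupp.linearCombination_apply, Finsupp.sum] at hl ⊢
    have h1 : ∀ p ∈ l.support, l p • w p =
        MvPolynomial.map (algebraMap A B) (Phi I (d + c) φ' n (p.1 : A)) ⊗ₜ[B] (l p • p.2) := by
      intro p _
      rw [hw, hΦeq _ p.1.2, TensorProduct.tmul_smul]
    rw [Finset.sum_congr rfl h1]
    apply key I (d + c) φ' (I ^ d) hφJ hAR n _ l.support (fun p => (p.1 : A)) (fun p => l p • p.2)
      (fun p => p.1.2)
    rw [← hl]
    refine Finset.sum_congr rfl fun p _ => ?_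
    rw [hv, smul_comm]
  have hQ : Submodule.span B {y : N | ∃ g ∈ I ^ (n * (d + c)), ∃ x : N,
      y = algebraMap A B g • x} ≤ LinearMap.range (Finsupp.linearCombination B v) := by
    rw [Submodule.span_le]
    rintro y ⟨g, hg, x, rfl⟩
    refine ⟨Finsupp.single (⟨g, hg⟩, x) 1, ?_⟩
    rw [Finsupp.linearCombination_single, one_smul, hv]
  obtain ⟨Ψ, hΨ⟩ := exists_factor (Finsupp.linearCombination B v) (Finsupp.linearCombination B w)
    hk _ hQ
  have hΨ1 : ∀ (g : A) (hg : g ∈ I ^ (n * (d + c))) (x : N),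
      Ψ ⟨algebraMap A B g • x, Submodule.subset_span ⟨g, hg, x, rfl⟩⟩ =
        MvPolynomial.map (algebraMap A B) (Φ n g) ⊗ₜ[B] x := by
    intro g hg x
    have e : Finsupp.linearCombination B v (Finsupp.single (⟨g, hg⟩, x) 1) =
        algebraMap A B g • x := by
      rw [Finsupp.linearCombination_single, one_smul, hv]
    have hmem : Finsupp.linearCombination B v (Finsupp.single (⟨g, hg⟩, x) 1) ∈
        Submodule.span B {y : N | ∃ g ∈ I ^ (n * (d + c)), ∃ x : N,
          y = algebraMap A B g • x} := by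
      rw [e]; exact Submodule.subset_span ⟨g, hg, x, rfl⟩
    have h2 := hΨ (Finsupp.single (⟨g, hg⟩, x) 1) hmem
    have h3 : Finsupp.linearCombination B w (Finsupp.single (⟨g, hg⟩, x) 1) =
        MvPolynomial.map (algebraMap A B) (Φ n g) ⊗ₜ[B] x := by
      rw [Finsupp.linearCombination_single, one_smul, hw]
    rw [← h3, ← h2]
    congr 1
    exact Subtype.ext e.symm
  refine ⟨Ψ, hΨ1, ?_, ?_⟩
  · -- compatibility with evaluation
    intro y
    have h3 : (TensorProduct.lift ((LinearMap.lsmul B N).comp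
        (MvPolynomial.aeval (fun j ↦ algebraMap A B (f j))).toLinearMap)) ∘ₗ Ψ =
        Submodule.subtype _ := by
      apply ext_span
      rintro y ⟨g, hg, x, rfl⟩
      rw [LinearMap.comp_apply, hΨ1 g hg x, TensorProduct.lift.tmul, LinearMap.comp_apply,
        LinearMap.lsmul_apply, AlgHom.toLinearMap_apply, MvPolynomial.aeval_map_algebraMap,
        hΦeq g hg]
      have h4 : (fun j ↦ algebraMap A B (f j)) = algebraMap A B ∘ f := rfl
      rw [h4, MvPolynomial.aeval_algebraMap_apply, Phi_aeval I (d + c) φ' f hφ'sum n g hg]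
      rfl
    exact LinearMap.congr_fun h3 y
  · intro Ψ' hΨ'
    apply ext_span
    rintro y ⟨g, hg, x, rfl⟩
    rw [hΨ' g hg x, hΨ1 g hg x]

end Main

end Groth.Agent.Helper6.ReesPhi
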