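import Mathlib

/-!
# A module-finite integral closure is reflexive (helper6, for S6881)
-/

set_option autoImplicit false

namespace Groth.Agent.Helper6.ReflIC

open Module

universe u
variable {A K L : Type u} [CommRing A] [IsDomain A] [Field K] [Algebra A K] [IsFractionRing A K]
  [Field L] [Algebra K L] [Algebra A L] [IsScalarTower A K L]

theorem linj : Function.Injective (Algebra.linearMap A K) := by
  intro x y h
  exact IsFractionRing.injective A K (by simpa using h)

/-- lift a `K`-valued `A`-linear map with values in `A` to an `A`-valued one. -/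
noncomputable def liftToA {M : Type*} [AddCommGroup M] [Module A M] (f : M →ₗ[A] K)
    (hf : ∀ m, f m ∈ LinearMap.range (Algebra.linearMap A K)) : M →ₗ[A] A :=
  (LinearEquiv.ofInjective (Algebra.linearMap A K) linj).symm.toLinearMap.comp
    (f.codRestrict (LinearMap.range (Algebra.linearMap A K)) hf)

theorem algebraMap_liftToA {M : Type*} [AddCommGroup M] [Module A M] (f : M →ₗ[A] K)
    (hf : ∀ m, f m ∈ LinearMap.range (Algebra.linearMap A K)) (m : M) :
    algebraMap A K (liftToA f hf m) = f m := by
  have h := LinearEquiv.apply_symm_apply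
    (LinearEquiv.ofInjective (Algebra.linearMap A K) linj)
    (f.codRestrict (LinearMap.range (Algebra.linearMap A K)) hf m)
  have h2 := congrArg Subtype.val h
  rw [LinearEquiv.ofInjective_apply] at h2
  exact h2

theorem algebraMap_ne_zero {s₀ : A} (hs₀ : s₀ ≠ 0) : algebraMap A K s₀ ≠ 0 := fun h =>
  hs₀ (IsFractionRing.injective A K (by rw [h, map_zero]))

section
variable {ι : Type*} [Fintype ι] (b : Basis ι K L) (hb : ∀ i, IsIntegral A (b i))


theorem exists_denominator [Module.Finite A ↥(integralClosure A L)] :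
    ∃ s₀ : A, s₀ ≠ 0 ∧ ∀ (z : ↥(integralClosure A L)) (i : ι),
      s₀ • b.repr (z : L) i ∈ LinearMap.range (Algebra.linearMap A K) := by
  classical
  obtain ⟨G, hG⟩ := (Module.Finite.fg_top : (⊤ : Submodule A ↥(integralClosure A L)).FG)
  obtain ⟨t, ht⟩ := IsLocalization.exist_integer_multiples (nonZeroDivisors A)
    (Finset.univ : Finset (↥G × ι)) (fun p => b.repr ((p.1 : ↥(integralClosure A L)) : L) p.2)
  refine ⟨(t : A), nonZeroDivisors.coe_ne_zero t, ?_⟩
  intro z i
  obtain ⟨f, hf⟩ : ∃ f : ↥(integralClosure A L) →ₗ[A] K, ∀ z : ↥(integralClosure A L), f z = (t : A) • b.repr (z : L) i :=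
    ⟨(t : A) • (((b.coord i).restrictScalars A).comp (integralClosure A L).val.toLinearMap),
      fun z => rfl⟩
  have hle : Submodule.span A (G : Set ↥(integralClosure A L))
      ≤ Submodule.comap f (LinearMap.range (Algebra.linearMap A K)) := by
    rw [Submodule.span_le]
    intro g hg
    obtain ⟨a, ha⟩ := ht (⟨g, hg⟩, i) (Finset.mem_univ _)
    show f g ∈ LinearMap.range (Algebra.linearMap A K)
    rw [hf]
    exact ⟨a, ha⟩
  have hz : z ∈ Submodule.span A (G : Set ↥(integralClosure A L)) := by rw [hG]; trivial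
  have := hle hz
  rw [Submodule.mem_comap, hf] at this
  exact this

/-- the extension of a functional on the integral closure to a `K`-linear functional on `L`. -/
noncomputable def extK (φ : ↥(integralClosure A L) →ₗ[A] A) : L →ₗ[K] K :=
  b.constr K (fun i => algebraMap A K (φ ⟨b i, hb i⟩))

theorem extK_basis (φ : ↥(integralClosure A L) →ₗ[A] A) (i : ι) :
    extK b hb φ (b i) = algebraMap A K (φ ⟨b i, hb i⟩) := by
  unfold extK; rw [Basis.constr_basis]

variable (s₀ : A) (hs₀ : s₀ ≠ 0)
  (hs : ∀ (z : ↥(integralClosure A L)) (i : ι), s₀ • b.repr (z : L) i ∈ LinearMap.range (Algebra.linearMap A K))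

/-- scaled coordinate functionals. -/
noncomputable def coordFun (i : ι) : ↥(integralClosure A L) →ₗ[A] A :=
  liftToA (s₀ • (((b.coord i).restrictScalars A).comp (integralClosure A L).val.toLinearMap))
    (fun z => hs z i)

theorem algebraMap_coordFun (i : ι) (z : ↥(integralClosure A L)) :
    algebraMap A K (coordFun b s₀ hs i z) = s₀ • b.repr (z : L) i :=
  algebraMap_liftToA _ _ z

theorem smul_eq_sum (z : ↥(integralClosure A L)) : s₀ • (z : L) = ∑ i, coordFun b s₀ hs i z • b i := by
  have h1 : ∀ i, coordFun b s₀ hs i z • b i = s₀ • (b.repr (z : L) i • b i) := by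
    intro i
    rw [← algebraMap_smul K (coordFun b s₀ hs i z) (b i), algebraMap_coordFun, smul_assoc]
  rw [Finset.sum_congr rfl (fun i _ => h1 i), ← Finset.smul_sum, b.sum_repr]

theorem smul_eq_sum' (z : ↥(integralClosure A L)) :
    s₀ • z = ∑ i, coordFun b s₀ hs i z • (⟨b i, hb i⟩ : ↥(integralClosure A L)) := by
  apply Subtype.ext
  push_cast
  exact smul_eq_sum b s₀ hs z

include hs₀ hs in
theorem extK_coe (φ : ↥(integralClosure A L) →ₗ[A] A) (z : ↥(integralClosure A L)) :
    extK b hb φ (z : L) = algebraMap A K (φ z) := by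
  have h1 : extK b hb φ (s₀ • (z : L)) = s₀ • algebraMap A K (φ z) := by
    rw [smul_eq_sum b s₀ hs z, map_sum]
    have h2 : ∀ i, extK b hb φ (coordFun b s₀ hs i z • b i)
        = algebraMap A K (coordFun b s₀ hs i z * φ ⟨b i, hb i⟩) := by
      intro i
      rw [LinearMap.map_smul_of_tower, extK_basis, Algebra.smul_def, map_mul]
    rw [Finset.sum_congr rfl (fun i _ => h2 i), ← map_sum]
    have h3 : ∑ i, coordFun b s₀ hs i z * φ ⟨b i, hb i⟩ = s₀ * φ z := by
      have h4 := congrArg φ (smul_eq_sum' b hb s₀ hs z)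
      rw [map_smul, map_sum] at h4
      simp only [map_smul, smul_eq_mul] at h4
      exact h4.symm
    rw [h3, map_mul, Algebra.smul_def]
  rw [LinearMap.map_smul_of_tower, Algebra.smul_def, Algebra.smul_def] at h1
  exact mul_left_cancel₀ (algebraMap_ne_zero hs₀) h1

/-- the module of elements of `L` on which all functionals take values in `A` -/
def Dset : Submodule A L where
  carrier := {z | ∀ φ : ↥(integralClosure A L) →ₗ[A] A, extK b hb φ z ∈ LinearMap.range (Algebra.linearMap A K)}
  add_mem' := by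
    intro x y hx hy φ
    rw [map_add]; exact Submodule.add_mem _ (hx φ) (hy φ)
  zero_mem' := by
    intro φ; rw [map_zero]; exact Submodule.zero_mem _
  smul_mem' := by
    intro a x hx φ
    rw [LinearMap.map_smul_of_tower]; exact Submodule.smul_mem _ a (hx φ)

theorem mem_Dset (z : L) : z ∈ Dset b hb ↔
    ∀ φ : ↥(integralClosure A L) →ₗ[A] A, extK b hb φ z ∈ LinearMap.range (Algebra.linearMap A K) := Iff.rfl

include hs₀ hs in
theorem coe_mem_Dset (z : ↥(integralClosure A L)) : (z : L) ∈ Dset b hb := fun φ =>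
  ⟨φ z, (extK_coe b hb s₀ hs₀ hs φ z).symm⟩

include hs₀ hs in
theorem mul_mem_Dset (b' : ↥(integralClosure A L)) (z : L) (hz : z ∈ Dset b hb) : (b' : L) * z ∈ Dset b hb := by
  intro φ
  have key : (extK b hb φ).comp (LinearMap.mulLeft K (b' : L))
      = extK b hb (φ.comp (LinearMap.mulLeft A b')) := by
    apply b.ext
    intro i
    rw [LinearMap.comp_apply, LinearMap.mulLeft_apply, extK_basis, LinearMap.comp_apply,
      LinearMap.mulLeft_apply]
    have : (b' : L) * b i = ((b' * ⟨b i, hb i⟩ : ↥(integralClosure A L)) : L) := rfl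
    rw [this, extK_coe b hb s₀ hs₀ hs]
  have h := hz (φ.comp (LinearMap.mulLeft A b'))
  rw [← key] at h
  exact h

include hs₀ hs in
theorem mul_mem_Dset' (z w : L) (hz : z ∈ Dset b hb) (hw : w ∈ Dset b hb) :
    z * w ∈ Dset b hb := by
  intro φ
  obtain ⟨f, hf⟩ : ∃ f : ↥(integralClosure A L) →ₗ[A] K, ∀ b' : ↥(integralClosure A L), f b' = extK b hb φ (z * (b' : L)) :=
    ⟨((extK b hb φ).restrictScalars A).comp
      ((LinearMap.mulLeft A z).comp (integralClosure A L).val.toLinearMap), fun b' => rfl⟩
  have hval : ∀ b' : ↥(integralClosure A L), f b' ∈ LinearMap.range (Algebra.linearMap A K) := by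
    intro b'
    rw [hf, mul_comm]
    exact mul_mem_Dset b hb s₀ hs₀ hs b' z hz φ
  have hφz : ∀ b' : ↥(integralClosure A L), algebraMap A K (liftToA f hval b') = extK b hb φ (z * (b' : L)) :=
    fun b' => (algebraMap_liftToA f hval b').trans (hf b')
  have key : (extK b hb φ).comp (LinearMap.mulLeft K z) = extK b hb (liftToA f hval) := by
    apply b.ext
    intro i
    rw [LinearMap.comp_apply, LinearMap.mulLeft_apply, extK_basis, hφz]
  have h := hw (liftToA f hval)
  rw [← key] at h
  exact h

theorem extK_coordFun (i : ι) :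
    extK b hb (coordFun b s₀ hs i) = algebraMap A K s₀ • b.coord i := by
  apply b.ext
  intro j
  rw [extK_basis, algebraMap_coordFun, LinearMap.smul_apply, Basis.coord_apply, Algebra.smul_def,
    smul_eq_mul]

include hs₀ hs in
theorem Dset_fg [IsNoetherianRing A] : (Dset b hb).FG := by
  classical
  have hE : (Submodule.span A (Set.range b)).FG := Submodule.fg_span (Set.finite_range b)
  obtain ⟨m, hm⟩ : ∃ m : L →ₗ[A] L, ∀ x, m x = s₀ • x := ⟨s₀ • LinearMap.id, fun x => rfl⟩
  have hm_inj : Function.Injective m := by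
    intro x y hxy
    rw [hm, hm, ← algebraMap_smul K s₀ x, ← algebraMap_smul K s₀ y] at hxy
    exact smul_right_injective L (algebraMap_ne_zero hs₀) hxy
  apply Submodule.fg_of_fg_map_injective m hm_inj
  refine Submodule.FG.of_le hE ?_
  rintro _ ⟨z, hz, rfl⟩
  rw [hm]
  -- coordinates of z
  have hz' : ∀ i, ∃ a : A, algebraMap A K a = s₀ • b.repr z i := by
    intro i
    obtain ⟨a, ha⟩ := hz (coordFun b s₀ hs i)
    refine ⟨a, ?_⟩
    rw [extK_coordFun, LinearMap.smul_apply, Basis.coord_apply, smul_eq_mul] at ha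
    rw [Algebra.smul_def]; exact ha
  choose a ha using hz'
  have : s₀ • z = ∑ i, a i • b i := by
    have h1 : ∀ i, a i • b i = s₀ • (b.repr z i • b i) := by
      intro i
      rw [← algebraMap_smul K (a i) (b i), ha, smul_assoc]
    rw [Finset.sum_congr rfl (fun i _ => h1 i), ← Finset.smul_sum, b.sum_repr]
  rw [this]
  exact Submodule.sum_mem _ (fun i _ => Submodule.smul_mem _ _ (Submodule.subset_span ⟨i, rfl⟩))

include hs₀ hs in
theorem Dset_le [IsNoetherianRing A] (z : L) (hz : z ∈ Dset b hb) : IsIntegral A z := by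
  have hne : Dset b hb ≠ ⊥ := by
    intro h
    have h1 : ((1 : ↥(integralClosure A L)) : L) ∈ Dset b hb := coe_mem_Dset b hb s₀ hs₀ hs 1
    rw [h, Submodule.mem_bot] at h1
    exact one_ne_zero h1
  exact isIntegral_of_smul_mem_submodule (Dset b hb) hne (Dset_fg b hb s₀ hs₀ hs) z
    (fun n hn => mul_mem_Dset' b hb s₀ hs₀ hs z n hz hn)

include hb hs₀ hs in
theorem reflexive_aux [IsNoetherianRing A] : Module.IsReflexive A ↥(integralClosure A L) := by
  classical
  constructor
  constructor
  · -- injective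
    rw [injective_iff_map_eq_zero]
    intro z hz
    have h0 : ∀ i, b.repr (z : L) i = 0 := by
      intro i
      have h1 : Dual.eval A ↥(integralClosure A L) z (coordFun b s₀ hs i) = 0 := by rw [hz]; rfl
      rw [Dual.eval_apply] at h1
      have h2 := algebraMap_coordFun b s₀ hs i z
      rw [h1, map_zero, Algebra.smul_def] at h2
      rcases mul_eq_zero.mp h2.symm with h3 | h3
      · exact absurd h3 (algebraMap_ne_zero hs₀)
      · exact h3
    apply Subtype.ext
    have h4 : b.repr (z : L) = 0 := Finsupp.ext h0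
    have h5 := (b.repr).map_eq_zero_iff.mp h4
    exact h5
  · -- surjective
    intro ψ
    obtain ⟨z, hz_def⟩ : ∃ z : L, z = ∑ i,
        ((algebraMap A K s₀)⁻¹ * algebraMap A K (ψ (coordFun b s₀ hs i))) • b i := ⟨_, rfl⟩
    have hsφ : ∀ φ : ↥(integralClosure A L) →ₗ[A] A, s₀ • φ = ∑ i, φ ⟨b i, hb i⟩ • coordFun b s₀ hs i := by
      intro φ
      apply LinearMap.ext
      intro w
      rw [LinearMap.smul_apply, LinearMap.sum_apply]
      have h4 := congrArg φ (smul_eq_sum' b hb s₀ hs w)
      rw [map_smul, map_sum] at h4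
      rw [h4]
      apply Finset.sum_congr rfl
      intro i _
      rw [map_smul, LinearMap.smul_apply, smul_eq_mul, smul_eq_mul, mul_comm]
    have hext : ∀ φ : ↥(integralClosure A L) →ₗ[A] A, extK b hb φ z = algebraMap A K (ψ φ) := by
      intro φ
      rw [hz_def, map_sum]
      have h2 : ∀ i, extK b hb φ (((algebraMap A K s₀)⁻¹
          * algebraMap A K (ψ (coordFun b s₀ hs i))) • b i)
          = (algebraMap A K s₀)⁻¹ * algebraMap A K (φ ⟨b i, hb i⟩ * ψ (coordFun b s₀ hs i)) := by
        intro i
        rw [map_smul, extK_basis, smul_eq_mul, map_mul]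
        ring
      rw [Finset.sum_congr rfl (fun i _ => h2 i), ← Finset.mul_sum, ← map_sum]
      have h3 : ∑ i, φ ⟨b i, hb i⟩ * ψ (coordFun b s₀ hs i) = s₀ * ψ φ := by
        have h4 := congrArg ψ (hsφ φ)
        rw [map_smul, map_sum] at h4
        simp only [map_smul, smul_eq_mul] at h4
        exact h4.symm
      rw [h3, map_mul, ← mul_assoc, inv_mul_cancel₀ (algebraMap_ne_zero hs₀), one_mul]
    have hzD : z ∈ Dset b hb := fun φ => ⟨ψ φ, (hext φ).symm⟩
    have hzB : z ∈ integralClosure A L := Dset_le b hb s₀ hs₀ hs z hzD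
    refine ⟨⟨z, hzB⟩, ?_⟩
    apply LinearMap.ext
    intro φ
    rw [Dual.eval_apply]
    apply IsFractionRing.injective A K
    rw [← hext φ, ← extK_coe b hb s₀ hs₀ hs φ ⟨z, hzB⟩]

end

theorem main (A K L : Type u) [CommRing A] [IsDomain A] [IsNoetherianRing A]
    [Field K] [Algebra A K] [IsFractionRing A K] [Field L] [Algebra K L] [FiniteDimensional K L]
    [Algebra A L] [IsScalarTower A K L] [Module.Finite A ↥(integralClosure A L)] :
    Module.IsReflexive A ↥(integralClosure A L) := by
  classical
  obtain ⟨s, b, hb⟩ := FiniteDimensional.exists_is_basis_integral A K L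
  obtain ⟨s₀, hs₀, hs⟩ := exists_denominator (A := A) b
  exact reflexive_aux b hb s₀ hs₀ hs

end Groth.Agent.Helper6.ReflIC
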