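import Mathlib

/-!
# Four-term free presentation of a finite reflexive module (helper6)

`0 → F → Bⁿ → Bᵐ → G → 0` obtained by dualising a finite presentation of `F* = Hom(F, B)`;
`G` is locally free wherever `F` is.
-/

set_option autoImplicit false
set_option linter.style.haveILetI false
set_option linter.unusedVariables false

namespace Groth.Agent.Helper6.ReflPres

open scoped Matrix

universe u

section Step1

variable {B : Type u} [CommRing B] (S : Submonoid B) {F : Type u} [AddCommGroup F] [Module B F]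

/-- If `S⁻¹F` is projective and `F` is finitely presented, then `F` is a retract of a finite free
module up to an element of `S`. -/
theorem exists_split_of_localized_projective [Module.FinitePresentation B F]
    (hproj : Module.Projective (Localization S) (LocalizedModule S F)) :
    ∃ (r : ℕ) (a : F →ₗ[B] (Fin r → B)) (b : (Fin r → B) →ₗ[B] F) (s : S),
      b ∘ₗ a = (s : B) • LinearMap.id := by
  obtain ⟨r, π₀, hπ₀⟩ := Module.Finite.exists_fin' B F
  let mkP := LocalizedModule.mkLinearMap S (Fin r → B)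
  let mkF := LocalizedModule.mkLinearMap S F
  let π₀q : LocalizedModule S (Fin r → B) →ₗ[B] LocalizedModule S F :=
    IsLocalizedModule.map S mkP mkF π₀
  have hπ₀q : Function.Surjective π₀q := IsLocalizedModule.map_surjective S mkP mkF π₀ hπ₀
  let π₀q' : LocalizedModule S (Fin r → B) →ₗ[Localization S] LocalizedModule S F :=
    π₀q.extendScalarsOfIsLocalization S (Localization S)
  obtain ⟨j, hj⟩ := Module.projective_lifting_property π₀q' LinearMap.id hπ₀q
  let g : F →ₗ[B] LocalizedModule S (Fin r → B) := (j.restrictScalars B) ∘ₗ mkF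
  obtain ⟨a, s₁, ha⟩ := Module.FinitePresentation.exists_lift_of_isLocalizedModule S mkP g
  have h1 : mkF ∘ₗ (π₀ ∘ₗ a) = mkF ∘ₗ ((s₁ : B) • LinearMap.id) := by
    ext x
    have e1 : mkF (π₀ (a x)) = π₀q (mkP (a x)) :=
      (IsLocalizedModule.map_apply S mkP mkF π₀ (a x)).symm
    have e2 : mkP (a x) = (s₁ : B) • g x := LinearMap.congr_fun ha x
    have e3 : π₀q (j (mkF x)) = mkF x := LinearMap.congr_fun hj (mkF x)
    show mkF (π₀ (a x)) = mkF ((s₁ : B) • x)
    rw [e1, e2, map_smul, map_smul]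
    show (s₁ : B) • π₀q (j (mkF x)) = _
    rw [e3]
  obtain ⟨s₂, hs₂⟩ := Module.Finite.exists_smul_of_comp_eq_of_isLocalizedModule S mkF
    (π₀ ∘ₗ a) ((s₁ : B) • LinearMap.id) h1
  refine ⟨r, a, (s₂ : B) • π₀, s₂ * s₁, ?_⟩
  have h2 : (s₂ : B) • (π₀ ∘ₗ a) = (s₂ : B) • ((s₁ : B) • LinearMap.id) := hs₂
  rw [LinearMap.smul_comp, h2, smul_smul]
  rfl

end Step1

section Core

variable {B : Type u} [CommRing B] {F : Type u} [AddCommGroup F] [Module B F]

/-- generalised inverse up to `s` -/
theorem exists_gen_inverse {n m r : ℕ} (p : (Fin n → B) →ₗ[B] (F →ₗ[B] B))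
    (hp : Function.Surjective p) (ρ : (Fin m → B) →ₗ[B] (Fin n → B))
    (hρ : LinearMap.range ρ = LinearMap.ker p)
    (a : F →ₗ[B] (Fin r → B)) (b : (Fin r → B) →ₗ[B] F) (s : B)
    (hab : b ∘ₗ a = s • LinearMap.id) :
    ∃ N : (Fin n → B) →ₗ[B] (Fin m → B), ρ ∘ₗ N ∘ₗ ρ = s • ρ := by
  let as : ((Fin r → B) →ₗ[B] B) →ₗ[B] (F →ₗ[B] B) := LinearMap.lcomp B B a
  let bs : (F →ₗ[B] B) →ₗ[B] ((Fin r → B) →ₗ[B] B) := LinearMap.lcomp B B b
  have habs : as ∘ₗ bs = s • LinearMap.id := by
    ext φ x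
    show φ (b (a x)) = (s • φ) x
    have : b (a x) = s • x := LinearMap.congr_fun hab x
    rw [this, map_smul]
    rfl
  obtain ⟨c, hc⟩ := Module.projective_lifting_property p as hp
  let j₀ : (F →ₗ[B] B) →ₗ[B] (Fin n → B) := c ∘ₗ bs
  have hpj₀ : p ∘ₗ j₀ = s • LinearMap.id := by
    rw [← LinearMap.comp_assoc, hc, habs]
  have hpρ : p ∘ₗ ρ = 0 := by
    refine LinearMap.ext fun u => ?_
    have : ρ u ∈ LinearMap.ker p := by rw [← hρ]; exact LinearMap.mem_range_self ρ u
    exact LinearMap.mem_ker.1 this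
  let T : (Fin n → B) →ₗ[B] (Fin n → B) := s • LinearMap.id - j₀ ∘ₗ p
  have hpT : p ∘ₗ T = 0 := by
    show p ∘ₗ (s • LinearMap.id - j₀ ∘ₗ p) = 0
    rw [LinearMap.comp_sub, LinearMap.comp_smul, LinearMap.comp_id, ← LinearMap.comp_assoc, hpj₀,
      LinearMap.smul_comp, LinearMap.id_comp]
    exact sub_self (s • p)
  have hTmem : ∀ v, T v ∈ LinearMap.range ρ := by
    intro v
    rw [hρ, LinearMap.mem_ker]
    exact LinearMap.congr_fun hpT v
  let T' : (Fin n → B) →ₗ[B] LinearMap.range ρ := T.codRestrict (LinearMap.range ρ) hTmem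
  obtain ⟨N, hN⟩ := Module.projective_lifting_property ρ.rangeRestrict T'
    ρ.surjective_rangeRestrict
  have hρN : ρ ∘ₗ N = T := by
    refine LinearMap.ext fun v => ?_
    have := LinearMap.congr_fun hN v
    have h2 := congrArg Subtype.val this
    exact h2
  refine ⟨N, ?_⟩
  rw [← LinearMap.comp_assoc, hρN]
  show (s • LinearMap.id - j₀ ∘ₗ p) ∘ₗ ρ = s • ρ
  rw [LinearMap.sub_comp, LinearMap.smul_comp, LinearMap.id_comp, LinearMap.comp_assoc, hpρ,
    LinearMap.comp_zero, sub_zero]

/-- transposing the generalised inverse -/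
theorem exists_gen_inverse_transpose {n m : ℕ} (ρ : (Fin m → B) →ₗ[B] (Fin n → B))
    (N : (Fin n → B) →ₗ[B] (Fin m → B)) (s : B) (hN : ρ ∘ₗ N ∘ₗ ρ = s • ρ) :
    ∃ e' : (Fin m → B) →ₗ[B] (Fin n → B),
      (Matrix.toLin' (LinearMap.toMatrix' ρ)ᵀ) ∘ₗ e' ∘ₗ (Matrix.toLin' (LinearMap.toMatrix' ρ)ᵀ) =
        s • (Matrix.toLin' (LinearMap.toMatrix' ρ)ᵀ) := by
  have h1 := congrArg LinearMap.toMatrix' hN
  rw [LinearMap.toMatrix'_comp, LinearMap.toMatrix'_comp, map_smul] at h1
  have h2 := congrArg Matrix.transpose h1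
  rw [Matrix.transpose_mul, Matrix.transpose_mul, Matrix.transpose_smul] at h2
  refine ⟨Matrix.toLin' (LinearMap.toMatrix' N)ᵀ, ?_⟩
  rw [← Matrix.toLin'_mul, ← Matrix.toLin'_mul, ← map_smul]
  congr 1
  rw [← h2, Matrix.mul_assoc]

/-- a section up to `s` of the quotient map -/
theorem exists_section_up_to {n m : ℕ} (h : (Fin n → B) →ₗ[B] (Fin m → B))
    (e' : (Fin m → B) →ₗ[B] (Fin n → B)) (s : B) (he : h ∘ₗ e' ∘ₗ h = s • h) :
    ∃ σ : ((Fin m → B) ⧸ LinearMap.range h) →ₗ[B] (Fin m → B),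
      (LinearMap.range h).mkQ ∘ₗ σ = s • LinearMap.id := by
  let σ₀ : (Fin m → B) →ₗ[B] (Fin m → B) := s • LinearMap.id - h ∘ₗ e'
  have hσ₀ : σ₀ ∘ₗ h = 0 := by
    show (s • LinearMap.id - h ∘ₗ e') ∘ₗ h = 0
    rw [LinearMap.sub_comp, LinearMap.smul_comp, LinearMap.id_comp, LinearMap.comp_assoc, he,
      sub_self]
  have hle : LinearMap.range h ≤ LinearMap.ker σ₀ := by
    rintro _ ⟨w, rfl⟩
    exact LinearMap.mem_ker.2 (LinearMap.congr_fun hσ₀ w)
  refine ⟨(LinearMap.range h).liftQ σ₀ hle, ?_⟩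
  apply Submodule.linearMap_qext
  refine LinearMap.ext fun w => ?_
  show (LinearMap.range h).mkQ (σ₀ w) = s • (LinearMap.range h).mkQ w
  show (LinearMap.range h).mkQ (s • w - h (e' w)) = s • (LinearMap.range h).mkQ w
  rw [map_sub, map_smul]
  have : (LinearMap.range h).mkQ (h (e' w)) = 0 := by
    rw [Submodule.mkQ_apply, Submodule.Quotient.mk_eq_zero]
    exact LinearMap.mem_range_self h _
  rw [this, sub_zero]

end Core

section Local

variable {B : Type u} [CommRing B]

theorem free_localized_of_section {m : ℕ} (W : Submodule B (Fin m → B)) (q : Ideal B) [q.IsPrime]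
    (σ : ((Fin m → B) ⧸ W) →ₗ[B] (Fin m → B)) (s : B) (hs : s ∈ q.primeCompl)
    (hσ : W.mkQ ∘ₗ σ = s • LinearMap.id) :
    Module.Free (Localization.AtPrime q) (LocalizedModule q.primeCompl ((Fin m → B) ⧸ W)) := by
  set S := q.primeCompl with hS
  let mkG := LocalizedModule.mkLinearMap S ((Fin m → B) ⧸ W)
  let mkP := LocalizedModule.mkLinearMap S (Fin m → B)
  let πq := IsLocalizedModule.map S mkP mkG W.mkQ
  let σq := IsLocalizedModule.map S mkG mkP σ
  have hcomp : πq ∘ₗ σq = s • LinearMap.id := by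
    show IsLocalizedModule.map S mkP mkG W.mkQ ∘ₗ IsLocalizedModule.map S mkG mkP σ = _
    rw [← IsLocalizedModule.map_comp', hσ, map_smul, IsLocalizedModule.map_id]
  let u : Localization.AtPrime q := IsLocalization.mk' _ (1 : B) (⟨s, hs⟩ : S)
  have hu : u * algebraMap B (Localization.AtPrime q) s = 1 := by
    show IsLocalization.mk' _ (1 : B) (⟨s, hs⟩ : S) * algebraMap B (Localization.AtPrime q) s = 1
    rw [IsLocalization.mk'_spec]
    exact map_one _
  let πq' := πq.extendScalarsOfIsLocalization S (Localization.AtPrime q)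
  let σq' := σq.extendScalarsOfIsLocalization S (Localization.AtPrime q)
  have hsplit : πq' ∘ₗ (u • σq') = LinearMap.id := by
    ext x : 1
    show πq (u • σq x) = x
    have h1 : πq (u • σq x) = u • πq (σq x) :=
      (πq.extendScalarsOfIsLocalization S (Localization.AtPrime q)).map_smul u (σq x)
    have h2 : πq (σq x) = s • x := LinearMap.congr_fun hcomp x
    rw [h1, h2, ← algebraMap_smul (Localization.AtPrime q) s x, smul_smul, hu, one_smul]
  haveI : Module.Free (Localization.AtPrime q) (LocalizedModule S (Fin m → B)) :=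
    Module.free_of_isLocalizedModule S mkP
  haveI : Module.Projective (Localization.AtPrime q) (LocalizedModule S ((Fin m → B) ⧸ W)) :=
    Module.Projective.of_split (u • σq') πq' hsplit
  haveI : Module.Finite (Localization.AtPrime q) (LocalizedModule S (Fin m → B)) := inferInstance
  haveI : Module.Finite (Localization.AtPrime q) (LocalizedModule S ((Fin m → B) ⧸ W)) :=
    Module.Finite.of_surjective πq'
      (IsLocalizedModule.map_surjective S mkP mkG W.mkQ (Submodule.mkQ_surjective W))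
  exact Module.free_of_flat_of_isLocalRing

end Local

section Exact

variable {B : Type u} [CommRing B] {F : Type u} [AddCommGroup F] [Module B F]

theorem ite_eq_single {n : ℕ} (i : Fin n) :
    (fun j : Fin n => if i = j then (1 : B) else 0) = Pi.single i 1 := by
  ext j
  simp [Pi.single_apply, eq_comm]

theorem p_apply_eq_sum {n : ℕ} (p : (Fin n → B) →ₗ[B] (F →ₗ[B] B)) (v : Fin n → B) (x : F) :
    p v x = ∑ i, v i * p (Pi.single i 1) x := by
  have h := LinearMap.pi_apply_eq_sum_univ p v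
  rw [h, LinearMap.sum_apply]
  refine Finset.sum_congr rfl (fun i _ => ?_)
  rw [LinearMap.smul_apply, ite_eq_single, smul_eq_mul]

theorem h_apply {n m : ℕ} (ρ : (Fin m → B) →ₗ[B] (Fin n → B)) (w : Fin n → B) (j : Fin m) :
    Matrix.toLin' (LinearMap.toMatrix' ρ)ᵀ w j = ∑ i, ρ (Pi.single j 1) i * w i := by
  rw [Matrix.toLin'_apply]
  simp only [Matrix.mulVec, dotProduct, Matrix.transpose_apply, LinearMap.toMatrix'_apply]

theorem injective_and_exact [Module.IsReflexive B F] {n m : ℕ}
    (p : (Fin n → B) →ₗ[B] (F →ₗ[B] B)) (hp : Function.Surjective p)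
    (ρ : (Fin m → B) →ₗ[B] (Fin n → B)) (hρ : LinearMap.range ρ = LinearMap.ker p) :
    Function.Injective (LinearMap.pi (fun i => p (Pi.single i 1)) : F →ₗ[B] (Fin n → B)) ∧
    Function.Exact (LinearMap.pi (fun i => p (Pi.single i 1)) : F →ₗ[B] (Fin n → B))
      (Matrix.toLin' (LinearMap.toMatrix' ρ)ᵀ) := by
  set g : F →ₗ[B] (Fin n → B) := LinearMap.pi (fun i => p (Pi.single i 1)) with hg
  have hgx : ∀ x i, g x i = p (Pi.single i 1) x := fun x i => rfl
  have hev : ∀ x : F, (∀ φ : F →ₗ[B] B, φ x = 0) → x = 0 := by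
    intro x hx
    apply (Module.evalEquiv B F).injective
    rw [map_zero]
    ext φ
    rw [Module.evalEquiv_apply, Module.Dual.eval_apply]
    exact hx φ
  constructor
  · rw [injective_iff_map_eq_zero]
    intro x hx
    apply hev
    intro φ
    obtain ⟨v, rfl⟩ := hp φ
    rw [p_apply_eq_sum]
    refine Finset.sum_eq_zero (fun i _ => ?_)
    rw [← hgx, hx]
    simp
  · intro w
    constructor
    · intro hw
      -- the functional `ℓ_w`
      let ℓ : (Fin n → B) →ₗ[B] B := ∑ i, w i • LinearMap.proj i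
      have hℓ : ∀ v, ℓ v = ∑ i, v i * w i := by
        intro v
        show (∑ i, w i • (LinearMap.proj i : (Fin n → B) →ₗ[B] B)) v = _
        rw [LinearMap.sum_apply]
        refine Finset.sum_congr rfl (fun i _ => ?_)
        rw [LinearMap.smul_apply, LinearMap.proj_apply, smul_eq_mul, mul_comm]
      have hℓρ : ℓ ∘ₗ ρ = 0 := by
        refine LinearMap.ext fun u => ?_
        rw [LinearMap.pi_apply_eq_sum_univ (ℓ ∘ₗ ρ) u]
        refine Finset.sum_eq_zero (fun j _ => ?_)
        rw [ite_eq_single, LinearMap.comp_apply, hℓ, ← h_apply, hw]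
        simp
      have hle : LinearMap.ker p ≤ LinearMap.ker ℓ := by
        rw [← hρ]
        rintro _ ⟨u, rfl⟩
        exact LinearMap.mem_ker.2 (LinearMap.congr_fun hℓρ u)
      let Φ : (F →ₗ[B] B) →ₗ[B] B :=
        (LinearMap.ker p).liftQ ℓ hle ∘ₗ (p.quotKerEquivOfSurjective hp).symm.toLinearMap
      have hΦ : ∀ v, Φ (p v) = ℓ v := by
        intro v
        show (LinearMap.ker p).liftQ ℓ hle ((p.quotKerEquivOfSurjective hp).symm (p v)) = ℓ v
        rw [LinearMap.quotKerEquivOfSurjective_symm_apply]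
        rfl
      let x : F := (Module.evalEquiv B F).symm Φ
      have hx : ∀ φ : F →ₗ[B] B, φ x = Φ φ := by
        intro φ
        have h1 : (Module.evalEquiv B F) x = Φ := (Module.evalEquiv B F).apply_symm_apply Φ
        rw [← h1, Module.evalEquiv_apply, Module.Dual.eval_apply]
      refine ⟨x, ?_⟩
      ext i
      rw [hgx, hx, hΦ, hℓ]
      simp [Pi.single_apply]
    · rintro ⟨x, rfl⟩
      ext j
      rw [h_apply]
      have h1 : ∑ i, ρ (Pi.single j 1) i * g x i = p (ρ (Pi.single j 1)) x := by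
        rw [p_apply_eq_sum]
        rfl
      rw [h1]
      have : ρ (Pi.single j 1) ∈ LinearMap.ker p := by
        rw [← hρ]; exact LinearMap.mem_range_self ρ _
      rw [LinearMap.mem_ker.1 this]
      rfl

end Exact

section Main

theorem main (B : Type u) [CommRing B] [IsNoetherianRing B]
    (J : Ideal B) (F : Type u) [AddCommGroup F] [Module B F] [Module.Finite B F]
    [Module.IsReflexive B F]
    (hU : ∀ q : PrimeSpectrum B, ¬ J ≤ q.asIdeal →
      Module.Free (Localization.AtPrime q.asIdeal) (LocalizedModule q.asIdeal.primeCompl F)) :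
    ∃ (n m : ℕ) (g : F →ₗ[B] (Fin n → B)) (h : (Fin n → B) →ₗ[B] (Fin m → B)),
      Function.Injective g ∧ Function.Exact g h ∧
      ∀ q : PrimeSpectrum B, ¬ J ≤ q.asIdeal →
        Module.Free (Localization.AtPrime q.asIdeal)
          (LocalizedModule q.asIdeal.primeCompl ((Fin m → B) ⧸ LinearMap.range h)) := by
  classical
  -- `F*` is finite
  haveI : Module.Finite B (F →ₗ[B] B) := by
    obtain ⟨r, π₀, hπ₀⟩ := Module.Finite.exists_fin' B F
    haveI : IsNoetherian B ((Fin r → B) →ₗ[B] B) := isNoetherian_of_isNoetherianRing_of_finite B _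
    refine Module.Finite.of_injective (LinearMap.lcomp B B π₀) ?_
    intro φ₁ φ₂ h
    ext x
    obtain ⟨v, rfl⟩ := hπ₀ x
    exact LinearMap.congr_fun h v
  obtain ⟨n, p, hp⟩ := Module.Finite.exists_fin' B (F →ₗ[B] B)
  haveI : Module.Finite B (LinearMap.ker p) := inferInstance
  obtain ⟨m, ρ₀, hρ₀⟩ := Module.Finite.exists_fin' B (LinearMap.ker p)
  let ρ : (Fin m → B) →ₗ[B] (Fin n → B) := (LinearMap.ker p).subtype ∘ₗ ρ₀
  have hρ : LinearMap.range ρ = LinearMap.ker p := by
    rw [LinearMap.range_comp, LinearMap.range_eq_top.2 hρ₀, Submodule.map_top,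
      Submodule.range_subtype]
  obtain ⟨hinj, hex⟩ := injective_and_exact p hp ρ hρ
  refine ⟨n, m, _, _, hinj, hex, ?_⟩
  intro q hq
  haveI : Module.FinitePresentation B F := Module.finitePresentation_of_finite B F
  haveI := hU q hq
  obtain ⟨r, a, b, s, hab⟩ := exists_split_of_localized_projective q.asIdeal.primeCompl (F := F)
    inferInstance
  obtain ⟨N, hN⟩ := exists_gen_inverse p hp ρ hρ a b (s : B) hab
  obtain ⟨e', he'⟩ := exists_gen_inverse_transpose ρ N (s : B) hN
  obtain ⟨σ, hσ⟩ := exists_section_up_to _ e' (s : B) he'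
  exact free_localized_of_section _ q.asIdeal σ (s : B) s.2 hσ

end Main

end Groth.Agent.Helper6.ReflPres
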