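import Mathlib
import Groth.Prelude.Def_MoreMor
import Groth.Agent.S2502

/-!
# Helper6: connected components of fibres through a section and base change
-/

set_option autoImplicit false
universe u

namespace Groth.Agent.Helper6.SecCompBC

open CategoryTheory Limits AlgebraicGeometry

section Top

variable {α β : Type*} [TopologicalSpace α] [TopologicalSpace β]

theorem mem_ccIn_iff (φ : α → β) (hφ : Continuous φ) (F' : Set α) (F : Set β)
    (hF : Set.MapsTo φ F' F) (a' : α) (ha' : a' ∈ F')
    (hP : IsPreconnected (F' ∩ φ ⁻¹' connectedComponentIn F (φ a'))) (x' : α) (hx' : x' ∈ F') :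
    x' ∈ connectedComponentIn F' a' ↔ φ x' ∈ connectedComponentIn F (φ a') := by
  constructor
  · intro h
    have h1 : IsPreconnected (φ '' connectedComponentIn F' a') :=
      isPreconnected_connectedComponentIn.image φ hφ.continuousOn
    have h2 : φ '' connectedComponentIn F' a' ⊆ F := by
      rintro _ ⟨z, hz, rfl⟩
      exact hF (connectedComponentIn_subset F' a' hz)
    have h3 : φ a' ∈ φ '' connectedComponentIn F' a' := ⟨a', mem_connectedComponentIn ha', rfl⟩
    exact h1.subset_connectedComponentIn h3 h2 ⟨x', h, rfl⟩
  · intro h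
    have ha : φ a' ∈ connectedComponentIn F (φ a') := mem_connectedComponentIn (hF ha')
    exact hP.subset_connectedComponentIn ⟨ha', ha⟩ Set.inter_subset_left ⟨hx', h⟩

theorem image_connectedComponent_of_isEmbedding (e : α → β) (he : Topology.IsEmbedding e)
    (z : α) : e '' connectedComponent z = connectedComponentIn (Set.range e) (e z) := by
  apply subset_antisymm
  · apply IsPreconnected.subset_connectedComponentIn
    · exact isPreconnected_connectedComponent.image e he.continuous.continuousOn
    · exact ⟨z, mem_connectedComponent, rfl⟩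
    · exact Set.image_subset_range _ _
  · intro x hx
    have hsub := connectedComponentIn_subset (Set.range e) (e z)
    obtain ⟨w, rfl⟩ := hsub hx
    refine ⟨w, ?_, rfl⟩
    have hpre : IsPreconnected (e ⁻¹' connectedComponentIn (Set.range e) (e z)) := by
      rw [← he.isInducing.isPreconnected_image, Set.image_preimage_eq_of_subset hsub]
      exact isPreconnected_connectedComponentIn
    exact hpre.subset_connectedComponent
      (mem_connectedComponentIn (Set.mem_range_self z) : e z ∈ _) hx

end Top

section Sch

variable {X Y : Scheme.{u}} (f : X ⟶ Y) (s : Y ⟶ X) (hs : s ≫ f = 𝟙 Y) (y : Y)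

/-- the identity morphism is geometrically connected -/
theorem geomConn_id (S : Scheme.{u}) : GeometricallyConnected (𝟙 S) := by
  refine ⟨fun K _ y Z fst snd h => ?_⟩
  haveI : IsIso snd := h.isIso_snd_of_isIso
  haveI : ConnectedSpace ↥(Spec (CommRingCat.of K)) :=
    inferInstanceAs (ConnectedSpace (PrimeSpectrum K))
  exact snd.homeomorph.connectedSpace_iff.mpr inferInstance

/-- the rational point of the fibre given by the section -/
noncomputable def ratPt : Spec (Y.residueField y) ⟶ f.fiber y :=
  pullback.lift (Y.fromSpecResidueField y ≫ s) (𝟙 _)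
    (by rw [Category.assoc, hs, Category.comp_id, Category.id_comp])

theorem ratPt_fiberι : ratPt f s hs y ≫ f.fiberι y = Y.fromSpecResidueField y ≫ s :=
  pullback.lift_fst _ _ _

theorem ratPt_toSpec : ratPt f s hs y ≫ f.fiberToSpecResidueField y = 𝟙 _ :=
  pullback.lift_snd _ _ _

/-- the point of the fibre over `y` given by the section -/
noncomputable def pt : ↥(f.fiber y) :=
  ratPt f s hs y (IsLocalRing.closedPoint (Y.residueField y))

theorem fiberι_pt : f.fiberι y (pt f s hs y) = s y := by
  have h : (ratPt f s hs y ≫ f.fiberι y) (IsLocalRing.closedPoint (Y.residueField y)) =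
      (Y.fromSpecResidueField y ≫ s) (IsLocalRing.closedPoint (Y.residueField y)) := by
    rw [ratPt_fiberι]
  rw [Scheme.Hom.comp_apply, Scheme.Hom.comp_apply, Scheme.fromSpecResidueField_apply] at h
  exact h

instance : Subsingleton ↥(Spec (Y.residueField y)) :=
  inferInstanceAs (Subsingleton (PrimeSpectrum (Y.residueField y)))

instance quasiCompact_ratPt : QuasiCompact (ratPt f s hs y) := by
  rw [quasiCompact_iff]
  intro U _ _
  exact (Set.toFinite _).isCompact

theorem range_ratPt_subset : Set.range (ratPt f s hs y) ⊆ connectedComponent (pt f s hs y) := by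
  rintro _ ⟨t, rfl⟩
  have : t = IsLocalRing.closedPoint (Y.residueField y) := Subsingleton.elim _ _
  rw [this]
  exact mem_connectedComponent

/-- an ideal sheaf on the fibre with support the connected component of the rational point and
through whose closed subscheme the rational point factors -/
noncomputable def CI : (f.fiber y).IdealSheafData :=
  Scheme.IdealSheafData.vanishingIdeal
    ⟨connectedComponent (pt f s hs y), isClosed_connectedComponent⟩ * (ratPt f s hs y).ker

theorem coe_support_CI :
    ((CI f s hs y).support : Set ↥(f.fiber y)) = connectedComponent (pt f s hs y) := by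
  rw [CI, Scheme.IdealSheafData.support_mul, TopologicalSpace.Closeds.coe_sup,
    Scheme.IdealSheafData.coe_support_vanishingIdeal, Scheme.Hom.support_ker]
  apply Set.union_eq_left.mpr
  exact closure_minimal (range_ratPt_subset f s hs y) isClosed_connectedComponent

theorem CI_le_ker : (CI f s hs y) ≤ (ratPt f s hs y).ker := by
  rw [Scheme.IdealSheafData.le_def]
  intro U
  rw [CI, Scheme.IdealSheafData.ideal_mul]
  exact le_trans Ideal.mul_le_inf inf_le_right

theorem range_subschemeι_CI :
    Set.range (CI f s hs y).subschemeι = connectedComponent (pt f s hs y) := by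
  rw [Scheme.IdealSheafData.range_subschemeι, coe_support_CI]

instance connectedSpace_CI : ConnectedSpace ↥(CI f s hs y).subscheme := by
  have hι := (CI f s hs y).subschemeι.isEmbedding
  have hr := range_subschemeι_CI f s hs y
  have hpc : _root_.IsPreconnected (Set.univ : Set ↥(CI f s hs y).subscheme) := by
    rw [← hι.isInducing.isPreconnected_image, Set.image_univ, hr]
    exact isPreconnected_connectedComponent
  have hne : Nonempty ↥(CI f s hs y).subscheme := by
    have hm : pt f s hs y ∈ Set.range (CI f s hs y).subschemeι := by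
      rw [hr]
      exact mem_connectedComponent
    obtain ⟨c, _⟩ := hm
    exact ⟨c⟩
  exact { isPreconnected_univ := hpc, toNonempty := hne }

/-- the closed subscheme on the connected component of the rational point is geometrically
connected over the residue field -/
theorem geomConn_CI :
    GeometricallyConnected ((CI f s hs y).subschemeι ≫ f.fiberToSpecResidueField y) := by
  have hk : (CI f s hs y).subschemeι.ker ≤ (ratPt f s hs y).ker := by
    rw [Scheme.IdealSheafData.ker_subschemeι]
    exact CI_le_ker f s hs y
  have hfac := IsClosedImmersion.lift_fac (CI f s hs y).subschemeι (ratPt f s hs y) hk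
  haveI : GeometricallyConnected (IsClosedImmersion.lift (CI f s hs y).subschemeι
      (ratPt f s hs y) hk ≫ ((CI f s hs y).subschemeι ≫ f.fiberToSpecResidueField y)) := by
    rw [← Category.assoc, hfac, ratPt_toSpec]
    exact geomConn_id _
  haveI : Nonempty ↥(Spec (Y.residueField y)) := ⟨IsLocalRing.closedPoint (Y.residueField y)⟩
  exact Groth.Agent.S2502.result (k := Y.residueField y)
    (IsClosedImmersion.lift (CI f s hs y).subschemeι (ratPt f s hs y) hk)
    ((CI f s hs y).subschemeι ≫ f.fiberToSpecResidueField y)

theorem image_CC_eq :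
    f.fiberι y '' connectedComponent (pt f s hs y) =
      connectedComponentIn (f ⁻¹' {y}) (s y) := by
  rw [image_connectedComponent_of_isEmbedding _ (f.fiberι y).isEmbedding, f.range_fiberι,
    fiberι_pt]

variable {X' Y' : Scheme.{u}} (f' : X' ⟶ Y') (g' : X' ⟶ X) (g : Y' ⟶ Y) (y' : Y')

include hs in
theorem isPreconnected_inter (ψ : f'.fiber y' ⟶ f.fiber (g y'))
    (hsq : IsPullback ψ (f'.fiberToSpecResidueField y') (f.fiberToSpecResidueField (g y'))
      (Spec.map (g.residueFieldMap y')))
    (hψ : ψ ≫ f.fiberι (g y') = f'.fiberι y' ≫ g') :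
    _root_.IsPreconnected
      (f' ⁻¹' {y'} ∩ g' ⁻¹' connectedComponentIn (f ⁻¹' {g y'}) (s (g y'))) := by
  have hW : ConnectedSpace ↥(pullback (CI f s hs (g y')).subschemeι ψ) := by
    have hpaste := ((IsPullback.of_hasPullback (CI f s hs (g y')).subschemeι ψ).flip.paste_horiz
      hsq.flip).flip
    exact (geomConn_CI f s hs (g y')).geometrically_connectedSpace _ _ _ hpaste
  have hrange : Set.range (pullback.snd (CI f s hs (g y')).subschemeι ψ ≫ f'.fiberι y') =
      f' ⁻¹' {y'} ∩ g' ⁻¹' connectedComponentIn (f ⁻¹' {g y'}) (s (g y')) := by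
    rw [← image_CC_eq f s hs (g y')]
    ext x'
    constructor
    · rintro ⟨w, rfl⟩
      refine ⟨?_, ?_⟩
      · have : (pullback.snd (CI f s hs (g y')).subschemeι ψ ≫ f'.fiberι y') w ∈
            Set.range (f'.fiberι y') := by
          rw [Scheme.Hom.comp_apply]
          exact Set.mem_range_self _
        rw [f'.range_fiberι] at this
        exact this
      · have h1 : g' ((pullback.snd (CI f s hs (g y')).subschemeι ψ ≫ f'.fiberι y') w) =
            f.fiberι (g y') ((CI f s hs (g y')).subschemeι
              (pullback.fst (CI f s hs (g y')).subschemeι ψ w)) := by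
          rw [← Scheme.Hom.comp_apply, ← Scheme.Hom.comp_apply, ← Scheme.Hom.comp_apply,
            Category.assoc, ← hψ, ← Category.assoc, ← pullback.condition, Category.assoc]
        rw [Set.mem_preimage, h1]
        refine ⟨_, ?_, rfl⟩
        rw [← range_subschemeι_CI]
        exact Set.mem_range_self _
    · rintro ⟨hx1, hx2⟩
      have hx1' : x' ∈ Set.range (f'.fiberι y') := by
        rw [f'.range_fiberι]
        exact hx1
      obtain ⟨z', rfl⟩ := hx1'
      obtain ⟨c0, hc0, hc0'⟩ := hx2
      have h2 : g' (f'.fiberι y' z') = f.fiberι (g y') (ψ z') := by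
        rw [← Scheme.Hom.comp_apply, ← Scheme.Hom.comp_apply, hψ]
      rw [h2] at hc0'
      have h3 : c0 = ψ z' := (f.fiberι (g y')).isEmbedding.injective hc0'
      rw [h3, ← range_subschemeι_CI] at hc0
      obtain ⟨c, hc⟩ := hc0
      obtain ⟨w, hw1, hw2⟩ := Scheme.Pullback.exists_preimage_pullback
        (f := (CI f s hs (g y')).subschemeι) (g := ψ) c z' hc
      refine ⟨w, ?_⟩
      rw [Scheme.Hom.comp_apply, hw2]
  rw [← hrange]
  exact isPreconnected_range
    (pullback.snd (CI f s hs (g y')).subschemeι ψ ≫ f'.fiberι y').continuous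

end Sch

/-- the union of the connected components of the fibres through a section commutes with base
change -/
theorem main {X Y X' Y' : Scheme.{u}} (f : X ⟶ Y) (s : Y ⟶ X) (hs : s ≫ f = 𝟙 Y) (f' : X' ⟶ Y')
    (g' : X' ⟶ X) (g : Y' ⟶ Y) (hc : IsPullback g' f' f g) (s' : Y' ⟶ X')
    (hs' : s' ≫ f' = 𝟙 Y') (hs'g : s' ≫ g' = g ≫ s) :
    MoreMor.sectionComponents f' s' = g' ⁻¹' MoreMor.sectionComponents f s := by
  ext x'
  have hfg : ∀ z : X', f (g' z) = g (f' z) := by
    intro z
    rw [← Scheme.Hom.comp_apply, ← Scheme.Hom.comp_apply, hc.w]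
  have ha : ∀ t : Y', g' (s' t) = s (g t) := by
    intro t
    rw [← Scheme.Hom.comp_apply, ← Scheme.Hom.comp_apply, hs'g]
  have hb : ∀ t : Y', f' (s' t) = t := by
    intro t
    rw [← Scheme.Hom.comp_apply, hs']
    rfl
  show x' ∈ connectedComponentIn (f' ⁻¹' {f' x'}) (s' (f' x')) ↔
    g' x' ∈ connectedComponentIn (f ⁻¹' {f (g' x')}) (s (f (g' x')))
  rw [hfg x', ← ha (f' x')]
  refine mem_ccIn_iff g' g'.continuous (f' ⁻¹' {f' x'}) (f ⁻¹' {g (f' x')}) ?_ (s' (f' x'))
    ?_ ?_ x' rfl
  · intro z hz
    show f (g' z) = g (f' x')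
    rw [hfg z]
    exact congrArg g hz
  · exact hb _
  · rw [ha (f' x')]
    have hsq := isPullback_fiberToSpecResidueField_of_isPullback hc (f' x')
    refine isPreconnected_inter f s hs f' g' g (f' x') _ hsq ?_
    exact pullback.lift_fst _ _ _

end Groth.Agent.Helper6.SecCompBC
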