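import Mathlib
import Groth.Prelude.Def_Coh
import Groth.Prelude.Def_CohB1
import Groth.Prelude.Def_Twist2
import Groth.Agent.Lib.Helper28.TwistNoeth
import Groth.Agent.Lib.Helper28.GrModFTN
import Groth.Agent.Lib.Helper28.GrModQcoh
import Groth.Agent.Lib.Helper13.SerreAmple3
import Groth.Agent.Lib.Helper13.TensorAssoc
import Groth.Agent.Lib.Helper13.TensorQCoh
import Groth.Agent.Lib.Helper13.QCohKer
import Groth.Agent.Lib.Helper6.ProjS1A
import Groth.Agent.Lib.Helper9.AffStrat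

/-!
# Serre vanishing on `Proj` of a Noetherian graded ring (no generation in degree one)
-/

set_option autoImplicit false
set_option linter.style.haveILetI false
set_option linter.unusedSectionVars false
universe u
open CategoryTheory CategoryTheory.Limits AlgebraicGeometry Opposite TopologicalSpace

namespace Groth.Agent.Helper6.SerreProj

open Groth.Agent.Helper28.TwistMul Groth.Agent.Helper13

variable {R A : Type u} [CommRing R] [CommRing A] [Algebra R A] (𝒜 : ℕ → Submodule R A)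
  [GradedAlgebra 𝒜]

set_option maxHeartbeats 1600000 in
theorem serre_vanishing_on_proj [IsNoetherianRing A] (F : (Proj 𝒜).Modules) (hF : Coh.IsCoh F)
    (p : ℕ) (hp : 0 < p) :
    ∃ d₀ : ℤ, ∀ d : ℤ, d₀ ≤ d → Subsingleton (Coh.HH (Proj 𝒜) (Twist.twistBy 𝒜 F d) p) := by
  classical
  obtain ⟨T, hT, hspan⟩ := exists_finset_homogeneous_irrelevant 𝒜
  choose! deg hdeg hmem using hT
  haveI : CompactSpace (Proj 𝒜) := by
    constructor
    have H (i : T) : IsCompact (Proj.basicOpen 𝒜 (i : A) : Set (Proj 𝒜)) :=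
      (Proj.isAffineOpen_basicOpen 𝒜 _ (hmem _ i.2) (hdeg _ i.2)).isCompact
    have h1 : (Set.univ : Set (Proj 𝒜)) = ⋃ i : T, (Proj.basicOpen 𝒜 (i : A) : Set (Proj 𝒜)) := by
      ext x
      simp only [Set.mem_univ, Set.mem_iUnion, true_iff]
      obtain ⟨f, hf, hfx⟩ := exists_nmem 𝒜 (T : Set A) hspan x
      exact ⟨⟨f, hf⟩, hfx⟩
    rw [h1]
    exact isCompact_iUnion H
  obtain ⟨N, hNdef⟩ : ∃ N : ℕ, N = ∏ t ∈ T, deg t := ⟨_, rfl⟩
  have hN : 0 < N := by rw [hNdef]; exact Finset.prod_pos (fun t ht => hdeg t ht)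
  have hcov : ∀ x : Proj 𝒜, ∃ b ∈ 𝒜 N, b ∉ x.asHomogeneousIdeal := by
    intro x
    obtain ⟨f, hf, hfx⟩ := exists_nmem 𝒜 (T : Set A) hspan x
    obtain ⟨q, hq⟩ : deg f ∣ N := by rw [hNdef]; exact Finset.dvd_prod_of_mem deg hf
    refine ⟨f ^ q, ?_, fun h => hfx (x.isPrime.mem_of_pow_mem _ h)⟩
    have h1 : f ^ q ∈ 𝒜 (q • deg f) := SetLike.pow_mem_graded q (hmem f hf)
    have h2 : q • deg f = N := by rw [hq, smul_eq_mul, mul_comm]
    rwa [h2] at h1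
  have hL : CohB1.IsAmple (Twist.twist 𝒜 (N : ℤ)) := isAmple_of_cover 𝒜 hN hcov
  have hcov' : ∀ (m : ℤ) (c : ℤ), m = c * N → ∀ x : Proj 𝒜, ∃ (d : ℕ) (f : A) (c : ℤ),
      f ∈ 𝒜 d ∧ f ∉ x.asHomogeneousIdeal ∧ m = c * d := fun m c hm x => by
    obtain ⟨b, hb, hbx⟩ := hcov x
    exact ⟨N, b, c, hb, hbx, hm⟩
  have hpow : ∀ n : ℕ, Nonempty (Twist.twist 𝒜 ((n : ℤ) * N) ≅
      CohB1.tensorPow (Twist.twist 𝒜 (N : ℤ)) n) := by
    intro n
    induction n with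
    | zero =>
      have h0 : ((0 : ℕ) : ℤ) * N = 0 := by simp
      exact ⟨eqToIso (by rw [h0]) ≪≫ (zeroIso 𝒜).symm⟩
    | succ n ih =>
      obtain ⟨e⟩ := ih
      obtain ⟨t⟩ := twist_tensor_iso 𝒜 (m := (n : ℤ) * N) (n := (N : ℤ)) (hcov' _ n rfl)
      have h1 : ((n + 1 : ℕ) : ℤ) * N = (n : ℤ) * N + N := by push_cast; ring
      exact ⟨eqToIso (by rw [h1]) ≪≫ t.symm ≪≫ Tensor.mapIso e (Iso.refl _)⟩
  haveI : Algebra.FiniteType (𝒜 0) A := Groth.Agent.Helper6.ProjS1.finiteType_of_noetherian 𝒜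
  have hSV := (SerreAmple.isAmple_iff_serre_vanishing (𝒜 0) (Proj 𝒜) (Proj.toSpecZero 𝒜)
    (Twist.twist 𝒜 (N : ℤ)) hL.1).1 hL
  have hcohρ : ∀ ρ : ℕ, Coh.IsCoh (CohB1.tensorMod F (Twist.twist 𝒜 (ρ : ℤ))) := by
    intro ρ
    haveI : F.IsQuasicoherent := hF.1
    haveI : SheafOfModules.IsFiniteType (R := (Proj 𝒜).ringCatSheaf) F := hF.2
    haveI : (GrMod.tilde 𝒜 𝒜 (ρ : ℤ)).IsQuasicoherent :=
      Groth.Agent.Helper28.GrModQcoh.tilde_isQuasicoherent 𝒜 𝒜 ρ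
    haveI : SheafOfModules.IsFiniteType (R := (Proj 𝒜).ringCatSheaf) (GrMod.tilde 𝒜 𝒜 (ρ : ℤ)) :=
      Groth.Agent.Helper28.GrModFTN.tilde_isFiniteType_of_isNoetherian 𝒜 𝒜 ρ
    haveI : (Twist.twist 𝒜 (ρ : ℤ)).IsQuasicoherent :=
      QCohLocal.isQuasicoherent_of_iso (Groth.Agent.Helper28.GrModQcoh.tildeIsoTwist 𝒜 ρ)
    haveI : SheafOfModules.IsFiniteType (R := (Proj 𝒜).ringCatSheaf) (Twist.twist 𝒜 (ρ : ℤ)) :=
      FinType.isFiniteType_of_iso (Groth.Agent.Helper28.GrModQcoh.tildeIsoTwist 𝒜 ρ)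
    exact ⟨Tensor.isQuasicoherent_tensorMod _ _, Tensor.isFiniteType_tensorMod _ _⟩
  choose n₀ hn₀ using fun ρ : ℕ => hSV _ (hcohρ ρ)
  obtain ⟨B, hB⟩ : ∃ B : ℕ, B = (Finset.range N).sup n₀ := ⟨_, rfl⟩
  refine ⟨((B : ℤ) + 1) * N, fun d hd => ?_⟩
  have hNpos : (0 : ℤ) < N := by exact_mod_cast hN
  have hd0 : 0 ≤ d := le_trans (by positivity) hd
  obtain ⟨q, ρ, hρ, hdq⟩ : ∃ q ρ : ℕ, ρ < N ∧ d = (q : ℤ) * N + ρ := by
    have h1 := Int.mul_ediv_add_emod d N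
    have h2 : 0 ≤ d / N := Int.ediv_nonneg hd0 hNpos.le
    have h3 : 0 ≤ d % N := Int.emod_nonneg d hNpos.ne'
    have h4 : d % N < N := Int.emod_lt_of_pos d hNpos
    refine ⟨(d / N).toNat, (d % N).toNat, ?_, ?_⟩
    · omega
    · rw [Int.toNat_of_nonneg h2, Int.toNat_of_nonneg h3]
      linarith [h1, mul_comm (N : ℤ) (d / N)]
  have hqB : B ≤ q := by
    by_contra h
    have h1 : (q : ℤ) + 1 ≤ B := by
      have : q + 1 ≤ B := by omega
      exact_mod_cast this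
    have h2 : ((q : ℤ) + 1) * N ≤ (B : ℤ) * N := mul_le_mul_of_nonneg_right h1 hNpos.le
    have h3 : (ρ : ℤ) < N := by exact_mod_cast hρ
    nlinarith
  have hn : n₀ ρ ≤ q := by
    refine le_trans ?_ hqB
    rw [hB]
    exact Finset.le_sup (f := n₀) (Finset.mem_range.2 hρ)
  have hvan := hn₀ ρ q hn p hp
  obtain ⟨e⟩ := hpow q
  obtain ⟨t⟩ := twist_tensor_iso 𝒜 (m := (q : ℤ) * N) (n := (ρ : ℤ)) (hcov' _ q rfl)
  have hd' : (q : ℤ) * N + ρ = d := hdq.symm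
  have e_d : CohB1.tensorMod F (Twist.twist 𝒜 d) ≅
      CohB1.tensorMod (CohB1.tensorMod F (Twist.twist 𝒜 (ρ : ℤ)))
        (CohB1.tensorPow (Twist.twist 𝒜 (N : ℤ)) q) :=
    Tensor.mapIso (Iso.refl F) (eqToIso (by rw [hd']) ≪≫ t.symm ≪≫ Tensor.braid _ _) ≪≫
      (Tensor.assoc F _ _).symm ≪≫ Tensor.mapIso (Iso.refl _) e
  exact Groth.Agent.Helper9.AffStrat.HH_subsingleton_of_iso e_d p hvan

end Groth.Agent.Helper6.SerreProj
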