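import Groth.Agent.Lib.Helper6.GrModComapA

/-!
# `M(n)~ → Φ_* N(n)~` is an isomorphism when `v : M → N` is injective and bijective in high degrees
(helper6)

A variant of `GrModComap.isIso_comap`: `v` is only required to be injective, and surjective onto
the pieces `𝒩 i` for `i ≥ k₀`.  Consequence `exists_preimage_top`: every global section of `N(n)~`
comes from a global section of `M(n)~`.
-/

set_option autoImplicit false
set_option linter.style.haveILetI false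
set_option linter.unusedSectionVars false
universe u
open DirectSum CategoryTheory CategoryTheory.Limits AlgebraicGeometry Opposite TopologicalSpace
open scoped HomogeneousIdeal

namespace Groth.Agent.Helper6.SigmaGr

open Groth.Agent.Helper6.GrModFrac Groth.Agent.Helper6.GrModComap

variable {A σ : Type u} [CommRing A] [SetLike σ A] [AddSubgroupClass σ A] {𝒜 : ℕ → σ}
    [GradedRing 𝒜] {B σ' : Type u} [CommRing B] [SetLike σ' B] [AddSubgroupClass σ' B] {ℬ : ℕ → σ'} [GradedRing ℬ]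
    (ψ : 𝒜 →+*ᵍ ℬ) (hψ : ℬ₊ ≤ (𝒜₊).map ψ)
    {M τ : Type u} [AddCommGroup M] [Module A M] [SetLike τ M] [AddSubgroupClass τ M] (ℳ : ℕ → τ)
    [SetLike.GradedSMul 𝒜 ℳ] [DirectSum.Decomposition ℳ]
    {N τ' : Type u} [AddCommGroup N] [Module B N] [SetLike τ' N] [AddSubgroupClass τ' N] (𝒩 : ℕ → τ')
    [SetLike.GradedSMul ℬ 𝒩] [DirectSum.Decomposition 𝒩]
    (v : M →ₛₗ[ψ.toRingHom] N) (hv : ∀ (i : ℕ) (m : M), m ∈ ℳ i → v m ∈ 𝒩 i)

set_option maxHeartbeats 800000 in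
theorem comapApp_bijective_of_le (k₀ : ℕ) (hinj : Function.Injective v)
    (hsurj : ∀ i, k₀ ≤ i → ∀ x ∈ 𝒩 i, ∃ m ∈ ℳ i, v m = x) (n : ℤ) {d : ℕ} (hd : 0 < d) {f : A}
    (hf : f ∈ 𝒜 d) :
    Function.Bijective (GrMod.comapApp ψ hψ v hv n (ProjectiveSpectrum.basicOpen 𝒜 f)
        (ProjectiveSpectrum.basicOpen ℬ (ψ f)) (basicOpen_subset ψ hψ f)) := by
  have hψf : ψ f ∈ ℬ d := ψ.map_mem hf
  constructor
  · rw [injective_iff_map_eq_zero]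
    intro s hs
    obtain ⟨L, q, m, hm, hq, hval⟩ := exists_global_frac 𝒜 ℳ n hd hf s
    have hkill : ∀ y : ProjectiveSpectrum ℬ, ψ f ∉ y.asHomogeneousIdeal →
        ∃ t : B, t ∉ y.asHomogeneousIdeal ∧ t • v m = 0 := by
      intro y hy
      have h1 : valAt ℬ 𝒩 n (GrMod.comapApp ψ hψ v hv n (ProjectiveSpectrum.basicOpen 𝒜 f)
          (ProjectiveSpectrum.basicOpen ℬ (ψ f)) (basicOpen_subset ψ hψ f) s) y hy = 0 := by
        rw [hs]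
        rfl
      rw [valAt_comapApp, hval _ (notMem_comap ψ hψ y hy), GrMod.locModMap_mk] at h1
      rw [← LocalizedModule.zero_mk 1, LocalizedModule.mk_eq] at h1
      obtain ⟨t, ht⟩ := h1
      refine ⟨t.1, t.2, ?_⟩
      rw [one_smul, smul_zero, smul_zero] at ht
      exact ht
    obtain ⟨K, hK⟩ := exists_pow_smul_eq_zero ℬ 𝒩 hd hψf (hv q m hm) hkill
    have h3 : v (f ^ K • m) = 0 := by
      rw [LinearMap.map_smulₛₗ]
      change ψ (f ^ K) • v m = 0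
      rw [map_pow, hK]
    have h4 : f ^ K • m = 0 := hinj (h3.trans (map_zero v).symm)
    refine Subtype.ext (funext fun x => Subtype.ext ?_)
    have hx : f ∉ x.1.asHomogeneousIdeal := (ProjectiveSpectrum.mem_basicOpen 𝒜 f x.1).1 x.2
    have h5 := hval x.1 hx
    change valAt 𝒜 ℳ n s x.1 hx = 0
    rw [h5, ← LocalizedModule.zero_mk 1, LocalizedModule.mk_eq]
    refine ⟨⟨f ^ K, pow_mem_primeCompl 𝒜 x.1 hx K⟩, ?_⟩
    rw [one_smul, smul_zero, smul_zero]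
    exact h4
  · intro t
    obtain ⟨L, q, n', hn', hq, hval⟩ := exists_global_frac ℬ 𝒩 n hd hψf t
    have hx' : ψ f ^ k₀ • n' ∈ 𝒩 (k₀ • d + q) :=
      SetLike.GradedSMul.smul_mem (SetLike.pow_mem_graded k₀ hψf) hn'
    have hk₀ : k₀ ≤ k₀ • d + q := by
      have := Nat.le_mul_of_pos_right k₀ hd
      simp only [smul_eq_mul]
      omega
    obtain ⟨m, hm, hvm⟩ := hsurj (k₀ • d + q) hk₀ _ hx'
    have hij : ((k₀ • d + q : ℕ) : ℤ) = (((L + k₀) • d : ℕ) : ℤ) + n := by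
      simp only [smul_eq_mul]
      push_cast
      rw [hq]
      ring
    refine ⟨fracPow 𝒜 ℳ n hf (L + k₀) ⟨m, hm⟩ hij, ?_⟩
    refine Subtype.ext (funext fun ⟨y0, hyV⟩ => Subtype.ext ?_)
    obtain ⟨y, rfl⟩ : ∃ y : ProjectiveSpectrum ℬ, y = y0 := ⟨y0, rfl⟩
    have hy : ψ f ∉ y.asHomogeneousIdeal := (ProjectiveSpectrum.mem_basicOpen ℬ (ψ f) y).1 hyV
    change valAt ℬ 𝒩 n (GrMod.comapApp ψ hψ v hv n (ProjectiveSpectrum.basicOpen 𝒜 f)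
        (ProjectiveSpectrum.basicOpen ℬ (ψ f)) (basicOpen_subset ψ hψ f)
        (fracPow 𝒜 ℳ n hf (L + k₀) ⟨m, hm⟩ hij)) y hy = valAt ℬ 𝒩 n t y hy
    refine (valAt_comapApp ψ hψ ℳ 𝒩 v hv n f _ y hy).trans ?_
    rw [fracPow_apply]
    refine (GrMod.locModMap_mk ψ hψ v y _ _).trans (Eq.trans ?_ (hval y hy).symm)
    rw [LocalizedModule.mk_eq]
    refine ⟨1, ?_⟩
    rw [one_smul, one_smul]
    change ψ f ^ L • v m = ψ (f ^ (L + k₀)) • n'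
    rw [hvm, map_pow, pow_add, mul_smul]

theorem isIso_comap_of_le (k₀ : ℕ) (hinj : Function.Injective v)
    (hsurj : ∀ i, k₀ ≤ i → ∀ x ∈ 𝒩 i, ∃ m ∈ ℳ i, v m = x) (n : ℤ) :
    IsIso (GrMod.comap (ℳ := ℳ) (𝒩 := 𝒩) ψ hψ v hv n) := by
  apply Groth.Agent.Helper13.LocFree.isIso_of_app_bijective_of_isBasis _ (isBasis_pos (𝒜 := 𝒜))
  rintro V ⟨d, f, hd, hf, rfl⟩
  exact comapApp_bijective_of_le ψ hψ ℳ 𝒩 v hv k₀ hinj hsurj n hd hf

include hv in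
set_option maxHeartbeats 1600000 in
/-- every global section of `N(n)~` is the image of a global section of `M(n)~`. -/
theorem exists_preimage_top (k₀ : ℕ) (hinj : Function.Injective v)
    (hsurj : ∀ i, k₀ ≤ i → ∀ x ∈ 𝒩 i, ∃ m ∈ ℳ i, v m = x) (n : ℤ)
    (t : GrMod.sect ℬ 𝒩 n (op ⊤)) :
    ∃ s : GrMod.sect 𝒜 ℳ n (op ⊤), ∀ y : (⊤ : Opens (ProjectiveSpectrum.top ℬ)),
      ((t.1 y : GrMod.tildeAt ℬ 𝒩 n y.1) : GrMod.LocMod ℬ (M := N) y.1) =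
        GrMod.locModMap ψ hψ v y.1
          ((s.1 ⟨ProjectiveSpectrum.comap ψ hψ y.1, trivial⟩ :
            GrMod.tildeAt 𝒜 ℳ n (ProjectiveSpectrum.comap ψ hψ y.1)) :
            GrMod.LocMod 𝒜 (M := M) (ProjectiveSpectrum.comap ψ hψ y.1)) := by
  haveI hiso : IsIso (GrMod.comap (ℳ := ℳ) (𝒩 := 𝒩) ψ hψ v hv n) :=
    isIso_comap_of_le ψ hψ ℳ 𝒩 v hv k₀ hinj hsurj n
  have h1 : (GrMod.comap (ℳ := ℳ) (𝒩 := 𝒩) ψ hψ v hv n).app ⊤
      ((inv (GrMod.comap (ℳ := ℳ) (𝒩 := 𝒩) ψ hψ v hv n)).app ⊤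
        (t : Γ((Scheme.Modules.pushforward (Proj.map ψ hψ)).obj (GrMod.tilde ℬ 𝒩 n), ⊤))) =
      (t : Γ((Scheme.Modules.pushforward (Proj.map ψ hψ)).obj (GrMod.tilde ℬ 𝒩 n), ⊤)) :=
    congrArg (fun χ : (Scheme.Modules.pushforward (Proj.map ψ hψ)).obj (GrMod.tilde ℬ 𝒩 n) ⟶
      (Scheme.Modules.pushforward (Proj.map ψ hψ)).obj (GrMod.tilde ℬ 𝒩 n) => χ.app ⊤
        (t : Γ((Scheme.Modules.pushforward (Proj.map ψ hψ)).obj (GrMod.tilde ℬ 𝒩 n), ⊤)))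
      (IsIso.inv_hom_id (GrMod.comap (ℳ := ℳ) (𝒩 := 𝒩) ψ hψ v hv n))
  generalize (inv (GrMod.comap (ℳ := ℳ) (𝒩 := 𝒩) ψ hψ v hv n)).app ⊤
    (t : Γ((Scheme.Modules.pushforward (Proj.map ψ hψ)).obj (GrMod.tilde ℬ 𝒩 n), ⊤)) = s₀ at h1
  refine ⟨s₀, fun y => ?_⟩
  have h2 : ∀ z z' : GrMod.sect ℬ 𝒩 n (op ⊤), z = z' →
      ((z.1 y : GrMod.tildeAt ℬ 𝒩 n y.1) : GrMod.LocMod ℬ (M := N) y.1) =
        ((z'.1 y : GrMod.tildeAt ℬ 𝒩 n y.1) : GrMod.LocMod ℬ (M := N) y.1) :=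
    fun z z' h => by rw [h]
  exact (h2 _ _ h1).symm

end Groth.Agent.Helper6.SigmaGr
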