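import Groth.Agent.Lib.Helper6.SigmaGrA
import Groth.Agent.Lib.Helper6.SigmaGrB
import Groth.Agent.Lib.Helper6.GlobSecE

/-!
# Sections of `M(n)~` for a ring graded by additive subgroups, generated in degree one (helper6)

`A` Noetherian, graded by additive subgroups `𝒜 : ℕ → σ`, irrelevant ideal generated by `A_1`;
`M` graded by `ℳ : ℕ → τ` with `M_{≥ k}` finitely generated (condition (TF)).

* `exists_surj`: for large `n` every global section of `M(n)~` is `m / 1` with `m ∈ M_n`;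
* `main`: there is `K` with `Γ(M(K+e)~) = Σ_{a ∈ A_e} a · Γ(M(K)~)` for every `e`.
-/

set_option autoImplicit false
set_option linter.style.haveILetI false
set_option linter.unusedSectionVars false
set_option linter.unusedVariables false
universe u
open DirectSum CategoryTheory CategoryTheory.Limits AlgebraicGeometry Opposite TopologicalSpace
open scoped HomogeneousIdeal

namespace Groth.Agent.Helper6.SigmaGr

attribute [local instance] ULift.algebra'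

variable {A σ : Type u} [CommRing A] [SetLike σ A] [AddSubgroupClass σ A] (𝒜 : ℕ → σ)
  [GradedRing 𝒜]
variable {M τ : Type u} [AddCommGroup M] [Module A M] [SetLike τ M] [AddSubgroupClass τ M]
  (ℳ : ℕ → τ) [SetLike.GradedSMul 𝒜 ℳ] [DirectSum.Decomposition ℳ]

theorem sect_cast {n₁ n₂ : ℤ} (h : n₁ = n₂) (U : (Opens (ProjectiveSpectrum.top 𝒜))ᵒᵖ)
    (t : GrMod.sect 𝒜 ℳ n₁ U) :
    ∃ t' : GrMod.sect 𝒜 ℳ n₂ U, ∀ y : U.unop,
      ((t'.1 y : GrMod.tildeAt 𝒜 ℳ n₂ y.1) : GrMod.LocMod 𝒜 (M := M) y.1) =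
        ((t.1 y : GrMod.tildeAt 𝒜 ℳ n₁ y.1) : GrMod.LocMod 𝒜 (M := M) y.1) := by
  subst h
  exact ⟨t, fun _ => rfl⟩

set_option maxHeartbeats 1600000 in
/-- for large `n`, every global section of `M(n)~` is `m / 1` with `m ∈ M_n`. -/
theorem exists_surj [IsNoetherianRing A]
    (hgen : (HomogeneousIdeal.irrelevant 𝒜).toIdeal = Ideal.span (𝒜 1 : Set A)) (k : ℕ)
    [Module.Finite A (trunc A ℳ k)] :
    ∃ N₀ : ℕ, ∀ n : ℕ, N₀ ≤ n → ∀ t : GrMod.sect 𝒜 ℳ (n : ℤ) (op ⊤),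
      ∃ m : M, m ∈ ℳ n ∧ ∀ y : (⊤ : Opens (ProjectiveSpectrum.top 𝒜)),
        ((t.1 y : GrMod.tildeAt 𝒜 ℳ (n : ℤ) y.1) : GrMod.LocMod 𝒜 (M := M) y.1) =
          LocalizedModule.mk m 1 := by
  obtain ⟨N₁, hN₁⟩ := Groth.Agent.Helper6.GlobSec.globalOf_bijective_noeth (zgr 𝒜)
    (zgr_succ 𝒜 hgen) (trunc A ℳ k) (tgr 𝒜 ℳ k)
  refine ⟨N₁, fun n hn t => ?_⟩
  obtain ⟨s, hs⟩ := exists_preimage_top (idHom 𝒜) (irrelevant_le_map_idHom 𝒜) (tgr 𝒜 ℳ k) ℳ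
    (inclSemi 𝒜 ℳ k) (fun i m h => h) k (fun a b h => Subtype.ext h)
    (fun i hi x hx => ⟨⟨x, mem_trunc_of_ge A ℳ hi hx⟩, hx, rfl⟩) (n : ℤ) t
  obtain ⟨m', rfl⟩ := (hN₁ n hn).2 s
  refine ⟨((m' : trunc A ℳ k) : M), m'.2, fun y => ?_⟩
  rw [hs y]
  show GrMod.locModMap (idHom 𝒜) (irrelevant_le_map_idHom 𝒜) (inclSemi 𝒜 ℳ k) y.1
      (LocalizedModule.mk (m' : trunc A ℳ k)
        (Groth.Agent.Helper6.GlobSec.oneC (zgr 𝒜)
          (ProjectiveSpectrum.comap (idHom 𝒜) (irrelevant_le_map_idHom 𝒜) y.1))) = _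
  rw [GrMod.locModMap_mk]
  congr 1

set_option maxHeartbeats 1600000 in
/-- `Γ(M(K+e)~) = Σ_{a ∈ A_e} a · Γ(M(K)~)` for a suitable `K` and all `e`. -/
theorem main [IsNoetherianRing A]
    (hgen : (HomogeneousIdeal.irrelevant 𝒜).toIdeal = Ideal.span (𝒜 1 : Set A))
    (hTF : ∃ k : ℕ, (Submodule.span A (⋃ i ∈ Set.Ici k, (ℳ i : Set M))).FG) :
    ∃ K : ℕ, ∀ e : ℕ,
      (⨆ a : 𝒜 e, (GrMod.smulSect 𝒜 ℳ a (K : ℤ)
        (op (⊤ : Opens (ProjectiveSpectrum.top 𝒜)))).range) = ⊤ := by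
  classical
  obtain ⟨k, hk⟩ := hTF
  haveI : Module.Finite A (trunc A ℳ k) := Module.Finite.iff_fg.2 hk
  obtain ⟨N₀, hN₀⟩ := exists_surj 𝒜 ℳ hgen k
  obtain ⟨D, q, y, hy, hgens⟩ := Groth.Agent.Helper6.GlobSec.exists_gens (zgr 𝒜) (tgr 𝒜 ℳ k)
    (irrelevant_zgr_eq_span 𝒜 hgen)
  obtain ⟨K, hKN, hKD, hKk⟩ : ∃ K : ℕ, N₀ ≤ K ∧ D ≤ K ∧ k ≤ K :=
    ⟨max (max N₀ D) k, le_trans (le_max_left _ _) (le_max_left _ _),
      le_trans (le_max_right _ _) (le_max_left _ _), le_max_right _ _⟩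
  refine ⟨K, fun e => ?_⟩
  obtain ⟨G, hG⟩ : ∃ G : AddSubgroup (GrMod.sect 𝒜 ℳ ((K : ℤ) + (e : ℕ)) (op ⊤)),
      G = ⨆ a : 𝒜 e, (GrMod.smulSect 𝒜 ℳ a (K : ℤ)
        (op (⊤ : Opens (ProjectiveSpectrum.top 𝒜)))).range := ⟨_, rfl⟩
  rw [← hG, eq_top_iff]
  intro t _
  -- `t = m / 1`
  obtain ⟨t', ht'⟩ := sect_cast 𝒜 ℳ (Nat.cast_add K e).symm (op ⊤) t
  obtain ⟨m, hm, hval⟩ := hN₀ (K + e) (by omega) t'
  have hval' : ∀ y : (⊤ : Opens (ProjectiveSpectrum.top 𝒜)),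
      ((t.1 y : GrMod.tildeAt 𝒜 ℳ ((K : ℤ) + (e : ℕ)) y.1) : GrMod.LocMod 𝒜 (M := M) y.1) =
        LocalizedModule.mk m 1 := fun y => (ht' y).symm.trans (hval y)
  -- the sections `x / 1`, `x` in the additive closure of the products, lie in `G`
  have hP : ∀ x ∈ AddSubmonoid.closure {x : M | ∃ b ∈ 𝒜 e, ∃ m₀ ∈ ℳ K, x = b • m₀},
      ∃ t₀ ∈ G, ∀ y : (⊤ : Opens (ProjectiveSpectrum.top 𝒜)),
        ((t₀.1 y : GrMod.tildeAt 𝒜 ℳ ((K : ℤ) + (e : ℕ)) y.1) :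
          GrMod.LocMod 𝒜 (M := M) y.1) = LocalizedModule.mk x 1 := by
    intro x hx
    induction hx using AddSubmonoid.closure_induction with
    | mem x hx =>
      obtain ⟨b, hb, m₀, hm₀, rfl⟩ := hx
      refine ⟨GrMod.smulSect 𝒜 ℳ ⟨b, hb⟩ (K : ℤ) (op ⊤) (GrMod.globalOf 𝒜 ℳ ⟨m₀, hm₀⟩), ?_,
        fun y => ?_⟩
      · rw [hG]
        exact AddSubgroup.mem_iSup_of_mem ⟨b, hb⟩ ⟨_, rfl⟩
      · rw [GrMod.smulSect_apply_coe, GrMod.globalOf_apply_coe, LocalizedModule.mk_smul_mk,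
          one_mul]
    | zero => exact ⟨0, zero_mem G, fun y => (LocalizedModule.zero_mk 1).symm⟩
    | add x₁ x₂ _ _ h₁ h₂ =>
      obtain ⟨t₁, ht₁, h₁⟩ := h₁
      obtain ⟨t₂, ht₂, h₂⟩ := h₂
      refine ⟨t₁ + t₂, add_mem ht₁ ht₂, fun y => ?_⟩
      show ((t₁.1 y : GrMod.tildeAt 𝒜 ℳ ((K : ℤ) + (e : ℕ)) y.1) :
          GrMod.LocMod 𝒜 (M := M) y.1) +
        ((t₂.1 y : GrMod.tildeAt 𝒜 ℳ ((K : ℤ) + (e : ℕ)) y.1) :
          GrMod.LocMod 𝒜 (M := M) y.1) = _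
      rw [h₁ y, h₂ y, LocalizedModule.mk_add_mk, one_smul, one_smul, one_mul]
  -- `m` lies in that closure
  have hmem : m ∈ AddSubmonoid.closure {x : M | ∃ b ∈ 𝒜 e, ∃ m₀ ∈ ℳ K, x = b • m₀} := by
    have hmt : m ∈ trunc A ℳ k := mem_trunc_of_ge A ℳ (by omega : k ≤ K + e) hm
    obtain ⟨a, ha, hsum⟩ := hgens (K + e) (by omega) ⟨m, hmt⟩ hm
    have hsum' : m = ∑ l, a l • ((y l : trunc A ℳ k) : M) := by
      have h0 := congrArg (fun z : trunc A ℳ k => (z : M)) hsum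
      simpa only [Submodule.coe_sum, Submodule.coe_smul] using h0
    rw [hsum']
    refine sum_mem (fun l _ => ?_)
    have hidx : K + e - D = e + (K - D) := by omega
    have hal : a l ∈ zgr 𝒜 e * zgr 𝒜 (K - D) := by
      rw [← zgr_add 𝒜 hgen, ← hidx]
      exact ha l
    refine Submodule.mul_induction_on
      (C := fun r => r • ((y l : trunc A ℳ k) : M) ∈
        AddSubmonoid.closure {x : M | ∃ b ∈ 𝒜 e, ∃ m₀ ∈ ℳ K, x = b • m₀}) hal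
      (fun b hb c hc => ?_) (fun r s hr hs => ?_)
    · show (b * c) • ((y l : trunc A ℳ k) : M) ∈ _
      rw [mul_smul]
      refine AddSubmonoid.subset_closure ⟨b, hb, c • ((y l : trunc A ℳ k) : M), ?_, rfl⟩
      have h3 : c • ((y l : trunc A ℳ k) : M) ∈ ℳ ((K - D) + D) :=
        SetLike.GradedSMul.smul_mem (A := 𝒜) (B := ℳ) (show c ∈ 𝒜 (K - D) from hc)
          (show ((y l : trunc A ℳ k) : M) ∈ ℳ D from hy l)
      have e' : (K - D) + D = K := by omega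
      exact e' ▸ h3
    · show (r + s) • ((y l : trunc A ℳ k) : M) ∈ _
      rw [add_smul]
      exact add_mem hr hs
  obtain ⟨t₀, ht₀G, ht₀⟩ := hP m hmem
  have htt : t = t₀ :=
    Subtype.ext (funext fun y => Subtype.ext ((hval' y).trans (ht₀ y).symm))
  rw [htt]
  exact ht₀G

end Groth.Agent.Helper6.SigmaGr
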