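import Mathlib
import Groth.Agent.Lib.Helper6.SnapBinom
import Groth.Agent.Lib.Helper26.PnTwist
import Groth.Agent.Lib.Helper13.PnFin1
import Groth.Agent.Lib.Helper13.PbInv
import Groth.Agent.Lib.Helper13.PbTensor
import Groth.Agent.Lib.Helper13.PbUnit
import Groth.Agent.Lib.Helper13.CurveDeg2
import Groth.Agent.Lib.Helper15.ProjSpaceProper
import Groth.Agent.Lib.Lead.SnapperComp
import Groth.Prelude.Def_Pic13

/-!
# The top two Hilbert coefficients of an invertible module as intersection symbols
-/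

set_option autoImplicit false
universe u
open CategoryTheory CategoryTheory.Limits AlgebraicGeometry

namespace Groth.Agent.Helper6.SnapHilb

open Groth.Agent.Helper13 Groth.Agent.Helper6.SnapList Groth.Agent.Helper6.CoeffOnes
  Groth.Agent.Helper6.SnapCube Groth.Agent.Helper6.SnapAdd

/-- iterated backward differences of `∑ a_j C(m+j, j)`. -/
theorem nabla_formula (D : ℕ → ℕ → ℤ) (N : ℕ) (a : ℕ → ℤ)
    (hR : ∀ t m, D (t + 1) (m + 1) = D t (m + 1) - D t m)
    (h0 : ∀ m, D 0 m = ∑ j ∈ Finset.range N, a j * ((m + j).choose j : ℤ)) :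
    ∀ t m, t ≤ m → D t m = ∑ j ∈ Finset.range N,
      if t ≤ j then a j * ((m + j - t).choose (j - t) : ℤ) else 0 := by
  intro t
  induction t with
  | zero =>
    intro m _
    rw [h0 m]
    apply Finset.sum_congr rfl
    intro j _
    simp
  | succ t ih =>
    intro m hm
    obtain ⟨m', rfl⟩ : ∃ m', m = m' + 1 := ⟨m - 1, by omega⟩
    rw [hR t m', ih (m' + 1) (by omega), ih m' (by omega), ← Finset.sum_sub_distrib]
    apply Finset.sum_congr rfl
    intro j _
    by_cases h1 : t + 1 ≤ j
    · have h2 : t ≤ j := by omega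
      rw [if_pos h1, if_pos h2, if_pos h2]
      obtain ⟨K, rfl⟩ : ∃ K, j = t + 1 + K := ⟨j - (t + 1), by omega⟩
      have e1 : m' + 1 + (t + 1 + K) - t = (m' + K + 1) + 1 := by omega
      have e2 : t + 1 + K - t = K + 1 := by omega
      have e3 : m' + (t + 1 + K) - t = m' + K + 1 := by omega
      have e4 : m' + 1 + (t + 1 + K) - (t + 1) = m' + K + 1 := by omega
      have e5 : t + 1 + K - (t + 1) = K := by omega
      rw [e1, e2, e3, e4, e5, Nat.choose_succ_succ (m' + K + 1) K]
      push_cast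
      ring
    · rw [if_neg h1]
      by_cases h2 : t ≤ j
      · have hj : j = t := by omega
        subst hj
        rw [if_pos h2, if_pos h2]
        simp
      · rw [if_neg h2, if_neg h2]
        simp

section Geo

variable (k : Type u) [Field k] (X : Scheme.{u}) [X.Over (Spec (CommRingCat.of k))]

theorem cube_step (L M : X.Modules) (e : CohB1.tensorMod L M ≅ Coh.structureModule X)
    (F : X.Modules) (t a : ℕ) :
    cube k X (fun _ : Fin (t + 1) => M) (CohB1.tensorMod F (CohB1.tensorPow L (a + 1))) =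
      cube k X (fun _ : Fin t => M) (CohB1.tensorMod F (CohB1.tensorPow L (a + 1))) -
        cube k X (fun _ : Fin t => M) (CohB1.tensorMod F (CohB1.tensorPow L a)) := by
  have estep : CohB1.tensorMod (CohB1.tensorMod F (CohB1.tensorPow L (a + 1))) M ≅
      CohB1.tensorMod F (CohB1.tensorPow L a) :=
    Tensor.assoc F (CohB1.tensorMod (CohB1.tensorPow L a) L) M ≪≫
      Tensor.mapIso (Iso.refl F)
        (Tensor.assoc (CohB1.tensorPow L a) L M ≪≫
          Tensor.mapIso (Iso.refl (CohB1.tensorPow L a)) e ≪≫ Tensor.rid (CohB1.tensorPow L a))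
  have hcons : (Fin.cons M (fun _ : Fin t => M) : Fin (t + 1) → X.Modules) = fun _ => M := by
    funext i
    refine Fin.cases ?_ (fun j => ?_) i
    · simp
    · simp
  have h := cube_cons k X (fun _ : Fin t => M) M (CohB1.tensorMod F (CohB1.tensorPow L (a + 1)))
  rw [hcons, cube_congr k X (fun _ : Fin t => M) estep] at h
  exact h

theorem cube_fin_zero (M : Fin 0 → X.Modules) (G : X.Modules) :
    cube k X M G = Curv2.euler k X G := by
  unfold cube
  rw [Fintype.sum_eq_single (∅ : Finset (Fin 0))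
    (fun J hJ => absurd (Finset.eq_empty_of_isEmpty J) hJ)]
  rw [Finset.card_empty, pow_zero, one_mul]
  rfl

variable [IsProper (X ↘ Spec (CommRingCat.of k))]

/-- the top symbol does not change under twisting by an invertible module. -/
theorem cube_twist_invariant (d : ℕ) (hd : topologicalKrullDim X ≤ d) {t : ℕ}
    (M : Fin t → X.Modules) (hM : ∀ i, PicF.IsInvertible (M i)) (N : X.Modules)
    (hN : PicF.IsInvertible N) (G : X.Modules) (hG : Coh.IsCoh G)
    (hdim : topologicalKrullDim (CohB1.support G) < ((t + 1 : ℕ) : WithBot ℕ∞)) :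
    cube k X M (CohB1.tensorMod G N) = cube k X M G := by
  have hcons : ∀ i, PicF.IsInvertible ((Fin.cons N M : Fin (t + 1) → X.Modules) i) := by
    intro i
    refine Fin.cases ?_ (fun j => ?_) i
    · simpa using hN
    · simpa using hM j
  have h0 := intNum_eq_zero k X d hd (Fin.cons N M : Fin (t + 1) → X.Modules) hcons G hG hdim
  rw [intNum_eq_cube k X d hd _ hcons G hG, cube_cons] at h0
  linarith

end Geo

theorem main5644 (k : Type u) [Field k] [IsAlgClosed k] (n : ℕ) (X : Scheme.{u}) [X.Over (Spec (CommRingCat.of k))]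
    (i : X ⟶ CohB1.ProjSpace n k) [IsClosedImmersion i] (hi : i ≫ CohB1.ProjSpace.toSpec n k = X ↘ Spec (CommRingCat.of k))
    [IsIntegral X] (s : ℕ) (hdim : topologicalKrullDim X = (s + 1 : ℕ))
    (L L' : X.Modules) (hL : PicF.IsInvertible L) (hLL' : Nonempty (CohB1.tensorMod L L' ≅ Coh.structureModule X))
    (a e : Fin (s + 2) → ℤ)
    (ha : ∀ m : ℕ, FGA.eulerCharLE k X (Pic13.twistOn k i L m) (s + 1) = ∑ j : Fin (s + 2), a j * ((m + j).choose j : ℤ))
    (he : ∀ m : ℕ, FGA.eulerCharLE k X (Pic13.twistOn k i (Coh.structureModule X) m) (s + 1) =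
      ∑ j : Fin (s + 2), e j * ((m + j).choose j : ℤ)) :
    a (Fin.last (s + 1)) = e (Fin.last (s + 1)) ∧
      a (Fin.last (s + 1)) = FGA.intNum k X (s + 1)
        (fun _ : Fin (s + 1) => (Scheme.Modules.pullback i).obj (Twist.twistProjSpace n k (-1))) (Coh.structureModule X) ∧
      a (Fin.castSucc (Fin.last s)) - e (Fin.castSucc (Fin.last s)) = FGA.intNum k X (s + 1)
        (Matrix.vecCons L' (fun _ : Fin s => (Scheme.Modules.pullback i).obj (Twist.twistProjSpace n k (-1))))
        (Coh.structureModule X) := by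
  classical
  haveI : IsProper (X ↘ Spec (CommRingCat.of k)) := by
    rw [← hi]
    haveI := Groth.Agent.Helper15.isProper_projSpace_toSpec n k
    infer_instance
  haveI : IsNoetherian X := Groth.Agent.Lead.EulerK0.isNoetherian_of_proper' k X
  obtain ⟨eL⟩ := hLL'
  have hd : topologicalKrullDim X ≤ ((s + 1 : ℕ) : WithBot ℕ∞) := hdim.le
  have hO1 := Groth.Agent.Helper26.PnTwist.isInvertible_twist n k (1 : ℤ)
  have hOm1 := Groth.Agent.Helper26.PnTwist.isInvertible_twist n k (-1 : ℤ)
  obtain ⟨H, hHdef⟩ : ∃ H : X.Modules,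
      H = (Scheme.Modules.pullback i).obj (Twist.twistProjSpace n k 1) := ⟨_, rfl⟩
  obtain ⟨H', hH'def⟩ : ∃ H' : X.Modules,
      H' = (Scheme.Modules.pullback i).obj (Twist.twistProjSpace n k (-1)) := ⟨_, rfl⟩
  have hH : PicF.IsInvertible H := by
    rw [hHdef]
    exact PbInv.isInvertible_pullback i _ hO1
  have hH' : PicF.IsInvertible H' := by
    rw [hH'def]
    exact PbInv.isInvertible_pullback i _ hOm1
  have hL' : PicF.IsInvertible L' :=
    Inv.isInvertible_of_tensor_iso L' L (Tensor.braid L' L ≪≫ eL)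
  obtain ⟨e1m⟩ := Groth.Agent.Helper26.PnTwist.twist_tensor_iso n k 1 (-1)
  obtain ⟨e00⟩ := Groth.Agent.Helper13.PnFin.twist_zero_iso n k
  have eHH' : CohB1.tensorMod H H' ≅ Coh.structureModule X := by
    rw [hHdef, hH'def]
    exact (PbTensor.pullbackTensorIso i _ _ hO1 hOm1).symm ≪≫
      (Scheme.Modules.pullback i).mapIso
        (e1m ≪≫ eqToIso (congrArg (Twist.twistProjSpace n k)
          (by norm_num : (1 : ℤ) + -1 = 0)) ≪≫ e00) ≪≫
      PbUnit.pullbackUnitIso i
  have em : ∀ m : ℕ, Nonempty ((Scheme.Modules.pullback i).obj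
      (Twist.twistProjSpace n k (m : ℤ)) ≅ CohB1.tensorPow H m) := by
    intro m
    rw [hHdef]
    obtain ⟨epow⟩ := (Groth.Agent.Helper28.TwistMul.twist_all_of_degree_one
      (CohB1.polyGrading n k) (Groth.Agent.Helper26.PnTwist.hcov n k)).2.2 m
    obtain ⟨epb⟩ := Groth.Agent.Lead.SnapperComp.pullback_tensorPow i
      (Twist.twistProjSpace n k 1) hO1 m
    exact ⟨(Scheme.Modules.pullback i).mapIso epow ≪≫ epb⟩
  have hOcoh : Coh.IsCoh (Coh.structureModule X) :=
    Groth.Agent.Helper13.CurveDeg.isCoh_of_isInvertible _ Inv.isInvertible_structureModule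
  have hLcoh : Coh.IsCoh L := Groth.Agent.Helper13.CurveDeg.isCoh_of_isInvertible L hL
  -- the Euler characteristics as `0`-fold cubes
  have hD0 : ∀ (G : X.Modules) (hG : Coh.IsCoh G) (m : ℕ),
      FGA.eulerCharLE k X (Pic13.twistOn k i G m) (s + 1) =
        cube k X (fun _ : Fin 0 => H') (CohB1.tensorMod G (CohB1.tensorPow H m)) := by
    intro G hG m
    obtain ⟨e'⟩ := em m
    have iso : Pic13.twistOn k i G (m : ℤ) ≅ CohB1.tensorMod G (CohB1.tensorPow H m) :=
      Tensor.mapIso (Iso.refl G) e'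
    have hcoh : Coh.IsCoh (CohB1.tensorMod G (CohB1.tensorPow H m)) :=
      Groth.Agent.Helper13.PnSerreUnif.isCoh_tensor_pow H hH G hG m
    have hq : Coh.IsQCoh (Pic13.twistOn k i G (m : ℤ)) :=
      (Groth.Agent.Helper5.K0Coh.isCoh_of_iso iso.symm hcoh).1
    rw [eulerCharLE_eq_euler k X (s + 1) hd _ hq,
      Groth.Agent.Helper25.SSBaseChange.euler_congr k iso, cube_fin_zero]
  -- the top two iterated differences
  have gen : ∀ (G : X.Modules) (hG : Coh.IsCoh G) (c : Fin (s + 2) → ℤ),
      (∀ m : ℕ, FGA.eulerCharLE k X (Pic13.twistOn k i G m) (s + 1) =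
        ∑ j : Fin (s + 2), c j * ((m + j).choose j : ℤ)) →
      cube k X (fun _ : Fin (s + 1) => H') (CohB1.tensorMod G (CohB1.tensorPow H (s + 1))) =
          c (Fin.last (s + 1)) ∧
        cube k X (fun _ : Fin s => H') (CohB1.tensorMod G (CohB1.tensorPow H (s + 1))) =
          c (Fin.castSucc (Fin.last s)) + c (Fin.last (s + 1)) * (((s + 1 : ℕ) : ℤ) + 1) := by
    intro G hG c hc
    obtain ⟨c', hc'⟩ : ∃ c' : ℕ → ℤ, c' = fun j => if h : j < s + 2 then c ⟨j, h⟩ else 0 :=
      ⟨_, rfl⟩
    have hc'top : c' (s + 1) = c (Fin.last (s + 1)) := by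
      rw [hc']
      simp only
      rw [dif_pos (by omega)]
      rfl
    have hc's : c' s = c (Fin.castSucc (Fin.last s)) := by
      rw [hc']
      simp only
      rw [dif_pos (by omega)]
      rfl
    have h0 : ∀ m : ℕ, cube k X (fun _ : Fin 0 => H')
        (CohB1.tensorMod G (CohB1.tensorPow H m)) =
        ∑ j ∈ Finset.range (s + 2), c' j * ((m + j).choose j : ℤ) := by
      intro m
      rw [← hD0 G hG m, hc m,
        ← Fin.sum_univ_eq_sum_range (fun j => c' j * ((m + j).choose j : ℤ)) (s + 2)]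
      apply Finset.sum_congr rfl
      intro j _
      rw [hc']
      simp only
      rw [dif_pos j.isLt]
    have hform := nabla_formula
      (fun t m => cube k X (fun _ : Fin t => H') (CohB1.tensorMod G (CohB1.tensorPow H m)))
      (s + 2) c' (fun t m => cube_step k X H H' eHH' G t m) h0
    constructor
    · have h1 := hform (s + 1) (s + 1) le_rfl
      rw [h1, Finset.sum_range_succ, Finset.sum_eq_zero, if_pos le_rfl, hc'top]
      · simp
      · intro j hj
        exact if_neg (by have := Finset.mem_range.mp hj; omega)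
    · have h1 := hform s (s + 1) (Nat.le_succ s)
      rw [h1, Finset.sum_range_succ, Finset.sum_range_succ, Finset.sum_eq_zero, if_pos le_rfl,
        if_pos (Nat.le_succ s), hc'top, hc's]
      · have e1 : s + 1 + s - s = s + 1 := by omega
        have e2 : s + 1 + (s + 1) - s = (s + 1) + 1 := by omega
        have e3 : s + 1 - s = 1 := by omega
        rw [e1, e2, e3, Nat.sub_self, Nat.choose_zero_right, Nat.choose_one_right]
        push_cast
        ring
      · intro j hj
        exact if_neg (by have := Finset.mem_range.mp hj; omega)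
  obtain ⟨hLtop, hLsec⟩ := gen L hLcoh a ha
  obtain ⟨hOtop, hOsec⟩ := gen (Coh.structureModule X) hOcoh e he
  have hdimG : ∀ G : X.Modules,
      topologicalKrullDim (CohB1.support G) < ((s + 1 + 1 : ℕ) : WithBot ℕ∞) := fun G =>
    lt_of_le_of_lt ((topologicalKrullDim_subspace_le _ _).trans hd)
      (by exact_mod_cast Nat.lt_succ_self (s + 1))
  have inv1 : ∀ (Mv : Fin (s + 1) → X.Modules) (_ : ∀ j, PicF.IsInvertible (Mv j))
      (G N : X.Modules) (_ : Coh.IsCoh G) (_ : PicF.IsInvertible N),
      cube k X Mv (CohB1.tensorMod G N) = cube k X Mv G := fun Mv hMv G N hG hN =>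
    cube_twist_invariant k X (s + 1) hd Mv hMv N hN G hG (hdimG G)
  have hPinv : PicF.IsInvertible (CohB1.tensorPow H (s + 1)) :=
    Inv.isInvertible_tensorPow H hH (s + 1)
  have hLO : ∀ (Mv : Fin (s + 1) → X.Modules) (_ : ∀ j, PicF.IsInvertible (Mv j)),
      cube k X Mv (CohB1.tensorMod L (CohB1.tensorPow H (s + 1))) =
        cube k X Mv (Coh.structureModule X) := by
    intro Mv hMv
    rw [inv1 Mv hMv L _ hLcoh hPinv, cube_congr k X Mv (Tensor.lid L).symm]
    exact inv1 Mv hMv _ L hOcoh hL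
  have hT1 : cube k X (fun _ : Fin (s + 1) => H') (Coh.structureModule X) =
      a (Fin.last (s + 1)) := by
    rw [← hLO _ (fun _ => hH')]
    exact hLtop
  have hT2 : cube k X (fun _ : Fin (s + 1) => H') (Coh.structureModule X) =
      e (Fin.last (s + 1)) := by
    rw [← inv1 _ (fun _ => hH') (Coh.structureModule X) _ hOcoh hPinv]
    exact hOtop
  have h12 : a (Fin.last (s + 1)) = e (Fin.last (s + 1)) := hT1.symm.trans hT2
  have hcv : ∀ j, PicF.IsInvertible
      ((Fin.cons L' (fun _ : Fin s => H') : Fin (s + 1) → X.Modules) j) := by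
    intro j
    refine Fin.cases ?_ (fun j' => ?_) j
    · simpa using hL'
    · simpa using hH'
  have eiso : CohB1.tensorMod (CohB1.tensorMod L (CohB1.tensorPow H (s + 1))) L' ≅
      CohB1.tensorMod (Coh.structureModule X) (CohB1.tensorPow H (s + 1)) :=
    Tensor.mapIso (Tensor.braid L (CohB1.tensorPow H (s + 1))) (Iso.refl L') ≪≫
      Tensor.assoc (CohB1.tensorPow H (s + 1)) L L' ≪≫
      Tensor.mapIso (Iso.refl (CohB1.tensorPow H (s + 1))) eL ≪≫
      Tensor.braid (CohB1.tensorPow H (s + 1)) (Coh.structureModule X)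
  have h3 : cube k X (Fin.cons L' (fun _ : Fin s => H') : Fin (s + 1) → X.Modules)
      (Coh.structureModule X) =
      a (Fin.castSucc (Fin.last s)) - e (Fin.castSucc (Fin.last s)) := by
    rw [← hLO _ hcv, cube_cons, cube_congr k X (fun _ : Fin s => H') eiso, hLsec, hOsec, h12]
    ring
  subst hH'def
  refine ⟨h12, ?_, ?_⟩
  · rw [intNum_eq_cube k X (s + 1) hd _ (fun _ => hH') _ hOcoh]
    exact hT1.symm
  · have hv : (Matrix.vecCons L' (fun _ : Fin s =>
        (Scheme.Modules.pullback i).obj (Twist.twistProjSpace n k (-1))) :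
          Fin (s + 1) → X.Modules) =
        Fin.cons L' (fun _ : Fin s =>
          (Scheme.Modules.pullback i).obj (Twist.twistProjSpace n k (-1))) := rfl
    rw [hv, intNum_eq_cube k X (s + 1) hd _ hcv _ hOcoh]
    exact h3.symm

end Groth.Agent.Helper6.SnapHilb
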