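import Mathlib
import Groth.Agent.Lib.Helper6.SnapAdd

/-!
# The intersection symbol is carried by the top-dimensional points of the support
-/

set_option autoImplicit false
universe u
open CategoryTheory CategoryTheory.Limits AlgebraicGeometry

namespace Groth.Agent.Helper6.SnapTop

open Groth.Agent.Helper13 Groth.Agent.Helper6.SnapList Groth.Agent.Helper6.CoeffOnes
  Groth.Agent.Helper6.SnapCube Groth.Agent.Helper6.SnapAdd

/-- the `r`-fold cube sum of a function of degree `< r` vanishes. -/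
theorem cube_sum_eq_zero {r : ℕ} (g : (Fin r → ℕ) → ℤ)
    (hpd : Groth.Agent.Lead.PolyDeg.IsPolyDeg r g) :
    ∑ I : Finset (Fin r), (-1 : ℤ) ^ I.card * g (indN I) = 0 := by
  obtain ⟨P, hPs, hPe⟩ := Groth.Agent.Lead.SnapperFinal.exists_poly_lt
    Groth.Agent.Lead.SnapperFinal.newtonHyp r _ hpd
  have hdeg : P.totalDegree ≤ r := by
    unfold MvPolynomial.totalDegree
    apply Finset.sup_le
    intro m hm
    exact (hPs m hm).le
  have hc0 : MvPolynomial.coeff (ones r) P = 0 := by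
    by_contra hne
    have hmem : ones r ∈ P.support := MvPolynomial.mem_support_iff.mpr hne
    have h1 := hPs _ hmem
    rw [Finsupp.sum_fintype _ _ (fun _ => rfl)] at h1
    simp [ones_apply] at h1
  have hcube := coeff_ones_eq_cube_sum P hdeg
  rw [hc0] at hcube
  have heval : ∀ t : Finset (Fin r), MvPolynomial.eval (ind t) P = ((g (indN t) : ℤ) : ℚ) := by
    intro t
    rw [ind_eq_cast]
    exact (hPe (indN t)).symm
  have hsign : ∀ c : ℕ, c ≤ r → (-1 : ℚ) ^ c = (-1) ^ r * (-1) ^ (r - c) := by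
    intro c hc
    have h2 : ((-1 : ℚ) ^ (r - c)) * (-1) ^ (r - c) = 1 := by
      rw [← pow_add]
      exact Even.neg_one_pow ⟨r - c, rfl⟩
    have h1 : (-1 : ℚ) ^ r = (-1) ^ c * (-1) ^ (r - c) := by
      rw [← pow_add, Nat.add_sub_cancel' hc]
    rw [h1, mul_assoc, h2, mul_one]
  have hI : ∀ I : Finset (Fin r), I.card ≤ r := fun I => by
    have := Finset.card_le_univ I
    simpa using this
  have h4 : ∑ I ∈ (Finset.univ : Finset (Fin r)).powerset,
      ((-1 : ℚ) ^ (r - I.card) * MvPolynomial.eval (ind I) P) = 0 := hcube.symm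
  rw [Finset.powerset_univ] at h4
  have hsumQ : ∑ I : Finset (Fin r), (-1 : ℚ) ^ I.card * ((g (indN I) : ℤ) : ℚ) = 0 := by
    have h3 : ∀ I : Finset (Fin r), (-1 : ℚ) ^ I.card * ((g (indN I) : ℤ) : ℚ) =
        (-1) ^ r * ((-1 : ℚ) ^ (r - I.card) * MvPolynomial.eval (ind I) P) := by
      intro I
      rw [heval I, hsign I.card (hI I), mul_assoc]
    rw [Finset.sum_congr rfl (fun I _ => h3 I), ← Finset.mul_sum, h4, mul_zero]
  have h5 : ((∑ I : Finset (Fin r), (-1 : ℤ) ^ I.card * g (indN I) : ℤ) : ℚ) = 0 := by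
    push_cast
    exact hsumQ
  exact_mod_cast h5

theorem sum_swap_aux {ι κ : Type*} [Fintype ι] (s : Finset κ) (c : ι → ℤ) (A : ι → ℤ)
    (l : κ → ℤ) (E : κ → ι → ℤ)
    (h0 : ∑ J, c J * (A J - ∑ ξ ∈ s, l ξ * E ξ J) = 0) :
    ∑ J, c J * A J = ∑ ξ ∈ s, l ξ * ∑ J, c J * E ξ J := by
  have h2 : ∑ ξ ∈ s, l ξ * ∑ J, c J * E ξ J = ∑ J, c J * ∑ ξ ∈ s, l ξ * E ξ J := by
    simp only [Finset.mul_sum]
    rw [Finset.sum_comm]
    refine Finset.sum_congr rfl (fun J _ => Finset.sum_congr rfl (fun ξ _ => ?_))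
    ring
  rw [h2]
  have h3 : ∑ J, (c J * A J - c J * ∑ ξ ∈ s, l ξ * E ξ J) = 0 := by
    simpa only [mul_sub] using h0
  rw [Finset.sum_sub_distrib] at h3
  exact sub_eq_zero.mp h3

/-- **The intersection symbol is the multiplicity-weighted sum over the top-dimensional points.** -/
theorem intNum_eq_sum_top (k : Type u) [Field k] (X : Scheme.{u}) [X.Over (Spec (CommRingCat.of k))]
    [IsProper (X ↘ Spec (CommRingCat.of k))] (d : ℕ) (hd : topologicalKrullDim X ≤ d) {r : ℕ}
    (M : Fin r → X.Modules) (hM : ∀ i, PicF.IsInvertible (M i)) (F : X.Modules) (hF : Coh.IsCoh F)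
    (hsupp : topologicalKrullDim ↥(CohB1.support F) ≤ r) (s : Finset X)
    (hs : ∀ ξ : X, ξ ∈ s ↔
      ξ ∈ CohB1.support F ∧ topologicalKrullDim ↥(closure ({ξ} : Set X)) = r) :
    FGA.intNum k X d M F =
      ∑ ξ ∈ s, ((Module.length (X.presheaf.stalk ξ) (F.presheaf.stalk ξ)).toNat : ℤ) *
        FGA.intNum k X d M (Cyc.closureStructureSheaf ξ) := by
  classical
  haveI : IsNoetherian X := Groth.Agent.Lead.EulerK0.isNoetherian_of_proper' k X
  have hfs : ∀ n : Fin r → ℕ,
      (∑ᶠ ξ : X, (if topologicalKrullDim ↥(closure ({ξ} : Set X)) = (r : WithBot ℕ∞) then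
        ((Module.length (X.presheaf.stalk ξ) (F.presheaf.stalk ξ)).toNat : ℤ) *
          Curv2.euler k X (Curv2.tensorPows (Cyc.closureStructureSheaf ξ) r M n) else 0)) =
      ∑ ξ ∈ s, ((Module.length (X.presheaf.stalk ξ) (F.presheaf.stalk ξ)).toNat : ℤ) *
          Curv2.euler k X (Curv2.tensorPows (Cyc.closureStructureSheaf ξ) r M n) := by
    intro n
    rw [finsum_eq_sum_of_support_subset (s := s)]
    · refine Finset.sum_congr rfl (fun ξ hξ => ?_)
      rw [if_pos ((hs ξ).1 hξ).2]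
    · intro ξ hξ
      rw [Function.mem_support] at hξ
      rw [Finset.mem_coe, hs]
      by_cases h1 : topologicalKrullDim ↥(closure ({ξ} : Set X)) = (r : WithBot ℕ∞)
      · refine ⟨?_, h1⟩
        by_contra hxn
        apply hξ
        rw [if_pos h1,
          Groth.Agent.Helper13.StalkLength.length_stalk_eq_zero_of_notMem_support hxn]
        simp
      · exact absurd (if_neg h1) hξ
  have key : Groth.Agent.Lead.PolyDeg.IsPolyDeg r
      (fun n => Curv2.euler k X (Curv2.tensorPows F r M n) -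
        ∑ᶠ ξ : X, (if topologicalKrullDim ↥(closure ({ξ} : Set X)) = (r : WithBot ℕ∞) then
          ((Module.length (X.presheaf.stalk ξ) (F.presheaf.stalk ξ)).toNat : ℤ) *
            Curv2.euler k X (Curv2.tensorPows (Cyc.closureStructureSheaf ξ) r M n) else 0)) :=
    Groth.Agent.Lead.SnapperComp.isPolyDeg_sub_components k F hF r hsupp r M hM
  have h0 := cube_sum_eq_zero _ key
  simp only [hfs] at h0
  have hfinal := sum_swap_aux s (fun J : Finset (Fin r) => (-1 : ℤ) ^ J.card)
    (fun J => Curv2.euler k X (Curv2.tensorPows F r M (indN J)))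
    (fun ξ => ((Module.length (X.presheaf.stalk ξ) (F.presheaf.stalk ξ)).toNat : ℤ))
    (fun ξ J => Curv2.euler k X (Curv2.tensorPows (Cyc.closureStructureSheaf ξ) r M (indN J))) h0
  have hL : FGA.intNum k X d M F = ∑ J : Finset (Fin r), (-1 : ℤ) ^ J.card *
      Curv2.euler k X (Curv2.tensorPows F r M (indN J)) := intNum_eq_cube k X d hd M hM F hF
  have hRt : ∀ ξ : X, FGA.intNum k X d M (Cyc.closureStructureSheaf ξ) =
      ∑ J : Finset (Fin r), (-1 : ℤ) ^ J.card *
        Curv2.euler k X (Curv2.tensorPows (Cyc.closureStructureSheaf ξ) r M (indN J)) := fun ξ =>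
    intNum_eq_cube k X d hd M hM _
      (Groth.Agent.Helper13.ClosureSheaf.isCoh_closureStructureSheaf ξ)
  rw [hL]
  simp only [hRt]
  exact hfinal

end Groth.Agent.Helper6.SnapTop
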