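import Mathlib

/-!
# Constructing a square-zero extension from an extension of `Ω_{B/A}` by a module.

Given an exact sequence `0 → M → N → Ω_{B/A} → 0` of `B`-modules, the fibre product
`B ×_{Ω_{B/A}} N` (a subring of the trivial square-zero extension `B ⊕ N`) is a square zero
extension of `B` over `A` whose conormal sequence is the given sequence.
-/

namespace Groth.Agent.Helper6.SqZeroExist

open Algebra TensorProduct KaehlerDifferential

universe u

variable {A B : Type u} [CommRing A] [CommRing B] [Algebra A B]
variable {N : Type u} [AddCommGroup N] [Module B N] (q : N →ₗ[B] Ω[B⁄A])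

/-- The fibre product `B ×_{Ω_{B/A}} N`. -/
@[ext] structure Fib where
  /-- first component -/
  fst : B
  /-- second component -/
  snd : N
  h : q snd = KaehlerDifferential.D A B fst

namespace Fib

variable {q}

instance : Zero (Fib q) := ⟨⟨0, 0, by rw [map_zero, map_zero]⟩⟩
instance : One (Fib q) := ⟨⟨1, 0, by rw [map_zero, Derivation.map_one_eq_zero]⟩⟩
instance : Add (Fib q) :=
  ⟨fun x y => ⟨x.fst + y.fst, x.snd + y.snd, by rw [map_add, map_add, x.h, y.h]⟩⟩
instance : Neg (Fib q) := ⟨fun x => ⟨-x.fst, -x.snd, by rw [map_neg, map_neg, x.h]⟩⟩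
instance : Mul (Fib q) :=
  ⟨fun x y => ⟨x.fst * y.fst, x.fst • y.snd + y.fst • x.snd, by
    rw [map_add, map_smul, map_smul, x.h, y.h, Derivation.leibniz]⟩⟩

@[simp] theorem fst_zero : (0 : Fib q).fst = 0 := rfl
@[simp] theorem snd_zero : (0 : Fib q).snd = 0 := rfl
@[simp] theorem fst_one : (1 : Fib q).fst = 1 := rfl
@[simp] theorem snd_one : (1 : Fib q).snd = 0 := rfl
@[simp] theorem fst_add (x y : Fib q) : (x + y).fst = x.fst + y.fst := rfl
@[simp] theorem snd_add (x y : Fib q) : (x + y).snd = x.snd + y.snd := rfl
@[simp] theorem fst_neg (x : Fib q) : (-x).fst = -x.fst := rfl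
@[simp] theorem snd_neg (x : Fib q) : (-x).snd = -x.snd := rfl
@[simp] theorem fst_mul (x y : Fib q) : (x * y).fst = x.fst * y.fst := rfl
@[simp] theorem snd_mul (x y : Fib q) :
    (x * y).snd = x.fst • y.snd + y.fst • x.snd := rfl

instance : CommRing (Fib q) where
  add_assoc x y z := by ext <;> simp only [fst_add, snd_add, add_assoc]
  zero_add x := by ext <;> simp only [fst_add, snd_add, fst_zero, snd_zero, zero_add]
  add_zero x := by ext <;> simp only [fst_add, snd_add, fst_zero, snd_zero, add_zero]
  add_comm x y := by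
    ext
    · simp only [fst_add]; exact add_comm _ _
    · simp only [snd_add]; exact add_comm _ _
  nsmul := nsmulRec
  zsmul := zsmulRec
  neg_add_cancel x := by
    ext <;> simp only [fst_add, snd_add, fst_neg, snd_neg, fst_zero, snd_zero, neg_add_cancel]
  mul_assoc x y z := by
    ext
    · simp only [fst_mul, mul_assoc]
    · simp only [fst_mul, snd_mul]; module
  one_mul x := by
    ext
    · simp only [fst_mul, fst_one, one_mul]
    · simp only [snd_mul, fst_one, snd_one, one_smul, smul_zero, add_zero]
  mul_one x := by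
    ext
    · simp only [fst_mul, fst_one, mul_one]
    · simp only [snd_mul, fst_one, snd_one, one_smul, smul_zero, zero_add]
  left_distrib x y z := by
    ext
    · simp only [fst_mul, fst_add, mul_add]
    · simp only [fst_add, snd_add, snd_mul]; module
  right_distrib x y z := by
    ext
    · simp only [fst_mul, fst_add, add_mul]
    · simp only [fst_add, snd_add, snd_mul]; module
  mul_comm x y := by
    ext
    · simp only [fst_mul]; exact mul_comm _ _
    · simp only [snd_mul]; exact add_comm _ _
  zero_mul x := by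
    ext
    · simp only [fst_mul, fst_zero, zero_mul]
    · simp only [snd_mul, fst_zero, snd_zero, zero_smul, smul_zero, add_zero]
  mul_zero x := by
    ext
    · simp only [fst_mul, fst_zero, mul_zero]
    · simp only [snd_mul, fst_zero, snd_zero, zero_smul, smul_zero, add_zero]

variable (q)

/-- First projection as a ring hom. -/
def fstHom : Fib q →+* B where
  toFun := Fib.fst
  map_one' := rfl
  map_mul' _ _ := rfl
  map_zero' := rfl
  map_add' _ _ := rfl

/-- The structure map. -/
def inlA : A →+* Fib q where
  toFun a := ⟨algebraMap A B a, 0, by rw [map_zero, Derivation.map_algebraMap]⟩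
  map_one' := by ext <;> simp
  map_mul' a b := by ext <;> simp
  map_zero' := by ext <;> simp
  map_add' a b := by ext <;> simp

instance : Algebra A (Fib q) := (inlA q).toAlgebra
instance : Algebra (Fib q) B := (fstHom q).toAlgebra
instance : IsScalarTower A (Fib q) B := IsScalarTower.of_algebraMap_eq (fun _ => rfl)

theorem algebraMap_apply' (e : Fib q) : algebraMap (Fib q) B e = e.fst := rfl
theorem algebraMap_A_fst (a : A) : (algebraMap A (Fib q) a).fst = algebraMap A B a := rfl
theorem algebraMap_A_snd (a : A) : (algebraMap A (Fib q) a).snd = 0 := rfl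
theorem smul_def' (a : A) (e : Fib q) : a • e = algebraMap A (Fib q) a * e :=
  Algebra.smul_def a e

instance : Module (Fib q) N := Module.compHom N (fstHom q)

theorem smul_N (e : Fib q) (n : N) : e • n = e.fst • n := rfl

instance : IsScalarTower (Fib q) B N := ⟨fun e b n => by
  rw [smul_N, Algebra.smul_def, algebraMap_apply', mul_smul]⟩

section Deriv

variable [Module A N] [IsScalarTower A B N]

instance : IsScalarTower A (Fib q) N := ⟨fun a e n => by
  rw [smul_N, smul_N, smul_def', fst_mul, algebraMap_A_fst, mul_smul, algebraMap_smul]⟩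

/-- Second projection as an `A`-linear map. -/
def sndL : Fib q →ₗ[A] N where
  toFun := Fib.snd
  map_add' _ _ := rfl
  map_smul' a x := by
    rw [RingHom.id_apply, smul_def', snd_mul, algebraMap_A_fst, algebraMap_A_snd, smul_zero,
      add_zero, algebraMap_smul]

/-- Second projection as a derivation. -/
def sndD : Derivation A (Fib q) N := Derivation.mk' (sndL q) (fun x y => by
  change (x * y).snd = x • y.snd + y • x.snd
  rw [snd_mul, smul_N, smul_N])

/-- The comparison map `B ⊗ Ω_{E/A} → N`. -/
noncomputable def gg : B ⊗[Fib q] Ω[Fib q⁄A] →ₗ[B] N :=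
  LinearMap.liftBaseChange B (sndD q).liftKaehlerDifferential

theorem gg_tmul_D (b : B) (e : Fib q) :
    gg q (b ⊗ₜ[Fib q] KaehlerDifferential.D A (Fib q) e) = b • e.snd := by
  unfold gg
  rw [LinearMap.liftBaseChange_tmul, Derivation.liftKaehlerDifferential_comp_D]
  rfl

end Deriv

end Fib

open Fib

theorem cs_ext {X : Type*} [AddCommGroup X] [Module B X] (P : Algebra.Extension.{u} A B)
    (f g : P.CotangentSpace →ₗ[B] X)
    (h : ∀ e : P.Ring, f ((1 : B) ⊗ₜ[P.Ring] KaehlerDifferential.D A P.Ring e) =
      g ((1 : B) ⊗ₜ[P.Ring] KaehlerDifferential.D A P.Ring e)) : f = g := by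
  refine LinearMap.ext fun y => ?_
  induction y using TensorProduct.induction_on with
  | zero => rw [map_zero, map_zero]
  | add a b ha hb => rw [map_add, map_add, ha, hb]
  | tmul b ω =>
    have hω : ω ∈ Submodule.span P.Ring (Set.range (KaehlerDifferential.D A P.Ring)) := by
      rw [KaehlerDifferential.span_range_derivation]; trivial
    induction hω using Submodule.span_induction generalizing b with
    | mem x hx =>
      obtain ⟨e, rfl⟩ := hx
      have h1 : b ⊗ₜ[P.Ring] KaehlerDifferential.D A P.Ring e =
          b • ((1 : B) ⊗ₜ[P.Ring] KaehlerDifferential.D A P.Ring e) := by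
        rw [TensorProduct.smul_tmul', smul_eq_mul, mul_one]
      rw [h1, map_smul, map_smul, h]
    | zero => rw [TensorProduct.tmul_zero, map_zero, map_zero]
    | add x y _ _ hx hy => rw [TensorProduct.tmul_add, map_add, map_add, hx, hy]
    | smul r x _ hx => rw [← TensorProduct.smul_tmul]; exact hx (r • b)

variable (hq : Function.Surjective q)

/-- The extension `B ×_{Ω} N → B`. -/
@[reducible] noncomputable def ext : Algebra.Extension.{u} A B where
  Ring := Fib q
  σ b := ⟨b, (hq (KaehlerDifferential.D A B b)).choose,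
    (hq (KaehlerDifferential.D A B b)).choose_spec⟩
  algebraMap_σ _ := rfl

theorem ker_sq : (ext q hq).ker ^ 2 = ⊥ := by
  rw [eq_bot_iff, pow_two, Ideal.mul_le]
  intro (x : Fib q) hx (y : Fib q) hy
  rw [Ideal.mem_bot]
  have hx' : x.fst = 0 := hx
  have hy' : y.fst = 0 := hy
  refine Fib.ext ?_ ?_
  · rw [fst_mul, hx', zero_mul]; rfl
  · rw [snd_mul, hx', hy', zero_smul, zero_smul, add_zero]; rfl

variable {M : Type u} [AddCommGroup M] [Module B M] (i : M →ₗ[B] N) (hex : Function.Exact i q)

/-- The element of the kernel attached to `m ∈ M`. -/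
def toKer (m : M) : (ext q hq).ker :=
  ⟨(⟨0, i m, by rw [hex.apply_apply_eq_zero, map_zero]⟩ : Fib q), by
    rw [RingHom.mem_ker]; rfl⟩

/-- The map `M → I/I²`. -/
noncomputable def cotMap : M →ₗ[B] (ext q hq).Cotangent where
  toFun m := Algebra.Extension.Cotangent.mk (toKer q hq i hex m)
  map_add' m m' := by
    rw [← map_add]
    congr 1
    apply Subtype.ext
    refine Fib.ext ?_ ?_
    · change (0 : B) = 0 + 0; rw [add_zero]
    · change i (m + m') = i m + i m'; rw [map_add]
  map_smul' b m := by
    obtain ⟨(e : Fib q), rfl⟩ := (ext q hq).algebraMap_surjective b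
    rw [RingHom.id_apply,
      algebraMap_smul B e (Algebra.Extension.Cotangent.mk (toKer q hq i hex m)), ← map_smul]
    congr 1
    apply Subtype.ext
    refine Fib.ext ?_ ?_
    · change (0 : B) = e.fst * 0; rw [mul_zero]
    · change i (e.fst • m) = e.fst • i m + (0 : B) • e.snd
      rw [map_smul, zero_smul, add_zero]

theorem cotMap_injective (hi : Function.Injective i) :
    Function.Injective (cotMap q hq i hex) := by
  rw [injective_iff_map_eq_zero]
  intro m hm
  change Algebra.Extension.Cotangent.mk (toKer q hq i hex m) = 0 at hm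
  rw [Algebra.Extension.Cotangent.mk_eq_zero_iff, ker_sq q hq, Ideal.mem_bot] at hm
  have h0 : i m = 0 := congrArg (fun z : Fib q => z.snd) hm
  exact hi (h0.trans (map_zero i).symm)

theorem cotMap_surjective : Function.Surjective (cotMap q hq i hex) := by
  intro c
  obtain ⟨x, rfl⟩ := Algebra.Extension.Cotangent.mk_surjective c
  have hx : (x.1 : Fib q).fst = 0 := x.2
  have hq0 : q (x.1 : Fib q).snd = 0 := by rw [(x.1 : Fib q).h, hx, map_zero]
  obtain ⟨m, hm⟩ := (hex _).mp hq0
  refine ⟨m, ?_⟩
  change Algebra.Extension.Cotangent.mk (toKer q hq i hex m) = _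
  congr 1
  apply Subtype.ext
  refine Fib.ext ?_ ?_
  · exact hx.symm
  · exact hm

section Deriv2

variable [Module A N] [IsScalarTower A B N]

theorem gg_cotangentComplex (m : M) :
    gg q ((ext q hq).cotangentComplex (cotMap q hq i hex m)) = i m := by
  change gg q ((1 : B) ⊗ₜ[Fib q] KaehlerDifferential.D A (Fib q) (toKer q hq i hex m).1) = i m
  rw [gg_tmul_D, one_smul]
  rfl

theorem q_gg (y : (ext q hq).CotangentSpace) : q (gg q y) = (ext q hq).toKaehler y := by
  have h0 : q ∘ₗ gg q = (ext q hq).toKaehler := by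
    apply cs_ext (ext q hq)
    intro (e : Fib q)
    rw [LinearMap.comp_apply]
    change q (gg q ((1 : B) ⊗ₜ[Fib q] KaehlerDifferential.D A (Fib q) e)) =
      KaehlerDifferential.mapBaseChange A (Fib q) B
        ((1 : B) ⊗ₜ[Fib q] KaehlerDifferential.D A (Fib q) e)
    rw [gg_tmul_D, one_smul, KaehlerDifferential.mapBaseChange_tmul, KaehlerDifferential.map_D,
      one_smul]
    exact e.h
  exact LinearMap.congr_fun h0 y

include hq hex in
theorem gg_injective (hi : Function.Injective i) :
    Function.Injective (gg q) := by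
  rw [injective_iff_map_eq_zero]
  intro z hz
  have h1 : (ext q hq).toKaehler z = 0 := by rw [← q_gg q hq, hz, map_zero]
  obtain ⟨c, rfl⟩ := ((ext q hq).exact_cotangentComplex_toKaehler z).mp h1
  obtain ⟨m, rfl⟩ := cotMap_surjective q hq i hex c
  rw [gg_cotangentComplex] at hz
  have h2 : m = 0 := hi (hz.trans (map_zero i).symm)
  rw [h2, map_zero, map_zero]

include hq hex in
theorem gg_surjective :
    Function.Surjective (gg q) := by
  intro n
  obtain ⟨z, hz⟩ := (ext q hq).toKaehler_surjective (q n)
  have h1 : q (n - gg q z) = 0 := by rw [map_sub, q_gg q hq, hz, sub_self]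
  obtain ⟨m, hm⟩ := (hex _).mp h1
  refine ⟨z + (ext q hq).cotangentComplex (cotMap q hq i hex m), ?_⟩
  rw [map_add, gg_cotangentComplex, hm]
  abel

end Deriv2

include hq hex in
theorem main (hi : Function.Injective i) :
    ∃ P : Algebra.Extension.{u} A B, P.ker ^ 2 = ⊥ ∧
      ∃ (e₁ : P.Cotangent ≃ₗ[B] M) (e₂ : P.CotangentSpace ≃ₗ[B] N),
        (∀ x, e₂ (P.cotangentComplex x) = i (e₁ x)) ∧ (∀ y, q (e₂ y) = P.toKaehler y) := by
  let _ : Module A N := Module.compHom N (algebraMap A B)
  have _ : IsScalarTower A B N := ⟨fun a b n => by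
    change (a • b) • n = algebraMap A B a • (b • n)
    rw [Algebra.smul_def, mul_smul]⟩
  let E₁ : M ≃ₗ[B] (ext q hq).Cotangent := LinearEquiv.ofBijective (cotMap q hq i hex)
    ⟨cotMap_injective q hq i hex hi, cotMap_surjective q hq i hex⟩
  let E₂ : (ext q hq).CotangentSpace ≃ₗ[B] N :=
    LinearEquiv.ofBijective (gg q : (ext q hq).CotangentSpace →ₗ[B] N)
      ⟨gg_injective q hq i hex hi, gg_surjective q hq i hex⟩
  refine ⟨ext q hq, ker_sq q hq, E₁.symm, E₂, ?_, ?_⟩
  · intro x
    obtain ⟨m, rfl⟩ := E₁.surjective x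
    rw [LinearEquiv.symm_apply_apply]
    exact gg_cotangentComplex q hq i hex m
  · intro y
    exact q_gg q hq y

end Groth.Agent.Helper6.SqZeroExist
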