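import Mathlib

/-!
# Injectivity of the conormal map of a square-zero extension with projective kernel
over a reduced ring which is generically smooth.
-/

namespace Groth.Agent.Helper6.SqZeroInj

open Algebra TensorProduct

universe u

section Reduced

variable {B N : Type*} [CommRing B] [IsReduced B] [AddCommGroup N] [Module B N]
  [Module.Projective B N]

theorem eq_zero_of_forall_minimalPrimes (y : N)
    (h : ∀ p ∈ minimalPrimes B, ∃ b ∉ p, b • y = 0) : y = 0 := by
  obtain ⟨s, hs⟩ := Module.projective_def'.mp ‹Module.Projective B N›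
  have hinj : Function.Injective s := by
    intro a b hab
    have ha : Finsupp.linearCombination B id (s a) = a := LinearMap.congr_fun hs a
    have hb : Finsupp.linearCombination B id (s b) = b := LinearMap.congr_fun hs b
    rw [← ha, ← hb, hab]
  apply hinj
  rw [map_zero]
  ext j
  rw [Finsupp.zero_apply]
  have hmem : s y j ∈ sInf (minimalPrimes B) := by
    rw [Ideal.mem_sInf]
    intro p hp
    obtain ⟨b, hb, hby⟩ := h p hp
    have hpp : p.IsPrime := hp.1.1
    have h2 : b * s y j = 0 := by
      have h3 : s (b • y) j = 0 := by rw [hby, map_zero, Finsupp.zero_apply]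
      rwa [map_smul, Finsupp.smul_apply, smul_eq_mul] at h3
    have h4 : b * s y j ∈ p := by rw [h2]; exact p.zero_mem
    exact (hpp.mem_or_mem h4).resolve_left hb
  have hmem' : s y j ∈ (⊥ : Ideal B).radical := by
    rw [← Ideal.sInf_minimalPrimes]; exact hmem
  obtain ⟨n, hn⟩ := hmem'
  exact IsNilpotent.eq_zero ⟨n, Ideal.mem_bot.mp hn⟩

end Reduced

section Smooth

variable {A B : Type u} [CommRing A] [CommRing B] [Algebra A B]
variable {B' : Type u} [CommRing B'] [Algebra B B'] [Algebra A B'] [IsScalarTower A B B']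

theorem map_eq_zero_of_formallySmooth [Algebra.FormallySmooth A B']
    (P : Algebra.Extension.{u} A B) (P' : Algebra.Extension.{u} A B') (f : P.Hom P')
    (hsq : P'.ker ^ 2 = ⊥) (y : P.Cotangent) (hy : P.cotangentComplex y = 0) :
    Algebra.Extension.Cotangent.map f y = 0 := by
  let π : P'.Ring →ₐ[A] B' := IsScalarTower.toAlgHom A P'.Ring B'
  have hπ : Function.Surjective π := P'.algebraMap_surjective
  have hnil : IsNilpotent (RingHom.ker (π : P'.Ring →+* B')) := by
    refine ⟨2, ?_⟩
    rw [IsScalarTower.coe_toAlgHom]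
    exact hsq
  let σ : B' →ₐ[A] P'.Ring :=
    Algebra.FormallySmooth.liftOfSurjective (AlgHom.id A B') π hπ hnil
  have hσ : ∀ b, algebraMap P'.Ring B' (σ b) = b := fun b =>
    Algebra.FormallySmooth.liftOfSurjective_apply (AlgHom.id A B') π hπ hnil b
  let g : P.Hom P' :=
    { toRingHom := (σ : B' →+* P'.Ring).comp ((algebraMap B B').comp (algebraMap P.Ring B))
      toRingHom_algebraMap := fun x => by
        change σ (algebraMap B B' (algebraMap P.Ring B (algebraMap A P.Ring x))) =
          algebraMap A P'.Ring x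
        rw [← IsScalarTower.algebraMap_apply A P.Ring B, ← IsScalarTower.algebraMap_apply A B B']
        exact σ.commutes x
      algebraMap_toRingHom := fun x => hσ _ }
  have h := LinearMap.congr_fun (Algebra.Extension.Cotangent.map_sub_map f g) y
  rw [LinearMap.sub_apply, LinearMap.comp_apply, hy, map_zero, sub_eq_zero] at h
  rw [h]
  obtain ⟨x, rfl⟩ := Algebra.Extension.Cotangent.mk_surjective y
  rw [Algebra.Extension.Cotangent.map_mk, Algebra.Extension.Cotangent.mk_eq_zero_iff]
  have hx : g.toAlgHom (x : P.Ring) = 0 := by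
    change σ (algebraMap B B' (algebraMap P.Ring B x)) = 0
    rw [show algebraMap P.Ring B (x : P.Ring) = 0 from x.2, map_zero, map_zero]
  change g.toAlgHom (x : P.Ring) ∈ P'.ker ^ 2
  rw [hx]
  exact zero_mem _

end Smooth

section Loc

variable {A B : Type u} [CommRing A] [CommRing B] [Algebra A B]
variable (P : Algebra.Extension.{u} A B) (M : Submonoid B) (B' : Type u) [CommRing B']
  [Algebra B B'] [IsLocalization M B'] [Algebra A B'] [IsScalarTower A B B']

/-- The submonoid of the extension ring lying over `M`. -/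
abbrev LM : Submonoid P.Ring := M.comap (algebraMap P.Ring B)

/-- The localised extension ring. -/
abbrev LR : Type u := Localization (LM P M)

omit [Algebra A B'] [IsScalarTower A B B'] in
theorem lift_cond (y : LM P M) :
    IsUnit (((algebraMap B B').comp (algebraMap P.Ring B)) y) :=
  IsLocalization.map_units B' (⟨algebraMap P.Ring B y.1, y.2⟩ : M)

/-- The structure map of the localised extension, as a ring hom on `LR`. -/
noncomputable def φ : LR P M →+* B' := IsLocalization.lift (lift_cond P M B')

omit [Algebra A B'] [IsScalarTower A B B'] in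
theorem φ_algebraMap (x : P.Ring) :
    φ P M B' (algebraMap P.Ring (LR P M) x) = algebraMap B B' (algebraMap P.Ring B x) :=
  IsLocalization.lift_eq _ x

theorem algebraMap_loc_eq (z : LR P M) :
    algebraMap (P.localization M (S' := B')).Ring B' z = φ P M B' z := rfl

/-- The canonical hom from an extension to its localisation. -/
noncomputable def locHom : P.Hom (P.localization M (S' := B')) where
  toRingHom := algebraMap P.Ring (LR P M)
  toRingHom_algebraMap x := (IsScalarTower.algebraMap_apply A P.Ring (LR P M) x).symm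
  algebraMap_toRingHom x := φ_algebraMap P M B' x

omit [Algebra A B'] [IsScalarTower A B B'] in
theorem exists_mem_ker (z : LR P M) (hz : φ P M B' z = 0) :
    ∃ k ∈ P.ker, ∃ t ∈ LM P M,
      z * algebraMap P.Ring (LR P M) t = algebraMap P.Ring (LR P M) k := by
  obtain ⟨⟨e, t⟩, het⟩ := IsLocalization.surj (LM P M) z
  have h0 : algebraMap B B' (algebraMap P.Ring B e) = 0 := by
    rw [← φ_algebraMap P M B' e, ← het, map_mul, hz, zero_mul]
  obtain ⟨m, hm⟩ := (IsLocalization.map_eq_zero_iff M B' _).mp h0
  obtain ⟨u, hu⟩ := P.algebraMap_surjective m.1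
  have hu' : u ∈ LM P M := by
    rw [Submonoid.mem_comap, hu]; exact m.2
  have hk : u * e ∈ P.ker := by
    rw [RingHom.mem_ker, map_mul, hu]; exact hm
  refine ⟨u * e, hk, u * t.1, mul_mem hu' t.2, ?_⟩
  rw [map_mul, map_mul, ← het]
  ring

omit [Algebra A B'] [IsScalarTower A B B'] in
theorem mul_eq_zero_of_φ (hsq : P.ker ^ 2 = ⊥) (z w : LR P M)
    (hz : φ P M B' z = 0) (hw : φ P M B' w = 0) : z * w = 0 := by
  obtain ⟨k, hk, t, ht, hkt⟩ := exists_mem_ker P M B' z hz
  obtain ⟨k', hk', t', ht', hkt'⟩ := exists_mem_ker P M B' w hw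
  have hkk : k * k' = 0 := by
    have : k * k' ∈ P.ker ^ 2 := by rw [pow_two]; exact Ideal.mul_mem_mul hk hk'
    rwa [hsq, Ideal.mem_bot] at this
  have hunit : IsUnit (algebraMap P.Ring (LR P M) (t * t')) :=
    IsLocalization.map_units _ (⟨t * t', mul_mem ht ht'⟩ : LM P M)
  have h1 : (z * w) * algebraMap P.Ring (LR P M) (t * t') = 0 := by
    have : (z * w) * algebraMap P.Ring (LR P M) (t * t')
        = (z * algebraMap P.Ring (LR P M) t) * (w * algebraMap P.Ring (LR P M) t') := by
      rw [map_mul]; ring
    rw [this, hkt, hkt', ← map_mul, hkk, map_zero]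
  exact (hunit.mul_left_eq_zero).mp h1

theorem ker_localization_sq (hsq : P.ker ^ 2 = ⊥) :
    (P.localization M (S' := B')).ker ^ 2 = ⊥ := by
  rw [eq_bot_iff, pow_two, Ideal.mul_le]
  intro z hz w hw
  rw [Ideal.mem_bot]
  exact mul_eq_zero_of_φ P M B' hsq z w hz hw

theorem exists_mul_eq_zero (hsq : P.ker ^ 2 = ⊥) (x : P.ker)
    (h : Algebra.Extension.Cotangent.map (locHom P M B') (Algebra.Extension.Cotangent.mk x) = 0) :
    ∃ m ∈ LM P M, m * x.1 = 0 := by
  rw [Algebra.Extension.Cotangent.map_mk, Algebra.Extension.Cotangent.mk_eq_zero_iff,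
    ker_localization_sq P M B' hsq, Ideal.mem_bot] at h
  have h' : algebraMap P.Ring (LR P M) x.1 = 0 := h
  obtain ⟨m, hm⟩ := (IsLocalization.map_eq_zero_iff (LM P M) _ _).mp h'
  exact ⟨m.1, m.2, hm⟩

end Loc

section Main

variable {A B : Type u} [CommRing A] [CommRing B] [Algebra A B]

theorem exists_smul_eq_zero (P : Algebra.Extension.{u} A B) (hsq : P.ker ^ 2 = ⊥)
    (p : Ideal B) [p.IsPrime] [Algebra.FormallySmooth A (Localization.AtPrime p)]
    (y : P.Cotangent) (hy : P.cotangentComplex y = 0) :
    ∃ b ∉ p, b • y = 0 := by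
  have h1 := map_eq_zero_of_formallySmooth P
    (P.localization p.primeCompl (S' := Localization.AtPrime p))
    (locHom P p.primeCompl (Localization.AtPrime p))
    (ker_localization_sq P p.primeCompl _ hsq) y hy
  obtain ⟨x, rfl⟩ := Algebra.Extension.Cotangent.mk_surjective y
  obtain ⟨m, hm, hmx⟩ := exists_mul_eq_zero P p.primeCompl (Localization.AtPrime p) hsq x h1
  refine ⟨algebraMap P.Ring B m, hm, ?_⟩
  rw [algebraMap_smul, ← map_smul]
  have : m • x = 0 := Subtype.ext (by simpa using hmx)
  rw [this, map_zero]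

theorem main [IsReduced B]
    (hsm : ∀ p : PrimeSpectrum B, p.asIdeal ∈ minimalPrimes B → Algebra.IsSmoothAt A p.asIdeal)
    (P : Algebra.Extension.{u} A B) (hsq : P.ker ^ 2 = ⊥)
    [Module.Projective B P.Cotangent] :
    Function.Injective P.cotangentComplex := by
  rw [injective_iff_map_eq_zero]
  intro y hy
  apply eq_zero_of_forall_minimalPrimes (B := B) y
  intro p hp
  have hpp : p.IsPrime := hp.1.1
  have hs : Algebra.FormallySmooth A (Localization.AtPrime p) := hsm ⟨p, hpp⟩ hp
  exact exists_smul_eq_zero P hsq p y hy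

end Main

end Groth.Agent.Helper6.SqZeroInj
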