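import Mathlib

/-!
# A square-zero extension with injective conormal map is determined by its conormal sequence.
-/

namespace Groth.Agent.Helper6.SqZeroIso

open Algebra TensorProduct KaehlerDifferential

universe u

variable {A B : Type u} [CommRing A] [CommRing B] [Algebra A B]

section dd

variable (P : Algebra.Extension.{u} A B)

/-- The class of `d e` in the cotangent space. -/
noncomputable def dd (e : P.Ring) : P.CotangentSpace :=
  (1 : B) ⊗ₜ[P.Ring] KaehlerDifferential.D A P.Ring e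

theorem dd_add (e d : P.Ring) : dd P (e + d) = dd P e + dd P d := by
  unfold dd; rw [map_add, TensorProduct.tmul_add]

theorem dd_zero : dd P 0 = 0 := by
  unfold dd; rw [map_zero, TensorProduct.tmul_zero]

theorem dd_sub (e d : P.Ring) : dd P (e - d) = dd P e - dd P d := by
  unfold dd; rw [map_sub, TensorProduct.tmul_sub]

theorem dd_one : dd P 1 = 0 := by
  unfold dd; rw [Derivation.map_one_eq_zero, TensorProduct.tmul_zero]

theorem dd_algebraMap (a : A) : dd P (algebraMap A P.Ring a) = 0 := by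
  unfold dd; rw [Derivation.map_algebraMap, TensorProduct.tmul_zero]

theorem dd_mul (e d : P.Ring) :
    dd P (e * d) = algebraMap P.Ring B e • dd P d + algebraMap P.Ring B d • dd P e := by
  unfold dd
  rw [Derivation.leibniz, TensorProduct.tmul_add, TensorProduct.tmul_smul,
    TensorProduct.tmul_smul, algebraMap_smul, algebraMap_smul]

theorem toKaehler_dd (e : P.Ring) :
    P.toKaehler (dd P e) = KaehlerDifferential.D A B (algebraMap P.Ring B e) := by
  change KaehlerDifferential.mapBaseChange A P.Ring B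
    ((1 : B) ⊗ₜ[P.Ring] KaehlerDifferential.D A P.Ring e) = _
  rw [KaehlerDifferential.mapBaseChange_tmul, KaehlerDifferential.map_D, one_smul]

theorem cotangentComplex_mk' (x : P.ker) :
    P.cotangentComplex (Algebra.Extension.Cotangent.mk x) = dd P x.1 := rfl

end dd

section Rel

variable (P P' : Algebra.Extension.{u} A B) (e₂ : P.CotangentSpace →ₗ[B] P'.CotangentSpace)

/-- `e'` corresponds to `e` under the isomorphism of conormal sequences. -/
def Rel (e : P.Ring) (e' : P'.Ring) : Prop :=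
  algebraMap P'.Ring B e' = algebraMap P.Ring B e ∧ dd P' e' = e₂ (dd P e)

variable {P P' e₂}

theorem rel_exists (h₂ : ∀ y, P'.toKaehler (e₂ y) = P.toKaehler y) (e : P.Ring) :
    ∃ e', Rel P P' e₂ e e' := by
  obtain ⟨e0, he0⟩ := P'.algebraMap_surjective (algebraMap P.Ring B e)
  have hker : P'.toKaehler (e₂ (dd P e) - dd P' e0) = 0 := by
    rw [map_sub, h₂, toKaehler_dd, toKaehler_dd, he0, sub_self]
  obtain ⟨c, hc⟩ := (P'.exact_cotangentComplex_toKaehler _).mp hker
  obtain ⟨k, rfl⟩ := Algebra.Extension.Cotangent.mk_surjective c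
  refine ⟨e0 + k.1, ?_, ?_⟩
  · rw [map_add, he0, show algebraMap P'.Ring B k.1 = 0 from k.2, add_zero]
  · rw [dd_add, ← cotangentComplex_mk', hc]; abel

theorem rel_unique (hinj : Function.Injective P'.cotangentComplex) (hsq' : P'.ker ^ 2 = ⊥)
    {e : P.Ring} {e'₁ e'₂ : P'.Ring} (h1 : Rel P P' e₂ e e'₁) (h2 : Rel P P' e₂ e e'₂) :
    e'₁ = e'₂ := by
  have hk : e'₁ - e'₂ ∈ P'.ker := by
    rw [RingHom.mem_ker, map_sub, h1.1, h2.1, sub_self]
  have hcc : P'.cotangentComplex (Algebra.Extension.Cotangent.mk ⟨e'₁ - e'₂, hk⟩) = 0 := by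
    rw [cotangentComplex_mk']
    change dd P' (e'₁ - e'₂) = 0
    rw [dd_sub, h1.2, h2.2, sub_self]
  have h0 := hinj (hcc.trans (map_zero P'.cotangentComplex).symm)
  rw [Algebra.Extension.Cotangent.mk_eq_zero_iff, hsq', Ideal.mem_bot] at h0
  exact sub_eq_zero.mp h0

theorem rel_zero : Rel P P' e₂ 0 0 :=
  ⟨by rw [map_zero, map_zero], by rw [dd_zero, dd_zero, map_zero]⟩

theorem rel_one : Rel P P' e₂ 1 1 :=
  ⟨by rw [map_one, map_one], by rw [dd_one, dd_one, map_zero]⟩

theorem rel_add {e d : P.Ring} {e' d' : P'.Ring} (h1 : Rel P P' e₂ e e')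
    (h2 : Rel P P' e₂ d d') : Rel P P' e₂ (e + d) (e' + d') :=
  ⟨by rw [map_add, map_add, h1.1, h2.1], by rw [dd_add, dd_add, map_add, h1.2, h2.2]⟩

theorem rel_mul {e d : P.Ring} {e' d' : P'.Ring} (h1 : Rel P P' e₂ e e')
    (h2 : Rel P P' e₂ d d') : Rel P P' e₂ (e * d) (e' * d') :=
  ⟨by rw [map_mul, map_mul, h1.1, h2.1],
    by rw [dd_mul, dd_mul, map_add, map_smul, map_smul, h1.1, h2.1, h1.2, h2.2]⟩

theorem rel_algebraMap (a : A) :
    Rel P P' e₂ (algebraMap A P.Ring a) (algebraMap A P'.Ring a) :=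
  ⟨by rw [← IsScalarTower.algebraMap_apply, ← IsScalarTower.algebraMap_apply],
    by rw [dd_algebraMap, dd_algebraMap, map_zero]⟩

end Rel

section Hom

variable (P P' : Algebra.Extension.{u} A B) (e₂ : P.CotangentSpace →ₗ[B] P'.CotangentSpace)
  (h₂ : ∀ y, P'.toKaehler (e₂ y) = P.toKaehler y)
  (hinj : Function.Injective P'.cotangentComplex) (hsq' : P'.ker ^ 2 = ⊥)

/-- The underlying function of the comparison map. -/
noncomputable def ff (e : P.Ring) : P'.Ring := (rel_exists h₂ e).choose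

theorem ff_spec (e : P.Ring) : Rel P P' e₂ e (ff P P' e₂ h₂ e) := (rel_exists h₂ e).choose_spec

include hinj hsq' in
theorem ff_eq {e : P.Ring} {e' : P'.Ring} (h : Rel P P' e₂ e e') : ff P P' e₂ h₂ e = e' :=
  rel_unique hinj hsq' (ff_spec P P' e₂ h₂ e) h

/-- The comparison map as a ring hom. -/
noncomputable def ffHom : P.Ring →+* P'.Ring where
  toFun := ff P P' e₂ h₂
  map_one' := ff_eq P P' e₂ h₂ hinj hsq' rel_one
  map_mul' x y := ff_eq P P' e₂ h₂ hinj hsq' (rel_mul (ff_spec P P' e₂ h₂ x) (ff_spec P P' e₂ h₂ y))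
  map_zero' := ff_eq P P' e₂ h₂ hinj hsq' rel_zero
  map_add' x y := ff_eq P P' e₂ h₂ hinj hsq' (rel_add (ff_spec P P' e₂ h₂ x) (ff_spec P P' e₂ h₂ y))

/-- The comparison map as a hom of extensions. -/
noncomputable def theHom : P.Hom P' where
  toRingHom := ffHom P P' e₂ h₂ hinj hsq'
  toRingHom_algebraMap a := ff_eq P P' e₂ h₂ hinj hsq' (rel_algebraMap a)
  algebraMap_toRingHom e := (ff_spec P P' e₂ h₂ e).1

end Hom

theorem main (P P' : Algebra.Extension.{u} A B) (hsq : P.ker ^ 2 = ⊥) (hsq' : P'.ker ^ 2 = ⊥)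
    (hinj : Function.Injective P.cotangentComplex)
    (e₁ : P.Cotangent ≃ₗ[B] P'.Cotangent) (e₂ : P.CotangentSpace ≃ₗ[B] P'.CotangentSpace)
    (h₁ : ∀ x, e₂ (P.cotangentComplex x) = P'.cotangentComplex (e₁ x))
    (h₂ : ∀ y, P'.toKaehler (e₂ y) = P.toKaehler y) :
    ∃ f : P.Hom P', Function.Bijective f.toRingHom ∧
      Algebra.Extension.Cotangent.map f = e₁.toLinearMap := by
  have hinj' : Function.Injective P'.cotangentComplex := by
    rw [injective_iff_map_eq_zero]
    intro c' hc'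
    obtain ⟨c, rfl⟩ := e₁.surjective c'
    rw [← h₁] at hc'
    have h0 : P.cotangentComplex c = 0 := by
      apply e₂.injective; rw [hc', map_zero]
    rw [hinj (h0.trans (map_zero P.cotangentComplex).symm), map_zero]
  have h₂' : ∀ y, P'.toKaehler ((e₂ : P.CotangentSpace →ₗ[B] P'.CotangentSpace) y)
      = P.toKaehler y := h₂
  have h₂s : ∀ y, P.toKaehler ((e₂.symm : P'.CotangentSpace →ₗ[B] P.CotangentSpace) y)
      = P'.toKaehler y := by
    intro y
    have h3 := h₂ (e₂.symm y)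
    rw [LinearEquiv.apply_symm_apply] at h3
    exact h3.symm
  refine ⟨theHom P P' (e₂ : P.CotangentSpace →ₗ[B] P'.CotangentSpace) h₂' hinj' hsq',
    ⟨?_, ?_⟩, ?_⟩
  · intro a b hab
    have ha := ff_spec P P' (e₂ : P.CotangentSpace →ₗ[B] P'.CotangentSpace) h₂' a
    have hb := ff_spec P P' (e₂ : P.CotangentSpace →ₗ[B] P'.CotangentSpace) h₂' b
    have hab' : ff P P' (e₂ : P.CotangentSpace →ₗ[B] P'.CotangentSpace) h₂' a
        = ff P P' (e₂ : P.CotangentSpace →ₗ[B] P'.CotangentSpace) h₂' b := hab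
    rw [hab'] at ha
    have ha' : Rel P' P (e₂.symm : P'.CotangentSpace →ₗ[B] P.CotangentSpace)
        (ff P P' (e₂ : P.CotangentSpace →ₗ[B] P'.CotangentSpace) h₂' b) a :=
      ⟨ha.1.symm, by rw [ha.2]; exact (e₂.symm_apply_apply _).symm⟩
    have hb' : Rel P' P (e₂.symm : P'.CotangentSpace →ₗ[B] P.CotangentSpace)
        (ff P P' (e₂ : P.CotangentSpace →ₗ[B] P'.CotangentSpace) h₂' b) b :=
      ⟨hb.1.symm, by rw [hb.2]; exact (e₂.symm_apply_apply _).symm⟩
    exact rel_unique hinj hsq ha' hb'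
  · intro e'
    obtain ⟨e, he⟩ := rel_exists (P := P') (P' := P)
      (e₂ := (e₂.symm : P'.CotangentSpace →ₗ[B] P.CotangentSpace)) h₂s e'
    refine ⟨e, ?_⟩
    apply ff_eq P P' (e₂ : P.CotangentSpace →ₗ[B] P'.CotangentSpace) h₂' hinj' hsq'
    exact ⟨he.1.symm, by rw [he.2]; exact (e₂.apply_symm_apply _).symm⟩
  · refine LinearMap.ext fun c => ?_
    obtain ⟨x, rfl⟩ := Algebra.Extension.Cotangent.mk_surjective c
    apply hinj'
    rw [LinearEquiv.coe_coe, ← h₁, Algebra.Extension.Cotangent.map_mk]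
    exact (ff_spec P P' (e₂ : P.CotangentSpace →ₗ[B] P'.CotangentSpace) h₂' x.1).2

end Groth.Agent.Helper6.SqZeroIso
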