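import Mathlib

/-!
# Base change of the cokernel of a dual map between finite projective modules (helper6)

For `d : N → F` between finite projective `R`-modules and an `R`-algebra `R'`, the cokernel of
`d^* : F^* → N^*` commutes with base change:
`R' ⊗ coker(d^*) ≃ coker((R' ⊗ d)^*)`.
-/

set_option autoImplicit false
set_option linter.style.haveILetI false
set_option linter.unusedSectionVars false
universe u

namespace Groth.Agent.Helper6.T1BC

open TensorProduct

section DualBC

variable {R R' : Type u} [CommRing R] [CommRing R'] [Algebra R R']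

/-- the canonical map `R' ⊗ Hom_R(N, R) → Hom_{R'}(R' ⊗ N, R')`. -/
noncomputable def dualBC (N : Type u) [AddCommGroup N] [Module R N] :
    R' ⊗[R] (N →ₗ[R] R) →ₗ[R'] (R' ⊗[R] N →ₗ[R'] R') :=
  LinearMap.liftBaseChange R' (Module.Dual.baseChange R' (R := R) (V := N))

theorem dualBC_tmul (N : Type u) [AddCommGroup N] [Module R N] (a : R') (φ : N →ₗ[R] R) (b : R')
    (n : N) : dualBC (R' := R') N (a ⊗ₜ[R] φ) (b ⊗ₜ[R] n) = a * (φ n • b) := by
  simp [dualBC]

theorem dualBC_eq (N : Type u) [AddCommGroup N] [Module R N] (z : R' ⊗[R] (N →ₗ[R] R)) :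
    dualBC (R' := R') N z = LinearMap.liftBaseChangeEquiv R'
      (dualTensorHom R N R' (TensorProduct.comm R R' (N →ₗ[R] R) z)) := by
  induction z using TensorProduct.induction_on with
  | zero => simp
  | add x y hx hy => simp only [map_add, hx, hy]
  | tmul a φ =>
    apply (LinearMap.liftBaseChangeEquiv R').symm.injective
    ext n
    simp [dualBC]

theorem dualBC_bijective (N : Type u) [AddCommGroup N] [Module R N] [Module.Finite R N]
    [Module.Projective R N] : Function.Bijective (dualBC (R := R) (R' := R') N) := by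
  have h : ⇑(dualBC (R := R) (R' := R') N) =
      (LinearMap.liftBaseChangeEquiv R' : (N →ₗ[R] R') ≃ₗ[R'] _) ∘
      (dualTensorHom R N R') ∘ (TensorProduct.comm R R' (N →ₗ[R] R)) := by
    funext z
    exact dualBC_eq N z
  rw [h]
  exact (LinearEquiv.bijective _).comp ((dualTensorHom_bijective).comp (LinearEquiv.bijective _))

/-- naturality of `dualBC`. -/
theorem dualBC_natural {N F : Type u} [AddCommGroup N] [Module R N] [AddCommGroup F] [Module R F]
    (d : N →ₗ[R] F) (z : R' ⊗[R] (F →ₗ[R] R)) :
    dualBC (R' := R') N ((LinearMap.lcomp R R d).baseChange R' z) =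
      (dualBC (R' := R') F z) ∘ₗ (d.baseChange R') := by
  induction z using TensorProduct.induction_on with
  | zero => simp
  | add x y hx hy => simp only [map_add, hx, hy, LinearMap.add_comp]
  | tmul a ψ =>
    apply (LinearMap.liftBaseChangeEquiv R').symm.injective
    ext n
    simp [dualBC]

end DualBC

section Main

variable {R R' : Type u} [CommRing R] [CommRing R'] [Algebra R R']
  {N F : Type u} [AddCommGroup N] [Module R N] [AddCommGroup F] [Module R F]
  [Module.Finite R N] [Module.Projective R N] [Module.Finite R F] [Module.Projective R F]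
  (d : N →ₗ[R] F)
  {N' F' : Type u} [AddCommGroup N'] [Module R' N'] [AddCommGroup F'] [Module R' F']
  (d' : N' →ₗ[R'] F') (α : R' ⊗[R] N ≃ₗ[R'] N') (β : R' ⊗[R] F ≃ₗ[R'] F')
  (hcomm : ∀ z, d' (α z) = β (d.baseChange R' z))

/-- `R' ⊗ N^* ≃ N'^*`. -/
noncomputable def theta {N : Type u} [AddCommGroup N] [Module R N] [Module.Finite R N]
    [Module.Projective R N] {N' : Type u} [AddCommGroup N'] [Module R' N']
    (α : R' ⊗[R] N ≃ₗ[R'] N') : R' ⊗[R] (N →ₗ[R] R) ≃ₗ[R'] (N' →ₗ[R'] R') :=
  (LinearEquiv.ofBijective (dualBC (R' := R') N) (dualBC_bijective N)).trans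
    (LinearEquiv.congrLeft R' R' α)

theorem theta_apply {N : Type u} [AddCommGroup N] [Module R N] [Module.Finite R N]
    [Module.Projective R N] {N' : Type u} [AddCommGroup N'] [Module R' N']
    (α : R' ⊗[R] N ≃ₗ[R'] N') (z : R' ⊗[R] (N →ₗ[R] R)) (x : N') :
    theta α z x = dualBC (R' := R') N z (α.symm x) := rfl

include hcomm in
theorem theta_natural (z : R' ⊗[R] (F →ₗ[R] R)) :
    theta α ((LinearMap.lcomp R R d).baseChange R' z) = LinearMap.lcomp R' R' d' (theta β z) := by
  ext x
  rw [theta_apply, dualBC_natural, LinearMap.lcomp_apply, theta_apply, LinearMap.comp_apply]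
  congr 1
  apply β.injective
  rw [LinearEquiv.apply_symm_apply, ← hcomm, LinearEquiv.apply_symm_apply]

/-- right exactness: `R' ⊗ coker f ≃ coker (R' ⊗ f)`, `R'`-linearly. -/
noncomputable def cokerBC {X Y : Type u} [AddCommGroup X] [Module R X] [AddCommGroup Y]
    [Module R Y] (f : X →ₗ[R] Y) :
    ((R' ⊗[R] Y) ⧸ LinearMap.range (f.baseChange R')) ≃ₗ[R']
      R' ⊗[R] (Y ⧸ LinearMap.range f) := by
  have hsurj : Function.Surjective ((LinearMap.range f).mkQ.baseChange R') :=
    LinearMap.lTensor_surjective R' (Submodule.mkQ_surjective _)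
  have hex : Function.Exact (f.baseChange R') ((LinearMap.range f).mkQ.baseChange R') :=
    lTensor_exact R' (LinearMap.exact_map_mkQ_range f) (Submodule.mkQ_surjective _)
  have hker : LinearMap.ker ((LinearMap.range f).mkQ.baseChange R') =
      LinearMap.range (f.baseChange R') := by
    ext z
    rw [LinearMap.mem_ker, hex z, LinearMap.mem_range]
    rfl
  exact (Submodule.quotEquivOfEq _ _ hker.symm).trans
    (LinearMap.quotKerEquivOfSurjective _ hsurj)

include hcomm in
theorem nonempty_dualCoker_baseChange :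
    Nonempty (R' ⊗[R] ((N →ₗ[R] R) ⧸ LinearMap.range (LinearMap.lcomp R R d)) ≃ₗ[R']
      ((N' →ₗ[R'] R') ⧸ LinearMap.range (LinearMap.lcomp R' R' d'))) := by
  have hmap : (LinearMap.range ((LinearMap.lcomp R R d).baseChange R')).map
      (theta α : R' ⊗[R] (N →ₗ[R] R) →ₗ[R'] (N' →ₗ[R'] R')) =
      LinearMap.range (LinearMap.lcomp R' R' d') := by
    ext ψ
    constructor
    · rintro ⟨_, ⟨z, rfl⟩, rfl⟩
      exact ⟨theta β z, (theta_natural d d' α β hcomm z).symm⟩
    · rintro ⟨χ, rfl⟩
      obtain ⟨z, rfl⟩ := (theta β).surjective χ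
      exact ⟨_, ⟨z, rfl⟩, theta_natural d d' α β hcomm z⟩
  exact ⟨(cokerBC (R' := R') (LinearMap.lcomp R R d)).symm.trans
    (Submodule.Quotient.equiv _ _ (theta α) hmap)⟩

end Main

end Groth.Agent.Helper6.T1BC
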