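import Mathlib
import Groth.Prelude.Def_LCI2
import Groth.Prelude.Def_ega3
import Groth.Prelude.Def_SheafNL
import Groth.Agent.Lib.Helper6.LciBCC
import Groth.Agent.Lib.Helper6.NLKerB
import Groth.Agent.Lib.Helper6.T1BCA
import Groth.Agent.Lib.Helper3.CT9
import Groth.Agent.Lib.Helper2.LCIDesc1

/-!
# `T¹` of a flat lci algebra with generically smooth fibres commutes with base change along a
closed embedding (helper6)
-/

set_option autoImplicit false
set_option linter.style.haveILetI false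
set_option linter.unusedSectionVars false
universe u

namespace Groth.Agent.Helper6.T1BC

open TensorProduct CategoryTheory

/-- formal smoothness at a prime passes to a quotient which is a pushout. -/
theorem formallySmooth_atPrime_of_isPushout {A A₁ P P' : Type u} [CommRing A] [CommRing A₁]
    [CommRing P] [CommRing P'] [Algebra A P] [Algebra A₁ P'] [Algebra A A₁] [Algebra P P']
    [Algebra A P'] [IsScalarTower A A₁ P'] [IsScalarTower A P P'] [Algebra.IsPushout A A₁ P P']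
    (hs : Function.Surjective (algebraMap P P')) (Q : Ideal P) [Q.IsPrime]
    (Q' : Ideal P') [Q'.IsPrime] [Q'.LiesOver Q]
    [Algebra.FormallySmooth A (Localization.AtPrime Q)] :
    Algebra.FormallySmooth A₁ (Localization.AtPrime Q') := by
  letI := Localization.AtPrime.algebraOfLiesOver Q Q'
  have hsub : Algebra.algebraMapSubmonoid P' Q.primeCompl = Q'.primeCompl :=
    Ideal.algebraMapSubmonoid_primeCompl_of_liesOver_surjective Q' Q hs
  haveI : IsLocalization (Algebra.algebraMapSubmonoid P' Q.primeCompl)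
      (Localization.AtPrime Q') := by
    rw [hsub]; infer_instance
  haveI h1 : Algebra.IsPushout P P' (Localization.AtPrime Q) (Localization.AtPrime Q') :=
    Algebra.isPushout_of_isLocalization Q.primeCompl _ _ _
  haveI h0 : Algebra.IsPushout A P A₁ P' := Algebra.IsPushout.symm inferInstance
  haveI h2 : Algebra.IsPushout A (Localization.AtPrime Q) A₁ (Localization.AtPrime Q') :=
    (Algebra.IsPushout.comp_iff A P A₁ P').mpr h1.symm
  haveI h3 : Algebra.IsPushout A A₁ (Localization.AtPrime Q) (Localization.AtPrime Q') := h2.symm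
  exact Algebra.FormallySmooth.of_equiv
    (Algebra.IsPushout.equiv A A₁ (Localization.AtPrime Q) (Localization.AtPrime Q'))

/-- `Ω_{B/A} ≃ Ω_{B/A₁}` when `A → A₁` is surjective. -/
noncomputable def kaehlerEquivOfSurjective {A A₁ B : Type u} [CommRing A] [CommRing A₁]
    [CommRing B] [Algebra A A₁] [Algebra A₁ B] [Algebra A B] [IsScalarTower A A₁ B]
    (h : Function.Surjective (algebraMap A A₁)) : Ω[B⁄A] ≃ₗ[B] Ω[B⁄A₁] :=
  LinearEquiv.ofBijective (KaehlerDifferential.map A A₁ B B) ⟨by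
    haveI := KaehlerDifferential.subsingleton_of_surjective A A₁ h
    rw [← LinearMap.ker_eq_bot, ← KaehlerDifferential.range_mapBaseChange A A₁ B,
      LinearMap.range_eq_bot]
    apply LinearMap.ext
    intro z
    induction z using TensorProduct.induction_on with
    | zero => simp
    | tmul b w => rw [Subsingleton.elim w 0, TensorProduct.tmul_zero, map_zero]; rfl
    | add x y hx hy => rw [map_add, hx, hy]; simp,
    KaehlerDifferential.map_surjective A A₁ B⟩

section Quot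

variable (A P : Type u) [CommRing A] [CommRing P] [Algebra A P] (J : Ideal A)

theorem isPushout_quot : Algebra.IsPushout A (A ⧸ J) P (P ⧸ J.map (algebraMap A P)) := by
  constructor
  refine IsBaseChange.of_equiv
    (Algebra.TensorProduct.quotIdealMapEquivQuotTensor P J).symm.toLinearEquiv (fun x => ?_)
  rw [AlgEquiv.toLinearEquiv_apply, AlgEquiv.symm_apply_eq]
  rfl

theorem hgs_quot
    (hgs : ∀ 𝔓 : PrimeSpectrum P,
      (∀ 𝔔 : PrimeSpectrum P, 𝔔 ≤ 𝔓 →
          𝔔.asIdeal.comap (algebraMap A P) = 𝔓.asIdeal.comap (algebraMap A P) → 𝔔 = 𝔓) →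
        𝔓 ∈ Algebra.smoothLocus A P) :
    ∀ 𝔓' : PrimeSpectrum (P ⧸ J.map (algebraMap A P)),
      (∀ 𝔔' : PrimeSpectrum (P ⧸ J.map (algebraMap A P)), 𝔔' ≤ 𝔓' →
          𝔔'.asIdeal.comap (algebraMap (A ⧸ J) (P ⧸ J.map (algebraMap A P))) =
            𝔓'.asIdeal.comap (algebraMap (A ⧸ J) (P ⧸ J.map (algebraMap A P))) → 𝔔' = 𝔓') →
        𝔓' ∈ Algebra.smoothLocus (A ⧸ J) (P ⧸ J.map (algebraMap A P)) := by
  intro 𝔓' hmin'
  have hmks : Function.Surjective (algebraMap P (P ⧸ J.map (algebraMap A P))) :=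
    Ideal.Quotient.mk_surjective
  obtain ⟨𝔓, h𝔓def⟩ : ∃ 𝔓 : PrimeSpectrum P,
      𝔓 = PrimeSpectrum.comap (algebraMap P (P ⧸ J.map (algebraMap A P))) 𝔓' := ⟨_, rfl⟩
  have h𝔓c : 𝔓.asIdeal = 𝔓'.asIdeal.comap (algebraMap P (P ⧸ J.map (algebraMap A P))) := by
    rw [h𝔓def]; rfl
  have h𝔓 : 𝔓 ∈ Algebra.smoothLocus A P := by
    apply hgs
    intro 𝔔 hle hc
    have hI𝔓 : J.map (algebraMap A P) ≤ 𝔓.asIdeal := by
      intro x hx
      rw [h𝔓c, Ideal.mem_comap,
        show algebraMap P (P ⧸ J.map (algebraMap A P)) x = 0 from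
          Ideal.Quotient.eq_zero_iff_mem.mpr hx]
      exact zero_mem _
    have hJ𝔔 : J.map (algebraMap A P) ≤ 𝔔.asIdeal := by
      rw [Ideal.map_le_iff_le_comap, hc, ← Ideal.map_le_iff_le_comap]
      exact hI𝔓
    have hker : RingHom.ker (algebraMap P (P ⧸ J.map (algebraMap A P))) ≤ 𝔔.asIdeal := by
      rw [Ideal.Quotient.algebraMap_eq, Ideal.mk_ker]; exact hJ𝔔
    have h𝔔'prime : (𝔔.asIdeal.map (algebraMap P (P ⧸ J.map (algebraMap A P)))).IsPrime :=
      Ideal.map_isPrime_of_surjective hmks hker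
    have h𝔔'c : (𝔔.asIdeal.map (algebraMap P (P ⧸ J.map (algebraMap A P)))).comap
        (algebraMap P (P ⧸ J.map (algebraMap A P))) = 𝔔.asIdeal := by
      rw [Ideal.comap_map_of_surjective _ hmks, ← RingHom.ker_eq_comap_bot]
      exact sup_eq_left.mpr hker
    obtain ⟨𝔔', h𝔔'def⟩ : ∃ 𝔔' : PrimeSpectrum (P ⧸ J.map (algebraMap A P)),
        𝔔'.asIdeal = 𝔔.asIdeal.map (algebraMap P (P ⧸ J.map (algebraMap A P))) :=
      ⟨⟨_, h𝔔'prime⟩, rfl⟩
    have hle' : 𝔔' ≤ 𝔓' := by
      show 𝔔'.asIdeal ≤ 𝔓'.asIdeal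
      rw [h𝔔'def, Ideal.map_le_iff_le_comap, ← h𝔓c]
      exact hle
    have hcomp : (algebraMap (A ⧸ J) (P ⧸ J.map (algebraMap A P))).comp
        (algebraMap A (A ⧸ J)) =
        (algebraMap P (P ⧸ J.map (algebraMap A P))).comp (algebraMap A P) := by
      rw [← IsScalarTower.algebraMap_eq, ← IsScalarTower.algebraMap_eq]
    have hc' : 𝔔'.asIdeal.comap (algebraMap (A ⧸ J) (P ⧸ J.map (algebraMap A P))) =
        𝔓'.asIdeal.comap (algebraMap (A ⧸ J) (P ⧸ J.map (algebraMap A P))) := by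
      apply Ideal.comap_injective_of_surjective (algebraMap A (A ⧸ J))
        Ideal.Quotient.mk_surjective
      rw [Ideal.comap_comap, Ideal.comap_comap, hcomp, ← Ideal.comap_comap, ← Ideal.comap_comap,
        h𝔔'def, h𝔔'c, ← h𝔓c]
      exact hc
    have h := hmin' 𝔔' hle' hc'
    apply PrimeSpectrum.ext
    rw [← h𝔔'c, ← h𝔔'def, h, h𝔓c]
  haveI : 𝔓'.asIdeal.LiesOver 𝔓.asIdeal := ⟨h𝔓c⟩
  haveI : Algebra.IsPushout A (A ⧸ J) P (P ⧸ J.map (algebraMap A P)) := isPushout_quot A P J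
  haveI : Algebra.FormallySmooth A (Localization.AtPrime 𝔓.asIdeal) := h𝔓
  exact formallySmooth_atPrime_of_isPushout (A := A) (A₁ := A ⧸ J) hmks 𝔓.asIdeal 𝔓'.asIdeal

theorem h1_quot [IsNoetherianRing A] [Module.Flat A P] (hlci : LCI.IsLCI A P)
    (hgs : ∀ 𝔓 : PrimeSpectrum P,
      (∀ 𝔔 : PrimeSpectrum P, 𝔔 ≤ 𝔓 →
          𝔔.asIdeal.comap (algebraMap A P) = 𝔓.asIdeal.comap (algebraMap A P) → 𝔔 = 𝔓) →
        𝔓 ∈ Algebra.smoothLocus A P) :
    Subsingleton (Algebra.H1Cotangent (A ⧸ J) (P ⧸ J.map (algebraMap A P))) := by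
  haveI : Module.Flat (A ⧸ J) (P ⧸ J.map (algebraMap A P)) :=
    Module.Flat.of_linearEquiv
      (Algebra.TensorProduct.quotIdealMapEquivQuotTensor P J).toLinearEquiv
  have hl' : LCI.IsLCI (A ⧸ J) (P ⧸ J.map (algebraMap A P)) :=
    Groth.Agent.Helper2.LCIDesc.isLCI_of_algEquiv
      (Algebra.TensorProduct.quotIdealMapEquivQuotTensor P J).symm
      (Groth.Agent.Helper6.LciBC.isLCI_baseChange A P hlci (A ⧸ J))
  exact Groth.Agent.Helper6.LciBC.h1_subsingleton_of_flat (A ⧸ J)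
    (P ⧸ J.map (algebraMap A P)) hl' (hgs_quot A P J hgs)

end Quot

end Groth.Agent.Helper6.T1BC
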