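import Groth.Agent.Lib.Helper6.T1BCB

/-!
# `T¹` of a flat lci algebra with generically smooth fibres commutes with base change along a
closed embedding: main theorem (helper6)
-/

set_option autoImplicit false
set_option linter.style.haveILetI false
set_option linter.unusedSectionVars false
universe u

namespace Groth.Agent.Helper6.T1BC

open TensorProduct CategoryTheory Groth.Agent.Helper6.NLKer

section Main

variable (A A₁ P P' : Type u) [CommRing A] [CommRing A₁] [CommRing P] [CommRing P']
  [Algebra A P] [Algebra A₁ P'] [Algebra A A₁] [Algebra P P'] [Algebra A P']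
  [IsScalarTower A A₁ P'] [IsScalarTower A P P'] [Algebra.IsPushout A A₁ P P']

theorem injective_of_h1 {ι : Type u} (G : Algebra.Generators A P ι)
    (h1 : Subsingleton (Algebra.H1Cotangent A P)) :
    Function.Injective G.toExtension.cotangentComplex := by
  rw [← LinearMap.ker_eq_bot]
  haveI : Subsingleton G.toExtension.H1Cotangent :=
    G.equivH1Cotangent.toEquiv.subsingleton
  haveI : Subsingleton ↥(LinearMap.ker G.toExtension.cotangentComplex) :=
    (inferInstance : Subsingleton G.toExtension.H1Cotangent)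
  exact Submodule.eq_bot_of_subsingleton

theorem nonempty_T1_baseChange [Module.Flat A P] (hlci : LCI.IsLCI A P)
    (h1 : Subsingleton (Algebra.H1Cotangent A P))
    (h1' : Subsingleton (Algebra.H1Cotangent A₁ P'))
    (Ω' : Type u) [AddCommGroup Ω'] [Module P' Ω'] (eΩ : Ω[P'⁄A₁] ≃ₗ[P'] Ω') :
    Nonempty (P' ⊗[P] Abelian.Ext.{u} (ModuleCat.of P Ω[P⁄A]) (ModuleCat.of P P) 1 ≃ₗ[P']
      Abelian.Ext.{u} (ModuleCat.of P' Ω') (ModuleCat.of P' P') 1) := by
  obtain ⟨hft, n, f, hf, hK⟩ := hlci
  obtain ⟨hG1, hG2⟩ := Groth.Agent.Helper6.KRCot.gens_cotangent_finite_projective n f hf hK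
  obtain ⟨G₀, hG₀⟩ : ∃ G₀ : Algebra.Generators A P (Fin n),
      G₀ = Algebra.Generators.ofAlgHom f hf := ⟨_, rfl⟩
  rw [← hG₀] at hG1 hG2
  obtain ⟨G, hGdef⟩ : ∃ G : Algebra.Generators A P (ULift.{u} (Fin n)),
      G = G₀.reindex Equiv.ulift := ⟨_, rfl⟩
  obtain ⟨G', hG'def⟩ : ∃ G' : Algebra.Generators A₁ P' (ULift.{u} (Fin n)),
      G' = bcGens A P A₁ P' G := ⟨_, rfl⟩
  have hval : ∀ i, G'.val i = algebraMap P P' (G.val i) := by
    intro i
    rw [hG'def]
    rfl
  obtain ⟨hGS1, hGS2⟩ := cotangentSpace_finite_free A P G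
  obtain ⟨hG'S1, hG'S2⟩ := cotangentSpace_finite_free A₁ P' G'
  obtain ⟨hGc1, hGc2⟩ := cotangent_finite_projective_of_hom
    (G.defaultHom G₀).toExtensionHom (G₀.defaultHom G).toExtensionHom
  obtain ⟨φ, hφdef⟩ : ∃ φ : G.toExtension.Hom G'.toExtension,
      φ = (NLCx.sameVarsHom G G' hval).toExtensionHom := ⟨_, rfl⟩
  have hα : Function.Bijective
      (LinearMap.liftBaseChange P' (Algebra.Extension.Cotangent.map φ)) := by
    rw [hφdef]
    exact Groth.Agent.Helper6.NLFlat.lift_cotangent_bijective_of_flat_top G G' hval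
  have hβ : Function.Bijective
      (LinearMap.liftBaseChange P' (Algebra.Extension.CotangentSpace.map φ)) := by
    rw [hφdef]
    exact Groth.Agent.Helper6.NLBase.lift_cotangentSpace_bijective G G' hval
  have hcomm : ∀ z : P' ⊗[P] G.toExtension.Cotangent,
      G'.toExtension.cotangentComplex ((LinearEquiv.ofBijective _ hα) z) =
        (LinearEquiv.ofBijective _ hβ) (G.toExtension.cotangentComplex.baseChange P' z) := by
    intro z
    induction z using TensorProduct.induction_on with
    | zero => simp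
    | add x y hx hy => simp only [map_add, hx, hy]
    | tmul a x =>
      simp only [LinearEquiv.ofBijective_apply, LinearMap.liftBaseChange_tmul,
        LinearMap.baseChange_tmul, map_smul]
      rw [Algebra.Extension.CotangentSpace.map_cotangentComplex]
  -- the resolution over `P`
  have hdinj := injective_of_h1 A P G h1
  have hd'inj := injective_of_h1 A₁ P' G' h1'
  have hex : LinearMap.range G.toExtension.cotangentComplex =
      LinearMap.ker G.toExtension.toKaehler :=
    (LinearMap.exact_iff.mp G.toExtension.exact_cotangentComplex_toKaehler).symm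
  have hex' : LinearMap.range G'.toExtension.cotangentComplex =
      LinearMap.ker (eΩ.toLinearMap ∘ₗ G'.toExtension.toKaehler) := by
    rw [LinearEquiv.ker_comp]
    exact (LinearMap.exact_iff.mp G'.toExtension.exact_cotangentComplex_toKaehler).symm
  obtain ⟨e₀⟩ := Groth.Agent.Helper3.CT9.nonempty_coker_equiv_ext
    G.toExtension.cotangentComplex G.toExtension.toKaehler G.toExtension.toKaehler_surjective hex
    (fun ψ x hx => by rw [hdinj (hx.trans (map_zero _).symm), map_zero])
  obtain ⟨e₀'⟩ := Groth.Agent.Helper3.CT9.nonempty_coker_equiv_ext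
    G'.toExtension.cotangentComplex (eΩ.toLinearMap ∘ₗ G'.toExtension.toKaehler)
    (eΩ.surjective.comp G'.toExtension.toKaehler_surjective) hex'
    (fun ψ x hx => by rw [hd'inj (hx.trans (map_zero _).symm), map_zero])
  obtain ⟨bc⟩ := nonempty_dualCoker_baseChange (R' := P') G.toExtension.cotangentComplex
    G'.toExtension.cotangentComplex (LinearEquiv.ofBijective _ hα) (LinearEquiv.ofBijective _ hβ)
    hcomm
  exact ⟨(LinearEquiv.baseChange P P' _ _ e₀.symm).trans (bc.trans e₀')⟩

end Main

section Final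

/-- S18124 in library form. -/
theorem nonempty_T1_quot (A : Type u) [CommRing A] [IsNoetherianRing A]
    (P : Type u) [CommRing P] [Algebra A P] [Module.Flat A P] (hlci : LCI.IsLCI A P)
    (hgs : ∀ 𝔓 : PrimeSpectrum P,
      (∀ 𝔔 : PrimeSpectrum P, 𝔔 ≤ 𝔓 →
          𝔔.asIdeal.comap (algebraMap A P) = 𝔓.asIdeal.comap (algebraMap A P) → 𝔔 = 𝔓) →
        𝔓 ∈ Algebra.smoothLocus A P)
    (J : Ideal A) :
    Nonempty
      ((P ⧸ J.map (algebraMap A P)) ⊗[P]
          Abelian.Ext.{u} (ModuleCat.of P (KaehlerDifferential A P)) (ModuleCat.of P P) 1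
            ≃ₗ[P ⧸ J.map (algebraMap A P)]
        Abelian.Ext.{u}
          (ModuleCat.of (P ⧸ J.map (algebraMap A P))
            (KaehlerDifferential A (P ⧸ J.map (algebraMap A P))))
          (ModuleCat.of (P ⧸ J.map (algebraMap A P)) (P ⧸ J.map (algebraMap A P))) 1) := by
  haveI : Algebra.IsPushout A (A ⧸ J) P (P ⧸ J.map (algebraMap A P)) := isPushout_quot A P J
  have h1 := Groth.Agent.Helper6.LciBC.h1_subsingleton_of_flat A P hlci hgs
  have h1' := h1_quot A P J hlci hgs
  exact nonempty_T1_baseChange A (A ⧸ J) P (P ⧸ J.map (algebraMap A P)) hlci h1 h1'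
    (KaehlerDifferential A (P ⧸ J.map (algebraMap A P)))
    (kaehlerEquivOfSurjective (A := A) (A₁ := A ⧸ J) (B := P ⧸ J.map (algebraMap A P))
      Ideal.Quotient.mk_surjective).symm

end Final

end Groth.Agent.Helper6.T1BC
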