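import Mathlib

/-!
# Gluing sections along a thickening: the algebra

Abstract form of: if `X = D(g) ∪ D(h)` with `g + h = 1` is affine and `X → X'` is a thickening whose
restrictions over `D(g)`, `D(h)` are affine, then `Γ(X') → Γ(X)` is surjective.
-/

namespace Groth.Agent.Helper6.ThickAff

open Polynomial

section StepB
variable {A : Type*} [CommRing A]

theorem aeval_mul_pow_mem (L : Subring A) (g : A) (p : ℕ) (hg : ∀ n, p ≤ n → g ^ n ∈ L)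
    (w : ℤ[X]) : aeval g w * g ^ p ∈ L := by
  induction w using Polynomial.induction_on' with
  | add u v hu hv => rw [map_add, add_mul]; exact L.add_mem hu hv
  | monomial n c =>
    rw [aeval_monomial, mul_assoc, ← pow_add]
    have : (algebraMap ℤ A c) = (c : A) := by simp
    rw [this]
    exact L.mul_mem (intCast_mem L c) (hg _ (Nat.le_add_left p n))

theorem aeval_mem (L : Subring A) (g : A) (hg : g ∈ L) (w : ℤ[X]) : aeval g w ∈ L := by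
  induction w using Polynomial.induction_on' with
  | add u v hu hv => rw [map_add]; exact L.add_mem hu hv
  | monomial n c =>
    rw [aeval_monomial]
    have : (algebraMap ℤ A c) = (c : A) := by simp
    rw [this]
    exact L.mul_mem (intCast_mem L c) (L.pow_mem hg n)

theorem exists_bezout_pow (p : ℕ) :
    ∃ u v : ℤ[X], u * X ^ p + v * (1 - X) ^ p = 1 := by
  have h : IsCoprime (X : ℤ[X]) (1 - X) := ⟨1, 1, by ring⟩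
  obtain ⟨u, v, huv⟩ := (h.pow (m := p) (n := p))
  exact ⟨u, v, huv⟩

theorem aeval_one_sub (g h : A) (hgh : g + h = 1) (w : ℤ[X]) :
    aeval g w = aeval h (w.comp (1 - X)) := by
  rw [aeval_comp]
  congr 1
  simp only [map_sub, map_one, aeval_X]
  rw [← hgh]; ring

theorem mem_of_pow_mem (L : Subring A) (g h : A) (hgh : g + h = 1) (p : ℕ)
    (hg : ∀ n, p ≤ n → g ^ n ∈ L) (hh : ∀ n, p ≤ n → h ^ n ∈ L) : g ∈ L := by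
  obtain ⟨u, v, huv⟩ := exists_bezout_pow p
  have h1 : aeval g (X * u) * g ^ p + aeval g (X * v) * h ^ p = g := by
    have := congrArg (fun w => aeval g (X * w)) huv
    simp only [mul_add, map_add, map_mul, aeval_X, map_pow, map_sub, map_one, mul_one] at this
    have e : (1 : A) - g = h := by rw [← hgh]; ring
    rw [e] at this
    simp only [map_mul, aeval_X]
    linear_combination this
  rw [← h1]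
  refine L.add_mem (aeval_mul_pow_mem L g p hg _) ?_
  rw [aeval_one_sub g h hgh]
  exact aeval_mul_pow_mem L h p hh _

theorem eq_top_of_pow_mul_mem (L : Subring A) (g h : A) (hgh : g + h = 1)
    (HG : ∀ a : A, ∃ N : ℕ, ∀ n, N ≤ n → g ^ n * a ∈ L)
    (HH : ∀ a : A, ∃ N : ℕ, ∀ n, N ≤ n → h ^ n * a ∈ L) (a : A) : a ∈ L := by
  obtain ⟨p₁, hp₁⟩ := HG 1
  obtain ⟨p₂, hp₂⟩ := HH 1
  have hgL : g ∈ L := by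
    refine mem_of_pow_mem L g h hgh (max p₁ p₂) (fun n hn => ?_) (fun n hn => ?_)
    · simpa using hp₁ n ((le_max_left _ _).trans hn)
    · simpa using hp₂ n ((le_max_right _ _).trans hn)
  obtain ⟨q₁, hq₁⟩ := HG a
  obtain ⟨q₂, hq₂⟩ := HH a
  obtain ⟨u, v, huv⟩ := exists_bezout_pow (max q₁ q₂)
  have h1 : aeval g u * (g ^ (max q₁ q₂) * a) + aeval g v * (h ^ (max q₁ q₂) * a) = a := by
    have := congrArg (fun w => aeval g w) huv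
    simp only [map_add, map_mul, aeval_X, map_pow, map_sub, map_one] at this
    have e : (1 : A) - g = h := by rw [← hgh]; ring
    rw [e] at this
    calc _ = (aeval g u * g ^ (max q₁ q₂) + aeval g v * h ^ (max q₁ q₂)) * a := by ring
      _ = a := by rw [this, one_mul]
  rw [← h1]
  exact L.add_mem (L.mul_mem (aeval_mem L g hgL u) (hq₁ _ (le_max_left _ _)))
    (L.mul_mem (aeval_mem L g hgL v) (hq₂ _ (le_max_right _ _)))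

end StepB

section StepA
variable {A A₁ A₂ A₁₂ B B₁ B₂ B₁₂ : Type*} [CommRing A] [CommRing A₁] [CommRing A₂] [CommRing A₁₂]
  [CommRing B] [CommRing B₁] [CommRing B₂] [CommRing B₁₂]

/-- the set of elements of `B₁₂` that come from the kernel of `φ₁`. -/
def Q (r₁ : B₁ →+* B₁₂) (φ₁ : B₁ →+* A₁) (x : B₁₂) : Prop := ∃ k : B₁, φ₁ k = 0 ∧ r₁ k = x

theorem Q_zero (r₁ : B₁ →+* B₁₂) (φ₁ : B₁ →+* A₁) : Q r₁ φ₁ 0 := ⟨0, map_zero _, map_zero _⟩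

theorem Q_add (r₁ : B₁ →+* B₁₂) (φ₁ : B₁ →+* A₁) {x y : B₁₂} (hx : Q r₁ φ₁ x) (hy : Q r₁ φ₁ y) :
    Q r₁ φ₁ (x + y) := by
  obtain ⟨k, hk, rfl⟩ := hx
  obtain ⟨l, hl, rfl⟩ := hy
  exact ⟨k + l, by rw [map_add, hk, hl, add_zero], map_add _ _ _⟩

theorem Q_natCast_mul (r₁ : B₁ →+* B₁₂) (φ₁ : B₁ →+* A₁) {x : B₁₂} (c : ℕ) (hx : Q r₁ φ₁ x) :
    Q r₁ φ₁ ((c : B₁₂) * x) := by
  obtain ⟨k, hk, rfl⟩ := hx
  exact ⟨(c : B₁) * k, by rw [map_mul, hk, mul_zero], by rw [map_mul, map_natCast]⟩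

theorem Q_sum (r₁ : B₁ →+* B₁₂) (φ₁ : B₁ →+* A₁) {ι : Type*} (s : Finset ι) (f : ι → B₁₂)
    (h : ∀ i ∈ s, Q r₁ φ₁ (f i)) : Q r₁ φ₁ (∑ i ∈ s, f i) :=
  Finset.sum_induction f (Q r₁ φ₁) (fun _ _ => Q_add r₁ φ₁) (Q_zero r₁ φ₁) h

variable (α₁ : A₁ →+* A₁₂) (r₁ : B₁ →+* B₁₂) (φ₁ : B₁ →+* A₁) (φ₁₂ : B₁₂ →+* A₁₂)

theorem sub_lemma (d₁ : ∀ x, α₁ (φ₁ x) = φ₁₂ (r₁ x))
    (g' : B₁)
    (L1 : ∀ s : B₁₂, ∃ (n : ℕ) (b : B₁), r₁ b = (r₁ g') ^ n * s)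
    (LA1 : ∀ x : A₁, α₁ x = 0 → ∃ k : ℕ, (φ₁ g') ^ k * x = 0)
    (s : B₁₂) (hs : φ₁₂ s = 0) :
    ∃ n₀ : ℕ, ∀ n, n₀ ≤ n → Q r₁ φ₁ ((r₁ g') ^ n * s) := by
  obtain ⟨n₁, b, hb⟩ := L1 s
  have h0 : α₁ (φ₁ b) = 0 := by rw [d₁, hb, map_mul, hs, mul_zero]
  obtain ⟨k, hk⟩ := LA1 _ h0
  refine ⟨n₁ + k, fun n hn => ⟨g' ^ (n - n₁) * b, ?_, ?_⟩⟩
  · have e : n - n₁ = (n - n₁ - k) + k := by omega
    rw [map_mul, map_pow, e, pow_add, mul_assoc, hk, mul_zero]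
  · have e : n = (n - n₁) + n₁ := by omega
    rw [map_mul, map_pow, hb, ← mul_assoc, ← pow_add, ← e]

theorem claimC (d₁ : ∀ x, α₁ (φ₁ x) = φ₁₂ (r₁ x))
    (g' : B₁)
    (L1 : ∀ s : B₁₂, ∃ (n : ℕ) (b : B₁), r₁ b = (r₁ g') ^ n * s)
    (LA1 : ∀ x : A₁, α₁ x = 0 → ∃ k : ℕ, (φ₁ g') ^ k * x = 0)
    (η : B₁₂) (hη : IsNilpotent η) (s : B₁₂) (hs : φ₁₂ s = 0) :
    ∃ n₀ : ℕ, ∀ n, n₀ ≤ n → ∀ j, j ≤ n → Q r₁ φ₁ ((r₁ g') ^ (n - j) * (η ^ j * s)) := by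
  obtain ⟨m, hm⟩ := hη
  have H : ∀ j : ℕ, ∃ n₀ : ℕ, ∀ n, n₀ ≤ n → Q r₁ φ₁ ((r₁ g') ^ n * (η ^ j * s)) := fun j =>
    sub_lemma α₁ r₁ φ₁ φ₁₂ d₁ g' L1 LA1 _ (by rw [map_mul, hs, mul_zero])
  choose n₀ hn₀ using H
  refine ⟨(Finset.range m).sup n₀ + m, fun n hn j hj => ?_⟩
  by_cases hjm : j < m
  · apply hn₀
    have : n₀ j ≤ (Finset.range m).sup n₀ := Finset.le_sup (Finset.mem_range.mpr hjm)
    omega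
  · have e : j = m + (j - m) := by omega
    rw [e, pow_add, hm, zero_mul, zero_mul, mul_zero]
    exact Q_zero _ _

variable (σ₁ : A →+* A₁) (σ₂ : A →+* A₂) (α₂ : A₂ →+* A₁₂)
  (ρ₁ : B →+* B₁) (ρ₂ : B →+* B₂) (r₂ : B₂ →+* B₁₂)
  (φ : B →+* A) (φ₂ : B₂ →+* A₂)

include σ₁ σ₂ α₁ α₂ ρ₁ ρ₂ r₁ r₂ φ φ₁ φ₂ φ₁₂ in
theorem stepA
    (hA : ∀ x, α₁ (σ₁ x) = α₂ (σ₂ x))
    (c₁ : ∀ x, σ₁ (φ x) = φ₁ (ρ₁ x)) (c₂ : ∀ x, σ₂ (φ x) = φ₂ (ρ₂ x))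
    (d₁ : ∀ x, α₁ (φ₁ x) = φ₁₂ (r₁ x)) (d₂ : ∀ x, α₂ (φ₂ x) = φ₁₂ (r₂ x))
    (hglue : ∀ b₁ b₂, r₁ b₁ = r₂ b₂ → ∃ b, ρ₁ b = b₁ ∧ ρ₂ b = b₂)
    (hinj : ∀ a, σ₁ a = 0 → σ₂ a = 0 → a = 0)
    (hφ₁ : Function.Surjective φ₁) (hφ₂ : Function.Surjective φ₂)
    (hnil : ∀ x, φ₁₂ x = 0 → IsNilpotent x)
    (g : A) (g' : B₁) (hg' : φ₁ g' = σ₁ g)
    (L1 : ∀ s : B₁₂, ∃ (n : ℕ) (b : B₁), r₁ b = (r₁ g') ^ n * s)
    (LA1 : ∀ x : A₁, α₁ x = 0 → ∃ k : ℕ, (σ₁ g) ^ k * x = 0)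
    (a : A) : ∃ n₀ : ℕ, ∀ n, n₀ ≤ n → g ^ n * a ∈ φ.range := by
  obtain ⟨a₁, ha₁⟩ := hφ₁ (σ₁ a)
  obtain ⟨a₂, ha₂⟩ := hφ₂ (σ₂ a)
  obtain ⟨g₂, hg₂⟩ := hφ₂ (σ₂ g)
  obtain ⟨y, hy⟩ : ∃ y, y = r₁ g' := ⟨_, rfl⟩
  obtain ⟨η, hηdef⟩ : ∃ η, η = r₂ g₂ - y := ⟨_, rfl⟩
  obtain ⟨η', hη'def⟩ : ∃ η', η' = r₂ a₂ - r₁ a₁ := ⟨_, rfl⟩
  have hη0 : φ₁₂ η = 0 := by
    rw [hηdef, hy, map_sub, ← d₁, ← d₂, hg₂, hg', hA, sub_self]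
  have hη'0 : φ₁₂ η' = 0 := by
    rw [hη'def, map_sub, ← d₁, ← d₂, ha₂, ha₁, hA, sub_self]
  have LA1' : ∀ x : A₁, α₁ x = 0 → ∃ k : ℕ, (φ₁ g') ^ k * x = 0 := by rw [hg']; exact LA1
  obtain ⟨n₁, hn₁⟩ := claimC α₁ r₁ φ₁ φ₁₂ d₁ g' L1 LA1' η (hnil η hη0) η hη0
  obtain ⟨n₂, hn₂⟩ := claimC α₁ r₁ φ₁ φ₁₂ d₁ g' L1 LA1' η (hnil η hη0) η' hη'0
  rw [← hy] at hn₁ hn₂
  refine ⟨max (n₁ + 1) n₂, fun n hn => ?_⟩
  have hn1 : n₁ + 1 ≤ n := (le_max_left _ _).trans hn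
  have hn2 : n₂ ≤ n := (le_max_right _ _).trans hn
  -- (η + y)^n = y^n + (element of Q)
  have hQ1 : Q r₁ φ₁ ((η + y) ^ n - y ^ n) := by
    rw [add_pow, Finset.sum_range_succ']
    simp only [pow_zero, Nat.sub_zero, Nat.choose_zero_right, Nat.cast_one, mul_one, one_mul,
      add_sub_cancel_right]
    apply Q_sum
    intro j hj
    have hj' : j ≤ n - 1 := by have := Finset.mem_range.mp hj; omega
    have := Q_natCast_mul r₁ φ₁ (n.choose (j + 1)) (hn₁ (n - 1) (by omega) j hj')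
    have e : n - 1 - j = n - (j + 1) := by omega
    rw [e] at this
    convert this using 1
    ring
  have hQ2 : Q r₁ φ₁ ((η + y) ^ n * η') := by
    rw [add_pow, Finset.sum_mul]
    apply Q_sum
    intro j hj
    have hj' : j ≤ n := by have := Finset.mem_range.mp hj; omega
    have := Q_natCast_mul r₁ φ₁ (n.choose j) (hn₂ n hn2 j hj')
    convert this using 1
    ring
  obtain ⟨k₁, hk₁, hk₁'⟩ := hQ1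
  obtain ⟨k₂, hk₂, hk₂'⟩ := hQ2
  have hglue' : r₁ ((g' ^ n + k₁) * a₁ + k₂) = r₂ (g₂ ^ n * a₂) := by
    have e1 : η + y = r₂ g₂ := by rw [hηdef]; ring
    have e2 : r₂ a₂ = r₁ a₁ + η' := by rw [hη'def]; ring
    rw [map_add, map_mul, map_add, map_pow, hk₁', hk₂', map_mul, map_pow, ← e1, e2, ← hy]
    ring
  obtain ⟨b, hb₁, hb₂⟩ := hglue _ _ hglue'
  refine ⟨b, ?_⟩
  rw [← sub_eq_zero]
  apply hinj
  · rw [map_sub, c₁, hb₁, map_add, map_mul, map_add, map_pow, hk₁, hk₂, hg', ha₁, map_mul, map_pow]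
    ring
  · rw [map_sub, c₂, hb₂, map_mul, map_pow, hg₂, ha₂, map_mul, map_pow]
    ring

include σ₁ σ₂ α₁ α₂ ρ₁ ρ₂ r₁ r₂ φ φ₁ φ₂ φ₁₂ in
theorem glue_surjective
    (hA : ∀ x, α₁ (σ₁ x) = α₂ (σ₂ x))
    (c₁ : ∀ x, σ₁ (φ x) = φ₁ (ρ₁ x)) (c₂ : ∀ x, σ₂ (φ x) = φ₂ (ρ₂ x))
    (d₁ : ∀ x, α₁ (φ₁ x) = φ₁₂ (r₁ x)) (d₂ : ∀ x, α₂ (φ₂ x) = φ₁₂ (r₂ x))
    (hglue : ∀ b₁ b₂, r₁ b₁ = r₂ b₂ → ∃ b, ρ₁ b = b₁ ∧ ρ₂ b = b₂)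
    (hinj : ∀ a, σ₁ a = 0 → σ₂ a = 0 → a = 0)
    (hφ₁ : Function.Surjective φ₁) (hφ₂ : Function.Surjective φ₂)
    (hnil : ∀ x, φ₁₂ x = 0 → IsNilpotent x)
    (g h : A) (hgh : g + h = 1)
    (g' : B₁) (hg' : φ₁ g' = σ₁ g)
    (L1 : ∀ s : B₁₂, ∃ (n : ℕ) (b : B₁), r₁ b = (r₁ g') ^ n * s)
    (LA1 : ∀ x : A₁, α₁ x = 0 → ∃ k : ℕ, (σ₁ g) ^ k * x = 0)
    (h' : B₂) (hh' : φ₂ h' = σ₂ h)
    (L2 : ∀ s : B₁₂, ∃ (n : ℕ) (b : B₂), r₂ b = (r₂ h') ^ n * s)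
    (LA2 : ∀ x : A₂, α₂ x = 0 → ∃ k : ℕ, (σ₂ h) ^ k * x = 0) :
    Function.Surjective φ := by
  intro a
  have HG := stepA α₁ r₁ φ₁ φ₁₂ σ₁ σ₂ α₂ ρ₁ ρ₂ r₂ φ φ₂ hA c₁ c₂ d₁ d₂ hglue hinj hφ₁ hφ₂ hnil
    g g' hg' L1 LA1
  have HH := stepA α₂ r₂ φ₂ φ₁₂ σ₂ σ₁ α₁ ρ₂ ρ₁ r₁ φ φ₁ (fun x => (hA x).symm) c₂ c₁ d₂ d₁
    (fun b₂ b₁ e => by obtain ⟨b, h1, h2⟩ := hglue b₁ b₂ e.symm; exact ⟨b, h2, h1⟩)
    (fun a h2 h1 => hinj a h1 h2) hφ₂ hφ₁ hnil h h' hh' L2 LA2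
  exact eq_top_of_pow_mul_mem φ.range g h hgh HG HH a

end StepA

end Groth.Agent.Helper6.ThickAff
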