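import Groth.Agent.Lib.Helper6.ThickAffB

/-!
# Lifting powers of sections along a surjective closed immersion

Let `i : Z ⟶ X` be a closed immersion which is a homeomorphism, `X` quasi-compact and
quasi-separated, and `s` a global section of `Z` with `Z_s` affine.  Then some power of `s`
lifts to a global section `r` of `X` (and `X_r` is affine).  Consequently `X` is quasi-affine
as soon as `Z` is.
-/

open AlgebraicGeometry CategoryTheory TopologicalSpace Opposite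

namespace Groth.Agent.Helper6.ThickQAff
universe u

open Groth.Agent.Helper6.ThickAff

section Algebra

theorem exists_lift_pow {R R' : Type*} [CommRing R] [CommRing R'] (res : R →+* R')
    (σ ε : R) (u : R') (m N : ℕ) (hunit : IsUnit (res σ))
    (h1 : res σ ^ m * (u - res σ) = res ε) (h2 : ε ^ (N + 1) = 0) (n : ℕ)
    (hn : (m + 1) * (N + 1) ≤ n) :
    ∃ ρ c : R, res ρ = u ^ n ∧ ρ = σ ^ n + ε * c := by
  have hv : (u - res σ) ^ (N + 1) = 0 := by
    have h3 : (res σ ^ m) ^ (N + 1) * (u - res σ) ^ (N + 1) = 0 := by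
      rw [← mul_pow, h1, ← map_pow, h2, map_zero]
    exact (IsUnit.mul_right_eq_zero ((hunit.pow m).pow (N + 1))).mp h3
  have hexp : ∀ k ∈ Finset.range (N + 1), k + m * k ≤ n := by
    intro k hk
    have hk' : k ≤ N := Nat.lt_succ_iff.mp (Finset.mem_range.mp hk)
    nlinarith
  have hsub : Finset.range (N + 1) ⊆ Finset.range (n + 1) := by
    have h5 : N + 1 ≤ (m + 1) * (N + 1) := Nat.le_mul_of_pos_left _ (Nat.succ_pos m)
    intro k hk
    rw [Finset.mem_range] at hk ⊢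
    omega
  refine ⟨∑ k ∈ Finset.range (N + 1), ε ^ k * σ ^ (n - k - m * k) * (n.choose k : R),
    ∑ k ∈ Finset.range N, ε ^ k * σ ^ (n - (k + 1) - m * (k + 1)) * (n.choose (k + 1) : R),
    ?_, ?_⟩
  · calc res (∑ k ∈ Finset.range (N + 1), ε ^ k * σ ^ (n - k - m * k) * (n.choose k : R))
        = ∑ k ∈ Finset.range (N + 1),
            (u - res σ) ^ k * (res σ) ^ (n - k) * (n.choose k : R') := by
          rw [map_sum]
          apply Finset.sum_congr rfl
          intro k hk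
          have hk2 := hexp k hk
          obtain ⟨j, hj⟩ : ∃ j, j = n - k - m * k := ⟨_, rfl⟩
          have e1 : n - k = m * k + j := by omega
          rw [← hj, e1, map_mul, map_mul, map_pow, map_pow, map_natCast, ← h1, mul_pow, ← pow_mul,
            pow_add]
          ring
      _ = ∑ k ∈ Finset.range (n + 1),
            (u - res σ) ^ k * (res σ) ^ (n - k) * (n.choose k : R') := by
          apply Finset.sum_subset hsub
          intro k _ hk
          have : N + 1 ≤ k := by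
            by_contra h
            exact hk (Finset.mem_range.mpr (by omega))
          rw [pow_eq_zero_of_le this hv, zero_mul, zero_mul]
      _ = u ^ n := by
          rw [← add_pow]
          congr 1
          ring
  · have h0 : ε ^ 0 * σ ^ (n - 0 - m * 0) * ((n.choose 0 : ℕ) : R) = σ ^ n := by simp
    rw [Finset.sum_range_succ', h0, Finset.mul_sum, add_comm]
    congr 1
    exact Finset.sum_congr rfl fun k _ => by ring

theorem pow_mul_eq_zero_of_le {R : Type*} [CommRing R] {x d : R} {M M' : ℕ}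
    (h : x ^ M * d = 0) (hle : M ≤ M') : x ^ M' * d = 0 := by
  obtain ⟨j, rfl⟩ := Nat.exists_eq_add_of_le hle
  rw [pow_add, mul_right_comm, h, zero_mul]

theorem pow_eq_pow_of_pow_mul_sub {R : Type*} [CommRing R] (x y : R) (M : ℕ)
    (hx : x ^ M * (x - y) = 0) (hy : y ^ M * (x - y) = 0) : x ^ (2 * M) = y ^ (2 * M) := by
  have hx' : x ^ M * x = x ^ M * y := by linear_combination hx
  have hy' : y ^ M * y = y ^ M * x := by linear_combination -hy
  have h1 : ∀ j : ℕ, x ^ M * x ^ j = x ^ M * y ^ j := by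
    intro j
    induction j with
    | zero => simp
    | succ j ih =>
      calc x ^ M * x ^ (j + 1) = (x ^ M * x ^ j) * x := by ring
        _ = (x ^ M * y ^ j) * x := by rw [ih]
        _ = y ^ j * (x ^ M * x) := by ring
        _ = y ^ j * (x ^ M * y) := by rw [hx']
        _ = x ^ M * y ^ (j + 1) := by ring
  have h2 : ∀ j : ℕ, y ^ M * y ^ j = y ^ M * x ^ j := by
    intro j
    induction j with
    | zero => simp
    | succ j ih =>
      calc y ^ M * y ^ (j + 1) = (y ^ M * y ^ j) * y := by ring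
        _ = (y ^ M * x ^ j) * y := by rw [ih]
        _ = x ^ j * (y ^ M * y) := by ring
        _ = x ^ j * (y ^ M * x) := by rw [hy']
        _ = y ^ M * x ^ (j + 1) := by ring
  calc x ^ (2 * M) = x ^ M * x ^ M := by ring
    _ = x ^ M * y ^ M := h1 M
    _ = y ^ M * x ^ M := by ring
    _ = y ^ M * y ^ M := (h2 M).symm
    _ = y ^ (2 * M) := by ring

end Algebra

section Sch

theorem eq_of_res_two (Y : Scheme.{u}) {U V W : Y.Opens} (hU : U ≤ W) (hV : V ≤ W)
    (hW : W ≤ U ⊔ V) (a b : Γ(Y, W))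
    (h₁ : Y.presheaf.map (homOfLE hU).op a = Y.presheaf.map (homOfLE hU).op b)
    (h₂ : Y.presheaf.map (homOfLE hV).op a = Y.presheaf.map (homOfLE hV).op b) : a = b :=
  Y.sheaf.eq_of_locally_eq₂ (homOfLE hU) (homOfLE hV) hW a b h₁ h₂

theorem exists_pow_mul_eq_zero_of_eq_basicOpen_of_isCompact (Y : Scheme.{u}) {T O : Y.Opens}
    (hT : IsCompact (T : Set Y)) (f x : Γ(Y, T)) (hO : O = Y.basicOpen f) (hle : O ≤ T)
    (H : Y.presheaf.map (homOfLE hle).op x = 0) : ∃ k : ℕ, f ^ k * x = 0 := by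
  subst hO
  exact exists_pow_mul_eq_zero_of_res_basicOpen_eq_zero_of_isCompact Y hT x f H

theorem subsingleton_of_eq_bot (Y : Scheme.{u}) {O : Y.Opens} (h : O = ⊥) :
    Subsingleton Γ(Y, O) := by
  subst h
  infer_instance

theorem res_eq_pow_of_le (Y : Scheme.{u}) {W U T : Y.Opens} (u : Γ(Y, U)) (ρ : Γ(Y, W)) (n : ℕ)
    (h : Y.presheaf.map (homOfLE (inf_le_left : W ⊓ U ≤ W)).op ρ =
      (Y.presheaf.map (homOfLE (inf_le_right : W ⊓ U ≤ U)).op u) ^ n)
    (hTW : T ≤ W) (hTU : T ≤ U) :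
    Y.presheaf.map (homOfLE hTW).op ρ = (Y.presheaf.map (homOfLE hTU).op u) ^ n := by
  have hT : T ≤ W ⊓ U := le_inf hTW hTU
  rw [← res_res Y inf_le_left hT ρ, h, map_pow, res_res]

variable {Z X : Scheme.{u}} (i : Z ⟶ X)

theorem app_res_eq_pow (s : Γ(Z, ⊤)) {W T : X.Opens} (ρ : Γ(X, W)) (n : ℕ)
    (h : i.app W ρ = (Z.presheaf.map (homOfLE (le_top : i ⁻¹ᵁ W ≤ ⊤)).op s) ^ n) (hTW : T ≤ W) :
    i.app T (X.presheaf.map (homOfLE hTW).op ρ) =
      (Z.presheaf.map (homOfLE (le_top : i ⁻¹ᵁ T ≤ ⊤)).op s) ^ n := by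
  rw [app_res i hTW ρ, h, map_pow, res_res]

variable (hi : Function.Surjective i.base)
  (s : Γ(Z, ⊤)) (U : X.Opens) (hU : i ⁻¹ᵁ U = Z.basicOpen s)

include hi hU in
theorem basicOpen_eq_inf {W : X.Opens} (ρ : Γ(X, W)) {n : ℕ} (hn : 0 < n)
    (h : i.app W ρ = (Z.presheaf.map (homOfLE (le_top : i ⁻¹ᵁ W ≤ ⊤)).op s) ^ n) :
    X.basicOpen ρ = W ⊓ U := by
  apply preimage_injective i hi
  rw [Scheme.preimage_basicOpen, h, Scheme.basicOpen_pow _ _ hn, Scheme.basicOpen_res, ← hU]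
  rfl

variable [IsClosedImmersion i] (u : Γ(X, U))
  (hu : i.app U u = Z.presheaf.map (homOfLE (le_top : i ⁻¹ᵁ U ≤ ⊤)).op s)

include hi hU hu in
theorem exists_lift_pow_of_isAffineOpen {V : X.Opens} (hV : IsAffineOpen V) :
    ∃ n₀ : ℕ, ∀ n, n₀ ≤ n → ∃ ρ : Γ(X, V),
      X.presheaf.map (homOfLE (inf_le_left : V ⊓ U ≤ V)).op ρ =
        (X.presheaf.map (homOfLE (inf_le_right : V ⊓ U ≤ U)).op u) ^ n ∧
      i.app V ρ = (Z.presheaf.map (homOfLE (le_top : i ⁻¹ᵁ V ≤ ⊤)).op s) ^ n := by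
  obtain ⟨σ, hσ⟩ := i.app_surjective V hV (Z.presheaf.map (homOfLE (le_top : i ⁻¹ᵁ V ≤ ⊤)).op s)
  have hO : V ⊓ U = X.basicOpen σ := by
    apply preimage_injective i hi
    rw [Scheme.preimage_basicOpen, hσ, Scheme.basicOpen_res, ← hU]
    rfl
  have hle : V ⊓ U ≤ V := inf_le_left
  obtain ⟨uO, huO⟩ : ∃ y, y = X.presheaf.map (homOfLE (inf_le_right : V ⊓ U ≤ U)).op u :=
    ⟨_, rfl⟩
  obtain ⟨m, a, ha⟩ := exists_pow_mul_of_eq_basicOpen X hV σ hO hle uO
  have hV' : IsAffineOpen (i ⁻¹ᵁ V) := hV.preimage i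
  have hO' : i ⁻¹ᵁ (V ⊓ U) = Z.basicOpen (i.app V σ) := by
    rw [hO, Scheme.preimage_basicOpen]
  have hle' : i ⁻¹ᵁ (V ⊓ U) ≤ i ⁻¹ᵁ V := i.preimage_mono hle
  have hσO : i.app (V ⊓ U) (X.presheaf.map (homOfLE hle).op σ) =
      Z.presheaf.map (homOfLE (le_top : i ⁻¹ᵁ (V ⊓ U) ≤ ⊤)).op s := by
    rw [app_res i hle σ, hσ, res_res]
  have huO' : i.app (V ⊓ U) uO =
      Z.presheaf.map (homOfLE (le_top : i ⁻¹ᵁ (V ⊓ U) ≤ ⊤)).op s := by
    rw [huO, app_res i inf_le_right u, hu, res_res]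
  have hd : Z.presheaf.map (homOfLE hle').op (i.app V (a - σ ^ (m + 1))) = 0 := by
    rw [← app_res i hle, map_sub, map_pow, ha, map_sub, map_mul, map_pow, map_pow, hσO, huO']
    ring
  obtain ⟨k, hk⟩ := exists_pow_mul_eq_zero_of_eq_basicOpen Z hV' (i.app V σ)
    (i.app V (a - σ ^ (m + 1))) hO' hle' hd
  obtain ⟨ε, hε⟩ : ∃ e, e = σ ^ k * (a - σ ^ (m + 1)) := ⟨_, rfl⟩
  have hε0 : i.app V ε = 0 := by
    rw [hε, map_mul, map_pow]
    exact hk
  obtain ⟨N, hN⟩ := isNilpotent_of_app_eq_zero i hi hV.isCompact ε hε0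
  have hN' : ε ^ (N + 1) = 0 := by rw [pow_succ, hN, zero_mul]
  have hunit : IsUnit (X.presheaf.map (homOfLE hle).op σ) := by
    apply isUnit_of_basicOpen_eq
    rw [Scheme.basicOpen_res]
    exact inf_eq_left.mpr (le_of_eq hO)
  have h1 : (X.presheaf.map (homOfLE hle).op σ) ^ (k + m) *
      (uO - X.presheaf.map (homOfLE hle).op σ) = X.presheaf.map (homOfLE hle).op ε := by
    rw [hε, map_mul, map_pow, map_sub, map_pow, ha]
    ring
  refine ⟨(k + m + 1) * (N + 1), fun n hn => ?_⟩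
  obtain ⟨ρ, c, hρ1, hρ2⟩ := exists_lift_pow (X.presheaf.map (homOfLE hle).op).hom σ ε uO
    (k + m) N hunit h1 hN' n hn
  refine ⟨ρ, ?_, ?_⟩
  · rw [← huO]
    exact hρ1
  · rw [hρ2, map_add, map_mul, hε0, zero_mul, add_zero, map_pow, hσ]

/-- The lifting predicate: some positive power of `s` lifts over `W`, compatibly with `u`. -/
def LiftP (W : X.Opens) : Prop :=
  ∃ n : ℕ, 0 < n ∧ ∃ ρ : Γ(X, W),
    X.presheaf.map (homOfLE (inf_le_left : W ⊓ U ≤ W)).op ρ =
      (X.presheaf.map (homOfLE (inf_le_right : W ⊓ U ≤ U)).op u) ^ n ∧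
    i.app W ρ = (Z.presheaf.map (homOfLE (le_top : i ⁻¹ᵁ W ≤ ⊤)).op s) ^ n

include hi hU hu in
theorem liftP_sup [QuasiSeparatedSpace X] {W : X.Opens} (hW : IsCompact (W : Set X))
    {V : X.Opens} (hV : IsAffineOpen V) (h : LiftP i s U u W) : LiftP i s U u (W ⊔ V) := by
  obtain ⟨n₁, hn₁, ρ₁, hρ₁a, hρ₁b⟩ := h
  obtain ⟨n₀, hn₀⟩ := exists_lift_pow_of_isAffineOpen i hi s U hU u hu hV
  obtain ⟨n, hn⟩ : ∃ n, n = n₁ * (n₀ + 1) := ⟨_, rfl⟩
  have hnpos : 0 < n := by rw [hn]; positivity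
  obtain ⟨ρV, hρVa, hρVb⟩ := hn₀ n (by rw [hn]; nlinarith)
  obtain ⟨ρW, hρW⟩ : ∃ r, r = ρ₁ ^ (n₀ + 1) := ⟨_, rfl⟩
  have hρWa : X.presheaf.map (homOfLE (inf_le_left : W ⊓ U ≤ W)).op ρW =
      (X.presheaf.map (homOfLE (inf_le_right : W ⊓ U ≤ U)).op u) ^ n := by
    rw [hρW, map_pow, hρ₁a, ← pow_mul, hn]
  have hρWb : i.app W ρW = (Z.presheaf.map (homOfLE (le_top : i ⁻¹ᵁ W ≤ ⊤)).op s) ^ n := by
    rw [hρW, map_pow, hρ₁b, ← pow_mul, hn]
  have hT : IsCompact ((W ⊓ V : X.Opens) : Set X) :=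
    QuasiSeparatedSpace.inter_isCompact _ _ W.2 hW V.2 hV.isCompact
  obtain ⟨x, hx⟩ : ∃ x, x = X.presheaf.map (homOfLE (inf_le_left : W ⊓ V ≤ W)).op ρW :=
    ⟨_, rfl⟩
  obtain ⟨y, hy⟩ : ∃ y, y = X.presheaf.map (homOfLE (inf_le_right : W ⊓ V ≤ V)).op ρV :=
    ⟨_, rfl⟩
  have hxb : X.basicOpen x = (W ⊓ V) ⊓ U :=
    basicOpen_eq_inf i hi s U hU x hnpos (by
      rw [hx]
      exact app_res_eq_pow i s ρW n hρWb inf_le_left)
  have hyb : X.basicOpen y = (W ⊓ V) ⊓ U :=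
    basicOpen_eq_inf i hi s U hU y hnpos (by
      rw [hy]
      exact app_res_eq_pow i s ρV n hρVb inf_le_right)
  have hxy : X.presheaf.map (homOfLE (inf_le_left : (W ⊓ V) ⊓ U ≤ W ⊓ V)).op (x - y) = 0 := by
    rw [map_sub, hx, hy, res_res, res_res,
      res_eq_pow_of_le X u ρW n hρWa (inf_le_left.trans inf_le_left) inf_le_right,
      res_eq_pow_of_le X u ρV n hρVa (inf_le_left.trans inf_le_right) inf_le_right, sub_self]
  obtain ⟨M₁, hM₁⟩ := exists_pow_mul_eq_zero_of_eq_basicOpen_of_isCompact X hT x (x - y)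
    hxb.symm inf_le_left hxy
  obtain ⟨M₂, hM₂⟩ := exists_pow_mul_eq_zero_of_eq_basicOpen_of_isCompact X hT y (x - y)
    hyb.symm inf_le_left hxy
  obtain ⟨M, hM⟩ : ∃ M, M = max M₁ M₂ + 1 := ⟨_, rfl⟩
  have hx0 : x ^ M * (x - y) = 0 := pow_mul_eq_zero_of_le hM₁ (by omega)
  have hy0 : y ^ M * (x - y) = 0 := pow_mul_eq_zero_of_le hM₂ (by omega)
  have hpow : x ^ (2 * M) = y ^ (2 * M) := pow_eq_pow_of_pow_mul_sub x y M hx0 hy0
  obtain ⟨b, hb1, hb2⟩ := glue_two X W V (ρW ^ (2 * M)) (ρV ^ (2 * M)) (by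
    rw [map_pow, map_pow, ← hx, ← hy]
    exact hpow)
  have hMpos : 0 < 2 * M := by omega
  refine ⟨n * (2 * M), Nat.mul_pos hnpos hMpos, b, ?_, ?_⟩
  · apply eq_of_res_two X (U := W ⊓ U) (V := V ⊓ U) (inf_le_inf_right U le_sup_left)
      (inf_le_inf_right U le_sup_right) (le_of_eq (inf_sup_right _ _ _))
    · rw [res_res, map_pow, res_res,
        ← res_res X (le_sup_left : W ≤ W ⊔ V) (inf_le_left : W ⊓ U ≤ W) b, hb1, map_pow, hρWa,
        ← pow_mul]
    · rw [res_res, map_pow, res_res,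
        ← res_res X (le_sup_right : V ≤ W ⊔ V) (inf_le_left : V ⊓ U ≤ V) b, hb2, map_pow, hρVa,
        ← pow_mul]
  · apply eq_of_res_two Z (U := i ⁻¹ᵁ W) (V := i ⁻¹ᵁ V) (i.preimage_mono le_sup_left)
      (i.preimage_mono le_sup_right) (le_of_eq (Scheme.Hom.preimage_sup i))
    · rw [← app_res i le_sup_left b, hb1, map_pow, hρWb, map_pow, res_res, ← pow_mul]
    · rw [← app_res i le_sup_right b, hb2, map_pow, hρVb, map_pow, res_res, ← pow_mul]

include hi hU hu in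
theorem liftP_of_isCompact [QuasiSeparatedSpace X] (W : X.Opens) (hW : IsCompact (W : Set X)) :
    LiftP i s U u W := by
  refine compact_open_induction_on (P := LiftP i s U u) W hW ?_ ?_
  · haveI := subsingleton_of_eq_bot X (bot_inf_eq U : (⊥ : X.Opens) ⊓ U = ⊥)
    haveI := subsingleton_of_eq_bot Z (show i ⁻¹ᵁ (⊥ : X.Opens) = ⊥ from rfl)
    exact ⟨1, Nat.one_pos, 0, Subsingleton.elim _ _, Subsingleton.elim _ _⟩
  · intro S hS V h
    exact liftP_sup i hi s U hU u hu hS V.2 h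

end Sch

section Main

variable {Z X : Scheme.{u}} (i : Z ⟶ X) [IsClosedImmersion i]

/-- For a closed immersion which is a homeomorphism onto a qcqs scheme, every affine basic open
`Z_s` of a global section of `Z` is the preimage of an affine basic open `X_r` of a global section
of `X` (where `r` lifts a power of `s`). -/
theorem exists_basicOpen_of_isAffineOpen_basicOpen [QuasiSeparatedSpace X] [CompactSpace X]
    (hi : IsHomeomorph i.base) (s : Γ(Z, ⊤)) (hs : IsAffineOpen (Z.basicOpen s)) :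
    ∃ r : Γ(X, ⊤), IsAffineOpen (X.basicOpen r) ∧ i ⁻¹ᵁ (X.basicOpen r) = Z.basicOpen s := by
  let U : X.Opens := ⟨i.base '' (Z.basicOpen s : Set Z), hi.isOpenMap _ (Z.basicOpen s).2⟩
  have hU : i ⁻¹ᵁ U = Z.basicOpen s := by
    apply Opens.ext
    exact Set.preimage_image_eq _ hi.injective
  have hUaff : IsAffineOpen U :=
    isAffineOpen_of_isAffineOpen_preimage i hi.surjective U (by rw [hU]; exact hs)
  obtain ⟨u, hu⟩ := i.app_surjective U hUaff
    (Z.presheaf.map (homOfLE (le_top : i ⁻¹ᵁ U ≤ ⊤)).op s)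
  obtain ⟨n, hn, ρ, -, hρ⟩ := liftP_of_isCompact i hi.surjective s U hU u hu ⊤
    (show IsCompact ((⊤ : X.Opens) : Set X) by rw [Opens.coe_top]; exact isCompact_univ)
  have e : X.basicOpen ρ = U := by
    rw [basicOpen_eq_inf i hi.surjective s U hU ρ hn hρ, top_inf_eq]
  refine ⟨ρ, ?_, ?_⟩
  · rw [e]; exact hUaff
  · rw [e, hU]

/-- If `i : Z ⟶ X` is a closed immersion and a homeomorphism and `Z` is quasi-affine,
then `X` is quasi-affine. -/
theorem isQuasiAffine_of_isHomeomorph (hi : IsHomeomorph i.base) [Z.IsQuasiAffine] :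
    X.IsQuasiAffine := by
  haveI : CompactSpace X := (IsHomeomorph.homeomorph _ hi).compactSpace
  haveI : QuasiSeparatedSpace X :=
    (quasiSeparatedSpace_congr (IsHomeomorph.homeomorph _ hi)).mp inferInstance
  refine Scheme.IsQuasiAffine.of_forall_exists_mem_basicOpen X fun x => ?_
  obtain ⟨z, rfl⟩ := hi.surjective x
  obtain ⟨_, ⟨_, ⟨s, hs, rfl⟩, rfl⟩, hzs, -⟩ :=
    (Scheme.IsQuasiAffine.isBasis_basicOpen Z).exists_subset_of_mem_open (Set.mem_univ z)
      isOpen_univ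
  obtain ⟨r, hr, hrs⟩ := exists_basicOpen_of_isAffineOpen_basicOpen i hi s hs
  refine ⟨r, hr, ?_⟩
  have : z ∈ i ⁻¹ᵁ (X.basicOpen r) := by
    rw [hrs]
    exact hzs
  exact this

end Main

end Groth.Agent.Helper6.ThickQAff
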