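import Groth.Agent.Lib.Helper6.TildeFT

set_option autoImplicit false
universe u
open DirectSum CategoryTheory CategoryTheory.Limits AlgebraicGeometry Opposite TopologicalSpace

namespace Groth.Agent.Helper6.TildeFT

variable {R A : Type u} [CommRing R] [CommRing A] [Algebra R A] (𝒜 : ℕ → Submodule R A) [GradedAlgebra 𝒜]

section mono

variable (T : Finset A) (e : A → ℕ) (d : ℕ)

/-- monomial in the generators with exponents `< d`. -/
noncomputable def mon (α : ↥T → Fin d) : A := ∏ y : ↥T, (y : A) ^ (α y : ℕ)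

/-- weighted degree. -/
def wdeg (α : ↥T → Fin d) : ℕ := ∑ y : ↥T, (α y : ℕ) * e y

variable {T e d}

theorem mon_mem (hT : ∀ y ∈ T, y ∈ 𝒜 (e y)) (α : ↥T → Fin d) : mon T d α ∈ 𝒜 (wdeg T e d α) := by
  unfold mon wdeg
  refine SetLike.prod_mem_graded 𝒜 (fun y : ↥T => (α y : ℕ) * e y)
    (fun y : ↥T => (y : A) ^ (α y : ℕ)) (fun y _ => ?_)
  have := SetLike.pow_mem_graded (α y : ℕ) (hT y.1 y.2)
  simpa [smul_eq_mul] using this

open scoped Classical in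
/-- the part of the monomial away from `y`. -/
noncomputable def rest (T : Finset A) (d : ℕ) (α : ↥T → Fin d) (y : ↥T) : A :=
  ∏ z ∈ Finset.univ.erase y, (z : A) ^ (α z : ℕ)

open scoped Classical in
omit [Algebra R A] [CommRing R] in
theorem mon_eq (α : ↥T → Fin d) (y : ↥T) :
    mon T d α = (y : A) ^ (α y : ℕ) * rest T d α y := by
  unfold mon rest
  rw [← Finset.mul_prod_erase Finset.univ (fun z : ↥T => (z : A) ^ (α z : ℕ)) (Finset.mem_univ y)]

open scoped Classical in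
omit [Algebra R A] [CommRing R] in
theorem mon_update (α : ↥T → Fin d) (y : ↥T) (v : Fin d) :
    mon T d (Function.update α y v) = (y : A) ^ (v : ℕ) * rest T d α y := by
  rw [mon_eq (Function.update α y v) y, Function.update_self]
  congr 1
  unfold rest
  exact Finset.prod_congr rfl (fun z hz => by rw [Function.update_of_ne (Finset.ne_of_mem_erase hz)])

open scoped Classical in
omit [CommRing A] in
theorem wdeg_update (α : ↥T → Fin d) (y : ↥T) (v : Fin d) :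
    wdeg T e d (Function.update α y v) + (α y : ℕ) * e y = wdeg T e d α + (v : ℕ) * e y := by
  classical
  unfold wdeg
  rw [← Finset.add_sum_erase Finset.univ _ (Finset.mem_univ y),
    ← Finset.add_sum_erase Finset.univ (fun z : ↥T => (α z : ℕ) * e z) (Finset.mem_univ y)]
  have : ∑ z ∈ Finset.univ.erase y, ((Function.update α y v z : Fin d) : ℕ) * e z =
      ∑ z ∈ Finset.univ.erase y, (α z : ℕ) * e z :=
    Finset.sum_congr rfl (fun z hz => by rw [Function.update_of_ne (Finset.ne_of_mem_erase hz)])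
  rw [this, Function.update_self]
  ring

end mono

variable {M : Type u} [AddCommGroup M] [Module R M] [Module A M] (ℳ : ℕ → Submodule R M)
  [DirectSum.Decomposition ℳ] [SetLike.GradedSMul 𝒜 ℳ]

omit [DirectSum.Decomposition ℳ] in
theorem μ_congr {d : ℕ} {f : A} (hf : f ∈ 𝒜 d) {k k' : ℕ} (hk : k = k') (m : M)
    (h : m ∈ ℳ (k * d)) (h' : m ∈ ℳ (k' * d)) :
    μ 𝒜 ℳ hf k ⟨m, h⟩ = μ 𝒜 ℳ hf k' ⟨m, h'⟩ := by
  subst hk; rfl

open scoped Classical in
theorem fg_sections {d : ℕ} (hd : 0 < d) {f : A} (hf : f ∈ 𝒜 d)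
    (T : Finset A) (e : A → ℕ) (hT : ∀ y ∈ T, y ∈ 𝒜 (e y) ∧ 0 < e y)
    (hspan : Ideal.span (T : Set A) = (HomogeneousIdeal.irrelevant 𝒜).toIdeal)
    (n : ℕ) (Gm : Finset M) (dg : M → ℕ) (hGm : ∀ g ∈ Gm, g ∈ ℳ (dg g))
    (htail : ∀ c, n ≤ c → ∀ m ∈ ℳ c, m ∈ Submodule.span A (Gm : Set M)) :
    (⊤ : Submodule Γ(Proj 𝒜, Proj.basicOpen 𝒜 f)
      Γ(GrTilde.tilde 𝒜 ℳ 0, Proj.basicOpen 𝒜 f)).FG := by
  let P : ℕ → M → Prop := fun c t =>
    ∃ (α : ↥T → Fin d) (g : ↥Gm), t = mon T d α • g.1 ∧ c = wdeg T e d α + dg g.1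
  have hP : ∀ c t, P c t → t ∈ ℳ c := by
    rintro c t ⟨α, g, rfl, rfl⟩
    exact SetLike.GradedSMul.smul_mem (mon_mem 𝒜 (fun y hy => (hT y hy).1) α) (hGm g.1 g.2)
  let gen : (↥T → Fin d) × ↥Gm → Γ(GrTilde.tilde 𝒜 ℳ 0, Proj.basicOpen 𝒜 f) := fun j =>
    if h : d ∣ wdeg T e d j.1 + dg j.2.1 then
      μ 𝒜 ℳ hf ((wdeg T e d j.1 + dg j.2.1) / d) ⟨mon T d j.1 • j.2.1, by
        rw [Nat.div_mul_cancel h]; exact hP _ _ ⟨j.1, j.2, rfl, rfl⟩⟩
    else 0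
  let G : Submodule Γ(Proj 𝒜, Proj.basicOpen 𝒜 f) Γ(GrTilde.tilde 𝒜 ℳ 0, Proj.basicOpen 𝒜 f) :=
    Submodule.span _ (Set.range gen)
  have hGfg : G.FG := Submodule.fg_span (Set.finite_range gen)
  have hi : ∀ k t (h : P (k * d) t), μ 𝒜 ℳ hf k ⟨t, hP _ _ h⟩ ∈ G := by
    rintro k t ⟨α, g, rfl, hk⟩
    have hdvd : d ∣ wdeg T e d α + dg g.1 := ⟨k, by rw [← hk, mul_comm]⟩
    have hdiv : (wdeg T e d α + dg g.1) / d = k := by rw [← hk]; exact Nat.mul_div_cancel k hd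
    have hgen : gen (α, g) = μ 𝒜 ℳ hf k ⟨mon T d α • g.1, hP _ _ ⟨α, g, rfl, hk⟩⟩ := by
      simp only [gen, dif_pos hdvd]
      exact μ_congr 𝒜 ℳ hf hdiv _ _ _
    rw [← hgen]
    exact Submodule.subset_span ⟨_, rfl⟩
  have hii : ∀ c t, P c t → ∀ y ∈ T, P (c + e y) (y • t) ∨
      ∃ c' t', P c' t' ∧ c + e y = c' + d * e y ∧ y • t = y ^ d • t' := by
    rintro c t ⟨α, g, rfl, rfl⟩ y hy
    by_cases hlt : (α ⟨y, hy⟩ : ℕ) + 1 < d
    · left
      refine ⟨Function.update α ⟨y, hy⟩ ⟨(α ⟨y, hy⟩ : ℕ) + 1, hlt⟩, g, ?_, ?_⟩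
      · rw [mon_update, mon_eq α ⟨y, hy⟩, ← mul_smul]
        congr 1
        simp only
        ring
      · have := wdeg_update (e := e) α ⟨y, hy⟩ ⟨(α ⟨y, hy⟩ : ℕ) + 1, hlt⟩
        simp only at this
        have h2 : ((α ⟨y, hy⟩ : ℕ) + 1) * e y = (α ⟨y, hy⟩ : ℕ) * e y + e y := by ring
        omega
    · right
      have heq : (α ⟨y, hy⟩ : ℕ) + 1 = d := by
        have := (α ⟨y, hy⟩).2
        omega
      refine ⟨_, mon T d (Function.update α ⟨y, hy⟩ ⟨0, hd⟩) • g.1,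
        ⟨Function.update α ⟨y, hy⟩ ⟨0, hd⟩, g, rfl, rfl⟩, ?_, ?_⟩
      · have := wdeg_update (e := e) α ⟨y, hy⟩ ⟨0, hd⟩
        simp only [zero_mul, add_zero] at this
        have h3 : d * e y = ((α ⟨y, hy⟩ : ℕ) + 1) * e y := by rw [heq]
        have h2 : d * e y = (α ⟨y, hy⟩ : ℕ) * e y + e y := by rw [h3]; ring
        omega
      · rw [mon_update, mon_eq α ⟨y, hy⟩, ← mul_smul, ← mul_smul]
        congr 1
        simp only [pow_zero, one_mul]
        have h3 : y ^ d = y ^ ((α ⟨y, hy⟩ : ℕ) + 1) := by rw [heq]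
        rw [h3]
        ring
  have hcl := closure_mem 𝒜 ℳ hf hd T e hT hspan G P hP hi hii
  -- every section lies in G
  rw [← top_le_iff.mp (show ⊤ ≤ G from ?_)]
  · exact hGfg
  intro s _
  obtain ⟨L, q, m, hm, hq, hval⟩ := GrTildeLib.exists_global_frac 𝒜 ℳ 0 hd hf
    (s : GrTilde.sect 𝒜 ℳ 0 (op (Proj.basicOpen 𝒜 f)))
  have hqL : q = L * d := by
    have : (q : ℤ) = ((L * d : ℕ) : ℤ) := by push_cast; linarith
    exact_mod_cast this
  subst hqL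
  have hm' : f ^ n • m ∈ ℳ ((n + L) * d) := by
    rw [add_mul]
    exact SetLike.GradedSMul.smul_mem (pow_mem_mul 𝒜 hf n) hm
  have hs : s = μ 𝒜 ℳ hf (n + L) ⟨f ^ n • m, hm'⟩ := by
    apply Subtype.ext
    funext x
    apply Subtype.ext
    have hxf : f ∉ x.1.asHomogeneousIdeal := (ProjectiveSpectrum.mem_basicOpen 𝒜 f x.1).1 x.2
    refine (hval x.1 hxf).trans ?_
    change _ = (LocalizedModule.mk (f ^ n • m) ⟨f ^ (n + L), fun h =>
      hxf (x.1.isPrime.mem_of_pow_mem (n + L) h)⟩ : GrTilde.LocMod 𝒜 (M := M) x.1)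
    rw [LocalizedModule.mk_eq]
    refine ⟨1, ?_⟩
    simp only [one_smul, Submonoid.smul_def, smul_smul]
    congr 1
    ring
  rw [hs]
  have hc : n ≤ (n + L) * d := by
    calc n ≤ n + L := Nat.le_add_right _ _
      _ ≤ (n + L) * d := Nat.le_mul_of_pos_right _ hd
  have hspanm := htail _ hc _ hm'
  obtain ⟨cf, -, hcf⟩ := Submodule.mem_span_finset.1 hspanm
  have hdec := eq_sum_hcoef 𝒜 ℳ Gm cf (fun g => g) dg hGm hm' hcf.symm
  have hterm : ∀ g ∈ Gm, ∃ hmem : hcoef 𝒜 (cf g) ((n + L) * d) (dg g) • g ∈ ℳ ((n + L) * d),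
      μ 𝒜 ℳ hf (n + L) ⟨_, hmem⟩ ∈ G := by
    intro g hg
    by_cases hle : dg g ≤ (n + L) * d
    · have hb := hcoef_mem 𝒜 (cf g) ((n + L) * d) (dg g)
      have hmem : hcoef 𝒜 (cf g) ((n + L) * d) (dg g) • g ∈ ℳ ((n + L) * d) := by
        have : hcoef 𝒜 (cf g) ((n + L) * d) (dg g) • g ∈ ℳ ((n + L) * d - dg g + dg g) :=
          SetLike.GradedSMul.smul_mem hb (hGm g hg)
        rwa [Nat.sub_add_cancel hle] at this
      refine ⟨hmem, ?_⟩
      have hPg : P (dg g) g := by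
        refine ⟨fun _ => ⟨0, hd⟩, ⟨g, hg⟩, ?_, ?_⟩
        · simp [mon]
        · simp [wdeg]
      exact hcl _ (dg g) g hPg _ hb (n + L) (Nat.sub_add_cancel hle) hmem
    · have hz : hcoef 𝒜 (cf g) ((n + L) * d) (dg g) = 0 := hcoef_eq_zero 𝒜 _ (by omega)
      have h0 : hcoef 𝒜 (cf g) ((n + L) * d) (dg g) • g = 0 := by rw [hz, zero_smul]
      refine ⟨h0 ▸ zero_mem _, ?_⟩
      have : (⟨hcoef 𝒜 (cf g) ((n + L) * d) (dg g) • g, h0 ▸ zero_mem _⟩ : ℳ ((n + L) * d)) = 0 :=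
        Subtype.ext h0
      rw [this, map_zero]
      exact zero_mem _
  choose hmem hG using hterm
  have hsum : (⟨f ^ n • m, hm'⟩ : ℳ ((n + L) * d)) =
      ∑ g ∈ Gm.attach, ⟨hcoef 𝒜 (cf g.1) ((n + L) * d) (dg g.1) • g.1, hmem g.1 g.2⟩ := by
    apply Subtype.ext
    rw [AddSubmonoidClass.coe_finsetSum]
    simp only
    rw [Finset.sum_attach Gm (fun g => hcoef 𝒜 (cf g) ((n + L) * d) (dg g) • g)]
    exact hdec
  rw [hsum, map_sum]
  exact G.sum_mem (fun g _ => hG g.1 g.2)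


set_option backward.isDefEq.respectTransparency false in
/-- EGA II 2.7.3: under (TF) and `A_+` f.g., `M~` is of finite type. -/
theorem tilde_isFiniteType [IsScalarTower R A M]
    (hfg : (HomogeneousIdeal.irrelevant 𝒜).toIdeal.FG)
    (hTF : ∃ n : ℕ, (Submodule.span A (⋃ k ∈ Set.Ici n, (ℳ k : Set M))).FG) :
    SheafOfModules.IsFiniteType (R := (Proj 𝒜).ringCatSheaf) (GrTilde.tilde 𝒜 ℳ 0) := by
  classical
  obtain ⟨T, hThom, hTspan⟩ := Groth.Agent.Helper6.exists_homogeneous_generators 𝒜 _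
    (HomogeneousIdeal.irrelevant 𝒜).isHomogeneous hfg
  choose! e0 he0 using hThom
  let e : A → ℕ := fun y => if y = 0 then 1 else e0 y
  have hT : ∀ y ∈ T, y ∈ 𝒜 (e y) ∧ 0 < e y := by
    intro y hy
    by_cases hy0 : y = 0
    · simp only [e, if_pos hy0]
      subst hy0
      exact ⟨Submodule.zero_mem _, Nat.one_pos⟩
    · simp only [e, if_neg hy0]
      refine ⟨he0 y hy, Nat.pos_of_ne_zero (fun h0 => hy0 ?_)⟩
      have hmem : y ∈ (HomogeneousIdeal.irrelevant 𝒜).toIdeal := by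
        rw [← hTspan]; exact Ideal.subset_span hy
      have h1 : GradedRing.proj 𝒜 0 y = 0 :=
        (HomogeneousIdeal.mem_irrelevant_iff 𝒜 y).1 hmem
      have h2 : y ∈ 𝒜 0 := h0 ▸ he0 y hy
      rw [GradedRing.proj_apply, DirectSum.decompose_of_mem_same 𝒜 h2] at h1
      exact h1
  obtain ⟨n, hn⟩ := hTF
  obtain ⟨Gm, hGsub, hGspan⟩ := (Submodule.fg_span_iff_fg_span_finset_subset _).1 hn
  have hdg : ∀ g ∈ Gm, ∃ k, g ∈ ℳ k := by
    intro g hg
    have := hGsub hg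
    simp only [Set.mem_iUnion, SetLike.mem_coe, exists_prop] at this
    obtain ⟨k, _, hk⟩ := this
    exact ⟨k, hk⟩
  choose! dg hdg' using hdg
  have htail : ∀ c, n ≤ c → ∀ m ∈ ℳ c, m ∈ Submodule.span A (Gm : Set M) := by
    intro c hc m hm
    rw [← hGspan]
    refine Submodule.subset_span ?_
    simp only [Set.mem_iUnion, SetLike.mem_coe, exists_prop]
    exact ⟨c, hc, hm⟩
  haveI := QcohProj.tilde_isQuasicoherent 𝒜 ℳ 0
  refine QcohLocal.isFiniteType_of_affineOpens (X := Proj 𝒜) (GrTilde.tilde 𝒜 ℳ 0)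
    (ι := Σ d : ℕ, {f : A // 0 < d ∧ f ∈ 𝒜 d})
    (fun i => Proj.basicOpen 𝒜 i.2.1)
    (fun i => Proj.isAffineOpen_basicOpen 𝒜 i.2.1 i.2.2.2 i.2.2.1)
    (fun x => ?_) (fun i => inferInstance) (fun i => ?_)
  · obtain ⟨d, f, hd, hf, hfx⟩ := GrTildeLib.exists_homogeneous_notMem 𝒜 x
    exact ⟨⟨d, f, hd, hf⟩, (ProjectiveSpectrum.mem_basicOpen 𝒜 f x).2 hfx⟩
  · have hfgs := fg_sections 𝒜 ℳ i.2.2.1 i.2.2.2 T e hT hTspan n Gm dg hdg' htail
    obtain ⟨k, t, ht⟩ := Submodule.fg_iff_exists_fin_generating_family.1 hfgs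
    exact ⟨k, t, ht⟩

end Groth.Agent.Helper6.TildeFT
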