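import Groth.Agent.Lib.Helper6.TowerLimA
import Groth.Agent.Lib.Helper1.AdicNoeth

/-!
# Adic towers of rings (EGA 0_I 7.2.7)

A tower `⋯ → R 2 → R 1 → R 0` of surjections with `ker (R (n+1) → R n) = J_(n+1)^(n+1)`,
`J_m = ker (R m → R 0)`, `R 0` Noetherian and `J_1` finitely generated has a Noetherian limit
`A`, complete for `𝔍 = ker (A → R 0)`, with `ker (A → R n) = 𝔍^(n+1)`.
-/

namespace Groth.Agent.Helper6.TowerLim
universe u

variable (R : ℕ → Type u) [∀ n, CommRing (R n)] (φ : ∀ n, R (n + 1) →+* R n)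

/-- The composite `R m → R 0`. -/
def t0 : ∀ m, R m →+* R 0
  | 0 => RingHom.id _
  | m + 1 => (t0 m).comp (φ m)

/-- The composite `R (m+1) → R 1`. -/
def t1 : ∀ m, R (m + 1) →+* R 1
  | 0 => RingHom.id _
  | m + 1 => (t1 m).comp (φ (m + 1))

theorem t0_succ (m : ℕ) : t0 R φ (m + 1) = (t0 R φ m).comp (φ m) := rfl

theorem t1_succ (m : ℕ) : t1 R φ (m + 1) = (t1 R φ m).comp (φ (m + 1)) := rfl

theorem t0_proj (m : ℕ) (x : Lim R φ) : t0 R φ m (proj R φ m x) = proj R φ 0 x := by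
  induction m with
  | zero => rfl
  | succ m ih => rw [t0_succ, RingHom.comp_apply, φ_proj, ih]

theorem t1_proj (m : ℕ) (x : Lim R φ) : t1 R φ m (proj R φ (m + 1) x) = proj R φ 1 x := by
  induction m with
  | zero => rfl
  | succ m ih => rw [t1_succ, RingHom.comp_apply, φ_proj, ih]

theorem φ0_t1 (m : ℕ) : (φ 0).comp (t1 R φ m) = t0 R φ (m + 1) := by
  induction m with
  | zero => rfl
  | succ m ih => rw [t1_succ, ← RingHom.comp_assoc, ih]; rfl

section Main

variable (hφ : ∀ n, Function.Surjective (φ n))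
  (hker : ∀ n, RingHom.ker (φ n) = (RingHom.ker (t0 R φ (n + 1))) ^ (n + 1))

include hφ in
theorem t1_surjective (m : ℕ) : Function.Surjective (t1 R φ m) := by
  induction m with
  | zero => exact Function.surjective_id
  | succ m ih => rw [t1_succ]; exact ih.comp (hφ (m + 1))

theorem ker_t0_succ (m : ℕ) :
    RingHom.ker (t0 R φ (m + 1)) = (RingHom.ker (t0 R φ m)).comap (φ m) := by
  rw [t0_succ, RingHom.comap_ker]

include hφ in
theorem map_ker_t0 (m : ℕ) :
    (RingHom.ker (t0 R φ (m + 1))).map (φ m) = RingHom.ker (t0 R φ m) := by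
  rw [ker_t0_succ, Ideal.map_comap_of_surjective _ (hφ m)]

include hφ hker in
theorem ker_t0_pow (n : ℕ) : (RingHom.ker (t0 R φ n)) ^ (n + 1) = ⊥ := by
  rw [← map_ker_t0 R φ hφ n, ← Ideal.map_pow, ← hker n, Ideal.map_eq_bot_iff_le_ker]

include hφ hker in
theorem ker_t1 (m : ℕ) : RingHom.ker (t1 R φ m) = (RingHom.ker (t0 R φ (m + 1))) ^ 2 := by
  induction m with
  | zero =>
    have h := ker_t0_pow R φ hφ hker 1
    rw [h]
    exact (RingHom.injective_iff_ker_eq_bot _).mp Function.injective_id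
  | succ m ih =>
    rw [t1_succ, ← RingHom.comap_ker, ih, ← map_ker_t0 R φ hφ (m + 1), ← Ideal.map_pow,
      Ideal.comap_map_of_surjective _ (hφ (m + 1)), ← RingHom.ker_eq_comap_bot, hker (m + 1)]
    exact sup_eq_left.mpr (Ideal.pow_le_pow_right (by omega))

include hφ hker in
theorem main (hfg : (RingHom.ker (φ 0)).FG) [IsNoetherianRing (R 0)] :
    IsNoetherianRing (Lim R φ) ∧ IsAdicComplete (RingHom.ker (proj R φ 0)) (Lim R φ) ∧
      ∀ n, RingHom.ker (proj R φ n) = (RingHom.ker (proj R φ 0)) ^ (n + 1) := by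
  classical
  have hps := proj_surjective φ hφ
  -- generators of `J 1 = ker (φ 0)` and their lifts
  obtain ⟨d, b, hb⟩ := Submodule.fg_iff_exists_fin_generating_family.mp hfg
  have hbmem : ∀ i, b i ∈ RingHom.ker (φ 0) := fun i => by
    rw [← hb]; exact Submodule.subset_span ⟨i, rfl⟩
  choose a ha using fun i => hps 1 (b i)
  obtain ⟨𝔞, h𝔞⟩ : ∃ I : Ideal (Lim R φ), I = Ideal.span (Set.range a) := ⟨_, rfl⟩
  have hmapspan : ∀ m, 𝔞.map (proj R φ m) = Ideal.span (Set.range fun i => proj R φ m (a i)) := by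
    intro m
    rw [h𝔞, Ideal.map_span, ← Set.range_comp]
    rfl
  have hproj0 : ∀ i, proj R φ 0 (a i) = 0 := fun i => by
    rw [← φ_proj, ha]; exact hbmem i
  -- (†) : the image of `𝔞` at level `m` is `J m`
  have hle1 : ∀ m, 𝔞.map (proj R φ m) ≤ RingHom.ker (t0 R φ m) := by
    intro m
    rw [hmapspan, Ideal.span_le]
    rintro _ ⟨i, rfl⟩
    show t0 R φ m (proj R φ m (a i)) = 0
    rw [t0_proj, hproj0]
  have hdag : ∀ m, 𝔞.map (proj R φ m) = RingHom.ker (t0 R φ m) := by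
    intro m
    refine le_antisymm (hle1 m) ?_
    cases m with
    | zero =>
      have : RingHom.ker (t0 R φ 0) = ⊥ :=
        (RingHom.injective_iff_ker_eq_bot _).mp Function.injective_id
      rw [this]; exact bot_le
    | succ m =>
      refine le_of_le_sup_sq ?_ (m + 1 + 1) (ker_t0_pow R φ hφ hker (m + 1))
      intro z hz
      have hz1 : t1 R φ m z ∈ RingHom.ker (φ 0) := by
        show φ 0 (t1 R φ m z) = 0
        rw [← RingHom.comp_apply, φ0_t1]; exact hz
      have hmap1 : (𝔞.map (proj R φ (m + 1))).map (t1 R φ m) = RingHom.ker (φ 0) := by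
        rw [hmapspan, Ideal.map_span, ← Set.range_comp, ← hb]
        congr 2
        funext i
        show t1 R φ m (proj R φ (m + 1) (a i)) = b i
        rw [t1_proj, ha]
      rw [← hmap1, Ideal.mem_map_iff_of_surjective _ (t1_surjective R φ hφ m)] at hz1
      obtain ⟨w, hw, hwz⟩ := hz1
      have hzw : z - w ∈ RingHom.ker (t1 R φ m) := by
        show t1 R φ m (z - w) = 0
        rw [map_sub, hwz, sub_self]
      rw [ker_t1 R φ hφ hker m] at hzw
      exact Submodule.mem_sup.mpr ⟨w, hw, z - w, hzw, by ring⟩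
  -- apply the filtration lemma
  have hF_anti : ∀ n, RingHom.ker (proj R φ (n + 1)) ≤ RingHom.ker (proj R φ n) := by
    intro n x hx
    show proj R φ n x = 0
    rw [← φ_proj, show proj R φ (n + 1) x = 0 from hx, map_zero]
  have hsep : ∀ x : Lim R φ, (∀ n, x ∈ RingHom.ker (proj R φ n)) → x = 0 := by
    intro x hx
    apply ext_proj
    intro n
    rw [map_zero]; exact hx n
  have hcompl : ∀ s : ℕ → Lim R φ, (∀ k, s (k + 1) - s k ∈ RingHom.ker (proj R φ k)) →
      ∃ x, ∀ k, x - s k ∈ RingHom.ker (proj R φ k) := by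
    intro s hs
    obtain ⟨x, hx⟩ := exists_limit R φ s (fun k => by
      have := hs k
      rw [RingHom.mem_ker, map_sub, sub_eq_zero] at this
      exact this)
    exact ⟨x, fun k => by rw [RingHom.mem_ker, map_sub, hx, sub_self]⟩
  have hfg𝔞 : 𝔞.FG := by
    rw [h𝔞]; exact Submodule.fg_span (Set.finite_range a)
  have hle : ∀ n, 𝔞 ^ (n + 1) ≤ RingHom.ker (proj R φ n) := by
    intro n
    rw [← Ideal.map_eq_bot_iff_le_ker, Ideal.map_pow, hdag, ker_t0_pow R φ hφ hker n]
  have hstep : ∀ n, RingHom.ker (proj R φ n) ≤ 𝔞 ^ (n + 1) ⊔ RingHom.ker (proj R φ (n + 1)) := by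
    intro n x hx
    have h1 : proj R φ (n + 1) x ∈ (𝔞 ^ (n + 1)).map (proj R φ (n + 1)) := by
      rw [Ideal.map_pow, hdag, ← hker n]
      show φ n (proj R φ (n + 1) x) = 0
      rw [φ_proj]; exact hx
    rw [Ideal.mem_map_iff_of_surjective _ (hps (n + 1))] at h1
    obtain ⟨y, hy, hyx⟩ := h1
    refine Submodule.mem_sup.mpr ⟨y, hy, x - y, ?_, by ring⟩
    rw [RingHom.mem_ker, map_sub, hyx, sub_self]
  have hF : ∀ n, RingHom.ker (proj R φ n) = 𝔞 ^ (n + 1) := fun n =>
    le_antisymm (filt_le_pow _ 𝔞 hF_anti hsep hcompl hfg𝔞 hle hstep n) (hle n)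
  have h𝔍 : RingHom.ker (proj R φ 0) = 𝔞 := by rw [hF 0, zero_add, pow_one]
  have hcomplete : IsAdicComplete 𝔞 (Lim R φ) :=
    isAdicComplete_of_filt _ 𝔞 hF hsep hcompl
  rw [h𝔍]
  refine ⟨?_, hcomplete, hF⟩
  haveI := hcomplete
  haveI : IsNoetherianRing (Lim R φ ⧸ 𝔞) := by
    have e : (Lim R φ ⧸ 𝔞) ≃+* R 0 :=
      (Ideal.quotEquivOfEq h𝔍.symm).trans (RingHom.quotientKerEquivOfSurjective (hps 0))
    exact isNoetherianRing_of_ringEquiv (R 0) e.symm
  exact Groth.Agent.Helper1.isNoetherianRing_of_isAdicComplete_of_fg 𝔞 hfg𝔞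

end Main

end Groth.Agent.Helper6.TowerLim
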