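import Groth.Agent.Lib.Helper6.TowerLimB
import Groth.Agent.Lib.Helper6.ThickAffB
import Groth.Agent.Lib.Helper6.FSchThick
import Groth.Agent.Lib.Helper6.FSchSpf
import Groth.Prelude.Def_FSch5

/-!
# An affine adic system of thickenings is a formal spectrum
-/

open AlgebraicGeometry CategoryTheory Limits

namespace Groth.Agent.Helper6.TowerLim
universe u

open Groth.Agent.Helper6.FSchLib Groth.Agent.Helper6.ThickAff

/-- `Spec` of a ring isomorphism. -/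
noncomputable def specIsoOfRingEquiv {R S : Type u} [CommRing R] [CommRing S] (e : S ≃+* R) :
    Spec (CommRingCat.of R) ≅ Spec (CommRingCat.of S) where
  hom := Spec.map (CommRingCat.ofHom e.toRingHom)
  inv := Spec.map (CommRingCat.ofHom e.symm.toRingHom)
  hom_inv_id := by
    rw [← Spec.map_comp, ← CommRingCat.ofHom_comp]
    have : e.toRingHom.comp e.symm.toRingHom = RingHom.id R := by
      ext x; simp
    rw [this]
    exact Spec.map_id _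
  inv_hom_id := by
    rw [← Spec.map_comp, ← CommRingCat.ofHom_comp]
    have : e.symm.toRingHom.comp e.toRingHom = RingHom.id S := by
      ext x; simp
    rw [this]
    exact Spec.map_id _

/-- An isomorphism of systems from levelwise isomorphisms. -/
noncomputable def sysIso {𝔛 𝔜 : FSch.Sys.{u}} (e : ∀ n, 𝔛.X n ≅ 𝔜.X n)
    (h : ∀ n, (e n).hom ≫ 𝔜.ι n = 𝔛.ι n ≫ (e (n + 1)).hom) : 𝔛 ≅ 𝔜 where
  hom := ⟨fun n => (e n).hom, h⟩
  inv := ⟨fun n => (e n).inv, fun n => by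
    rw [Iso.inv_comp_eq, ← Category.assoc, h, Category.assoc, Iso.hom_inv_id,
      Category.comp_id]⟩
  hom_inv_id := FSch.Hom.ext (funext fun n => (e n).hom_inv_id)
  inv_hom_id := FSch.Hom.ext (funext fun n => (e n).inv_hom_id)

section Sch
variable (𝔛 : FSch.Sys.{u})

/-- global sections of the levels -/
abbrev Rg (n : ℕ) : Type u := Γ(𝔛.X n, ⊤)

/-- transition maps on global sections -/
noncomputable def φg (n : ℕ) : Rg 𝔛 (n + 1) →+* Rg 𝔛 n := (𝔛.ι n).appTop.hom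

theorem t0_eq (m : ℕ) : t0 (Rg 𝔛) (φg 𝔛) m = (𝔛.toX m).appTop.hom := by
  induction m with
  | zero => rfl
  | succ m ih =>
    rw [t0_succ, ih, toX_succ, Scheme.Hom.comp_appTop]
    rfl

variable [haff : ∀ n, IsAffine (𝔛.X n)]

theorem φg_surjective (hF : 𝔛.IsFormal) (n : ℕ) : Function.Surjective (φg 𝔛 n) := by
  haveI := (hF n).1
  exact (𝔛.ι n).app_surjective ⊤ (isAffineOpen_top _)

theorem hker_of_isAdic (hF : 𝔛.IsFormal) (hA : 𝔛.IsAdic) (n : ℕ) :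
    RingHom.ker (φg 𝔛 n) = (RingHom.ker (t0 (Rg 𝔛) (φg 𝔛) (n + 1))) ^ (n + 1) := by
  haveI := (hF n).1
  haveI := toX_isClosedImmersion 𝔛 hF (n + 1)
  have h := congrArg
    (fun I : (𝔛.X (n + 1)).IdealSheafData => I.ideal ⟨⊤, isAffineOpen_top _⟩) (hA n)
  simp only [Scheme.IdealSheafData.ideal_pow, Scheme.Hom.ker_apply, Pi.pow_apply] at h
  rw [t0_eq]
  exact h

theorem fg_ker_φg_zero (hF : 𝔛.IsFormal) (hft : FSch.IdealFT (𝔛.ι 0).ker) :
    (RingHom.ker (φg 𝔛 0)).FG := by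
  haveI := (hF 0).1
  have h := hft ⟨⊤, isAffineOpen_top _⟩
  rw [Scheme.Hom.ker_apply] at h
  exact h

end Sch

/-- An adic system of thickenings with affine, locally Noetherian `X 0` and `ker (X 0 → X 1)` of
finite type is the formal spectrum of a Noetherian adically complete ring. -/
theorem exists_iso_spf (𝔛 : FSch.Sys.{u}) (hF : 𝔛.IsFormal) (hA : 𝔛.IsAdic)
    [IsAffine (𝔛.X 0)] [IsLocallyNoetherian (𝔛.X 0)] (hft : FSch.IdealFT (𝔛.ι 0).ker) :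
    ∃ (A : Type u) (_ : CommRing A) (J : Ideal A),
      IsNoetherianRing A ∧ IsAdicComplete J A ∧ Nonempty (𝔛 ≅ FSch.spf A J) := by
  haveI haff : ∀ n, IsAffine (𝔛.X n) := fun n => by
    haveI := toX_isClosedImmersion 𝔛 hF n
    exact isAffine_of_isClosedImmersion_of_surjective (𝔛.toX n) (FSch.Sys.toX_surjective 𝔛 hF n)
  haveI : IsNoetherianRing (Rg 𝔛 0) :=
    IsLocallyNoetherian.component_noetherian ⟨⊤, isAffineOpen_top _⟩
  have hφ := φg_surjective 𝔛 hF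
  obtain ⟨hN, hC, hK⟩ := main (Rg 𝔛) (φg 𝔛) hφ (hker_of_isAdic 𝔛 hF hA)
    (fg_ker_φg_zero 𝔛 hF hft)
  have hps := proj_surjective (φg 𝔛) hφ
  refine ⟨Lim (Rg 𝔛) (φg 𝔛), inferInstance, RingHom.ker (proj (Rg 𝔛) (φg 𝔛) 0), hN, hC, ?_⟩
  -- the ring isomorphisms `A ⧸ 𝔍^(n+1) ≃ Γ(X n)`
  let ψ : ∀ n, (Lim (Rg 𝔛) (φg 𝔛) ⧸ (RingHom.ker (proj (Rg 𝔛) (φg 𝔛) 0)) ^ (n + 1)) ≃+*
      Rg 𝔛 n := fun n =>
    (Ideal.quotEquivOfEq (hK n).symm).trans (RingHom.quotientKerEquivOfSurjective (hps n))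
  have hψ : ∀ n x, ψ n (Ideal.Quotient.mk _ x) = proj (Rg 𝔛) (φg 𝔛) n x := fun n x => rfl
  let e : ∀ n, 𝔛.X n ≅ (FSch.spf (Lim (Rg 𝔛) (φg 𝔛))
      (RingHom.ker (proj (Rg 𝔛) (φg 𝔛) 0))).X n := fun n =>
    (𝔛.X n).isoSpec ≪≫ specIsoOfRingEquiv (ψ n)
  refine ⟨sysIso e fun n => ?_⟩
  show ((𝔛.X n).isoSpec.hom ≫ Spec.map (CommRingCat.ofHom (ψ n).toRingHom)) ≫
      Spec.map (CommRingCat.ofHom (tr _ _ n)) =
    𝔛.ι n ≫ ((𝔛.X (n + 1)).isoSpec.hom ≫ Spec.map (CommRingCat.ofHom (ψ (n + 1)).toRingHom))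
  rw [← Scheme.isoSpec_hom_naturality_assoc, Category.assoc, ← Spec.map_comp, ← Spec.map_comp]
  congr 2
  apply CommRingCat.hom_ext
  apply Ideal.Quotient.ringHom_ext
  ext x
  show ψ n (tr _ _ n (Ideal.Quotient.mk _ x)) = φg 𝔛 n (ψ (n + 1) (Ideal.Quotient.mk _ x))
  rw [hψ, φ_proj]
  rfl

end Groth.Agent.Helper6.TowerLim
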