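import Groth.Agent.Lib.Helper6.QcohProj2

set_option autoImplicit false
universe u
open DirectSum CategoryTheory CategoryTheory.Limits AlgebraicGeometry Opposite TopologicalSpace

namespace Groth.Agent.Helper6.TwistTilde

variable {R A : Type u} [CommRing R] [CommRing A] [Algebra R A] (𝒜 : ℕ → Submodule R A) [GradedAlgebra 𝒜]

/-- `LocalizedModule S A ≃ Localization S`. -/
noncomputable def φ (x : ProjectiveSpectrum 𝒜) :
    GrTilde.LocMod 𝒜 (M := A) x ≃ₗ[A] Twist.Loc 𝒜 x :=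
  IsLocalizedModule.iso x.asHomogeneousIdeal.toIdeal.primeCompl
    (Algebra.linearMap A (Twist.Loc 𝒜 x))

theorem φ_mk (x : ProjectiveSpectrum 𝒜) (a : A) (s : x.asHomogeneousIdeal.toIdeal.primeCompl) :
    φ 𝒜 x (LocalizedModule.mk a s) = Localization.mk a s := by
  rw [Localization.mk_eq_mk', IsLocalization.mk'_eq_mk']
  rfl

theorem φ_symm_mk (x : ProjectiveSpectrum 𝒜) (a : A) (s : x.asHomogeneousIdeal.toIdeal.primeCompl) :
    (φ 𝒜 x).symm (Localization.mk a s) = LocalizedModule.mk a s := by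
  rw [LinearEquiv.symm_apply_eq, φ_mk]

theorem φ_smul (x : ProjectiveSpectrum 𝒜) (c : Twist.Loc 𝒜 x) (q : GrTilde.LocMod 𝒜 (M := A) x) :
    φ 𝒜 x (c • q) = c * φ 𝒜 x q := by
  induction q using LocalizedModule.induction_on with
  | h m s =>
    induction c using Localization.induction_on with
    | H y =>
      obtain ⟨a, t⟩ := y
      rw [LocalizedModule.mk_smul_mk, φ_mk, φ_mk, Localization.mk_mul, smul_eq_mul]

theorem φ_symm_mul (x : ProjectiveSpectrum 𝒜) (c q : Twist.Loc 𝒜 x) :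
    (φ 𝒜 x).symm (c * q) = c • (φ 𝒜 x).symm q := by
  rw [LinearEquiv.symm_apply_eq, φ_smul, LinearEquiv.apply_symm_apply]

theorem φ_mem (n : ℤ) (x : ProjectiveSpectrum 𝒜) (q : GrTilde.LocMod 𝒜 (M := A) x)
    (hq : q ∈ GrTilde.tildeAt 𝒜 𝒜 n x) : φ 𝒜 x q ∈ Twist.twistAt 𝒜 n x := by
  induction hq using Submodule.span_induction with
  | mem q hq =>
    obtain ⟨i, j, m, s, hs, hij, rfl⟩ := hq
    rw [φ_mk]
    exact Submodule.subset_span ⟨i, j, m, s, hs, hij, rfl⟩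
  | zero => rw [map_zero]; exact zero_mem _
  | add x y _ _ hx hy => rw [map_add]; exact add_mem hx hy
  | smul c q _ hq =>
    rw [GrTilde.a0_smul_def, φ_smul]
    have := Submodule.smul_mem _ c hq
    rwa [Algebra.smul_def, HomogeneousLocalization.algebraMap_apply] at this

theorem φ_symm_mem (n : ℤ) (x : ProjectiveSpectrum 𝒜) (q : Twist.Loc 𝒜 x)
    (hq : q ∈ Twist.twistAt 𝒜 n x) : (φ 𝒜 x).symm q ∈ GrTilde.tildeAt 𝒜 𝒜 n x := by
  induction hq using Submodule.span_induction with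
  | mem q hq =>
    obtain ⟨i, j, m, s, hs, hij, rfl⟩ := hq
    rw [φ_symm_mk]
    exact Submodule.subset_span ⟨i, j, m, s, hs, hij, rfl⟩
  | zero => rw [map_zero]; exact zero_mem _
  | add x y _ _ hx hy => rw [map_add]; exact add_mem hx hy
  | smul c q _ hq =>
    rw [Algebra.smul_def, HomogeneousLocalization.algebraMap_apply, φ_symm_mul]
    have := Submodule.smul_mem _ c hq
    rwa [GrTilde.a0_smul_def] at this

/-- sections of `A(n)~` to sections of `O(n)`. -/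
noncomputable def toTwist (n : ℤ) (U : (Opens (ProjectiveSpectrum.top 𝒜))ᵒᵖ)
    (s : GrTilde.sect 𝒜 𝒜 n U) : Twist.sectN (𝒜 := 𝒜) n U :=
  ⟨fun x => ⟨φ 𝒜 x.1 (s.1 x).1, φ_mem 𝒜 n x.1 _ (s.1 x).2⟩, fun x => by
    obtain ⟨V, hxV, i, a, b, m, t, nin, hor, w⟩ := s.2 x
    refine ⟨V, hxV, i, a, b, m, t, nin, hor, fun y => ?_⟩
    change φ 𝒜 _ (s.1 (i y)).1 = _
    rw [w y, φ_mk]⟩

/-- sections of `O(n)` to sections of `A(n)~`. -/
noncomputable def ofTwist (n : ℤ) (U : (Opens (ProjectiveSpectrum.top 𝒜))ᵒᵖ)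
    (s : Twist.sectN (𝒜 := 𝒜) n U) : GrTilde.sect 𝒜 𝒜 n U :=
  ⟨fun x => ⟨(φ 𝒜 x.1).symm (s.1 x).1, φ_symm_mem 𝒜 n x.1 _ (s.1 x).2⟩, fun x => by
    obtain ⟨V, hxV, i, a, b, m, t, nin, hor, w⟩ := s.2 x
    refine ⟨V, hxV, i, a, b, m, t, nin, hor, fun y => ?_⟩
    change (φ 𝒜 _).symm (s.1 (i y)).1 = _
    rw [w y, φ_symm_mk]⟩

theorem ofTwist_toTwist (n : ℤ) (U : (Opens (ProjectiveSpectrum.top 𝒜))ᵒᵖ)
    (s : GrTilde.sect 𝒜 𝒜 n U) : ofTwist 𝒜 n U (toTwist 𝒜 n U s) = s := by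
  apply Subtype.ext
  funext x
  apply Subtype.ext
  exact (φ 𝒜 x.1).symm_apply_apply _

theorem toTwist_ofTwist (n : ℤ) (U : (Opens (ProjectiveSpectrum.top 𝒜))ᵒᵖ)
    (s : Twist.sectN (𝒜 := 𝒜) n U) : toTwist 𝒜 n U (ofTwist 𝒜 n U s) = s := by
  apply Subtype.ext
  funext x
  apply Subtype.ext
  exact (φ 𝒜 x.1).apply_symm_apply _

theorem toTwist_add (n : ℤ) (U : (Opens (ProjectiveSpectrum.top 𝒜))ᵒᵖ)
    (s t : GrTilde.sect 𝒜 𝒜 n U) : toTwist 𝒜 n U (s + t) = toTwist 𝒜 n U s + toTwist 𝒜 n U t := by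
  apply Subtype.ext
  funext x
  apply Subtype.ext
  exact (φ 𝒜 x.1).map_add _ _

theorem toTwist_smul (n : ℤ) (U : (Opens (ProjectiveSpectrum.top 𝒜))ᵒᵖ) (c : Twist.O (𝒜 := 𝒜) U)
    (s : GrTilde.sect 𝒜 𝒜 n U) : toTwist 𝒜 n U (c • s) = c • toTwist 𝒜 n U s := by
  apply Subtype.ext
  funext x
  apply Subtype.ext
  change φ 𝒜 x.1 ((c.1 x • s.1 x : GrTilde.tildeAt 𝒜 𝒜 n x.1) : GrTilde.LocMod 𝒜 (M := A) x.1) =
    ((c.1 x • (toTwist 𝒜 n U s).1 x : Twist.twistAt 𝒜 n x.1) : Twist.Loc 𝒜 x.1)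
  rw [GrTilde.coe_smul_val, Twist.coe_smul_val, φ_smul]
  rfl

theorem ofTwist_add (n : ℤ) (U : (Opens (ProjectiveSpectrum.top 𝒜))ᵒᵖ)
    (s t : Twist.sectN (𝒜 := 𝒜) n U) : ofTwist 𝒜 n U (s + t) = ofTwist 𝒜 n U s + ofTwist 𝒜 n U t := by
  apply Subtype.ext
  funext x
  apply Subtype.ext
  exact (φ 𝒜 x.1).symm.map_add _ _

theorem ofTwist_smul (n : ℤ) (U : (Opens (ProjectiveSpectrum.top 𝒜))ᵒᵖ) (c : Twist.O (𝒜 := 𝒜) U)
    (s : Twist.sectN (𝒜 := 𝒜) n U) : ofTwist 𝒜 n U (c • s) = c • ofTwist 𝒜 n U s := by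
  have := toTwist_smul 𝒜 n U c (ofTwist 𝒜 n U s)
  rw [toTwist_ofTwist] at this
  rw [← this, ofTwist_toTwist]

/-- the morphism `A(n)~ ⟶ O(n)`. -/
noncomputable def homToTwist (n : ℤ) : GrTilde.tilde 𝒜 𝒜 n ⟶ Twist.twist 𝒜 n :=
  (⟨PresheafOfModules.homMk (M₁ := GrTilde.tildePMod 𝒜 𝒜 n) (M₂ := Twist.twistPMod 𝒜 n)
    { app := fun U => AddCommGrpCat.ofHom
        { toFun := toTwist 𝒜 n U
          map_zero' := by
            have := toTwist_add 𝒜 n U 0 0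
            rw [add_zero] at this
            exact left_eq_add.mp this
          map_add' := toTwist_add 𝒜 n U }
      naturality := fun U V i => by ext s; rfl }
    (fun U c s => toTwist_smul 𝒜 n U c s)⟩ : SheafOfModules.Hom _ _)

/-- the morphism `O(n) ⟶ A(n)~`. -/
noncomputable def homOfTwist (n : ℤ) : Twist.twist 𝒜 n ⟶ GrTilde.tilde 𝒜 𝒜 n :=
  (⟨PresheafOfModules.homMk (M₁ := Twist.twistPMod 𝒜 n) (M₂ := GrTilde.tildePMod 𝒜 𝒜 n)
    { app := fun U => AddCommGrpCat.ofHom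
        { toFun := ofTwist 𝒜 n U
          map_zero' := by
            have := ofTwist_add 𝒜 n U 0 0
            rw [add_zero] at this
            exact left_eq_add.mp this
          map_add' := ofTwist_add 𝒜 n U }
      naturality := fun U V i => by ext s; rfl }
    (fun U c s => ofTwist_smul 𝒜 n U c s)⟩ : SheafOfModules.Hom _ _)

/-- `A(n)~ ≅ O(n)`. -/
noncomputable def tildeIsoTwist (n : ℤ) : GrTilde.tilde 𝒜 𝒜 n ≅ Twist.twist 𝒜 n where
  hom := homToTwist 𝒜 n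
  inv := homOfTwist 𝒜 n
  hom_inv_id := by
    apply SheafOfModules.hom_ext
    apply PresheafOfModules.hom_ext
    intro U
    apply ModuleCat.hom_ext
    apply LinearMap.ext
    intro s
    exact ofTwist_toTwist 𝒜 n U s
  inv_hom_id := by
    apply SheafOfModules.hom_ext
    apply PresheafOfModules.hom_ext
    intro U
    apply ModuleCat.hom_ext
    apply LinearMap.ext
    intro s
    exact toTwist_ofTwist 𝒜 n U s

theorem twist_isQuasicoherent (n : ℤ) : (Twist.twist 𝒜 n).IsQuasicoherent :=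
  (SheafOfModules.isQuasicoherent (Proj 𝒜).ringCatSheaf).prop_of_iso (tildeIsoTwist 𝒜 n)
    (QcohProj.tilde_isQuasicoherent 𝒜 𝒜 n)

end Groth.Agent.Helper6.TwistTilde
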