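import Groth.Agent.Lib.Helper6.Uni1
import Groth.Prelude.Def_SGA3t2b
import Mathlib

/-!
# Unipotent / coconnected parts (helper6), part 2: diagonalizable Hopf algebras, the kernel of the
iterated reduced coproducts on groups of multiplicative type, no homomorphisms between unipotent
groups and groups of multiplicative type.
-/

set_option autoImplicit false

namespace Groth.Agent.Helper6.Uni

open TensorProduct Groth.Agent.Helper6.CoConn

universe u u' v w

section Diag

variable {K : Type u} [Field K] {D : Type v} [CommRing D] [HopfAlgebra K D]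

theorem liftGroupLike_apply (x : MonoidAlgebra K (GroupLike K D)) :
    MonoidAlgebra.liftGroupLikeBialgHom (R := K) (A := D) x =
      Finsupp.linearCombination K (GroupLike.val (R := K) (A := D)) x.coeff := by
  rw [MonoidAlgebra.liftGroupLikeBialgHom_apply, MonoidAlgebra.lift_apply,
    Finsupp.linearCombination_apply]
  rfl

theorem liftGroupLike_bijective (h : HopfRep.IsDiagonalizable K D) :
    Function.Bijective (MonoidAlgebra.liftGroupLikeBialgHom (R := K) (A := D)) := by
  constructor
  · intro x y hxy
    rw [liftGroupLike_apply, liftGroupLike_apply] at hxy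
    have hli : LinearIndependent K (GroupLike.val (R := K) (A := D)) := linearIndep_groupLikeVal
    exact MonoidAlgebra.ext (hli hxy)
  · intro d
    have hd : d ∈ Submodule.span K {a : D | IsGroupLikeElem K a} := by
      have h' : Submodule.span K {a : D | IsGroupLikeElem K a} = ⊤ := h
      rw [h']
      trivial
    have hle : Submodule.span K {a : D | IsGroupLikeElem K a} ≤
        LinearMap.range
          ((MonoidAlgebra.liftGroupLikeBialgHom (R := K) (A := D) :
            MonoidAlgebra K (GroupLike K D) →ₐc[K] D) :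
            MonoidAlgebra K (GroupLike K D) →ₗ[K] D) := by
      rw [Submodule.span_le]
      intro g hg
      refine ⟨MonoidAlgebra.single ⟨g, hg⟩ 1, ?_⟩
      show MonoidAlgebra.liftGroupLikeBialgHom (R := K) (A := D) _ = g
      rw [MonoidAlgebra.liftGroupLikeBialgHom_apply, MonoidAlgebra.lift_single, one_smul]
      rfl
    obtain ⟨x, hx⟩ := hle hd
    exact ⟨x, hx⟩

/-- a Hopf algebra spanned by its group-like elements is a group algebra -/
noncomputable def diagEquiv (h : HopfRep.IsDiagonalizable K D) :
    D ≃ₐc[K] MonoidAlgebra K (GroupLike K D) :=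
  (BialgEquiv.ofBijective (MonoidAlgebra.liftGroupLikeBialgHom (R := K) (A := D))
    (liftGroupLike_bijective h)).symm

end Diag

section KerD

variable (k : Type u) [Field k] (K : Type u') [Field K] [Algebra k K]
variable (A : Type v) [CommRing A] [HopfAlgebra k A]

theorem one_tmul_injective (M : Type w) [AddCommGroup M] [Module k M] :
    Function.Injective (fun a : M => ((1 : K) ⊗ₜ[k] a : K ⊗[k] M)) :=
  Module.Flat.tensorProduct_mk_injective k M K

variable {k K A}

/-- on a group which becomes diagonalizable over a field extension, the iterated reduced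
coproducts only kill the constants -/
theorem eq_algebraMap_of_D_eq_zero_of_diag
    (hM : HopfRep.IsDiagonalizable K (K ⊗[k] A)) {n : ℕ} {a : A} (h : D k A n a = 0) :
    a = algebraMap k A (Coalgebra.counit (R := k) a) := by
  have h1 : D K (K ⊗[k] A) n ((1 : K) ⊗ₜ[k] a) = 0 := D_baseChange_eq_zero k K A h
  let e := diagEquiv hM
  have h2 : D K (MonoidAlgebra K (GroupLike K (K ⊗[k] A))) n (e ((1 : K) ⊗ₜ[k] a)) = 0 :=
    D_eq_zero_map (e : (K ⊗[k] A) →ₐc[K] MonoidAlgebra K (GroupLike K (K ⊗[k] A))) h1
  have h3 := eq_algebraMap_of_D_eq_zero h2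
  set c : K := (e ((1 : K) ⊗ₜ[k] a)).coeff 1 with hc
  have h4 : ((1 : K) ⊗ₜ[k] a : K ⊗[k] A) = c ⊗ₜ[k] (1 : A) := by
    have h5 : e ((1 : K) ⊗ₜ[k] a) = e (algebraMap K (K ⊗[k] A) c) := by
      rw [h3]
      exact (AlgHomClass.commutes e c).symm
    have h6 := e.injective h5
    rw [h6, Algebra.TensorProduct.algebraMap_apply]
    rfl
  have h7 : c = algebraMap k K (Coalgebra.counit (R := k) a) := by
    have h8 := congrArg (Coalgebra.counit (R := K) (A := K ⊗[k] A)) h4
    simp only [TensorProduct.counit_tmul, Bialgebra.counit_one, one_smul,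
      CommSemiring.counit_apply] at h8
    rw [Algebra.smul_def, mul_one] at h8
    exact h8.symm
  apply one_tmul_injective k K A
  show ((1 : K) ⊗ₜ[k] a : K ⊗[k] A) = (1 : K) ⊗ₜ[k] (algebraMap k A (Coalgebra.counit (R := k) a))
  rw [h4, h7, Algebra.algebraMap_eq_smul_one, Algebra.algebraMap_eq_smul_one,
    TensorProduct.smul_tmul]

end KerD

section NoHoms

variable {k : Type u} [Field k] {AM AU : Type u} [CommRing AM] [CommRing AU]
  [HopfAlgebra k AM] [HopfAlgebra k AU]

/-- every homomorphism from a group of multiplicative type to a unipotent group is trivial -/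
theorem trivial_of_coconn_to_diag {K : Type u'} [Field K] [Algebra k K]
    (hM : HopfRep.IsDiagonalizable K (K ⊗[k] AM)) (hC : IsCoconn k AU) (φ : AU →ₐc[k] AM) (a : AU) :
    φ a = algebraMap k AM (Coalgebra.counit (R := k) a) := by
  obtain ⟨n, hn⟩ := hC a
  have h1 : D k AM n (φ a) = 0 := D_eq_zero_map φ hn
  rw [eq_algebraMap_of_D_eq_zero_of_diag hM h1, CoalgHomClass.counit_comp_apply]

/-- every homomorphism from a unipotent group to a group of multiplicative type is trivial -/
theorem trivial_of_diag_to_coconn {K : Type u'} [Field K] [Algebra k K]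
    (hM : HopfRep.IsDiagonalizable K (K ⊗[k] AM)) (hC : IsCoconn k AU) (ψ : AM →ₐc[k] AU) (a : AM) :
    ψ a = algebraMap k AU (Coalgebra.counit (R := k) a) := by
  let ψ' : (K ⊗[k] AM) →ₐc[K] (K ⊗[k] AU) := Bialgebra.TensorProduct.map (BialgHom.id K K) ψ
  have hC' : IsCoconn K (K ⊗[k] AU) := isCoconn_baseChange k K AU hC
  have key : ∀ x : K ⊗[k] AM,
      ψ' x = algebraMap K (K ⊗[k] AU) (Coalgebra.counit (R := K) x) := by
    intro x
    have hx : x ∈ Submodule.span K {a : K ⊗[k] AM | IsGroupLikeElem K a} := by
      have h' : Submodule.span K {a : K ⊗[k] AM | IsGroupLikeElem K a} = ⊤ := hM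
      rw [h']
      trivial
    induction hx using Submodule.span_induction with
    | mem g hg =>
      have hg' : IsGroupLikeElem K (ψ' g) := IsGroupLikeElem.map ψ' hg
      obtain ⟨n, hn⟩ := hC' (ψ' g)
      rw [groupLike_eq_one hg' hn, hg.counit_eq_one, map_one]
    | zero => rw [map_zero, map_zero, map_zero]
    | add x y _ _ hx hy => rw [map_add, map_add, map_add, hx, hy]
    | smul c x _ hx =>
      rw [map_smul, map_smul, hx, smul_eq_mul, map_mul, Algebra.smul_def]
  have h1 := key ((1 : K) ⊗ₜ[k] a)
  have h2 : ψ' ((1 : K) ⊗ₜ[k] a) = (1 : K) ⊗ₜ[k] ψ a := by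
    show Bialgebra.TensorProduct.map (BialgHom.id K K) ψ ((1 : K) ⊗ₜ[k] a) = _
    rw [Bialgebra.TensorProduct.map_tmul]
    rfl
  rw [h2, TensorProduct.counit_tmul, CommSemiring.counit_apply,
    Algebra.TensorProduct.algebraMap_apply] at h1
  apply one_tmul_injective k K AU
  show ((1 : K) ⊗ₜ[k] ψ a : K ⊗[k] AU) =
    (1 : K) ⊗ₜ[k] (algebraMap k AU (Coalgebra.counit (R := k) a))
  rw [h1, Algebra.algebraMap_eq_smul_one (Coalgebra.counit (R := k) a), TensorProduct.tmul_smul,
    TensorProduct.smul_tmul', Algebra.algebraMap_self_apply]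

end NoHoms

end Groth.Agent.Helper6.Uni
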