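import Groth.Agent.Lib.Helper6.Uni2
import Mathlib

/-!
# Unipotent / coconnected parts (helper6), part 3: slices, the operators `L f`, and the
description of `ker (D n)` by the operators `U f = L f - f 1`.
-/

set_option autoImplicit false

namespace Groth.Agent.Helper6.Uni

open TensorProduct Groth.Agent.Helper6.CoConn

universe u v w

section Slice

variable {K : Type u} [Field K] {V : Type v} [AddCommGroup V] [Module K V]
  {A : Type w} [AddCommGroup A] [Module K A]

/-- right slice `(id ⊗ f) : V ⊗ A → V` -/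
noncomputable def slice (f : A →ₗ[K] K) : V ⊗[K] A →ₗ[K] V :=
  (TensorProduct.rid K V).toLinearMap ∘ₗ LinearMap.lTensor V f

@[simp] theorem slice_tmul (f : A →ₗ[K] K) (v : V) (a : A) :
    slice f (v ⊗ₜ[K] a) = f a • v := by
  simp [slice]

theorem eq_zero_of_slices {z : V ⊗[K] A} (h : ∀ f : A →ₗ[K] K, slice f z = 0) : z = 0 := by
  classical
  let 𝒞 := Module.Free.chooseBasis K A
  apply (TensorProduct.equivFinsuppOfBasisRight (M := V) 𝒞).injective
  rw [map_zero]
  apply Finsupp.ext
  intro i
  rw [TensorProduct.equivFinsuppOfBasisRight_apply]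
  exact h (𝒞.coord i)

theorem mem_range_rTensor_iff (U : Submodule K V) (z : V ⊗[K] A) :
    z ∈ LinearMap.range (LinearMap.rTensor A U.subtype) ↔ ∀ f : A →ₗ[K] K, slice f z ∈ U := by
  constructor
  · rintro ⟨y, rfl⟩ f
    induction y using TensorProduct.induction_on with
    | zero => simp
    | tmul u a =>
      rw [LinearMap.rTensor_tmul, slice_tmul]
      exact U.smul_mem _ u.2
    | add x y hx hy =>
      rw [map_add, map_add]
      exact U.add_mem hx hy
  · intro h
    classical
    let 𝒞 := Module.Free.chooseBasis K A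
    let e := TensorProduct.equivFinsuppOfBasisRight (M := V) 𝒞
    have hz : z = (e z).sum fun i m => m ⊗ₜ[K] 𝒞 i := by
      rw [← TensorProduct.equivFinsuppOfBasisRight_symm_apply]
      exact (e.symm_apply_apply z).symm
    rw [hz, Finsupp.sum]
    apply Submodule.sum_mem
    intro i _
    have hi : e z i ∈ U := by
      have h1 : e z i = slice (𝒞.coord i) z :=
        TensorProduct.equivFinsuppOfBasisRight_apply 𝒞 z i
      rw [h1]
      exact h (𝒞.coord i)
    exact ⟨(⟨e z i, hi⟩ : U) ⊗ₜ[K] 𝒞 i, rfl⟩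

end Slice

section L

variable {K : Type u} [Field K] {A : Type v} [Ring A] [Bialgebra K A]

/-- the action of a functional on the regular comodule: `L f a = ∑ a₁ f(a₂)` -/
noncomputable def L (f : A →ₗ[K] K) : A →ₗ[K] A :=
  slice f ∘ₗ (Coalgebra.comul (R := K) (A := A))

theorem L_apply (f : A →ₗ[K] K) (a : A) : L f a = slice f (Coalgebra.comul (R := K) a) := rfl

theorem L_one (f : A →ₗ[K] K) : L f (1 : A) = f 1 • (1 : A) := by
  rw [L_apply, Bialgebra.comul_one, Algebra.TensorProduct.one_def, slice_tmul]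

theorem phi_L (φ f : A →ₗ[K] K) (a : A) :
    φ (L f a) = (WithConv.toConv φ * WithConv.toConv f).ofConv a := by
  rw [L_apply, LinearMap.convMul_def, WithConv.ofConv_toConv, LinearMap.comp_apply,
    LinearMap.comp_apply]
  simp only [WithConv.ofConv_toConv]
  generalize Coalgebra.comul (R := K) a = z
  induction z using TensorProduct.induction_on with
  | zero => simp
  | tmul x y =>
    rw [slice_tmul, map_smul, TensorProduct.map_tmul, LinearMap.mul'_apply, smul_eq_mul,
      mul_comm]
  | add x y hx hy => rw [map_add, map_add, map_add, map_add, hx, hy]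

theorem counit_L (f : A →ₗ[K] K) (a : A) : Coalgebra.counit (R := K) (L f a) = f a := by
  have key : ∀ z : A ⊗[K] A, Coalgebra.counit (R := K) (slice f z) =
      f (TensorProduct.lid K A
        (LinearMap.rTensor A (Coalgebra.counit (R := K) (A := A)) z)) := by
    intro z
    induction z using TensorProduct.induction_on with
    | zero => simp
    | tmul x y =>
      rw [slice_tmul, map_smul, LinearMap.rTensor_tmul, TensorProduct.lid_tmul, map_smul,
        smul_eq_mul, smul_eq_mul, mul_comm]
    | add x y hx hy => simp only [map_add, hx, hy]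
  rw [L_apply, key, Coalgebra.rTensor_counit_comul, TensorProduct.lid_tmul, one_smul]

theorem L_comm [Coalgebra.IsCocomm K A] (f f' : A →ₗ[K] K) (a : A) :
    L f (L f' a) = L f' (L f a) := by
  rw [← sub_eq_zero]
  apply (Module.forall_dual_apply_eq_zero_iff K _).1
  intro φ
  have h1 : φ (L f (L f' a)) =
      ((WithConv.toConv φ * WithConv.toConv f) * WithConv.toConv f').ofConv a := by
    rw [phi_L φ f (L f' a), phi_L _ f' a, WithConv.toConv_ofConv]
  have h2 : φ (L f' (L f a)) =
      ((WithConv.toConv φ * WithConv.toConv f') * WithConv.toConv f).ofConv a := by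
    rw [phi_L φ f' (L f a), phi_L _ f a, WithConv.toConv_ofConv]
  rw [map_sub, h1, h2, mul_right_comm, sub_self]

/-- `U f = L f - f 1` -/
noncomputable def U (f : A →ₗ[K] K) : A →ₗ[K] A := L f - f 1 • LinearMap.id

theorem U_apply (f : A →ₗ[K] K) (a : A) : U f a = L f a - f 1 • a := rfl

theorem U_eq_slice (f : A →ₗ[K] K) (a : A) :
    U f a = slice f (Coalgebra.comul (R := K) a - a ⊗ₜ[K] (1 : A)) := by
  rw [map_sub, slice_tmul, U_apply, L_apply]

variable (K A) in
/-- `G 0 = ⊥`, `G (n+1) = {a | ∀ f, U f a ∈ G n}` -/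
noncomputable def G : ℕ → Submodule K A
  | 0 => ⊥
  | (n + 1) => ⨅ f : A →ₗ[K] K, Submodule.comap (U f) (G n)

theorem mem_G_succ {n : ℕ} {a : A} :
    a ∈ G K A (n + 1) ↔ ∀ f : A →ₗ[K] K, U f a ∈ G K A n := by
  show a ∈ ⨅ f : A →ₗ[K] K, Submodule.comap (U f) (G K A n) ↔ _
  rw [Submodule.mem_iInf]
  rfl

theorem G_mono_succ (n : ℕ) : G K A n ≤ G K A (n + 1) := by
  induction n with
  | zero => exact bot_le
  | succ n ih =>
    intro a ha
    rw [mem_G_succ] at ha ⊢
    exact fun f => ih (ha f)

theorem G_mono {m n : ℕ} (h : m ≤ n) : G K A m ≤ G K A n := by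
  induction n, h using Nat.le_induction with
  | base => exact le_rfl
  | succ n _ ih => exact ih.trans (G_mono_succ n)

theorem L_mem_G (f : A →ₗ[K] K) {n : ℕ} {a : A} (ha : a ∈ G K A n) : L f a ∈ G K A n := by
  cases n with
  | zero =>
    have h0 : a = 0 := (Submodule.mem_bot K).1 ha
    rw [h0, map_zero]
    exact Submodule.zero_mem _
  | succ n =>
    have h1 : L f a = U f a + f 1 • a := by rw [U_apply]; abel
    rw [h1]
    exact Submodule.add_mem _ (G_mono_succ n (mem_G_succ.1 ha f)) (Submodule.smul_mem _ _ ha)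

theorem lTensor_pr_sub (a : A) :
    LinearMap.lTensor A (pr K A) (Coalgebra.comul (R := K) a - a ⊗ₜ[K] (1 : A)) =
      Coalgebra.comul (R := K) a - a ⊗ₜ[K] (1 : A) := by
  have h1 : pr K A = LinearMap.id -
      (Algebra.linearMap K A) ∘ₗ (Coalgebra.counit (R := K) (A := A)) := rfl
  have h2 : LinearMap.lTensor A (Coalgebra.counit (R := K) (A := A))
      (Coalgebra.comul (R := K) a - a ⊗ₜ[K] (1 : A)) = 0 := by
    rw [map_sub, Coalgebra.lTensor_counit_comul, LinearMap.lTensor_tmul, Bialgebra.counit_one,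
      sub_self]
  rw [h1, LinearMap.lTensor_sub, LinearMap.sub_apply, LinearMap.lTensor_id, LinearMap.id_apply,
    LinearMap.lTensor_comp, LinearMap.comp_apply, h2, map_zero, sub_zero]

theorem D_succ_eq_rTensor (n : ℕ) (a : A) :
    D K A (n + 1) a =
      LinearMap.rTensor A (D K A n) (Coalgebra.comul (R := K) a - a ⊗ₜ[K] (1 : A)) := by
  have h1 : TensorProduct.map (D K A n) (pr K A) (a ⊗ₜ[K] (1 : A)) = 0 := by
    rw [TensorProduct.map_tmul, pr_one, TensorProduct.tmul_zero]
  have h2 : TensorProduct.map (D K A n) (pr K A) (Coalgebra.comul (R := K) a) =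
      TensorProduct.map (D K A n) (pr K A)
        (Coalgebra.comul (R := K) a - a ⊗ₜ[K] (1 : A)) := by
    rw [map_sub, h1, sub_zero]
  rw [D_succ_apply, h2, ← LinearMap.rTensor_comp_lTensor, LinearMap.comp_apply, lTensor_pr_sub]

theorem D_succ_eq_zero_iff (n : ℕ) (a : A) :
    D K A (n + 1) a = 0 ↔ Coalgebra.comul (R := K) a - a ⊗ₜ[K] (1 : A) ∈
      LinearMap.range (LinearMap.rTensor A (LinearMap.ker (D K A n)).subtype) := by
  rw [D_succ_eq_rTensor]
  have hex := Module.Flat.rTensor_exact A (LinearMap.exact_subtype_ker_map (D K A n))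
  exact hex _

theorem G_one_eq : G K A 1 = LinearMap.ker (D K A 0) := by
  ext a
  rw [mem_G_succ, LinearMap.mem_ker]
  show (∀ f, U f a ∈ (⊥ : Submodule K A)) ↔ pr K A a = 0
  constructor
  · intro h
    have hz : Coalgebra.comul (R := K) a - a ⊗ₜ[K] (1 : A) = 0 := by
      apply eq_zero_of_slices
      intro f
      rw [← U_eq_slice]
      exact (Submodule.mem_bot K).1 (h f)
    have h1 : Coalgebra.comul (R := K) a = a ⊗ₜ[K] (1 : A) := sub_eq_zero.1 hz
    have h2 := Coalgebra.rTensor_counit_comul (R := K) a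
    rw [h1, LinearMap.rTensor_tmul] at h2
    have h3 := congrArg (TensorProduct.lid K A) h2
    rw [TensorProduct.lid_tmul, TensorProduct.lid_tmul, one_smul] at h3
    rw [pr_apply, Algebra.algebraMap_eq_smul_one, h3, sub_self]
  · intro h f
    rw [Submodule.mem_bot, U_eq_slice]
    have ha : a = Coalgebra.counit (R := K) a • (1 : A) := by
      rw [pr_apply, Algebra.algebraMap_eq_smul_one, sub_eq_zero] at h
      exact h
    have hz : Coalgebra.comul (R := K) a - a ⊗ₜ[K] (1 : A) = 0 := by
      rw [ha, map_smul, Bialgebra.comul_one, Algebra.TensorProduct.one_def,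
        TensorProduct.smul_tmul', sub_self]
    rw [hz, map_zero]

theorem G_succ_eq_ker_D (n : ℕ) : G K A (n + 1) = LinearMap.ker (D K A n) := by
  induction n with
  | zero => exact G_one_eq
  | succ n ih =>
    ext a
    rw [mem_G_succ, LinearMap.mem_ker, D_succ_eq_zero_iff, mem_range_rTensor_iff, ih]
    constructor
    · intro h f
      rw [← U_eq_slice]
      exact h f
    · intro h f
      rw [U_eq_slice]
      exact h f

theorem D_eq_zero_iff_mem_G {n : ℕ} {a : A} : D K A n a = 0 ↔ a ∈ G K A (n + 1) := by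
  rw [G_succ_eq_ker_D, LinearMap.mem_ker]

end L

end Groth.Agent.Helper6.Uni
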