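import Groth.Agent.Lib.Helper6.Uni3
import Groth.Agent.Lib.Helper6.HopfSubInst
import Groth.Agent.Lib.Helper6.HopfIdealSpan
import Groth.Agent.Lib.Helper19.HopfLib
import Mathlib

/-!
# Unipotent / coconnected parts (helper6), part 4: the coconnected part `Bsub` of a commutative
cocommutative Hopf algebra over a field is a Hopf subalgebra, unipotent; the Hopf ideal it generates.
-/

set_option autoImplicit false

namespace Groth.Agent.Helper6.Uni

open TensorProduct Groth.Agent.Helper6.CoConn

universe u v w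

section TensorLemmas

variable {K : Type u} [Field K] {A : Type v} [Ring A] [Algebra K A]

theorem range_rTensor_mono {U U' : Submodule K A} (h : U ≤ U') :
    LinearMap.range (LinearMap.rTensor A U.subtype) ≤
      LinearMap.range (LinearMap.rTensor A U'.subtype) := by
  intro z hz
  rw [mem_range_rTensor_iff] at hz ⊢
  exact fun f => h (hz f)

theorem mul_mem_range_rTensor (U U' W : Submodule K A)
    (h : ∀ u ∈ U, ∀ u' ∈ U', u * u' ∈ W) {t t' : A ⊗[K] A}
    (ht : t ∈ LinearMap.range (LinearMap.rTensor A U.subtype))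
    (ht' : t' ∈ LinearMap.range (LinearMap.rTensor A U'.subtype)) :
    t * t' ∈ LinearMap.range (LinearMap.rTensor A W.subtype) := by
  obtain ⟨y, rfl⟩ := ht
  obtain ⟨y', rfl⟩ := ht'
  induction y using TensorProduct.induction_on with
  | zero =>
    rw [map_zero, zero_mul]
    exact Submodule.zero_mem _
  | tmul u a =>
    induction y' using TensorProduct.induction_on with
    | zero =>
      rw [map_zero, mul_zero]
      exact Submodule.zero_mem _
    | tmul u' a' =>
      rw [LinearMap.rTensor_tmul, LinearMap.rTensor_tmul, Algebra.TensorProduct.tmul_mul_tmul]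
      exact ⟨(⟨(u : A) * (u' : A), h u u.2 u' u'.2⟩ : W) ⊗ₜ[K] (a * a'), rfl⟩
    | add x y hx hy =>
      rw [map_add, mul_add]
      exact Submodule.add_mem _ hx hy
  | add x y hx hy =>
    rw [map_add, add_mul]
    exact Submodule.add_mem _ hx hy

theorem mem_range_map_of_mem_both (U : Submodule K A) {t : A ⊗[K] A}
    (h1 : t ∈ LinearMap.range (LinearMap.rTensor A U.subtype))
    (h2 : t ∈ LinearMap.range (LinearMap.lTensor A U.subtype)) :
    t ∈ LinearMap.range (TensorProduct.map U.subtype U.subtype) := by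
  obtain ⟨p, hp⟩ := LinearMap.exists_leftInverse_of_injective U.subtype
    (LinearMap.ker_eq_bot.2 U.injective_subtype)
  have hq : (U.subtype ∘ₗ p) ∘ₗ U.subtype = U.subtype := by
    rw [LinearMap.comp_assoc, hp, LinearMap.comp_id]
  have e1 : LinearMap.rTensor A (U.subtype ∘ₗ p) t = t := by
    obtain ⟨y, rfl⟩ := h1
    rw [← LinearMap.rTensor_comp_apply, hq]
  have e2 : LinearMap.lTensor A (U.subtype ∘ₗ p) t = t := by
    obtain ⟨y, rfl⟩ := h2
    rw [← LinearMap.lTensor_comp_apply, hq]
  have e3 : TensorProduct.map (U.subtype ∘ₗ p) (U.subtype ∘ₗ p) t = t := by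
    rw [← LinearMap.rTensor_comp_lTensor, LinearMap.comp_apply, e2, e1]
  refine ⟨TensorProduct.map p p t, ?_⟩
  rw [← LinearMap.comp_apply, ← TensorProduct.map_comp, e3]

end TensorLemmas

section Mul

variable {K : Type u} [Field K] {A : Type v} [Ring A] [Bialgebra K A]

theorem eq_smul_one_of_D_zero {a : A} (h : D K A 0 a = 0) :
    a = Coalgebra.counit (R := K) a • (1 : A) := by
  have h' : pr K A a = 0 := h
  rw [pr_apply, Algebra.algebraMap_eq_smul_one, sub_eq_zero] at h'
  exact h'

theorem D_mul_eq_zero : ∀ (s m n : ℕ), m + n = s → ∀ a b : A,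
    D K A m a = 0 → D K A n b = 0 → D K A s (a * b) = 0 := by
  intro s
  induction s using Nat.strong_induction_on with
  | _ s ih =>
    intro m n hmn a b ha hb
    rcases Nat.eq_zero_or_pos m with hm | hm
    · subst hm
      have h1 := eq_smul_one_of_D_zero ha
      have hs : n = s := by omega
      subst hs
      rw [h1, smul_mul_assoc, one_mul, map_smul, hb, smul_zero]
    · rcases Nat.eq_zero_or_pos n with hn | hn
      · subst hn
        have h1 := eq_smul_one_of_D_zero hb
        have hs : m = s := by omega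
        subst hs
        rw [h1, mul_smul_comm, mul_one, map_smul, ha, smul_zero]
      · obtain ⟨m', rfl⟩ : ∃ m', m = m' + 1 := ⟨m - 1, by omega⟩
        obtain ⟨n', rfl⟩ : ∃ n', n = n' + 1 := ⟨n - 1, by omega⟩
        obtain ⟨s', rfl⟩ : ∃ s', s = s' + 1 := ⟨m' + n' + 1, by omega⟩
        have hs' : s' = m' + n' + 1 := by omega
        rw [D_succ_eq_zero_iff]
        have hza := (D_succ_eq_zero_iff m' a).1 ha
        have hzb := (D_succ_eq_zero_iff n' b).1 hb
        have ha1 : a ⊗ₜ[K] (1 : A) ∈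
            LinearMap.range (LinearMap.rTensor A (LinearMap.ker (D K A (m' + 1))).subtype) :=
          ⟨(⟨a, LinearMap.mem_ker.2 ha⟩ : LinearMap.ker (D K A (m' + 1))) ⊗ₜ[K] (1 : A), rfl⟩
        have hb1 : b ⊗ₜ[K] (1 : A) ∈
            LinearMap.range (LinearMap.rTensor A (LinearMap.ker (D K A (n' + 1))).subtype) :=
          ⟨(⟨b, LinearMap.mem_ker.2 hb⟩ : LinearMap.ker (D K A (n' + 1))) ⊗ₜ[K] (1 : A), rfl⟩
        have hab : (a * b) ⊗ₜ[K] (1 : A) = (a ⊗ₜ[K] (1 : A)) * (b ⊗ₜ[K] (1 : A)) := by
          rw [Algebra.TensorProduct.tmul_mul_tmul, mul_one]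
        have key : Coalgebra.comul (R := K) (a * b) - (a * b) ⊗ₜ[K] (1 : A) =
            (a ⊗ₜ[K] (1 : A)) * (Coalgebra.comul (R := K) b - b ⊗ₜ[K] (1 : A)) +
            (Coalgebra.comul (R := K) a - a ⊗ₜ[K] (1 : A)) * (b ⊗ₜ[K] (1 : A)) +
            (Coalgebra.comul (R := K) a - a ⊗ₜ[K] (1 : A)) *
              (Coalgebra.comul (R := K) b - b ⊗ₜ[K] (1 : A)) := by
          rw [Bialgebra.comul_mul, hab]
          noncomm_ring
        rw [key]
        refine Submodule.add_mem _ (Submodule.add_mem _ ?_ ?_) ?_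
        · refine mul_mem_range_rTensor _ _ _ ?_ ha1 hzb
          intro u hu u' hu'
          exact LinearMap.mem_ker.2 (ih s' (by omega) (m' + 1) n' (by omega) u u'
            (LinearMap.mem_ker.1 hu) (LinearMap.mem_ker.1 hu'))
        · refine mul_mem_range_rTensor _ _ _ ?_ hza hb1
          intro u hu u' hu'
          exact LinearMap.mem_ker.2 (ih s' (by omega) m' (n' + 1) (by omega) u u'
            (LinearMap.mem_ker.1 hu) (LinearMap.mem_ker.1 hu'))
        · refine mul_mem_range_rTensor _ _ _ ?_ hza hzb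
          intro u hu u' hu'
          exact LinearMap.mem_ker.2 (D_mono K A (by omega : m' + n' ≤ s')
            (ih (m' + n') (by omega) m' n' rfl u u'
              (LinearMap.mem_ker.1 hu) (LinearMap.mem_ker.1 hu')))

variable (K A) in
/-- the coconnected part: elements killed by some iterated reduced coproduct -/
noncomputable def Bsub : Subalgebra K A where
  carrier := {a | ∃ n, D K A n a = 0}
  mul_mem' := by
    rintro a b ⟨m, hm⟩ ⟨n, hn⟩
    exact ⟨m + n, D_mul_eq_zero (m + n) m n rfl a b hm hn⟩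
  one_mem' := ⟨0, pr_one K A⟩
  add_mem' := by
    rintro a b ⟨m, hm⟩ ⟨n, hn⟩
    exact ⟨max m n, by
      rw [map_add, D_mono K A (le_max_left m n) hm, D_mono K A (le_max_right m n) hn, add_zero]⟩
  zero_mem' := ⟨0, map_zero _⟩
  algebraMap_mem' := by
    intro r
    refine ⟨0, ?_⟩
    show pr K A (algebraMap K A r) = 0
    rw [pr_apply, Bialgebra.counit_algebraMap, sub_self]

theorem mem_Bsub {a : A} : a ∈ Bsub K A ↔ ∃ n, D K A n a = 0 := Iff.rfl

theorem ker_D_le_Bsub (n : ℕ) : LinearMap.ker (D K A n) ≤ Subalgebra.toSubmodule (Bsub K A) :=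
  fun _ ha => ⟨n, LinearMap.mem_ker.1 ha⟩

theorem comul_mem_range_rTensor_Bsub {b : A} (hb : b ∈ Bsub K A) :
    Coalgebra.comul (R := K) b ∈
      LinearMap.range (LinearMap.rTensor A (Subalgebra.toSubmodule (Bsub K A)).subtype) := by
  obtain ⟨n, hn⟩ := hb
  have hsub : Coalgebra.comul (R := K) b - b ⊗ₜ[K] (1 : A) ∈
      LinearMap.range (LinearMap.rTensor A (Subalgebra.toSubmodule (Bsub K A)).subtype) := by
    have h1 := (D_succ_eq_zero_iff n b).1 (D_mono_succ K A hn)
    exact range_rTensor_mono (ker_D_le_Bsub n) h1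
  have hb1 : b ⊗ₜ[K] (1 : A) ∈
      LinearMap.range (LinearMap.rTensor A (Subalgebra.toSubmodule (Bsub K A)).subtype) :=
    ⟨(⟨b, ⟨n, hn⟩⟩ : Subalgebra.toSubmodule (Bsub K A)) ⊗ₜ[K] (1 : A), rfl⟩
  have := Submodule.add_mem _ hsub hb1
  rwa [sub_add_cancel] at this

end Mul

end Groth.Agent.Helper6.Uni
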