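import Groth.Agent.Lib.Helper6.Uni4
import Mathlib

/-!
# Unipotent / coconnected parts (helper6), part 4b: `Bsub` is a Hopf subalgebra (commutative
cocommutative case), it is unipotent, and it generates a Hopf ideal.
-/

set_option autoImplicit false

namespace Groth.Agent.Helper6.Uni

open TensorProduct Groth.Agent.Helper6.CoConn
open Groth.Agent.Lib.Helper6.HopfSub Groth.Agent.Lib.Helper6.HopfSubInst

universe u v w

section HopfSubB

variable {K : Type u} [Field K] {A : Type v} [CommRing A] [HopfAlgebra K A]
  [Coalgebra.IsCocomm K A]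

theorem comul_antipode_cocomm (a : A) :
    Coalgebra.comul (R := K) (HopfAlgebraStruct.antipode K a) =
      TensorProduct.map (HopfAlgebraStruct.antipode K (A := A))
        (HopfAlgebraStruct.antipode K (A := A)) (Coalgebra.comul (R := K) a) := by
  rw [Groth.Agent.Helper19.HopfLib.comul_antipode K A a, Coalgebra.comm_comul]

theorem antipode_mem_Bsub {b : A} (hb : b ∈ Bsub K A) :
    HopfAlgebraStruct.antipode K b ∈ Bsub K A := by
  obtain ⟨n, hn⟩ := hb
  refine ⟨n, ?_⟩
  rw [D_map (HopfAlgebraStruct.antipode K (A := A)) HopfAlgebra.antipode_one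
    (fun a => HopfAlgebra.counit_antipode a) comul_antipode_cocomm n b, hn, map_zero]

theorem range_val_eq : LinearMap.range (Bsub K A).val.toLinearMap =
    Subalgebra.toSubmodule (Bsub K A) := by
  ext x
  constructor
  · rintro ⟨y, rfl⟩
    exact y.2
  · intro hx
    exact ⟨⟨x, hx⟩, rfl⟩

theorem comul_mem_range_map_Bsub {b : A} (hb : b ∈ Bsub K A) :
    Coalgebra.comul (R := K) b ∈
      LinearMap.range (TensorProduct.map (Bsub K A).val.toLinearMap
        (Bsub K A).val.toLinearMap) := by
  have h1 := comul_mem_range_rTensor_Bsub hb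
  have h2 : Coalgebra.comul (R := K) b ∈
      LinearMap.range (LinearMap.lTensor A (Subalgebra.toSubmodule (Bsub K A)).subtype) := by
    obtain ⟨y, hy⟩ := h1
    refine ⟨TensorProduct.comm K _ _ y, ?_⟩
    have key : ∀ y : (Subalgebra.toSubmodule (Bsub K A)) ⊗[K] A,
        LinearMap.lTensor A (Subalgebra.toSubmodule (Bsub K A)).subtype
          (TensorProduct.comm K _ _ y) =
        TensorProduct.comm K A A
          (LinearMap.rTensor A (Subalgebra.toSubmodule (Bsub K A)).subtype y) := by
      intro y
      induction y using TensorProduct.induction_on with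
      | zero => simp
      | tmul u a => rfl
      | add x y hx hy => simp only [map_add, hx, hy]
    rw [key, hy, Coalgebra.comm_comul]
  have h3 := mem_range_map_of_mem_both _ h1 h2
  rw [TensorProduct.range_map, Submodule.range_subtype] at h3
  rw [TensorProduct.range_map, range_val_eq]
  exact h3

theorem isHopfSub_Bsub : IsHopfSub K A (Bsub K A) :=
  ⟨fun _ hb => comul_mem_range_map_Bsub hb, fun _ hb => antipode_mem_Bsub hb⟩

variable (K A) in
/-- the Hopf algebra structure on the coconnected part -/
@[reducible] noncomputable def BsubHopf : HopfAlgebra K (Bsub K A) :=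
  hopfAlgebra (isHopfSub_Bsub (K := K) (A := A))

attribute [local instance] BsubHopf

variable (K A) in
/-- the inclusion of the coconnected part, as a bialgebra map -/
noncomputable def inclB : (Bsub K A) →ₐc[K] A :=
  BialgHom.ofAlgHom (Bsub K A).val (by ext b; rfl)
    (by
      ext b
      exact ii_comulB (isHopfSub_Bsub (K := K) (A := A)) b)

theorem inclB_apply (b : Bsub K A) : inclB K A b = (b : A) := rfl

theorem inclB_injective : Function.Injective (inclB K A) :=
  fun _ _ h => Subtype.ext h

theorem isCoconn_Bsub : IsCoconn K (Bsub K A) := by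
  intro b
  obtain ⟨n, hn⟩ := b.2
  exact ⟨n, D_eq_zero_of_map_injective (inclB K A) inclB_injective hn⟩

theorem isUnipotent_Bsub : HopfRep.IsUnipotent K (Bsub K A) :=
  isUnipotent_of_isCoconn K (Bsub K A) isCoconn_Bsub

end HopfSubB

end Groth.Agent.Helper6.Uni
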