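import Groth.Agent.Lib.Helper6.Uni4b
import Mathlib

/-!
# Unipotent / coconnected parts (helper6), part 4c: the Hopf ideal generated by the augmentation
ideal of the coconnected part.
-/

set_option autoImplicit false

namespace Groth.Agent.Helper6.Uni

open TensorProduct Groth.Agent.Helper6.CoConn
open Groth.Agent.Lib.Helper6.HopfSub Groth.Agent.Lib.Helper6.HopfSubInst

universe u v w

section Jsec

variable {K : Type u} [Field K] {A : Type v} [CommRing A] [HopfAlgebra K A]
  [Coalgebra.IsCocomm K A]

attribute [local instance] BsubHopf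

variable (K A) in
/-- the augmentation ideal of the coconnected part -/
def Jset : Set A := {a | a ∈ Bsub K A ∧ Coalgebra.counit (R := K) a = 0}

variable (K A) in
/-- the ideal generated by the augmentation ideal of the coconnected part -/
noncomputable def Jideal : Ideal A := Ideal.span (Jset K A)

theorem sub_counit_mem_Jideal {b : A} (hb : b ∈ Bsub K A) :
    b - algebraMap K A (Coalgebra.counit (R := K) b) ∈ Jideal K A := by
  apply Ideal.subset_span
  refine ⟨Subalgebra.sub_mem _ hb (Subalgebra.algebraMap_mem _ _), ?_⟩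
  rw [map_sub, Bialgebra.counit_algebraMap, sub_self]

theorem counit_counit_comul (a : A) :
    LinearMap.mul' K K (TensorProduct.map (Coalgebra.counit (R := K) (A := A))
      (Coalgebra.counit (R := K) (A := A)) (Coalgebra.comul (R := K) a)) =
      Coalgebra.counit (R := K) a := by
  have key : ∀ z : A ⊗[K] A, LinearMap.mul' K K (TensorProduct.map
      (Coalgebra.counit (R := K) (A := A)) (Coalgebra.counit (R := K) (A := A)) z) =
      Coalgebra.counit (R := K) (TensorProduct.lid K A
        (LinearMap.rTensor A (Coalgebra.counit (R := K) (A := A)) z)) := by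
    intro z
    induction z using TensorProduct.induction_on with
    | zero => simp
    | tmul x y =>
      rw [TensorProduct.map_tmul, LinearMap.mul'_apply, LinearMap.rTensor_tmul,
        TensorProduct.lid_tmul, map_smul, smul_eq_mul]
    | add x y hx hy => simp only [map_add, hx, hy]
  rw [key, Coalgebra.rTensor_counit_comul, TensorProduct.lid_tmul, one_smul]

theorem map_mk_mk_of_mem_range (I : Ideal A)
    (hI : ∀ b ∈ Bsub K A, b - algebraMap K A (Coalgebra.counit (R := K) b) ∈ I)
    {t : A ⊗[K] A}
    (ht : t ∈ LinearMap.range (TensorProduct.map (Bsub K A).val.toLinearMap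
      (Bsub K A).val.toLinearMap)) :
    Algebra.TensorProduct.map (Ideal.Quotient.mkₐ K I) (Ideal.Quotient.mkₐ K I) t =
      (LinearMap.mul' K K (TensorProduct.map (Coalgebra.counit (R := K) (A := A))
        (Coalgebra.counit (R := K) (A := A)) t)) • (1 : (A ⧸ I) ⊗[K] (A ⧸ I)) := by
  have hmk : ∀ b : Bsub K A, Ideal.Quotient.mkₐ K I (b : A) =
      Coalgebra.counit (R := K) (b : A) • (1 : A ⧸ I) := by
    intro b
    have h1 := hI b b.2
    have h2 : Ideal.Quotient.mk I ((b : A) - algebraMap K A (Coalgebra.counit (R := K) (b : A)))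
        = 0 := Ideal.Quotient.eq_zero_iff_mem.2 h1
    rw [map_sub, sub_eq_zero] at h2
    show Ideal.Quotient.mk I (b : A) = _
    rw [h2, Algebra.algebraMap_eq_smul_one]
    rfl
  obtain ⟨y, rfl⟩ := ht
  induction y using TensorProduct.induction_on with
  | zero => simp
  | tmul b b' =>
    rw [TensorProduct.map_tmul, Algebra.TensorProduct.map_tmul, TensorProduct.map_tmul,
      LinearMap.mul'_apply]
    show (Ideal.Quotient.mkₐ K I (b : A)) ⊗ₜ[K] (Ideal.Quotient.mkₐ K I (b' : A)) = _
    rw [hmk, hmk, TensorProduct.smul_tmul_smul, Algebra.TensorProduct.one_def]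
    rfl
  | add x y hx hy => simp only [map_add, add_smul, hx, hy]

theorem isHopfIdeal_Jideal : (Jideal K A).IsHopfIdeal K := by
  apply Groth.Agent.Lib.Helper6.HopfIdealSpan.isHopfIdeal_span (Jset K A)
  · intro s hs
    exact hs.2
  · intro s hs
    rw [Groth.Agent.Lib.Helper6.HopfIdealSpan.Psi_apply]
    have h1 := map_mk_mk_of_mem_range (Jideal K A) (fun b hb => sub_counit_mem_Jideal hb)
      (comul_mem_range_map_Bsub hs.1)
    have h2 : Algebra.TensorProduct.map (Ideal.Quotient.mkₐ K (Ideal.span (Jset K A)))
        (Ideal.Quotient.mkₐ K (Ideal.span (Jset K A))) (CoalgebraStruct.comul (R := K) s) =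
        (LinearMap.mul' K K (TensorProduct.map (Coalgebra.counit (R := K) (A := A))
        (Coalgebra.counit (R := K) (A := A)) (CoalgebraStruct.comul (R := K) s))) •
          (1 : (A ⧸ Ideal.span (Jset K A)) ⊗[K] (A ⧸ Ideal.span (Jset K A))) := h1
    rw [h2, counit_counit_comul, hs.2, zero_smul]
  · intro s hs
    apply Ideal.subset_span
    refine ⟨antipode_mem_Bsub hs.1, ?_⟩
    show Coalgebra.counit (R := K) (HopfAlgebraStruct.antipode K s) = 0
    rw [HopfAlgebra.counit_antipode, hs.2]

theorem Jideal_eq_map : Jideal K A =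
    Ideal.map (inclB K A : Bsub K A →+* A)
      (RingHom.ker (Bialgebra.counitAlgHom K (Bsub K A))) := by
  show Ideal.span (Jset K A) = Ideal.span (_ '' _)
  congr 1
  ext a
  constructor
  · rintro ⟨ha, he⟩
    exact ⟨⟨a, ha⟩, he, rfl⟩
  · rintro ⟨b, hb, rfl⟩
    exact ⟨b.2, hb⟩

theorem Jideal_le_of_forall {I : Ideal A}
    (h : ∀ b ∈ Bsub K A, b - algebraMap K A (Coalgebra.counit (R := K) b) ∈ I) :
    Jideal K A ≤ I := by
  rw [Jideal, Ideal.span_le]
  intro a ha
  have h1 := h a ha.1
  rw [ha.2, map_zero, sub_zero] at h1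
  exact h1

end Jsec

end Groth.Agent.Helper6.Uni
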