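import Groth.Agent.Lib.Helper6.Uni4c
import Mathlib

/-!
# Unipotent / coconnected parts (helper6), part 5: over an algebraically closed field, a
commutative cocommutative Hopf algebra is spanned by the products `g * b` of a group-like element
`g` and an element `b` of the coconnected part.
-/

set_option autoImplicit false

namespace Groth.Agent.Helper6.Uni

open TensorProduct Groth.Agent.Helper6.CoConn

universe u v w

section LinAlg

variable {K : Type u} [Field K] {V : Type v} [AddCommGroup V] [Module K V]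
variable {ι : Type w} (T : ι → Module.End K V)

/-- a subspace stable under the family `T`, on which every `T i` is locally nilpotent -/
def Good (W : Submodule K V) : Prop :=
  (∀ i, ∀ w ∈ W, T i w ∈ W) ∧ (∀ i, ∀ w ∈ W, ∃ k : ℕ, ((T i) ^ k) w = 0)

variable {T}

theorem Good.map_le {W : Submodule K V} (hW : Good T W) (i : ι) : W.map (T i) ≤ W := by
  rintro _ ⟨w, hw, rfl⟩
  exact hW.1 i w hw

theorem Good.pow_mem {W : Submodule K V} (hW : Good T W) (i : ι) {w : V} (hw : w ∈ W) (j : ℕ) :
    ((T i) ^ j) w ∈ W := by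
  induction j with
  | zero =>
    rw [pow_zero]
    exact hw
  | succ j ih =>
    rw [pow_succ']
    exact hW.1 i _ ih

theorem Good.map (hc : ∀ i j, Commute (T i) (T j)) {W : Submodule K V} (hW : Good T W) (i : ι) :
    Good T (W.map (T i)) := by
  constructor
  · rintro j _ ⟨w, hw, rfl⟩
    exact ⟨T j w, hW.1 j w hw, congrArg (fun f : Module.End K V => f w) (hc i j).eq⟩
  · rintro j _ ⟨w, hw, rfl⟩
    obtain ⟨k, hk⟩ := hW.2 j w hw
    refine ⟨k, ?_⟩
    have hcomm : Commute (T j ^ k) (T i) := (hc j i).pow_left k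
    have h1 : (T j ^ k) (T i w) = T i ((T j ^ k) w) :=
      congrArg (fun f : Module.End K V => f w) hcomm.eq
    rw [h1, hk, map_zero]

theorem Good.finrank_map_lt [FiniteDimensional K V] {W : Submodule K V} (hW : Good T W)
    (hne : W ≠ ⊥) (i : ι) :
    Module.finrank K (W.map (T i)) < Module.finrank K W := by
  classical
  obtain ⟨w, hw, hw0⟩ := Submodule.exists_mem_ne_zero_of_ne_bot hne
  have hex : ∃ k : ℕ, ((T i) ^ k) w = 0 := hW.2 i w hw
  have hk₀ : ((T i) ^ (Nat.find hex)) w = 0 := Nat.find_spec hex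
  have hpos : Nat.find hex ≠ 0 := by
    intro h0
    rw [h0, pow_zero] at hk₀
    exact hw0 hk₀
  obtain ⟨j, hj⟩ : ∃ j, Nat.find hex = j + 1 := ⟨Nat.find hex - 1, by omega⟩
  have hu0 : ((T i) ^ j) w ≠ 0 := Nat.find_min hex (by omega : j < Nat.find hex)
  have hu1 : T i (((T i) ^ j) w) = 0 := by
    rw [hj, pow_succ'] at hk₀
    exact hk₀
  have huW : ((T i) ^ j) w ∈ W := hW.pow_mem i hw j
  let g : W →ₗ[K] V := (T i).domRestrict W
  have hr : LinearMap.range g = W.map (T i) := LinearMap.range_domRestrict W (T i)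
  have hker : 0 < Module.finrank K (LinearMap.ker g) := by
    rw [Module.finrank_pos_iff_exists_ne_zero]
    refine ⟨⟨⟨((T i) ^ j) w, huW⟩, LinearMap.mem_ker.2 (by exact hu1)⟩, ?_⟩
    intro h
    apply hu0
    have := congrArg (fun x : LinearMap.ker g => ((x : W) : V)) h
    exact this
  have h2 := LinearMap.finrank_range_add_finrank_ker g
  rw [hr] at h2
  omega

theorem Good.exists_common_kernel [FiniteDimensional K V] (hc : ∀ i j, Commute (T i) (T j)) :
    ∀ (n : ℕ) (W : Submodule K V), Module.finrank K W = n → Good T W → W ≠ ⊥ →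
      ∃ w ∈ W, w ≠ 0 ∧ ∀ i, T i w = 0 := by
  intro n
  induction n using Nat.strong_induction_on with
  | _ n ih =>
    intro W hn hW hne
    by_cases hall : ∃ i, ∃ w ∈ W, T i w ≠ 0
    · obtain ⟨i, w₁, hw₁, hne₁⟩ := hall
      have hne' : W.map (T i) ≠ ⊥ := by
        intro hbot
        apply hne₁
        have h1 : T i w₁ ∈ W.map (T i) := Submodule.mem_map_of_mem hw₁
        rw [hbot] at h1
        exact (Submodule.mem_bot K).1 h1
      obtain ⟨w, hw, hw0, hw1⟩ := ih _ (by rw [← hn]; exact hW.finrank_map_lt hne i)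
        (W.map (T i)) rfl (hW.map hc i) hne'
      exact ⟨w, hW.map_le i hw, hw0, hw1⟩
    · obtain ⟨w, hw, hw0⟩ := Submodule.exists_mem_ne_zero_of_ne_bot hne
      refine ⟨w, hw, hw0, fun i => ?_⟩
      by_contra h
      exact hall ⟨i, w, hw, h⟩

end LinAlg

section SliceLin

variable {K : Type u} [Field K] {V : Type v} [AddCommGroup V] [Module K V]
  {A : Type w} [AddCommGroup A] [Module K A]

theorem slice_add (f f' : A →ₗ[K] K) (z : V ⊗[K] A) :
    slice (f + f') z = slice f z + slice f' z := by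
  induction z using TensorProduct.induction_on with
  | zero => simp
  | tmul x y => rw [slice_tmul, slice_tmul, slice_tmul, LinearMap.add_apply, add_smul]
  | add x y hx hy =>
    rw [map_add, map_add, map_add, hx, hy]
    abel

theorem slice_smul (c : K) (f : A →ₗ[K] K) (z : V ⊗[K] A) :
    slice (c • f) z = c • slice f z := by
  induction z using TensorProduct.induction_on with
  | zero => simp
  | tmul x y => rw [slice_tmul, slice_tmul, LinearMap.smul_apply, smul_eq_mul, mul_smul]
  | add x y hx hy => rw [map_add, map_add, hx, hy, smul_add]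

end SliceLin

section Decomp

variable {K : Type u} [Field K] {H : Type v} [CommRing H] [HopfAlgebra K H]

/-- `f ↦ L f x` -/
noncomputable def Lx (x : H) : (H →ₗ[K] K) →ₗ[K] H where
  toFun f := L f x
  map_add' f f' := slice_add f f' _
  map_smul' c f := slice_smul c f _

theorem Lx_apply (x : H) (f : H →ₗ[K] K) : Lx x f = L f x := rfl

theorem L_L (f f' : H →ₗ[K] K) (a : H) :
    L f (L f' a) = L ((WithConv.toConv f * WithConv.toConv f').ofConv) a := by
  rw [← sub_eq_zero]
  apply (Module.forall_dual_apply_eq_zero_iff K _).1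
  intro φ
  rw [map_sub, phi_L φ f (L f' a), phi_L _ f' a, WithConv.toConv_ofConv, phi_L φ _ a,
    WithConv.toConv_ofConv, mul_assoc, sub_self]

variable (K) in
/-- the cyclic submodule generated by `x` under the operators `L f` -/
noncomputable def Vx (x : H) : Submodule K H := LinearMap.range (Lx (K := K) x)

theorem L_mem_Vx (x : H) (f : H →ₗ[K] K) {v : H} (hv : v ∈ Vx K x) : L f v ∈ Vx K x := by
  obtain ⟨f', rfl⟩ := hv
  exact ⟨(WithConv.toConv f * WithConv.toConv f').ofConv, (L_L f f' x).symm⟩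

theorem self_mem_Vx (x : H) : x ∈ Vx K x := by
  refine ⟨Coalgebra.counit (R := K) (A := H), ?_⟩
  show L (Coalgebra.counit (R := K) (A := H)) x = x
  rw [L_apply, slice, LinearMap.comp_apply, Coalgebra.lTensor_counit_comul]
  simp

instance finiteDimensional_Vx (x : H) : FiniteDimensional K (Vx K x) := by
  classical
  obtain ⟨S, hS⟩ := TensorProduct.exists_finset (Coalgebra.comul (R := K) x)
  have hle : Vx K x ≤ Submodule.span K ((S.image Prod.fst : Finset H) : Set H) := by
    rintro _ ⟨f, rfl⟩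
    show L f x ∈ _
    rw [L_apply, hS, map_sum]
    apply Submodule.sum_mem
    intro i hi
    rw [slice_tmul]
    exact Submodule.smul_mem _ _
      (Submodule.subset_span (Finset.mem_coe.2 (Finset.mem_image_of_mem _ hi)))
  haveI := FiniteDimensional.span_finset K (S.image Prod.fst)
  exact Submodule.finiteDimensional_of_le hle

variable (K) in
/-- the operators `L f` restricted to `Vx x` -/
noncomputable def Lr (x : H) (f : H →ₗ[K] K) : Module.End K (Vx K x) :=
  (L f).restrict (fun _ hv => L_mem_Vx x f hv)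

theorem Lr_coe (x : H) (f : H →ₗ[K] K) (v : Vx K x) : ((Lr K x f v : Vx K x) : H) = L f (v : H) :=
  rfl

theorem Lr_commute [Coalgebra.IsCocomm K H] (x : H) (f f' : H →ₗ[K] K) :
    Commute (Lr K x f) (Lr K x f') := by
  show Lr K x f * Lr K x f' = Lr K x f' * Lr K x f
  apply LinearMap.ext
  intro v
  apply Subtype.ext
  exact L_comm f f' (v : H)

theorem iSup_weight_eq_top [IsAlgClosed K] [Coalgebra.IsCocomm K H] (x : H) :
    ⨆ χ : (H →ₗ[K] K) → K, ⨅ f, (Lr K x f).maxGenEigenspace (χ f) = ⊤ :=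
  Module.End.iSup_iInf_maxGenEigenspace_eq_top_of_iSup_maxGenEigenspace_eq_top_of_commute _
    (fun f f' _ => Lr_commute x f f') (fun f => Module.End.iSup_maxGenEigenspace_eq_top _)

variable (K) in
/-- the shifted operators -/
noncomputable def Tχ (x : H) (χ : (H →ₗ[K] K) → K) (f : H →ₗ[K] K) : Module.End K (Vx K x) :=
  Lr K x f - χ f • 1

theorem Tχ_coe (x : H) (χ : (H →ₗ[K] K) → K) (f : H →ₗ[K] K) (v : Vx K x) :
    ((Tχ K x χ f v : Vx K x) : H) = L f (v : H) - χ f • (v : H) := rfl

theorem Tχ_commute [Coalgebra.IsCocomm K H] (x : H) (χ : (H →ₗ[K] K) → K) (f f' : H →ₗ[K] K) :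
    Commute (Tχ K x χ f) (Tχ K x χ f') := by
  show Tχ K x χ f * Tχ K x χ f' = Tχ K x χ f' * Tχ K x χ f
  apply LinearMap.ext
  intro v
  apply Subtype.ext
  show ((Tχ K x χ f (Tχ K x χ f' v) : Vx K x) : H) = ((Tχ K x χ f' (Tχ K x χ f v) : Vx K x) : H)
  rw [Tχ_coe, Tχ_coe, Tχ_coe, Tχ_coe, map_sub, map_sub, map_smul, map_smul, L_comm f f' (v : H),
    smul_sub, smul_sub, smul_smul, smul_smul, mul_comm (χ f) (χ f')]
  abel

theorem Lr_Tχ_commute [Coalgebra.IsCocomm K H] (x : H) (χ : (H →ₗ[K] K) → K)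
    (f f' : H →ₗ[K] K) : Commute (Lr K x f') (Tχ K x χ f) := by
  show Lr K x f' * Tχ K x χ f = Tχ K x χ f * Lr K x f'
  apply LinearMap.ext
  intro v
  apply Subtype.ext
  show L f' ((Tχ K x χ f v : Vx K x) : H) = ((Tχ K x χ f (Lr K x f' v) : Vx K x) : H)
  rw [Tχ_coe, Tχ_coe, Lr_coe, map_sub, map_smul, L_comm f' f (v : H)]

theorem good_weight [Coalgebra.IsCocomm K H] (x : H) (χ : (H →ₗ[K] K) → K) :
    Good (Tχ K x χ) (⨅ f, (Lr K x f).maxGenEigenspace (χ f)) := by
  constructor
  · intro f w hw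
    rw [Submodule.mem_iInf] at hw ⊢
    intro f'
    have hcomm : Commute (Lr K x f') (Tχ K x χ f) := Lr_Tχ_commute x χ f f'
    exact Module.End.mapsTo_maxGenEigenspace_of_comm hcomm (χ f') (hw f')
  · intro f w hw
    rw [Submodule.mem_iInf] at hw
    exact (Module.End.mem_maxGenEigenspace _ _ _).1 (hw f)

theorem exists_groupLike_of_weight [Coalgebra.IsCocomm K H] (x : H) (χ : (H →ₗ[K] K) → K)
    (hne : (⨅ f, (Lr K x f).maxGenEigenspace (χ f)) ≠ ⊥) :
    ∃ g : H, IsGroupLikeElem K g ∧ ∀ f : H →ₗ[K] K, χ f = f g := by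
  obtain ⟨w, hwW, hw0, hw⟩ :=
    Good.exists_common_kernel (Tχ_commute x χ) _ _ rfl (good_weight x χ) hne
  have hL : ∀ f, L f (w : H) = χ f • (w : H) := by
    intro f
    have h2 := Tχ_coe x χ f w
    rw [hw f] at h2
    exact sub_eq_zero.1 h2.symm
  have hwH : (w : H) ≠ 0 := fun h => hw0 (Subtype.ext h)
  have hf : ∀ f : H →ₗ[K] K, f (w : H) = χ f * Coalgebra.counit (R := K) (w : H) := by
    intro f
    rw [← counit_L f (w : H), hL, map_smul, smul_eq_mul]
  have hε : Coalgebra.counit (R := K) (w : H) ≠ 0 := by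
    intro h0
    apply hwH
    apply (Module.forall_dual_apply_eq_zero_iff K _).1
    intro φ
    rw [hf φ, h0, mul_zero]
  set c := Coalgebra.counit (R := K) (w : H) with hc
  refine ⟨c⁻¹ • (w : H), { counit_eq_one := ?_, comul_eq_tmul_self := ?_ }, ?_⟩
  · rw [map_smul, smul_eq_mul, ← hc, inv_mul_cancel₀ hε]
  · rw [← sub_eq_zero]
    apply eq_zero_of_slices
    intro f
    have e1 : L f (c⁻¹ • (w : H)) = (c⁻¹ * χ f) • (w : H) := by rw [map_smul, hL, smul_smul]
    have e2 : f (c⁻¹ • (w : H)) • (c⁻¹ • (w : H)) = (c⁻¹ * χ f) • (w : H) := by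
      rw [map_smul, hf f, smul_eq_mul, smul_smul]
      congr 1
      field_simp
    rw [map_sub, slice_tmul, ← L_apply, e1, e2, sub_self]
  · intro f
    rw [map_smul, hf f, smul_eq_mul]
    field_simp

theorem slice_mul_groupLike (f : H →ₗ[K] K) (h : H) (z : H ⊗[K] H) :
    slice f ((h ⊗ₜ[K] h) * z) = h * slice (f ∘ₗ LinearMap.mulLeft K h) z := by
  induction z using TensorProduct.induction_on with
  | zero => simp
  | tmul x y =>
    rw [Algebra.TensorProduct.tmul_mul_tmul, slice_tmul, slice_tmul, LinearMap.comp_apply,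
      LinearMap.mulLeft_apply, mul_smul_comm]
  | add x y hx hy => rw [mul_add, map_add, map_add, hx, hy, mul_add]

theorem L_mul_groupLike {h : H} (hh : IsGroupLikeElem K h) (f : H →ₗ[K] K) (a : H) :
    L f (h * a) = h * L (f ∘ₗ LinearMap.mulLeft K h) a := by
  rw [L_apply, Bialgebra.comul_mul, hh.comul_eq_tmul_self, slice_mul_groupLike, L_apply]

theorem mul_mem_G_of_good [Coalgebra.IsCocomm K H] (x : H) (χ : (H →ₗ[K] K) → K) {g : H}
    (hg : IsGroupLikeElem K g) (hχ : ∀ f : H →ₗ[K] K, χ f = f g) :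
    ∀ (m : ℕ) (W : Submodule K (Vx K x)), Good (Tχ K x χ) W → Module.finrank K W ≤ m →
      ∀ w ∈ W, HopfAlgebraStruct.antipode K g * ((w : Vx K x) : H) ∈ G K H m := by
  intro m
  induction m with
  | zero =>
    intro W hW hfin w hw
    have hbot : W = ⊥ := Submodule.finrank_eq_zero.1 (Nat.le_zero.1 hfin)
    rw [hbot] at hw
    have h0 : w = 0 := (Submodule.mem_bot K).1 hw
    rw [h0]
    show HopfAlgebraStruct.antipode K g * ((0 : Vx K x) : H) ∈ (⊥ : Submodule K H)
    rw [Submodule.coe_zero, mul_zero]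
    exact Submodule.zero_mem _
  | succ m ih =>
    intro W hW hfin w hw
    rw [mem_G_succ]
    intro f
    have hhg : IsGroupLikeElem K (HopfAlgebraStruct.antipode K g) := hg.antipode
    have hχf' : χ (f ∘ₗ LinearMap.mulLeft K (HopfAlgebraStruct.antipode K g)) = f 1 := by
      rw [hχ, LinearMap.comp_apply, LinearMap.mulLeft_apply, hg.antipode_mul_cancel]
    have key : U f (HopfAlgebraStruct.antipode K g * ((w : Vx K x) : H)) =
        HopfAlgebraStruct.antipode K g *
          (((Tχ K x χ (f ∘ₗ LinearMap.mulLeft K (HopfAlgebraStruct.antipode K g)) w :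
            Vx K x)) : H) := by
      rw [Tχ_coe, U_apply, L_mul_groupLike hhg, hχf', mul_sub, mul_smul_comm]
    rw [key]
    apply ih (W.map (Tχ K x χ (f ∘ₗ LinearMap.mulLeft K (HopfAlgebraStruct.antipode K g))))
      (hW.map (Tχ_commute x χ) _)
    · by_cases hb : W = ⊥
      · rw [hb, Submodule.map_bot, finrank_bot]
        exact Nat.zero_le _
      · have := hW.finrank_map_lt hb
          (f ∘ₗ LinearMap.mulLeft K (HopfAlgebraStruct.antipode K g))
        omega
    · exact Submodule.mem_map_of_mem hw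

theorem mem_span_groupLike_mul_Bsub [IsAlgClosed K] [Coalgebra.IsCocomm K H] (x : H) :
    x ∈ Submodule.span K
      {t : H | ∃ g b : H, IsGroupLikeElem K g ∧ b ∈ Bsub K H ∧ t = g * b} := by
  set S := Submodule.span K
    {t : H | ∃ g b : H, IsGroupLikeElem K g ∧ b ∈ Bsub K H ∧ t = g * b} with hS
  have key : ∀ v : Vx K x, (v : H) ∈ S := by
    intro v
    have hv : v ∈ ⨆ χ : (H →ₗ[K] K) → K, ⨅ f, (Lr K x f).maxGenEigenspace (χ f) := by
      rw [iSup_weight_eq_top]
      trivial
    refine Submodule.iSup_induction _ (motive := fun v : Vx K x => (v : H) ∈ S) hv ?_ ?_ ?_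
    · intro χ w hw
      by_cases hne : (⨅ f, (Lr K x f).maxGenEigenspace (χ f)) = ⊥
      · rw [hne] at hw
        rw [(Submodule.mem_bot K).1 hw]
        exact S.zero_mem
      · obtain ⟨g, hg, hχ⟩ := exists_groupLike_of_weight x χ hne
        have h1 := mul_mem_G_of_good x χ hg hχ _ _ (good_weight x χ) le_rfl w hw
        have h2 : HopfAlgebraStruct.antipode K g * (w : H) ∈ Bsub K H :=
          ⟨_, D_eq_zero_iff_mem_G.2 (G_mono_succ _ h1)⟩
        have h3 : (w : H) = g * (HopfAlgebraStruct.antipode K g * (w : H)) := by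
          rw [← mul_assoc, hg.mul_antipode_cancel, one_mul]
        rw [h3]
        exact Submodule.subset_span ⟨g, _, hg, h2, rfl⟩
    · exact S.zero_mem
    · intro a b ha hb
      exact S.add_mem ha hb
  exact key ⟨x, self_mem_Vx x⟩

end Decomp

end Groth.Agent.Helper6.Uni
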