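import Groth.Agent.Lib.Helper6.Uni5
import Groth.Agent.Lib.Helper6.Uni2b
import Groth.Prelude.Def_SGA3b
import Mathlib

/-!
# Unipotent / coconnected parts (helper6), part 6: the largest multiplicative-type subgroup of a
commutative algebraic group: the quotient by the ideal generated by the augmentation ideal of the
coconnected part is of multiplicative type, and it is the smallest such.
-/

set_option autoImplicit false

namespace Groth.Agent.Helper6.Uni

open TensorProduct Groth.Agent.Helper6.CoConn

universe u u' v w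

section BC

variable (k : Type u) [Field k] (R : Type u') [CommRing R] [Algebra k R]
variable (A : Type v) [CommRing A] [HopfAlgebra k A]

/-- the kernel of the iterated reduced coproduct commutes with (flat) base change -/
theorem exists_of_D_baseChange_eq_zero {n : ℕ} {x : R ⊗[k] A}
    (h : D R (R ⊗[k] A) n x = 0) :
    ∃ y : R ⊗[k] (LinearMap.ker (D k A n)),
      LinearMap.lTensor R (LinearMap.ker (D k A n)).subtype y = x := by
  rw [D_baseChange'] at h
  have h1 : (D k A n).baseChange R x = 0 := (θ k R A n).injective (by rw [h, map_zero])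
  have h2 : LinearMap.lTensor R (D k A n) x = 0 := by
    rw [← LinearMap.baseChange_eq_ltensor]
    exact h1
  have hex := Module.Flat.lTensor_exact R (LinearMap.exact_subtype_ker_map (D k A n))
  obtain ⟨y, hy⟩ := (hex x).1 h2
  exact ⟨y, hy⟩

end BC

section Minimal

variable {k : Type u} [Field k] {C : Type v} [CommRing C] [HopfAlgebra k C]

/-- on a group which becomes diagonalizable after a faithfully flat base change, the iterated
reduced coproducts only kill the constants -/
theorem eq_algebraMap_of_D_eq_zero_of_isDiag (R' : Type u') [CommRing R'] [Algebra k R']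
    [Module.FaithfullyFlat k R'] {M : Type w} [CommGroup M]
    (e : (R' ⊗[k] C) ≃ₐc[R'] MonoidAlgebra R' M) {n : ℕ} {a : C} (h : D k C n a = 0) :
    a = algebraMap k C (Coalgebra.counit (R := k) a) := by
  have h1 : D R' (R' ⊗[k] C) n ((1 : R') ⊗ₜ[k] a) = 0 := D_baseChange_eq_zero k R' C h
  have h2 : D R' (MonoidAlgebra R' M) n (e ((1 : R') ⊗ₜ[k] a)) = 0 :=
    D_eq_zero_map (e : (R' ⊗[k] C) →ₐc[R'] MonoidAlgebra R' M) h1
  have h3 := eq_algebraMap_of_D_eq_zero h2
  set c : R' := (e ((1 : R') ⊗ₜ[k] a)).coeff 1 with hc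
  have h4 : ((1 : R') ⊗ₜ[k] a : R' ⊗[k] C) = c ⊗ₜ[k] (1 : C) := by
    have h5 : e ((1 : R') ⊗ₜ[k] a) = e (algebraMap R' (R' ⊗[k] C) c) := by
      rw [h3]
      exact (AlgHomClass.commutes e c).symm
    have h6 := e.injective h5
    rw [h6, Algebra.TensorProduct.algebraMap_apply]
    rfl
  have h7 : c = algebraMap k R' (Coalgebra.counit (R := k) a) := by
    have h8 := congrArg (Coalgebra.counit (R := R') (A := R' ⊗[k] C)) h4
    simp only [TensorProduct.counit_tmul, Bialgebra.counit_one, one_smul,
      CommSemiring.counit_apply] at h8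
    rw [Algebra.smul_def, mul_one] at h8
    exact h8.symm
  apply Module.FaithfullyFlat.tensorProduct_mk_injective (A := k) (B := R') C
  show ((1 : R') ⊗ₜ[k] a : R' ⊗[k] C) =
    (1 : R') ⊗ₜ[k] (algebraMap k C (Coalgebra.counit (R := k) a))
  rw [h4, h7, Algebra.algebraMap_eq_smul_one, Algebra.algebraMap_eq_smul_one,
    TensorProduct.smul_tmul]

end Minimal

section Main

variable {k : Type u} [Field k] {A : Type u} [CommRing A] [HopfAlgebra k A]
  [Coalgebra.IsCocomm k A]

/-- minimality of `Jideal` -/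
theorem Jideal_le_of_multTypeConst (I : Ideal A) [I.IsHopfIdeal k]
    (h : SGA3b.IsMultTypeConst k (A ⧸ I)) : Jideal k A ≤ I := by
  obtain ⟨R', instR', instAlg, hff, M, instM, ⟨e⟩⟩ := h
  apply Jideal_le_of_forall
  intro b hb
  obtain ⟨n, hn⟩ := mem_Bsub.1 hb
  have h1 : D k (A ⧸ I) n (Bialgebra.Quotient.mkBialgHom I b) = 0 :=
    D_eq_zero_map (Bialgebra.Quotient.mkBialgHom I) hn
  have h2 := eq_algebraMap_of_D_eq_zero_of_isDiag R' e h1
  rw [CoalgHomClass.counit_comp_apply] at h2
  apply Ideal.Quotient.eq_zero_iff_mem.1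
  rw [map_sub, sub_eq_zero]
  exact h2

/-- the base change to an algebraically closed field of the quotient by an ideal killing the
augmentation ideal of the coconnected part is diagonalizable -/
theorem isDiagonalizable_baseChange_quotient (K : Type u') [Field K] [Algebra k K] [IsAlgClosed K]
    (J : Ideal A) [J.IsHopfIdeal k]
    (hJ : ∀ b ∈ Bsub k A, b - algebraMap k A (Coalgebra.counit (R := k) b) ∈ J) :
    HopfRep.IsDiagonalizable K (K ⊗[k] (A ⧸ J)) := by
  let π : K ⊗[k] A →ₐc[K] K ⊗[k] (A ⧸ J) :=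
    Bialgebra.TensorProduct.map (BialgHom.id K K) (Bialgebra.Quotient.mkBialgHom J)
  have hπt : ∀ (r : K) (a : A), π (r ⊗ₜ[k] a) = r ⊗ₜ[k] (Ideal.Quotient.mk J a) := fun _ _ => rfl
  have hπsurj : Function.Surjective π := by
    intro y
    induction y using TensorProduct.induction_on with
    | zero => exact ⟨0, map_zero π⟩
    | tmul r q =>
      obtain ⟨a, rfl⟩ := Ideal.Quotient.mk_surjective q
      exact ⟨r ⊗ₜ[k] a, rfl⟩
    | add y z hy hz =>
      obtain ⟨y', rfl⟩ := hy
      obtain ⟨z', rfl⟩ := hz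
      exact ⟨y' + z', map_add π y' z'⟩
  have hmk : ∀ b ∈ Bsub k A, Ideal.Quotient.mk J b =
      Coalgebra.counit (R := k) b • (1 : A ⧸ J) := by
    intro b hb
    have h2 : Ideal.Quotient.mk J (b - algebraMap k A (Coalgebra.counit (R := k) b)) = 0 :=
      Ideal.Quotient.eq_zero_iff_mem.2 (hJ b hb)
    rw [map_sub, sub_eq_zero] at h2
    rw [h2, Algebra.algebraMap_eq_smul_one]
    rfl
  have hπB : ∀ b ∈ Bsub K (K ⊗[k] A), π b =
      algebraMap K (K ⊗[k] (A ⧸ J)) (Coalgebra.counit (R := K) b) := by
    intro b hb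
    obtain ⟨n, hn⟩ := mem_Bsub.1 hb
    obtain ⟨y, rfl⟩ := exists_of_D_baseChange_eq_zero k K A hn
    clear hn hb
    induction y using TensorProduct.induction_on with
    | zero => simp
    | tmul r a =>
      rw [LinearMap.lTensor_tmul, Submodule.subtype_apply, hπt,
        hmk (a : A) (ker_D_le_Bsub n a.2), TensorProduct.counit_tmul,
        CommSemiring.counit_apply, Algebra.TensorProduct.algebraMap_apply,
        Algebra.algebraMap_self_apply, TensorProduct.tmul_smul, TensorProduct.smul_tmul']
    | add y z hy hz =>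
      rw [map_add, map_add, map_add, map_add, hy, hz]
  rw [HopfRep.IsDiagonalizable, eq_top_iff]
  intro y _
  obtain ⟨x, rfl⟩ := hπsurj y
  have hx := mem_span_groupLike_mul_Bsub (K := K) x
  have hle : Submodule.span K
      {t : K ⊗[k] A | ∃ g b : K ⊗[k] A, IsGroupLikeElem K g ∧ b ∈ Bsub K (K ⊗[k] A) ∧ t = g * b} ≤
      Submodule.comap (π : K ⊗[k] A →ₗ[K] K ⊗[k] (A ⧸ J))
        (Submodule.span K {a : K ⊗[k] (A ⧸ J) | IsGroupLikeElem K a}) := by
    rw [Submodule.span_le]
    rintro _ ⟨g, b, hg, hb, rfl⟩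
    show π (g * b) ∈ Submodule.span K {a : K ⊗[k] (A ⧸ J) | IsGroupLikeElem K a}
    rw [map_mul, hπB b hb, mul_comm, ← Algebra.smul_def]
    exact Submodule.smul_mem _ _ (Submodule.subset_span (hg.map π))
  exact hle hx

/-- the quotient by `Jideal` is of multiplicative type -/
theorem isMultTypeConst_quotient_Jideal (J : Ideal A) [J.IsHopfIdeal k]
    (hJ : ∀ b ∈ Bsub k A, b - algebraMap k A (Coalgebra.counit (R := k) b) ∈ J) :
    SGA3b.IsMultTypeConst k (A ⧸ J) := by
  have hd := isDiagonalizable_baseChange_quotient (AlgebraicClosure k) J hJ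
  exact ⟨AlgebraicClosure k, inferInstance, inferInstance, inferInstance,
    GroupLike (AlgebraicClosure k) (AlgebraicClosure k ⊗[k] (A ⧸ J)), inferInstance,
    ⟨diagEquiv hd⟩⟩

end Main

end Groth.Agent.Helper6.Uni
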