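import Groth.Agent.Lib.Helper6.CoConn
import Groth.Prelude.Def_LieHopf
import Mathlib

/-!
# The Lie algebra of a unipotent group in characteristic `p` is `p`-nilpotent (helper6)

For `A` a commutative Hopf algebra over `k` and `δ` an `ε`-derivation `A → k`, the convolution powers
`δ^{p^n}` are again `ε`-derivations (characteristic `p`).  If `A` is coconnected and finitely generated,
`δ^{p^n} = 0` for `n` large.
-/

set_option autoImplicit false

namespace Groth.Agent.Helper6.UnipLie

open TensorProduct WithConv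

universe u

section Hopf

variable {k : Type u} [CommRing k] {A : Type u} [CommRing A] [HopfAlgebra k A]

theorem convPow_eq_pow (d : A →ₗ[k] k) (n : ℕ) :
    LieHopf.convPow d n = ((toConv d) ^ n).ofConv := by
  induction n with
  | zero =>
    rw [pow_zero]
    apply LinearMap.ext
    intro a
    rfl
  | succ n ih =>
    rw [pow_succ, LinearMap.convMul_def, WithConv.ofConv_toConv, ← ih]
    rfl

/-- pullback along the multiplication `A ⊗ A → A` (a coalgebra map) -/
noncomputable def mulStar : WithConv (A →ₗ[k] k) →* WithConv (A ⊗[k] A →ₗ[k] k) where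
  toFun f := toConv (f.ofConv ∘ₗ LinearMap.mul' k A)
  map_one' := by
    apply WithConv.ofConv_injective
    apply TensorProduct.ext'
    intro a b
    simp only [WithConv.ofConv_toConv, LinearMap.convOne_def, LinearMap.comp_apply,
      LinearMap.mul'_apply, Algebra.linearMap_apply, Bialgebra.counit_mul,
      TensorProduct.counit_tmul]
    rw [smul_eq_mul, mul_comm]
  map_mul' f g := by
    apply WithConv.ofConv_injective
    exact LinearMap.convMul_comp_coalgHom_distrib f g (Bialgebra.mulCoalgHom k A)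

/-- `f ↦ f ⊗ ε` -/
noncomputable def Lhom : WithConv (A →ₗ[k] k) →* WithConv (A ⊗[k] A →ₗ[k] k) where
  toFun f := toConv ((Algebra.TensorProduct.lmul' k (S := k)).toLinearMap ∘ₗ
      (TensorProduct.map f.ofConv (1 : WithConv (A →ₗ[k] k)).ofConv))
  map_one' := by
    apply WithConv.ofConv_injective
    apply TensorProduct.ext'
    intro a b
    simp only [WithConv.ofConv_toConv, LinearMap.convOne_def, LinearMap.comp_apply,
      TensorProduct.map_tmul, AlgHom.toLinearMap_apply, Algebra.TensorProduct.lmul'_apply_tmul,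
      Algebra.linearMap_apply, TensorProduct.counit_tmul]
    simp [mul_comm]
  map_mul' f g := by
    apply WithConv.ofConv_injective
    have h1 := LinearMap.algHom_comp_convMul_distrib (Algebra.TensorProduct.lmul' k (S := k))
      (toConv (TensorProduct.map f.ofConv (1 : WithConv (A →ₗ[k] k)).ofConv))
      (toConv (TensorProduct.map g.ofConv (1 : WithConv (A →ₗ[k] k)).ofConv))
    rw [TensorProduct.map_convMul_map, mul_one] at h1
    exact h1

/-- `f ↦ ε ⊗ f` -/
noncomputable def Rhom : WithConv (A →ₗ[k] k) →* WithConv (A ⊗[k] A →ₗ[k] k) where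
  toFun f := toConv ((Algebra.TensorProduct.lmul' k (S := k)).toLinearMap ∘ₗ
      (TensorProduct.map (1 : WithConv (A →ₗ[k] k)).ofConv f.ofConv))
  map_one' := by
    apply WithConv.ofConv_injective
    apply TensorProduct.ext'
    intro a b
    simp only [WithConv.ofConv_toConv, LinearMap.convOne_def, LinearMap.comp_apply,
      TensorProduct.map_tmul, AlgHom.toLinearMap_apply, Algebra.TensorProduct.lmul'_apply_tmul,
      Algebra.linearMap_apply, TensorProduct.counit_tmul]
    simp [mul_comm]
  map_mul' f g := by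
    apply WithConv.ofConv_injective
    have h1 := LinearMap.algHom_comp_convMul_distrib (Algebra.TensorProduct.lmul' k (S := k))
      (toConv (TensorProduct.map (1 : WithConv (A →ₗ[k] k)).ofConv f.ofConv))
      (toConv (TensorProduct.map (1 : WithConv (A →ₗ[k] k)).ofConv g.ofConv))
    rw [TensorProduct.map_convMul_map, mul_one] at h1
    exact h1

theorem Lhom_apply (f : WithConv (A →ₗ[k] k)) (a b : A) :
    (Lhom f).ofConv (a ⊗ₜ[k] b) = f.ofConv a * Coalgebra.counit (R := k) b := rfl

theorem Rhom_apply (f : WithConv (A →ₗ[k] k)) (a b : A) :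
    (Rhom f).ofConv (a ⊗ₜ[k] b) = Coalgebra.counit (R := k) a * f.ofConv b := rfl

theorem mulStar_apply (f : WithConv (A →ₗ[k] k)) (a b : A) :
    (mulStar f).ofConv (a ⊗ₜ[k] b) = f.ofConv (a * b) := rfl

theorem Lhom_mul_Rhom (f g : WithConv (A →ₗ[k] k)) :
    Lhom f * Rhom g = toConv ((Algebra.TensorProduct.lmul' k (S := k)).toLinearMap ∘ₗ
      (TensorProduct.map f.ofConv g.ofConv)) := by
  apply WithConv.ofConv_injective
  have h1 := LinearMap.algHom_comp_convMul_distrib (Algebra.TensorProduct.lmul' k (S := k))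
    (toConv (TensorProduct.map f.ofConv (1 : WithConv (A →ₗ[k] k)).ofConv))
    (toConv (TensorProduct.map (1 : WithConv (A →ₗ[k] k)).ofConv g.ofConv))
  rw [TensorProduct.map_convMul_map, mul_one, one_mul] at h1
  exact h1.symm

theorem Rhom_mul_Lhom (f g : WithConv (A →ₗ[k] k)) :
    Rhom g * Lhom f = toConv ((Algebra.TensorProduct.lmul' k (S := k)).toLinearMap ∘ₗ
      (TensorProduct.map f.ofConv g.ofConv)) := by
  apply WithConv.ofConv_injective
  have h1 := LinearMap.algHom_comp_convMul_distrib (Algebra.TensorProduct.lmul' k (S := k))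
    (toConv (TensorProduct.map (1 : WithConv (A →ₗ[k] k)).ofConv g.ofConv))
    (toConv (TensorProduct.map f.ofConv (1 : WithConv (A →ₗ[k] k)).ofConv))
  rw [TensorProduct.map_convMul_map, mul_one, one_mul] at h1
  exact h1.symm

theorem commute_Lhom_Rhom (f g : WithConv (A →ₗ[k] k)) : Commute (Lhom f) (Rhom g) := by
  unfold Commute SemiconjBy
  rw [Lhom_mul_Rhom, Rhom_mul_Lhom]

theorem mulStar_dlin (D : LieHopf.Lie k A) :
    mulStar (toConv (LieHopf.dlin D)) =
      Lhom (toConv (LieHopf.dlin D)) + Rhom (toConv (LieHopf.dlin D)) := by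
  apply WithConv.ofConv_injective
  apply TensorProduct.ext'
  intro a b
  rw [WithConv.ofConv_add, LinearMap.add_apply, mulStar_apply, Lhom_apply, Rhom_apply,
    WithConv.ofConv_toConv, LieHopf.dlin_mul, Bialgebra.counitAlgHom_apply,
    Bialgebra.counitAlgHom_apply]
  ring

theorem pow_prime_pow_mul (p : ℕ) [Fact p.Prime] [CharP k p] (D : LieHopf.Lie k A) (n : ℕ)
    (a b : A) :
    ((toConv (LieHopf.dlin D)) ^ (p ^ n)).ofConv (a * b) =
      ((toConv (LieHopf.dlin D)) ^ (p ^ n)).ofConv a * Coalgebra.counit (R := k) b +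
        Coalgebra.counit (R := k) a * ((toConv (LieHopf.dlin D)) ^ (p ^ n)).ofConv b := by
  set δ := toConv (LieHopf.dlin D) with hδ
  have h1 : mulStar (δ ^ (p ^ n)) = Lhom (δ ^ (p ^ n)) + Rhom (δ ^ (p ^ n)) := by
    rw [map_pow, hδ, mulStar_dlin, map_pow, map_pow]
    obtain ⟨r, hr⟩ := (commute_Lhom_Rhom (toConv (LieHopf.dlin D))
      (toConv (LieHopf.dlin D))).exists_add_pow_prime_pow_eq (Fact.out : p.Prime) n
    have hp0 : ((p : ℕ) : WithConv (A ⊗[k] A →ₗ[k] k)) = 0 := by
      rw [← map_natCast (algebraMap k (WithConv (A ⊗[k] A →ₗ[k] k))), CharP.cast_eq_zero, map_zero]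
    rw [hr, hp0, zero_mul, zero_mul, zero_mul, add_zero]
  have h2 := congrArg (fun F : WithConv (A ⊗[k] A →ₗ[k] k) => F.ofConv (a ⊗ₜ[k] b)) h1
  exact h2

end Hopf

section Field

variable {k : Type u} [Field k] {A : Type u} [CommRing A] [HopfAlgebra k A]

theorem exists_convPow_eq_zero (p : ℕ) [Fact p.Prime] [CharP k p] [Algebra.FiniteType k A]
    (hU : HopfRep.IsUnipotent k A) (D : LieHopf.Lie k A) :
    ∃ n : ℕ, 0 < n ∧ LieHopf.convPow (LieHopf.dlin D) (p ^ n) = 0 := by
  have hC := CoConn.isCoconn_of_isUnipotent k A hU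
  obtain ⟨S, hS⟩ := (Algebra.FiniteType.out : (⊤ : Subalgebra k A).FG)
  choose N hN using hC
  refine ⟨S.sup N + 1, Nat.succ_pos _, ?_⟩
  rw [convPow_eq_pow]
  set δ := toConv (LieHopf.dlin D) with hδ
  have hδ1 : δ.ofConv 1 = 0 := LieHopf.dlin_one D
  have hp1 : 1 < p := (Fact.out : p.Prime).one_lt
  have hlt : S.sup N + 1 < p ^ (S.sup N + 1) := Nat.lt_pow_self hp1
  have hone : (δ ^ (p ^ (S.sup N + 1))).ofConv 1 = 0 := by
    apply CoConn.convPow_apply_eq_zero_of_le δ hδ1 (n := 0) (by omega)
    show CoConn.pr k A (1 : A) = 0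
    rw [CoConn.pr_apply, Bialgebra.counit_one, map_one, sub_self]
  have key : ∀ a ∈ Algebra.adjoin k (S : Set A), (δ ^ (p ^ (S.sup N + 1))).ofConv a = 0 := by
    intro a ha
    induction ha using Algebra.adjoin_induction with
    | mem s hs =>
      apply CoConn.convPow_apply_eq_zero_of_le δ hδ1 _ (hN s)
      have : N s ≤ S.sup N := Finset.le_sup hs
      omega
    | algebraMap r =>
      rw [Algebra.algebraMap_eq_smul_one, map_smul, hone, smul_zero]
    | add x y _ _ hx hy => rw [map_add, hx, hy, add_zero]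
    | mul x y _ _ hx hy =>
      rw [hδ, pow_prime_pow_mul p D, ← hδ, hx, hy, zero_mul, mul_zero, add_zero]
  apply LinearMap.ext
  intro a
  have ha : a ∈ Algebra.adjoin k (S : Set A) := by rw [hS]; exact Algebra.mem_top
  exact key a ha

end Field

end Groth.Agent.Helper6.UnipLie
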