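import Mathlib
import Groth.Agent.Lib.Helper6.UnitComp

/-!
# Unit components: idempotents with local quotient are minimal among idempotents with `ε = 1` (helper6)
-/

set_option autoImplicit false

namespace Groth.Agent.Helper6.UnitComp2

open Groth.Agent.Lib.Helper6.UnitComp

/-- elements of `span {1 - f}` are killed by `f` -/
theorem mul_eq_zero_of_mem {S : Type*} [CommRing S] {f : S} (hf : IsIdempotentElem f) {x : S}
    (hx : x ∈ Ideal.span ({1 - f} : Set S)) : x * f = 0 := by
  obtain ⟨c, rfl⟩ := Ideal.mem_span_singleton'.1 hx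
  rw [mul_assoc, sub_mul, one_mul, hf.eq, sub_self, mul_zero]

/-- If `S/(1-f)` is local, `f`, `g` idempotents and a ring map `ε` to a nontrivial ring has
`ε f = ε g = 1`, then `f ≤ g`, i.e. `f * g = f`. -/
theorem mul_eq_of_local {S T : Type*} [CommRing S] [CommRing T] [Nontrivial T] {f g : S}
    (hf : IsIdempotentElem f) (hg : IsIdempotentElem g)
    [IsLocalRing (S ⧸ Ideal.span ({1 - f} : Set S))] (ε : S →+* T) (hεf : ε f = 1)
    (hεg : ε g = 1) : f * g = f := by
  have hh : IsIdempotentElem (f * g) := hf.mul hg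
  have hhf : f * g * f = f * g := by
    calc f * g * f = f * f * g := by ring
      _ = f * g := by rw [hf.eq]
  rcases idem_eq_zero_or_one _ (hh.map (Ideal.Quotient.mk (Ideal.span ({1 - f} : Set S)))) with h | h
  · exfalso
    have hmem : f * g ∈ Ideal.span ({1 - f} : Set S) := Ideal.Quotient.eq_zero_iff_mem.1 h
    have h0 : f * g = 0 := by rw [← hhf]; exact mul_eq_zero_of_mem hf hmem
    have h1 : ε (f * g) = 1 := by rw [map_mul, hεf, hεg, mul_one]
    rw [h0, map_zero] at h1
    exact zero_ne_one h1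
  · have hmem : 1 - f * g ∈ Ideal.span ({1 - f} : Set S) := by
      rw [← Ideal.Quotient.eq_zero_iff_mem, map_sub, map_one, h, sub_self]
    have h0 := mul_eq_zero_of_mem hf hmem
    rw [sub_mul, one_mul, hhf, sub_eq_zero] at h0
    exact h0.symm

/-- image of `g` in `S/(1-f)` is `1` in the situation of `mul_eq_of_local` -/
theorem one_sub_mem_of_local {S T : Type*} [CommRing S] [CommRing T] [Nontrivial T] {f g : S}
    (hf : IsIdempotentElem f) (hg : IsIdempotentElem g)
    [IsLocalRing (S ⧸ Ideal.span ({1 - f} : Set S))] (ε : S →+* T) (hεf : ε f = 1)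
    (hεg : ε g = 1) : 1 - g ∈ Ideal.span ({1 - f} : Set S) := by
  have h := mul_eq_of_local hf hg ε hεf hεg
  rw [Ideal.mem_span_singleton']
  refine ⟨1 - g, ?_⟩
  calc (1 - g) * (1 - f) = 1 - g - f + f * g := by ring
    _ = 1 - g := by rw [h]; ring

end Groth.Agent.Helper6.UnitComp2

namespace Groth.Agent.Helper6.UnitComp2

/-- In `A/J`: if `A/(J + (1-e))` is local, `ē`, `ē'` idempotents of `A/J`, and `ε` kills `J` with
`ε e = ε e' = 1`, then `ē ē' = ē`. -/
theorem mk_mul_eq_of_local {A T : Type*} [CommRing A] [CommRing T] [Nontrivial T] (J : Ideal A)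
    (e e' : A) (he : IsIdempotentElem (Ideal.Quotient.mk J e))
    (he' : IsIdempotentElem (Ideal.Quotient.mk J e'))
    [IsLocalRing (A ⧸ (J ⊔ Ideal.span ({1 - e} : Set A)))] (ε : A →+* T)
    (hεJ : ∀ a ∈ J, ε a = 0) (hεe : ε e = 1) (hεe' : ε e' = 1) :
    Ideal.Quotient.mk J (e * e') = Ideal.Quotient.mk J e := by
  have hK : ∀ a ∈ J ⊔ Ideal.span ({1 - e} : Set A), Ideal.Quotient.mk J (a * e) = 0 := by
    intro a ha
    obtain ⟨j, hj, x, hx, rfl⟩ := Submodule.mem_sup.1 ha
    obtain ⟨c, rfl⟩ := Ideal.mem_span_singleton'.1 hx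
    have h1 : Ideal.Quotient.mk J j = 0 := Ideal.Quotient.eq_zero_iff_mem.2 hj
    have h2 : Ideal.Quotient.mk J e * Ideal.Quotient.mk J e = Ideal.Quotient.mk J e := he
    rw [add_mul, map_add, map_mul, h1, zero_mul, zero_add, map_mul, map_mul, map_sub, map_one,
      mul_assoc, sub_mul, one_mul, h2, sub_self, mul_zero]
  have hhe : Ideal.Quotient.mk J (e * e' * e) = Ideal.Quotient.mk J (e * e') := by
    have h2 : Ideal.Quotient.mk J e * Ideal.Quotient.mk J e = Ideal.Quotient.mk J e := he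
    calc Ideal.Quotient.mk J (e * e' * e)
        = Ideal.Quotient.mk J e * Ideal.Quotient.mk J e * Ideal.Quotient.mk J e' := by
          rw [map_mul, map_mul]; ring
      _ = Ideal.Quotient.mk J (e * e') := by rw [h2, map_mul]
  have hidJ : IsIdempotentElem (Ideal.Quotient.mk J (e * e')) := by
    rw [map_mul]; exact he.mul he'
  have hid : IsIdempotentElem
      (Ideal.Quotient.mk (J ⊔ Ideal.span ({1 - e} : Set A)) (e * e')) := by
    have := hidJ.map (Ideal.Quotient.factor (le_sup_left : J ≤ J ⊔ Ideal.span ({1 - e} : Set A)))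
    simpa using this
  rcases Groth.Agent.Lib.Helper6.UnitComp.idem_eq_zero_or_one _ hid with h | h
  · exfalso
    have hmem : e * e' ∈ J ⊔ Ideal.span ({1 - e} : Set A) := Ideal.Quotient.eq_zero_iff_mem.1 h
    have h0 := hK _ hmem
    rw [hhe] at h0
    have h1 : ε (e * e') = 0 := hεJ _ (Ideal.Quotient.eq_zero_iff_mem.1 h0)
    rw [map_mul, hεe, hεe', mul_one] at h1
    exact one_ne_zero h1
  · have hmem : 1 - e * e' ∈ J ⊔ Ideal.span ({1 - e} : Set A) := by
      rw [← Ideal.Quotient.eq_zero_iff_mem, map_sub, map_one, h, sub_self]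
    have h0 := hK _ hmem
    rw [sub_mul, one_mul, map_sub, hhe, sub_eq_zero] at h0
    exact h0.symm

/-- two "unit component" idempotents of `A/J` coincide -/
theorem mk_eq_of_local {A T : Type*} [CommRing A] [CommRing T] [Nontrivial T] (J : Ideal A)
    (e e' : A) (he : IsIdempotentElem (Ideal.Quotient.mk J e))
    (he' : IsIdempotentElem (Ideal.Quotient.mk J e'))
    [IsLocalRing (A ⧸ (J ⊔ Ideal.span ({1 - e} : Set A)))]
    [IsLocalRing (A ⧸ (J ⊔ Ideal.span ({1 - e'} : Set A)))] (ε : A →+* T)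
    (hεJ : ∀ a ∈ J, ε a = 0) (hεe : ε e = 1) (hεe' : ε e' = 1) :
    Ideal.Quotient.mk J e = Ideal.Quotient.mk J e' := by
  rw [← mk_mul_eq_of_local J e e' he he' ε hεJ hεe hεe',
    ← mk_mul_eq_of_local J e' e he' he ε hεJ hεe' hεe, mul_comm]

end Groth.Agent.Helper6.UnitComp2
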