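import Mathlib
import Groth.Agent.Lib.Helper6.UnitComp
import Groth.Agent.Lib.Helper6.HopfExt

set_option autoImplicit false
universe u v w

/-!
# Universal properties of the unit component: maps from étale groups and to connected groups
-/

namespace Groth.Agent.Lib.Helper6.UnitCompUniv

open TensorProduct

section triv

variable {R : Type u} [CommRing R] [Nontrivial R] {C : Type v} [CommRing C] [HopfAlgebra R C]
  [IsNoetherianRing C] [Algebra.FormallyUnramified R C]
  {Q : Type w} [CommRing Q] [Algebra R Q] [IsLocalRing Q]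

/-- a map from an unramified Hopf algebra to a local augmented algebra, compatible with the
augmentations, is trivial -/
theorem eq_triv (εQ : Q →ₐ[R] R) (ψ : C →ₐ[R] Q)
    (hψ : εQ.comp ψ = Bialgebra.counitAlgHom R C) (c : C) :
    ψ c = algebraMap R Q (Bialgebra.counitAlgHom R C c) := by
  have h2 := HopfExt.augIdeal_sq_eq_of_formallyUnramified (Bialgebra.counitAlgHom R C)
  have hfg : (RingHom.ker (Bialgebra.counitAlgHom R C)).FG := IsNoetherian.noetherian _
  have hidem : IsIdempotentElem (RingHom.ker (Bialgebra.counitAlgHom R C)) := by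
    show RingHom.ker (Bialgebra.counitAlgHom R C) * RingHom.ker (Bialgebra.counitAlgHom R C) = _
    rw [← pow_two]; exact h2
  obtain ⟨f, hf, hIf⟩ := (Ideal.isIdempotentElem_iff_of_fg _ hfg).1 hidem
  have hfmem : f ∈ RingHom.ker (Bialgebra.counitAlgHom R C) := by
    rw [hIf]; exact Ideal.mem_span_singleton_self f
  have hψf : ψ f = 0 := by
    rcases UnitComp.idem_eq_zero_or_one (ψ f) (hf.map ψ) with h0 | h1
    · exact h0
    · exfalso
      have h3 := congrArg εQ h1
      rw [map_one, ← AlgHom.comp_apply, hψ] at h3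
      rw [RingHom.mem_ker] at hfmem
      rw [hfmem] at h3
      exact zero_ne_one h3
  have hmem : c - algebraMap R C (Bialgebra.counitAlgHom R C c) ∈
      RingHom.ker (Bialgebra.counitAlgHom R C) := by
    rw [RingHom.mem_ker, map_sub, AlgHom.commutes]
    exact sub_self _
  rw [hIf, Ideal.mem_span_singleton'] at hmem
  obtain ⟨y, hy⟩ := hmem
  have h4 := congrArg ψ hy
  rw [map_mul, hψf, mul_zero, map_sub, AlgHom.commutes] at h4
  exact (sub_eq_zero.1 h4.symm)

end triv

section etale

variable {R : Type u} [CommRing R] [Nontrivial R] {A : Type v} [CommRing A] [HopfAlgebra R A]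
  (e : A) [IsLocalRing (A ⧸ Ideal.span ({1 - e} : Set A))]
  {C : Type w} [CommRing C] [HopfAlgebra R C] [IsNoetherianRing C]
  [Algebra.FormallyUnramified R C]

/-- a homomorphism to an étale group is invariant under the unit component -/
theorem map_mem_equalizer (hε : Bialgebra.counitAlgHom R A e = 1) (φ : C →ₐc[R] A) (c : C) :
    φ c ∈ AlgHom.equalizer
      ((Algebra.TensorProduct.map (AlgHom.id R A)
        (Ideal.Quotient.mkₐ R (Ideal.span ({1 - e} : Set A)))).comp (Bialgebra.comulAlgHom R A))
      (Algebra.TensorProduct.includeLeft : A →ₐ[R] A ⊗[R] (A ⧸ Ideal.span ({1 - e} : Set A))) := by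
  set K := Ideal.span ({1 - e} : Set A) with hK
  rw [AlgHom.mem_equalizer]
  let ψ : C →ₐ[R] A ⧸ K := (Ideal.Quotient.mkₐ R K).comp (φ : C →ₐ[R] A)
  have hψ : (UnitComp.counitBar e hε).comp ψ = Bialgebra.counitAlgHom R C := by
    ext c
    show Bialgebra.counitAlgHom R A (φ c) = Bialgebra.counitAlgHom R C c
    exact CoalgHomClass.counit_comp_apply φ c
  have htriv : ∀ c : C, ψ c = algebraMap R (A ⧸ K) (Bialgebra.counitAlgHom R C c) :=
    eq_triv (UnitComp.counitBar e hε) ψ hψ
  have h1 : CoalgebraStruct.comul (R := R) (φ c) =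
      Algebra.TensorProduct.map (φ : C →ₐ[R] A) (φ : C →ₐ[R] A)
        (CoalgebraStruct.comul (R := R) c) := by
    have h := CoalgHomClass.map_comp_comul_apply φ c
    rw [← h]
    generalize CoalgebraStruct.comul (R := R) c = z
    induction z using TensorProduct.induction_on with
    | zero => simp
    | tmul x y => rfl
    | add x y hx hy => simp only [map_add, hx, hy]
  have h2 : ∀ z : C ⊗[R] C,
      Algebra.TensorProduct.map (AlgHom.id R A) (Ideal.Quotient.mkₐ R K)
        (Algebra.TensorProduct.map (φ : C →ₐ[R] A) (φ : C →ₐ[R] A) z) =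
      (φ (TensorProduct.rid R C
        (LinearMap.lTensor C (CoalgebraStruct.counit (R := R) (A := C)) z))) ⊗ₜ[R] (1 : A ⧸ K) := by
    intro z
    induction z using TensorProduct.induction_on with
    | zero => simp
    | tmul x y =>
      rw [Algebra.TensorProduct.map_tmul, Algebra.TensorProduct.map_tmul, AlgHom.id_apply,
        LinearMap.lTensor_tmul, TensorProduct.rid_tmul]
      have h3 : Ideal.Quotient.mkₐ R K ((φ : C →ₐ[R] A) y) = ψ y := rfl
      rw [h3, htriv, Algebra.algebraMap_eq_smul_one, TensorProduct.tmul_smul,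
        TensorProduct.smul_tmul', map_smul]
      rfl
    | add x y hx hy => simp only [map_add, TensorProduct.add_tmul, hx, hy]
  show Algebra.TensorProduct.map (AlgHom.id R A) (Ideal.Quotient.mkₐ R K)
    (CoalgebraStruct.comul (R := R) (φ c)) = (φ c) ⊗ₜ[R] (1 : A ⧸ K)
  rw [h1, h2, Coalgebra.lTensor_counit_comul, TensorProduct.rid_tmul, one_smul]

end etale

end Groth.Agent.Lib.Helper6.UnitCompUniv
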