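import Mathlib
import Groth.Agent.Lib.Helper13.ProjFormulaLF
import Groth.Agent.Lib.Helper13.TensorUnit
import Groth.Agent.Lib.Helper13.PushInv5

/-!
# The unit `E ⟶ f_* f^* E` is an isomorphism for finite locally free `E` when `O_Y ≅ f_* O_X`
-/

set_option autoImplicit false
set_option maxHeartbeats 400000
universe u
open CategoryTheory CategoryTheory.Limits AlgebraicGeometry Opposite TopologicalSpace TensorProduct
open Groth.Agent.Helper13.QCoh Groth.Agent.Helper13.FinType Groth.Agent.Helper13.LocFree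
open Groth.Agent.Helper13.Tensor Groth.Agent.Helper13.TensorFunctor
open Groth.Agent.Lead.HomSh Groth.Agent.Helper13.PbGen
open Groth.Agent.Helper13.StalkBasis Groth.Agent.Helper13.TensorFinLocFree
open Groth.Agent.Helper13.TensorBasisSec Groth.Agent.Helper13.ProjFormulaLF

namespace Groth.Agent.Helper6.UnitLF

variable {X Y : Scheme.{u}}

/-- the linear combination map on sections. -/
noncomputable def secComb (E : X.Modules) {n : ℕ} {U : X.Opens} (s : Fin n → Γ(E, U))
    (c : Fin n → Γ(X, U)) : Γ(E, U) := ∑ i, c i • s i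

theorem secComb_bijective (E : X.Modules) {n : ℕ} {U : X.Opens} (s : Fin n → Γ(E, U))
    (hb : ∀ (x : X) (hx : x ∈ U), IsBasisAt E s x hx) :
    Function.Bijective (secComb E s) := by
  have hT : Function.Bijective (tsum (Coh.structureModule X) E s (le_refl U)) :=
    ⟨tsum_injective _ E s _ hb, tsum_surjective _ E s _ hb⟩
  have hL : Function.Bijective ((lidHom E).app U) :=
    (ConcreteCategory.isIso_iff_bijective _).1 inferInstance
  have hcomp : secComb E s = (⇑(ConcreteCategory.hom ((lidHom E).app U))) ∘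
      (tsum (Coh.structureModule X) E s (le_refl U)) := by
    funext c
    unfold secComb Groth.Agent.Helper13.TensorBasisSec.tsum
    rw [Function.comp_apply, map_sum]
    refine Finset.sum_congr rfl (fun i _ => ?_)
    rw [lidHom_app_tmul, map_self]
  rw [hcomp]
  exact hL.comp hT

variable (f : X ⟶ Y) (E : Y.Modules)

lemma unit_secComb {n : ℕ} {W : Y.Opens} (s : Fin n → Γ(E, W)) (c : Fin n → Γ(Y, W)) :
    ηsec f E W (secComb E s c) =
      secComb ((Scheme.Modules.pullback f).obj E) (pullSec f E s) (fun i => f.app W (c i)) := by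
  unfold secComb
  have h1 : ηsec f E W (∑ i, c i • s i) = ∑ i, ηsec f E W (c i • s i) := by
    unfold ηsec
    exact map_sum _ _ _
  rw [h1]
  refine Finset.sum_congr rfl (fun i _ => ?_)
  rw [ηsec_smul]
  rfl

theorem unit_app_bijective (hE : FlatMod.IsFinLocFree E)
    (hf : ∀ V : Y.Opens, Function.Bijective (f.app V))
    {W : Y.Opens} {n : ℕ} (s : Fin n → Γ(E, W))
    (hb : ∀ (y : Y) (hy : y ∈ W), IsBasisAt E s y hy) :
    Function.Bijective ((ηA f E).app W) := by
  have hY := secComb_bijective E s hb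
  have hb' : ∀ (x : X) (hx : x ∈ f ⁻¹ᵁ W),
      IsBasisAt ((Scheme.Modules.pullback f).obj E) (pullSec f E s) x hx :=
    fun x hx => isBasisAt_pullSec f E hE s x hx (hb (f x) hx)
  have hX := secComb_bijective ((Scheme.Modules.pullback f).obj E) (pullSec f E s) hb'
  have hφ : Function.Bijective
      (fun (c : Fin n → Γ(Y, W)) (i : Fin n) => (f.app W (c i) : Γ(X, f ⁻¹ᵁ W))) := by
    constructor
    · intro c d h
      funext i
      exact (hf W).1 (congrFun h i)
    · intro d
      choose c hc using fun i => (hf W).2 (d i)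
      exact ⟨c, funext hc⟩
  refine (Function.Bijective.of_comp_iff _ hY).1 ?_
  have : (⇑(ConcreteCategory.hom ((ηA f E).app W))) ∘ secComb E s =
      secComb ((Scheme.Modules.pullback f).obj E) (pullSec f E s) ∘
        (fun (c : Fin n → Γ(Y, W)) (i : Fin n) => (f.app W (c i) : Γ(X, f ⁻¹ᵁ W))) := by
    funext c
    exact unit_secComb f E s c
  rw [this]
  exact hX.comp hφ

/-- for a finite locally free `E` on `Y` and `f : X ⟶ Y` with `O_Y(V) ≅ O_X(f⁻¹V)` for all `V`,
the unit `E ⟶ f_* f^* E` is an isomorphism. -/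
theorem isIso_unit (hE : FlatMod.IsFinLocFree E)
    (hf : ∀ V : Y.Opens, Function.Bijective (f.app V)) :
    IsIso ((Scheme.Modules.pullbackPushforwardAdjunction f).unit.app E) := by
  let B : Set Y.Opens := {W | ∃ (n : ℕ) (s : Fin n → Γ(E, W)),
    ∀ (y : Y) (hy : y ∈ W), IsBasisAt E s y hy}
  have hB : Opens.IsBasis B := by
    rw [Opens.isBasis_iff_nbhd]
    intro O y hy
    obtain ⟨V, n, s, hyV, hb⟩ := exists_isBasisAt_of_isFinLocFree E hE y
    refine ⟨V ⊓ O, ⟨n, fun i => E.presheaf.map (homOfLE (inf_le_left : V ⊓ O ≤ V)).op (s i),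
      fun z hz => ?_⟩, ⟨hyV, hy⟩, inf_le_right⟩
    exact (isBasisAt_res E (homOfLE (inf_le_left : V ⊓ O ≤ V)) s z hz).2 (hb z hz.1)
  apply isIso_of_app_bijective_of_isBasis _ hB
  rintro W ⟨n, s, hb⟩
  exact unit_app_bijective f E hE hf s hb

theorem app_bijective_of_isIso_unitToPush (h : IsIso (ClSub.unitToPush f)) (V : Y.Opens) :
    Function.Bijective (f.app V) := by
  have h1 : IsIso ((ClSub.unitToPush f).app V) := Scheme.Modules.Hom.isIso_iff_isIso_app.1 h V
  have h2 := (ConcreteCategory.isIso_iff_bijective _).1 h1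
  exact h2

/-- the unit `L ⟶ f_* f^* L` is an isomorphism for invertible `L` when `O_Y ≅ f_* O_X`. -/
theorem isIso_unit_of_isInvertible (h : IsIso (ClSub.unitToPush f)) (L : Y.Modules)
    (hL : PicF.IsInvertible L) :
    IsIso ((Scheme.Modules.pullbackPushforwardAdjunction f).unit.app L) :=
  isIso_unit f L (Groth.Agent.Helper13.PushInv.isFinLocFree_of_isInvertible L hL)
    (app_bijective_of_isIso_unitToPush f h)

end Groth.Agent.Helper6.UnitLF
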