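import Mathlib

/-!
# Veronese generation for ℕ-graded rings of finite type over degree zero

For an ℕ-graded commutative ring `B = ⊕ ℬ n` of finite type over `ℬ 0` there is `e > 0` such that
for every positive multiple `d` of `e`: `ℬ (n d) = (ℬ d)^n` for `n > 0` and `ℬ d` is finitely
generated over `ℬ 0` (EGA II 2.1.6 (v), Bourbaki AC III §1 Prop. 3).
-/

set_option autoImplicit false
open scoped Pointwise

namespace Groth.Agent.Helper6.VeroGen

variable {B : Type*} [CommRing B] (ℬ : ℕ → AddSubgroup B) [GradedRing ℬ]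

/-- graded piece as a `ℤ`-submodule -/
abbrev P (n : ℕ) : Submodule ℤ B := AddSubgroup.toIntSubmodule (ℬ n)

theorem P_mul_le (i j : ℕ) : P ℬ i * P ℬ j ≤ P ℬ (i + j) := by
  rw [Submodule.mul_le]
  intro a ha b hb
  exact SetLike.mul_mem_graded (A := ℬ) ha hb

theorem P_pow_le (i k : ℕ) : P ℬ i ^ k ≤ P ℬ (k * i) := by
  induction k with
  | zero =>
    rw [pow_zero, zero_mul, Submodule.one_le]
    exact (SetLike.GradedOne.one_mem : (1 : B) ∈ ℬ 0)
  | succ k ih =>
    rw [pow_succ, Nat.succ_mul]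
    exact (mul_le_mul' ih le_rfl).trans (P_mul_le ℬ _ _)

/-- Generation principle: a multiplicative family of submodules containing degree zero and a set
of homogeneous algebra generators contains every graded piece. -/
theorem le_of_gen (N : ℕ → Submodule ℤ B) (h0 : ∀ c ∈ ℬ 0, c ∈ N 0)
    (hmul : ∀ i j, N i * N j ≤ N (i + j)) (s : Set B)
    (hs : Algebra.adjoin (ℬ 0) s = ⊤) (hsN : ∀ x ∈ s, ∃ n, x ∈ ℬ n ∧ x ∈ N n) (n : ℕ) :
    P ℬ n ≤ N n := by
  classical
  let Q : Subalgebra (ℬ 0) B :=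
    { carrier := {y | ∀ m, (DirectSum.decompose ℬ y m : B) ∈ N m}
      mul_mem' := by
        intro a b ha hb m
        rw [DirectSum.decompose_mul, DirectSum.coe_mul_apply_eq_sum_antidiagonal]
        refine Submodule.sum_mem _ ?_
        rintro ⟨i, j⟩ hij
        have hij : i + j = m := Finset.HasAntidiagonal.mem_antidiagonal.mp hij
        subst hij
        exact hmul i j (Submodule.mul_mem_mul (ha i) (hb j))
      add_mem' := by
        intro a b ha hb m
        rw [DirectSum.decompose_add, DirectSum.add_apply, AddMemClass.coe_add]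
        exact add_mem (ha m) (hb m)
      algebraMap_mem' := by
        intro c m
        show (DirectSum.decompose ℬ (c : B) m : B) ∈ N m
        by_cases hm : m = 0
        · subst hm
          rw [DirectSum.decompose_of_mem_same ℬ c.2]
          exact h0 _ c.2
        · rw [DirectSum.decompose_of_mem_ne ℬ c.2 (Ne.symm hm)]
          exact zero_mem _ }
  have hQ : ∀ x : B, x ∈ Q := by
    intro x
    have hx : x ∈ Algebra.adjoin (ℬ 0) s := by rw [hs]; trivial
    refine Algebra.adjoin_le ?_ hx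
    intro y hy m
    obtain ⟨k, hk, hkN⟩ := hsN y hy
    by_cases hm : m = k
    · subst hm
      rw [DirectSum.decompose_of_mem_same ℬ hk]; exact hkN
    · rw [DirectSum.decompose_of_mem_ne ℬ hk (Ne.symm hm)]; exact zero_mem _
  intro x hx
  have := hQ x n
  rwa [DirectSum.decompose_of_mem_same ℬ hx] at this

section Mon

variable {ι : Type*} [Fintype ι] (f : ι → B) (h : ι → ℕ)

/-- monomial in the generators -/
def mon (a : ι → ℕ) : B := ∏ i, f i ^ a i

/-- weighted degree -/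
def wdeg (a : ι → ℕ) : ℕ := ∑ i, a i * h i

theorem mon_zero : mon f 0 = 1 := by simp [mon]

theorem wdeg_zero : wdeg h 0 = 0 := by simp [wdeg]

theorem mon_add (a a' : ι → ℕ) : mon f (a + a') = mon f a * mon f a' := by
  simp [mon, pow_add, Finset.prod_mul_distrib]

theorem wdeg_add (a a' : ι → ℕ) : wdeg h (a + a') = wdeg h a + wdeg h a' := by
  simp [wdeg, add_mul, Finset.sum_add_distrib]

theorem mon_single [DecidableEq ι] (i : ι) (r : ℕ) : mon f (Pi.single i r) = f i ^ r := by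
  unfold mon
  rw [Finset.prod_eq_single i]
  · rw [Pi.single_eq_same]
  · intro j _ hj; rw [Pi.single_eq_of_ne hj, pow_zero]
  · intro hi; exact absurd (Finset.mem_univ i) hi

theorem wdeg_single [DecidableEq ι] (i : ι) (r : ℕ) : wdeg h (Pi.single i r) = r * h i := by
  unfold wdeg
  rw [Finset.sum_eq_single i]
  · rw [Pi.single_eq_same]
  · intro j _ hj; rw [Pi.single_eq_of_ne hj, zero_mul]
  · intro hi; exact absurd (Finset.mem_univ i) hi

theorem mon_mem (hf : ∀ i, f i ∈ ℬ (h i)) (a : ι → ℕ) : mon f a ∈ ℬ (wdeg h a) := by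
  have := SetLike.prod_pow_mem_graded ℬ h f a (F := Finset.univ) (fun k _ => hf k)
  simpa [mon, wdeg, smul_eq_mul] using this

theorem le_wdeg (hh : ∀ i, 0 < h i) (a : ι → ℕ) (i : ι) : a i ≤ wdeg h a :=
  calc a i ≤ a i * h i := Nat.le_mul_of_pos_right _ (hh i)
    _ ≤ wdeg h a := Finset.single_le_sum (f := fun i => a i * h i)
        (fun _ _ => Nat.zero_le _) (Finset.mem_univ i)

/-- the `ℬ 0`-span of the monomials of weighted degree `n` -/
def N (n : ℕ) : Submodule ℤ B :=
  Submodule.span ℤ {y | ∃ c ∈ ℬ 0, ∃ a : ι → ℕ, wdeg h a = n ∧ y = c * mon f a}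

theorem P_le_N (hf : ∀ i, f i ∈ ℬ (h i)) (hgen : Algebra.adjoin (ℬ 0) (Set.range f) = ⊤)
    (n : ℕ) : P ℬ n ≤ N ℬ f h n := by
  classical
  refine le_of_gen ℬ (N ℬ f h) ?_ ?_ (Set.range f) hgen ?_ n
  · intro c hc
    exact Submodule.subset_span ⟨c, hc, 0, wdeg_zero h, by rw [mon_zero, mul_one]⟩
  · intro i j
    unfold N
    rw [Submodule.span_mul_span]
    refine Submodule.span_mono ?_
    rintro _ ⟨y1, ⟨c1, hc1, a1, ha1, rfl⟩, y2, ⟨c2, hc2, a2, ha2, rfl⟩, rfl⟩
    refine ⟨c1 * c2, ?_, a1 + a2, by rw [wdeg_add, ha1, ha2], by rw [mon_add]; ring⟩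
    have := SetLike.mul_mem_graded (A := ℬ) hc1 hc2
    rwa [add_zero] at this
  · rintro _ ⟨i, rfl⟩
    exact ⟨h i, hf i, Submodule.subset_span ⟨1, SetLike.GradedOne.one_mem, Pi.single i 1,
      by rw [wdeg_single, one_mul], by rw [mon_single, pow_one, one_mul]⟩⟩

theorem finite_wdeg (hh : ∀ i, 0 < h i) (d : ℕ) : {a : ι → ℕ | wdeg h a = d}.Finite := by
  refine (Set.Finite.pi (fun _ : ι => Set.finite_Iic d)).subset ?_
  intro a ha i _
  have ha' : wdeg h a = d := ha
  rw [Set.mem_Iic, ← ha']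
  exact le_wdeg h hh a i

theorem exists_T (hf : ∀ i, f i ∈ ℬ (h i)) (hh : ∀ i, 0 < h i)
    (hgen : Algebra.adjoin (ℬ 0) (Set.range f) = ⊤) (d : ℕ) :
    ∃ T : Finset B, (↑T : Set B) ⊆ (ℬ d : Set B) ∧
      P ℬ d = P ℬ 0 * Submodule.span ℤ (↑T : Set B) := by
  classical
  have hfin := (finite_wdeg h hh d).image (mon f)
  have hsub : ∀ y ∈ (mon f) '' {a : ι → ℕ | wdeg h a = d}, y ∈ ℬ d := by
    rintro _ ⟨a, ha, rfl⟩
    have ha' : wdeg h a = d := ha
    rw [← ha']; exact mon_mem ℬ f h hf a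
  refine ⟨hfin.toFinset, ?_, le_antisymm ?_ ?_⟩
  · rw [Set.Finite.coe_toFinset]
    exact hsub
  · refine (P_le_N ℬ f h hf hgen d).trans ?_
    unfold N
    rw [Submodule.span_le]
    rintro _ ⟨c, hc, a, ha, rfl⟩
    refine Submodule.mul_mem_mul hc (Submodule.subset_span ?_)
    rw [Set.Finite.coe_toFinset]
    exact ⟨a, ha, rfl⟩
  · have h1 : Submodule.span ℤ (↑hfin.toFinset : Set B) ≤ P ℬ d := by
      rw [Submodule.span_le, Set.Finite.coe_toFinset]
      exact hsub
    calc P ℬ 0 * Submodule.span ℤ (↑hfin.toFinset : Set B) ≤ P ℬ 0 * P ℬ d :=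
          mul_le_mul' le_rfl h1
      _ ≤ P ℬ (0 + d) := P_mul_le ℬ 0 d
      _ = P ℬ d := by rw [zero_add]

theorem step (hf : ∀ i, f i ∈ ℬ (h i)) (hh : ∀ i, 0 < h i)
    (hgen : Algebra.adjoin (ℬ 0) (Set.range f) = ⊤) (q : ℕ) (hq : 0 < q)
    (hdiv : ∀ i, h i ∣ q) (n : ℕ) (hn : Fintype.card ι * q ≤ n) :
    P ℬ (n + q) ≤ P ℬ q * P ℬ n := by
  classical
  refine (P_le_N ℬ f h hf hgen (n + q)).trans ?_
  unfold N
  rw [Submodule.span_le]
  rintro _ ⟨c, hc, a, ha, rfl⟩
  have hex : ∃ i, q ≤ a i * h i := by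
    by_contra hcon
    push Not at hcon
    have h1 : wdeg h a ≤ Fintype.card ι * (q - 1) := by
      unfold wdeg
      calc ∑ i, a i * h i ≤ ∑ _i : ι, (q - 1) :=
            Finset.sum_le_sum fun i _ => by have := hcon i; omega
        _ = Fintype.card ι * (q - 1) := by simp [Finset.card_univ]
    have h2 : Fintype.card ι * (q - 1) ≤ Fintype.card ι * q :=
      Nat.mul_le_mul_left _ (Nat.sub_le _ _)
    omega
  obtain ⟨i, hi⟩ := hex
  obtain ⟨r, hr⟩ := hdiv i
  have hq' : r * h i = q := by rw [hr, mul_comm]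
  have hra : r ≤ a i := by
    have : r * h i ≤ a i * h i := by rw [hq']; exact hi
    exact Nat.le_of_mul_le_mul_right this (hh i)
  obtain ⟨a', ha'def⟩ : ∃ a' : ι → ℕ, a' = a - Pi.single i r := ⟨_, rfl⟩
  have haa : a = a' + Pi.single i r := by
    funext j
    by_cases hj : j = i
    · subst hj
      simp only [ha'def, Pi.add_apply, Pi.sub_apply, Pi.single_eq_same]
      omega
    · simp only [ha'def, Pi.add_apply, Pi.sub_apply, Pi.single_eq_of_ne hj]
      omega
  have hw : wdeg h a' = n := by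
    have := congrArg (wdeg h) haa
    rw [wdeg_add, wdeg_single, ha] at this
    omega
  have hmon : c * mon f a = f i ^ r * (c * mon f a') := by
    conv_lhs => rw [haa]
    rw [mon_add, mon_single]; ring
  rw [hmon]
  refine Submodule.mul_mem_mul ?_ ?_
  · have := SetLike.pow_mem_graded (A := ℬ) r (hf i)
    rw [smul_eq_mul, hq'] at this
    exact this
  · have := SetLike.mul_mem_graded (A := ℬ) hc (mon_mem ℬ f h hf a')
    rwa [zero_add, hw] at this

theorem step_iter (hf : ∀ i, f i ∈ ℬ (h i)) (hh : ∀ i, 0 < h i)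
    (hgen : Algebra.adjoin (ℬ 0) (Set.range f) = ⊤) (q : ℕ) (hq : 0 < q)
    (hdiv : ∀ i, h i ∣ q) (n' : ℕ) (hn' : Fintype.card ι * q ≤ n') (j : ℕ) :
    P ℬ (n' + j * q) ≤ P ℬ q ^ j * P ℬ n' := by
  induction j with
  | zero => rw [zero_mul, add_zero, pow_zero, one_mul]
  | succ j ih =>
    have e : n' + (j + 1) * q = (n' + j * q) + q := by ring
    rw [e, pow_succ', mul_assoc]
    exact (step ℬ f h hf hh hgen q hq hdiv _ (le_trans hn' (Nat.le_add_right _ _))).trans
      (mul_le_mul' le_rfl ih)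

theorem veronese (hf : ∀ i, f i ∈ ℬ (h i)) (hh : ∀ i, 0 < h i)
    (hgen : Algebra.adjoin (ℬ 0) (Set.range f) = ⊤) (q : ℕ) (hq : 0 < q)
    (hdiv : ∀ i, h i ∣ q) (k : ℕ) (hd : Fintype.card ι * q ≤ k * q)
    (n : ℕ) (hn : 0 < n) : P ℬ (n * (k * q)) = P ℬ (k * q) ^ n := by
  refine le_antisymm ?_ (P_pow_le ℬ (k * q) n)
  induction n with
  | zero => omega
  | succ n ih =>
    rcases Nat.eq_zero_or_pos n with rfl | hn0
    · rw [zero_add, one_mul, pow_one]
    · have e : (n + 1) * (k * q) = n * (k * q) + k * q := by ring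
      rw [e, pow_succ']
      have h1 : Fintype.card ι * q ≤ n * (k * q) :=
        le_trans hd (Nat.le_mul_of_pos_left _ hn0)
      calc P ℬ (n * (k * q) + k * q) ≤ P ℬ q ^ k * P ℬ (n * (k * q)) :=
            step_iter ℬ f h hf hh hgen q hq hdiv (n * (k * q)) h1 k
        _ ≤ P ℬ (k * q) * P ℬ (k * q) ^ n := mul_le_mul' (P_pow_le ℬ q k) (ih hn0)

end Mon

/-- Main ring-level theorem. -/
theorem main [Algebra.FiniteType (ℬ 0) B] : ∃ e : ℕ, 0 < e ∧ ∀ m : ℕ, 0 < m →
    (∀ n : ℕ, 0 < n → P ℬ (n * (m * e)) = P ℬ (m * e) ^ n) ∧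
    ∃ T : Finset B, (↑T : Set B) ⊆ (ℬ (m * e) : Set B) ∧
      P ℬ (m * e) = P ℬ 0 * Submodule.span ℤ (↑T : Set B) := by
  classical
  obtain ⟨s, hs, hdeg⟩ := GradedAlgebra.exists_finset_adjoin_eq_top_and_homogeneous_ne_zero ℬ
  choose! h hh using hdeg
  have hf : ∀ i : s, (i : B) ∈ ℬ (h i) := fun i => (hh i i.2).2
  have hh' : ∀ i : s, 0 < h i := fun i => Nat.pos_of_ne_zero (hh i i.2).1
  have hgen : Algebra.adjoin (ℬ 0) (Set.range (Subtype.val : s → B)) = ⊤ := by
    rw [Subtype.range_coe]; exact hs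
  obtain ⟨q, hqdef⟩ : ∃ q : ℕ, q = ∏ i : s, h i := ⟨_, rfl⟩
  have hq : 0 < q := by rw [hqdef]; exact Finset.prod_pos fun i _ => hh' i
  have hdiv : ∀ i : s, h i ∣ q := fun i => by
    rw [hqdef]; exact Finset.dvd_prod_of_mem (fun i : s => h i) (Finset.mem_univ i)
  refine ⟨q * (Fintype.card s + 1), by positivity, fun m hm => ⟨?_, ?_⟩⟩
  · intro n hn
    have e : m * (q * (Fintype.card s + 1)) = (m * (Fintype.card s + 1)) * q := by ring
    rw [e]
    refine veronese ℬ (Subtype.val : s → B) (fun i : s => h i) hf hh' hgen q hq hdiv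
      (m * (Fintype.card s + 1)) ?_ n hn
    refine Nat.mul_le_mul_right q ?_
    nlinarith [hm, Nat.zero_le (Fintype.card s)]
  · exact exists_T ℬ (Subtype.val : s → B) (fun i : s => h i) hf hh' hgen _

/-- finite type over a ring mapping into degree zero implies finite type over degree zero -/
theorem finiteType_zero {A : Type*} [CommRing A] (φ : A →+* B) (hφ : ∀ a, φ a ∈ ℬ 0)
    (hft : φ.FiniteType) : Algebra.FiniteType (ℬ 0) B := by
  letI := φ.toAlgebra
  have hft' : Algebra.FiniteType A B := hft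
  obtain ⟨t, ht⟩ := hft'.out
  refine ⟨⟨t, ?_⟩⟩
  have key : ∀ x, x ∈ Algebra.adjoin A (t : Set B) → x ∈ Algebra.adjoin (ℬ 0) (t : Set B) := by
    intro x hx
    induction hx using Algebra.adjoin_induction with
    | mem y hy => exact Algebra.subset_adjoin hy
    | algebraMap a =>
      exact Subalgebra.algebraMap_mem (Algebra.adjoin (ℬ 0) (t : Set B)) ⟨φ a, hφ a⟩
    | add y z _ _ hy hz => exact add_mem hy hz
    | mul y z _ _ hy hz => exact mul_mem hy hz
  rw [eq_top_iff]
  intro x _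
  exact key x (by rw [ht]; trivial)

end Groth.Agent.Helper6.VeroGen
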