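import Groth.Agent.Lib.Helper6.VeroneseB
import Groth.Agent.Lib.Helper6.GrModComapA

/-!
# Veronese-type morphisms `Proj 𝒜 ⟶ Proj ℬ` on structure sheaves (helper6)

For `φ : B →+* A` with `φ (ℬ n) ⊆ 𝒜 (n * d)` and a morphism `h : Proj 𝒜 ⟶ Proj ℬ` given chartwise by
`theta` (`hchart`) and on points by `φ⁻¹` (`hcomap`): the compatibility of `h.appLE` with
`awayToSection` and the pointwise formula `ev_app` for `h.app U r`.
-/

set_option autoImplicit false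
set_option linter.style.haveILetI false
set_option linter.unusedSectionVars false

namespace Groth.Agent.Helper6.VeroSheaf

open AlgebraicGeometry CategoryTheory HomogeneousLocalization Limits Opposite TopologicalSpace
open Groth.Agent.Helper6.Veronese

universe u

variable {A B : Type u} [CommRing A] [CommRing B]
variable {σ τ : Type u} [SetLike σ A] [AddSubgroupClass σ A] [SetLike τ B] [AddSubgroupClass τ B]
variable (𝒜 : ℕ → σ) [GradedRing 𝒜] (ℬ : ℕ → τ) [GradedRing ℬ]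
variable (d : ℕ) (φ : B →+* A) (hd : 0 < d) (hφd : ∀ n b, b ∈ ℬ n → φ b ∈ 𝒜 (n * d))
variable (h : Proj 𝒜 ⟶ Proj ℬ)
  (hchart : ∀ (n : ℕ) (g : B) (hn : 0 < n) (hg : g ∈ ℬ n),
    Proj.awayι 𝒜 (φ g) (hφd n g hg) (Nat.mul_pos hn hd) ≫ h =
      Spec.map (CommRingCat.ofHom (theta 𝒜 ℬ d φ hφd g)) ≫ Proj.awayι ℬ g hg hn)
  (hcomap : ∀ y : Proj 𝒜,
    (h.base y).asHomogeneousIdeal.toIdeal = Ideal.comap φ y.asHomogeneousIdeal.toIdeal)

include hcomap in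
theorem preimage_basicOpen (b : B) : h ⁻¹ᵁ Proj.basicOpen ℬ b = Proj.basicOpen 𝒜 (φ b) := by
  refine Opens.ext (Set.ext fun y => ?_)
  show b ∉ (h.base y).asHomogeneousIdeal.toIdeal ↔ φ b ∉ y.asHomogeneousIdeal.toIdeal
  rw [hcomap y, Ideal.mem_comap]

include hchart in
theorem awayToSection_comp_appLE {n : ℕ} (hn : 0 < n) {g : B} (hg : g ∈ ℬ n)
    (e : Proj.basicOpen 𝒜 (φ g) ≤ h ⁻¹ᵁ Proj.basicOpen ℬ g) :
    Proj.awayToSection ℬ g ≫ h.appLE (Proj.basicOpen ℬ g) (Proj.basicOpen 𝒜 (φ g)) e =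
      CommRingCat.ofHom (theta 𝒜 ℬ d φ hφd g) ≫ Proj.awayToSection 𝒜 (φ g) := by
  have hφg := hφd n g hg
  have hpos := Nat.mul_pos hn hd
  have hc := hchart n g hn hg
  have h1 : h.resLE (Proj.basicOpen ℬ g) (Proj.basicOpen 𝒜 (φ g)) e ≫ Proj.basicOpenToSpec ℬ g =
      Proj.basicOpenToSpec 𝒜 (φ g) ≫ Spec.map (CommRingCat.ofHom (theta 𝒜 ℬ d φ hφd g)) := by
    rw [← Proj.basicOpenIsoSpec_hom ℬ g hg hn, ← Proj.basicOpenIsoSpec_hom 𝒜 (φ g) hφg hpos,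
      ← Iso.inv_comp_eq, ← Category.assoc, ← Iso.eq_comp_inv]
    rw [← cancel_mono (Proj.basicOpen ℬ g).ι, Category.assoc, Category.assoc,
      Scheme.Hom.resLE_comp_ι]
    exact hc
  have h2 := congrArg Scheme.Hom.appTop h1
  rw [Scheme.Hom.comp_appTop, Scheme.Hom.comp_appTop] at h2
  simp only [Proj.basicOpenToSpec_app_top, Scheme.Hom.resLE_app_top, Category.assoc,
    Iso.inv_hom_id_assoc, Scheme.ΓSpecIso_naturality_assoc] at h2
  have h3 := (cancel_epi _).mp h2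
  simp only [← Category.assoc] at h3
  have h4 := (cancel_mono _).mp h3
  simpa only [Category.assoc] using h4

/-- value of a section of the structure sheaf of `Proj` at a point -/
def ev {U : (Proj 𝒜).Opens} (s : Γ(Proj 𝒜, U)) (y : Proj 𝒜) (hy : y ∈ U) : GrTwist.A0 𝒜 y :=
  (show GrTwist.O (𝒜 := 𝒜) (op U) from s).1 ⟨y, hy⟩

theorem ev_map {U V : (Proj 𝒜).Opens} (i : op U ⟶ op V) (s : Γ(Proj 𝒜, U)) (y : Proj 𝒜)
    (hy : y ∈ V) :
    ev 𝒜 ((Proj 𝒜).presheaf.map i s) y hy = ev 𝒜 s y (i.unop.le hy) := rfl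

theorem ev_awayToSection {f : A} (z : Away 𝒜 f) (y : Proj 𝒜) (hy : y ∈ Proj.basicOpen 𝒜 f) :
    ev 𝒜 ((Proj.awayToSection 𝒜 f).hom z) y hy =
      HomogeneousLocalization.mapId 𝒜 (Submonoid.powers_le.mpr hy) z := rfl

/-- the localization of `φ` at a point. -/
noncomputable def locMap (y : Proj 𝒜) : GrTwist.Loc ℬ (h.base y) →+* GrTwist.Loc 𝒜 y :=
  Localization.localRingHom _ _ φ (hcomap y)

include hcomap in
theorem phi_mem_primeCompl (y : Proj 𝒜) {s : B}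
    (hs : s ∈ (h.base y).asHomogeneousIdeal.toIdeal.primeCompl) :
    φ s ∈ y.asHomogeneousIdeal.toIdeal.primeCompl := fun hmem =>
  hs ((congrArg (fun I : Ideal B => s ∈ I) (hcomap y)).mpr hmem)

theorem locMap_mk (y : Proj 𝒜) (b : B) (s : (h.base y).asHomogeneousIdeal.toIdeal.primeCompl) :
    locMap 𝒜 ℬ φ h hcomap y (Localization.mk b s) =
      Localization.mk (φ b) ⟨φ (s : B), phi_mem_primeCompl 𝒜 ℬ φ h hcomap y s.2⟩ := by
  rw [Localization.mk_eq_mk', Localization.mk_eq_mk']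
  exact Localization.localRingHom_mk' _ _ _ _ b s

include hd hchart in
set_option maxHeartbeats 1600000 in
theorem ev_app (U : (Proj ℬ).Opens) (r : Γ(Proj ℬ, U)) (y : Proj 𝒜) (hy : y ∈ h ⁻¹ᵁ U) :
    (ev 𝒜 ((h.app U).hom r) y hy).val =
      locMap 𝒜 ℬ φ h hcomap y ((ev ℬ r (h.base y) hy).val) := by
  classical
  obtain ⟨W, hyW, iWU, j, ⟨a, ha⟩, ⟨b, hb⟩, hbW, hfrac⟩ :=
    (show GrTwist.O (𝒜 := ℬ) (op U) from r).2 ⟨h.base y, hy⟩
  obtain ⟨m', t, hm', ht, hty⟩ := VeroneseB.exists_pos_not_mem ℬ (h.base y)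
  have hby : b ∉ (h.base y).asHomogeneousIdeal := hbW ⟨h.base y, hyW⟩
  have hg : b * t ∈ ℬ (j + m') := SetLike.mul_mem_graded hb ht
  have hjm : 0 < j + m' := Nat.add_pos_right j hm'
  have hgy : b * t ∉ (h.base y).asHomogeneousIdeal := fun hmem =>
    ((h.base y).isPrime.mem_or_mem hmem).elim hby hty
  have hat : a * t ∈ ℬ (1 • (j + m')) := by
    rw [one_smul]; exact SetLike.mul_mem_graded ha ht
  obtain ⟨z, hz⟩ : ∃ z : Away ℬ (b * t), z = Away.mk ℬ hg 1 (a * t) hat := ⟨_, rfl⟩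
  obtain ⟨W', hW'⟩ : ∃ W' : (Proj ℬ).Opens, W' = W ⊓ Proj.basicOpen ℬ (b * t) := ⟨_, rfl⟩
  have hyW' : h.base y ∈ W' := by rw [hW']; exact ⟨hyW, hgy⟩
  have hW'W : W' ≤ W := by rw [hW']; exact inf_le_left
  have hW'U : W' ≤ U := hW'W.trans iWU.le
  have hW'g : W' ≤ Proj.basicOpen ℬ (b * t) := by rw [hW']; exact inf_le_right
  have c1 : (Proj ℬ).presheaf.map (homOfLE hW'U).op r =
      (Proj ℬ).presheaf.map (homOfLE hW'g).op ((Proj.awayToSection ℬ (b * t)).hom z) := by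
    refine Subtype.ext (funext fun x => ?_)
    show (show GrTwist.O (𝒜 := ℬ) (op U) from r).1 ⟨x.1, hW'U x.2⟩ =
      HomogeneousLocalization.mapId ℬ (Submonoid.powers_le.mpr (hW'g x.2)) z
    refine Eq.trans (hfrac ⟨x.1, hW'W x.2⟩) ?_
    apply HomogeneousLocalization.val_injective
    rw [hz]
    show Localization.mk a _ = Localization.mk (a * t) _
    rw [Localization.mk_eq_mk_iff, Localization.r_iff_exists]
    refine ⟨1, ?_⟩
    simp only [OneMemClass.coe_one, one_mul, pow_one, GradedRingHom.id_apply]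
    ring
  have hyT : y ∈ h ⁻¹ᵁ W' := hyW'
  have hTU : h ⁻¹ᵁ W' ≤ h ⁻¹ᵁ U := fun _ hx => hW'U hx
  have hTg : h ⁻¹ᵁ W' ≤ h ⁻¹ᵁ Proj.basicOpen ℬ (b * t) := fun _ hx => hW'g hx
  have hpre := preimage_basicOpen 𝒜 ℬ φ h hcomap (b * t)
  have e : Proj.basicOpen 𝒜 (φ (b * t)) ≤ h ⁻¹ᵁ Proj.basicOpen ℬ (b * t) := hpre.ge
  have hTφ : h ⁻¹ᵁ W' ≤ Proj.basicOpen 𝒜 (φ (b * t)) := hTg.trans hpre.le
  have s2 : (h.appLE U (h ⁻¹ᵁ W') hTU).hom r =
      (h.appLE W' (h ⁻¹ᵁ W') le_rfl).hom ((Proj ℬ).presheaf.map (homOfLE hW'U).op r) :=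
    (congrArg (fun k => k.hom r)
      (Scheme.Hom.map_appLE h (le_rfl : h ⁻¹ᵁ W' ≤ h ⁻¹ᵁ W') (homOfLE hW'U).op)).symm
  have s4 : (h.appLE W' (h ⁻¹ᵁ W') le_rfl).hom
      ((Proj ℬ).presheaf.map (homOfLE hW'g).op ((Proj.awayToSection ℬ (b * t)).hom z)) =
      (h.appLE (Proj.basicOpen ℬ (b * t)) (h ⁻¹ᵁ W') hTg).hom
        ((Proj.awayToSection ℬ (b * t)).hom z) :=
    congrArg (fun k => k.hom ((Proj.awayToSection ℬ (b * t)).hom z))
      (Scheme.Hom.map_appLE h (le_rfl : h ⁻¹ᵁ W' ≤ h ⁻¹ᵁ W') (homOfLE hW'g).op)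
  have s5 : (h.appLE (Proj.basicOpen ℬ (b * t)) (h ⁻¹ᵁ W') hTg).hom
        ((Proj.awayToSection ℬ (b * t)).hom z) =
      ((Proj 𝒜).presheaf.map (homOfLE hTφ).op).hom
        ((h.appLE (Proj.basicOpen ℬ (b * t)) (Proj.basicOpen 𝒜 (φ (b * t))) e).hom
          ((Proj.awayToSection ℬ (b * t)).hom z)) :=
    (congrArg (fun k => k.hom ((Proj.awayToSection ℬ (b * t)).hom z))
      (Scheme.Hom.appLE_map h e (homOfLE hTφ).op)).symm
  have s6 : (h.appLE (Proj.basicOpen ℬ (b * t)) (Proj.basicOpen 𝒜 (φ (b * t))) e).hom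
        ((Proj.awayToSection ℬ (b * t)).hom z) =
      (Proj.awayToSection 𝒜 (φ (b * t))).hom (theta 𝒜 ℬ d φ hφd (b * t) z) :=
    congrArg (fun k => k.hom z) (awayToSection_comp_appLE 𝒜 ℬ d φ hd hφd h hchart hjm hg e)
  have key : ev 𝒜 ((h.app U).hom r) y hy =
      HomogeneousLocalization.mapId 𝒜 (Submonoid.powers_le.mpr (hTφ hyT))
        (theta 𝒜 ℬ d φ hφd (b * t) z) := by
    have s1 : ev 𝒜 ((h.app U).hom r) y hy = ev 𝒜 ((h.appLE U (h ⁻¹ᵁ W') hTU).hom r) y hyT := rfl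
    rw [s1, s2, c1, s4, s5, s6]
    rfl
  rw [key]
  have hr : ev ℬ r (h.base y) hy = HomogeneousLocalization.mk ⟨j, ⟨a, ha⟩, ⟨b, hb⟩, hby⟩ :=
    hfrac ⟨h.base y, hyW⟩
  rw [hr, HomogeneousLocalization.val_mk, locMap_mk, hz]
  have hkn : (1 • (j + m')) * d = 1 • ((j + m') * d) := by simp only [smul_eq_mul, mul_assoc]
  have ha' : φ (a * t) ∈ 𝒜 (1 • ((j + m') * d)) := hkn ▸ hφd _ _ hat
  rw [theta_mk 𝒜 ℬ d φ hφd hg 1 (a * t) hat ha']
  show Localization.mk (φ (a * t)) _ = Localization.mk (φ a) _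
  rw [Localization.mk_eq_mk_iff, Localization.r_iff_exists]
  refine ⟨1, ?_⟩
  simp only [OneMemClass.coe_one, one_mul, pow_one, map_mul, GradedRingHom.id_apply]
  ring

end Groth.Agent.Helper6.VeroSheaf
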