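import Groth.Agent.Lib.Helper6.VeroSheafA
import Groth.Agent.Lib.Helper6.GrTwistComapIsoA

/-!
# Veronese-type morphisms `Proj 𝒜 ⟶ Proj ℬ`: the comparison `N(n)~ ⟶ h_* M(nd)~` (helper6)

For `φ : B →+* A` with `φ (ℬ n) ⊆ 𝒜 (n * d)`, `h : Proj 𝒜 ⟶ Proj ℬ` as in `VeroSheafA`, graded modules
`ℳ` over `𝒜`, `𝒩` over `ℬ` and a `φ`-semilinear `v : N → M` with `v (𝒩 n) ⊆ ℳ (n * d)`: the morphism
`vcomap : N(n)~ ⟶ h_* M(nd)~`; it is an isomorphism when `v` is injective and `v (𝒩 n) = ℳ (n * d)`.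
-/

set_option autoImplicit false
set_option linter.style.haveILetI false
set_option linter.unusedSectionVars false

namespace Groth.Agent.Helper6.VeroSheaf

open AlgebraicGeometry CategoryTheory HomogeneousLocalization Limits Opposite TopologicalSpace
open Groth.Agent.Helper6.Veronese Groth.Agent.Helper6.GrModFrac

universe u

variable {A B : Type u} [CommRing A] [CommRing B]
variable {σ τ : Type u} [SetLike σ A] [AddSubgroupClass σ A] [SetLike τ B] [AddSubgroupClass τ B]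
variable (𝒜 : ℕ → σ) [GradedRing 𝒜] (ℬ : ℕ → τ) [GradedRing ℬ]
variable (d : ℕ) (φ : B →+* A) (hd : 0 < d) (hφd : ∀ n b, b ∈ ℬ n → φ b ∈ 𝒜 (n * d))
variable (h : Proj 𝒜 ⟶ Proj ℬ)
  (hchart : ∀ (n : ℕ) (g : B) (hn : 0 < n) (hg : g ∈ ℬ n),
    Proj.awayι 𝒜 (φ g) (hφd n g hg) (Nat.mul_pos hn hd) ≫ h =
      Spec.map (CommRingCat.ofHom (theta 𝒜 ℬ d φ hφd g)) ≫ Proj.awayι ℬ g hg hn)
  (hcomap : ∀ y : Proj 𝒜,
    (h.base y).asHomogeneousIdeal.toIdeal = Ideal.comap φ y.asHomogeneousIdeal.toIdeal)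
variable {M τM : Type u} [AddCommGroup M] [Module A M] [SetLike τM M] [AddSubgroupClass τM M]
    (ℳ : ℕ → τM) [SetLike.GradedSMul 𝒜 ℳ] [DirectSum.Decomposition ℳ]
    {N τN : Type u} [AddCommGroup N] [Module B N] [SetLike τN N] [AddSubgroupClass τN N]
    (𝒩 : ℕ → τN) [SetLike.GradedSMul ℬ 𝒩] [DirectSum.Decomposition 𝒩]
    (v : N →ₛₗ[φ] M) (hvd : ∀ (i : ℕ) (x : N), x ∈ 𝒩 i → v x ∈ ℳ (i * d))

section loc

variable (y : Proj 𝒜)

/-- The value `v x / φ s` on a representative `(x, s)`. -/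
def vlocFun (q : N × (h.base y).asHomogeneousIdeal.toIdeal.primeCompl) :
    GrMod.LocMod 𝒜 (M := M) y :=
  LocalizedModule.mk (v q.1) ⟨φ (q.2 : B), phi_mem_primeCompl 𝒜 ℬ φ h hcomap y q.2.2⟩

theorem vlocFun_wd (q q' : N × (h.base y).asHomogeneousIdeal.toIdeal.primeCompl) (hq : q ≈ q') :
    vlocFun 𝒜 ℬ φ h hcomap v y q = vlocFun 𝒜 ℬ φ h hcomap v y q' := by
  obtain ⟨m, s⟩ := q
  obtain ⟨m', s'⟩ := q'
  obtain ⟨w, hw⟩ := hq
  refine LocalizedModule.mk_eq.mpr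
    ⟨⟨φ (w : B), phi_mem_primeCompl 𝒜 ℬ φ h hcomap y w.2⟩, ?_⟩
  have hw' := congrArg v hw
  simp only [Submonoid.smul_def, LinearMap.map_smulₛₗ] at hw' ⊢
  exact hw'

/-- The induced additive map of localized modules `N_{h y} → M_y`, `x / s ↦ v x / φ s`. -/
def vloc : GrMod.LocMod ℬ (M := N) (h.base y) →+ GrMod.LocMod 𝒜 (M := M) y where
  toFun q := q.liftOn (vlocFun 𝒜 ℬ φ h hcomap v y) (vlocFun_wd 𝒜 ℬ φ h hcomap v y)
  map_zero' := by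
    rw [← LocalizedModule.zero_mk 1, LocalizedModule.liftOn_mk]
    change LocalizedModule.mk (v 0) _ = 0
    rw [map_zero, LocalizedModule.zero_mk]
  map_add' q q' := by
    induction q using LocalizedModule.induction_on with
    | h m s =>
      induction q' using LocalizedModule.induction_on with
      | h m' s' =>
        rw [LocalizedModule.mk_add_mk, LocalizedModule.liftOn_mk, LocalizedModule.liftOn_mk,
          LocalizedModule.liftOn_mk]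
        change LocalizedModule.mk (v (s' • m + s • m')) _ =
          LocalizedModule.mk (v m) _ + LocalizedModule.mk (v m') _
        rw [LocalizedModule.mk_add_mk]
        simp only [map_add, Submonoid.smul_def, LinearMap.map_smulₛₗ]
        congr 1
        exact Subtype.ext (by simp [map_mul])

@[simp] theorem vloc_mk (x : N) (s : (h.base y).asHomogeneousIdeal.toIdeal.primeCompl) :
    vloc 𝒜 ℬ φ h hcomap v y (LocalizedModule.mk x s) =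
      LocalizedModule.mk (v x) ⟨φ (s : B), phi_mem_primeCompl 𝒜 ℬ φ h hcomap y s.2⟩ := rfl

theorem vloc_smul (r : GrTwist.Loc ℬ (h.base y)) (q : GrMod.LocMod ℬ (M := N) (h.base y)) :
    vloc 𝒜 ℬ φ h hcomap v y (r • q) =
      locMap 𝒜 ℬ φ h hcomap y r • vloc 𝒜 ℬ φ h hcomap v y q := by
  induction q using LocalizedModule.induction_on with
  | h m s =>
    induction r using Localization.induction_on with
    | H p =>
      obtain ⟨a, t⟩ := p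
      rw [LocalizedModule.mk_smul_mk, vloc_mk, vloc_mk, locMap_mk, LocalizedModule.mk_smul_mk,
        LinearMap.map_smulₛₗ]
      congr 1
      exact Subtype.ext (by simp [map_mul])

include hφd in
theorem exists_a0_val (c : GrTwist.A0 ℬ (h.base y)) :
    ∃ c' : GrTwist.A0 𝒜 y, c'.val = locMap 𝒜 ℬ φ h hcomap y c.val := by
  obtain ⟨⟨k, ⟨a, ha⟩, ⟨b, hb⟩, hbm⟩, rfl⟩ := HomogeneousLocalization.mk_surjective c
  refine ⟨HomogeneousLocalization.mk ⟨k * d, ⟨φ a, hφd k a ha⟩, ⟨φ b, hφd k b hb⟩,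
    phi_mem_primeCompl 𝒜 ℬ φ h hcomap y hbm⟩, ?_⟩
  rw [HomogeneousLocalization.val_mk, HomogeneousLocalization.val_mk, locMap_mk]

include hφd hvd in
theorem vloc_mem (n : ℤ) {q : GrMod.LocMod ℬ (M := N) (h.base y)}
    (hq : q ∈ GrMod.tildeAt ℬ 𝒩 n (h.base y)) :
    vloc 𝒜 ℬ φ h hcomap v y q ∈ GrMod.tildeAt 𝒜 ℳ (n * d) y := by
  induction hq using Submodule.span_induction with
  | mem q hq' =>
    obtain ⟨i, j, m, s, hs, hij, rfl⟩ := hq'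
    rw [vloc_mk]
    exact Submodule.subset_span ⟨i * d, j * d, ⟨v m, hvd i m m.2⟩, ⟨φ (s : B), hφd j s s.2⟩,
      phi_mem_primeCompl 𝒜 ℬ φ h hcomap y hs, by push_cast; rw [hij]; ring, rfl⟩
  | zero => rw [map_zero]; exact zero_mem _
  | add q q' _ _ h1 h2 => rw [map_add]; exact add_mem h1 h2
  | smul c q _ h1 =>
    rw [GrMod.a0_smul_def, vloc_smul]
    obtain ⟨c', hc'⟩ := exists_a0_val 𝒜 ℬ d φ hφd h hcomap y c
    rw [← hc', ← GrMod.a0_smul_def]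
    exact Submodule.smul_mem _ _ h1

end loc

section comap

variable (n : ℤ) (U : Opens (ProjectiveSpectrum.top ℬ)) (V : Opens (ProjectiveSpectrum.top 𝒜))
  (hUV : V.1 ⊆ h.base ⁻¹' U.1)

/-- `y ↦ v_y (s (h y))`. -/
def vcomapFun (s : ∀ x : U, GrMod.tildeAt ℬ 𝒩 n x.1) (y : V) : GrMod.tildeAt 𝒜 ℳ (n * d) y.1 :=
  ⟨vloc 𝒜 ℬ φ h hcomap v y.1 (s ⟨h.base y.1, hUV y.2⟩).1,
    vloc_mem 𝒜 ℬ d φ hφd h hcomap ℳ 𝒩 v hvd y.1 n (s ⟨h.base y.1, hUV y.2⟩).2⟩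

theorem isLocFrac_vcomapFun (s : ∀ x : U, GrMod.tildeAt ℬ 𝒩 n x.1)
    (hs : (GrMod.isLocFrac ℬ 𝒩 n).pred s) :
    (GrMod.isLocFrac 𝒜 ℳ (n * d)).pred (vcomapFun 𝒜 ℬ d φ hφd h hcomap ℳ 𝒩 v hvd n U V hUV s) := by
  rintro ⟨y, hyV⟩
  rcases hs ⟨h.base y, hUV hyV⟩ with ⟨W, m, iWU, i, j, a, b, hb, hij, h_frac⟩
  refine ⟨(h ⁻¹ᵁ W) ⊓ V, ⟨m, hyV⟩, Opens.infLERight _ _, i * d, j * d,
    ⟨v (a : N), hvd i a a.2⟩, ⟨φ (b : B), hφd j b b.2⟩,
    fun z => phi_mem_primeCompl 𝒜 ℬ φ h hcomap z.1 (hb ⟨_, z.2.1⟩), ?_, fun z => ?_⟩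
  · rcases hij with hij | h0
    · exact Or.inl (by push_cast; rw [hij]; ring)
    · exact Or.inr (show v (a : N) = 0 by rw [h0, map_zero])
  · exact (congrArg (vloc 𝒜 ℬ φ h hcomap v z.1) (h_frac ⟨_, z.2.1⟩)).trans
      (vloc_mk 𝒜 ℬ φ h hcomap v _ _ _)

/-- The comparison on sections, as an additive map. -/
def vcomapApp : GrMod.sect ℬ 𝒩 n (op U) →+ GrMod.sect 𝒜 ℳ (n * d) (op V) where
  toFun s := ⟨vcomapFun 𝒜 ℬ d φ hφd h hcomap ℳ 𝒩 v hvd n U V hUV s.1,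
    isLocFrac_vcomapFun 𝒜 ℬ d φ hφd h hcomap ℳ 𝒩 v hvd n U V hUV s.1 s.2⟩
  map_zero' := by
    refine Subtype.ext (funext fun y => Subtype.ext ?_)
    show vloc 𝒜 ℬ φ h hcomap v y.1 _ = _
    simp only [ZeroMemClass.coe_zero, Pi.zero_apply, map_zero]
  map_add' s t := by
    refine Subtype.ext (funext fun y => Subtype.ext ?_)
    show vloc 𝒜 ℬ φ h hcomap v y.1 _ = _
    simp only [AddMemClass.coe_add, Pi.add_apply, map_add]
    rfl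

theorem vcomapApp_apply_coe (s : GrMod.sect ℬ 𝒩 n (op U)) (y : V) :
    (((vcomapApp 𝒜 ℬ d φ hφd h hcomap ℳ 𝒩 v hvd n U V hUV s :
        GrMod.sect 𝒜 ℳ (n * d) (op V)).1 y : GrMod.tildeAt 𝒜 ℳ (n * d) y.1) :
        GrMod.LocMod 𝒜 (M := M) y.1) =
      vloc 𝒜 ℬ φ h hcomap v y.1 (s.1 ⟨h.base y.1, hUV y.2⟩).1 := rfl

end comap

section hom

include hd hchart in
theorem vcomapApp_smul (n : ℤ) (U : (Proj ℬ).Opens) (r : Γ(Proj ℬ, U))
    (s : GrMod.sect ℬ 𝒩 n (op U)) :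
    vcomapApp 𝒜 ℬ d φ hφd h hcomap ℳ 𝒩 v hvd n U (h ⁻¹ᵁ U) Set.Subset.rfl
        ((show GrTwist.O (𝒜 := ℬ) (op U) from r) • s) =
      (show GrTwist.O (𝒜 := 𝒜) (op (h ⁻¹ᵁ U)) from (h.app U).hom r) •
        vcomapApp 𝒜 ℬ d φ hφd h hcomap ℳ 𝒩 v hvd n U (h ⁻¹ᵁ U) Set.Subset.rfl s := by
  refine Subtype.ext (funext fun y => Subtype.ext ?_)
  have h1 : ∀ x : U, (((((show GrTwist.O (𝒜 := ℬ) (op U) from r) • s :
      GrMod.sect ℬ 𝒩 n (op U)).1 x : GrMod.tildeAt ℬ 𝒩 n x.1) : GrMod.LocMod ℬ (M := N) x.1) =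
      ((show GrTwist.O (𝒜 := ℬ) (op U) from r).1 x).val •
        ((s.1 x : GrMod.tildeAt ℬ 𝒩 n x.1) : GrMod.LocMod ℬ (M := N) x.1)) :=
    fun x => GrMod.coe_smul_val n x.1 _ (s.1 x)
  have h2 : ∀ y : (h ⁻¹ᵁ U : (Proj 𝒜).Opens),
      (((((show GrTwist.O (𝒜 := 𝒜) (op (h ⁻¹ᵁ U)) from (h.app U).hom r) •
        vcomapApp 𝒜 ℬ d φ hφd h hcomap ℳ 𝒩 v hvd n U (h ⁻¹ᵁ U) Set.Subset.rfl s :
        GrMod.sect 𝒜 ℳ (n * d) (op (h ⁻¹ᵁ U))).1 y : GrMod.tildeAt 𝒜 ℳ (n * d) y.1) :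
        GrMod.LocMod 𝒜 (M := M) y.1) =
      ((show GrTwist.O (𝒜 := 𝒜) (op (h ⁻¹ᵁ U)) from (h.app U).hom r).1 y).val •
        (((vcomapApp 𝒜 ℬ d φ hφd h hcomap ℳ 𝒩 v hvd n U (h ⁻¹ᵁ U) Set.Subset.rfl s).1 y :
          GrMod.tildeAt 𝒜 ℳ (n * d) y.1) : GrMod.LocMod 𝒜 (M := M) y.1)) :=
    fun y => GrMod.coe_smul_val (n * d) y.1 _ _
  refine (congrArg (vloc 𝒜 ℬ φ h hcomap v y.1) (h1 ⟨h.base y.1, y.2⟩)).trans ?_
  refine (vloc_smul 𝒜 ℬ φ h hcomap v y.1 _ _).trans ?_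
  refine Eq.trans ?_ (h2 y).symm
  have h3 := ev_app 𝒜 ℬ d φ hd hφd h hchart hcomap U r y.1 y.2
  exact congrArg (fun c => c • vloc 𝒜 ℬ φ h hcomap v y.1 (s.1 ⟨h.base y.1, y.2⟩).1) h3.symm

/-- The comparison morphism `N(n)~ ⟶ h_* M(nd)~`. -/
noncomputable def vcomap (n : ℤ) :
    GrMod.tilde ℬ 𝒩 n ⟶ (Scheme.Modules.pushforward h).obj (GrMod.tilde 𝒜 ℳ (n * d)) :=
  ⟨PresheafOfModules.homMk
    { app := fun U => AddCommGrpCat.ofHom
        (vcomapApp 𝒜 ℬ d φ hφd h hcomap ℳ 𝒩 v hvd n U.unop (h ⁻¹ᵁ U.unop) Set.Subset.rfl)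
      naturality := fun _ _ _ => rfl }
    fun U r s => vcomapApp_smul 𝒜 ℬ d φ hd hφd h hchart hcomap ℳ 𝒩 v hvd n U.unop r s⟩

end hom

section bij

include hcomap in
theorem notMem_base {g : B} (y : ProjectiveSpectrum 𝒜) (hy : φ g ∉ y.asHomogeneousIdeal) :
    g ∉ (h.base y).asHomogeneousIdeal := fun hmem =>
  hy ((congrArg (fun I : Ideal B => g ∈ I) (hcomap y)).mp hmem)

include hcomap in
theorem basicOpen_subset' (g : B) :
    (ProjectiveSpectrum.basicOpen 𝒜 (φ g)).1 ⊆ h.base ⁻¹' (ProjectiveSpectrum.basicOpen ℬ g).1 :=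
  fun y hy => notMem_base 𝒜 ℬ φ h hcomap y hy

theorem valAt_vcomapApp (n : ℤ) (g : B)
    (s : GrMod.sect ℬ 𝒩 n (op (ProjectiveSpectrum.basicOpen ℬ g)))
    (y : ProjectiveSpectrum 𝒜) (hy : φ g ∉ y.asHomogeneousIdeal) :
    valAt 𝒜 ℳ (n * d) (vcomapApp 𝒜 ℬ d φ hφd h hcomap ℳ 𝒩 v hvd n
        (ProjectiveSpectrum.basicOpen ℬ g) (ProjectiveSpectrum.basicOpen 𝒜 (φ g))
        (basicOpen_subset' 𝒜 ℬ φ h hcomap g) s) y hy =
      vloc 𝒜 ℬ φ h hcomap v y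
        (valAt ℬ 𝒩 n s (h.base y) (notMem_base 𝒜 ℬ φ h hcomap y hy)) := rfl

include hd in
set_option maxHeartbeats 1600000 in
theorem vcomapApp_bijective (hv_inj : Function.Injective v)
    (hv_surj : ∀ i m, m ∈ ℳ (i * d) → ∃ x ∈ 𝒩 i, v x = m)
    (n : ℤ) {k : ℕ} (hk : 0 < k) {g : B} (hg : g ∈ ℬ k) :
    Function.Bijective (vcomapApp 𝒜 ℬ d φ hφd h hcomap ℳ 𝒩 v hvd n
        (ProjectiveSpectrum.basicOpen ℬ g) (ProjectiveSpectrum.basicOpen 𝒜 (φ g))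
        (basicOpen_subset' 𝒜 ℬ φ h hcomap g)) := by
  have hkd : 0 < k * d := Nat.mul_pos hk hd
  have hφg : φ g ∈ 𝒜 (k * d) := hφd k g hg
  constructor
  · rw [injective_iff_map_eq_zero]
    intro s hs
    obtain ⟨L, q, x, hx, hq, hval⟩ := exists_global_frac ℬ 𝒩 n hk hg s
    have hkill : ∀ y : ProjectiveSpectrum 𝒜, φ g ∉ y.asHomogeneousIdeal →
        ∃ t : A, t ∉ y.asHomogeneousIdeal ∧ t • v x = 0 := by
      intro y hy
      have h1 : valAt 𝒜 ℳ (n * d) (vcomapApp 𝒜 ℬ d φ hφd h hcomap ℳ 𝒩 v hvd n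
          (ProjectiveSpectrum.basicOpen ℬ g) (ProjectiveSpectrum.basicOpen 𝒜 (φ g))
          (basicOpen_subset' 𝒜 ℬ φ h hcomap g) s) y hy = 0 := by
        rw [hs]
        rfl
      rw [valAt_vcomapApp, hval _ (notMem_base 𝒜 ℬ φ h hcomap y hy), vloc_mk] at h1
      rw [← LocalizedModule.zero_mk 1, LocalizedModule.mk_eq] at h1
      obtain ⟨t, ht⟩ := h1
      refine ⟨t.1, t.2, ?_⟩
      rw [one_smul, smul_zero, smul_zero] at ht
      exact ht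
    obtain ⟨K, hK⟩ := exists_pow_smul_eq_zero 𝒜 ℳ hkd hφg (hvd q x hx) hkill
    have h3 : v (g ^ K • x) = 0 := by
      rw [LinearMap.map_smulₛₗ, map_pow]
      exact hK
    have h4 : g ^ K • x = 0 := hv_inj (h3.trans (map_zero v).symm)
    refine Subtype.ext (funext fun p => Subtype.ext ?_)
    have hp : g ∉ p.1.asHomogeneousIdeal := (ProjectiveSpectrum.mem_basicOpen ℬ g p.1).1 p.2
    have h5 := hval p.1 hp
    change valAt ℬ 𝒩 n s p.1 hp = 0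
    rw [h5, ← LocalizedModule.zero_mk 1, LocalizedModule.mk_eq]
    refine ⟨⟨g ^ K, pow_mem_primeCompl ℬ p.1 hp K⟩, ?_⟩
    rw [one_smul, smul_zero, smul_zero]
    exact h4
  · intro t
    obtain ⟨L, q', m', hm', hq', hval⟩ := exists_global_frac 𝒜 ℳ (n * d) hkd hφg t
    obtain ⟨q, hqq, hq⟩ : ∃ q : ℕ, q' = q * d ∧ (q : ℤ) = L * k + n := by
      have h1 : (q' : ℤ) = ((L : ℤ) * k + n) * d := by
        rw [hq']; push_cast; ring
      have hnonneg : 0 ≤ (L : ℤ) * k + n := by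
        by_contra hneg
        have hneg' : (L : ℤ) * k + n < 0 := not_le.mp hneg
        have hdpos : (0 : ℤ) < d := by exact_mod_cast hd
        have h2 : ((L : ℤ) * k + n) * d < 0 := mul_neg_of_neg_of_pos hneg' hdpos
        have h3 : (0 : ℤ) ≤ q' := Int.natCast_nonneg q'
        omega
      obtain ⟨q, hq⟩ := Int.eq_ofNat_of_zero_le hnonneg
      refine ⟨q, ?_, hq.symm⟩
      have h2 : (q' : ℤ) = ((q * d : ℕ) : ℤ) := by
        rw [h1, hq]; push_cast; rfl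
      exact_mod_cast h2
    subst hqq
    obtain ⟨x, hx, hvx⟩ := hv_surj q m' hm'
    have hij : (q : ℤ) = ((L • k : ℕ) : ℤ) + n := by
      simp only [smul_eq_mul]
      push_cast
      rw [hq]
    refine ⟨fracPow ℬ 𝒩 n hg L ⟨x, hx⟩ hij, ?_⟩
    refine Subtype.ext (funext fun ⟨y0, hyV⟩ => Subtype.ext ?_)
    obtain ⟨y, rfl⟩ : ∃ y : ProjectiveSpectrum 𝒜, y = y0 := ⟨y0, rfl⟩
    have hy : φ g ∉ y.asHomogeneousIdeal := (ProjectiveSpectrum.mem_basicOpen 𝒜 (φ g) y).1 hyV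
    change valAt 𝒜 ℳ (n * d) (vcomapApp 𝒜 ℬ d φ hφd h hcomap ℳ 𝒩 v hvd n
        (ProjectiveSpectrum.basicOpen ℬ g) (ProjectiveSpectrum.basicOpen 𝒜 (φ g))
        (basicOpen_subset' 𝒜 ℬ φ h hcomap g)
        (fracPow ℬ 𝒩 n hg L ⟨x, hx⟩ hij)) y hy = valAt 𝒜 ℳ (n * d) t y hy
    refine (valAt_vcomapApp 𝒜 ℬ d φ hφd h hcomap ℳ 𝒩 v hvd n g _ y hy).trans ?_
    rw [fracPow_apply]
    refine (vloc_mk 𝒜 ℬ φ h hcomap v y _ _).trans (Eq.trans ?_ (hval y hy).symm)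
    rw [LocalizedModule.mk_eq]
    refine ⟨1, ?_⟩
    rw [one_smul, one_smul]
    change φ g ^ L • v x = φ (g ^ L) • m'
    rw [hvx, map_pow]

include hd in
theorem isIso_vcomap (hv_inj : Function.Injective v)
    (hv_surj : ∀ i m, m ∈ ℳ (i * d) → ∃ x ∈ 𝒩 i, v x = m) (n : ℤ) :
    IsIso (vcomap 𝒜 ℬ d φ hd hφd h hchart hcomap ℳ 𝒩 v hvd n) := by
  apply Groth.Agent.Helper13.LocFree.isIso_of_app_bijective_of_isBasis _
    (Groth.Agent.Helper6.GrModComap.isBasis_pos (𝒜 := ℬ))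
  rintro V ⟨k, g, hk, hg, rfl⟩
  have key : ∀ (W : Opens (ProjectiveSpectrum.top 𝒜))
      (hW : ProjectiveSpectrum.basicOpen 𝒜 (φ g) = W)
      (hUV : W.1 ⊆ h.base ⁻¹' (ProjectiveSpectrum.basicOpen ℬ g).1),
      Function.Bijective (vcomapApp 𝒜 ℬ d φ hφd h hcomap ℳ 𝒩 v hvd n
        (ProjectiveSpectrum.basicOpen ℬ g) W hUV) := by
    intro W hW hUV
    subst hW
    exact vcomapApp_bijective 𝒜 ℬ d φ hd hφd h hcomap ℳ 𝒩 v hvd hv_inj hv_surj n hk hg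
  exact key _ (preimage_basicOpen 𝒜 ℬ φ h hcomap g).symm Set.Subset.rfl

include hd hφd hchart hcomap hvd in
theorem nonempty_tilde_iso [IsIso h] (hv_inj : Function.Injective v)
    (hv_surj : ∀ i m, m ∈ ℳ (i * d) → ∃ x ∈ 𝒩 i, v x = m) (n : ℤ) :
    Nonempty (GrMod.tilde 𝒜 ℳ (n * d) ≅
      (Scheme.Modules.pullback h).obj (GrMod.tilde ℬ 𝒩 n)) := by
  haveI := isIso_vcomap 𝒜 ℬ d φ hd hφd h hchart hcomap ℳ 𝒩 v hvd hv_inj hv_surj n
  haveI := Groth.Agent.Helper6.GrTwistComapIso.isIso_adjunct h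
    (vcomap 𝒜 ℬ d φ hd hφd h hchart hcomap ℳ 𝒩 v hvd n)
  exact ⟨(asIso (((Scheme.Modules.pullbackPushforwardAdjunction h).homEquiv _ _).symm
    (vcomap 𝒜 ℬ d φ hd hφd h hchart hcomap ℳ 𝒩 v hvd n))).symm⟩

end bij

end Groth.Agent.Helper6.VeroSheaf
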