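import Groth.Agent.Lib.Helper6.VeroSheafB

/-!
# Veronese: `M~ ≅ i^*(M^{(d)}~)` and `O(nd) ≅ i^* O(n)` for any chart-compatible `i` (helper6)
-/

set_option autoImplicit false
set_option linter.style.haveILetI false
set_option linter.unusedSectionVars false

namespace Groth.Agent.Helper6.VeroSheaf

open AlgebraicGeometry CategoryTheory HomogeneousLocalization Limits Opposite TopologicalSpace
open Groth.Agent.Helper6.Veronese

universe u

variable {A B : Type u} [CommRing A] [CommRing B]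
variable {σ τ : Type u} [SetLike σ A] [AddSubgroupClass σ A] [SetLike τ B] [AddSubgroupClass τ B]
variable (𝒜 : ℕ → σ) [GradedRing 𝒜] (ℬ : ℕ → τ) [GradedRing ℬ]
variable (d : ℕ) (φ : B →+* A) (hd : 0 < d) (hφd : ∀ n b, b ∈ ℬ n → φ b ∈ 𝒜 (n * d))
  (hsurj : ∀ n a, a ∈ 𝒜 (n * d) → ∃ b ∈ ℬ n, φ b = a)
variable (h : Proj 𝒜 ⟶ Proj ℬ)
  (hchart : ∀ (n : ℕ) (g : B) (hn : 0 < n) (hg : g ∈ ℬ n),
    Proj.awayι 𝒜 (φ g) (hφd n g hg) (Nat.mul_pos hn hd) ≫ h =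
      Spec.map (CommRingCat.ofHom (theta 𝒜 ℬ d φ hφd g)) ≫ Proj.awayι ℬ g hg hn)

include hchart in
theorem hom_eq_of_chart : h = Veronese.hom 𝒜 ℬ d φ hd hφd hsurj := by
  refine (coverA 𝒜 ℬ d φ hd hφd hsurj).hom_ext _ _ ?_
  rintro ⟨n, g, hn, hg⟩
  exact (hchart n g hn hg).trans (awayι_hom 𝒜 ℬ d φ hd hφd hsurj hn hg).symm

include hchart hsurj in
theorem comap_of_chart (y : Proj 𝒜) :
    (h.base y).asHomogeneousIdeal.toIdeal = Ideal.comap φ y.asHomogeneousIdeal.toIdeal := by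
  rw [hom_eq_of_chart 𝒜 ℬ d φ hd hφd hsurj h hchart]
  exact hom_base_toIdeal 𝒜 ℬ d φ hd hφd hsurj y

/-- chart compatibility in the form used by the statements. -/
theorem chart_of_compat
    (he : ∀ (n : ℕ) (g : B) (hn : 0 < n) (hg : g ∈ ℬ n)
      (θ : CommRingCat.of (Away ℬ g) ⟶ CommRingCat.of (Away 𝒜 (φ g))),
      (algebraMap (Away 𝒜 (φ g)) (Localization.Away (φ g))).comp θ.hom =
        (Localization.awayMap φ g).comp (algebraMap (Away ℬ g) (Localization.Away g)) →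
      Proj.awayι 𝒜 (φ g) (hφd n g hg) (Nat.mul_pos hn hd) ≫ h =
        Spec.map θ ≫ Proj.awayι ℬ g hg hn) :
    ∀ (n : ℕ) (g : B) (hn : 0 < n) (hg : g ∈ ℬ n),
    Proj.awayι 𝒜 (φ g) (hφd n g hg) (Nat.mul_pos hn hd) ≫ h =
      Spec.map (CommRingCat.ofHom (theta 𝒜 ℬ d φ hφd g)) ≫ Proj.awayι ℬ g hg hn :=
  fun n g hn hg => he n g hn hg _ (RingHom.ext fun x => val_theta 𝒜 ℬ d φ hφd g x)

section modules

variable {M τM : Type u} [AddCommGroup M] [Module A M] [SetLike τM M] [AddSubgroupClass τM M]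
    (ℳ : ℕ → τM) [SetLike.GradedSMul 𝒜 ℳ] [DirectSum.Decomposition ℳ]
    {N τN : Type u} [AddCommGroup N] [Module B N] [SetLike τN N] [AddSubgroupClass τN N]
    (𝒩 : ℕ → τN) [SetLike.GradedSMul ℬ 𝒩] [DirectSum.Decomposition 𝒩]
    (v : N →ₛₗ[φ] M) (hvd : ∀ (i : ℕ) (x : N), x ∈ 𝒩 i → v x ∈ ℳ (i * d))

include hd hφd hsurj hchart hvd in
theorem nonempty_tilde_iso_of_chart [IsIso h] (hv_inj : Function.Injective v)
    (hv_surj : ∀ i m, m ∈ ℳ (i * d) → ∃ x ∈ 𝒩 i, v x = m) (n : ℤ) :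
    Nonempty (GrMod.tilde 𝒜 ℳ (n * d) ≅
      (Scheme.Modules.pullback h).obj (GrMod.tilde ℬ 𝒩 n)) :=
  nonempty_tilde_iso 𝒜 ℬ d φ hd hφd h hchart
    (comap_of_chart 𝒜 ℬ d φ hd hφd hsurj h hchart) ℳ 𝒩 v hvd hv_inj hv_surj n

end modules

/-- `φ` as a `φ`-semilinear map. -/
def φlin : B →ₛₗ[φ] A where
  toFun := φ
  map_add' := map_add φ
  map_smul' a x := by
    simp only [smul_eq_mul, map_mul]

include hd hφd hsurj hchart in
theorem nonempty_twist_iso_of_chart [IsIso h] (hφ : Function.Injective φ) (n : ℤ) :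
    Nonempty (GrTwist.twist 𝒜 (n * d) ≅
      (Scheme.Modules.pullback h).obj (GrTwist.twist ℬ n)) := by
  obtain ⟨e1⟩ := nonempty_tilde_iso_of_chart 𝒜 ℬ d φ hd hφd hsurj h hchart 𝒜 ℬ (φlin φ)
    (fun i x hx => hφd i x hx) hφ (fun i m hm => hsurj i m hm) n
  exact ⟨(Groth.Agent.Helper28.GrModQcoh.tildeIsoTwist 𝒜 (n * d)).symm ≪≫ e1 ≪≫
    (Scheme.Modules.pullback h).mapIso (Groth.Agent.Helper28.GrModQcoh.tildeIsoTwist ℬ n)⟩

end Groth.Agent.Helper6.VeroSheaf
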