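import Mathlib

/-!
# Veronese isomorphism `Proj S ≅ Proj S^(d)` (helper6)

Given graded rings `𝒜` on `A`, `ℬ` on `B`, `d > 0` and a ring hom `φ : B →+* A` with
`φ (ℬ n) ⊆ 𝒜 (n * d)`, we build ring homs `theta g : B_(g) → A_(φ g)`, glue the morphisms
`Spec A_(φ g) → Spec B_(g) → Proj ℬ` to a morphism `hom : Proj 𝒜 ⟶ Proj ℬ` (when the `D_+(φ g)`
cover), and show it is an isomorphism when `φ` is injective and `φ (ℬ n) = 𝒜 (n * d)`.
-/

set_option autoImplicit false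

namespace Groth.Agent.Helper6.Veronese

open AlgebraicGeometry CategoryTheory HomogeneousLocalization Limits

universe u

variable {A B : Type u} [CommRing A] [CommRing B]
variable {σ τ : Type*} [SetLike σ A] [AddSubgroupClass σ A] [SetLike τ B] [AddSubgroupClass τ B]
variable (𝒜 : ℕ → σ) [GradedRing 𝒜] (ℬ : ℕ → τ) [GradedRing ℬ]
variable (d : ℕ) (φ : B →+* A)

/-- `Localization.awayMap` on fractions. -/
theorem awayMap_mk' (g a : B) (s : Submonoid.powers g) (hs : φ s.1 ∈ Submonoid.powers (φ g)) :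
    Localization.awayMap φ g (Localization.mk a s) = Localization.mk (φ a) ⟨φ s.1, hs⟩ := by
  rw [Localization.mk_eq_mk', Localization.mk_eq_mk']
  exact IsLocalization.map_mk' _ a s

section Theta

variable (hφd : ∀ n b, b ∈ ℬ n → φ b ∈ 𝒜 (n * d))

include hφd in
theorem exists_val_eq (g : B) (x : Away ℬ g) :
    ∃ y : Away 𝒜 (φ g), y.val = Localization.awayMap φ g x.val := by
  obtain ⟨⟨i, ⟨a, ha⟩, ⟨b, hb⟩, hbm⟩, rfl⟩ := mk_surjective x
  have hbm' : φ b ∈ Submonoid.powers (φ g) := by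
    obtain ⟨k, hk⟩ := (Submonoid.mem_powers_iff _ _).mp hbm
    exact (Submonoid.mem_powers_iff _ _).mpr ⟨k, by rw [← map_pow, hk]⟩
  refine ⟨mk ⟨i * d, ⟨φ a, hφd i a ha⟩, ⟨φ b, hφd i b hb⟩, hbm'⟩, ?_⟩
  rw [val_mk, val_mk]
  exact (awayMap_mk' φ g a ⟨b, hbm⟩ hbm').symm

/-- The ring hom `B_(g) → A_(φ g)`, `b / g^k ↦ φ b / (φ g)^k`. -/
noncomputable def theta (g : B) : Away ℬ g →+* Away 𝒜 (φ g) where
  toFun x := (exists_val_eq 𝒜 ℬ d φ hφd g x).choose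
  map_one' := val_injective _ (by
    rw [(exists_val_eq 𝒜 ℬ d φ hφd g 1).choose_spec, val_one, val_one, map_one])
  map_mul' x y := val_injective _ (by
    rw [(exists_val_eq 𝒜 ℬ d φ hφd g (x * y)).choose_spec, val_mul, val_mul, map_mul,
      (exists_val_eq 𝒜 ℬ d φ hφd g x).choose_spec, (exists_val_eq 𝒜 ℬ d φ hφd g y).choose_spec])
  map_zero' := val_injective _ (by
    rw [(exists_val_eq 𝒜 ℬ d φ hφd g 0).choose_spec, val_zero, val_zero, map_zero])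
  map_add' x y := val_injective _ (by
    rw [(exists_val_eq 𝒜 ℬ d φ hφd g (x + y)).choose_spec, val_add, val_add, map_add,
      (exists_val_eq 𝒜 ℬ d φ hφd g x).choose_spec, (exists_val_eq 𝒜 ℬ d φ hφd g y).choose_spec])

theorem val_theta (g : B) (x : Away ℬ g) :
    (theta 𝒜 ℬ d φ hφd g x).val = Localization.awayMap φ g x.val :=
  (exists_val_eq 𝒜 ℬ d φ hφd g x).choose_spec

/-- `theta` is the unique ring hom compatible with `awayMap φ g` on the ambient localizations. -/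
theorem eq_theta (g : B) (θ : Away ℬ g →+* Away 𝒜 (φ g))
    (hθ : (algebraMap (Away 𝒜 (φ g)) (Localization.Away (φ g))).comp θ =
      (Localization.awayMap φ g).comp (algebraMap (Away ℬ g) (Localization.Away g))) :
    θ = theta 𝒜 ℬ d φ hφd g := by
  refine RingHom.ext fun x => val_injective _ ?_
  rw [val_theta]
  exact RingHom.congr_fun hθ x

theorem theta_mk {n : ℕ} {g : B} (hg : g ∈ ℬ n) (k : ℕ) (a : B) (ha : a ∈ ℬ (k • n))
    (ha' : φ a ∈ 𝒜 (k • (n * d))) :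
    theta 𝒜 ℬ d φ hφd g (Away.mk ℬ hg k a ha) = Away.mk 𝒜 (hφd n g hg) k (φ a) ha' := by
  apply val_injective
  rw [val_theta, Away.val_mk, Away.val_mk,
    awayMap_mk' φ g a _ ((Submonoid.mem_powers_iff _ _).mpr ⟨k, (map_pow φ g k).symm⟩)]
  exact congrArg (Localization.mk (φ a)) (Subtype.ext (map_pow φ g k))

theorem theta_injective (hφ : Function.Injective φ) (g : B) :
    Function.Injective (theta 𝒜 ℬ d φ hφd g) := by
  intro x y h
  apply val_injective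
  have hinj : Function.Injective (Localization.awayMap φ g) := by
    rw [Localization.awayMap_injective_iff]
    intro a ha
    exact ⟨0, by rw [hφ (ha.trans (map_zero φ).symm), mul_zero]⟩
  apply hinj
  rw [← val_theta 𝒜 ℬ d φ hφd, ← val_theta 𝒜 ℬ d φ hφd, h]

theorem theta_surjective (hsurj : ∀ n a, a ∈ 𝒜 (n * d) → ∃ b ∈ ℬ n, φ b = a)
    {n : ℕ} {g : B} (hg : g ∈ ℬ n) :
    Function.Surjective (theta 𝒜 ℬ d φ hφd g) := by
  intro y
  obtain ⟨k, a, ha, rfl⟩ := Away.mk_surjective 𝒜 (hφd n g hg) y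
  have hkn : k • (n * d) = (k • n) * d := by simp only [smul_eq_mul, mul_assoc]
  obtain ⟨b, hb, rfl⟩ := hsurj (k • n) a (hkn ▸ ha)
  exact ⟨Away.mk ℬ hg k b hb, theta_mk 𝒜 ℬ d φ hφd hg k b hb ha⟩

theorem theta_comp_awayMap {n m : ℕ} {g g' x : B} (hg : g ∈ ℬ n) (hg' : g' ∈ ℬ m)
    (hx : x = g * g') (hx' : φ x = φ g * φ g') :
    (theta 𝒜 ℬ d φ hφd x).comp (awayMap ℬ hg' hx) =
      (awayMap 𝒜 (hφd m g' hg') hx').comp (theta 𝒜 ℬ d φ hφd g) := by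
  refine RingHom.ext fun z => ?_
  obtain ⟨k, a, ha, rfl⟩ := Away.mk_surjective ℬ hg z
  apply val_injective
  have hkn : (k • n) * d = k • (n * d) := by simp only [smul_eq_mul, mul_assoc]
  have ha' : φ a ∈ 𝒜 (k • (n * d)) := hkn ▸ hφd _ _ ha
  rw [RingHom.comp_apply, RingHom.comp_apply, val_theta, theta_mk 𝒜 ℬ d φ hφd hg k a ha ha',
    awayMap_mk, awayMap_mk, Away.val_mk, Away.val_mk,
    awayMap_mk' φ x _ _ ((Submonoid.mem_powers_iff _ _).mpr ⟨k, (map_pow φ x k).symm⟩)]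
  exact congrArg₂ Localization.mk (by rw [map_mul, map_pow]) (Subtype.ext (map_pow φ x k))

include hφd in
/-- Compatibility of `φ` with homogeneous components. -/
theorem phi_decompose (hd : 0 < d) (b : B) (i : ℕ) :
    φ (DirectSum.decompose ℬ b i : B) = (DirectSum.decompose 𝒜 (φ b) (i * d) : A) := by
  classical
  refine DirectSum.Decomposition.inductionOn ℬ
    (motive := fun b => φ (DirectSum.decompose ℬ b i : B) =
      (DirectSum.decompose 𝒜 (φ b) (i * d) : A)) ?_ ?_ ?_ b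
  · simp
  · intro j m
    by_cases hji : j = i
    · subst hji
      rw [DirectSum.decompose_of_mem_same ℬ m.2,
        DirectSum.decompose_of_mem_same 𝒜 (hφd _ _ m.2)]
    · rw [DirectSum.decompose_of_mem_ne ℬ m.2 hji,
        DirectSum.decompose_of_mem_ne 𝒜 (hφd _ _ m.2)
          (fun h => hji (Nat.eq_of_mul_eq_mul_right hd h)), map_zero]
  · intro m m' h h'
    rw [DirectSum.decompose_add, DirectSum.add_apply, AddMemClass.coe_add, map_add, h, h',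
      map_add, DirectSum.decompose_add, DirectSum.add_apply, AddMemClass.coe_add]

end Theta

section Scheme

variable (hd : 0 < d) (hφd : ∀ n b, b ∈ ℬ n → φ b ∈ 𝒜 (n * d))
  (hsurj : ∀ n a, a ∈ 𝒜 (n * d) → ∃ b ∈ ℬ n, φ b = a)

include hd hsurj in
theorem exists_not_mem (x : Proj 𝒜) :
    ∃ (n : ℕ) (g : B), 0 < n ∧ g ∈ ℬ n ∧ φ g ∉ x.asHomogeneousIdeal := by
  classical
  have h1 : ⨆ i : (Σ i : PNat, 𝒜 i), Proj.basicOpen 𝒜 (i.2 : A) = ⊤ :=
    Proj.iSup_basicOpen_eq_top 𝒜 (fun i : Σ i : PNat, 𝒜 i => (i.2 : A)) (by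
      intro z hz
      rw [← DirectSum.sum_support_decompose 𝒜 z]
      refine Ideal.sum_mem _ fun c hc ↦ if hc0 : c = 0 then ?_ else
        Ideal.subset_span ⟨⟨⟨c, Nat.pos_iff_ne_zero.mpr hc0⟩, _⟩, rfl⟩
      convert! Ideal.zero_mem _
      subst hc0
      exact hz)
  have hx : x ∈ (⊤ : (Proj 𝒜).Opens) := trivial
  rw [← h1, TopologicalSpace.Opens.mem_iSup] at hx
  obtain ⟨⟨i, f⟩, hf⟩ := hx
  have hfd : (f : A) ^ d ∈ 𝒜 ((i : ℕ) * d) := by
    have := SetLike.pow_mem_graded d f.2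
    rwa [smul_eq_mul, mul_comm] at this
  obtain ⟨g, hg, hgf⟩ := hsurj i _ hfd
  refine ⟨i, g, i.2, hg, ?_⟩
  rw [hgf]
  intro hmem
  exact ((Proj.mem_basicOpen 𝒜 _ x).mp hf) (x.isPrime.mem_of_pow_mem d hmem)

/-- The open cover of `Proj 𝒜` by the `D_+(φ g)`, `g ∈ ℬ n`, `n > 0`. -/
noncomputable def coverA : (Proj 𝒜).OpenCover :=
  Scheme.Cover.mkOfCovers (Σ' (n : ℕ) (g : B), 0 < n ∧ g ∈ ℬ n)
    (fun i => Spec (.of (Away 𝒜 (φ i.2.1))))
    (fun i => Proj.awayι 𝒜 (φ i.2.1) (hφd _ _ i.2.2.2) (Nat.mul_pos i.2.2.1 hd))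
    (fun x => by
      obtain ⟨n, g, hn, hg, hx⟩ := exists_not_mem 𝒜 ℬ d φ hd hsurj x
      have : x ∈ (Proj.awayι 𝒜 (φ g) (hφd _ _ hg) (Nat.mul_pos hn hd)).opensRange := by
        rw [Proj.opensRange_awayι]; exact hx
      obtain ⟨y, hy⟩ := this
      exact ⟨⟨n, g, hn, hg⟩, y, hy⟩)
    (fun i => inferInstanceAs (IsOpenImmersion
      (Proj.awayι 𝒜 (φ i.2.1) (hφd _ _ i.2.2.2) (Nat.mul_pos i.2.2.1 hd))))

theorem key_glue {n m N : ℕ} {g g' x : B} (hg : g ∈ ℬ n) (hn : 0 < n) (hg' : g' ∈ ℬ m)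
    (hx : x = g * g') (hx' : φ x = φ g * φ g') (hNeq : N = n + m) (hxN : x ∈ ℬ N) (hN : 0 < N) :
    Spec.map (CommRingCat.ofHom (awayMap 𝒜 (hφd m g' hg') hx')) ≫
      Spec.map (CommRingCat.ofHom (theta 𝒜 ℬ d φ hφd g)) ≫ Proj.awayι ℬ g hg hn =
    Spec.map (CommRingCat.ofHom (theta 𝒜 ℬ d φ hφd x)) ≫ Proj.awayι ℬ x hxN hN := by
  subst hNeq
  have h1 := Proj.SpecMap_awayMap_awayι ℬ hg hn hg' hx
  have h2 := theta_comp_awayMap 𝒜 ℬ d φ hφd hg hg' hx hx'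
  rw [← Spec.map_comp_assoc, ← CommRingCat.ofHom_comp, ← h2, CommRingCat.ofHom_comp,
    Spec.map_comp_assoc, h1]

/-- The glued morphism `Proj 𝒜 ⟶ Proj ℬ`. -/
noncomputable def hom : Proj 𝒜 ⟶ Proj ℬ :=
  (coverA 𝒜 ℬ d φ hd hφd hsurj).glueMorphisms
    (fun i => Spec.map (CommRingCat.ofHom (theta 𝒜 ℬ d φ hφd i.2.1)) ≫
      Proj.awayι ℬ i.2.1 i.2.2.2 i.2.2.1)
    (by
      rintro ⟨n, g, hn, hg⟩ ⟨m, g', hm, hg'⟩
      refine (cancel_epi (Proj.pullbackAwayιIso 𝒜 (hφd _ _ hg) (Nat.mul_pos hn hd) (hφd _ _ hg')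
        (Nat.mul_pos hm hd) (map_mul φ g g')).inv).mp ?_
      refine ((Proj.pullbackAwayιIso_inv_fst_assoc 𝒜 (hφd _ _ hg) (Nat.mul_pos hn hd)
        (hφd _ _ hg') (Nat.mul_pos hm hd) (map_mul φ g g') _).trans ?_).trans
        (Proj.pullbackAwayιIso_inv_snd_assoc 𝒜 (hφd _ _ hg) (Nat.mul_pos hn hd)
        (hφd _ _ hg') (Nat.mul_pos hm hd) (map_mul φ g g') _).symm
      exact (key_glue 𝒜 ℬ d φ hφd hg hn hg' rfl (map_mul φ g g') rfl
          (SetLike.mul_mem_graded hg hg') (Nat.add_pos_left hn m)).trans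
        (key_glue 𝒜 ℬ d φ hφd hg' hm hg (mul_comm g g')
          ((map_mul φ g g').trans (mul_comm _ _)) (Nat.add_comm n m)
          (SetLike.mul_mem_graded hg hg') (Nat.add_pos_left hn m)).symm)

theorem awayι_hom {n : ℕ} {g : B} (hn : 0 < n) (hg : g ∈ ℬ n) :
    Proj.awayι 𝒜 (φ g) (hφd n g hg) (Nat.mul_pos hn hd) ≫ hom 𝒜 ℬ d φ hd hφd hsurj =
      Spec.map (CommRingCat.ofHom (theta 𝒜 ℬ d φ hφd g)) ≫ Proj.awayι ℬ g hg hn :=
  (coverA 𝒜 ℬ d φ hd hφd hsurj).ι_glueMorphisms _ _ ⟨n, g, hn, hg⟩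

theorem isLocalizationElem_eq {n i : ℕ} {g b : B} (hg : g ∈ ℬ n) (hb : b ∈ ℬ i) :
    Away.isLocalizationElem (hφd n g hg) (hφd i b hb) =
      (theta 𝒜 ℬ d φ hφd g (Away.isLocalizationElem hg hb)) ^ d := by
  apply val_injective
  rw [val_pow, val_theta, Away.val_mk, Away.val_mk,
    awayMap_mk' φ g _ _ ((Submonoid.mem_powers_iff _ _).mpr ⟨i, (map_pow φ g i).symm⟩),
    Localization.mk_pow]
  exact congrArg₂ Localization.mk (by rw [map_pow, ← pow_mul])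
    (Subtype.ext (by simp only [SubmonoidClass.coe_pow, map_pow, pow_mul]))

theorem hom_preimage_basicOpen {i : ℕ} (hi : 0 < i) {b : B} (hb : b ∈ ℬ i) :
    (hom 𝒜 ℬ d φ hd hφd hsurj) ⁻¹ᵁ Proj.basicOpen ℬ b = Proj.basicOpen 𝒜 (φ b) := by
  refine TopologicalSpace.Opens.ext (Set.ext fun p => ?_)
  obtain ⟨⟨n, g, hn, hg⟩, q0, rfl⟩ := (coverA 𝒜 ℬ d φ hd hφd hsurj).exists_eq p
  obtain ⟨q, rfl⟩ : ∃ q : Spec (.of (Away 𝒜 (φ g))), q = q0 := ⟨q0, rfl⟩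
  change (hom 𝒜 ℬ d φ hd hφd hsurj)
      ((Proj.awayι 𝒜 (φ g) (hφd n g hg) (Nat.mul_pos hn hd)) q) ∈ Proj.basicOpen ℬ b ↔
    (Proj.awayι 𝒜 (φ g) (hφd n g hg) (Nat.mul_pos hn hd)) q ∈ Proj.basicOpen 𝒜 (φ b)
  rw [← Scheme.Hom.comp_apply, awayι_hom 𝒜 ℬ d φ hd hφd hsurj hn hg, Scheme.Hom.comp_apply]
  have hL : ∀ q' : Spec (.of (Away ℬ g)), (Proj.awayι ℬ g hg hn) q' ∈ Proj.basicOpen ℬ b ↔
      Away.isLocalizationElem hg hb ∉ q'.asIdeal := by
    intro q'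
    have h := Proj.awayι_preimage_basicOpen ℬ hg hn hb hi
    change q' ∈ (Proj.awayι ℬ g hg hn) ⁻¹ᵁ Proj.basicOpen ℬ b ↔ _
    rw [h]
    exact Iff.rfl
  have hR : (Proj.awayι 𝒜 (φ g) (hφd n g hg) (Nat.mul_pos hn hd)) q ∈ Proj.basicOpen 𝒜 (φ b) ↔
      Away.isLocalizationElem (hφd n g hg) (hφd i b hb) ∉ q.asIdeal := by
    have h := Proj.awayι_preimage_basicOpen 𝒜 (hφd n g hg) (Nat.mul_pos hn hd) (hφd i b hb)
      (Nat.mul_pos hi hd)
    change q ∈ (Proj.awayι 𝒜 (φ g) (hφd n g hg) (Nat.mul_pos hn hd)) ⁻¹ᵁ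
      Proj.basicOpen 𝒜 (φ b) ↔ _
    rw [h]
    exact Iff.rfl
  rw [hL, hR, isLocalizationElem_eq 𝒜 ℬ d φ hφd hg hb]
  refine not_congr ?_
  change theta 𝒜 ℬ d φ hφd g (Away.isLocalizationElem hg hb) ∈ q.asIdeal ↔ _
  exact (q.isPrime.pow_mem_iff_mem d hd).symm

theorem isIso_hom (hφ : Function.Injective φ) : IsIso (hom 𝒜 ℬ d φ hd hφd hsurj) := by
  rw [← MorphismProperty.isomorphisms.iff,
    IsZariskiLocalAtTarget.iff_of_openCover (P := .isomorphisms Scheme)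
      (Proj.affineOpenCover ℬ).openCover]
  rintro ⟨⟨n, hn⟩, ⟨g, hg0⟩⟩
  have hg : g ∈ ℬ n := hg0
  have hbij : Function.Bijective (theta 𝒜 ℬ d φ hφd g) :=
    ⟨theta_injective 𝒜 ℬ d φ hφd hφ g, theta_surjective 𝒜 ℬ d φ hφd hsurj hg⟩
  have hpb := IsOpenImmersion.isPullback (Spec.map (CommRingCat.ofHom (theta 𝒜 ℬ d φ hφd g)))
      (Proj.awayι 𝒜 (φ g) (hφd n g hg) (Nat.mul_pos hn hd)) (Proj.awayι ℬ g hg hn)
      (hom 𝒜 ℬ d φ hd hφd hsurj)
      (awayι_hom 𝒜 ℬ d φ hd hφd hsurj hn hg)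
      (by rw [Proj.opensRange_awayι, Proj.opensRange_awayι,
        hom_preimage_basicOpen 𝒜 ℬ d φ hd hφd hsurj hn hg])
  haveI : IsIso (Spec.map (CommRingCat.ofHom (theta 𝒜 ℬ d φ hφd g))) := by
    haveI : IsIso (CommRingCat.ofHom (theta 𝒜 ℬ d φ hφd g)) :=
      (ConcreteCategory.isIso_iff_bijective _).mpr hbij
    infer_instance
  have h2 : pullback.snd (hom 𝒜 ℬ d φ hd hφd hsurj) (Proj.awayι ℬ g hg hn) =
      hpb.flip.isoPullback.inv ≫ Spec.map (CommRingCat.ofHom (theta 𝒜 ℬ d φ hφd g)) := by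
    rw [Iso.eq_inv_comp]; exact hpb.flip.isoPullback_hom_snd
  change IsIso (pullback.snd (hom 𝒜 ℬ d φ hd hφd hsurj) (Proj.awayι ℬ g hg hn))
  rw [h2]; infer_instance

theorem hom_base_toIdeal (p : Proj 𝒜) :
    ((hom 𝒜 ℬ d φ hd hφd hsurj).base p).asHomogeneousIdeal.toIdeal =
      Ideal.comap φ p.asHomogeneousIdeal.toIdeal := by
  obtain ⟨n, g, hn, hg, hgp⟩ := exists_not_mem 𝒜 ℬ d φ hd hsurj p
  obtain ⟨P', hP'⟩ : ∃ P' : Proj ℬ, P' = (hom 𝒜 ℬ d φ hd hφd hsurj).base p := ⟨_, rfl⟩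
  rw [← hP']
  have key : ∀ {i : ℕ} (_ : 0 < i) {b : B}, b ∈ ℬ i →
      (b ∈ P'.asHomogeneousIdeal ↔ φ b ∈ p.asHomogeneousIdeal) := by
    intro i hi b hb
    have h := congrArg (fun U : (Proj 𝒜).Opens => p ∈ U)
      (hom_preimage_basicOpen 𝒜 ℬ d φ hd hφd hsurj hi hb)
    have h' : (b ∉ P'.asHomogeneousIdeal) ↔ (φ b ∉ p.asHomogeneousIdeal) := by
      rw [hP']; exact iff_of_eq h
    exact not_iff_not.mp h'
  have hgP' : g ∉ P'.asHomogeneousIdeal := fun h => hgp ((key hn hg).mp h)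
  have key2 : ∀ {i : ℕ} {b : B}, b ∈ ℬ i →
      (b ∈ P'.asHomogeneousIdeal.toIdeal ↔ φ b ∈ p.asHomogeneousIdeal.toIdeal) := by
    intro i b hb
    have h1 := key (i := i + n) (Nat.add_pos_right i hn) (SetLike.mul_mem_graded hb hg)
    rw [map_mul] at h1
    constructor
    · intro h
      have h3 := h1.mp (Ideal.mul_mem_right _ _ h)
      exact (p.isPrime.mem_or_mem h3).resolve_right hgp
    · intro h
      have h3 := h1.mpr (Ideal.mul_mem_right _ _ h)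
      exact (P'.isPrime.mem_or_mem h3).resolve_right hgP'
  classical
  ext b
  rw [Ideal.mem_comap]
  constructor
  · intro hb
    rw [← DirectSum.sum_support_decompose ℬ b, map_sum]
    exact Ideal.sum_mem _ fun i _ =>
      (key2 (SetLike.coe_mem _)).mp (P'.asHomogeneousIdeal.isHomogeneous i hb)
  · intro hb
    rw [← DirectSum.sum_support_decompose ℬ b]
    refine Ideal.sum_mem _ fun i _ => (key2 (SetLike.coe_mem _)).mpr ?_
    rw [phi_decompose 𝒜 ℬ d φ hφd hd]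
    exact p.asHomogeneousIdeal.isHomogeneous (i * d) hb

/-- The Veronese isomorphism. -/
noncomputable def iso (hφ : Function.Injective φ) : Proj 𝒜 ≅ Proj ℬ :=
  haveI := isIso_hom 𝒜 ℬ d φ hd hφd hsurj hφ
  asIso (hom 𝒜 ℬ d φ hd hφd hsurj)

theorem iso_hom (hφ : Function.Injective φ) :
    (iso 𝒜 ℬ d φ hd hφd hsurj hφ).hom = hom 𝒜 ℬ d φ hd hφd hsurj := rfl

end Scheme

end Groth.Agent.Helper6.Veronese
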