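import Groth.Agent.Lib.Helper6.VeroOffA
import Groth.Agent.Lib.Helper6.VeroneseA
import Groth.Agent.Lib.Helper6.SigmaGrC

/-!
# `M_n → Γ(Proj A, M(n)~)` for large `n` through a Veronese subring: abstract transfer (helper6)

`𝒜` a graded ring, `ℬ` a graded ring generated in degree one with `φ : B → A`, `φ (ℬ n) = 𝒜 (n d)`,
`h : Proj 𝒜 ⟶ Proj ℬ` the induced morphism; `𝒩` a graded `ℬ`-module with `v : N → M`,
`v (𝒩 n) = ℳ (n d + ro)`.  If `B` is Noetherian and `𝒩` satisfies (TF), then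
`α : ℳ (q d + ro) → Γ(Proj 𝒜, M(q d + ro)~)` is bijective for large `q`.
-/

set_option autoImplicit false
set_option linter.style.haveILetI false
set_option linter.unusedSectionVars false
set_option linter.unusedVariables false
universe u
open DirectSum CategoryTheory CategoryTheory.Limits AlgebraicGeometry Opposite TopologicalSpace
open scoped HomogeneousIdeal

namespace Groth.Agent.Helper6.VeroTF

open Groth.Agent.Helper6.SigmaGr Groth.Agent.Helper6.Veronese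

attribute [local instance] ULift.algebra'

section Crit

variable {A σ : Type u} [CommRing A] [SetLike σ A] [AddSubgroupClass σ A] (𝒜 : ℕ → σ)
  [GradedRing 𝒜]
variable {M τ : Type u} [AddCommGroup M] [Module A M] [SetLike τ M] [AddSubgroupClass τ M]
  (ℳ : ℕ → τ) [SetLike.GradedSMul 𝒜 ℳ] [DirectSum.Decomposition ℳ]

/-- homogeneous elements of large degree killed by powers of all degree-one elements vanish. -/
theorem exists_inj [IsNoetherianRing A]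
    (hgen : (HomogeneousIdeal.irrelevant 𝒜).toIdeal = Ideal.span (𝒜 1 : Set A)) (k : ℕ)
    [Module.Finite A (trunc A ℳ k)] :
    ∃ N₀ : ℕ, ∀ n : ℕ, N₀ ≤ n → ∀ m : M, m ∈ ℳ n →
      (∀ g ∈ 𝒜 1, ∃ K : ℕ, g ^ K • m = 0) → m = 0 := by
  obtain ⟨N, hN⟩ := Groth.Agent.Helper6.GlobSec.tn_bound (zgr 𝒜) (tgr 𝒜 ℳ k)
    (irrelevant_zgr_eq_span 𝒜 hgen)
  refine ⟨max N k, fun n hn m hm hkill => ?_⟩
  have hmt : m ∈ trunc A ℳ k := mem_trunc_of_ge A ℳ (le_trans (le_max_right _ _) hn) hm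
  have h0 := hN n (le_trans (le_max_left _ _) hn) (⟨m, hmt⟩ : trunc A ℳ k)
    (show ((⟨m, hmt⟩ : trunc A ℳ k) : M) ∈ ℳ n from hm)
    (fun g hg => by
      obtain ⟨K, hK⟩ := hkill g hg
      exact ⟨K, Subtype.ext hK⟩)
  exact congrArg (fun z : trunc A ℳ k => (z : M)) h0

/-- a homogeneous element whose germs all vanish is killed by a power of every homogeneous
element of positive degree. -/
theorem kill_of_mk_eq_zero {n : ℕ} {m : M} (hm : m ∈ ℳ n)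
    (h0 : ∀ y : ProjectiveSpectrum 𝒜,
      (LocalizedModule.mk m 1 : GrMod.LocMod 𝒜 (M := M) y) = 0)
    {e : ℕ} (he : 0 < e) {g : A} (hg : g ∈ 𝒜 e) : ∃ K : ℕ, g ^ K • m = 0 := by
  refine Groth.Agent.Helper6.GrModFrac.exists_pow_smul_eq_zero 𝒜 ℳ he hg hm (fun y _ => ?_)
  have h1 := h0 y
  rw [← LocalizedModule.zero_mk 1, LocalizedModule.mk_eq] at h1
  obtain ⟨t, ht⟩ := h1
  refine ⟨t.1, t.2, ?_⟩
  rw [one_smul, smul_zero, smul_zero] at ht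
  exact ht

end Crit

section Transfer

variable {A B : Type u} [CommRing A] [CommRing B]
variable {σ τ : Type u} [SetLike σ A] [AddSubgroupClass σ A] [SetLike τ B] [AddSubgroupClass τ B]
variable (𝒜 : ℕ → σ) [GradedRing 𝒜] (ℬ : ℕ → τ) [GradedRing ℬ]
variable (d : ℕ) (φ : B →+* A) (hd : 0 < d) (hφd : ∀ n b, b ∈ ℬ n → φ b ∈ 𝒜 (n * d))
variable (h : Proj 𝒜 ⟶ Proj ℬ)
  (hchart : ∀ (n : ℕ) (g : B) (hn : 0 < n) (hg : g ∈ ℬ n),
    Proj.awayι 𝒜 (φ g) (hφd n g hg) (Nat.mul_pos hn hd) ≫ h =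
      Spec.map (CommRingCat.ofHom (theta 𝒜 ℬ d φ hφd g)) ≫ Proj.awayι ℬ g hg hn)
  (hcomap : ∀ y : Proj 𝒜,
    (h.base y).asHomogeneousIdeal.toIdeal = Ideal.comap φ y.asHomogeneousIdeal.toIdeal)
variable {M τM : Type u} [AddCommGroup M] [Module A M] [SetLike τM M] [AddSubgroupClass τM M]
    (ℳ : ℕ → τM) [SetLike.GradedSMul 𝒜 ℳ] [DirectSum.Decomposition ℳ]
    {N τN : Type u} [AddCommGroup N] [Module B N] [SetLike τN N] [AddSubgroupClass τN N]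
    (𝒩 : ℕ → τN) [SetLike.GradedSMul ℬ 𝒩] [DirectSum.Decomposition 𝒩] (ro : ℕ)
    (v : N →ₛₗ[φ] M) (hvd : ∀ (i : ℕ) (x : N), x ∈ 𝒩 i → v x ∈ ℳ (i * d + ro))

include hd hφd hchart hcomap hvd in
set_option maxHeartbeats 1600000 in
theorem alpha_bijective_of (hr : ro < d) (hv_inj : Function.Injective v)
    (hv_surj : ∀ i m, m ∈ ℳ (i * d + ro) → ∃ x ∈ 𝒩 i, v x = m) (q : ℕ)
    (hBinj : ∀ x : N, x ∈ 𝒩 q → (∀ g ∈ ℬ 1, ∃ K : ℕ, g ^ K • x = 0) → x = 0)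
    (hBsurj : ∀ t : GrMod.sect ℬ 𝒩 (q : ℤ) (op ⊤), ∃ x : N, x ∈ 𝒩 q ∧
      ∀ y : (⊤ : Opens (ProjectiveSpectrum.top ℬ)),
        ((t.1 y : GrMod.tildeAt ℬ 𝒩 (q : ℤ) y.1) : GrMod.LocMod ℬ (M := N) y.1) =
          LocalizedModule.mk x 1) :
    Function.Bijective (GrMod.alpha 𝒜 ℳ (q * d + ro)) := by
  constructor
  · rw [injective_iff_map_eq_zero]
    intro m hm0
    have hm0' : (GrMod.globalOf 𝒜 ℳ m : GrMod.sect 𝒜 ℳ ((q * d + ro : ℕ) : ℤ) (op ⊤)) =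
        (0 : GrMod.sect 𝒜 ℳ ((q * d + ro : ℕ) : ℤ) (op ⊤)) := hm0
    have h0 : ∀ y : ProjectiveSpectrum 𝒜,
        (LocalizedModule.mk (m : M) 1 : GrMod.LocMod 𝒜 (M := M) y) = 0 := by
      intro y
      have h1 := congrArg (fun s : GrMod.sect 𝒜 ℳ ((q * d + ro : ℕ) : ℤ) (op ⊤) =>
        ((s.1 ⟨y, trivial⟩ : GrMod.tildeAt 𝒜 ℳ ((q * d + ro : ℕ) : ℤ) y) :
          GrMod.LocMod 𝒜 (M := M) y)) hm0'
      exact h1
    obtain ⟨x, hx, hvx⟩ := hv_surj q m m.2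
    have hx0 : x = 0 := by
      refine hBinj x hx (fun g hg => ?_)
      obtain ⟨K, hK⟩ := kill_of_mk_eq_zero 𝒜 ℳ m.2 h0 (Nat.mul_pos Nat.one_pos hd)
        (hφd 1 g hg)
      refine ⟨K, hv_inj ?_⟩
      rw [map_zero, LinearMap.map_smulₛₗ, map_pow, hvx]
      exact hK
    apply Subtype.ext
    rw [← hvx, hx0, map_zero]
    rfl
  · intro t
    obtain ⟨t₁, ht₁⟩ : ∃ t₁ : GrMod.sect 𝒜 ℳ ((q * d + ro : ℕ) : ℤ) (op ⊤), t₁ = t := ⟨t, rfl⟩
    have e1 : ((q * d + ro : ℕ) : ℤ) = (q : ℤ) * d + ro := by push_cast; ring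
    obtain ⟨t', ht'⟩ := sect_cast 𝒜 ℳ e1 (op ⊤) t₁
    obtain ⟨s, hs⟩ := Groth.Agent.Helper6.VeroOff.exists_preimage_top 𝒜 ℬ d φ hd hφd h hchart
      hcomap ℳ 𝒩 ro v hvd hr hv_inj hv_surj (q : ℤ) t'
    obtain ⟨x, hx, hxs⟩ := hBsurj s
    refine ⟨⟨v x, hvd q x hx⟩, ?_⟩
    refine Eq.trans ?_ ht₁
    refine Subtype.ext (funext fun y => Subtype.ext ?_)
    have e2 : ((t'.1 y : GrMod.tildeAt 𝒜 ℳ ((q : ℤ) * d + ro) y.1) :
        GrMod.LocMod 𝒜 (M := M) y.1) = LocalizedModule.mk (v x) 1 := by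
      refine (hs y).trans ?_
      refine (congrArg (Groth.Agent.Helper6.VeroSheaf.vloc 𝒜 ℬ φ h hcomap v y.1)
        (hxs ⟨h.base y.1, trivial⟩)).trans ?_
      refine (Groth.Agent.Helper6.VeroSheaf.vloc_mk 𝒜 ℬ φ h hcomap v y.1 x 1).trans ?_
      exact congrArg (LocalizedModule.mk (v x)) (Subtype.ext (map_one φ))
    exact e2.symm.trans (ht' y)

include hd hφd hchart hcomap hvd in
theorem exists_bij_residue [IsNoetherianRing B]
    (hgenB : (HomogeneousIdeal.irrelevant ℬ).toIdeal = Ideal.span (ℬ 1 : Set B)) (k' : ℕ)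
    [Module.Finite B (trunc B 𝒩 k')]
    (hr : ro < d) (hv_inj : Function.Injective v)
    (hv_surj : ∀ i m, m ∈ ℳ (i * d + ro) → ∃ x ∈ 𝒩 i, v x = m) :
    ∃ Q : ℕ, ∀ q : ℕ, Q ≤ q → Function.Bijective (GrMod.alpha 𝒜 ℳ (q * d + ro)) := by
  obtain ⟨N₀, hN₀⟩ := exists_surj ℬ 𝒩 hgenB k'
  obtain ⟨N₁, hN₁⟩ := exists_inj ℬ 𝒩 hgenB k'
  refine ⟨max N₀ N₁, fun q hq => ?_⟩
  exact alpha_bijective_of 𝒜 ℬ d φ hd hφd h hchart hcomap ℳ 𝒩 ro v hvd hr hv_inj hv_surj q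
    (hN₁ q (le_trans (le_max_right _ _) hq)) (hN₀ q (le_trans (le_max_left _ _) hq))

end Transfer

end Groth.Agent.Helper6.VeroTF
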