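import Groth.Agent.Lib.Helper6.VeroneseA

/-!
# Morphisms `Proj 𝒜 ⟶ Proj ℬ` characterised on charts, degree-preserving case (helper6)

For a degree-preserving ring hom `φ : B →+* A` (`φ (ℬ n) ⊆ 𝒜 n`): the ring homs
`theta1 g g' h : B_(g) → A_(g')` (for `h : φ g = g'`), and, for a morphism `π : Proj 𝒜 ⟶ Proj ℬ`
satisfying the chart formula, the preimages of basic opens. Also: basic opens of positive degree
form a basis.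
-/

set_option autoImplicit false

namespace Groth.Agent.Helper6.VeroneseB

open AlgebraicGeometry CategoryTheory HomogeneousLocalization Limits
open Groth.Agent.Helper6.Veronese

universe u

variable {A B : Type u} [CommRing A] [CommRing B]
variable {σ τ : Type*} [SetLike σ A] [AddSubgroupClass σ A] [SetLike τ B] [AddSubgroupClass τ B]
variable (𝒜 : ℕ → σ) [GradedRing 𝒜] (ℬ : ℕ → τ) [GradedRing ℬ]
variable (φ : B →+* A) (hφ0 : ∀ n b, b ∈ ℬ n → φ b ∈ 𝒜 n)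

include hφ0 in
theorem hφ1 : ∀ n b, b ∈ ℬ n → φ b ∈ 𝒜 (n * 1) :=
  fun n b hb => (Nat.mul_one n).symm ▸ hφ0 n b hb

/-- The ring hom `B_(g) → A_(g')` for `φ g = g'`. -/
noncomputable def theta1 (g : B) (g' : A) (h : φ g = g') : Away ℬ g →+* Away 𝒜 g' := by
  subst h
  exact theta 𝒜 ℬ 1 φ (hφ1 𝒜 ℬ φ hφ0) g

theorem theta1_rfl (g : B) :
    theta1 𝒜 ℬ φ hφ0 g (φ g) rfl = theta 𝒜 ℬ 1 φ (hφ1 𝒜 ℬ φ hφ0) g := rfl

theorem val_theta1 (g : B) (x : Away ℬ g) :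
    (theta1 𝒜 ℬ φ hφ0 g (φ g) rfl x).val = Localization.awayMap φ g x.val :=
  val_theta 𝒜 ℬ 1 φ (hφ1 𝒜 ℬ φ hφ0) g x

theorem eq_theta1 (g : B) (θ : Away ℬ g →+* Away 𝒜 (φ g))
    (hθ : (algebraMap (Away 𝒜 (φ g)) (Localization.Away (φ g))).comp θ =
      (Localization.awayMap φ g).comp (algebraMap (Away ℬ g) (Localization.Away g))) :
    θ = theta1 𝒜 ℬ φ hφ0 g (φ g) rfl :=
  eq_theta 𝒜 ℬ 1 φ (hφ1 𝒜 ℬ φ hφ0) g θ hθ

theorem theta1_compat (g : B) :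
    (algebraMap (Away 𝒜 (φ g)) (Localization.Away (φ g))).comp (theta1 𝒜 ℬ φ hφ0 g (φ g) rfl) =
      (Localization.awayMap φ g).comp (algebraMap (Away ℬ g) (Localization.Away g)) :=
  RingHom.ext fun x => val_theta1 𝒜 ℬ φ hφ0 g x

theorem theta1_mk {n : ℕ} {g : B} {g' : A} (h : φ g = g') (hg : g ∈ ℬ n) (hg' : g' ∈ 𝒜 n)
    (k : ℕ) (a : B) (ha : a ∈ ℬ (k • n)) (ha' : φ a ∈ 𝒜 (k • n)) :
    theta1 𝒜 ℬ φ hφ0 g g' h (Away.mk ℬ hg k a ha) = Away.mk 𝒜 hg' k (φ a) ha' := by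
  subst h
  have hkn : (k • n) * 1 = k • (n * 1) := by simp only [smul_eq_mul, mul_assoc]
  have ha'' : φ a ∈ 𝒜 (k • (n * 1)) := hkn ▸ hφ1 𝒜 ℬ φ hφ0 _ _ ha
  refine (theta_mk 𝒜 ℬ 1 φ (hφ1 𝒜 ℬ φ hφ0) hg k a ha ha'').trans ?_
  apply val_injective
  rfl

theorem theta1_injective (hφ : Function.Injective φ) (g : B) :
    Function.Injective (theta1 𝒜 ℬ φ hφ0 g (φ g) rfl) :=
  theta_injective 𝒜 ℬ 1 φ (hφ1 𝒜 ℬ φ hφ0) hφ g

theorem isLocalizationElem_eq1 {n i : ℕ} {g b : B} (hg : g ∈ ℬ n) (hb : b ∈ ℬ i) :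
    Away.isLocalizationElem (hφ0 n g hg) (hφ0 i b hb) =
      theta1 𝒜 ℬ φ hφ0 g (φ g) rfl (Away.isLocalizationElem hg hb) := by
  apply val_injective
  rw [val_theta1, Away.val_mk, Away.val_mk,
    awayMap_mk' φ g _ _ ((Submonoid.mem_powers_iff _ _).mpr ⟨i, (map_pow φ g i).symm⟩)]
  exact congrArg₂ Localization.mk (map_pow φ b n).symm (Subtype.ext (map_pow φ g i).symm)

/-- Every point of `Proj` lies in some `D_+(g)`, `g` homogeneous of positive degree. -/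
theorem exists_pos_not_mem (y : Proj 𝒜) :
    ∃ (m : ℕ) (g : A), 0 < m ∧ g ∈ 𝒜 m ∧ g ∉ y.asHomogeneousIdeal := by
  classical
  by_contra! H
  refine y.not_irrelevant_le (fun z hz => ?_)
  rw [← DirectSum.sum_support_decompose 𝒜 z]
  refine y.asHomogeneousIdeal.toIdeal.sum_mem (fun k _ => ?_)
  by_cases hk0 : k = 0
  · subst hk0
    have h0 : ((DirectSum.decompose 𝒜 z 0 : 𝒜 0) : A) = 0 :=
      (HomogeneousIdeal.mem_irrelevant_iff 𝒜 z).mp hz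
    rw [h0]
    exact zero_mem _
  · exact H k _ (Nat.pos_of_ne_zero hk0) (SetLike.coe_mem _)

theorem isBasis_pos : TopologicalSpace.Opens.IsBasis
    {V : (Proj 𝒜).Opens | ∃ (d : ℕ) (f : A), 0 < d ∧ f ∈ 𝒜 d ∧ V = Proj.basicOpen 𝒜 f} := by
  classical
  rw [TopologicalSpace.Opens.isBasis_iff_nbhd]
  intro U y hy
  obtain ⟨_, ⟨f0, rfl⟩, hy0, h0Y⟩ :=
    TopologicalSpace.Opens.isBasis_iff_nbhd.mp (Proj.isBasis_basicOpen 𝒜) hy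
  have hsup := Proj.basicOpen_eq_iSup_proj 𝒜 f0
  rw [hsup] at hy0
  obtain ⟨i, hi⟩ := TopologicalSpace.Opens.mem_iSup.mp hy0
  obtain ⟨m, g, hm, hg, hgy⟩ := exists_pos_not_mem 𝒜 y
  refine ⟨Proj.basicOpen 𝒜 (GradedRing.proj 𝒜 i f0 * g),
    ⟨i + m, GradedRing.proj 𝒜 i f0 * g, by omega,
      SetLike.mul_mem_graded (show GradedRing.proj 𝒜 i f0 ∈ 𝒜 i from
        SetLike.coe_mem (DirectSum.decompose 𝒜 f0 i)) hg, rfl⟩, ?_, ?_⟩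
  · rw [Proj.basicOpen_mul]
    exact ⟨hi, hgy⟩
  · rw [Proj.basicOpen_mul]
    refine inf_le_left.trans (le_trans ?_ h0Y)
    rw [hsup]
    exact le_iSup (fun i => Proj.basicOpen 𝒜 (GradedRing.proj 𝒜 i f0)) i

section Chart

variable (π : Proj 𝒜 ⟶ Proj ℬ)
  (hπ : ∀ (n : ℕ) (g : B) (hn : 0 < n) (hg : g ∈ ℬ n),
    Proj.awayι 𝒜 (φ g) (hφ0 n g hg) hn ≫ π =
      Spec.map (CommRingCat.ofHom (theta1 𝒜 ℬ φ hφ0 g (φ g) rfl)) ≫ Proj.awayι ℬ g hg hn)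
  (hcov : ∀ x : Proj 𝒜, ∃ (n : ℕ) (g : B), 0 < n ∧ g ∈ ℬ n ∧ φ g ∉ x.asHomogeneousIdeal)

include hπ hcov in
theorem preimage_basicOpen_of_chart {i : ℕ} (hi : 0 < i) {b : B} (hb : b ∈ ℬ i) :
    π ⁻¹ᵁ Proj.basicOpen ℬ b = Proj.basicOpen 𝒜 (φ b) := by
  refine TopologicalSpace.Opens.ext (Set.ext fun p => ?_)
  obtain ⟨n, g, hn, hg, hgp⟩ := hcov p
  have hp : p ∈ (Proj.awayι 𝒜 (φ g) (hφ0 n g hg) hn).opensRange := by
    rw [Proj.opensRange_awayι]; exact hgp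
  obtain ⟨q, rfl⟩ := hp
  change π ((Proj.awayι 𝒜 (φ g) (hφ0 n g hg) hn) q) ∈ Proj.basicOpen ℬ b ↔
    (Proj.awayι 𝒜 (φ g) (hφ0 n g hg) hn) q ∈ Proj.basicOpen 𝒜 (φ b)
  rw [← Scheme.Hom.comp_apply, hπ n g hn hg, Scheme.Hom.comp_apply]
  have hL : ∀ q' : Spec (.of (Away ℬ g)), (Proj.awayι ℬ g hg hn) q' ∈ Proj.basicOpen ℬ b ↔
      Away.isLocalizationElem hg hb ∉ q'.asIdeal := by
    intro q'
    have h := Proj.awayι_preimage_basicOpen ℬ hg hn hb hi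
    change q' ∈ (Proj.awayι ℬ g hg hn) ⁻¹ᵁ Proj.basicOpen ℬ b ↔ _
    rw [h]
    exact Iff.rfl
  have hR : (Proj.awayι 𝒜 (φ g) (hφ0 n g hg) hn) q ∈ Proj.basicOpen 𝒜 (φ b) ↔
      Away.isLocalizationElem (hφ0 n g hg) (hφ0 i b hb) ∉ q.asIdeal := by
    have h := Proj.awayι_preimage_basicOpen 𝒜 (hφ0 n g hg) hn (hφ0 i b hb) hi
    change q ∈ (Proj.awayι 𝒜 (φ g) (hφ0 n g hg) hn) ⁻¹ᵁ Proj.basicOpen 𝒜 (φ b) ↔ _
    rw [h]
    exact Iff.rfl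
  rw [hL, hR, isLocalizationElem_eq1 𝒜 ℬ φ hφ0 hg hb]
  exact Iff.rfl

include hcov in
theorem hom_ext_of_chart {Z : Scheme.{u}} (f₁ f₂ : Proj 𝒜 ⟶ Z)
    (h : ∀ (n : ℕ) (g : B) (hn : 0 < n) (hg : g ∈ ℬ n),
      Proj.awayι 𝒜 (φ g) (hφ0 n g hg) hn ≫ f₁ = Proj.awayι 𝒜 (φ g) (hφ0 n g hg) hn ≫ f₂) :
    f₁ = f₂ := by
  let 𝒰 : (Proj 𝒜).OpenCover :=
    Scheme.Cover.mkOfCovers (Σ' (n : ℕ) (g : B), 0 < n ∧ g ∈ ℬ n)
      (fun i => Spec (.of (Away 𝒜 (φ i.2.1))))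
      (fun i => Proj.awayι 𝒜 (φ i.2.1) (hφ0 _ _ i.2.2.2) i.2.2.1)
      (fun x => by
        obtain ⟨n, g, hn, hg, hx⟩ := hcov x
        have : x ∈ (Proj.awayι 𝒜 (φ g) (hφ0 _ _ hg) hn).opensRange := by
          rw [Proj.opensRange_awayι]; exact hx
        obtain ⟨y, hy⟩ := this
        exact ⟨⟨n, g, hn, hg⟩, y, hy⟩)
      (fun i => inferInstanceAs (IsOpenImmersion
        (Proj.awayι 𝒜 (φ i.2.1) (hφ0 _ _ i.2.2.2) i.2.2.1)))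
  exact 𝒰.hom_ext _ _ fun i => h i.1 i.2.1 i.2.2.1 i.2.2.2

end Chart

end Groth.Agent.Helper6.VeroneseB
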