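import Groth.Agent.Lib.Helper13.LamSpecial
import Groth.Agent.Lib.Helper13.LamGamma
import Mathlib.Algebra.MvPolynomial.Expand
import Mathlib.RingTheory.MvPolynomial.Basic

/-!
# The split λ-ring `MvPolynomial τ ℤ` (helper6)

The polynomial ring `ℤ[l_a : a ∈ τ]` with the λ-structure in which every monomial is a line element:
`λ_t(Σ c_α l^α) = ∏ (1 + l^α t)^{c_α}`.  It is a λ-ring in the strict sense (`isSpecial`), its Adams
operations are `l ↦ l^k` (`adamsOp_eq_expand`).
-/

universe v

open PowerSeries Finset

namespace Groth.Agent.Helper6.Vp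

open LambdaRing Groth.Agent.Helper13.Lam

variable (τ : Type v)

/-- the unit `1 + l^m t` of the power series ring -/
noncomputable def lineUnit (m : τ →₀ ℕ) : (PowerSeries (MvPolynomial τ ℤ))ˣ where
  val := 1 + PowerSeries.C (MvPolynomial.monomial m (1 : ℤ)) * PowerSeries.X
  inv := PowerSeries.invOfUnit (1 + PowerSeries.C (MvPolynomial.monomial m (1 : ℤ)) * PowerSeries.X) 1
  val_inv := PowerSeries.mul_invOfUnit _ _ (by simp)
  inv_val := by rw [mul_comm]; exact PowerSeries.mul_invOfUnit _ _ (by simp)

/-- the additive map `f ↦ λ_t(f)` into the units of the power series ring -/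
noncomputable def lamHom : MvPolynomial τ ℤ →ₗ[ℤ] Additive (PowerSeries (MvPolynomial τ ℤ))ˣ :=
  (MvPolynomial.basisMonomials τ ℤ).constr ℤ fun m => Additive.ofMul (lineUnit τ m)

/-- the series `λ_t(f)` -/
noncomputable def lamS (f : MvPolynomial τ ℤ) : PowerSeries (MvPolynomial τ ℤ) :=
  ((lamHom τ f).toMul : (PowerSeries (MvPolynomial τ ℤ))ˣ)

variable {τ}

lemma lamS_monomial (m : τ →₀ ℕ) :
    lamS τ (MvPolynomial.monomial m 1) = 1 + PowerSeries.C (MvPolynomial.monomial m (1 : ℤ)) * PowerSeries.X := by
  unfold lamS lamHom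
  have : (MvPolynomial.monomial m (1 : ℤ)) = MvPolynomial.basisMonomials τ ℤ m := by
    rw [MvPolynomial.coe_basisMonomials]
  rw [this, Module.Basis.constr_basis]
  rfl

lemma lamS_add (f g : MvPolynomial τ ℤ) : lamS τ (f + g) = lamS τ f * lamS τ g := by
  unfold lamS
  rw [map_add]
  rfl

lemma lamS_zero : lamS τ (0 : MvPolynomial τ ℤ) = 1 := by
  unfold lamS
  rw [map_zero]
  rfl

lemma lamS_neg_mul (f : MvPolynomial τ ℤ) : lamS τ (-f) * lamS τ f = 1 := by
  rw [← lamS_add, neg_add_cancel, lamS_zero]

/-- induction over the additive group generated by the monomials -/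
theorem mono_induction {P : MvPolynomial τ ℤ → Prop} (h0 : P 0)
    (hadd : ∀ f g, P f → P g → P (f + g)) (hneg : ∀ f, P f → P (-f))
    (hm : ∀ m : τ →₀ ℕ, P (MvPolynomial.monomial m 1)) : ∀ f, P f := by
  intro f
  induction f using MvPolynomial.induction_on' with
  | monomial u a =>
    have h : ∀ a : ℤ, P (MvPolynomial.monomial u a) := by
      intro a
      induction a using Int.induction_on with
      | zero => simpa using h0
      | succ i ih =>
        have := hadd _ _ ih (hm u)
        rwa [← map_add] at this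
      | pred i ih =>
        have := hadd _ _ ih (hneg _ (hm u))
        rwa [← map_neg, ← map_add, ← sub_eq_add_neg] at this
    exact h a
  | add p q hp hq => exact hadd p q hp hq

lemma constantCoeff_lamS (f : MvPolynomial τ ℤ) : PowerSeries.constantCoeff (lamS τ f) = 1 := by
  induction f using mono_induction with
  | h0 => rw [lamS_zero, map_one]
  | hadd f g hf hg => rw [lamS_add, map_mul, hf, hg, one_mul]
  | hneg f hf =>
    have := congrArg PowerSeries.constantCoeff (lamS_neg_mul f)
    rwa [map_mul, hf, mul_one, map_one] at this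
  | hm m => rw [lamS_monomial]; simp

lemma coeff_one_mul' {R : Type*} [CommRing R] (φ ψ : PowerSeries R) :
    PowerSeries.coeff 1 (φ * ψ) =
      PowerSeries.constantCoeff φ * PowerSeries.coeff 1 ψ + PowerSeries.coeff 1 φ * PowerSeries.constantCoeff ψ := by
  rw [PowerSeries.coeff_mul, Finset.Nat.sum_antidiagonal_eq_sum_range_succ_mk, Finset.sum_range_succ,
    Finset.sum_range_one]
  simp

lemma coeff_one_lamS (f : MvPolynomial τ ℤ) : PowerSeries.coeff 1 (lamS τ f) = f := by
  induction f using mono_induction with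
  | h0 => rw [lamS_zero]; simp
  | hadd f g hf hg =>
    rw [lamS_add, coeff_one_mul', hf, hg, constantCoeff_lamS, constantCoeff_lamS]
    ring
  | hneg f hf =>
    have := congrArg (PowerSeries.coeff 1) (lamS_neg_mul f)
    rw [coeff_one_mul', hf, constantCoeff_lamS, constantCoeff_lamS, PowerSeries.coeff_one] at this
    simp only [one_ne_zero, if_false] at this
    linear_combination this
  | hm m =>
    rw [lamS_monomial, coeff_one_add_C_mul_X]
    simp

/-- The λ-structure on `ℤ[l_a]` making the monomials line elements. -/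
@[reducible] noncomputable def splitOps (τ : Type v) : LambdaOps (MvPolynomial τ ℤ) where
  lam n f := PowerSeries.coeff n (lamS τ f)
  lam_zero f := by rw [PowerSeries.coeff_zero_eq_constantCoeff_apply, constantCoeff_lamS]
  lam_one f := coeff_one_lamS f
  lam_add k f g := by
    rw [lamS_add, PowerSeries.coeff_mul, Finset.Nat.sum_antidiagonal_eq_sum_range_succ_mk]

scoped[Groth.Agent.Helper6.Vp] attribute [instance] Groth.Agent.Helper6.Vp.splitOps

lemma lamSeries_eq (f : MvPolynomial τ ℤ) : lamSeries f = lamS τ f := by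
  ext n
  rw [coeff_lamSeries]
  rfl

lemma lamSeries_monomial (m : τ →₀ ℕ) :
    lamSeries (MvPolynomial.monomial m (1 : ℤ)) =
      1 + PowerSeries.C (MvPolynomial.monomial m (1 : ℤ)) * PowerSeries.X := by
  rw [lamSeries_eq, lamS_monomial]

lemma lam_monomial (m : τ →₀ ℕ) (j : ℕ) (hj : 2 ≤ j) :
    LambdaOps.lam j (MvPolynomial.monomial m (1 : ℤ)) = 0 := by
  rw [← coeff_lamSeries, lamSeries_monomial, coeff_one_add_C_mul_X, if_neg (by omega), if_neg (by omega)]

end Groth.Agent.Helper6.Vp
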