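import Groth.Agent.Lib.Helper6.Vp9
import Mathlib.Algebra.Group.ForwardDiff

/-!
# λ- and γ-operations on the graded pieces of the γ-filtration of an augmented `K`-λ-algebra (helper6)

`lam_sub_mem_gammaFil`: for `u ∈ Fil^(q+1)`: `λ^(k+1) u ≡ (-1)^k (k+1)^q u` mod `Fil^(q+2)`.
`gamma_sub_mem_gammaFil`: for `z ∈ Fil^m`, `m ≥ 1`: `γ^m z ≡ (-1)^(m-1) (m-1)! z` mod `Fil^(m+1)`.
-/

universe u v

open Finset

namespace Groth.Agent.Helper6.Vp

open LambdaRing Groth.Agent.Helper13.Lam

section PowCoeff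

lemma coeff_pow_mem {R : Type*} [CommRing R] (I : Ideal R) (φ : PowerSeries R)
    (h : ∀ i, PowerSeries.coeff i φ ∈ I) (j n : ℕ) : PowerSeries.coeff n (φ ^ j) ∈ I ^ j := by
  induction j generalizing n with
  | zero => rw [pow_zero, pow_zero, Ideal.one_eq_top]; trivial
  | succ j ih =>
    rw [pow_succ, pow_succ, PowerSeries.coeff_mul]
    exact Ideal.sum_mem _ fun p _ => Ideal.mul_mem_mul (ih p.1) (h p.2)

end PowCoeff

section Basic

variable {K : Type u} [CommRing K] {A : Type v} [CommRing A] [LambdaOps A]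

/-- `λ^(k+1) u ≡ (-1)^k (k+1)^q u` modulo the `(q+2)`-nd step of the γ-filtration -/
def GoodA (ε : A →+* K) (q : ℕ) (u : A) : Prop :=
  ∀ k : ℕ, LambdaOps.lam (k + 1) u - (-1) ^ k * ((k : A) + 1) ^ q * u ∈ gammaFil ε (q + 2)

variable {ε : A →+* K}

lemma GoodA.lam_mem {q : ℕ} {u : A} (h : GoodA ε q u) (hu : u ∈ gammaFil ε (q + 1)) (k : ℕ) :
    LambdaOps.lam (k + 1) u ∈ gammaFil ε (q + 1) := by
  have h2 : LambdaOps.lam (k + 1) u =
      (LambdaOps.lam (k + 1) u - (-1) ^ k * ((k : A) + 1) ^ q * u) + (-1) ^ k * ((k : A) + 1) ^ q * u := by ring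
  rw [h2]
  exact add_mem (gammaFil_anti ε (by omega) (h k)) (Ideal.mul_mem_left _ _ hu)

lemma goodA_zero (q : ℕ) : GoodA ε q (0 : A) := by
  intro k
  rw [lam_succ_zero, mul_zero, sub_zero]
  exact zero_mem _

lemma GoodA.add {q : ℕ} {u u' : A} (hu : u ∈ gammaFil ε (q + 1)) (hu' : u' ∈ gammaFil ε (q + 1))
    (h : GoodA ε q u) (h' : GoodA ε q u') : GoodA ε q (u + u') := by
  intro k
  rw [LambdaOps.lam_add, Finset.sum_range_succ, Finset.sum_range_succ']
  simp only [LambdaOps.lam_zero, Nat.sub_zero, Nat.sub_self, one_mul, mul_one]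
  have hmid : ∑ j ∈ range k, LambdaOps.lam (j + 1) u * LambdaOps.lam (k + 1 - (j + 1)) u' ∈ gammaFil ε (q + 2) := by
    apply Ideal.sum_mem
    intro j hj
    have hj' : j < k := mem_range.1 hj
    obtain ⟨i, hi⟩ : ∃ i, k + 1 - (j + 1) = i + 1 := ⟨k - j - 1, by omega⟩
    rw [hi]
    exact gammaFil_anti ε (by omega) (mul_mem_gammaFil ε (h.lam_mem hu j) (h'.lam_mem hu' i))
  have e : (∑ j ∈ range k, LambdaOps.lam (j + 1) u * LambdaOps.lam (k + 1 - (j + 1)) u' +
        LambdaOps.lam (k + 1) u' + LambdaOps.lam (k + 1) u) - (-1) ^ k * ((k : A) + 1) ^ q * (u + u') =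
      ∑ j ∈ range k, LambdaOps.lam (j + 1) u * LambdaOps.lam (k + 1 - (j + 1)) u' +
        (LambdaOps.lam (k + 1) u' - (-1) ^ k * ((k : A) + 1) ^ q * u') +
        (LambdaOps.lam (k + 1) u - (-1) ^ k * ((k : A) + 1) ^ q * u) := by ring
  rw [e]
  exact add_mem (add_mem hmid (h' k)) (h k)

end Basic

section Main

variable {K : Type u} [CommRing K] [LambdaOps K] [BinomialRing K]
  {A : Type v} [CommRing A] [LambdaOps A] [Algebra K A] {ε : A →+* K}

/-- compatibility with multiplication by elements of the binomial ring -/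
lemma GoodA.mul_algebraMap (hP : ∀ n : ℕ, ∃ P : MvPolynomial (Fin n ⊕ Fin n) ℤ, IsMulPoly n P)
    (hKb : IsBinomial K) (hA : IsSpecial A) (hKA : IsLambdaAlg K A)
    {q : ℕ} {u : A} (hu : u ∈ gammaFil ε (q + 1)) (h : GoodA ε q u) (c : K) :
    GoodA ε q (u * algebraMap K A c) := by
  intro k
  rw [lam_mul_algebraMap hP hKb hA hKA c u (k + 1), Finset.sum_range_succ', Finset.sum_range_succ']
  have hcoef : ∀ i, PowerSeries.coeff i (lamSeries u - 1) ∈ gammaFil ε (q + 1) := by
    intro i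
    rcases i with _ | i
    · rw [map_sub, PowerSeries.coeff_zero_eq_constantCoeff_apply, constantCoeff_lamSeries]
      simp
    · rw [map_sub, coeff_lamSeries, PowerSeries.coeff_one, if_neg (by omega), sub_zero]
      exact h.lam_mem hu i
  have hhigh : ∑ j ∈ range k, Ring.choose c (j + 1 + 1) •
      PowerSeries.coeff (k + 1) ((lamSeries u - 1) ^ (j + 1 + 1)) ∈ gammaFil ε (q + 2) := by
    apply Ideal.sum_mem
    intro j _
    rw [Algebra.smul_def]
    apply Ideal.mul_mem_left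
    have h1 := coeff_pow_mem (gammaFil ε (q + 1)) _ hcoef (j + 1 + 1) (k + 1)
    have h2 : gammaFil ε (q + 1) ^ (j + 1 + 1) ≤ gammaFil ε (q + 2) := by
      calc gammaFil ε (q + 1) ^ (j + 1 + 1) ≤ gammaFil ε (q + 1) ^ 2 := Ideal.pow_le_pow_right (by omega)
        _ = gammaFil ε (q + 1) * gammaFil ε (q + 1) := pow_two _
        _ ≤ gammaFil ε (q + 1 + (q + 1)) := gammaFil_mul_le ε _ _
        _ ≤ gammaFil ε (q + 2) := gammaFil_anti ε (by omega)
    exact h2 h1
  have e0 : PowerSeries.coeff (k + 1) ((lamSeries u - 1) ^ 0) = 0 := by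
    rw [pow_zero, PowerSeries.coeff_one, if_neg (by omega)]
  have e1 : PowerSeries.coeff (k + 1) ((lamSeries u - 1) ^ (0 + 1)) = LambdaOps.lam (k + 1) u := by
    rw [zero_add, pow_one, map_sub, coeff_lamSeries, PowerSeries.coeff_one, if_neg (by omega), sub_zero]
  rw [e0, e1, smul_zero, add_zero, zero_add, Ring.choose_one_right, Algebra.smul_def]
  have e : ∑ j ∈ range k, Ring.choose c (j + 1 + 1) • PowerSeries.coeff (k + 1) ((lamSeries u - 1) ^ (j + 1 + 1)) +
      algebraMap K A c * LambdaOps.lam (k + 1) u - (-1) ^ k * ((k : A) + 1) ^ q * (u * algebraMap K A c) =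
      ∑ j ∈ range k, Ring.choose c (j + 1 + 1) • PowerSeries.coeff (k + 1) ((lamSeries u - 1) ^ (j + 1 + 1)) +
        algebraMap K A c * (LambdaOps.lam (k + 1) u - (-1) ^ k * ((k : A) + 1) ^ q * u) := by ring
  rw [e]
  exact add_mem hhigh (Ideal.mul_mem_left _ _ (h k))

omit [LambdaOps K] [BinomialRing K] [Algebra K A] in
lemma gamma_zero' (x : A) : gamma 0 x = 1 := by
  unfold gamma
  rw [if_pos rfl]

omit [LambdaOps K] [BinomialRing K] [Algebra K A] in
/-- a generator of the γ-filtration is the value of a γ-monomial on a family of augmentation zero -/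
lemma exists_monomial_of_list (ε : A →+* K) (l : List (ℕ × A)) (hl : ∀ p ∈ l, ε p.2 = 0) :
    ∃ d : ({a : A // ε a = 0} × ℕ) →₀ ℕ,
      Finsupp.weight (wt {a : A // ε a = 0}) d = (l.map Prod.fst).sum ∧
      evγ (fun s : {a : A // ε a = 0} => (s : A)) (MvPolynomial.monomial d 1) =
        (l.map fun p => gamma p.1 p.2).prod := by
  induction l with
  | nil =>
    refine ⟨0, ?_, ?_⟩
    · rw [map_zero]; rfl
    · simp
  | cons p l ih =>
    obtain ⟨d, hd1, hd2⟩ := ih fun q hq => hl q (List.mem_cons_of_mem _ hq)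
    rcases hp : p.1 with _ | i
    · refine ⟨d, ?_, ?_⟩
      · rw [List.map_cons, List.sum_cons, hp, zero_add, hd1]
      · rw [List.map_cons, List.prod_cons, hp, gamma_zero', one_mul, hd2]
    · refine ⟨d + Finsupp.single (⟨p.2, hl p List.mem_cons_self⟩, i) 1, ?_, ?_⟩
      · rw [map_add, Finsupp.weight_single, hd1, List.map_cons, List.sum_cons, hp, one_smul, wt, add_comm]
      · rw [MvPolynomial.monomial_add_single, pow_one, map_mul, hd2, evγ_X, List.map_cons, List.prod_cons, hp,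
          mul_comm]

variable (hP : ∀ n : ℕ, ∃ P : MvPolynomial (Fin n ⊕ Fin n) ℤ, IsMulPoly n P)
  (hQ : ∀ i j : ℕ, ∃ Q : MvPolynomial (Fin (i * j)) ℤ, IsCompPoly i j Q)

include hP hQ in
omit [LambdaOps K] [BinomialRing K] [Algebra K A] in
/-- generators of weight at least `q + 1` -/
lemma goodA_gen (hA : IsSpecial A) (ε : A →+* K) (l : List (ℕ × A)) (hl : ∀ p ∈ l, ε p.2 = 0) (q : ℕ)
    (hw : q + 1 ≤ (l.map Prod.fst).sum) :
    (l.map fun p => gamma p.1 p.2).prod ∈ gammaFil ε (q + 1) ∧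
      GoodA ε q (l.map fun p => gamma p.1 p.2).prod := by
  refine ⟨gen_mem_gammaFil ε l hl _ hw, ?_⟩
  obtain ⟨d, hd1, hd2⟩ := exists_monomial_of_list ε l hl
  obtain ⟨q', hq'⟩ : ∃ q', (l.map Prod.fst).sum = q' + 1 := ⟨(l.map Prod.fst).sum - 1, by omega⟩
  have key := fun k => lam_evγ_monomial_sub_mem hP hQ hA ε (fun s : {a : A // ε a = 0} => (s : A))
    (fun s => s.2) d q' (by rw [hd1, hq']) k
  rw [hd2] at key
  intro k
  by_cases hqq : q' = q
  · subst hqq
    exact key k
  · have hlt : q + 2 ≤ q' + 1 := by omega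
    have hM : (l.map fun p => gamma p.1 p.2).prod ∈ gammaFil ε (q + 2) :=
      gen_mem_gammaFil ε l hl _ (by omega)
    have h1 : LambdaOps.lam (k + 1) (l.map fun p => gamma p.1 p.2).prod ∈ gammaFil ε (q + 2) := by
      have e : LambdaOps.lam (k + 1) (l.map fun p => gamma p.1 p.2).prod =
          (LambdaOps.lam (k + 1) (l.map fun p => gamma p.1 p.2).prod -
            (-1) ^ k * ((k : A) + 1) ^ q' * (l.map fun p => gamma p.1 p.2).prod) +
            (-1) ^ k * ((k : A) + 1) ^ q' * (l.map fun p => gamma p.1 p.2).prod := by ring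
      rw [e]
      exact add_mem (gammaFil_anti ε (by omega) (key k)) (Ideal.mul_mem_left _ _ hM)
    exact sub_mem h1 (Ideal.mul_mem_left _ _ hM)

include hP hQ in
/-- For `u` in the `(q+1)`-st step of the γ-filtration of an augmented `K`-λ-algebra, `K` binomial:
`λ^(k+1) u ≡ (-1)^k (k+1)^q u` modulo the `(q+2)`-nd step. -/
theorem lam_sub_mem_gammaFil (hKb : IsBinomial K) (hA : IsSpecial A) (ε : A →ₐ[K] K)
    (hε : IsAugLambdaAlg K A ε) (q : ℕ) (u : A) (hu : u ∈ gammaFil (ε : A →+* K) (q + 1)) (k : ℕ) :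
    LambdaOps.lam (k + 1) u - (-1) ^ k * ((k : A) + 1) ^ q * u ∈ gammaFil (ε : A →+* K) (q + 2) := by
  have main : ∀ a : A, GoodA (ε : A →+* K) q (a * u) := by
    unfold gammaFil at hu
    induction hu using Submodule.span_induction with
    | mem x hx =>
      obtain ⟨l, hl, hw, rfl⟩ := hx
      intro a
      set c : K := ε a with hc
      set a' : A := a - algebraMap K A c with ha'
      have hεa' : (ε : A →+* K) a' = 0 := by
        show ε a' = 0
        rw [ha', map_sub, AlgHom.commutes, hc]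
        simp
      obtain ⟨hM1, hM2⟩ := goodA_gen hP hQ hA (ε : A →+* K) l hl q hw
      have hl' : ∀ p ∈ ((1, a') :: l), (ε : A →+* K) p.2 = 0 := by
        intro p hp
        rcases List.mem_cons.1 hp with rfl | h
        · exact hεa'
        · exact hl p h
      obtain ⟨hN1, hN2⟩ := goodA_gen hP hQ hA (ε : A →+* K) ((1, a') :: l) hl' q (by
        rw [List.map_cons, List.sum_cons]; omega)
      have hg1 : gamma 1 a' = a' := by
        rw [gamma_succ 0 a']; simp [LambdaOps.lam_one]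
      rw [List.map_cons, List.prod_cons, hg1] at hN1 hN2
      have e : a * (l.map fun p => gamma p.1 p.2).prod =
          (l.map fun p => gamma p.1 p.2).prod * algebraMap K A c + a' * (l.map fun p => gamma p.1 p.2).prod := by
        rw [ha']; ring
      rw [e]
      exact GoodA.add (Ideal.mul_mem_right _ _ hM1) hN1
        (GoodA.mul_algebraMap hP hKb hA hε.isLambdaAlg hM1 hM2 c) hN2
    | zero => intro a; rw [mul_zero]; exact goodA_zero q
    | add x y hx hy hx' hy' =>
      intro a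
      rw [mul_add]
      exact GoodA.add (Ideal.mul_mem_left _ _ hx) (Ideal.mul_mem_left _ _ hy) (hx' a) (hy' a)
    | smul r x hx hx' =>
      intro a
      rw [smul_eq_mul, ← mul_assoc]
      exact hx' (a * r)
  have := main 1 k
  rwa [one_mul] at this

lemma alt_sum_choose_pow (q : ℕ) :
    ∑ j ∈ range (q + 1), ((q.choose j : ℕ) : ℤ) * ((-1) ^ j * ((j : ℤ) + 1) ^ q) = (-1) ^ q * (q.factorial : ℤ) := by
  have h1 := fwdDiff_iter_eq_sum_shift (h := (1 : ℤ)) (fun r : ℤ => r ^ q) q 1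
  have h2 := congrFun (fwdDiff_iter_eq_factorial (R := ℤ) (n := q)) 1
  rw [h2] at h1
  have h3 : ((q.factorial : ℕ) : ℤ → ℤ) 1 = (q.factorial : ℤ) := rfl
  rw [h3] at h1
  rw [h1, Finset.mul_sum]
  apply Finset.sum_congr rfl
  intro j hj
  have hj' : j ≤ q := by have := mem_range.1 hj; omega
  have e : ((-1 : ℤ)) ^ j = (-1) ^ q * (-1) ^ (q - j) := by
    rw [← pow_add]
    have : q + (q - j) = j + 2 * (q - j) := by omega
    rw [this, pow_add, pow_mul]
    simp
  rw [e]
  simp only [smul_eq_mul, nsmul_eq_mul, mul_one]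
  ring

include hP hQ in
/-- For `z` in the `m`-th step of the γ-filtration, `m ≥ 1`: `γ^m z ≡ (-1)^(m-1) (m-1)! z` modulo the
`(m+1)`-st step. -/
theorem gamma_sub_mem_gammaFil (hKb : IsBinomial K) (hA : IsSpecial A) (ε : A →ₐ[K] K)
    (hε : IsAugLambdaAlg K A ε) (q : ℕ) (z : A) (hz : z ∈ gammaFil (ε : A →+* K) (q + 1)) :
    gamma (q + 1) z - (-1) ^ q * (q.factorial : A) * z ∈ gammaFil (ε : A →+* K) (q + 2) := by
  rw [gamma_succ]
  have hid : ((∑ j ∈ range (q + 1), ((q.choose j : ℕ) : ℤ) * ((-1) ^ j * ((j : ℤ) + 1) ^ q) : ℤ) : A) =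
      (((-1) ^ q * (q.factorial : ℤ) : ℤ) : A) := by rw [alt_sum_choose_pow q]
  push_cast at hid
  have e : ∑ j ∈ range (q + 1), (q.choose j : A) * LambdaOps.lam (j + 1) z - (-1) ^ q * (q.factorial : A) * z =
      ∑ j ∈ range (q + 1), (q.choose j : A) * (LambdaOps.lam (j + 1) z - (-1) ^ j * ((j : A) + 1) ^ q * z) := by
    rw [← hid, Finset.sum_mul, ← Finset.sum_sub_distrib]
    apply Finset.sum_congr rfl
    intro j _
    ring
  rw [e]
  exact Ideal.sum_mem _ fun j _ => Ideal.mul_mem_left _ _ (lam_sub_mem_gammaFil hP hQ hKb hA ε hε q z hz j)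

end Main

end Groth.Agent.Helper6.Vp
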