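import Groth.Agent.Lib.Helper6.Vp10

/-!
# Multiplication by an element of a binomial ring: `γ_t(c u) = γ_t(u)^c` (helper6)
-/

universe u v

open Finset

namespace Groth.Agent.Helper6.Vp

open LambdaRing Groth.Agent.Helper13.Lam

section Subst

variable {A : Type v} [CommRing A]

lemma coeff_subst_sT_congr {φ ψ : PowerSeries A} {n : ℕ} (h : AgreeBelow (n + 1) φ ψ) :
    PowerSeries.coeff n (φ.subst (sT A)) = PowerSeries.coeff n (ψ.subst (sT A)) := by
  rw [PowerSeries.coeff_subst' (hasSubst_sT A), PowerSeries.coeff_subst' (hasSubst_sT A)]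
  apply finsum_congr
  intro d
  by_cases hd : d ≤ n
  · rw [h d (by omega)]
  · rw [coeff_sT_pow]
    rcases d with _ | d
    · omega
    · rw [if_neg (by omega), if_neg (by omega), smul_zero, smul_zero]

end Subst

section GammaForm

variable {K : Type u} [CommRing K] [LambdaOps K] [BinomialRing K]
  {A : Type v} [CommRing A] [LambdaOps A] [Algebra K A]

/-- In a special λ-ring which is a λ-algebra over a binomial ring `K`: `γ_t(c u) = γ_t(u)^c` for `c ∈ K`. -/
theorem gamma_mul_algebraMap (hP : ∀ n : ℕ, ∃ P : MvPolynomial (Fin n ⊕ Fin n) ℤ, IsMulPoly n P)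
    (hKb : IsBinomial K) (hA : IsSpecial A) (hKA : IsLambdaAlg K A) (c : K) (u : A) (n : ℕ) :
    gamma n (u * algebraMap K A c) =
      ∑ j ∈ range (n + 1), Ring.choose c j • PowerSeries.coeff n ((gammaSeries u - 1) ^ j) := by
  set S : PowerSeries A := ∑ j ∈ range (n + 1), Ring.choose c j • (lamSeries u - 1) ^ j with hS
  have h1 : AgreeBelow (n + 1) (lamSeries (u * algebraMap K A c)) S := by
    intro i hi
    rw [coeff_lamSeries, lam_mul_algebraMap hP hKb hA hKA c u i, hS, map_sum]
    have e : ∑ j ∈ range (n + 1), PowerSeries.coeff i (Ring.choose c j • (lamSeries u - 1) ^ j) =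
        ∑ j ∈ range (n + 1), Ring.choose c j • PowerSeries.coeff i ((lamSeries u - 1) ^ j) := by
      apply Finset.sum_congr rfl
      intro j _
      rw [PowerSeries.coeff_smul]
    rw [e]
    apply Finset.sum_subset
    · intro j hj; rw [mem_range] at hj ⊢; omega
    · intro j _ hj
      rw [mem_range, not_lt] at hj
      rw [coeff_sub_one_pow_eq_zero _ (constantCoeff_lamSeries u) (by omega), smul_zero]
  rw [← coeff_gammaSeries, gammaSeries_eq_subst, coeff_subst_sT_congr h1, hS]
  have hs := hasSubst_sT A
  rw [← PowerSeries.coe_substAlgHom hs, map_sum, map_sum]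
  apply Finset.sum_congr rfl
  intro j _
  rw [PowerSeries.coe_substAlgHom hs, PowerSeries.subst_smul hs, PowerSeries.coeff_smul,
    PowerSeries.subst_pow hs, PowerSeries.subst_sub hs, ← gammaSeries_eq_subst]
  congr 3
  rw [← map_one (PowerSeries.C (R := A)), PowerSeries.subst_C, map_one]
  rfl

end GammaForm

end Groth.Agent.Helper6.Vp
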