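import Groth.Agent.Lib.Helper6.Vp11

/-!
# γ-operations of γ-monomials have weight at least their index (helper6)
-/

universe u v

open Finset

namespace Groth.Agent.Helper6.Vp

open LambdaRing Groth.Agent.Helper13.Lam

section JGraded

open scoped Groth.Agent.Helper6.Vp

variable {τ : Type v}

/-- the coefficient of `t^a` lies in `J^a` -/
def JGraded (φ : PowerSeries (MvPolynomial τ ℤ)) : Prop :=
  ∀ a, PowerSeries.coeff a φ ∈ J τ ^ a

lemma jGraded_one : JGraded (1 : PowerSeries (MvPolynomial τ ℤ)) := by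
  intro a
  rw [PowerSeries.coeff_one]
  split_ifs with h
  · subst h; rw [pow_zero, Ideal.one_eq_top]; trivial
  · exact zero_mem _

lemma JGraded.mul {φ ψ : PowerSeries (MvPolynomial τ ℤ)} (h : JGraded φ) (h' : JGraded ψ) : JGraded (φ * ψ) := by
  intro a
  rw [PowerSeries.coeff_mul]
  apply Ideal.sum_mem
  intro p hp
  have := Ideal.mul_mem_mul (h p.1) (h' p.2)
  rwa [← pow_add, Finset.mem_antidiagonal.1 hp] at this

lemma JGraded.of_mul_eq_one {φ ψ : PowerSeries (MvPolynomial τ ℤ)} (h : JGraded φ)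
    (h0 : PowerSeries.constantCoeff φ = 1) (hm : ψ * φ = 1) : JGraded ψ := by
  intro a
  induction a using Nat.strong_induction_on with
  | _ a ih =>
    rcases a with _ | a
    · rw [pow_zero, Ideal.one_eq_top]; trivial
    · have h1 := congrArg (PowerSeries.coeff (a + 1)) hm
      rw [PowerSeries.coeff_mul, Finset.Nat.sum_antidiagonal_eq_sum_range_succ_mk, Finset.sum_range_succ,
        PowerSeries.coeff_one, if_neg (by omega), Nat.sub_self, PowerSeries.coeff_zero_eq_constantCoeff_apply,
        h0, mul_one] at h1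
      have h2 : PowerSeries.coeff (a + 1) ψ =
          -∑ i ∈ range (a + 1), PowerSeries.coeff i ψ * PowerSeries.coeff (a + 1 - i) φ := by
        linear_combination h1
      rw [h2]
      apply neg_mem
      apply Ideal.sum_mem
      intro i hi
      have hi' : i < a + 1 := mem_range.1 hi
      have := Ideal.mul_mem_mul (ih i hi') (h (a + 1 - i))
      rw [← pow_add] at this
      have e : i + (a + 1 - i) = a + 1 := by omega
      rwa [e] at this

lemma jGraded_gammaSeries_sub_one (m : τ →₀ ℕ) :
    JGraded (gammaSeries (MvPolynomial.monomial m (1 : ℤ) - 1)) := by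
  rw [gammaSeries_line_sub_one (isSpecial τ).lam_one_eq_zero _ (lam_monomial m)]
  intro a
  rw [coeff_one_add_C_mul_X]
  split_ifs with h h'
  · subst h; rw [pow_zero, Ideal.one_eq_top]; trivial
  · subst h'; rw [pow_one]; exact monomial_sub_one_mem m
  · exact zero_mem _

/-- evaluation of all variables at `1` -/
noncomputable def ev1 (τ : Type v) : MvPolynomial τ ℤ →ₐ[ℤ] ℤ := MvPolynomial.aeval fun _ => (1 : ℤ)

lemma ev1_monomial (m : τ →₀ ℕ) : ev1 τ (MvPolynomial.monomial m 1) = 1 := by
  unfold ev1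
  rw [MvPolynomial.aeval_monomial]
  simp

lemma ev1_eq_zero_of_mem {u : MvPolynomial τ ℤ} (hu : u ∈ J τ) : ev1 τ u = 0 := by
  have : J τ ≤ RingHom.ker (ev1 τ : MvPolynomial τ ℤ →+* ℤ) := by
    unfold J
    rw [Ideal.span_le]
    rintro _ ⟨a, rfl⟩
    show ev1 τ (MvPolynomial.X a - 1) = 0
    unfold ev1
    rw [map_sub, MvPolynomial.aeval_X, map_one, sub_self]
  exact this hu

lemma jGraded_gammaSeries_sub (u : MvPolynomial τ ℤ) :
    JGraded (gammaSeries (u - MvPolynomial.C (ev1 τ u))) := by
  induction u using mono_induction with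
  | h0 => rw [map_zero, map_zero, sub_zero, gammaSeries_zero]; exact jGraded_one
  | hadd f g hf hg =>
    have : f + g - MvPolynomial.C (ev1 τ (f + g)) =
        (f - MvPolynomial.C (ev1 τ f)) + (g - MvPolynomial.C (ev1 τ g)) := by
      rw [map_add, map_add]; ring
    rw [this, gammaSeries_add]
    exact hf.mul hg
  | hneg f hf =>
    have : -f - MvPolynomial.C (ev1 τ (-f)) = -(f - MvPolynomial.C (ev1 τ f)) := by
      rw [map_neg, map_neg]; ring
    rw [this]
    apply hf.of_mul_eq_one
    · rw [← PowerSeries.coeff_zero_eq_constantCoeff_apply, coeff_gammaSeries, gamma, if_pos rfl]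
    · rw [← gammaSeries_add, neg_add_cancel, gammaSeries_zero]
  | hm m =>
    rw [ev1_monomial, MvPolynomial.C_1]
    exact jGraded_gammaSeries_sub_one m

/-- in the split λ-ring, `γ^a` maps the augmentation ideal into its `a`-th power -/
theorem gamma_mem_J_pow {u : MvPolynomial τ ℤ} (hu : u ∈ J τ) (a : ℕ) : gamma a u ∈ J τ ^ a := by
  have := jGraded_gammaSeries_sub u a
  rwa [ev1_eq_zero_of_mem hu, map_zero, sub_zero, coeff_gammaSeries] at this

end JGraded

section A2

variable {σ : Type v}

/-- For a γ-monomial `M` of positive weight, `γ^a(M)` is a polynomial in the `γ^i(x_s)` all of whose monomials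
have weight at least `a`. -/
theorem exists_gamma_evγ_monomial (hP : ∀ n : ℕ, ∃ P : MvPolynomial (Fin n ⊕ Fin n) ℤ, IsMulPoly n P)
    (hQ : ∀ i j : ℕ, ∃ Q : MvPolynomial (Fin (i * j)) ℤ, IsCompPoly i j Q)
    (d : (σ × ℕ) →₀ ℕ) (hd : 1 ≤ Finsupp.weight (wt σ) d) (a : ℕ) :
    ∃ G' : Op σ, WtGE a G' ∧ ∀ (B : Type v) [CommRing B] [LambdaOps B], IsSpecial B → ∀ y : σ → B,
      evγ y G' = gamma a (evγ y (MvPolynomial.monomial d 1)) := by
  have hex : ∃ G' : Op σ, ∀ (B : Type v) [CommRing B] [LambdaOps B], IsSpecial B → ∀ y : σ → B,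
      evγ y G' = gamma a (evγ y (MvPolynomial.monomial d 1)) := by
    rcases a with _ | a
    · refine ⟨1, ?_⟩
      intro B _ _ _ y
      rw [map_one, gamma_zero']
    · have h := fun j => exists_lam_polyγ.{v} hP hQ (MvPolynomial.monomial d (1 : ℤ)) (j + 1)
      choose Gj hGj using h
      refine ⟨∑ j ∈ range (a + 1), (a.choose j : Op σ) * Gj j, ?_⟩
      intro B _ _ hB y
      rw [gamma_succ, map_sum]
      apply Finset.sum_congr rfl
      intro j _
      rw [map_mul, map_natCast, hGj j B hB y]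
  obtain ⟨G', hG'⟩ := hex
  refine ⟨G', ?_, hG'⟩
  apply wtGE_of_evγ_mem
  intro N
  let _ := splitOps (σ × Fin N)
  rw [hG' _ (isSpecial (σ × Fin N))]
  apply gamma_mem_J_pow
  have := evγ_xN_monomial_mem N d 1
  exact Ideal.pow_le_self (by omega) this

end A2

end Groth.Agent.Helper6.Vp
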