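import Groth.Agent.Lib.Helper6.Vp12

/-!
# Verification principle, part 13: weight-graded families of ideals and the γ-filtration

A decreasing multiplicative family of ideals `W` containing, for every element of a generating family, its
γ-operations in the right degrees, contains the γ-filtration as soon as every element of augmentation zero is a
`K`-combination of γ-monomials of positive weight in the family.
-/

set_option autoImplicit false

universe u v w

open Finset

namespace Groth.Agent.Helper6.Vp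

open LambdaRing Groth.Agent.Helper13.Lam

section Graded

variable {B : Type v} [CommRing B]

/-- a decreasing multiplicative family of ideals starting with the unit ideal -/
structure IsGradedFamily (W : ℕ → Ideal B) : Prop where
  anti : ∀ {a b : ℕ}, a ≤ b → W b ≤ W a
  mul_le : ∀ a b : ℕ, W a * W b ≤ W (a + b)
  zero_eq_top : W 0 = ⊤

namespace IsGradedFamily

variable {W : ℕ → Ideal B}

lemma one_mem (hW : IsGradedFamily W) : (1 : B) ∈ W 0 := by
  rw [hW.zero_eq_top]; trivial

lemma mul_mem (hW : IsGradedFamily W) {a b : ℕ} {x y : B} (hx : x ∈ W a) (hy : y ∈ W b) : x * y ∈ W (a + b) :=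
  hW.mul_le a b (Ideal.mul_mem_mul hx hy)

lemma pow_mem (hW : IsGradedFamily W) {p : ℕ} {x : B} (hx : x ∈ W p) (k : ℕ) : x ^ k ∈ W (k * p) := by
  induction k with
  | zero => rw [zero_mul, pow_zero]; exact hW.one_mem
  | succ k ih =>
    rw [pow_succ, Nat.succ_mul]
    exact hW.mul_mem ih hx

lemma prod_mem (hW : IsGradedFamily W) {ι : Type*} (t : Finset ι) (x : ι → B) (a : ι → ℕ)
    (h : ∀ i ∈ t, x i ∈ W (a i)) : ∏ i ∈ t, x i ∈ W (∑ i ∈ t, a i) := by
  classical
  induction t using Finset.induction_on with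
  | empty => rw [Finset.prod_empty, Finset.sum_empty]; exact hW.one_mem
  | insert s t hs ih =>
    rw [Finset.prod_insert hs, Finset.sum_insert hs]
    exact hW.mul_mem (h s (Finset.mem_insert_self s t)) (ih fun i hi => h i (Finset.mem_insert_of_mem hi))

end IsGradedFamily

/-- the coefficient of `t^a` lies in `W a` -/
def WSer (W : ℕ → Ideal B) (φ : PowerSeries B) : Prop := ∀ a, PowerSeries.coeff a φ ∈ W a

variable {W : ℕ → Ideal B}

lemma WSer.one (hW : IsGradedFamily W) : WSer W 1 := by
  intro a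
  rw [PowerSeries.coeff_one]
  split_ifs with h
  · subst h; exact hW.one_mem
  · exact zero_mem _

lemma WSer.mul (hW : IsGradedFamily W) {φ ψ : PowerSeries B} (h : WSer W φ) (h' : WSer W ψ) : WSer W (φ * ψ) := by
  intro a
  rw [PowerSeries.coeff_mul]
  refine Ideal.sum_mem _ fun p hp => ?_
  have := hW.mul_mem (h p.1) (h' p.2)
  rwa [Finset.mem_antidiagonal.1 hp] at this

lemma WSer.sub {φ ψ : PowerSeries B} (h : WSer W φ) (h' : WSer W ψ) : WSer W (φ - ψ) := by
  intro a
  rw [map_sub]
  exact sub_mem (h a) (h' a)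

lemma WSer.pow (hW : IsGradedFamily W) {φ : PowerSeries B} (h : WSer W φ) (j : ℕ) : WSer W (φ ^ j) := by
  induction j with
  | zero => rw [pow_zero]; exact WSer.one hW
  | succ j ih => rw [pow_succ]; exact WSer.mul hW ih h

variable [LambdaOps B]

/-- all the γ-operations of `u` lie in the right step of the family -/
def WGood (W : ℕ → Ideal B) (u : B) : Prop := ∀ i, gamma i u ∈ W i

lemma wGood_iff (W : ℕ → Ideal B) (u : B) : WGood W u ↔ WSer W (gammaSeries u) := by
  constructor
  · intro h a
    rw [coeff_gammaSeries]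
    exact h a
  · intro h a
    rw [← coeff_gammaSeries]
    exact h a

lemma wGood_zero (hW : IsGradedFamily W) : WGood W (0 : B) := by
  rw [wGood_iff, gammaSeries_zero]
  exact WSer.one hW

lemma WGood.add (hW : IsGradedFamily W) {u v : B} (hu : WGood W u) (hv : WGood W v) : WGood W (u + v) := by
  rw [wGood_iff] at hu hv ⊢
  rw [gammaSeries_add]
  exact WSer.mul hW hu hv

lemma wGood_sum (hW : IsGradedFamily W) {ι : Type*} (s : Finset ι) (f : ι → B) (h : ∀ i ∈ s, WGood W (f i)) :
    WGood W (∑ i ∈ s, f i) :=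
  Finset.sum_induction f (WGood W) (fun _ _ => WGood.add hW) (wGood_zero hW) h

lemma gamma_one' (y : B) : gamma 1 y = y := by
  have := gamma_succ 0 y
  rw [zero_add] at this
  rw [this, Finset.sum_range_one, Nat.choose_self, Nat.cast_one, one_mul, zero_add, LambdaOps.lam_one]

/-- a ring homomorphism commuting with the λ-operations commutes with the γ-operations -/
lemma map_gamma {A : Type u} [CommRing A] [LambdaOps A] (f : A →+* B)
    (hf : ∀ (n : ℕ) (a : A), f (LambdaOps.lam n a) = LambdaOps.lam n (f a)) (i : ℕ) (a : A) :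
    f (gamma i a) = gamma i (f a) := by
  rcases i with _ | i
  · rw [gamma_zero', gamma_zero', map_one]
  · rw [gamma_succ, gamma_succ, map_sum]
    apply Finset.sum_congr rfl
    intro j _
    rw [map_mul, map_natCast, hf]

lemma gamma_succ_zero (i : ℕ) : gamma (i + 1) (0 : B) = 0 := by
  rw [← coeff_gammaSeries, gammaSeries_zero, PowerSeries.coeff_one, if_neg (by omega)]

/-- the γ-filtration is contained in a graded family containing the γ-operations of the augmentation ideal -/
theorem gammaFil_le_of_wGood {K : Type u} [CommRing K] (hW : IsGradedFamily W) (ε : B →+* K)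
    (h : ∀ z, ε z = 0 → WGood W z) (k : ℕ) : gammaFil ε k ≤ W k := by
  unfold gammaFil
  apply Ideal.span_le.2
  rintro y ⟨l, hl, hk, rfl⟩
  apply hW.anti hk
  clear hk
  induction l with
  | nil =>
    rw [List.map_nil, List.map_nil, List.prod_nil, List.sum_nil]
    exact hW.one_mem
  | cons p l ih =>
    rw [List.map_cons, List.map_cons, List.prod_cons, List.sum_cons]
    exact hW.mul_mem (h p.2 (hl p List.mem_cons_self) p.1) (ih fun q hq => hl q (List.mem_cons_of_mem _ hq))

/-- the γ-filtration is itself a graded family -/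
lemma isGradedFamily_gammaFil {K : Type u} [CommRing K] (ε : B →+* K) : IsGradedFamily (gammaFil ε) where
  anti := fun h => gammaFil_anti ε h
  mul_le := gammaFil_mul_le ε
  zero_eq_top := gammaFil_zero ε

section Scalar

variable {K : Type u} [CommRing K] [LambdaOps K] [BinomialRing K] [Algebra K B]

/-- `WGood` is stable under multiplication by scalars from the binomial base ring -/
lemma WGood.mul_algebraMap (hP : ∀ n : ℕ, ∃ P : MvPolynomial (Fin n ⊕ Fin n) ℤ, IsMulPoly n P)
    (hKb : IsBinomial K) (hB : IsSpecial B) (hKB : IsLambdaAlg K B) (hW : IsGradedFamily W) {u : B}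
    (hu : WGood W u) (c : K) : WGood W (u * algebraMap K B c) := by
  intro n
  rw [gamma_mul_algebraMap hP hKb hB hKB c u n]
  refine Ideal.sum_mem _ fun j _ => ?_
  rw [Algebra.smul_def]
  apply Ideal.mul_mem_left
  have h1 : WSer W (gammaSeries u - 1) := WSer.sub ((wGood_iff W u).1 hu) (WSer.one hW)
  exact WSer.pow hW h1 j n

end Scalar

section Monomials

variable {σ : Type w}

lemma one_le_weight {d : (σ × ℕ) →₀ ℕ} (hd : d ≠ 0) : 1 ≤ Finsupp.weight (wt σ) d := by
  obtain ⟨p, hp⟩ := Finsupp.ne_iff.1 hd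
  have h1 : d p ≤ Finsupp.weight (wt σ) d := Finsupp.le_weight (wt σ) (by unfold wt; omega) d
  have h2 : d p ≠ 0 := hp
  omega

lemma evγ_monomial_mem_W (hW : IsGradedFamily W) (y : σ → B) (hy : ∀ s i, gamma (i + 1) (y s) ∈ W (i + 1))
    (d : (σ × ℕ) →₀ ℕ) (r : ℤ) :
    evγ y (MvPolynomial.monomial d r) ∈ W (Finsupp.weight (wt σ) d) := by
  unfold evγ
  rw [MvPolynomial.aeval_monomial, Finsupp.weight_apply]
  apply Ideal.mul_mem_left
  unfold Finsupp.prod Finsupp.sum
  refine hW.prod_mem _ _ _ fun p _ => ?_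
  have := hW.pow_mem (hy p.1 p.2) (d p)
  show gamma (p.2 + 1) (y p.1) ^ d p ∈ W (d p • wt σ p)
  rwa [smul_eq_mul]

/-- a polynomial operation all of whose monomials have weight `≥ a` takes values in `W a` on a family whose
γ-operations lie in the family `W` -/
theorem evγ_mem_W (hW : IsGradedFamily W) (y : σ → B) (hy : ∀ s i, gamma (i + 1) (y s) ∈ W (i + 1))
    {a : ℕ} {G : Op σ} (hG : WtGE a G) : evγ y G ∈ W a := by
  rw [G.as_sum, map_sum]
  refine Ideal.sum_mem _ fun d hd => ?_
  exact hW.anti (hG d hd) (evγ_monomial_mem_W hW y hy d _)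

lemma evγ_monomial_mapDomain {ι : Type*} (y : σ → B) (φ : ι → σ × ℕ) (e : ι →₀ ℕ) :
    evγ y (MvPolynomial.monomial (e.mapDomain φ) 1) =
      e.prod fun i n => gamma ((φ i).2 + 1) (y (φ i).1) ^ n := by
  rw [← MvPolynomial.rename_monomial]
  unfold evγ
  rw [MvPolynomial.aeval_rename, MvPolynomial.aeval_monomial, RingHom.map_one, one_mul]
  rfl

lemma evγ_monomial_single_add (y : σ → B) (p : σ × ℕ) (d : (σ × ℕ) →₀ ℕ) :
    evγ y (MvPolynomial.monomial (Finsupp.single p 1 + d) 1) =
      gamma (p.2 + 1) (y p.1) * evγ y (MvPolynomial.monomial d 1) := by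
  rw [MvPolynomial.monomial_single_add, pow_one, map_mul, evγ_X]

lemma single_add_ne_zero (p : σ × ℕ) (d : (σ × ℕ) →₀ ℕ) : Finsupp.single p 1 + d ≠ 0 := by
  intro h
  have := DFunLike.congr_fun h p
  rw [Finsupp.add_apply, Finsupp.single_eq_same, Finsupp.zero_apply] at this
  omega

end Monomials

section Main

variable {σ : Type v}

/-- in a special λ-ring, a γ-monomial of positive weight in a family whose γ-operations lie in `W` has all
its γ-operations in `W` -/
theorem wGood_monomial (hP : ∀ n : ℕ, ∃ P : MvPolynomial (Fin n ⊕ Fin n) ℤ, IsMulPoly n P)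
    (hQ : ∀ i j : ℕ, ∃ Q : MvPolynomial (Fin (i * j)) ℤ, IsCompPoly i j Q)
    (hB : IsSpecial B) (hW : IsGradedFamily W) (y : σ → B) (hy : ∀ s i, gamma (i + 1) (y s) ∈ W (i + 1))
    (d : (σ × ℕ) →₀ ℕ) (hd : d ≠ 0) : WGood W (evγ y (MvPolynomial.monomial d 1)) := by
  intro a
  obtain ⟨G', hG', h⟩ := exists_gamma_evγ_monomial.{v} hP hQ d (one_le_weight hd) a
  rw [← h B hB y]
  exact evγ_mem_W hW y hy hG'

theorem wGood_gamma_mul_monomial (hP : ∀ n : ℕ, ∃ P : MvPolynomial (Fin n ⊕ Fin n) ℤ, IsMulPoly n P)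
    (hQ : ∀ i j : ℕ, ∃ Q : MvPolynomial (Fin (i * j)) ℤ, IsCompPoly i j Q)
    (hB : IsSpecial B) (hW : IsGradedFamily W) (y : σ → B) (hy : ∀ s i, gamma (i + 1) (y s) ∈ W (i + 1))
    (p : σ × ℕ) (d : (σ × ℕ) →₀ ℕ) :
    WGood W (gamma (p.2 + 1) (y p.1) * evγ y (MvPolynomial.monomial d 1)) := by
  rw [← evγ_monomial_single_add]
  exact wGood_monomial hP hQ hB hW y hy _ (single_add_ne_zero p d)

end Main

end Graded

end Groth.Agent.Helper6.Vp
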