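import Groth.Agent.Lib.Helper6.Vp13

/-!
# Verification principle, part 14: the γ-filtration of a truncated polynomial λ-algebra on one generator
-/

set_option autoImplicit false

universe u v

open Finset

namespace Groth.Agent.Helper6.Vp

open LambdaRing Groth.Agent.Helper13.Lam

section Truncated

variable {B : Type v} [CommRing B] [LambdaOps B]

/-- the ideal generated by the monomials of weight at least `k` in `γ^1 x, …, γ^n x` -/
def wIdeal (n : ℕ) (x : B) (k : ℕ) : Ideal B :=
  Ideal.span {m : B | ∃ e : Fin n → ℕ, k ≤ ∑ j : Fin n, ((j : ℕ) + 1) * e j ∧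
    m = ∏ j : Fin n, gamma ((j : ℕ) + 1) x ^ e j}

lemma isGradedFamily_wIdeal (n : ℕ) (x : B) : IsGradedFamily (wIdeal n x) where
  anti := by
    intro a b hab
    apply Ideal.span_mono
    rintro m ⟨e, he, rfl⟩
    exact ⟨e, le_trans hab he, rfl⟩
  mul_le := by
    intro a b
    unfold wIdeal
    rw [Ideal.span_mul_span']
    apply Ideal.span_le.2
    rintro m ⟨m₁, ⟨e₁, h₁, rfl⟩, m₂, ⟨e₂, h₂, rfl⟩, rfl⟩
    apply Ideal.subset_span
    refine ⟨e₁ + e₂, ?_, ?_⟩
    · have : ∑ j : Fin n, ((j : ℕ) + 1) * (e₁ + e₂) j =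
          ∑ j : Fin n, ((j : ℕ) + 1) * e₁ j + ∑ j : Fin n, ((j : ℕ) + 1) * e₂ j := by
        rw [← Finset.sum_add_distrib]
        apply Finset.sum_congr rfl
        intro j _
        rw [Pi.add_apply, mul_add]
      rw [this]
      exact add_le_add h₁ h₂
    · show (∏ j : Fin n, gamma ((j : ℕ) + 1) x ^ e₁ j) * (∏ j : Fin n, gamma ((j : ℕ) + 1) x ^ e₂ j) = _
      rw [← Finset.prod_mul_distrib]
      apply Finset.prod_congr rfl
      intro j _
      rw [Pi.add_apply, pow_add]
  zero_eq_top := by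
    rw [Ideal.eq_top_iff_one]
    apply Ideal.subset_span
    refine ⟨0, Nat.zero_le _, ?_⟩
    rw [Finset.prod_eq_one]
    intro j _
    rw [Pi.zero_apply, pow_zero]

lemma gamma_mem_wIdeal (n : ℕ) (x : B) (hγ : ∀ k : ℕ, n < k → gamma k x = 0) (i : ℕ) :
    gamma (i + 1) x ∈ wIdeal n x (i + 1) := by
  classical
  by_cases h : i < n
  · apply Ideal.subset_span
    have hs : ∑ j : Fin n, ((j : ℕ) + 1) * (Pi.single (⟨i, h⟩ : Fin n) 1 : Fin n → ℕ) j = i + 1 := by
      rw [Finset.sum_eq_single (⟨i, h⟩ : Fin n)]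
      · rw [Pi.single_eq_same, mul_one]
      · intro j _ hj
        rw [Pi.single_eq_of_ne hj, mul_zero]
      · intro h'
        exact absurd (Finset.mem_univ _) h'
    have hp : ∏ j : Fin n, gamma ((j : ℕ) + 1) x ^ (Pi.single (⟨i, h⟩ : Fin n) 1 : Fin n → ℕ) j =
        gamma (i + 1) x := by
      rw [Finset.prod_eq_single (⟨i, h⟩ : Fin n)]
      · rw [Pi.single_eq_same, pow_one]
      · intro j _ hj
        rw [Pi.single_eq_of_ne hj, pow_zero]
      · intro h'
        exact absurd (Finset.mem_univ _) h'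
    exact ⟨Pi.single (⟨i, h⟩ : Fin n) 1, hs.ge, hp.symm⟩
  · rw [hγ (i + 1) (by omega)]
    exact zero_mem _

variable {K : Type u} [CommRing K] [LambdaOps K] [BinomialRing K] [Algebra K B]

/-- the γ-filtration of `K[γ^1 x, …, γ^n x]` (with `γ^k x = 0` for `k > n`) is the filtration by the weight -/
theorem gammaFil_eq_wIdeal (hKb : IsBinomial K) (hB : IsSpecial B)
    (hP : ∀ n : ℕ, ∃ P : MvPolynomial (Fin n ⊕ Fin n) ℤ, IsMulPoly n P)
    (hQ : ∀ i j : ℕ, ∃ Q : MvPolynomial (Fin (i * j)) ℤ, IsCompPoly i j Q)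
    (ε : B →ₐ[K] K) (hε : IsAugLambdaAlg K B ε)
    (n : ℕ) (x : B) (hx : ε x = 0) (hγ : ∀ k : ℕ, n < k → gamma k x = 0)
    (hgen : Algebra.adjoin K (Set.range fun j : Fin n => gamma ((j : ℕ) + 1) x) = ⊤)
    (k : ℕ) :
    gammaFil (ε : B →+* K) k = wIdeal n x k := by
  classical
  have hW := isGradedFamily_wIdeal n x
  have hεγ : ∀ i : ℕ, ε (gamma (i + 1) x) = 0 := by
    intro i
    have := map_gamma (ε : B →+* K) (fun m a => hε.map_lam m a) (i + 1) x
    have h2 : ε (gamma (i + 1) x) = gamma (i + 1) (ε x) := this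
    rw [h2, hx, gamma_succ_zero]
  apply le_antisymm
  · apply gammaFil_le_of_wGood hW
    intro z hz
    have hzmem : z ∈ Algebra.adjoin K (Set.range fun j : Fin n => gamma ((j : ℕ) + 1) x) := by
      rw [hgen]; trivial
    rw [Algebra.adjoin_range_eq_range_aeval] at hzmem
    obtain ⟨p, hp⟩ := hzmem
    have hp' : MvPolynomial.aeval (fun j : Fin n => gamma ((j : ℕ) + 1) x) p = z := hp
    clear hp
    subst hp'
    have hc : MvPolynomial.coeff 0 p = 0 := by
      have h1 : ε (MvPolynomial.aeval (fun j : Fin n => gamma ((j : ℕ) + 1) x) p) =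
          MvPolynomial.aeval (fun j : Fin n => ε (gamma ((j : ℕ) + 1) x)) p :=
        MvPolynomial.comp_aeval_apply _ ε p
      have h2 : (fun j : Fin n => ε (gamma ((j : ℕ) + 1) x)) = fun _ => (0 : K) := by
        funext j
        exact hεγ j
      rw [h2, MvPolynomial.aeval_zero'] at h1
      have h3 : ε (MvPolynomial.aeval (fun j : Fin n => gamma ((j : ℕ) + 1) x) p) = 0 := hz
      rw [h3] at h1
      exact h1.symm
    rw [p.as_sum, map_sum]
    apply wGood_sum hW
    intro e he
    have he0 : e ≠ 0 := by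
      rintro rfl
      rw [MvPolynomial.mem_support_iff] at he
      exact he hc
    rw [MvPolynomial.aeval_monomial, mul_comm]
    apply WGood.mul_algebraMap hP hKb hB hε.isLambdaAlg hW
    have hinj : Function.Injective fun j : Fin n => ((PUnit.unit : PUnit.{v + 1}), (j : ℕ)) :=
      fun a b hab => Fin.ext (congrArg Prod.snd hab)
    have hd : e.mapDomain (fun j : Fin n => ((PUnit.unit : PUnit.{v + 1}), (j : ℕ))) ≠ 0 := by
      intro h0
      apply he0
      apply Finsupp.mapDomain_injective hinj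
      rw [h0, Finsupp.mapDomain_zero]
    have := wGood_monomial hP hQ hB hW (fun _ : PUnit.{v + 1} => x) (fun _ i => gamma_mem_wIdeal n x hγ i)
      _ hd
    rw [evγ_monomial_mapDomain] at this
    exact this
  · unfold wIdeal
    apply Ideal.span_le.2
    rintro m ⟨e, he, rfl⟩
    have h1 : ∏ j : Fin n, gamma ((j : ℕ) + 1) x ^ e j ∈
        gammaFil (ε : B →+* K) (∑ j : Fin n, e j * ((j : ℕ) + 1)) :=
      prod_mem_gammaFil _ _ _ _ fun j _ => pow_mem_gammaFil _ (gamma_mem_gammaFil _ hx _) _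
    refine gammaFil_anti _ ?_ h1
    calc k ≤ ∑ j : Fin n, ((j : ℕ) + 1) * e j := he
      _ = ∑ j : Fin n, e j * ((j : ℕ) + 1) := Finset.sum_congr rfl fun j _ => mul_comm _ _

end Truncated

end Groth.Agent.Helper6.Vp
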