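import Groth.Agent.Lib.Helper6.Vp14

/-!
# Verification principle, part 15: the γ-filtration of a free λ-algebra on one generator over an augmented base
-/

set_option autoImplicit false

universe u v w

open Finset

namespace Groth.Agent.Helper6.Vp

open LambdaRing Groth.Agent.Helper13.Lam

section FreeOver

variable {K : Type u} [CommRing K]
  {A : Type v} [CommRing A] [LambdaOps A]
  {B : Type w} [CommRing B] [LambdaOps B] [Algebra A B]

/-- the ideal generated by the products `a · m`, `m` a monomial of weight `i` in the `γ^j x` and `a` in the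
`(k - i)`-th step of the γ-filtration of `A` -/
def rIdeal (εA : A →+* K) (x : B) (k : ℕ) : Ideal B :=
  Ideal.span {b : B | ∃ (e : ℕ →₀ ℕ) (a : A),
    a ∈ gammaFil εA (k - e.sum fun j n => (j + 1) * n) ∧
    b = algebraMap A B a * e.prod fun j n => gamma (j + 1) x ^ n}

lemma isGradedFamily_rIdeal (εA : A →+* K) (x : B) : IsGradedFamily (rIdeal εA x) where
  anti := by
    intro a b hab
    apply Ideal.span_mono
    rintro m ⟨e, c, hc, rfl⟩
    exact ⟨e, c, gammaFil_anti εA (Nat.sub_le_sub_right hab _) hc, rfl⟩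
  mul_le := by
    intro a b
    unfold rIdeal
    rw [Ideal.span_mul_span']
    apply Ideal.span_le.2
    rintro m ⟨m₁, ⟨e₁, c₁, h₁, rfl⟩, m₂, ⟨e₂, c₂, h₂, rfl⟩, rfl⟩
    apply Ideal.subset_span
    refine ⟨e₁ + e₂, c₁ * c₂, ?_, ?_⟩
    · have hs : (e₁ + e₂).sum (fun j n => (j + 1) * n) =
          e₁.sum (fun j n => (j + 1) * n) + e₂.sum (fun j n => (j + 1) * n) :=
        Finsupp.sum_add_index' (fun j => mul_zero _) (fun j b₁ b₂ => mul_add _ _ _)
      rw [hs]
      exact gammaFil_anti εA (by omega) (mul_mem_gammaFil εA h₁ h₂)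
    · show (algebraMap A B c₁ * e₁.prod fun j n => gamma (j + 1) x ^ n) *
          (algebraMap A B c₂ * e₂.prod fun j n => gamma (j + 1) x ^ n) = _
      rw [Finsupp.prod_add_index' (fun j => pow_zero _) (fun j b₁ b₂ => pow_add _ _ _), map_mul]
      ring
  zero_eq_top := by
    rw [Ideal.eq_top_iff_one]
    apply Ideal.subset_span
    refine ⟨0, 1, ?_, ?_⟩
    · rw [Finsupp.sum_zero_index, Nat.sub_zero, gammaFil_zero]
      trivial
    · rw [Finsupp.prod_zero_index, map_one, mul_one]

lemma gamma_mem_rIdeal (εA : A →+* K) (x : B) (i : ℕ) : gamma (i + 1) x ∈ rIdeal εA x (i + 1) := by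
  apply Ideal.subset_span
  refine ⟨Finsupp.single i 1, 1, ?_, ?_⟩
  · rw [Finsupp.sum_single_index (mul_zero _), mul_one, Nat.sub_self, gammaFil_zero]
    trivial
  · rw [Finsupp.prod_single_index (h := fun j n => gamma (j + 1) x ^ n) (pow_zero _), pow_one, map_one, one_mul]

lemma algebraMap_mem_rIdeal (εA : A →+* K) (x : B) {k : ℕ} {a : A} (ha : a ∈ gammaFil εA k) :
    algebraMap A B a ∈ rIdeal εA x k := by
  apply Ideal.subset_span
  refine ⟨0, a, ?_, ?_⟩
  · rw [Finsupp.sum_zero_index, Nat.sub_zero]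
    exact ha
  · rw [Finsupp.prod_zero_index, mul_one]

/-- the structure map of a λ-algebra compatible with the augmentations respects the γ-filtrations -/
lemma algebraMap_mem_gammaFil (εA : A →+* K) (εB : B →+* K) (hAB : IsLambdaAlg A B)
    (hεAB : ∀ a : A, εB (algebraMap A B a) = εA a) {m : ℕ} {a : A} (ha : a ∈ gammaFil εA m) :
    algebraMap A B a ∈ gammaFil εB m := by
  have hle : gammaFil εA m ≤ (gammaFil εB m).comap (algebraMap A B) := by
    apply Ideal.span_le.2
    rintro y ⟨l, hl, hm, rfl⟩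
    have hl' : ∀ p ∈ l.map (fun p : ℕ × A => (p.1, algebraMap A B p.2)), εB p.2 = 0 := by
      intro p hp
      obtain ⟨q, hq, rfl⟩ := List.mem_map.1 hp
      show εB (algebraMap A B q.2) = 0
      rw [hεAB]
      exact hl q hq
    have hfst : (l.map (fun p : ℕ × A => (p.1, algebraMap A B p.2))).map Prod.fst = l.map Prod.fst := by
      rw [List.map_map]
      rfl
    have h1 := gen_mem_gammaFil εB _ hl' m (by rw [hfst]; exact hm)
    have h2 : algebraMap A B (l.map fun p => gamma p.1 p.2).prod =
        ((l.map (fun p : ℕ × A => (p.1, algebraMap A B p.2))).map fun p => gamma p.1 p.2).prod := by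
      rw [map_list_prod, List.map_map, List.map_map]
      congr 1
      apply List.map_congr_left
      intro p _
      exact map_gamma (algebraMap A B) (fun n a => hAB n a) p.1 p.2
    show algebraMap A B (l.map fun p => gamma p.1 p.2).prod ∈ gammaFil εB m
    rw [h2]
    exact h1
  exact hle ha

end FreeOver

section FreeOverMain

variable {K : Type u} [CommRing K] [LambdaOps K] [BinomialRing K]
  {A : Type v} [CommRing A] [LambdaOps A] [Algebra K A]
  {B : Type w} [CommRing B] [LambdaOps B] [Algebra K B] [Algebra A B] [IsScalarTower K A B]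

/-- a term `c · m` of an element of augmentation zero has all its γ-operations in the family `rIdeal` -/
theorem wGood_term (hKb : IsBinomial K) (hB : IsSpecial B) (hAB : IsLambdaAlg A B) (hKB : IsLambdaAlg K B)
    (hP : ∀ n : ℕ, ∃ P : MvPolynomial (Fin n ⊕ Fin n) ℤ, IsMulPoly n P)
    (hQ : ∀ i j : ℕ, ∃ Q : MvPolynomial (Fin (i * j)) ℤ, IsCompPoly i j Q)
    (εA : A →ₐ[K] K) (x : B) (c : A) (e : ℕ →₀ ℕ) (hce : e = 0 → εA c = 0) :
    WGood (rIdeal (εA : A →+* K) x) (algebraMap A B c * e.prod fun j n => gamma (j + 1) x ^ n) := by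
  have hW := isGradedFamily_rIdeal (B := B) (εA : A →+* K) x
  have hεc' : εA (c - algebraMap K A (εA c)) = 0 := by
    rw [map_sub, AlgHom.commutes]
    exact sub_self _
  have hsplit : algebraMap A B c * (e.prod fun j n => gamma (j + 1) x ^ n) =
      algebraMap A B (c - algebraMap K A (εA c)) * (e.prod fun j n => gamma (j + 1) x ^ n) +
        (e.prod fun j n => gamma (j + 1) x ^ n) * algebraMap K B (εA c) := by
    rw [map_sub, ← IsScalarTower.algebraMap_apply K A B]
    ring
  rw [hsplit]
  let y : PUnit.{w + 1} ⊕ PUnit.{w + 1} → B :=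
    Sum.elim (fun _ => algebraMap A B (c - algebraMap K A (εA c))) (fun _ => x)
  have hy : ∀ s i, gamma (i + 1) (y s) ∈ rIdeal (εA : A →+* K) x (i + 1) := by
    rintro (s | s) i
    · show gamma (i + 1) (algebraMap A B (c - algebraMap K A (εA c))) ∈ _
      rw [← map_gamma (algebraMap A B) (fun n a => hAB n a)]
      exact algebraMap_mem_rIdeal _ x (gamma_mem_gammaFil (εA : A →+* K) hεc' (i + 1))
    · exact gamma_mem_rIdeal _ x i
  let φ : ℕ → (PUnit.{w + 1} ⊕ PUnit.{w + 1}) × ℕ := fun j => (Sum.inr PUnit.unit, j)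
  have hφ : Function.Injective φ := fun a b hab => congrArg Prod.snd hab
  have hmon : evγ y (MvPolynomial.monomial (e.mapDomain φ) 1) = e.prod fun j n => gamma (j + 1) x ^ n :=
    evγ_monomial_mapDomain y φ e
  apply WGood.add hW
  · have h1 := wGood_gamma_mul_monomial hP hQ hB hW y hy (Sum.inl PUnit.unit, 0) (e.mapDomain φ)
    rw [hmon] at h1
    have h1' : WGood (rIdeal (εA : A →+* K) x)
        (gamma 1 (algebraMap A B (c - algebraMap K A (εA c))) * e.prod fun j n => gamma (j + 1) x ^ n) := h1
    rw [gamma_one'] at h1'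
    exact h1'
  · by_cases he0 : e = 0
    · rw [hce he0, map_zero, mul_zero]
      exact wGood_zero hW
    · apply WGood.mul_algebraMap hP hKb hB hKB hW
      have hd : e.mapDomain φ ≠ 0 := by
        intro h0
        apply he0
        apply Finsupp.mapDomain_injective hφ
        rw [h0, Finsupp.mapDomain_zero]
      have h2 := wGood_monomial hP hQ hB hW y hy (e.mapDomain φ) hd
      rw [hmon] at h2
      exact h2

/-- the γ-filtration of the free λ-algebra `A[x, γ^2 x, …]` over an augmented `K`-λ-algebra `A` -/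
theorem gammaFil_eq_rIdeal (hKb : IsBinomial K) (hB : IsSpecial B) (hAB : IsLambdaAlg A B)
    (εA : A →ₐ[K] K) (εB : B →ₐ[K] K) (hεB : IsAugLambdaAlg K B εB)
    (hεAB : ∀ a : A, εB (algebraMap A B a) = εA a)
    (hP : ∀ n : ℕ, ∃ P : MvPolynomial (Fin n ⊕ Fin n) ℤ, IsMulPoly n P)
    (hQ : ∀ i j : ℕ, ∃ Q : MvPolynomial (Fin (i * j)) ℤ, IsCompPoly i j Q)
    (x : B) (hx : εB x = 0)
    (hgen : Algebra.adjoin A (Set.range fun j : ℕ => gamma (j + 1) x) = ⊤)
    (k : ℕ) :
    gammaFil (εB : B →+* K) k = rIdeal (εA : A →+* K) x k := by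
  classical
  have hW := isGradedFamily_rIdeal (B := B) (εA : A →+* K) x
  have hεγ : ∀ i : ℕ, εB (gamma (i + 1) x) = 0 := by
    intro i
    have h2 : εB (gamma (i + 1) x) = gamma (i + 1) (εB x) :=
      map_gamma (εB : B →+* K) (fun m a => hεB.map_lam m a) (i + 1) x
    rw [h2, hx, gamma_succ_zero]
  apply le_antisymm
  · apply gammaFil_le_of_wGood hW
    intro z hz
    have hzmem : z ∈ Algebra.adjoin A (Set.range fun j : ℕ => gamma (j + 1) x) := by
      rw [hgen]; trivial
    rw [Algebra.adjoin_range_eq_range_aeval] at hzmem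
    obtain ⟨p, hp⟩ := hzmem
    have hp' : MvPolynomial.aeval (fun j : ℕ => gamma (j + 1) x) p = z := hp
    clear hp
    subst hp'
    have hc : εA (MvPolynomial.coeff 0 p) = 0 := by
      have h1 : (εB : B →+* K) (MvPolynomial.eval₂ (algebraMap A B) (fun j : ℕ => gamma (j + 1) x) p) =
          MvPolynomial.eval₂ ((εB : B →+* K).comp (algebraMap A B))
            ((εB : B →+* K) ∘ fun j : ℕ => gamma (j + 1) x) p :=
        MvPolynomial.eval₂_comp_left _ _ _ _
      have h2 : ((εB : B →+* K) ∘ fun j : ℕ => gamma (j + 1) x) = fun _ => (0 : K) := by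
        funext j
        exact hεγ j
      rw [h2, MvPolynomial.eval₂_zero'_apply] at h1
      have h3 : (εB : B →+* K) (MvPolynomial.eval₂ (algebraMap A B) (fun j : ℕ => gamma (j + 1) x) p) = 0 := hz
      rw [h3] at h1
      have h4 := hεAB (MvPolynomial.constantCoeff p)
      exact h4.symm.trans h1.symm
    rw [p.as_sum, map_sum]
    apply wGood_sum hW
    intro e he
    rw [MvPolynomial.aeval_monomial]
    apply wGood_term hKb hB hAB hεB.isLambdaAlg hP hQ
    intro h0
    rw [h0]
    exact hc
  · unfold rIdeal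
    apply Ideal.span_le.2
    rintro m ⟨e, a, ha, rfl⟩
    have h1 : algebraMap A B a ∈ gammaFil (εB : B →+* K) (k - e.sum fun j n => (j + 1) * n) :=
      algebraMap_mem_gammaFil _ _ hAB hεAB ha
    have h2 : (e.prod fun j n => gamma (j + 1) x ^ n) ∈
        gammaFil (εB : B →+* K) (e.sum fun j n => (j + 1) * n) := by
      unfold Finsupp.prod Finsupp.sum
      refine prod_mem_gammaFil _ _ _ _ fun j _ => ?_
      have := pow_mem_gammaFil (εB : B →+* K) (gamma_mem_gammaFil _ hx (j + 1)) (e j)
      rw [mul_comm] at this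
      exact this
    exact gammaFil_anti _ (by omega) (mul_mem_gammaFil _ h1 h2)

end FreeOverMain

end Groth.Agent.Helper6.Vp
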