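import Groth.Agent.Lib.Helper6.Vp13

/-!
# Verification principle, part 16: truncated elements

For an element `n'` of a special λ-ring with `γ^k n' = 0` for `k > d`, the element `γ^p (γ^d n')` is divisible
by `γ^d n'`, universally, with a cofactor of weight at least `p - d`.
-/

set_option autoImplicit false

universe u v w

open Finset

namespace Groth.Agent.Helper6.Vp

open LambdaRing Groth.Agent.Helper13.Lam

section Detect'

variable {σ : Type w}

/-- A non-zero polynomial operation is detected on split families of size `N` as soon as all its variables have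
second index `< N`. -/
theorem T_ne_zero' {G : Op σ} (hG : G ≠ 0) (N : ℕ) (hN : ∀ p ∈ G.vars, p.2 < N) : T σ N G ≠ 0 := by
  classical
  let 𝕜 := AlgebraicClosure ℚ
  have hmap : MvPolynomial.map (Int.castRingHom 𝕜) G ≠ 0 := by
    intro h
    apply hG
    apply MvPolynomial.map_injective (Int.castRingHom 𝕜) Int.cast_injective
    rw [h, map_zero]
  obtain ⟨c, hc⟩ : ∃ c : σ × ℕ → 𝕜, MvPolynomial.eval c (MvPolynomial.map (Int.castRingHom 𝕜) G) ≠ 0 := by
    by_contra hcon
    push Not at hcon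
    apply hmap
    apply MvPolynomial.funext
    intro x
    rw [hcon x, map_zero]
  have hr : ∀ s : σ, ∃ r : Fin N → 𝕜, ∀ i : Fin N,
      ((Finset.univ : Finset (Fin N)).val.map r).esymm ((i : ℕ) + 1) = c (s, (i : ℕ)) :=
    fun s => exists_roots 𝕜 N fun i => c (s, (i : ℕ))
  choose r hr using hr
  intro h0
  apply hc
  have h1 : MvPolynomial.aeval (fun q : σ × Fin N => r q.1 q.2) (T σ N G) = 0 := by rw [h0, map_zero]
  unfold T at h1
  rw [MvPolynomial.comp_aeval_apply] at h1
  rw [MvPolynomial.eval_map, ← h1]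
  have e1 : (MvPolynomial.eval₂ (Int.castRingHom 𝕜) c G) =
      MvPolynomial.eval₂Hom (Int.castRingHom 𝕜) c G := rfl
  have e2 : MvPolynomial.aeval (fun p : σ × ℕ => MvPolynomial.aeval (fun q : σ × Fin N => r q.1 q.2)
      (MvPolynomial.rename (fun a : Fin N => (p.1, a)) (MvPolynomial.esymm (Fin N) ℤ (p.2 + 1)))) G =
      MvPolynomial.eval₂Hom (Int.castRingHom 𝕜) (fun p : σ × ℕ =>
        MvPolynomial.aeval (fun q : σ × Fin N => r q.1 q.2)
          (MvPolynomial.rename (fun a : Fin N => (p.1, a)) (MvPolynomial.esymm (Fin N) ℤ (p.2 + 1)))) G := by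
    rw [MvPolynomial.aeval_def, RingHom.ext_int (algebraMap ℤ 𝕜) (Int.castRingHom 𝕜)]
    rfl
  rw [e1, e2]
  apply MvPolynomial.eval₂Hom_congr' rfl _ rfl
  intro p hp _
  have hlt : p.2 < N := hN p hp
  rw [MvPolynomial.aeval_rename, MvPolynomial.aeval_esymm_eq_multiset_esymm]
  have := hr p.1 ⟨p.2, hlt⟩
  simp only at this
  rw [← this]
  rfl

end Detect'

section SplitMore

open scoped Groth.Agent.Helper6.Vp

variable {σ : Type w}

lemma esymm_eq_zero_of_lt (N k : ℕ) (h : N < k) : MvPolynomial.esymm (Fin N) ℤ k = 0 := by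
  unfold MvPolynomial.esymm
  rw [Finset.powersetCard_eq_empty.2 (by rw [Finset.card_univ, Fintype.card_fin]; exact h), Finset.sum_empty]

lemma esymm_self (N : ℕ) : MvPolynomial.esymm (Fin N) ℤ N = ∏ a : Fin N, MvPolynomial.X a := by
  unfold MvPolynomial.esymm
  have h : Finset.powersetCard N (Finset.univ : Finset (Fin N)) = {Finset.univ} := by
    have := Finset.powersetCard_self (Finset.univ : Finset (Fin N))
    rwa [Finset.card_univ, Fintype.card_fin] at this
  rw [h, Finset.sum_singleton]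

lemma gamma_xN_eq_zero (N : ℕ) (s : σ) (i : ℕ) (hi : N ≤ i) : gamma (i + 1) (xN σ N s) = 0 := by
  rw [gamma_xN, esymm_eq_zero_of_lt N (i + 1) (by omega), map_zero, map_zero]

lemma gamma_xN_top (N : ℕ) (s : σ) :
    gamma (N + 1) (xN σ (N + 1) s) = ∏ a : Fin (N + 1), (MvPolynomial.X (s, a) - 1 : MvPolynomial (σ × Fin (N + 1)) ℤ) := by
  rw [gamma_xN, esymm_self, map_prod, map_prod]
  apply Finset.prod_congr rfl
  intro a _
  rw [MvPolynomial.rename_X]
  unfold shM
  rw [MvPolynomial.aeval_X]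

lemma xN_mem_J (N : ℕ) (s : σ) : xN σ N s ∈ J (σ × Fin N) := by
  unfold xN
  exact Ideal.sum_mem _ fun a _ => X_sub_one_mem (s, a)

variable {τ : Type v}

/-- the `J`-adic filtration of a split ring is a graded family -/
lemma isGradedFamily_J (τ : Type v) : IsGradedFamily fun n => J τ ^ n where
  anti := fun h => Ideal.pow_le_pow_right h
  mul_le := fun a b => by
    show J τ ^ a * J τ ^ b ≤ J τ ^ (a + b)
    rw [pow_add]
  zero_eq_top := by
    show J τ ^ 0 = ⊤
    rw [pow_zero, Ideal.one_eq_top]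

/-- `J^(q+1)` is stable under the γ-operations of positive degree -/
lemma gamma_mem_J_pow_of_mem (q : ℕ) (u : MvPolynomial τ ℤ) (hu : u ∈ J τ ^ (q + 1)) (k : ℕ) :
    gamma (k + 1) u ∈ J τ ^ (q + 1) := by
  rw [gamma_succ]
  exact Ideal.sum_mem _ fun j _ => Ideal.mul_mem_left _ _ (lam_mem_pow q u hu j)

/-- `γ^(q+1) z ≡ (-1)^q q! z` modulo `J^(q+2)` for `z ∈ J^(q+1)` -/
theorem gamma_sub_mem_J (q : ℕ) (z : MvPolynomial τ ℤ) (hz : z ∈ J τ ^ (q + 1)) :
    gamma (q + 1) z - (-1) ^ q * (q.factorial : MvPolynomial τ ℤ) * z ∈ J τ ^ (q + 2) := by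
  rw [gamma_succ]
  have hid : ((∑ j ∈ range (q + 1), ((q.choose j : ℕ) : ℤ) * ((-1) ^ j * ((j : ℤ) + 1) ^ q) : ℤ) : MvPolynomial τ ℤ) =
      (((-1) ^ q * (q.factorial : ℤ) : ℤ) : MvPolynomial τ ℤ) := by rw [alt_sum_choose_pow q]
  push_cast at hid
  have e : ∑ j ∈ range (q + 1), (q.choose j : MvPolynomial τ ℤ) * LambdaOps.lam (j + 1) z -
        (-1) ^ q * (q.factorial : MvPolynomial τ ℤ) * z =
      ∑ j ∈ range (q + 1), (q.choose j : MvPolynomial τ ℤ) *
        (LambdaOps.lam (j + 1) z - (-1) ^ j * ((j : MvPolynomial τ ℤ) + 1) ^ q * z) := by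
    rw [← hid, Finset.sum_mul, ← Finset.sum_sub_distrib]
    apply Finset.sum_congr rfl
    intro j _
    ring
  rw [e]
  exact Ideal.sum_mem _ fun j _ => Ideal.mul_mem_left _ _ (lam_sub_mem q z hz j)

/-- the diagonal specialisation `l_a ↦ 1 + t` -/
noncomputable def diag (τ : Type v) : MvPolynomial τ ℤ →ₐ[ℤ] Polynomial ℤ :=
  MvPolynomial.aeval fun _ => (1 + Polynomial.X : Polynomial ℤ)

lemma diag_X_sub_one (a : τ) : diag τ (MvPolynomial.X a - 1) = Polynomial.X := by
  unfold diag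
  rw [map_sub, MvPolynomial.aeval_X, map_one, add_sub_cancel_left]

lemma diag_mem {u : MvPolynomial τ ℤ} {n : ℕ} (hu : u ∈ J τ ^ n) : Polynomial.X ^ n ∣ diag τ u := by
  have h1 : Ideal.map (diag τ) (J τ) ≤ Ideal.span {(Polynomial.X : Polynomial ℤ)} := by
    unfold J
    rw [Ideal.map_span]
    apply Ideal.span_le.2
    rintro _ ⟨_, ⟨a, rfl⟩, rfl⟩
    rw [SetLike.mem_coe, Ideal.mem_span_singleton]
    show Polynomial.X ∣ diag τ (MvPolynomial.X a - 1)
    rw [diag_X_sub_one]
  have h2 : diag τ u ∈ Ideal.map (diag τ) (J τ ^ n) := Ideal.mem_map_of_mem _ hu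
  rw [Ideal.map_pow] at h2
  have h3 := Ideal.pow_right_mono h1 n h2
  rw [Ideal.span_singleton_pow, Ideal.mem_span_singleton] at h3
  exact h3

/-- an integer multiple of an element with diagonal specialisation `t^n` lies in `J^(n+1)` only if the integer
vanishes -/
lemma eq_zero_of_diag (θ : ℤ) (z : MvPolynomial τ ℤ) (n : ℕ) (hz : diag τ z = Polynomial.X ^ n)
    (h : (θ : MvPolynomial τ ℤ) * z ∈ J τ ^ (n + 1)) : θ = 0 := by
  have h1 := diag_mem h
  rw [map_mul, map_intCast, hz, Polynomial.X_pow_dvd_iff] at h1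
  have h2 := h1 n (by omega)
  rw [← Polynomial.C_eq_intCast, Polynomial.coeff_C_mul, Polynomial.coeff_X_pow, if_pos rfl, mul_one] at h2
  exact h2

/-- the kernel of the augmentation is `J` -/
lemma sub_ev1_mem (u : MvPolynomial τ ℤ) : u - ((ev1 τ u : ℤ) : MvPolynomial τ ℤ) ∈ J τ := by
  induction u using MvPolynomial.induction_on' with
  | monomial m r =>
    have e : MvPolynomial.monomial m r = (r : MvPolynomial τ ℤ) * MvPolynomial.monomial m 1 := by
      rw [← eq_intCast (MvPolynomial.C : ℤ →+* MvPolynomial τ ℤ) r, MvPolynomial.C_mul_monomial, mul_one]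
    have e2 : ev1 τ (MvPolynomial.monomial m r) = r := by
      rw [e, map_mul, ev1_monomial, mul_one, map_intCast]
      rfl
    rw [e2]
    have e3 : MvPolynomial.monomial m r - (r : MvPolynomial τ ℤ) =
        (r : MvPolynomial τ ℤ) * (MvPolynomial.monomial m 1 - 1) := by
      rw [e]; ring
    rw [e3]
    exact Ideal.mul_mem_left _ _ (monomial_sub_one_mem m)
  | add p q hp hq =>
    have e : p + q - ((ev1 τ (p + q) : ℤ) : MvPolynomial τ ℤ) =
        (p - ((ev1 τ p : ℤ) : MvPolynomial τ ℤ)) + (q - ((ev1 τ q : ℤ) : MvPolynomial τ ℤ)) := by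
      rw [map_add]; push_cast; ring
    rw [e]
    exact add_mem hp hq

end SplitMore

end Groth.Agent.Helper6.Vp
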