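import Groth.Agent.Lib.Helper6.Vp16

/-!
# Verification principle, part 17: the universal cofactor of `γ^p (γ^d n')` for truncated `n'`
-/

set_option autoImplicit false

universe u v w

open Finset

namespace Groth.Agent.Helper6.Vp

open LambdaRing Groth.Agent.Helper13.Lam

section Trunc

/-- the exponent `μ` involves a variable of index `> d'` -/
def HiVar (d' : ℕ) (μ : (PUnit.{w + 1} × ℕ) →₀ ℕ) : Prop := ∃ q ∈ μ.support, d' + 1 ≤ q.2

open Classical in
/-- the cofactor of the variable of index `d'` in the part of `G` involving that variable and no higher one -/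
noncomputable def truncD (d' : ℕ) (G : Op PUnit.{w + 1}) : Op PUnit.{w + 1} :=
  ∑ μ ∈ G.support, if ¬ HiVar d' μ ∧ μ (PUnit.unit, d') ≠ 0 then
    MvPolynomial.monomial (μ - Finsupp.single (PUnit.unit, d') 1) (MvPolynomial.coeff μ G) else 0

open Classical in
/-- the part of `G` involving only variables of index `< d'` -/
noncomputable def truncC (d' : ℕ) (G : Op PUnit.{w + 1}) : Op PUnit.{w + 1} :=
  ∑ μ ∈ G.support, if ¬ HiVar d' μ ∧ μ (PUnit.unit, d') = 0 then
    MvPolynomial.monomial μ (MvPolynomial.coeff μ G) else 0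

variable {B : Type v} [CommRing B] [LambdaOps B]

lemma evγ_monomial_eq_zero_of_hiVar {d' : ℕ} (y : PUnit.{w + 1} → B)
    (hy : ∀ s k, d' + 1 < k → gamma k (y s) = 0) {μ : (PUnit.{w + 1} × ℕ) →₀ ℕ} (h1 : HiVar d' μ) (c : ℤ) :
    evγ y (MvPolynomial.monomial μ c) = 0 := by
  obtain ⟨q, hq, hqd⟩ := h1
  unfold evγ
  rw [MvPolynomial.aeval_monomial]
  unfold Finsupp.prod
  rw [Finset.prod_eq_zero hq, mul_zero]
  show gamma (q.2 + 1) (y q.1) ^ μ q = 0
  rw [hy q.1 (q.2 + 1) (by omega), zero_pow (Finsupp.mem_support_iff.1 hq)]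

lemma evγ_monomial_split {d' : ℕ} (y : PUnit.{w + 1} → B) {μ : (PUnit.{w + 1} × ℕ) →₀ ℕ}
    (h2 : μ (PUnit.unit, d') ≠ 0) (c : ℤ) :
    evγ y (MvPolynomial.monomial μ c) =
      gamma (d' + 1) (y PUnit.unit) *
        evγ y (MvPolynomial.monomial (μ - Finsupp.single (PUnit.unit, d') 1) c) := by
  have e : μ = μ - Finsupp.single (PUnit.unit, d') 1 + Finsupp.single (PUnit.unit, d') 1 :=
    (Finsupp.sub_add_single_one_cancel h2).symm
  conv_lhs => rw [e]
  rw [MvPolynomial.monomial_add_single, pow_one, map_mul, evγ_X]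
  exact mul_comm _ _

/-- the evaluation of `G` at a truncated element -/
theorem evγ_trunc {d' : ℕ} (y : PUnit.{w + 1} → B) (hy : ∀ s k, d' + 1 < k → gamma k (y s) = 0)
    (G : Op PUnit.{w + 1}) :
    evγ y G = gamma (d' + 1) (y PUnit.unit) * evγ y (truncD d' G) + evγ y (truncC d' G) := by
  classical
  conv_lhs => rw [G.as_sum]
  rw [truncD, truncC, map_sum, map_sum, map_sum, Finset.mul_sum, ← Finset.sum_add_distrib]
  apply Finset.sum_congr rfl
  intro μ _
  by_cases h1 : HiVar d' μ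
  · rw [if_neg (fun h => h.1 h1), if_neg (fun h => h.1 h1), map_zero, mul_zero, add_zero]
    exact evγ_monomial_eq_zero_of_hiVar y hy h1 _
  · by_cases h2 : μ (PUnit.unit, d') = 0
    · rw [if_neg (fun h => h.2 h2), if_pos ⟨h1, h2⟩, map_zero, mul_zero, zero_add]
    · rw [if_pos ⟨h1, h2⟩, if_neg (fun h => h2 h.2), map_zero, add_zero]
      exact evγ_monomial_split y h2 _

lemma wtGE_truncD {d' p : ℕ} {G : Op PUnit.{w + 1}} (hG : WtGE p G) :
    WtGE (p - (d' + 1)) (truncD d' G) := by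
  classical
  intro ν hν
  rw [truncD] at hν
  have h1 := MvPolynomial.support_sum hν
  rw [Finset.mem_biUnion] at h1
  obtain ⟨μ, hμ, hνμ⟩ := h1
  split_ifs at hνμ with hc
  · have h2 := MvPolynomial.support_monomial_subset hνμ
    rw [Finset.mem_singleton] at h2
    subst h2
    have h3 := Finsupp.weight_sub_single_add (w := wt PUnit.{w + 1}) hc.2
    have h4 := hG μ hμ
    have h5 : wt PUnit.{w + 1} (PUnit.unit, d') = d' + 1 := rfl
    omega
  · simp at hνμ

lemma vars_truncC {d' : ℕ} {G : Op PUnit.{w + 1}} : ∀ q ∈ (truncC d' G).vars, q.2 < d' := by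
  classical
  intro q hq
  rw [MvPolynomial.mem_vars_iff_mem_support] at hq
  obtain ⟨ν, hν, hqν⟩ := hq
  rw [truncC] at hν
  have h1 := MvPolynomial.support_sum hν
  rw [Finset.mem_biUnion] at h1
  obtain ⟨μ, hμ, hνμ⟩ := h1
  split_ifs at hνμ with hc
  · have h2 := MvPolynomial.support_monomial_subset hνμ
    rw [Finset.mem_singleton] at h2
    subst h2
    obtain ⟨hc1, hc2⟩ := hc
    have h3 : ¬ (d' + 1 ≤ q.2) := fun h => hc1 ⟨q, hqν, h⟩
    have h4 : q.2 ≠ d' := by
      intro h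
      have hq' : q = (PUnit.unit, d') := Prod.ext rfl h
      rw [hq'] at hqν
      exact (Finsupp.mem_support_iff.1 hqν) hc2
    omega
  · simp at hνμ

end Trunc

section Main

open scoped Groth.Agent.Helper6.Vp

/-- the constant coefficient of a polynomial operation is its value under the augmentation of a split family of
augmentation zero -/
lemma ev1_evγ_xN (N : ℕ) (D : Op PUnit.{v + 1}) :
    ev1 (PUnit.{v + 1} × Fin N) (evγ (xN PUnit.{v + 1} N) D) = MvPolynomial.coeff 0 D := by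
  unfold evγ
  have h0 := MvPolynomial.comp_aeval_apply
    (fun p : PUnit.{v + 1} × ℕ => gamma (p.2 + 1) (xN PUnit.{v + 1} N p.1)) (ev1 (PUnit.{v + 1} × Fin N)) D
  refine h0.trans ?_
  have h : (fun p : PUnit.{v + 1} × ℕ => ev1 (PUnit.{v + 1} × Fin N) (gamma (p.2 + 1) (xN PUnit.{v + 1} N p.1))) =
      fun _ => (0 : ℤ) := by
    funext p
    apply ev1_eq_zero_of_mem
    have := gamma_mem_J_pow (xN_mem_J N p.1) (p.2 + 1)
    exact Ideal.pow_le_self (by omega) this
  rw [h, MvPolynomial.aeval_zero']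
  rfl

/-- **Universal divisibility for truncated elements.** -/
theorem exists_trunc_gamma (hP : ∀ n : ℕ, ∃ P : MvPolynomial (Fin n ⊕ Fin n) ℤ, IsMulPoly n P)
    (hQ : ∀ i j : ℕ, ∃ Q : MvPolynomial (Fin (i * j)) ℤ, IsCompPoly i j Q)
    (d' p : ℕ) (hp : 1 ≤ p) :
    ∃ D : Op PUnit.{v + 1}, WtGE (p - (d' + 1)) D ∧
      (p = d' + 1 → MvPolynomial.coeff 0 D = (-1) ^ d' * (d'.factorial : ℤ)) ∧
      ∀ (B : Type v) [CommRing B] [LambdaOps B], IsSpecial B → ∀ y : PUnit.{v + 1} → B,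
        (∀ s k, d' + 1 < k → gamma k (y s) = 0) →
        gamma p (gamma (d' + 1) (y PUnit.unit)) = gamma (d' + 1) (y PUnit.unit) * evγ y D := by
  classical
  obtain ⟨G', hG'w, hG'⟩ := exists_gamma_evγ_monomial.{v} hP hQ
    (Finsupp.single ((PUnit.unit : PUnit.{v + 1}), d') 1)
    (one_le_weight (by rw [Ne, Finsupp.single_eq_zero]; exact one_ne_zero)) p
  have key : ∀ (B : Type v) [CommRing B] [LambdaOps B], IsSpecial B → ∀ y : PUnit.{v + 1} → B,
      (∀ s k, d' + 1 < k → gamma k (y s) = 0) →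
      gamma p (gamma (d' + 1) (y PUnit.unit)) =
        gamma (d' + 1) (y PUnit.unit) * evγ y (truncD d' G') + evγ y (truncC d' G') := by
    intro B _ _ hB y hy
    rw [← evγ_trunc y hy, hG' B hB y]
    congr 1
    exact (evγ_X y (PUnit.unit, d')).symm
  obtain ⟨p', rfl⟩ : ∃ p', p = p' + 1 := ⟨p - 1, by omega⟩
  have hC : truncC d' G' = 0 := by
    by_contra hne
    have h1 := T_ne_zero' hne d' vars_truncC
    apply h1
    let _ := splitOps (PUnit.{v + 1} × Fin d')
    have h2 := key _ (isSpecial (PUnit.{v + 1} × Fin d')) (xN PUnit.{v + 1} d') (fun s k hk => by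
      obtain ⟨k', rfl⟩ : ∃ k', k = k' + 1 := ⟨k - 1, by omega⟩
      exact gamma_xN_eq_zero d' s k' (by omega))
    rw [gamma_xN_eq_zero d' PUnit.unit d' le_rfl, zero_mul, zero_add, gamma_succ_zero, evγ_xN] at h2
    have h3 := congrArg (shP (PUnit.{v + 1} × Fin d')) h2
    rw [shP_shM, map_zero] at h3
    exact h3.symm
  refine ⟨truncD d' G', wtGE_truncD hG'w, ?_, ?_⟩
  · intro hpd
    have hpd' : p' = d' := by omega
    subst hpd'
    let _ := splitOps (PUnit.{v + 1} × Fin (p' + 1))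
    have h2 := key _ (isSpecial (PUnit.{v + 1} × Fin (p' + 1))) (xN PUnit.{v + 1} (p' + 1)) (fun s k hk => by
      obtain ⟨k', rfl⟩ : ∃ k', k = k' + 1 := ⟨k - 1, by omega⟩
      exact gamma_xN_eq_zero (p' + 1) s k' (by omega))
    rw [hC, map_zero, add_zero] at h2
    set v₁ := gamma (p' + 1) (xN PUnit.{v + 1} (p' + 1) PUnit.unit) with hv₁
    set f := evγ (xN PUnit.{v + 1} (p' + 1)) (truncD p' G') with hf
    have hv₁mem : v₁ ∈ J (PUnit.{v + 1} × Fin (p' + 1)) ^ (p' + 1) :=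
      gamma_mem_J_pow (xN_mem_J (p' + 1) PUnit.unit) (p' + 1)
    have h3 := gamma_sub_mem_J p' v₁ hv₁mem
    rw [h2] at h3
    -- `v₁ * (f - c) ∈ J^(p'+2)`
    set θ : ℤ := ev1 _ f - (-1) ^ p' * (p'.factorial : ℤ) with hθ
    have h4 : (θ : MvPolynomial (PUnit.{v + 1} × Fin (p' + 1)) ℤ) * v₁ ∈
        J (PUnit.{v + 1} × Fin (p' + 1)) ^ (p' + 2) := by
      have e : (θ : MvPolynomial (PUnit.{v + 1} × Fin (p' + 1)) ℤ) * v₁ =
          (v₁ * f - (-1) ^ p' * (p'.factorial : MvPolynomial (PUnit.{v + 1} × Fin (p' + 1)) ℤ) * v₁) -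
            v₁ * (f - ((ev1 _ f : ℤ) : MvPolynomial (PUnit.{v + 1} × Fin (p' + 1)) ℤ)) := by
        rw [hθ]; push_cast; ring
      rw [e]
      refine sub_mem h3 ?_
      have := Ideal.mul_mem_mul hv₁mem (sub_ev1_mem f)
      rwa [← pow_succ] at this
    have hdiag : diag _ v₁ = Polynomial.X ^ (p' + 1) := by
      rw [hv₁, gamma_xN_top, map_prod]
      rw [Finset.prod_congr rfl fun a _ => diag_X_sub_one (PUnit.unit, a)]
      rw [Finset.prod_const, Finset.card_univ, Fintype.card_fin]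
    have h5 := eq_zero_of_diag θ v₁ (p' + 1) hdiag h4
    rw [hθ, hf, ev1_evγ_xN] at h5
    linarith
  · intro B _ _ hB y hy
    rw [key B hB y hy, hC, map_zero, add_zero]

end Main

end Groth.Agent.Helper6.Vp
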