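import Groth.Agent.Lib.Helper6.Vp17

/-!
# Verification principle, part 18: the universal polynomial of `γ^a (x v)`
-/

set_option autoImplicit false

universe u v w

open Finset

namespace Groth.Agent.Helper6.Vp

open LambdaRing Groth.Agent.Helper13.Lam

section Congr

variable {σ : Type w} {B : Type v} [CommRing B] [LambdaOps B]

lemma evγ_monomial_congr (y y' : σ → B) (η : (σ × ℕ) →₀ ℕ) (h : ∀ q ∈ η.support, y q.1 = y' q.1) (c : ℤ) :
    evγ y (MvPolynomial.monomial η c) = evγ y' (MvPolynomial.monomial η c) := by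
  unfold evγ
  rw [MvPolynomial.aeval_monomial, MvPolynomial.aeval_monomial]
  congr 1
  unfold Finsupp.prod
  apply Finset.prod_congr rfl
  intro q hq
  show gamma (q.2 + 1) (y q.1) ^ η q = gamma (q.2 + 1) (y' q.1) ^ η q
  rw [h q hq]

lemma evγ_monomial_eq_zero (y : σ → B) (η : (σ × ℕ) →₀ ℕ) (q : σ × ℕ) (hq : q ∈ η.support) (h0 : y q.1 = 0)
    (c : ℤ) : evγ y (MvPolynomial.monomial η c) = 0 := by
  unfold evγ
  rw [MvPolynomial.aeval_monomial]
  unfold Finsupp.prod
  rw [Finset.prod_eq_zero hq, mul_zero]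
  show gamma (q.2 + 1) (y q.1) ^ η q = 0
  rw [h0, gamma_succ_zero, zero_pow (Finsupp.mem_support_iff.1 hq)]

lemma evγ_monomial_eq (y : σ → B) (η : (σ × ℕ) →₀ ℕ) (c : ℤ) :
    evγ y (MvPolynomial.monomial η c) = (c : B) * evγ y (MvPolynomial.monomial η 1) := by
  unfold evγ
  rw [MvPolynomial.aeval_monomial, MvPolynomial.aeval_monomial, RingHom.map_one, one_mul, algebraMap_int_eq,
    eq_intCast]

end Congr

section HasVar

open scoped Groth.Agent.Helper6.Vp

variable {σ : Type v}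

/-- a polynomial operation vanishing whenever `y s₀ = 0` involves a variable of `s₀` in each of its monomials -/
theorem hasVar_of_vanish (G : Op σ) (s₀ : σ)
    (h : ∀ (B : Type v) [CommRing B] [LambdaOps B], IsSpecial B → ∀ y : σ → B, y s₀ = 0 → evγ y G = 0) :
    ∀ η ∈ G.support, ∃ q ∈ η.support, q.1 = s₀ := by
  classical
  set G₀ : Op σ := ∑ η ∈ G.support,
    if (∃ q ∈ η.support, q.1 = s₀) then 0 else MvPolynomial.monomial η (MvPolynomial.coeff η G) with hG₀
  have hG₀z : G₀ = 0 := by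
    apply eq_zero_of_T
    intro N
    let _ := splitOps (σ × Fin N)
    have h1 : evγ (xN σ N) G₀ = 0 := by
      have h2 : evγ (Function.update (xN σ N) s₀ 0) G = 0 :=
        h _ (isSpecial (σ × Fin N)) (Function.update (xN σ N) s₀ 0) (Function.update_self ..)
      rw [G.as_sum, map_sum] at h2
      rw [hG₀, map_sum, ← h2]
      apply Finset.sum_congr rfl
      intro η _
      by_cases hη : ∃ q ∈ η.support, q.1 = s₀
      · rw [if_pos hη, map_zero]
        obtain ⟨q, hq, hqs⟩ := hη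
        exact (evγ_monomial_eq_zero _ η q hq (by rw [hqs, Function.update_self]) _).symm
      · rw [if_neg hη]
        apply evγ_monomial_congr
        intro q hq
        have hne : q.1 ≠ s₀ := fun hqs => hη ⟨q, hq, hqs⟩
        rw [Function.update_of_ne hne]
    rw [evγ_xN] at h1
    have h3 := congrArg (shP (σ × Fin N)) h1
    rwa [shP_shM, map_zero] at h3
  intro η hη
  by_contra hcon
  have h2 : MvPolynomial.coeff η G₀ = MvPolynomial.coeff η G := by
    rw [hG₀, MvPolynomial.coeff_sum, Finset.sum_eq_single η]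
    · rw [if_neg hcon, MvPolynomial.coeff_monomial, if_pos rfl]
    · intro b _ hb
      split_ifs
      · rw [MvPolynomial.coeff_zero]
      · rw [MvPolynomial.coeff_monomial, if_neg hb]
    · intro hn
      exact absurd hη hn
  rw [hG₀z, MvPolynomial.coeff_zero] at h2
  exact (MvPolynomial.mem_support_iff.mp hη) h2.symm

/-- the universal polynomial of `γ^a (x v)`: weight at least `a`, and every monomial involves both `x` and `v` -/
theorem exists_gamma_mul_poly (hP : ∀ n : ℕ, ∃ P : MvPolynomial (Fin n ⊕ Fin n) ℤ, IsMulPoly n P)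
    (hQ : ∀ i j : ℕ, ∃ Q : MvPolynomial (Fin (i * j)) ℤ, IsCompPoly i j Q) (a : ℕ) (ha : 1 ≤ a) :
    ∃ G : Op (PUnit.{v + 1} ⊕ PUnit.{v + 1}), WtGE a G ∧
      (∀ η ∈ G.support, (∃ q ∈ η.support, q.1 = Sum.inl PUnit.unit) ∧
        ∃ q ∈ η.support, q.1 = Sum.inr PUnit.unit) ∧
      ∀ (B : Type v) [CommRing B] [LambdaOps B], IsSpecial B → ∀ y : PUnit.{v + 1} ⊕ PUnit.{v + 1} → B,
        evγ y G = gamma a (y (Sum.inl PUnit.unit) * y (Sum.inr PUnit.unit)) := by
  obtain ⟨G, hGw, hG⟩ := exists_gamma_evγ_monomial.{v} hP hQ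
    (Finsupp.single ((Sum.inl PUnit.unit : PUnit.{v + 1} ⊕ PUnit.{v + 1}), 0) 1 +
      Finsupp.single ((Sum.inr PUnit.unit : PUnit.{v + 1} ⊕ PUnit.{v + 1}), 0) 1)
    (one_le_weight (single_add_ne_zero _ _)) a
  have hmono : ∀ (B : Type v) [CommRing B] [LambdaOps B] (y : PUnit.{v + 1} ⊕ PUnit.{v + 1} → B),
      evγ y (MvPolynomial.monomial
        (Finsupp.single ((Sum.inl PUnit.unit : PUnit.{v + 1} ⊕ PUnit.{v + 1}), 0) 1 +
          Finsupp.single ((Sum.inr PUnit.unit : PUnit.{v + 1} ⊕ PUnit.{v + 1}), 0) 1) 1) =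
        y (Sum.inl PUnit.unit) * y (Sum.inr PUnit.unit) := by
    intro B _ _ y
    rw [evγ_monomial_single_add]
    have h1 : evγ y (MvPolynomial.monomial
        (Finsupp.single ((Sum.inr PUnit.unit : PUnit.{v + 1} ⊕ PUnit.{v + 1}), 0) 1) 1) =
        gamma 1 (y (Sum.inr PUnit.unit)) := evγ_X y (Sum.inr PUnit.unit, 0)
    rw [h1]
    show gamma 1 (y (Sum.inl PUnit.unit)) * gamma 1 (y (Sum.inr PUnit.unit)) = _
    rw [gamma_one', gamma_one']
  have hG' : ∀ (B : Type v) [CommRing B] [LambdaOps B], IsSpecial B →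
      ∀ y : PUnit.{v + 1} ⊕ PUnit.{v + 1} → B,
      evγ y G = gamma a (y (Sum.inl PUnit.unit) * y (Sum.inr PUnit.unit)) := by
    intro B _ _ hB y
    rw [hG B hB y, hmono]
  obtain ⟨a', rfl⟩ : ∃ a', a = a' + 1 := ⟨a - 1, by omega⟩
  refine ⟨G, hGw, fun η hη => ⟨?_, ?_⟩, hG'⟩
  · exact hasVar_of_vanish G (Sum.inl PUnit.unit) (fun B _ _ hB y hy => by
      rw [hG' B hB y, hy, zero_mul, gamma_succ_zero]) η hη
  · exact hasVar_of_vanish G (Sum.inr PUnit.unit) (fun B _ _ hB y hy => by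
      rw [hG' B hB y, hy, mul_zero, gamma_succ_zero]) η hη

end HasVar

end Groth.Agent.Helper6.Vp
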