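import Groth.Agent.Lib.Helper6.Vp18

/-!
# Verification principle, part 19: elements of finite rank, and divisibility by `λ_{-1}(N)`
-/

set_option autoImplicit false

universe u v w

open Finset

namespace Groth.Agent.Helper6.Vp

open LambdaRing Groth.Agent.Helper13.Lam

section Rank

variable {A : Type v} [CommRing A] [LambdaOps A]

lemma lam_natCast (h1 : ∀ k : ℕ, 2 ≤ k → LambdaOps.lam k (1 : A) = 0) (n m : ℕ) :
    LambdaOps.lam m ((n : ℕ) : A) = ((n.choose m : ℕ) : A) := by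
  have := lam_intCast h1 (n : ℤ) m
  rw [Int.cast_natCast, Ring.choose_natCast, Int.cast_natCast] at this
  exact this

lemma lam_neg_one (h1 : ∀ k : ℕ, 2 ≤ k → LambdaOps.lam k (1 : A) = 0) (m : ℕ) :
    LambdaOps.lam m (-1 : A) = (-1) ^ m := by
  have e : lamSeries (-1 : A) * (1 + PowerSeries.X) = 1 := by
    rw [← lamSeries_one h1, ← lamSeries_add, neg_add_cancel, lamSeries_zero]
  induction m with
  | zero => rw [LambdaOps.lam_zero, pow_zero]
  | succ m ih =>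
    have := congrArg (PowerSeries.coeff (m + 1)) e
    rw [mul_add, mul_one, map_add, PowerSeries.coeff_succ_mul_X, coeff_lamSeries, coeff_lamSeries,
      PowerSeries.coeff_one, if_neg (by omega), ih] at this
    rw [pow_succ]
    linear_combination this

/-- Grothendieck's formula `γ^k x = λ^k (x + k - 1)` -/
lemma gamma_eq_lam_add (h1 : ∀ k : ℕ, 2 ≤ k → LambdaOps.lam k (1 : A) = 0) (k : ℕ) (x : A) :
    gamma (k + 1) x = LambdaOps.lam (k + 1) (x + (k : A)) := by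
  rw [gamma_succ]
  conv_rhs => rw [LambdaOps.lam_add, Finset.sum_range_succ']
  rw [lam_natCast h1 k (k + 1 - 0), Nat.choose_eq_zero_of_lt (by omega), Nat.cast_zero, mul_zero, add_zero]
  apply Finset.sum_congr rfl
  intro j hj
  have hj' : j ≤ k := by have := mem_range.1 hj; omega
  rw [lam_natCast h1, show k + 1 - (j + 1) = k - j by omega, Nat.choose_symm hj', mul_comm]

/-- for `N` of rank `d`, `γ^k (N - d) = 0` for `k > d` -/
lemma gamma_sub_rank_eq_zero (h1 : ∀ k : ℕ, 2 ≤ k → LambdaOps.lam k (1 : A) = 0) (d : ℕ) (N : A)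
    (hN : ∀ k : ℕ, d < k → LambdaOps.lam k N = 0) (k : ℕ) (hk : d < k) :
    gamma k (N - (d : A)) = 0 := by
  obtain ⟨k', rfl⟩ : ∃ k', k = k' + 1 := ⟨k - 1, by omega⟩
  rw [gamma_eq_lam_add h1]
  have e : N - (d : A) + (k' : A) = N + ((k' - d : ℕ) : A) := by
    rw [Nat.cast_sub (by omega)]; ring
  rw [e, LambdaOps.lam_add]
  apply Finset.sum_eq_zero
  intro i _
  by_cases hi : d < i
  · rw [hN i hi, zero_mul]
  · rw [lam_natCast h1, Nat.choose_eq_zero_of_lt (by omega), Nat.cast_zero, mul_zero]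

/-- for `N` of rank `d ≥ 1`, `γ^d (N - d) = (-1)^d λ_{-1}(N)` -/
lemma gamma_sub_rank_top (h1 : ∀ k : ℕ, 2 ≤ k → LambdaOps.lam k (1 : A) = 0) (d' : ℕ) (N : A) :
    gamma (d' + 1) (N - ((d' + 1 : ℕ) : A)) =
      (-1) ^ (d' + 1) * ∑ j ∈ range (d' + 1 + 1), (-1 : A) ^ j * LambdaOps.lam j N := by
  rw [gamma_eq_lam_add h1]
  have e : N - ((d' + 1 : ℕ) : A) + (d' : A) = N + (-1) := by push_cast; ring
  rw [e, LambdaOps.lam_add, Finset.mul_sum]
  apply Finset.sum_congr rfl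
  intro j hj
  have hj' : j ≤ d' + 1 := by have := mem_range.1 hj; omega
  rw [lam_neg_one h1]
  have h3 : (-1 : A) ^ (d' + 1) = (-1) ^ (d' + 1 - j) * (-1) ^ j := by
    rw [← pow_add]; congr 1; omega
  have h2 : (-1 : A) ^ j * (-1) ^ j = 1 := by
    rw [← mul_pow]; simp
  calc LambdaOps.lam j N * (-1) ^ (d' + 1 - j)
      = (-1) ^ (d' + 1 - j) * ((-1 : A) ^ j * (-1) ^ j) * LambdaOps.lam j N := by rw [h2]; ring
    _ = (-1) ^ (d' + 1) * ((-1) ^ j * LambdaOps.lam j N) := by rw [h3]; ring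

end Rank

section Dvd

variable {B : Type v} [CommRing B] [LambdaOps B]

/-- if `v` divides all its γ-operations, it divides all the γ-operations of its multiples -/
lemma dvd_gamma_mul (hB : IsSpecial B)
    (hP : ∀ n : ℕ, ∃ P : MvPolynomial (Fin n ⊕ Fin n) ℤ, IsMulPoly n P)
    (hQ : ∀ i j : ℕ, ∃ Q : MvPolynomial (Fin (i * j)) ℤ, IsCompPoly i j Q)
    (v : B) (hv : ∀ j : ℕ, v ∣ gamma (j + 1) v) (z : B) (a : ℕ) : v ∣ gamma (a + 1) (z * v) := by
  obtain ⟨G, -, hvar, hG⟩ := exists_gamma_mul_poly.{v} hP hQ (a + 1) (by omega)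
  have h1 : gamma (a + 1) (z * v) =
      evγ (Sum.elim (fun _ : PUnit.{v + 1} => z) (fun _ : PUnit.{v + 1} => v)) G :=
    (hG B hB (Sum.elim (fun _ : PUnit.{v + 1} => z) (fun _ : PUnit.{v + 1} => v))).symm
  rw [h1, G.as_sum, map_sum]
  apply Finset.dvd_sum
  intro η hη
  obtain ⟨-, q, hq, hqs⟩ := hvar η hη
  unfold evγ
  rw [MvPolynomial.aeval_monomial]
  apply dvd_mul_of_dvd_right
  unfold Finsupp.prod
  refine dvd_trans ?_ (Finset.dvd_prod_of_mem _ hq)
  show v ∣ gamma (q.2 + 1) (Sum.elim (fun _ : PUnit.{v + 1} => z) (fun _ : PUnit.{v + 1} => v) q.1) ^ η q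
  rw [hqs]
  exact dvd_pow (hv q.2) (Finsupp.mem_support_iff.1 hq)

lemma dvd_lam_of_dvd_gamma (v w : B) (h : ∀ a : ℕ, v ∣ gamma (a + 1) w) (k : ℕ) :
    v ∣ LambdaOps.lam (k + 1) w := by
  induction k using Nat.strong_induction_on with
  | _ k ih =>
    have h1 := gamma_succ k w
    rw [Finset.sum_range_succ, Nat.choose_self, Nat.cast_one, one_mul] at h1
    have h2 : LambdaOps.lam (k + 1) w =
        gamma (k + 1) w - ∑ j ∈ range k, (k.choose j : B) * LambdaOps.lam (j + 1) w := by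
      rw [h1]; ring
    rw [h2]
    apply dvd_sub (h k)
    apply Finset.dvd_sum
    intro j hj
    exact dvd_mul_of_dvd_right (ih j (mem_range.1 hj)) _

/-- **Divisibility by `λ_{-1}(N)`.** -/
theorem lamNegOne_dvd_lam_mul (hB : IsSpecial B)
    (hP : ∀ n : ℕ, ∃ P : MvPolynomial (Fin n ⊕ Fin n) ℤ, IsMulPoly n P)
    (hQ : ∀ i j : ℕ, ∃ Q : MvPolynomial (Fin (i * j)) ℤ, IsCompPoly i j Q)
    (d : ℕ) (N : B) (hN : ∀ i : ℕ, d < i → LambdaOps.lam i N = 0) (p : ℕ) (hp : 1 ≤ p) (x : B) :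
    (∑ i ∈ range (d + 1), (-1 : B) ^ i * LambdaOps.lam i N) ∣
      LambdaOps.lam p (x * ∑ i ∈ range (d + 1), (-1 : B) ^ i * LambdaOps.lam i N) := by
  rcases d with _ | d'
  · rw [zero_add, Finset.sum_range_one, pow_zero, one_mul, LambdaOps.lam_zero]
    exact one_dvd _
  · have h1 := hB.lam_one_eq_zero
    set u := ∑ i ∈ range (d' + 1 + 1), (-1 : B) ^ i * LambdaOps.lam i N with hu
    set v := gamma (d' + 1) (N - ((d' + 1 : ℕ) : B)) with hv
    have hvu : v = (-1) ^ (d' + 1) * u := gamma_sub_rank_top h1 d' N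
    have hsq : ((-1 : B) ^ (d' + 1)) * (-1) ^ (d' + 1) = 1 := by
      rw [← mul_pow]; simp
    have huv : u = (-1) ^ (d' + 1) * v := by
      rw [hvu, ← mul_assoc, hsq, one_mul]
    have hvv : ∀ j : ℕ, v ∣ gamma (j + 1) v := by
      intro j
      obtain ⟨D, -, -, hD⟩ := exists_trunc_gamma.{v} hP hQ d' (j + 1) (by omega)
      have := hD B hB (fun _ => N - ((d' + 1 : ℕ) : B)) (fun _ k hk => gamma_sub_rank_eq_zero h1 (d' + 1) N hN k hk)
      exact ⟨_, this⟩
    obtain ⟨p', rfl⟩ : ∃ p', p = p' + 1 := ⟨p - 1, by omega⟩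
    have h2 : v ∣ LambdaOps.lam (p' + 1) (x * (-1) ^ (d' + 1) * v) :=
      dvd_lam_of_dvd_gamma v _ (fun a => dvd_gamma_mul hB hP hQ v hvv _ a) p'
    have h3 : x * u = x * (-1) ^ (d' + 1) * v := by rw [huv]; ring
    rw [h3]
    exact dvd_trans ⟨(-1) ^ (d' + 1), by rw [mul_comm]; exact hvu⟩ h2

end Dvd

end Groth.Agent.Helper6.Vp
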