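import Groth.Agent.Lib.Helper6.Vp1

/-!
# The split λ-ring is special; its Adams operations; split points (helper6)
-/

universe v

open PowerSeries Finset

namespace Groth.Agent.Helper6.Vp

open LambdaRing Groth.Agent.Helper13.Lam

variable {τ : Type v}

/-- the geometric series inverts `1 + a t` -/
lemma invOfUnit_one_add_C_mul_X {R : Type*} [CommRing R] (a : R) :
    PowerSeries.invOfUnit (1 + PowerSeries.C a * PowerSeries.X) 1 = PowerSeries.mk fun k => (-a) ^ k := by
  have h1 : (1 + PowerSeries.C a * PowerSeries.X) * (PowerSeries.mk fun k => (-a) ^ k) = 1 := by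
    ext n
    rw [add_mul, one_mul, mul_assoc, map_add, PowerSeries.coeff_mk, PowerSeries.coeff_C_mul]
    rcases n with _ | n
    · simp
    · rw [PowerSeries.coeff_succ_X_mul, PowerSeries.coeff_mk, PowerSeries.coeff_one, if_neg (by omega)]
      ring
  have h2 : PowerSeries.invOfUnit (1 + PowerSeries.C a * PowerSeries.X) 1 *
      (1 + PowerSeries.C a * PowerSeries.X) = 1 := PowerSeries.invOfUnit_mul _ _ (by simp)
  calc PowerSeries.invOfUnit (1 + PowerSeries.C a * PowerSeries.X) 1
      = PowerSeries.invOfUnit (1 + PowerSeries.C a * PowerSeries.X) 1 *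
          ((1 + PowerSeries.C a * PowerSeries.X) * (PowerSeries.mk fun k => (-a) ^ k)) := by
        rw [h1, mul_one]
    _ = (PowerSeries.invOfUnit (1 + PowerSeries.C a * PowerSeries.X) 1 *
          (1 + PowerSeries.C a * PowerSeries.X)) * (PowerSeries.mk fun k => (-a) ^ k) := by ring
    _ = _ := by rw [h2, one_mul]

/-- Adams operations of a line element in any pre-λ-ring -/
lemma adamsOp_of_line {K : Type*} [CommRing K] [LambdaOps K] (y : K)
    (hy : ∀ j : ℕ, 2 ≤ j → LambdaOps.lam j y = 0) (k : ℕ) : adamsOp (k + 1) y = y ^ (k + 1) := by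
  rw [adamsOp_succ]
  unfold logDerivSeries
  rw [lamSeries_of_line y hy, invOfUnit_one_add_C_mul_X]
  have hd : PowerSeries.derivative K (1 + PowerSeries.C y * PowerSeries.X) = PowerSeries.C y := by
    rw [map_add, Derivation.leibniz, PowerSeries.derivative_C, PowerSeries.derivative_X]
    have : PowerSeries.derivative K (1 : PowerSeries K) = 0 := by
      rw [← map_one (PowerSeries.C (R := K)), PowerSeries.derivative_C]
    rw [this]
    simp
  rw [hd, PowerSeries.coeff_C_mul, PowerSeries.coeff_mk]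
  have : (-1 : K) ^ k * (y * (-y) ^ k) = y ^ (k + 1) * ((-1) ^ k * (-1) ^ k) := by
    rw [neg_pow y k]; ring
  rw [this, ← mul_pow, neg_one_mul, neg_neg, one_pow, mul_one]

lemma adamsOp_zero' {K : Type*} [CommRing K] [LambdaOps K] (k : ℕ) : adamsOp k (0 : K) = 0 := by
  have := adamsOp_add k (0 : K) 0
  rw [add_zero] at this
  exact left_eq_add.mp this

lemma adamsOp_neg' {K : Type*} [CommRing K] [LambdaOps K] (k : ℕ) (x : K) : adamsOp k (-x) = -adamsOp k x := by
  have := adamsOp_add k x (-x)
  rw [add_neg_cancel, adamsOp_zero'] at this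
  exact eq_neg_of_add_eq_zero_right this.symm

open scoped Groth.Agent.Helper6.Vp

theorem adamsOp_eq_expand (k : ℕ) (f : MvPolynomial τ ℤ) :
    adamsOp (k + 1) f = MvPolynomial.expand (k + 1) f := by
  induction f using mono_induction with
  | h0 => rw [adamsOp_zero', map_zero]
  | hadd f g hf hg => rw [adamsOp_add, hf, hg, map_add]
  | hneg f hf => rw [adamsOp_neg', hf, map_neg]
  | hm m =>
    rw [adamsOp_of_line _ (lam_monomial m), MvPolynomial.expand_monomial, MvPolynomial.monomial_pow, one_pow]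

/-- `ℤ[l_a]` with the monomials as line elements is a λ-ring in the strict sense. -/
theorem isSpecial (τ : Type v) : IsSpecial (MvPolynomial τ ℤ) := by
  refine isSpecial_of_adams (MvPolynomial.map (Int.castRingHom ℚ) : MvPolynomial τ ℤ →+* MvPolynomial τ ℚ)
    (MvPolynomial.map_injective _ Int.cast_injective) ?_ ?_ ?_
  · intro k hk
    obtain ⟨k, rfl⟩ : ∃ k', k = k' + 1 := ⟨k - 1, by omega⟩
    rw [adamsOp_eq_expand, map_one]
  · intro k hk x y
    obtain ⟨k, rfl⟩ : ∃ k', k = k' + 1 := ⟨k - 1, by omega⟩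
    rw [adamsOp_eq_expand, adamsOp_eq_expand, adamsOp_eq_expand, map_mul]
  · intro k k' hk hk' x
    obtain ⟨k, rfl⟩ : ∃ k₀, k = k₀ + 1 := ⟨k - 1, by omega⟩
    obtain ⟨k', rfl⟩ : ∃ k₀, k' = k₀ + 1 := ⟨k' - 1, by omega⟩
    have : (k + 1) * (k' + 1) = ((k + 1) * (k' + 1) - 1) + 1 :=
      (Nat.sub_add_cancel (Nat.mul_pos (Nat.succ_pos k) (Nat.succ_pos k'))).symm
    rw [adamsOp_eq_expand, adamsOp_eq_expand, this, adamsOp_eq_expand, ← this, MvPolynomial.expand_mul]

lemma rescale_C' {R : Type*} [CommRing R] (a c : R) :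
    PowerSeries.rescale a (PowerSeries.C c) = PowerSeries.C c := by
  ext n
  rw [PowerSeries.coeff_rescale, PowerSeries.coeff_C]
  split_ifs with h
  · subst h; rw [pow_zero, one_mul]
  · rw [mul_zero]

/-- multiplication by a monomial rescales the λ-series -/
theorem lamS_monomial_mul (b : τ →₀ ℕ) (f : MvPolynomial τ ℤ) :
    lamS τ (MvPolynomial.monomial b 1 * f) = PowerSeries.rescale (MvPolynomial.monomial b (1 : ℤ)) (lamS τ f) := by
  generalize hr : PowerSeries.rescale (MvPolynomial.monomial b (1 : ℤ)) = r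
  induction f using mono_induction with
  | h0 => rw [mul_zero, lamS_zero, r.map_one]
  | hadd f g hf hg => rw [mul_add, lamS_add, lamS_add, r.map_mul, hf, hg]
  | hneg f hf =>
    have h1 := lamS_neg_mul (MvPolynomial.monomial b 1 * f)
    have h2 := congrArg r (lamS_neg_mul f)
    rw [r.map_mul, r.map_one, ← hf] at h2
    rw [mul_neg]
    calc lamS τ (-(MvPolynomial.monomial b 1 * f))
        = lamS τ (-(MvPolynomial.monomial b 1 * f)) *
            (r (lamS τ (-f)) * lamS τ (MvPolynomial.monomial b 1 * f)) := by rw [h2, mul_one]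
      _ = (lamS τ (-(MvPolynomial.monomial b 1 * f)) * lamS τ (MvPolynomial.monomial b 1 * f)) *
            r (lamS τ (-f)) := by ring
      _ = _ := by rw [h1, one_mul]
  | hm m =>
    subst hr
    rw [MvPolynomial.monomial_mul, one_mul, lamS_monomial, lamS_monomial, RingHom.map_add, RingHom.map_one,
      RingHom.map_mul, PowerSeries.rescale_X, rescale_C', ← mul_assoc, ← RingHom.map_mul,
      MvPolynomial.monomial_mul, one_mul, add_comm m b]

theorem lam_monomial_mul (b : τ →₀ ℕ) (f : MvPolynomial τ ℤ) (n : ℕ) :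
    LambdaOps.lam n (MvPolynomial.monomial b 1 * f) = MvPolynomial.monomial b (1 : ℤ) ^ n * LambdaOps.lam n f := by
  change PowerSeries.coeff n (lamS τ _) = _ * PowerSeries.coeff n (lamS τ f)
  rw [lamS_monomial_mul, PowerSeries.coeff_rescale]

end Groth.Agent.Helper6.Vp
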