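import Groth.Agent.Lib.Helper6.Vp19

/-!
# Verification principle, part 20: the γ-operations of a product `x v`, where `v` divides its own γ-operations

Abstract setting: a special λ-ring `B` with a decreasing multiplicative family of ideals `F`, elements
`x = y (inl)` and `v = y (inr)` with `γ^k x ∈ F (max i k)`, `v ∈ F d`, `γ^j v = v D_j`, `D_j ∈ F (j - d)`.
-/

set_option autoImplicit false

universe u v w

open Finset

namespace Groth.Agent.Helper6.Vp

open LambdaRing Groth.Agent.Helper13.Lam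

section Analysis

/-- the filtration weight of the variables: `γ^(k+1) x` has weight `max i (k+1)`, the cofactor of `γ^(j+1) v`
has weight `j + 1 - d` -/
def phiW (i d : ℕ) : (PUnit.{v + 1} ⊕ PUnit.{v + 1}) × ℕ → ℕ :=
  fun q => Sum.elim (fun _ => max i (q.2 + 1)) (fun _ => q.2 + 1 - d) q.1

/-- the number of factors `v` -/
def chiW : (PUnit.{v + 1} ⊕ PUnit.{v + 1}) × ℕ → ℕ :=
  fun q => Sum.elim (fun _ => 0) (fun _ => 1) q.1

variable {B : Type v} [CommRing B] [LambdaOps B]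

/-- the hypotheses of the analysis -/
structure Setup (F : ℕ → Ideal B) (i d : ℕ) (y : PUnit.{v + 1} ⊕ PUnit.{v + 1} → B) (D : ℕ → B) : Prop where
  hF : IsGradedFamily F
  hx : ∀ k : ℕ, gamma (k + 1) (y (Sum.inl PUnit.unit)) ∈ F (max i (k + 1))
  hv : y (Sum.inr PUnit.unit) ∈ F d
  hD : ∀ j : ℕ, D (j + 1) ∈ F (j + 1 - d) ∧
    gamma (j + 1) (y (Sum.inr PUnit.unit)) = y (Sum.inr PUnit.unit) * D (j + 1)

variable {F : ℕ → Ideal B} {i d : ℕ} {y : PUnit.{v + 1} ⊕ PUnit.{v + 1} → B} {D : ℕ → B}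

lemma Setup.monomial (h : Setup F i d y D) (η : ((PUnit.{v + 1} ⊕ PUnit.{v + 1}) × ℕ) →₀ ℕ) :
    ∃ c ∈ F (Finsupp.weight (phiW.{v} i d) η),
      evγ y (MvPolynomial.monomial η 1) = y (Sum.inr PUnit.unit) ^ (Finsupp.weight chiW.{v} η) * c := by
  induction η using Finsupp.induction_linear with
  | zero =>
    refine ⟨1, ?_, ?_⟩
    · rw [map_zero]; exact h.hF.one_mem
    · rw [map_zero, pow_zero, one_mul]
      have e : (MvPolynomial.monomial (0 : ((PUnit.{v + 1} ⊕ PUnit.{v + 1}) × ℕ) →₀ ℕ) (1 : ℤ)) = 1 := rfl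
      rw [e, map_one]
  | add f g hf hg =>
    obtain ⟨cf, hcf, ef⟩ := hf
    obtain ⟨cg, hcg, eg⟩ := hg
    refine ⟨cf * cg, ?_, ?_⟩
    · rw [map_add]; exact h.hF.mul_mem hcf hcg
    · have e : (MvPolynomial.monomial (f + g) (1 : ℤ)) =
          MvPolynomial.monomial f 1 * MvPolynomial.monomial g 1 := by
        rw [MvPolynomial.monomial_mul, one_mul]
      rw [e, map_mul, ef, eg, map_add, pow_add]
      ring
  | single q n =>
    rw [Finsupp.weight_single, Finsupp.weight_single, smul_eq_mul, smul_eq_mul]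
    have hX : evγ y (MvPolynomial.monomial (Finsupp.single q n) 1) = gamma (q.2 + 1) (y q.1) ^ n := by
      rw [← MvPolynomial.X_pow_eq_monomial, map_pow, evγ_X]
    rw [hX]
    obtain ⟨s | s, k⟩ := q
    · refine ⟨gamma (k + 1) (y (Sum.inl PUnit.unit)) ^ n, ?_, ?_⟩
      · exact h.hF.pow_mem (h.hx k) n
      · show gamma (k + 1) (y (Sum.inl PUnit.unit)) ^ n =
          y (Sum.inr PUnit.unit) ^ (n * 0) * gamma (k + 1) (y (Sum.inl PUnit.unit)) ^ n
        rw [mul_zero, pow_zero, one_mul]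
    · refine ⟨D (k + 1) ^ n, ?_, ?_⟩
      · exact h.hF.pow_mem (h.hD k).1 n
      · show gamma (k + 1) (y (Sum.inr PUnit.unit)) ^ n =
          y (Sum.inr PUnit.unit) ^ (n * 1) * D (k + 1) ^ n
        rw [(h.hD k).2, mul_pow, mul_one]

lemma exists_decomp {ι : Type*} (η : ι →₀ ℕ) (q₁ q₂ : ι) (h₁ : q₁ ∈ η.support) (h₂ : q₂ ∈ η.support)
    (hne : q₁ ≠ q₂) : ∃ η', η = Finsupp.single q₁ 1 + (Finsupp.single q₂ 1 + η') := by
  classical
  have hle : Finsupp.single q₁ 1 + Finsupp.single q₂ 1 ≤ η := by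
    rw [Finsupp.le_def]
    intro r
    rw [Finsupp.add_apply, Finsupp.single_apply, Finsupp.single_apply]
    have e1 := Finsupp.mem_support_iff.1 h₁
    have e2 := Finsupp.mem_support_iff.1 h₂
    split_ifs with a b b
    · exact absurd (a.trans b.symm) hne
    · subst a; omega
    · subst b; omega
    · omega
  refine ⟨η - (Finsupp.single q₁ 1 + Finsupp.single q₂ 1), ?_⟩
  rw [← add_assoc, add_tsub_cancel_of_le hle]

lemma weight_le (i d : ℕ) (η : ((PUnit.{v + 1} ⊕ PUnit.{v + 1}) × ℕ) →₀ ℕ) :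
    Finsupp.weight (wt (PUnit.{v + 1} ⊕ PUnit.{v + 1})) η ≤
      d * Finsupp.weight chiW.{v} η + Finsupp.weight (phiW.{v} i d) η := by
  induction η using Finsupp.induction_linear with
  | zero => simp
  | add f g hf hg =>
    rw [map_add, map_add, map_add, mul_add]
    omega
  | single q n =>
    rw [Finsupp.weight_single, Finsupp.weight_single, Finsupp.weight_single, smul_eq_mul, smul_eq_mul,
      smul_eq_mul]
    obtain ⟨s | s, k⟩ := q
    · show n * (k + 1) ≤ d * (n * 0) + n * max i (k + 1)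
      have h1 : n * (k + 1) ≤ n * max i (k + 1) := Nat.mul_le_mul_left n (le_max_right _ _)
      omega
    · show n * (k + 1) ≤ d * (n * 1) + n * (k + 1 - d)
      have h1 : k + 1 ≤ d + (k + 1 - d) := by omega
      calc n * (k + 1) ≤ n * (d + (k + 1 - d)) := Nat.mul_le_mul_left n h1
        _ = d * (n * 1) + n * (k + 1 - d) := by ring

lemma Setup.mono_bound (h : Setup F i d y D) (k j : ℕ) (η' : ((PUnit.{v + 1} ⊕ PUnit.{v + 1}) × ℕ) →₀ ℕ) :
    ∃ c ∈ F (max i (k + 1) + ((j + 1 - d) +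
        (d * Finsupp.weight chiW.{v} η' + Finsupp.weight (phiW.{v} i d) η'))),
      evγ y (MvPolynomial.monomial (Finsupp.single (Sum.inl PUnit.unit, k) 1 +
        (Finsupp.single (Sum.inr PUnit.unit, j) 1 + η')) 1) = y (Sum.inr PUnit.unit) * c := by
  obtain ⟨c', hc', e'⟩ := h.monomial η'
  refine ⟨gamma (k + 1) (y (Sum.inl PUnit.unit)) *
    (D (j + 1) * (y (Sum.inr PUnit.unit) ^ (Finsupp.weight chiW.{v} η') * c')), ?_, ?_⟩
  · refine h.hF.mul_mem (h.hx k) (h.hF.mul_mem (h.hD j).1 (h.hF.mul_mem ?_ hc'))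
    have := h.hF.pow_mem h.hv (Finsupp.weight chiW.{v} η')
    rwa [mul_comm] at this
  · rw [evγ_monomial_single_add, evγ_monomial_single_add, e']
    show gamma (k + 1) (y (Sum.inl PUnit.unit)) * (gamma (j + 1) (y (Sum.inr PUnit.unit)) * _) = _
    rw [(h.hD j).2]
    ring

/-- the shape of the monomials of the universal polynomial -/
lemma exists_shape {G : Op (PUnit.{v + 1} ⊕ PUnit.{v + 1})}
    (hvar : ∀ η ∈ G.support, (∃ q ∈ η.support, q.1 = Sum.inl PUnit.unit) ∧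
      ∃ q ∈ η.support, q.1 = Sum.inr PUnit.unit)
    (η : ((PUnit.{v + 1} ⊕ PUnit.{v + 1}) × ℕ) →₀ ℕ) (hη : η ∈ G.support) :
    ∃ (k j : ℕ) (η' : ((PUnit.{v + 1} ⊕ PUnit.{v + 1}) × ℕ) →₀ ℕ),
      η = Finsupp.single (Sum.inl PUnit.unit, k) 1 + (Finsupp.single (Sum.inr PUnit.unit, j) 1 + η') := by
  obtain ⟨⟨q₁, hq₁, hs₁⟩, ⟨q₂, hq₂, hs₂⟩⟩ := hvar η hη
  obtain ⟨s₁, k⟩ := q₁
  obtain ⟨s₂, j⟩ := q₂
  dsimp only at hs₁ hs₂
  subst hs₁ hs₂
  have hne : ((Sum.inl PUnit.unit : PUnit.{v + 1} ⊕ PUnit.{v + 1}), k) ≠ (Sum.inr PUnit.unit, j) := by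
    intro e
    have := congrArg Prod.fst e
    exact Sum.inl_ne_inr this
  obtain ⟨η', hη'⟩ := exists_decomp η _ _ hq₁ hq₂ hne
  exact ⟨k, j, η', hη'⟩

lemma weight_shape (k j : ℕ) (η' : ((PUnit.{v + 1} ⊕ PUnit.{v + 1}) × ℕ) →₀ ℕ) :
    Finsupp.weight (wt (PUnit.{v + 1} ⊕ PUnit.{v + 1}))
      (Finsupp.single (Sum.inl PUnit.unit, k) 1 + (Finsupp.single (Sum.inr PUnit.unit, j) 1 + η')) =
      (k + 1) + ((j + 1) + Finsupp.weight (wt (PUnit.{v + 1} ⊕ PUnit.{v + 1})) η') := by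
  rw [map_add, map_add, Finsupp.weight_single, Finsupp.weight_single, one_smul, one_smul]
  rfl

/-- **Claim 1**: `γ^a (x v) ∈ v F (max (a - d) i)`. -/
theorem Setup.claim1 (h : Setup F i d y D) {a : ℕ} {G : Op (PUnit.{v + 1} ⊕ PUnit.{v + 1})}
    (hGw : WtGE a G)
    (hvar : ∀ η ∈ G.support, (∃ q ∈ η.support, q.1 = Sum.inl PUnit.unit) ∧
      ∃ q ∈ η.support, q.1 = Sum.inr PUnit.unit) :
    ∃ w ∈ F (max (a - d) i), evγ y G = y (Sum.inr PUnit.unit) * w := by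
  rw [G.as_sum, map_sum]
  apply Finset.sum_induction _ (fun b => ∃ w ∈ F (max (a - d) i), b = y (Sum.inr PUnit.unit) * w)
  · rintro b₁ b₂ ⟨w₁, hw₁, rfl⟩ ⟨w₂, hw₂, rfl⟩
    exact ⟨w₁ + w₂, add_mem hw₁ hw₂, by ring⟩
  · exact ⟨0, zero_mem _, by ring⟩
  · intro η hη
    obtain ⟨k, j, η', hηeq⟩ := exists_shape hvar η hη
    obtain ⟨c, hc, ec⟩ := h.mono_bound k j η'
    rw [← hηeq] at ec
    have hw := hGw _ hη
    rw [hηeq, weight_shape] at hw
    have hle := weight_le.{v} i d η'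
    refine ⟨(MvPolynomial.coeff η G : ℤ) * c, Ideal.mul_mem_left _ _ (h.hF.anti ?_ hc), ?_⟩
    · have h1 : k + 1 ≤ max i (k + 1) := le_max_right _ _
      have h2 : i ≤ max i (k + 1) := le_max_left _ _
      omega
    · rw [evγ_monomial_eq, ec]
      ring

/-- the distinguished monomial `γ^(i'+1) x · γ^(d'+1) v` -/
noncomputable def eta0 (i' d' : ℕ) : ((PUnit.{v + 1} ⊕ PUnit.{v + 1}) × ℕ) →₀ ℕ :=
  Finsupp.single (Sum.inl PUnit.unit, i') 1 + (Finsupp.single (Sum.inr PUnit.unit, d') 1 + 0)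

/-- **Claim 2**: the leading term of `γ^(d+i) (x v)`. -/
theorem Setup.claim2 {i' d' : ℕ} (h : Setup F (i' + 1) (d' + 1) y D) {G : Op (PUnit.{v + 1} ⊕ PUnit.{v + 1})}
    (hGw : WtGE (d' + 1 + (i' + 1)) G)
    (hvar : ∀ η ∈ G.support, (∃ q ∈ η.support, q.1 = Sum.inl PUnit.unit) ∧
      ∃ q ∈ η.support, q.1 = Sum.inr PUnit.unit) :
    ∃ w' ∈ F (i' + 2), evγ y G = y (Sum.inr PUnit.unit) *
      ((MvPolynomial.coeff (eta0.{v} i' d') G : ℤ) * (gamma (i' + 1) (y (Sum.inl PUnit.unit)) * D (d' + 1)) + w') := by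
  classical
  set κ : ℤ := MvPolynomial.coeff (eta0.{v} i' d') G with hκ
  set G₁ : Op (PUnit.{v + 1} ⊕ PUnit.{v + 1}) := G - MvPolynomial.monomial (eta0.{v} i' d') κ with hG₁
  have hsupp : ∀ η ∈ G₁.support, η ∈ G.support ∧ η ≠ eta0.{v} i' d' := by
    intro η hη
    rw [MvPolynomial.mem_support_iff] at hη
    have hne : η ≠ eta0.{v} i' d' := by
      rintro rfl
      apply hη
      rw [hG₁, MvPolynomial.coeff_sub, MvPolynomial.coeff_monomial, if_pos rfl, sub_self]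
    refine ⟨?_, hne⟩
    rw [MvPolynomial.mem_support_iff]
    intro h0
    apply hη
    rw [hG₁, MvPolynomial.coeff_sub, MvPolynomial.coeff_monomial, if_neg (Ne.symm hne), h0, sub_zero]
  have h1 : ∃ w' ∈ F (i' + 2), evγ y G₁ = y (Sum.inr PUnit.unit) * w' := by
    rw [G₁.as_sum, map_sum]
    apply Finset.sum_induction _ (fun b => ∃ w ∈ F (i' + 2), b = y (Sum.inr PUnit.unit) * w)
    · rintro b₁ b₂ ⟨w₁, hw₁, rfl⟩ ⟨w₂, hw₂, rfl⟩
      exact ⟨w₁ + w₂, add_mem hw₁ hw₂, by ring⟩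
    · exact ⟨0, zero_mem _, by ring⟩
    · intro η hη
      obtain ⟨hηG, hηne⟩ := hsupp η hη
      obtain ⟨k, j, η', hηeq⟩ := exists_shape hvar η hηG
      obtain ⟨c, hc, ec⟩ := h.mono_bound k j η'
      rw [← hηeq] at ec
      have hw := hGw _ hηG
      rw [hηeq, weight_shape] at hw
      have hle := weight_le.{v} (i' + 1) (d' + 1) η'
      refine ⟨(MvPolynomial.coeff η G₁ : ℤ) * c, Ideal.mul_mem_left _ _ (h.hF.anti ?_ hc), ?_⟩
      · have h1 : k + 1 ≤ max (i' + 1) (k + 1) := le_max_right _ _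
        have h2 : i' + 1 ≤ max (i' + 1) (k + 1) := le_max_left _ _
        by_cases hη0 : η' = 0
        · subst hη0
          have hkj : ¬ (k = i' ∧ j = d') := by
            rintro ⟨rfl, rfl⟩
            exact hηne hηeq
          rw [map_zero] at hw
          rw [map_zero, map_zero]
          omega
        · have h3 := one_le_weight hη0
          omega
      · rw [evγ_monomial_eq, ec]
        ring
  obtain ⟨w', hw', ew'⟩ := h1
  refine ⟨w', hw', ?_⟩
  have e : G = MvPolynomial.monomial (eta0.{v} i' d') κ + G₁ := by rw [hG₁]; ring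
  conv_lhs => rw [e]
  rw [map_add, ew', evγ_monomial_eq, eta0, evγ_monomial_single_add, evγ_monomial_single_add]
  have e0 : evγ y (MvPolynomial.monomial (0 : ((PUnit.{v + 1} ⊕ PUnit.{v + 1}) × ℕ) →₀ ℕ) (1 : ℤ)) = 1 := by
    have e : (MvPolynomial.monomial (0 : ((PUnit.{v + 1} ⊕ PUnit.{v + 1}) × ℕ) →₀ ℕ) (1 : ℤ)) = 1 := rfl
    rw [e, map_one]
  rw [e0]
  show (κ : B) * (gamma (i' + 1) (y (Sum.inl PUnit.unit)) * (gamma (d' + 1) (y (Sum.inr PUnit.unit)) * 1)) + _ = _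
  rw [(h.hD d').2]
  ring

end Analysis

end Groth.Agent.Helper6.Vp
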