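import Groth.Agent.Lib.Helper6.Vp20

/-!
# Verification principle, part 21: the leading coefficient, computed in a split model
-/

set_option autoImplicit false

universe u v w

open Finset

namespace Groth.Agent.Helper6.Vp

open LambdaRing Groth.Agent.Helper13.Lam

section Model

open scoped Groth.Agent.Helper6.Vp

/-- the coefficient of `γ^(i'+1) x · γ^(d'+1) v` in the universal polynomial of `γ^(d+i) (x v)` -/
theorem kappa_eq (hP : ∀ n : ℕ, ∃ P : MvPolynomial (Fin n ⊕ Fin n) ℤ, IsMulPoly n P)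
    (hQ : ∀ i j : ℕ, ∃ Q : MvPolynomial (Fin (i * j)) ℤ, IsCompPoly i j Q)
    (i' d' : ℕ) (G : Op (PUnit.{v + 1} ⊕ PUnit.{v + 1}))
    (hGw : WtGE (d' + 1 + (i' + 1)) G)
    (hvar : ∀ η ∈ G.support, (∃ q ∈ η.support, q.1 = Sum.inl PUnit.unit) ∧
      ∃ q ∈ η.support, q.1 = Sum.inr PUnit.unit)
    (hG : ∀ (B : Type v) [CommRing B] [LambdaOps B], IsSpecial B →
      ∀ y : PUnit.{v + 1} ⊕ PUnit.{v + 1} → B,
        evγ y G = gamma (d' + 1 + (i' + 1)) (y (Sum.inl PUnit.unit) * y (Sum.inr PUnit.unit))) :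
    MvPolynomial.coeff (eta0.{v} i' d') G * ((-1) ^ i' * (i'.factorial : ℤ)) * ((-1) ^ d' * (d'.factorial : ℤ)) =
      (-1) ^ (d' + i' + 1) * ((d' + i' + 1).factorial : ℤ) := by
  classical
  let _ := splitOps (PUnit.{v + 1} × Fin (d' + 1))
  have hS := isSpecial (PUnit.{v + 1} × Fin (d' + 1))
  have hF := isGradedFamily_J (PUnit.{v + 1} × Fin (d' + 1))
  have hDex := fun j : ℕ => exists_trunc_gamma.{v} hP hQ d' (j + 1) (by omega)
  choose Dt hDw hDc hDe using hDex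
  have hyvan : ∀ (s : PUnit.{v + 1}) (k : ℕ), d' + 1 < k → gamma k (xN PUnit.{v + 1} (d' + 1) s) = 0 := by
    intro s k hk
    obtain ⟨k', rfl⟩ : ∃ k', k = k' + 1 := ⟨k - 1, by omega⟩
    exact gamma_xN_eq_zero (d' + 1) s k' (by omega)
  set v₀ : MvPolynomial (PUnit.{v + 1} × Fin (d' + 1)) ℤ :=
    gamma (d' + 1) (xN PUnit.{v + 1} (d' + 1) PUnit.unit) with hv₀
  set x₀ : MvPolynomial (PUnit.{v + 1} × Fin (d' + 1)) ℤ :=
    (MvPolynomial.X (PUnit.unit, (0 : Fin (d' + 1))) - 1) ^ (i' + 1) with hx₀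
  have hx₀mem : x₀ ∈ J (PUnit.{v + 1} × Fin (d' + 1)) ^ (i' + 1) := Ideal.pow_mem_pow (X_sub_one_mem _) _
  have hv₀mem : v₀ ∈ J (PUnit.{v + 1} × Fin (d' + 1)) ^ (d' + 1) :=
    gamma_mem_J_pow (xN_mem_J (d' + 1) PUnit.unit) (d' + 1)
  set D₀ : ℕ → MvPolynomial (PUnit.{v + 1} × Fin (d' + 1)) ℤ :=
    fun n => evγ (xN PUnit.{v + 1} (d' + 1)) (Dt (n - 1)) with hD₀
  have hD₀s : ∀ j, D₀ (j + 1) = evγ (xN PUnit.{v + 1} (d' + 1)) (Dt j) := by
    intro j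
    rw [hD₀]
    show evγ (xN PUnit.{v + 1} (d' + 1)) (Dt (j + 1 - 1)) = _
    rw [Nat.add_sub_cancel]
  have hsetup : Setup (fun n => J (PUnit.{v + 1} × Fin (d' + 1)) ^ n) (i' + 1) (d' + 1)
      (Sum.elim (fun _ => x₀) (fun _ => v₀)) D₀ := by
    refine ⟨hF, ?_, hv₀mem, ?_⟩
    · intro k
      show gamma (k + 1) x₀ ∈ J (PUnit.{v + 1} × Fin (d' + 1)) ^ (max (i' + 1) (k + 1))
      rcases le_total (i' + 1) (k + 1) with hle | hle
      · rw [max_eq_right hle]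
        exact gamma_mem_J_pow (Ideal.pow_le_self (by omega) hx₀mem) (k + 1)
      · rw [max_eq_left hle]
        exact gamma_mem_J_pow_of_mem i' x₀ hx₀mem k
    · intro j
      rw [hD₀s]
      refine ⟨?_, ?_⟩
      · exact evγ_mem_W hF (xN PUnit.{v + 1} (d' + 1))
          (fun s k => gamma_mem_J_pow (xN_mem_J (d' + 1) s) (k + 1)) (hDw j)
      · exact hDe j _ hS (xN PUnit.{v + 1} (d' + 1)) hyvan
  obtain ⟨w', hw', ew'⟩ := hsetup.claim2 hGw hvar
  have hGm := hG _ hS (Sum.elim (fun _ : PUnit.{v + 1} => x₀) (fun _ : PUnit.{v + 1} => v₀))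
  rw [ew'] at hGm
  have hGm' : v₀ * ((MvPolynomial.coeff (eta0.{v} i' d') G : ℤ) * (gamma (i' + 1) x₀ * D₀ (d' + 1)) + w') =
      gamma (d' + i' + 1 + 1) (x₀ * v₀) := by
    have e : d' + i' + 1 + 1 = d' + 1 + (i' + 1) := by omega
    rw [e]
    exact hGm
  have hxv : x₀ * v₀ ∈ J (PUnit.{v + 1} × Fin (d' + 1)) ^ (d' + i' + 1 + 1) := by
    have := Ideal.mul_mem_mul hx₀mem hv₀mem
    rw [← pow_add] at this
    have e : i' + 1 + (d' + 1) = d' + i' + 1 + 1 := by omega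
    rwa [e] at this
  have h1 := gamma_sub_mem_J (d' + i' + 1) (x₀ * v₀) hxv
  have h2 := gamma_sub_mem_J i' x₀ hx₀mem
  have h3 : D₀ (d' + 1) - (((-1) ^ d' * (d'.factorial : ℤ) : ℤ) : MvPolynomial (PUnit.{v + 1} × Fin (d' + 1)) ℤ) ∈
      J (PUnit.{v + 1} × Fin (d' + 1)) := by
    have := sub_ev1_mem (D₀ (d' + 1))
    rwa [hD₀s, ev1_evγ_xN, hDc d' rfl] at this
  set κ : ℤ := MvPolynomial.coeff (eta0.{v} i' d') G with hκ
  set θ : ℤ := κ * ((-1) ^ i' * (i'.factorial : ℤ)) * ((-1) ^ d' * (d'.factorial : ℤ)) -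
    (-1) ^ (d' + i' + 1) * ((d' + i' + 1).factorial : ℤ) with hθ
  have hmem : (θ : MvPolynomial (PUnit.{v + 1} × Fin (d' + 1)) ℤ) * (x₀ * v₀) ∈
      J (PUnit.{v + 1} × Fin (d' + 1)) ^ (d' + i' + 2 + 1) := by
    have e : (θ : MvPolynomial (PUnit.{v + 1} × Fin (d' + 1)) ℤ) * (x₀ * v₀) =
        (gamma (d' + i' + 1 + 1) (x₀ * v₀) -
          (-1) ^ (d' + i' + 1) * ((d' + i' + 1).factorial : MvPolynomial (PUnit.{v + 1} × Fin (d' + 1)) ℤ) * (x₀ * v₀)) -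
        v₀ * ((κ : MvPolynomial (PUnit.{v + 1} × Fin (d' + 1)) ℤ) *
            (gamma (i' + 1) x₀ - (-1) ^ i' * (i'.factorial : MvPolynomial (PUnit.{v + 1} × Fin (d' + 1)) ℤ) * x₀) *
              D₀ (d' + 1) +
          (κ : MvPolynomial (PUnit.{v + 1} × Fin (d' + 1)) ℤ) *
            ((-1) ^ i' * (i'.factorial : MvPolynomial (PUnit.{v + 1} × Fin (d' + 1)) ℤ)) * (x₀ *
              (D₀ (d' + 1) - (((-1) ^ d' * (d'.factorial : ℤ) : ℤ) : MvPolynomial (PUnit.{v + 1} × Fin (d' + 1)) ℤ))) +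
          w') := by
      rw [← hGm', hθ]
      push_cast
      ring
    rw [e]
    have e2 : d' + i' + 2 + 1 = d' + i' + 1 + 2 := by omega
    have e3 : d' + i' + 2 + 1 = (d' + 1) + (i' + 2) := by omega
    refine sub_mem (by rw [e2]; exact h1) ?_
    rw [e3, pow_add]
    refine Ideal.mul_mem_mul hv₀mem (add_mem (add_mem ?_ ?_) hw')
    · exact Ideal.mul_mem_right _ _ (Ideal.mul_mem_left _ _ h2)
    · apply Ideal.mul_mem_left
      have := Ideal.mul_mem_mul hx₀mem h3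
      rwa [← pow_succ] at this
  have hdiag : diag _ (x₀ * v₀) = Polynomial.X ^ (d' + i' + 2) := by
    rw [map_mul, hx₀, map_pow, diag_X_sub_one, hv₀, gamma_xN_top, map_prod]
    rw [Finset.prod_congr rfl fun a _ => diag_X_sub_one (PUnit.unit, a)]
    rw [Finset.prod_const, Finset.card_univ, Fintype.card_fin, ← pow_add]
    congr 1
    omega
  have h5 := eq_zero_of_diag θ (x₀ * v₀) (d' + i' + 2) hdiag hmem
  rw [hθ] at h5
  linarith

end Model

end Groth.Agent.Helper6.Vp
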