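import Groth.Agent.Lib.Helper6.Vp21

/-!
# Verification principle, part 22: the cofactor of `γ^p (x λ_{-1}(N))` lies in `Fil^(p-d)`
-/

set_option autoImplicit false

universe u v w

open Finset

namespace Groth.Agent.Helper6.Vp

open LambdaRing Groth.Agent.Helper13.Lam

section FilBasics

variable {K : Type u} [CommRing K] [LambdaOps K] {A : Type v} [CommRing A] [LambdaOps A]

/-- an augmentation commuting with the λ-operations vanishes on the first step of the γ-filtration -/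
lemma eps_eq_zero_of_mem (ε : A →+* K)
    (hε : ∀ (n : ℕ) (a : A), ε (LambdaOps.lam n a) = LambdaOps.lam n (ε a)) {u : A}
    (hu : u ∈ gammaFil ε 1) : ε u = 0 := by
  have hle : gammaFil ε 1 ≤ RingHom.ker ε := by
    apply Ideal.span_le.2
    rintro y ⟨l, hl, hn, rfl⟩
    rw [SetLike.mem_coe, RingHom.mem_ker, map_list_prod, List.map_map]
    apply List.prod_eq_zero
    have hex : ∃ p ∈ l, 1 ≤ p.1 := by
      by_contra hcon
      push Not at hcon
      have h0 : (l.map Prod.fst).sum = 0 := by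
        apply List.sum_eq_zero
        intro n hn'
        obtain ⟨p, hp, rfl⟩ := List.mem_map.1 hn'
        have := hcon p hp
        omega
      omega
    obtain ⟨p, hp, hp1⟩ := hex
    rw [List.mem_map]
    refine ⟨p, hp, ?_⟩
    show ε (gamma p.1 p.2) = 0
    obtain ⟨n, hn⟩ : ∃ n, p.1 = n + 1 := ⟨p.1 - 1, by omega⟩
    rw [hn, map_gamma ε hε, hl p hp, gamma_succ_zero]
  exact hle hu

lemma evγ_sub_const_mem {σ : Type w} (ε : A →+* K) (y : σ → A) (hy : ∀ s, ε (y s) = 0) (Q : Op σ) :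
    evγ y Q - ((MvPolynomial.coeff 0 Q : ℤ) : A) ∈ gammaFil ε 1 := by
  have hw : WtGE 1 (Q - MvPolynomial.C (MvPolynomial.coeff 0 Q)) := by
    intro η hη
    apply one_le_weight
    rintro rfl
    apply MvPolynomial.mem_support_iff.1 hη
    rw [MvPolynomial.coeff_sub, MvPolynomial.coeff_zero_C, sub_self]
  have := evγ_mem_of_wtGE ε y hy hw
  rwa [map_sub, evγ_C] at this

end FilBasics

section WFam

variable {A : Type v} [CommRing A]

/-- the family `v · F (max (p - d) i)` -/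
def wFamI (F : ℕ → Ideal A) (v : A) (d i : ℕ) (p : ℕ) : Ideal A :=
  if p = 0 then ⊤ else Ideal.span {v} * F (max (p - d) i)

lemma mem_wFamI {F : ℕ → Ideal A} {v : A} {d i p : ℕ} (hp : p ≠ 0) {z : A} :
    z ∈ wFamI F v d i p ↔ ∃ w ∈ F (max (p - d) i), v * w = z := by
  unfold wFamI
  rw [if_neg hp, Ideal.mem_span_singleton_mul]

lemma isGradedFamily_wFamI {F : ℕ → Ideal A} (hF : IsGradedFamily F) {v : A} {d : ℕ} (hv : v ∈ F d) (i : ℕ) :
    IsGradedFamily (wFamI F v d i) where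
  anti := by
    intro a b hab
    unfold wFamI
    by_cases ha : a = 0
    · rw [if_pos ha]; exact le_top
    · have hb : b ≠ 0 := by omega
      rw [if_neg ha, if_neg hb]
      exact Ideal.mul_mono_right (hF.anti (by omega))
  mul_le := by
    intro a b
    unfold wFamI
    by_cases ha : a = 0
    · subst ha
      rw [zero_add, if_pos rfl]
      exact Ideal.mul_le_right
    · by_cases hb : b = 0
      · subst hb
        rw [add_zero, if_pos rfl, if_neg ha, mul_comm]
        exact Ideal.mul_le_right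
      · rw [if_neg ha, if_neg hb, if_neg (by omega)]
        have hvle : Ideal.span {v} ≤ F d := (Ideal.span_singleton_le_iff_mem _).2 hv
        calc Ideal.span {v} * F (max (a - d) i) * (Ideal.span {v} * F (max (b - d) i))
            = Ideal.span {v} * (Ideal.span {v} * F (max (a - d) i) * F (max (b - d) i)) := by ring
          _ ≤ Ideal.span {v} * (F d * F (max (a - d) i) * F (max (b - d) i)) :=
              Ideal.mul_mono_right (Ideal.mul_mono (Ideal.mul_mono hvle le_rfl) le_rfl)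
          _ ≤ Ideal.span {v} * F (d + max (a - d) i + max (b - d) i) :=
              Ideal.mul_mono_right (le_trans (Ideal.mul_mono (hF.mul_le _ _) le_rfl) (hF.mul_le _ _))
          _ ≤ Ideal.span {v} * F (max (a + b - d) i) := Ideal.mul_mono_right (hF.anti (by omega))
  zero_eq_top := by
    unfold wFamI
    rw [if_pos rfl]

end WFam

section Data

variable {K : Type u} [CommRing K] [LambdaOps K] [BinomialRing K]
  {A : Type v} [CommRing A] [LambdaOps A] [Algebra K A]

/-- `Fil^(q+1)` is stable under the γ-operations of positive degree -/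
lemma gamma_mem_gammaFil_of_mem (hP : ∀ n : ℕ, ∃ P : MvPolynomial (Fin n ⊕ Fin n) ℤ, IsMulPoly n P)
    (hQ : ∀ i j : ℕ, ∃ Q : MvPolynomial (Fin (i * j)) ℤ, IsCompPoly i j Q)
    (hKb : IsBinomial K) (hA : IsSpecial A) (ε : A →ₐ[K] K) (hε : IsAugLambdaAlg K A ε) (q : ℕ) (z : A)
    (hz : z ∈ gammaFil (ε : A →+* K) (q + 1)) (k : ℕ) :
    gamma (k + 1) z ∈ gammaFil (ε : A →+* K) (q + 1) := by
  rw [gamma_succ]
  refine Ideal.sum_mem _ fun j _ => Ideal.mul_mem_left _ _ ?_
  have h := lam_sub_mem_gammaFil hP hQ hKb hA ε hε q z hz j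
  have e : LambdaOps.lam (j + 1) z =
      (LambdaOps.lam (j + 1) z - (-1) ^ j * ((j : A) + 1) ^ q * z) + (-1) ^ j * ((j : A) + 1) ^ q * z := by ring
  rw [e]
  exact add_mem (gammaFil_anti _ (by omega) h) (Ideal.mul_mem_left _ _ hz)

/-- the data attached to an element `N` of rank `d' + 1` in an augmented `K`-λ-algebra -/
theorem exists_rank_data (hKb : IsBinomial K) (hA : IsSpecial A)
    (hP : ∀ n : ℕ, ∃ P : MvPolynomial (Fin n ⊕ Fin n) ℤ, IsMulPoly n P)
    (hQ : ∀ i j : ℕ, ∃ Q : MvPolynomial (Fin (i * j)) ℤ, IsCompPoly i j Q)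
    (ε : A →ₐ[K] K) (hε : IsAugLambdaAlg K A ε) (d' : ℕ) (N : A)
    (hN : ∀ k : ℕ, d' + 1 < k → LambdaOps.lam k N = 0) (hNε : ε N = ((d' + 1 : ℕ) : K)) :
    ∃ (v : A) (D : ℕ → A),
      (∑ j ∈ range (d' + 1 + 1), (-1 : A) ^ j * LambdaOps.lam j N) = (-1) ^ (d' + 1) * v ∧
      v ∈ gammaFil (ε : A →+* K) (d' + 1) ∧
      (∀ j : ℕ, D (j + 1) ∈ gammaFil (ε : A →+* K) (j + 1 - (d' + 1)) ∧ gamma (j + 1) v = v * D (j + 1)) ∧
      D (d' + 1) - (((-1) ^ d' * (d'.factorial : ℤ) : ℤ) : A) ∈ gammaFil (ε : A →+* K) 1 := by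
  have h1 := hA.lam_one_eq_zero
  have hDex := fun j : ℕ => exists_trunc_gamma.{v} hP hQ d' (j + 1) (by omega)
  choose Dt hDw hDc hDe using hDex
  set n' : A := N - ((d' + 1 : ℕ) : A) with hn'
  have hεn' : (ε : A →+* K) n' = 0 := by
    show ε n' = 0
    rw [hn', map_sub, hNε, map_natCast, sub_self]
  have hyε : ∀ s : PUnit.{v + 1}, (ε : A →+* K) ((fun _ : PUnit.{v + 1} => n') s) = 0 := fun _ => hεn'
  have hvan : ∀ (s : PUnit.{v + 1}) (k : ℕ), d' + 1 < k → gamma k ((fun _ : PUnit.{v + 1} => n') s) = 0 :=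
    fun _ k hk => gamma_sub_rank_eq_zero h1 (d' + 1) N hN k hk
  have hD₀s : ∀ j, (fun n => evγ (fun _ : PUnit.{v + 1} => n') (Dt (n - 1))) (j + 1) =
      evγ (fun _ : PUnit.{v + 1} => n') (Dt j) := by
    intro j
    show evγ (fun _ : PUnit.{v + 1} => n') (Dt (j + 1 - 1)) = _
    rw [Nat.add_sub_cancel]
  refine ⟨gamma (d' + 1) n', fun n => evγ (fun _ : PUnit.{v + 1} => n') (Dt (n - 1)), ?_, ?_, ?_, ?_⟩
  · rw [gamma_sub_rank_top h1 d' N, ← mul_assoc]
    have hsq : ((-1 : A) ^ (d' + 1)) * (-1) ^ (d' + 1) = 1 := by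
      rw [← mul_pow]; simp
    rw [hsq, one_mul]
  · exact gamma_mem_gammaFil _ hεn' (d' + 1)
  · intro j
    rw [hD₀s]
    exact ⟨evγ_mem_of_wtGE _ _ hyε (hDw j), hDe j A hA (fun _ => n') hvan⟩
  · rw [hD₀s]
    have := evγ_sub_const_mem (ε : A →+* K) (fun _ : PUnit.{v + 1} => n') hyε (Dt d')
    rwa [hDc d' rfl] at this

/-- multiples of `v` by elements of augmentation zero -/
theorem wGood_mul_of_aug (hA : IsSpecial A)
    (hP : ∀ n : ℕ, ∃ P : MvPolynomial (Fin n ⊕ Fin n) ℤ, IsMulPoly n P)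
    (hQ : ∀ i j : ℕ, ∃ Q : MvPolynomial (Fin (i * j)) ℤ, IsCompPoly i j Q)
    (ε : A →+* K) (d : ℕ) (v : A) (D : ℕ → A) (hv : v ∈ gammaFil ε d)
    (hD : ∀ j : ℕ, D (j + 1) ∈ gammaFil ε (j + 1 - d) ∧ gamma (j + 1) v = v * D (j + 1))
    (x' : A) (hx' : ε x' = 0) : WGood (wFamI (gammaFil ε) v d 1) (x' * v) := by
  have hF := isGradedFamily_gammaFil ε
  intro a
  rcases a with _ | a'
  · unfold wFamI
    rw [if_pos rfl]
    trivial
  · obtain ⟨G, hGw, hvar, hG⟩ := exists_gamma_mul_poly.{v} hP hQ (a' + 1) (by omega)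
    have hsetup : Setup (gammaFil ε) 1 d (Sum.elim (fun _ : PUnit.{v + 1} => x') (fun _ : PUnit.{v + 1} => v)) D := by
      refine ⟨hF, ?_, hv, hD⟩
      intro k
      show gamma (k + 1) x' ∈ gammaFil ε (max 1 (k + 1))
      rw [max_eq_right (by omega)]
      exact gamma_mem_gammaFil ε hx' (k + 1)
    obtain ⟨w, hw, ew⟩ := hsetup.claim1 hGw hvar
    rw [hG A hA _] at ew
    rw [mem_wFamI (by omega)]
    exact ⟨w, hw, ew.symm⟩

end Data

end Groth.Agent.Helper6.Vp
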