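import Groth.Agent.Lib.Helper6.Vp22

/-!
# Verification principle, part 23: `γ^p (x λ_{-1}(N)) / λ_{-1}(N)` in the γ-filtration
-/

set_option autoImplicit false

universe u v w

open Finset

namespace Groth.Agent.Helper6.Vp

open LambdaRing Groth.Agent.Helper13.Lam

section Cofactor

variable {K : Type u} [CommRing K] [LambdaOps K] [BinomialRing K]
  {A : Type v} [CommRing A] [LambdaOps A] [Algebra K A]

lemma neg_one_pow_sq (n : ℕ) : ((-1 : A) ^ n) * (-1) ^ n = 1 := by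
  rw [← mul_pow]; simp

/-- cancelling `u = (-1)^n v` from `y u = v w` -/
lemma cancel_nzd {u v y w : A} (n : ℕ) (hu : u = (-1) ^ n * v) (hnzd : u ∈ nonZeroDivisors A)
    (h : y * u = v * w) : y = w * (-1) ^ n := by
  have h1 : (y - w * (-1) ^ n) * u = 0 := by
    have e : (y - w * (-1) ^ n) * u = y * u - w * ((-1) ^ n * u) := by ring
    rw [e, h]
    have e2 : (-1 : A) ^ n * u = v := by
      rw [hu, ← mul_assoc, neg_one_pow_sq, one_mul]
    rw [e2]
    ring
  have h2 := (mem_nonZeroDivisors_iff_right.1 hnzd) _ h1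
  exact sub_eq_zero.1 h2

/-- the general multiple `x̃ v` is good for the coarse family -/
theorem wGood_mul_general (hKb : IsBinomial K) (hA : IsSpecial A)
    (hP : ∀ n : ℕ, ∃ P : MvPolynomial (Fin n ⊕ Fin n) ℤ, IsMulPoly n P)
    (hQ : ∀ i j : ℕ, ∃ Q : MvPolynomial (Fin (i * j)) ℤ, IsCompPoly i j Q)
    (ε : A →ₐ[K] K) (hε : IsAugLambdaAlg K A ε) (d : ℕ) (v : A) (D : ℕ → A)
    (hv : v ∈ gammaFil (ε : A →+* K) d)
    (hD : ∀ j : ℕ, D (j + 1) ∈ gammaFil (ε : A →+* K) (j + 1 - d) ∧ gamma (j + 1) v = v * D (j + 1))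
    (x : A) : WGood (wFamI (gammaFil (ε : A →+* K)) v d 0) (x * v) := by
  have hF := isGradedFamily_gammaFil (ε : A →+* K)
  have hW := isGradedFamily_wFamI hF hv 0
  have hWv : WGood (wFamI (gammaFil (ε : A →+* K)) v d 0) v := by
    intro p
    rcases p with _ | j
    · unfold wFamI
      rw [if_pos rfl]
      trivial
    · rw [mem_wFamI (by omega)]
      exact ⟨D (j + 1), hF.anti (by rw [Nat.max_zero]) (hD j).1, ((hD j).2).symm⟩
  have hεx' : (ε : A →+* K) (x - algebraMap K A (ε x)) = 0 := by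
    show ε (x - algebraMap K A (ε x)) = 0
    rw [map_sub, AlgHom.commutes]
    exact sub_self _
  have h1 := wGood_mul_of_aug hA hP hQ (ε : A →+* K) d v D hv hD _ hεx'
  have h1' : WGood (wFamI (gammaFil (ε : A →+* K)) v d 0) ((x - algebraMap K A (ε x)) * v) := by
    intro a
    have := h1 a
    rcases a with _ | a'
    · unfold wFamI
      rw [if_pos rfl]
      trivial
    · rw [mem_wFamI (by omega)] at this ⊢
      obtain ⟨w, hw, ew⟩ := this
      exact ⟨w, hF.anti (by omega) hw, ew⟩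
  have h2 := WGood.mul_algebraMap hP hKb hA hε.isLambdaAlg hW hWv (ε x)
  have e : x * v = v * algebraMap K A (ε x) + (x - algebraMap K A (ε x)) * v := by ring
  rw [e]
  exact WGood.add hW h2 h1'

/-- **S8695**: the cofactor of `γ^p (x λ_{-1}(N))` lies in `Fil^(p-d)`. -/
theorem cofactor_mem_gammaFil (hKb : IsBinomial K) (hA : IsSpecial A)
    (hP : ∀ n : ℕ, ∃ P : MvPolynomial (Fin n ⊕ Fin n) ℤ, IsMulPoly n P)
    (hQ : ∀ i j : ℕ, ∃ Q : MvPolynomial (Fin (i * j)) ℤ, IsCompPoly i j Q)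
    (ε : A →ₐ[K] K) (hε : IsAugLambdaAlg K A ε)
    (d : ℕ) (hd : 1 ≤ d) (N : A) (hN : ∀ k : ℕ, d < k → LambdaOps.lam k N = 0) (hNε : ε N = (d : K))
    (hnzd : (∑ j ∈ range (d + 1), (-1 : A) ^ j * LambdaOps.lam j N) ∈ nonZeroDivisors A)
    (p : ℕ) (hp : 1 ≤ p) (x y : A)
    (hy : y * (∑ j ∈ range (d + 1), (-1 : A) ^ j * LambdaOps.lam j N) =
      gamma p (x * (∑ j ∈ range (d + 1), (-1 : A) ^ j * LambdaOps.lam j N))) :
    y ∈ gammaFil (ε : A →+* K) (p - d) := by
  obtain ⟨d', rfl⟩ : ∃ d', d = d' + 1 := ⟨d - 1, by omega⟩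
  obtain ⟨v, D, huv, hv, hD, -⟩ := exists_rank_data hKb hA hP hQ ε hε d' N hN hNε
  set u := ∑ j ∈ range (d' + 1 + 1), (-1 : A) ^ j * LambdaOps.lam j N with hu
  have hF := isGradedFamily_gammaFil (ε : A →+* K)
  have hgood := wGood_mul_general hKb hA hP hQ ε hε (d' + 1) v D hv hD (x * (-1) ^ (d' + 1))
  have e : x * u = x * (-1) ^ (d' + 1) * v := by rw [huv]; ring
  rw [e] at hy
  have hmem := hgood p
  rw [mem_wFamI (by omega)] at hmem
  obtain ⟨w, hw, ew⟩ := hmem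
  rw [← ew] at hy
  have hyw := cancel_nzd (d' + 1) huv hnzd hy
  rw [hyw]
  apply Ideal.mul_mem_right
  exact hF.anti (by rw [Nat.max_zero]) hw

end Cofactor

end Groth.Agent.Helper6.Vp
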