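import Groth.Agent.Lib.Helper6.Vp23

/-!
# Verification principle, part 24: the leading term of `γ^(d+i) (x λ_{-1}(N)) / λ_{-1}(N)` for `x ∈ Fil^i`
-/

set_option autoImplicit false

universe u v w

open Finset

namespace Groth.Agent.Helper6.Vp

open LambdaRing Groth.Agent.Helper13.Lam

section Leading

variable {K : Type u} [CommRing K] [LambdaOps K] [BinomialRing K]
  {A : Type v} [CommRing A] [LambdaOps A] [Algebra K A]

/-- the case `i ≥ 1` -/
theorem leading_pos (hKb : IsBinomial K) (hA : IsSpecial A)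
    (hP : ∀ n : ℕ, ∃ P : MvPolynomial (Fin n ⊕ Fin n) ℤ, IsMulPoly n P)
    (hQ : ∀ i j : ℕ, ∃ Q : MvPolynomial (Fin (i * j)) ℤ, IsCompPoly i j Q)
    (ε : A →ₐ[K] K) (hε : IsAugLambdaAlg K A ε)
    (d' : ℕ) (N : A) (hN : ∀ k : ℕ, d' + 1 < k → LambdaOps.lam k N = 0) (hNε : ε N = ((d' + 1 : ℕ) : K))
    (hnzd : (∑ j ∈ range (d' + 1 + 1), (-1 : A) ^ j * LambdaOps.lam j N) ∈ nonZeroDivisors A)
    (i' : ℕ) (x : A) (hx : x ∈ gammaFil (ε : A →+* K) (i' + 1)) (y : A)
    (hy : y * (∑ j ∈ range (d' + 1 + 1), (-1 : A) ^ j * LambdaOps.lam j N) =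
      gamma (d' + 1 + (i' + 1)) (x * (∑ j ∈ range (d' + 1 + 1), (-1 : A) ^ j * LambdaOps.lam j N))) :
    y - (-1 : A) ^ (d' + i' + 1) * ((d' + i' + 1).factorial : A) * x ∈ gammaFil (ε : A →+* K) (i' + 2) := by
  obtain ⟨v, D, huv, hv, hD, hDc⟩ := exists_rank_data hKb hA hP hQ ε hε d' N hN hNε
  set u := ∑ j ∈ range (d' + 1 + 1), (-1 : A) ^ j * LambdaOps.lam j N with hu
  have hF := isGradedFamily_gammaFil (ε : A →+* K)
  have hs := neg_one_pow_sq (A := A) (d' + 1)
  have hxtm : x * (-1) ^ (d' + 1) ∈ gammaFil (ε : A →+* K) (i' + 1) := Ideal.mul_mem_right _ _ hx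
  have hepsxt : (ε : A →+* K) (x * (-1) ^ (d' + 1)) = 0 :=
    eps_eq_zero_of_mem (ε : A →+* K) (fun n a => hε.map_lam n a) (gammaFil_anti _ (by omega) hxtm)
  have hsetup : Setup (gammaFil (ε : A →+* K)) (i' + 1) (d' + 1)
      (Sum.elim (fun _ : PUnit.{v + 1} => x * (-1) ^ (d' + 1)) (fun _ : PUnit.{v + 1} => v)) D := by
    refine ⟨hF, ?_, hv, hD⟩
    intro k
    show gamma (k + 1) (x * (-1) ^ (d' + 1)) ∈ gammaFil (ε : A →+* K) (max (i' + 1) (k + 1))
    rcases le_total (i' + 1) (k + 1) with hle | hle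
    · rw [max_eq_right hle]
      exact gamma_mem_gammaFil _ hepsxt (k + 1)
    · rw [max_eq_left hle]
      exact gamma_mem_gammaFil_of_mem hP hQ hKb hA ε hε i' _ hxtm k
  obtain ⟨G, hGw, hvar, hG⟩ := exists_gamma_mul_poly.{v} hP hQ (d' + 1 + (i' + 1)) (by omega)
  obtain ⟨w', hw', ew'⟩ := hsetup.claim2 hGw hvar
  have hκ := kappa_eq hP hQ i' d' G hGw hvar hG
  rw [hG A hA _] at ew'
  have e : x * u = x * (-1) ^ (d' + 1) * v := by rw [huv]; ring
  rw [e] at hy
  have ew'' : gamma (d' + 1 + (i' + 1)) (x * (-1) ^ (d' + 1) * v) =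
      v * ((MvPolynomial.coeff (eta0.{v} i' d') G : ℤ) * (gamma (i' + 1) (x * (-1) ^ (d' + 1)) * D (d' + 1)) + w') :=
    ew'
  rw [ew''] at hy
  have hyR := cancel_nzd (d' + 1) huv hnzd hy
  set κ : ℤ := MvPolynomial.coeff (eta0.{v} i' d') G with hκdef
  have hg := gamma_sub_mem_gammaFil hP hQ hKb hA ε hε i' _ hxtm
  have hκA : (κ : A) * ((-1) ^ i' * (i'.factorial : A)) * ((-1) ^ d' * (d'.factorial : A)) =
      (-1) ^ (d' + i' + 1) * ((d' + i' + 1).factorial : A) := by
    have := congrArg (Int.cast : ℤ → A) hκ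
    push_cast at this
    exact this
  have hDc' : D (d' + 1) - (-1) ^ d' * (d'.factorial : A) ∈ gammaFil (ε : A →+* K) 1 := by
    have := hDc
    push_cast at this
    exact this
  have hR : (κ : A) * (gamma (i' + 1) (x * (-1) ^ (d' + 1)) * D (d' + 1)) + w' -
      (-1) ^ (d' + i' + 1) * ((d' + i' + 1).factorial : A) * (x * (-1) ^ (d' + 1)) ∈
      gammaFil (ε : A →+* K) (i' + 2) := by
    have e2 : (κ : A) * (gamma (i' + 1) (x * (-1) ^ (d' + 1)) * D (d' + 1)) + w' -
        (-1) ^ (d' + i' + 1) * ((d' + i' + 1).factorial : A) * (x * (-1) ^ (d' + 1)) =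
        (κ : A) * ((gamma (i' + 1) (x * (-1) ^ (d' + 1)) -
          (-1) ^ i' * (i'.factorial : A) * (x * (-1) ^ (d' + 1))) * D (d' + 1)) +
        (κ : A) * ((-1) ^ i' * (i'.factorial : A)) *
          ((x * (-1) ^ (d' + 1)) * (D (d' + 1) - (-1) ^ d' * (d'.factorial : A))) + w' := by
      rw [← hκA]; ring
    rw [e2]
    refine add_mem (add_mem ?_ ?_) hw'
    · exact Ideal.mul_mem_left _ _ (Ideal.mul_mem_right _ _ hg)
    · apply Ideal.mul_mem_left
      have hmm := mul_mem_gammaFil (ε : A →+* K) hxtm hDc'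
      exact hmm
  have e3 : y - (-1 : A) ^ (d' + i' + 1) * ((d' + i' + 1).factorial : A) * x =
      ((κ : A) * (gamma (i' + 1) (x * (-1) ^ (d' + 1)) * D (d' + 1)) + w' -
        (-1) ^ (d' + i' + 1) * ((d' + i' + 1).factorial : A) * (x * (-1) ^ (d' + 1))) * (-1) ^ (d' + 1) := by
    rw [hyR]
    linear_combination ((-1 : A) ^ (d' + i' + 1) * ((d' + i' + 1).factorial : A) * x) * hs
  rw [e3]
  exact Ideal.mul_mem_right _ _ hR

/-- the case `i = 0` -/
theorem leading_zero (hKb : IsBinomial K) (hA : IsSpecial A)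
    (hP : ∀ n : ℕ, ∃ P : MvPolynomial (Fin n ⊕ Fin n) ℤ, IsMulPoly n P)
    (hQ : ∀ i j : ℕ, ∃ Q : MvPolynomial (Fin (i * j)) ℤ, IsCompPoly i j Q)
    (ε : A →ₐ[K] K) (hε : IsAugLambdaAlg K A ε)
    (d' : ℕ) (N : A) (hN : ∀ k : ℕ, d' + 1 < k → LambdaOps.lam k N = 0) (hNε : ε N = ((d' + 1 : ℕ) : K))
    (hnzd : (∑ j ∈ range (d' + 1 + 1), (-1 : A) ^ j * LambdaOps.lam j N) ∈ nonZeroDivisors A)
    (x y : A)
    (hy : y * (∑ j ∈ range (d' + 1 + 1), (-1 : A) ^ j * LambdaOps.lam j N) =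
      gamma (d' + 1) (x * (∑ j ∈ range (d' + 1 + 1), (-1 : A) ^ j * LambdaOps.lam j N))) :
    y - (-1 : A) ^ d' * (d'.factorial : A) * x ∈ gammaFil (ε : A →+* K) 1 := by
  obtain ⟨v, D, huv, hv, hD, hDc⟩ := exists_rank_data hKb hA hP hQ ε hε d' N hN hNε
  set u := ∑ j ∈ range (d' + 1 + 1), (-1 : A) ^ j * LambdaOps.lam j N with hu
  have hF := isGradedFamily_gammaFil (ε : A →+* K)
  have hs := neg_one_pow_sq (A := A) (d' + 1)
  have hDc' : D (d' + 1) - (-1) ^ d' * (d'.factorial : A) ∈ gammaFil (ε : A →+* K) 1 := by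
    have := hDc
    push_cast at this
    exact this
  -- the ideal `S = v · Fil^1`
  set S : Ideal A := Ideal.span {v} * gammaFil (ε : A →+* K) 1 with hS
  have hvspan : Ideal.span {v} ≤ gammaFil (ε : A →+* K) 1 :=
    (Ideal.span_singleton_le_iff_mem _).2 (gammaFil_anti _ (by omega) hv)
  have hvv : Ideal.span {v} * Ideal.span {v} ≤ S := Ideal.mul_mono_right hvspan
  -- decomposition of `x̃`
  set xt : A := x * (-1) ^ (d' + 1) with hxt
  set kt : K := ε xt with hkt
  have hεx' : (ε : A →+* K) (xt - algebraMap K A kt) = 0 := by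
    show ε (xt - algebraMap K A kt) = 0
    rw [map_sub, AlgHom.commutes, hkt]
    exact sub_self _
  have hx'mem : xt - algebraMap K A kt ∈ gammaFil (ε : A →+* K) 1 := by
    have := gamma_mem_gammaFil (ε : A →+* K) hεx' 1
    rwa [gamma_one'] at this
  -- part (b)
  have hb := wGood_mul_of_aug hA hP hQ (ε : A →+* K) (d' + 1) v D hv hD _ hεx'
  have hbS : ∀ q : ℕ, gamma (q + 1) ((xt - algebraMap K A kt) * v) ∈ S := by
    intro q
    have := hb (q + 1)
    unfold wFamI at this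
    rw [if_neg (by omega)] at this
    exact Ideal.mul_mono_right (hF.anti (le_max_right _ _)) this
  -- part (a)
  have hφ : ∀ n, PowerSeries.coeff n (gammaSeries v - 1) ∈ Ideal.span {v} := by
    intro n
    rcases n with _ | n
    · rw [map_sub, coeff_gammaSeries, gamma_zero', PowerSeries.coeff_one, if_pos rfl, sub_self]
      exact zero_mem _
    · rw [map_sub, coeff_gammaSeries, PowerSeries.coeff_one, if_neg (by omega), sub_zero, (hD n).2]
      exact Ideal.mul_mem_right _ _ (Ideal.subset_span rfl)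
  have ha : gamma (d' + 1) (v * algebraMap K A kt) -
      v * (algebraMap K A kt * ((-1) ^ d' * (d'.factorial : A))) ∈ S := by
    rw [gamma_mul_algebraMap hP hKb hA hε.isLambdaAlg kt v (d' + 1), Finset.sum_range_succ',
      Finset.sum_range_succ']
    have e0 : PowerSeries.coeff (d' + 1) ((gammaSeries v - 1) ^ 0) = 0 := by
      rw [pow_zero, PowerSeries.coeff_one, if_neg (by omega)]
    have e1 : PowerSeries.coeff (d' + 1) ((gammaSeries v - 1) ^ (0 + 1)) = v * D (d' + 1) := by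
      rw [zero_add, pow_one, map_sub, coeff_gammaSeries, PowerSeries.coeff_one, if_neg (by omega), sub_zero,
        (hD d').2]
    rw [e0, e1, smul_zero, add_zero, Ring.choose_one_right, Algebra.smul_def]
    have hhigh : ∑ j ∈ range d', Ring.choose kt (j + 1 + 1) •
        PowerSeries.coeff (d' + 1) ((gammaSeries v - 1) ^ (j + 1 + 1)) ∈ S := by
      apply Ideal.sum_mem
      intro j _
      rw [Algebra.smul_def]
      apply Ideal.mul_mem_left
      have h1 := coeff_pow_mem (Ideal.span {v}) _ hφ (j + 1 + 1) (d' + 1)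
      have h2 : Ideal.span {v} ^ (j + 1 + 1) ≤ S := by
        calc Ideal.span {v} ^ (j + 1 + 1) ≤ Ideal.span {v} ^ 2 := Ideal.pow_le_pow_right (by omega)
          _ = Ideal.span {v} * Ideal.span {v} := pow_two _
          _ ≤ S := hvv
      exact h2 h1
    have e2 : ∑ j ∈ range d', Ring.choose kt (j + 1 + 1) •
          PowerSeries.coeff (d' + 1) ((gammaSeries v - 1) ^ (j + 1 + 1)) +
        algebraMap K A kt * (v * D (d' + 1)) - v * (algebraMap K A kt * ((-1) ^ d' * (d'.factorial : A))) =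
        ∑ j ∈ range d', Ring.choose kt (j + 1 + 1) •
          PowerSeries.coeff (d' + 1) ((gammaSeries v - 1) ^ (j + 1 + 1)) +
        v * (algebraMap K A kt * (D (d' + 1) - (-1) ^ d' * (d'.factorial : A))) := by ring
    rw [e2]
    refine add_mem hhigh ?_
    exact Ideal.mul_mem_mul (Ideal.subset_span rfl) (Ideal.mul_mem_left _ _ hDc')
  -- the sum
  have hsum : gamma (d' + 1) (xt * v) - v * (algebraMap K A kt * ((-1) ^ d' * (d'.factorial : A))) ∈ S := by
    have e : xt * v = v * algebraMap K A kt + (xt - algebraMap K A kt) * v := by ring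
    rw [e, ← coeff_gammaSeries, gammaSeries_add, PowerSeries.coeff_mul,
      Finset.Nat.sum_antidiagonal_eq_sum_range_succ_mk, Finset.sum_range_succ]
    simp only [coeff_gammaSeries]
    rw [Nat.sub_self, gamma_zero', mul_one]
    have hmid : ∑ k ∈ range (d' + 1), gamma k (v * algebraMap K A kt) *
        gamma (d' + 1 - k) ((xt - algebraMap K A kt) * v) ∈ S := by
      apply Ideal.sum_mem
      intro k hk
      have hk' : k < d' + 1 := mem_range.1 hk
      obtain ⟨q, hq⟩ : ∃ q, d' + 1 - k = q + 1 := ⟨d' - k, by omega⟩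
      rw [hq]
      exact Ideal.mul_mem_left _ _ (hbS q)
    have e2 : ∑ k ∈ range (d' + 1), gamma k (v * algebraMap K A kt) *
          gamma (d' + 1 - k) ((xt - algebraMap K A kt) * v) + gamma (d' + 1) (v * algebraMap K A kt) -
        v * (algebraMap K A kt * ((-1) ^ d' * (d'.factorial : A))) =
        ∑ k ∈ range (d' + 1), gamma k (v * algebraMap K A kt) *
          gamma (d' + 1 - k) ((xt - algebraMap K A kt) * v) +
        (gamma (d' + 1) (v * algebraMap K A kt) -
          v * (algebraMap K A kt * ((-1) ^ d' * (d'.factorial : A)))) := by ring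
    rw [e2]
    exact add_mem hmid ha
  rw [hS, Ideal.mem_span_singleton_mul] at hsum
  obtain ⟨r, hr, er⟩ := hsum
  have eg : gamma (d' + 1) (xt * v) = v * (algebraMap K A kt * ((-1) ^ d' * (d'.factorial : A)) + r) := by
    rw [mul_add, er]; ring
  have e : x * u = xt * v := by rw [huv, hxt]; ring
  rw [e, eg] at hy
  have hyR := cancel_nzd (d' + 1) huv hnzd hy
  have e3 : y - (-1 : A) ^ d' * (d'.factorial : A) * x =
      (r - (-1) ^ d' * (d'.factorial : A) * (xt - algebraMap K A kt)) * (-1) ^ (d' + 1) := by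
    rw [hyR, hxt]
    linear_combination ((-1 : A) ^ d' * (d'.factorial : A) * x) * hs
  rw [e3]
  exact Ideal.mul_mem_right _ _ (sub_mem hr (Ideal.mul_mem_left _ _ hx'mem))

/-- **S8696** -/
theorem cofactor_leading (hKb : IsBinomial K) (hA : IsSpecial A)
    (hP : ∀ n : ℕ, ∃ P : MvPolynomial (Fin n ⊕ Fin n) ℤ, IsMulPoly n P)
    (hQ : ∀ i j : ℕ, ∃ Q : MvPolynomial (Fin (i * j)) ℤ, IsCompPoly i j Q)
    (ε : A →ₐ[K] K) (hε : IsAugLambdaAlg K A ε)
    (d : ℕ) (hd : 1 ≤ d) (N : A) (hN : ∀ k : ℕ, d < k → LambdaOps.lam k N = 0) (hNε : ε N = (d : K))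
    (hnzd : (∑ j ∈ range (d + 1), (-1 : A) ^ j * LambdaOps.lam j N) ∈ nonZeroDivisors A)
    (i : ℕ) (x : A) (hx : x ∈ gammaFil (ε : A →+* K) i) (y : A)
    (hy : y * (∑ j ∈ range (d + 1), (-1 : A) ^ j * LambdaOps.lam j N) =
      gamma (d + i) (x * (∑ j ∈ range (d + 1), (-1 : A) ^ j * LambdaOps.lam j N))) :
    y - (-1 : A) ^ (d + i - 1) * ((d + i - 1).factorial : A) * x ∈ gammaFil (ε : A →+* K) (i + 1) := by
  obtain ⟨d', rfl⟩ : ∃ d', d = d' + 1 := ⟨d - 1, by omega⟩
  rcases i with _ | i'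
  · have e : d' + 1 + 0 - 1 = d' := by omega
    rw [e]
    exact leading_zero hKb hA hP hQ ε hε d' N hN hNε hnzd x y hy
  · have e : d' + 1 + (i' + 1) - 1 = d' + i' + 1 := by omega
    rw [e]
    exact leading_pos hKb hA hP hQ ε hε d' N hN hNε hnzd i' x hx y hy

end Leading

end Groth.Agent.Helper6.Vp
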