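import Groth.Agent.Lib.Helper6.Vp2

/-!
# λ-operations on the graded pieces of the augmentation-ideal filtration of the split λ-ring (helper6)

For `u ∈ J^p`, `p ≥ 1`, `J = (l_a - 1)` the augmentation ideal of `ℤ[l_a]`:
`λ^n(u) ≡ (-1)^(n-1) n^(p-1) u  mod J^(p+1)` for all `n ≥ 1` (`lam_sub_mem`).
-/

universe v

open Finset

namespace Groth.Agent.Helper6.Vp

open LambdaRing Groth.Agent.Helper13.Lam
open scoped Groth.Agent.Helper6.Vp

variable {τ : Type v}

/-- the augmentation ideal `(l_a - 1)` -/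
noncomputable def J (τ : Type v) : Ideal (MvPolynomial τ ℤ) :=
  Ideal.span (Set.range fun a : τ => (MvPolynomial.X a - 1 : MvPolynomial τ ℤ))

lemma X_sub_one_mem (a : τ) : (MvPolynomial.X a - 1 : MvPolynomial τ ℤ) ∈ J τ :=
  Ideal.subset_span ⟨a, rfl⟩

lemma mul_sub_one_mem {x y : MvPolynomial τ ℤ} (hx : x - 1 ∈ J τ) (hy : y - 1 ∈ J τ) : x * y - 1 ∈ J τ := by
  have : x * y - 1 = x * (y - 1) + (x - 1) := by ring
  rw [this]
  exact (J τ).add_mem ((J τ).mul_mem_left _ hy) hx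

lemma pow_sub_one_mem {x : MvPolynomial τ ℤ} (hx : x - 1 ∈ J τ) (n : ℕ) : x ^ n - 1 ∈ J τ := by
  induction n with
  | zero => simp
  | succ n ih => rw [pow_succ]; exact mul_sub_one_mem ih hx

lemma prod_sub_one_mem {ι : Type*} (s : Finset ι) (f : ι → MvPolynomial τ ℤ) (h : ∀ i ∈ s, f i - 1 ∈ J τ) :
    ∏ i ∈ s, f i - 1 ∈ J τ := by
  classical
  induction s using Finset.induction_on with
  | empty => simp
  | insert a s ha ih =>
    rw [Finset.prod_insert ha]
    exact mul_sub_one_mem (h a (Finset.mem_insert_self a s)) (ih fun i hi => h i (Finset.mem_insert_of_mem hi))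

lemma monomial_sub_one_mem (m : τ →₀ ℕ) : MvPolynomial.monomial m (1 : ℤ) - 1 ∈ J τ := by
  rw [MvPolynomial.monomial_eq, map_one, one_mul]
  unfold Finsupp.prod
  apply prod_sub_one_mem
  intro i _
  have : (MvPolynomial.X i : MvPolynomial τ ℤ) - 1 ∈ J τ := X_sub_one_mem i
  exact pow_sub_one_mem this _

lemma pow_sub_one_sub_mem {x : MvPolynomial τ ℤ} (hx : x - 1 ∈ J τ) (n : ℕ) :
    x ^ n - 1 - (n : MvPolynomial τ ℤ) * (x - 1) ∈ J τ ^ 2 := by
  induction n with
  | zero => simp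
  | succ n ih =>
    have : x ^ (n + 1) - 1 - ((n + 1 : ℕ) : MvPolynomial τ ℤ) * (x - 1) =
        x * (x ^ n - 1 - (n : MvPolynomial τ ℤ) * (x - 1)) + (n : MvPolynomial τ ℤ) * ((x - 1) * (x - 1)) := by
      push_cast; ring
    rw [this]
    refine (J τ ^ 2).add_mem ((J τ ^ 2).mul_mem_left _ ih) ((J τ ^ 2).mul_mem_left _ ?_)
    rw [pow_two]
    exact Ideal.mul_mem_mul hx hx

lemma lam_succ_zero {K : Type*} [CommRing K] [LambdaOps K] (k : ℕ) : LambdaOps.lam (k + 1) (0 : K) = 0 := by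
  rw [← coeff_lamSeries, lamSeries_zero, PowerSeries.coeff_one, if_neg (by omega)]

/-- `λ^n u ≡ (-1)^(n-1) n^q u` modulo `J^(q+2)` -/
def Good (q : ℕ) (u : MvPolynomial τ ℤ) : Prop :=
  ∀ k : ℕ, LambdaOps.lam (k + 1) u - (-1) ^ k * ((k : MvPolynomial τ ℤ) + 1) ^ q * u ∈ J τ ^ (q + 2)

lemma Good.lam_mem {q : ℕ} {u : MvPolynomial τ ℤ} (h : Good q u) (hu : u ∈ J τ ^ (q + 1)) (k : ℕ) :
    LambdaOps.lam (k + 1) u ∈ J τ ^ (q + 1) := by
  have h2 : LambdaOps.lam (k + 1) u =
      (LambdaOps.lam (k + 1) u - (-1) ^ k * ((k : MvPolynomial τ ℤ) + 1) ^ q * u) +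
        (-1) ^ k * ((k : MvPolynomial τ ℤ) + 1) ^ q * u := by ring
  rw [h2]
  exact add_mem (Ideal.pow_le_pow_right (by omega) (h k)) (Ideal.mul_mem_left _ _ hu)

lemma good_zero (q : ℕ) : Good q (0 : MvPolynomial τ ℤ) := by
  intro k
  rw [lam_succ_zero, mul_zero, sub_zero]
  exact zero_mem _

lemma Good.add {q : ℕ} {u u' : MvPolynomial τ ℤ} (hu : u ∈ J τ ^ (q + 1)) (hu' : u' ∈ J τ ^ (q + 1))
    (h : Good q u) (h' : Good q u') : Good q (u + u') := by
  intro k
  rw [LambdaOps.lam_add, Finset.sum_range_succ, Finset.sum_range_succ']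
  simp only [LambdaOps.lam_zero, Nat.sub_zero, Nat.sub_self, one_mul, mul_one]
  have hmid : ∑ j ∈ range k, LambdaOps.lam (j + 1) u * LambdaOps.lam (k + 1 - (j + 1)) u' ∈ J τ ^ (q + 2) := by
    apply Ideal.sum_mem
    intro j hj
    have hj' : j < k := mem_range.1 hj
    obtain ⟨i, hi⟩ : ∃ i, k + 1 - (j + 1) = i + 1 := ⟨k - j - 1, by omega⟩
    rw [hi]
    have := Ideal.mul_mem_mul (h.lam_mem hu j) (h'.lam_mem hu' i)
    rw [← pow_add] at this
    exact Ideal.pow_le_pow_right (by omega) this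
  have e : (∑ j ∈ range k, LambdaOps.lam (j + 1) u * LambdaOps.lam (k + 1 - (j + 1)) u' +
        LambdaOps.lam (k + 1) u' + LambdaOps.lam (k + 1) u) -
        (-1) ^ k * ((k : MvPolynomial τ ℤ) + 1) ^ q * (u + u') =
      ∑ j ∈ range k, LambdaOps.lam (j + 1) u * LambdaOps.lam (k + 1 - (j + 1)) u' +
        (LambdaOps.lam (k + 1) u' - (-1) ^ k * ((k : MvPolynomial τ ℤ) + 1) ^ q * u') +
        (LambdaOps.lam (k + 1) u - (-1) ^ k * ((k : MvPolynomial τ ℤ) + 1) ^ q * u) := by ring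
  rw [e]
  exact add_mem (add_mem hmid (h' k)) (h k)

lemma Good.neg {q : ℕ} {u : MvPolynomial τ ℤ} (hu : u ∈ J τ ^ (q + 1)) (h : Good q u) : Good q (-u) := by
  intro k
  induction k using Nat.strong_induction_on with
  | _ k ih =>
    have hmem : ∀ j < k, LambdaOps.lam (j + 1) (-u) ∈ J τ ^ (q + 1) := by
      intro j hj
      have h2 : LambdaOps.lam (j + 1) (-u) =
          (LambdaOps.lam (j + 1) (-u) - (-1) ^ j * ((j : MvPolynomial τ ℤ) + 1) ^ q * (-u)) +
            (-1) ^ j * ((j : MvPolynomial τ ℤ) + 1) ^ q * (-u) := by ring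
      rw [h2]
      exact add_mem (Ideal.pow_le_pow_right (by omega) (ih j hj))
        (Ideal.mul_mem_left _ _ ((J τ ^ (q + 1)).neg_mem hu))
    have hsum := LambdaOps.lam_add (k + 1) (-u) u
    rw [neg_add_cancel, lam_succ_zero, Finset.sum_range_succ, Finset.sum_range_succ'] at hsum
    simp only [LambdaOps.lam_zero, Nat.sub_zero, Nat.sub_self, one_mul, mul_one] at hsum
    have hmid : ∑ j ∈ range k, LambdaOps.lam (j + 1) (-u) * LambdaOps.lam (k + 1 - (j + 1)) u ∈ J τ ^ (q + 2) := by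
      apply Ideal.sum_mem
      intro j hj
      have hj' : j < k := mem_range.1 hj
      obtain ⟨i, hi⟩ : ∃ i, k + 1 - (j + 1) = i + 1 := ⟨k - j - 1, by omega⟩
      rw [hi]
      have := Ideal.mul_mem_mul (hmem j hj') (h.lam_mem hu i)
      rw [← pow_add] at this
      exact Ideal.pow_le_pow_right (by omega) this
    have e : LambdaOps.lam (k + 1) (-u) - (-1) ^ k * ((k : MvPolynomial τ ℤ) + 1) ^ q * (-u) =
        -(∑ j ∈ range k, LambdaOps.lam (j + 1) (-u) * LambdaOps.lam (k + 1 - (j + 1)) u) -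
          (LambdaOps.lam (k + 1) u - (-1) ^ k * ((k : MvPolynomial τ ℤ) + 1) ^ q * u) := by
      linear_combination (-1 : MvPolynomial τ ℤ) * hsum
    rw [e]
    exact sub_mem (neg_mem hmid) (h k)

/-- the basic relation `λ_t((m-1) f) λ_t(f) = λ_{mt}(f)` for a monomial `m` -/
lemma rel (b : τ →₀ ℕ) (f : MvPolynomial τ ℤ) (n : ℕ) :
    ∑ i ∈ range (n + 1), LambdaOps.lam i ((MvPolynomial.monomial b 1 - 1) * f) * LambdaOps.lam (n - i) f =
      MvPolynomial.monomial b (1 : ℤ) ^ n * LambdaOps.lam n f := by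
  rw [← LambdaOps.lam_add, ← lam_monomial_mul]
  congr 1
  ring

lemma lam_base (b c : τ →₀ ℕ) (k : ℕ) :
    LambdaOps.lam (k + 1) ((MvPolynomial.monomial b 1 - 1) * MvPolynomial.monomial c (1 : ℤ)) =
      (-MvPolynomial.monomial c (1 : ℤ)) ^ k * ((MvPolynomial.monomial b 1 - 1) * MvPolynomial.monomial c (1 : ℤ)) := by
  induction k with
  | zero => rw [zero_add, LambdaOps.lam_one, pow_zero, one_mul]
  | succ k ih =>
    have hr := rel b (MvPolynomial.monomial c (1 : ℤ)) (k + 2)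
    rw [lam_monomial c (k + 2) (by omega), mul_zero, Finset.sum_range_succ, Finset.sum_range_succ] at hr
    have h0 : ∑ i ∈ range (k + 1), LambdaOps.lam i ((MvPolynomial.monomial b 1 - 1) * MvPolynomial.monomial c (1 : ℤ)) *
        LambdaOps.lam (k + 2 - i) (MvPolynomial.monomial c (1 : ℤ)) = 0 := by
      apply Finset.sum_eq_zero
      intro i hi
      have : i < k + 1 := mem_range.1 hi
      rw [lam_monomial c (k + 2 - i) (by omega), mul_zero]
    rw [h0, zero_add] at hr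
    have e1 : k + 2 - (k + 1) = 1 := by omega
    have e2 : k + 2 - (k + 2) = 0 := by omega
    rw [e1, e2, LambdaOps.lam_one, LambdaOps.lam_zero, mul_one, ih] at hr
    rw [show k + 1 + 1 = k + 2 from rfl]
    linear_combination hr

lemma good_base (b c : τ →₀ ℕ) :
    Good 0 ((MvPolynomial.monomial b 1 - 1) * MvPolynomial.monomial c (1 : ℤ)) := by
  intro k
  rw [lam_base, pow_zero, mul_one]
  have e : (-MvPolynomial.monomial c (1 : ℤ)) ^ k * ((MvPolynomial.monomial b 1 - 1) * MvPolynomial.monomial c (1 : ℤ)) -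
      (-1) ^ k * ((MvPolynomial.monomial b 1 - 1) * MvPolynomial.monomial c (1 : ℤ)) =
      ((-1) ^ k * MvPolynomial.monomial c (1 : ℤ)) * ((MvPolynomial.monomial c (1 : ℤ) ^ k - 1) *
        (MvPolynomial.monomial b 1 - 1)) := by
    rw [neg_pow (MvPolynomial.monomial c (1 : ℤ)) k]; ring
  rw [e, zero_add, pow_two]
  exact Ideal.mul_mem_left _ _ (Ideal.mul_mem_mul (pow_sub_one_mem (monomial_sub_one_mem c) k)
    (monomial_sub_one_mem b))

lemma good_step {q : ℕ} {u : MvPolynomial τ ℤ} (hu : u ∈ J τ ^ (q + 1)) (h : Good q u) (b : τ →₀ ℕ) :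
    Good (q + 1) ((MvPolynomial.monomial b 1 - 1) * u) := by
  have hmu : (MvPolynomial.monomial b 1 - 1) * u ∈ J τ ^ (q + 2) := by
    rw [pow_succ' (J τ) (q + 1)]
    exact Ideal.mul_mem_mul (monomial_sub_one_mem b) hu
  intro k
  induction k using Nat.strong_induction_on with
  | _ k ih =>
    have hmem : ∀ j < k, LambdaOps.lam (j + 1) ((MvPolynomial.monomial b 1 - 1) * u) ∈ J τ ^ (q + 2) := by
      intro j hj
      have h2 : LambdaOps.lam (j + 1) ((MvPolynomial.monomial b 1 - 1) * u) =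
          (LambdaOps.lam (j + 1) ((MvPolynomial.monomial b 1 - 1) * u) -
            (-1) ^ j * ((j : MvPolynomial τ ℤ) + 1) ^ (q + 1) * ((MvPolynomial.monomial b 1 - 1) * u)) +
            (-1) ^ j * ((j : MvPolynomial τ ℤ) + 1) ^ (q + 1) * ((MvPolynomial.monomial b 1 - 1) * u) := by ring
      rw [h2]
      exact add_mem (Ideal.pow_le_pow_right (by omega) (ih j hj)) (Ideal.mul_mem_left _ _ hmu)
    have hr := rel b u (k + 1)
    rw [Finset.sum_range_succ, Finset.sum_range_succ'] at hr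
    simp only [LambdaOps.lam_zero, Nat.sub_zero, Nat.sub_self, one_mul, mul_one] at hr
    have hmid : ∑ j ∈ range k, LambdaOps.lam (j + 1) ((MvPolynomial.monomial b 1 - 1) * u) *
        LambdaOps.lam (k + 1 - (j + 1)) u ∈ J τ ^ (q + 1 + 2) := by
      apply Ideal.sum_mem
      intro j hj
      have hj' : j < k := mem_range.1 hj
      obtain ⟨i, hi⟩ : ∃ i, k + 1 - (j + 1) = i + 1 := ⟨k - j - 1, by omega⟩
      rw [hi]
      have := Ideal.mul_mem_mul (hmem j hj') (h.lam_mem hu i)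
      rw [← pow_add] at this
      exact Ideal.pow_le_pow_right (by omega) this
    -- the main term
    set m : MvPolynomial τ ℤ := MvPolynomial.monomial b 1 with hm
    set c : MvPolynomial τ ℤ := (-1) ^ k * ((k : MvPolynomial τ ℤ) + 1) ^ q with hc
    have hρ : LambdaOps.lam (k + 1) u - c * u ∈ J τ ^ (q + 2) := h k
    have hσ : m ^ (k + 1) - 1 - ((k + 1 : ℕ) : MvPolynomial τ ℤ) * (m - 1) ∈ J τ ^ 2 :=
      pow_sub_one_sub_mem (monomial_sub_one_mem b) (k + 1)
    have hm1 : m - 1 ∈ J τ := monomial_sub_one_mem b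
    have e : LambdaOps.lam (k + 1) ((m - 1) * u) -
        (-1) ^ k * ((k : MvPolynomial τ ℤ) + 1) ^ (q + 1) * ((m - 1) * u) =
        -(∑ j ∈ range k, LambdaOps.lam (j + 1) ((m - 1) * u) * LambdaOps.lam (k + 1 - (j + 1)) u) +
          ((((k + 1 : ℕ) : MvPolynomial τ ℤ) * ((m - 1) * (LambdaOps.lam (k + 1) u - c * u)) +
            (m ^ (k + 1) - 1 - ((k + 1 : ℕ) : MvPolynomial τ ℤ) * (m - 1)) * (c * u)) +
            (m ^ (k + 1) - 1 - ((k + 1 : ℕ) : MvPolynomial τ ℤ) * (m - 1)) * (LambdaOps.lam (k + 1) u - c * u)) := by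
      have hk1 : ((k + 1 : ℕ) : MvPolynomial τ ℤ) = (k : MvPolynomial τ ℤ) + 1 := by push_cast; ring
      rw [hc, hk1]; linear_combination hr
    rw [e]
    refine add_mem (neg_mem hmid) (add_mem (add_mem ?_ ?_) ?_)
    · apply Ideal.mul_mem_left
      have := Ideal.mul_mem_mul hm1 hρ
      rw [← pow_succ'] at this
      exact this
    · have := Ideal.mul_mem_mul hσ (Ideal.mul_mem_left _ c hu)
      rw [← pow_add] at this
      exact Ideal.pow_le_pow_right (by omega) this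
    · have := Ideal.mul_mem_mul hσ hρ
      rw [← pow_add] at this
      exact Ideal.pow_le_pow_right (by omega) this

lemma good_sub_one_mul_zero (b : τ →₀ ℕ) (f : MvPolynomial τ ℤ) :
    Good 0 ((MvPolynomial.monomial b 1 - 1) * f) := by
  have hmem : ∀ g : MvPolynomial τ ℤ, (MvPolynomial.monomial b 1 - 1) * g ∈ J τ ^ (0 + 1) := by
    intro g
    rw [zero_add, pow_one]
    exact Ideal.mul_mem_right _ _ (monomial_sub_one_mem b)
  induction f using mono_induction with
  | h0 => rw [mul_zero]; exact good_zero 0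
  | hadd f g hf hg => rw [mul_add]; exact Good.add (hmem f) (hmem g) hf hg
  | hneg f hf => rw [mul_neg]; exact Good.neg (hmem f) hf
  | hm c => exact good_base b c

lemma X_eq_monomial (a : τ) : (MvPolynomial.X a : MvPolynomial τ ℤ) = MvPolynomial.monomial (Finsupp.single a 1) 1 := rfl

/-- elements of `J * N` are sums of `(l_a - 1) * n` -/
lemma mul_mem_induction {N : Ideal (MvPolynomial τ ℤ)} {P : MvPolynomial τ ℤ → Prop}
    (h0 : P 0) (hadd : ∀ x y, P x → P y → P (x + y))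
    (hgen : ∀ (a : τ) (n : MvPolynomial τ ℤ), n ∈ N → P ((MvPolynomial.X a - 1) * n))
    {x : MvPolynomial τ ℤ} (hx : x ∈ J τ * N) : P x := by
  refine Submodule.mul_induction_on hx ?_ hadd
  intro m hm n hn
  obtain ⟨c, rfl⟩ := Finsupp.mem_span_range_iff_exists_finsupp.1 hm
  unfold Finsupp.sum
  rw [Finset.sum_mul]
  apply Finset.sum_induction _ P hadd h0
  intro a _
  have : c a • (MvPolynomial.X a - 1 : MvPolynomial τ ℤ) * n = (MvPolynomial.X a - 1) * (c a * n) := by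
    rw [smul_eq_mul]; ring
  rw [this]
  exact hgen a _ (N.mul_mem_left _ hn)

theorem good_of_mem (q : ℕ) : ∀ u ∈ J τ ^ (q + 1), Good q u := by
  induction q with
  | zero =>
    intro u hu
    rw [zero_add, pow_one, ← Ideal.mul_top (J τ)] at hu
    have : u ∈ J τ ^ (0 + 1) ∧ Good 0 u := by
      refine mul_mem_induction (P := fun x => x ∈ J τ ^ (0 + 1) ∧ Good 0 x) ⟨zero_mem _, good_zero 0⟩ ?_ ?_ hu
      · intro x y hx hy
        exact ⟨add_mem hx.1 hy.1, Good.add hx.1 hy.1 hx.2 hy.2⟩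
      · intro a n _
        refine ⟨?_, ?_⟩
        · rw [zero_add, pow_one]
          exact Ideal.mul_mem_right _ _ (X_sub_one_mem a)
        · rw [X_eq_monomial]
          exact good_sub_one_mul_zero _ n
    exact this.2
  | succ q ih =>
    intro u hu
    rw [pow_succ' (J τ) (q + 1)] at hu
    have : u ∈ J τ ^ (q + 1 + 1) ∧ Good (q + 1) u := by
      refine mul_mem_induction (P := fun x => x ∈ J τ ^ (q + 1 + 1) ∧ Good (q + 1) x)
        ⟨zero_mem _, good_zero _⟩ ?_ ?_ hu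
      · intro x y hx hy
        exact ⟨add_mem hx.1 hy.1, Good.add hx.1 hy.1 hx.2 hy.2⟩
      · intro a n hn
        refine ⟨?_, ?_⟩
        · rw [pow_succ' (J τ) (q + 1)]
          exact Ideal.mul_mem_mul (X_sub_one_mem a) hn
        · rw [X_eq_monomial]
          exact good_step hn (ih n hn) _
    exact this.2

/-- For `u ∈ J^(q+1)`: `λ^(k+1) u ≡ (-1)^k (k+1)^q u` modulo `J^(q+2)`. -/
theorem lam_sub_mem (q : ℕ) (u : MvPolynomial τ ℤ) (hu : u ∈ J τ ^ (q + 1)) (k : ℕ) :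
    LambdaOps.lam (k + 1) u - (-1) ^ k * ((k : MvPolynomial τ ℤ) + 1) ^ q * u ∈ J τ ^ (q + 2) :=
  good_of_mem q u hu k

theorem lam_mem_pow (q : ℕ) (u : MvPolynomial τ ℤ) (hu : u ∈ J τ ^ (q + 1)) (k : ℕ) :
    LambdaOps.lam (k + 1) u ∈ J τ ^ (q + 1) :=
  (good_of_mem q u hu).lam_mem hu k

end Groth.Agent.Helper6.Vp
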