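import Groth.Agent.Lib.Helper6.Vp3
import Mathlib.RingTheory.PowerSeries.Binomial

/-!
# Natural operations on λ-rings are polynomial (helper6)

`Op σ = ℤ[X_(s,i)]` with `X_(s,i)` standing for `λ^(i+1)(x_s)` (`ev`) or for `γ^(i+1)(x_s)` (`evγ`).
`exists_lam_poly`: for every `G` and `n` there is `G'` with `ev x G' = λ^n (ev x G)` in every special λ-ring.
-/

universe v w

open Finset

namespace Groth.Agent.Helper6.Vp

open LambdaRing Groth.Agent.Helper13.Lam

/-- polynomials in the symbols `λ^(i+1)(x_s)` -/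
abbrev Op (σ : Type w) := MvPolynomial (σ × ℕ) ℤ

section Ev

variable {σ : Type w} {A : Type v} [CommRing A] [LambdaOps A]

/-- evaluation, the variable `(s, i)` going to `λ^(i+1)(x_s)` -/
noncomputable def ev (x : σ → A) : Op σ →ₐ[ℤ] A :=
  MvPolynomial.aeval fun p : σ × ℕ => LambdaOps.lam (p.2 + 1) (x p.1)

/-- evaluation, the variable `(s, i)` going to `γ^(i+1)(x_s)` -/
noncomputable def evγ (x : σ → A) : Op σ →ₐ[ℤ] A :=
  MvPolynomial.aeval fun p : σ × ℕ => gamma (p.2 + 1) (x p.1)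

@[simp] lemma ev_X (x : σ → A) (p : σ × ℕ) : ev x (MvPolynomial.X p) = LambdaOps.lam (p.2 + 1) (x p.1) :=
  MvPolynomial.aeval_X _ _

@[simp] lemma evγ_X (x : σ → A) (p : σ × ℕ) : evγ x (MvPolynomial.X p) = gamma (p.2 + 1) (x p.1) :=
  MvPolynomial.aeval_X _ _

@[simp] lemma ev_C (x : σ → A) (z : ℤ) : ev x (MvPolynomial.C z) = (z : A) := by
  rw [ev, MvPolynomial.aeval_C, algebraMap_int_eq, eq_intCast]

@[simp] lemma evγ_C (x : σ → A) (z : ℤ) : evγ x (MvPolynomial.C z) = (z : A) := by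
  rw [evγ, MvPolynomial.aeval_C, algebraMap_int_eq, eq_intCast]

lemma gamma_succ (k : ℕ) (y : A) :
    gamma (k + 1) y = ∑ j ∈ range (k + 1), (Nat.choose k j : A) * LambdaOps.lam (j + 1) y := by
  unfold gamma
  rw [if_neg (by omega), Finset.sum_range_succ', if_pos rfl, mul_zero, add_zero]
  apply Finset.sum_congr rfl
  intro j _
  rw [if_neg (by omega), Nat.add_sub_cancel, Nat.add_sub_cancel]

/-- γ-coordinates in terms of λ-coordinates -/
noncomputable def toLam : Op σ →ₐ[ℤ] Op σ :=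
  MvPolynomial.aeval fun p : σ × ℕ =>
    ∑ j ∈ range (p.2 + 1), (Nat.choose p.2 j : Op σ) * MvPolynomial.X (p.1, j)

lemma ev_toLam (x : σ → A) (G : Op σ) : ev x (toLam G) = evγ x G := by
  unfold toLam
  rw [MvPolynomial.comp_aeval_apply]
  unfold evγ
  congr 2
  funext p
  rw [gamma_succ, map_sum]
  apply Finset.sum_congr rfl
  intro j _
  rw [map_mul, map_natCast, ev_X]

lemma exists_toGam_X (s : σ) (j : ℕ) :
    ∃ L : Op σ, ∀ (A : Type v) [CommRing A] [LambdaOps A] (x : σ → A), evγ x L = LambdaOps.lam (j + 1) (x s) := by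
  induction j using Nat.strong_induction_on with
  | _ j ih =>
    choose! L hL using ih
    refine ⟨MvPolynomial.X (s, j) - ∑ l ∈ range j, (Nat.choose j l : Op σ) * L l, ?_⟩
    intro A _ _ x
    rw [map_sub, evγ_X, gamma_succ, Finset.sum_range_succ, Nat.choose_self, Nat.cast_one, one_mul, map_sum]
    have : ∑ l ∈ range j, evγ x ((Nat.choose j l : Op σ) * L l) =
        ∑ l ∈ range j, (Nat.choose j l : A) * LambdaOps.lam (l + 1) (x s) := by
      apply Finset.sum_congr rfl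
      intro l hl
      rw [map_mul, map_natCast, hL l (mem_range.1 hl)]
    rw [this]
    ring

lemma exists_toGam (G : Op σ) :
    ∃ G' : Op σ, ∀ (A : Type v) [CommRing A] [LambdaOps A] (x : σ → A), evγ x G' = ev x G := by
  have h : ∀ p : σ × ℕ, ∃ L : Op σ, ∀ (A : Type v) [CommRing A] [LambdaOps A] (x : σ → A),
      evγ x L = LambdaOps.lam (p.2 + 1) (x p.1) := fun p => exists_toGam_X p.1 p.2
  choose L hL using h
  refine ⟨MvPolynomial.aeval L G, ?_⟩
  intro A _ _ x
  rw [MvPolynomial.comp_aeval_apply]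
  unfold ev
  congr 2
  funext p
  exact hL p A x

end Ev

section IntCast

variable {A : Type v} [CommRing A] [LambdaOps A]

lemma lamSeries_natCast (h1 : ∀ k : ℕ, 2 ≤ k → LambdaOps.lam k (1 : A) = 0) (n : ℕ) :
    lamSeries ((n : ℕ) : A) = (1 + PowerSeries.X) ^ n := by
  induction n with
  | zero => rw [Nat.cast_zero, lamSeries_zero, pow_zero]
  | succ n ih => rw [Nat.cast_succ, lamSeries_add, ih, lamSeries_one h1, pow_succ]

lemma lamSeries_intCast (h1 : ∀ k : ℕ, 2 ≤ k → LambdaOps.lam k (1 : A) = 0) (z : ℤ) :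
    lamSeries ((z : ℤ) : A) = PowerSeries.binomialSeries A z := by
  have hn : ∀ n : ℕ, lamSeries ((n : ℕ) : A) = PowerSeries.binomialSeries A ((n : ℕ) : ℤ) := by
    intro n
    rw [lamSeries_natCast h1, PowerSeries.binomialSeries_nat]
  rcases Int.eq_nat_or_neg z with ⟨n, rfl | rfl⟩
  · rw [Int.cast_natCast, hn]
  · have e1 : lamSeries ((-(n : ℤ) : ℤ) : A) * lamSeries ((n : ℕ) : A) = 1 := by
      rw [← lamSeries_add]; push_cast; rw [neg_add_cancel, lamSeries_zero]
    have e2 : PowerSeries.binomialSeries A (-(n : ℤ)) * PowerSeries.binomialSeries A ((n : ℕ) : ℤ) = 1 := by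
      rw [← PowerSeries.binomialSeries_add, neg_add_cancel, PowerSeries.binomialSeries_zero]
    rw [← hn] at e2
    calc lamSeries ((-(n : ℤ) : ℤ) : A)
        = lamSeries ((-(n : ℤ) : ℤ) : A) *
            (PowerSeries.binomialSeries A (-(n : ℤ)) * lamSeries ((n : ℕ) : A)) := by rw [e2, mul_one]
      _ = (lamSeries ((-(n : ℤ) : ℤ) : A) * lamSeries ((n : ℕ) : A)) *
            PowerSeries.binomialSeries A (-(n : ℤ)) := by ring
      _ = _ := by rw [e1, one_mul]

lemma lam_intCast (h1 : ∀ k : ℕ, 2 ≤ k → LambdaOps.lam k (1 : A) = 0) (z : ℤ) (n : ℕ) :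
    LambdaOps.lam n ((z : ℤ) : A) = ((Ring.choose z n : ℤ) : A) := by
  rw [← coeff_lamSeries, lamSeries_intCast h1, PowerSeries.binomialSeries_coeff, zsmul_eq_mul, mul_one]

end IntCast

section Poly

variable {σ : Type w}

/-- λ-operations of polynomial expressions are polynomial expressions (in every special λ-ring) -/
theorem exists_lam_poly (hP : ∀ n : ℕ, ∃ P : MvPolynomial (Fin n ⊕ Fin n) ℤ, IsMulPoly n P)
    (hQ : ∀ i j : ℕ, ∃ Q : MvPolynomial (Fin (i * j)) ℤ, IsCompPoly i j Q) (G : Op σ) :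
    ∀ n : ℕ, ∃ G' : Op σ, ∀ (A : Type v) [CommRing A] [LambdaOps A], IsSpecial A → ∀ x : σ → A,
      ev x G' = LambdaOps.lam n (ev x G) := by
  induction G using MvPolynomial.induction_on with
  | C z =>
    intro n
    refine ⟨MvPolynomial.C (Ring.choose z n), ?_⟩
    intro A _ _ hA x
    rw [ev_C, ev_C, lam_intCast hA.lam_one_eq_zero]
  | add p q hp hq =>
    intro n
    choose Gp hGp using hp
    choose Gq hGq using hq
    refine ⟨∑ i ∈ range (n + 1), Gp i * Gq (n - i), ?_⟩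
    intro A _ _ hA x
    rw [map_add, LambdaOps.lam_add, map_sum]
    apply Finset.sum_congr rfl
    intro i _
    rw [map_mul, hGp i A hA x, hGq (n - i) A hA x]
  | mul_X p si hp =>
    intro n
    obtain ⟨s, i⟩ := si
    choose Gp hGp using hp
    obtain ⟨P, hPn⟩ := hP n
    have hQ' : ∀ k : Fin n, ∃ Q : MvPolynomial (Fin ((i + 1) * ((k : ℕ) + 1))) ℤ,
        IsCompPoly (i + 1) ((k : ℕ) + 1) Q := fun k => hQ (i + 1) ((k : ℕ) + 1)
    choose Q hQk using hQ'
    refine ⟨MvPolynomial.aeval (Sum.elim (fun k : Fin n => Gp ((k : ℕ) + 1))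
      (fun k : Fin n => MvPolynomial.rename (fun j : Fin ((i + 1) * ((k : ℕ) + 1)) => (s, (j : ℕ))) (Q k))) P, ?_⟩
    intro A _ _ hA x
    rw [MvPolynomial.comp_aeval_apply, map_mul, ev_X, hA.lam_mul n P hPn]
    congr 2
    funext v
    rcases v with k | k
    · simp only [Sum.elim_inl]
      exact hGp _ A hA x
    · simp only [Sum.elim_inr]
      rw [hA.lam_lam (i + 1) ((k : ℕ) + 1) (Q k) (hQk k), ev, MvPolynomial.aeval_rename]
      rfl

/-- the same in γ-coordinates -/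
theorem exists_lam_polyγ (hP : ∀ n : ℕ, ∃ P : MvPolynomial (Fin n ⊕ Fin n) ℤ, IsMulPoly n P)
    (hQ : ∀ i j : ℕ, ∃ Q : MvPolynomial (Fin (i * j)) ℤ, IsCompPoly i j Q) (G : Op σ) (n : ℕ) :
    ∃ G' : Op σ, ∀ (A : Type v) [CommRing A] [LambdaOps A], IsSpecial A → ∀ x : σ → A,
      evγ x G' = LambdaOps.lam n (evγ x G) := by
  obtain ⟨G₁, h₁⟩ := exists_lam_poly.{v} hP hQ (toLam G) n
  obtain ⟨G₂, h₂⟩ := exists_toGam.{v} G₁
  refine ⟨G₂, ?_⟩
  intro A _ _ hA x
  rw [h₂ A x, h₁ A hA x, ev_toLam]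

end Poly

end Groth.Agent.Helper6.Vp
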