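import Groth.Agent.Lib.Helper6.Vp4
import Mathlib.FieldTheory.IsAlgClosed.AlgebraicClosure
import Mathlib.RingTheory.Polynomial.Vieta
import Mathlib.Algebra.MvPolynomial.Funext
import Mathlib.RingTheory.MvPolynomial.Ideal
import Mathlib.RingTheory.MvPolynomial.Homogeneous
import Mathlib.RingTheory.MvPolynomial.WeightedHomogeneous

/-!
# Detection of polynomial operations on split families; weights (helper6)
-/

universe v w

open Finset

namespace Groth.Agent.Helper6.Vp

section Roots

/-- Every point of affine `N`-space over an algebraically closed field is the family of elementary symmetric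
functions of some `N` elements. -/
lemma exists_roots (𝕜 : Type*) [Field 𝕜] [IsAlgClosed 𝕜] (N : ℕ) (d : Fin N → 𝕜) :
    ∃ r : Fin N → 𝕜, ∀ i : Fin N, ((Finset.univ : Finset (Fin N)).val.map r).esymm ((i : ℕ) + 1) = d i := by
  classical
  set p : Polynomial 𝕜 := ∑ j : Fin N, Polynomial.C (d (Fin.rev j)) * Polynomial.X ^ (j : ℕ) with hp
  have hdeg : p.degree < N := Polynomial.degree_sum_fin_lt _
  set f : Polynomial 𝕜 := Polynomial.X ^ N + p with hf
  have hmonic : f.Monic := Polynomial.monic_X_pow_add hdeg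
  have hnat : f.natDegree = N := by
    rw [hf, Polynomial.natDegree_add_eq_left_of_degree_lt (by rwa [Polynomial.degree_X_pow]),
      Polynomial.natDegree_X_pow]
  have hsplit : f.Splits := IsAlgClosed.splits f
  have hcard : Multiset.card f.roots = N := by rw [← hsplit.natDegree_eq_card_roots, hnat]
  set m : Multiset 𝕜 := f.roots.map Neg.neg with hm
  have hmcard : Multiset.card m = N := by rw [hm, Multiset.card_map, hcard]
  have hfm : f = (m.map fun r => Polynomial.X + Polynomial.C r).prod := by
    conv_lhs => rw [hsplit.eq_prod_roots_of_monic hmonic]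
    rw [hm, Multiset.map_map]
    congr 1
    apply Multiset.map_congr rfl
    intro a _
    simp [sub_eq_add_neg]
  obtain ⟨r, hr⟩ : ∃ r : Fin N → 𝕜, (Finset.univ : Finset (Fin N)).val.map r = m := by
    have hl : m.toList.length = N := by rw [Multiset.length_toList, hmcard]
    refine ⟨fun i => m.toList.get (Fin.cast hl.symm i), ?_⟩
    rw [Fin.univ_val_map]
    have : List.ofFn (fun i : Fin N => m.toList.get (Fin.cast hl.symm i)) = m.toList := by
      apply List.ext_get
      · simp [hl]
      · intro n h1 h2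
        simp
    rw [this, Multiset.coe_toList]
  refine ⟨r, fun i => ?_⟩
  rw [hr]
  have hi := i.2
  have hk : N - ((i : ℕ) + 1) ≤ Multiset.card m := by omega
  have h1 := Multiset.prod_X_add_C_coeff m hk
  rw [← hfm, hmcard] at h1
  have h2 : N - (N - ((i : ℕ) + 1)) = (i : ℕ) + 1 := by omega
  rw [h2] at h1
  rw [← h1, hf, Polynomial.coeff_add, Polynomial.coeff_X_pow, if_neg (by omega), zero_add, hp,
    Polynomial.finsetSum_coeff]
  rw [Finset.sum_eq_single (Fin.rev i)]
  · rw [Polynomial.coeff_C_mul_X_pow, if_pos (by rw [Fin.val_rev]), Fin.rev_rev]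
  · intro j _ hj
    rw [Polynomial.coeff_C_mul_X_pow, if_neg]
    intro h
    apply hj
    apply Fin.ext
    rw [Fin.val_rev, ← h]
  · intro h
    exact absurd (Finset.mem_univ _) h

end Roots

section Detect

variable (σ : Type w)

/-- the split substitution: `X_(s,i) ↦ e_(i+1)` of the `N` variables `(s, a)`, `a : Fin N` -/
noncomputable def T (N : ℕ) : Op σ →ₐ[ℤ] MvPolynomial (σ × Fin N) ℤ :=
  MvPolynomial.aeval fun p : σ × ℕ =>
    MvPolynomial.rename (fun a : Fin N => (p.1, a)) (MvPolynomial.esymm (Fin N) ℤ (p.2 + 1))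

variable {σ}

/-- a bound for the second indices of the variables occurring in `G` -/
noncomputable def bound (G : Op σ) : ℕ := (G.vars.image Prod.snd).sup id + 1

lemma lt_bound {G : Op σ} {p : σ × ℕ} (hp : p ∈ G.vars) : p.2 < bound G := by
  have : p.2 ≤ (G.vars.image Prod.snd).sup id :=
    Finset.le_sup (f := id) (Finset.mem_image_of_mem Prod.snd hp)
  unfold bound
  omega

/-- A non-zero polynomial operation is detected on split families of every large size. -/
theorem T_ne_zero {G : Op σ} (hG : G ≠ 0) (N : ℕ) (hN : bound G ≤ N) : T σ N G ≠ 0 := by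
  classical
  let 𝕜 := AlgebraicClosure ℚ
  have hmap : MvPolynomial.map (Int.castRingHom 𝕜) G ≠ 0 := by
    intro h
    apply hG
    apply MvPolynomial.map_injective (Int.castRingHom 𝕜) Int.cast_injective
    rw [h, map_zero]
  obtain ⟨c, hc⟩ : ∃ c : σ × ℕ → 𝕜, MvPolynomial.eval c (MvPolynomial.map (Int.castRingHom 𝕜) G) ≠ 0 := by
    by_contra hcon
    push Not at hcon
    apply hmap
    apply MvPolynomial.funext
    intro x
    rw [hcon x, map_zero]
  have hr : ∀ s : σ, ∃ r : Fin N → 𝕜, ∀ i : Fin N,
      ((Finset.univ : Finset (Fin N)).val.map r).esymm ((i : ℕ) + 1) = c (s, (i : ℕ)) :=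
    fun s => exists_roots 𝕜 N fun i => c (s, (i : ℕ))
  choose r hr using hr
  intro h0
  apply hc
  have h1 : MvPolynomial.aeval (fun q : σ × Fin N => r q.1 q.2) (T σ N G) = 0 := by rw [h0, map_zero]
  unfold T at h1
  rw [MvPolynomial.comp_aeval_apply] at h1
  rw [MvPolynomial.eval_map, ← h1]
  have e1 : (MvPolynomial.eval₂ (Int.castRingHom 𝕜) c G) =
      MvPolynomial.eval₂Hom (Int.castRingHom 𝕜) c G := rfl
  have e2 : MvPolynomial.aeval (fun p : σ × ℕ => MvPolynomial.aeval (fun q : σ × Fin N => r q.1 q.2)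
      (MvPolynomial.rename (fun a : Fin N => (p.1, a)) (MvPolynomial.esymm (Fin N) ℤ (p.2 + 1)))) G =
      MvPolynomial.eval₂Hom (Int.castRingHom 𝕜) (fun p : σ × ℕ =>
        MvPolynomial.aeval (fun q : σ × Fin N => r q.1 q.2)
          (MvPolynomial.rename (fun a : Fin N => (p.1, a)) (MvPolynomial.esymm (Fin N) ℤ (p.2 + 1)))) G := by
    rw [MvPolynomial.aeval_def, RingHom.ext_int (algebraMap ℤ 𝕜) (Int.castRingHom 𝕜)]
    rfl
  rw [e1, e2]
  apply MvPolynomial.eval₂Hom_congr' rfl _ rfl
  intro p hp _
  have hlt : p.2 < N := lt_of_lt_of_le (lt_bound hp) hN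
  rw [MvPolynomial.aeval_rename, MvPolynomial.aeval_esymm_eq_multiset_esymm]
  have := hr p.1 ⟨p.2, hlt⟩
  simp only at this
  rw [← this]
  rfl

theorem eq_zero_of_T {G : Op σ} (h : ∀ N, T σ N G = 0) : G = 0 := by
  by_contra hG
  exact T_ne_zero hG (bound G) le_rfl (h _)

end Detect

end Groth.Agent.Helper6.Vp
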