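import Groth.Agent.Lib.Helper6.Vp5

/-!
# Weights of polynomial operations read off from split families (helper6)
-/

universe v w

open Finset

namespace Groth.Agent.Helper6.Vp

open LambdaRing Groth.Agent.Helper13.Lam

section Weights

variable (σ : Type w)

/-- the weight of the variable `(s, i)` (standing for `γ^(i+1)(x_s)`) is `i + 1` -/
def wt : σ × ℕ → ℕ := fun p => p.2 + 1

variable {σ}

/-- every monomial of `Q` has weight at least `n` -/
def WtGE (n : ℕ) (Q : Op σ) : Prop :=
  ∀ d ∈ Q.support, n ≤ Finsupp.weight (wt σ) d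

/-- the part of weight `w` -/
noncomputable def wpart (w : ℕ) (Q : Op σ) : Op σ :=
  ∑ d ∈ Q.support with Finsupp.weight (wt σ) d = w, MvPolynomial.monomial d (MvPolynomial.coeff d Q)

theorem esymm_isHomogeneous' (m k : ℕ) : (MvPolynomial.esymm (Fin m) ℤ k).IsHomogeneous k := by
  unfold MvPolynomial.esymm
  refine MvPolynomial.IsHomogeneous.sum _ _ _ fun t ht => ?_
  have h := MvPolynomial.IsHomogeneous.prod t (fun i => (MvPolynomial.X i : MvPolynomial (Fin m) ℤ)) (fun _ => 1)
    (fun i _ => MvPolynomial.isHomogeneous_X ℤ i)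
  have hc : ∑ i ∈ t, 1 = k := by
    rw [Finset.sum_const, smul_eq_mul, mul_one]
    exact (Finset.mem_powersetCard.mp ht).2
  rwa [hc] at h

theorem T_monomial_isHomogeneous (N : ℕ) (d : (σ × ℕ) →₀ ℕ) (r : ℤ) :
    (T σ N (MvPolynomial.monomial d r)).IsHomogeneous (Finsupp.weight (wt σ) d) := by
  rw [T, MvPolynomial.aeval_monomial, Finsupp.weight_apply]
  have h1 : (algebraMap ℤ (MvPolynomial (σ × Fin N) ℤ) r).IsHomogeneous 0 := MvPolynomial.isHomogeneous_C _ r
  have h2 : (d.prod fun p k => MvPolynomial.rename (fun a : Fin N => (p.1, a))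
      (MvPolynomial.esymm (Fin N) ℤ (p.2 + 1)) ^ k).IsHomogeneous (d.sum fun p c => c • wt σ p) := by
    unfold Finsupp.prod Finsupp.sum
    refine MvPolynomial.IsHomogeneous.prod _ _ _ fun p _ => ?_
    have := ((esymm_isHomogeneous' N (p.2 + 1)).rename_isHomogeneous (f := fun a : Fin N => (p.1, a))).pow (d p)
    show (MvPolynomial.rename (fun a : Fin N => (p.1, a)) (MvPolynomial.esymm (Fin N) ℤ (p.2 + 1)) ^ d p).IsHomogeneous
      (d p • wt σ p)
    rwa [smul_eq_mul, mul_comm, wt]
  have := h1.mul h2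
  rwa [zero_add] at this

theorem T_wpart (N w : ℕ) (Q : Op σ) :
    T σ N (wpart w Q) = MvPolynomial.homogeneousComponent w (T σ N Q) := by
  conv_rhs => rw [Q.as_sum, map_sum, map_sum]
  rw [wpart, map_sum, Finset.sum_filter]
  refine Finset.sum_congr rfl fun d _ => ?_
  have h := T_monomial_isHomogeneous N d (MvPolynomial.coeff d Q)
  rw [MvPolynomial.homogeneousComponent_of_mem h]
  by_cases hw : Finsupp.weight (wt σ) d = w
  · rw [if_pos hw, if_pos hw.symm]
  · rw [if_neg hw, if_neg (fun h' => hw h'.symm)]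

/-- If the split evaluations of `Q` lie in the `n`-th power of the ideal of the variables, all monomials of `Q`
have weight at least `n`. -/
theorem wtGE_of_T_mem (n : ℕ) (Q : Op σ)
    (h : ∀ N, T σ N Q ∈ MvPolynomial.idealOfVars (σ × Fin N) ℤ ^ n) : WtGE n Q := by
  intro d₀ hd₀
  by_contra hlt
  rw [not_le] at hlt
  set w₀ := Finsupp.weight (wt σ) d₀ with hw₀
  have h1 : wpart w₀ Q = 0 := by
    apply eq_zero_of_T
    intro N
    rw [T_wpart]
    ext d
    rw [MvPolynomial.coeff_homogeneousComponent, MvPolynomial.coeff_zero]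
    split_ifs with hd
    · exact (MvPolynomial.mem_pow_idealOfVars_iff' n _).mp (h N) d (by rw [hd]; exact hlt)
    · rfl
  have h2 : MvPolynomial.coeff d₀ (wpart w₀ Q) = MvPolynomial.coeff d₀ Q := by
    classical
    rw [wpart, MvPolynomial.coeff_sum]
    simp only [MvPolynomial.coeff_monomial]
    rw [Finset.sum_eq_single d₀]
    · rw [if_pos rfl]
    · intro b _ hb
      rw [if_neg hb]
    · intro hn
      exact absurd (Finset.mem_filter.mpr ⟨hd₀, hw₀.symm⟩) hn
  rw [h1, MvPolynomial.coeff_zero] at h2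
  exact (MvPolynomial.mem_support_iff.mp hd₀) h2.symm

end Weights

section Split

open scoped Groth.Agent.Helper6.Vp

variable (σ : Type w)

/-- the split family of augmentation zero: `x_s = Σ_a (l_(s,a) - 1)` -/
noncomputable def xN (N : ℕ) : σ → MvPolynomial (σ × Fin N) ℤ :=
  fun s => ∑ a : Fin N, (MvPolynomial.X (s, a) - 1)

/-- the shift `l ↦ l - 1` -/
noncomputable def shM (τ : Type v) : MvPolynomial τ ℤ →ₐ[ℤ] MvPolynomial τ ℤ :=
  MvPolynomial.aeval fun a => (MvPolynomial.X a - 1 : MvPolynomial τ ℤ)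

/-- the shift `l ↦ l + 1` -/
noncomputable def shP (τ : Type v) : MvPolynomial τ ℤ →ₐ[ℤ] MvPolynomial τ ℤ :=
  MvPolynomial.aeval fun a => (MvPolynomial.X a + 1 : MvPolynomial τ ℤ)

lemma shP_shM (τ : Type v) (f : MvPolynomial τ ℤ) : shP τ (shM τ f) = f := by
  unfold shM
  rw [MvPolynomial.comp_aeval_apply]
  have : (fun a : τ => shP τ (MvPolynomial.X a - 1 : MvPolynomial τ ℤ)) = MvPolynomial.X := by
    funext a
    unfold shP
    rw [map_sub, MvPolynomial.aeval_X, map_one, add_sub_cancel_right]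
  rw [this, MvPolynomial.aeval_X_left_apply]

lemma map_shP_J (τ : Type v) : Ideal.map (shP τ) (J τ) = MvPolynomial.idealOfVars τ ℤ := by
  unfold J MvPolynomial.idealOfVars
  rw [Ideal.map_span, ← Set.range_comp]
  congr 2
  funext a
  show shP τ (MvPolynomial.X a - 1 : MvPolynomial τ ℤ) = MvPolynomial.X a
  unfold shP
  rw [map_sub, MvPolynomial.aeval_X, map_one, add_sub_cancel_right]

lemma shP_mem (τ : Type v) {f : MvPolynomial τ ℤ} {n : ℕ} (hf : f ∈ J τ ^ n) :
    shP τ f ∈ MvPolynomial.idealOfVars τ ℤ ^ n := by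
  rw [← map_shP_J, ← Ideal.map_pow]
  exact Ideal.mem_map_of_mem _ hf

variable {σ}

lemma gamma_xN (N : ℕ) (s : σ) (i : ℕ) :
    gamma (i + 1) (xN σ N s) =
      shM (σ × Fin N) (MvPolynomial.rename (fun a : Fin N => (s, a)) (MvPolynomial.esymm (Fin N) ℤ (i + 1))) := by
  classical
  rw [← coeff_gammaSeries]
  unfold xN
  rw [gammaSeries_sum]
  have h1 : ∀ a : Fin N, gammaSeries (MvPolynomial.X (s, a) - 1 : MvPolynomial (σ × Fin N) ℤ) =
      1 + PowerSeries.C (MvPolynomial.X (s, a) - 1 : MvPolynomial (σ × Fin N) ℤ) * PowerSeries.X := by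
    intro a
    apply gammaSeries_line_sub_one (isSpecial (σ × Fin N)).lam_one_eq_zero
    intro j hj
    rw [X_eq_monomial]
    exact lam_monomial _ j hj
  rw [Finset.prod_congr rfl fun a _ => h1 a, coeff_prod_one_add, esymm_eq_sum, map_sum, map_sum]
  apply Finset.sum_congr rfl
  intro u _
  rw [map_prod, map_prod]
  apply Finset.prod_congr rfl
  intro a _
  rw [MvPolynomial.rename_X]
  unfold shM
  rw [MvPolynomial.aeval_X]

/-- the evaluation at the split family is the split substitution followed by the shift -/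
theorem evγ_xN (N : ℕ) (G : Op σ) : evγ (xN σ N) G = shM (σ × Fin N) (T σ N G) := by
  unfold evγ T
  rw [MvPolynomial.comp_aeval_apply]
  congr 2
  funext p
  exact gamma_xN N p.1 p.2

/-- Transfer: a polynomial operation whose values on the split families of augmentation zero lie in the `n`-th
power of the augmentation ideal has all its monomials of weight at least `n`. -/
theorem wtGE_of_evγ_mem (n : ℕ) (G : Op σ)
    (h : ∀ N, evγ (xN σ N) G ∈ J (σ × Fin N) ^ n) : WtGE n G := by
  apply wtGE_of_T_mem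
  intro N
  have := shP_mem (σ × Fin N) (h N)
  rwa [evγ_xN, shP_shM] at this

end Split

end Groth.Agent.Helper6.Vp
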