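import Groth.Agent.Lib.Helper6.Vp6

/-!
# The γ-filtration of an augmented λ-ring: basic facts and the transfer from split families (helper6)
-/

universe u v w

open Finset

namespace Groth.Agent.Helper6.Vp

open LambdaRing Groth.Agent.Helper13.Lam

section Fil

variable {K : Type u} {A : Type v} [CommRing K] [CommRing A] [LambdaOps A] (ε : A →+* K)

lemma gen_mem_gammaFil (l : List (ℕ × A)) (hl : ∀ p ∈ l, ε p.2 = 0) (n : ℕ) (hn : n ≤ (l.map Prod.fst).sum) :
    (l.map fun p => gamma p.1 p.2).prod ∈ gammaFil ε n :=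
  Ideal.subset_span ⟨l, hl, hn, rfl⟩

lemma gammaFil_anti {n m : ℕ} (h : n ≤ m) : gammaFil ε m ≤ gammaFil ε n := by
  apply Ideal.span_mono
  rintro y ⟨l, hl, hm, rfl⟩
  exact ⟨l, hl, le_trans h hm, rfl⟩

lemma gammaFil_zero : gammaFil ε 0 = ⊤ := by
  rw [Ideal.eq_top_iff_one]
  have := gen_mem_gammaFil ε [] (by simp) 0 (by simp)
  simpa using this

lemma gamma_mem_gammaFil {x : A} (hx : ε x = 0) (i : ℕ) : gamma i x ∈ gammaFil ε i := by
  have := gen_mem_gammaFil ε [(i, x)] (by simpa using hx) i (by simp)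
  simpa using this

lemma gammaFil_mul_le (p q : ℕ) : gammaFil ε p * gammaFil ε q ≤ gammaFil ε (p + q) := by
  unfold gammaFil
  rw [Ideal.span_mul_span']
  apply Ideal.span_le.2
  rintro y ⟨y₁, ⟨l₁, hl₁, hp, rfl⟩, y₂, ⟨l₂, hl₂, hq, rfl⟩, rfl⟩
  apply Ideal.subset_span
  refine ⟨l₁ ++ l₂, ?_, ?_, ?_⟩
  · intro p hp'
    rcases List.mem_append.1 hp' with h | h
    · exact hl₁ p h
    · exact hl₂ p h
  · rw [List.map_append, List.sum_append]
    exact add_le_add hp hq
  · rw [List.map_append, List.prod_append]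

lemma mul_mem_gammaFil {p q : ℕ} {a b : A} (ha : a ∈ gammaFil ε p) (hb : b ∈ gammaFil ε q) :
    a * b ∈ gammaFil ε (p + q) :=
  gammaFil_mul_le ε p q (Ideal.mul_mem_mul ha hb)

lemma pow_mem_gammaFil {p : ℕ} {a : A} (ha : a ∈ gammaFil ε p) (k : ℕ) : a ^ k ∈ gammaFil ε (k * p) := by
  induction k with
  | zero => rw [zero_mul, gammaFil_zero]; trivial
  | succ k ih =>
    rw [pow_succ, Nat.succ_mul]
    exact mul_mem_gammaFil ε ih ha

lemma prod_mem_gammaFil {ι : Type*} (t : Finset ι) (x : ι → A) (a : ι → ℕ)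
    (h : ∀ i ∈ t, x i ∈ gammaFil ε (a i)) : ∏ i ∈ t, x i ∈ gammaFil ε (∑ i ∈ t, a i) := by
  classical
  induction t using Finset.induction_on with
  | empty => rw [Finset.prod_empty, Finset.sum_empty, gammaFil_zero]; trivial
  | insert s t hs ih =>
    rw [Finset.prod_insert hs, Finset.sum_insert hs]
    exact mul_mem_gammaFil ε (h s (Finset.mem_insert_self s t))
      (ih fun i hi => h i (Finset.mem_insert_of_mem hi))

variable {σ : Type w}

lemma evγ_monomial_mem (x : σ → A) (hx : ∀ s, ε (x s) = 0) (d : (σ × ℕ) →₀ ℕ) (r : ℤ) :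
    evγ x (MvPolynomial.monomial d r) ∈ gammaFil ε (Finsupp.weight (wt σ) d) := by
  unfold evγ
  rw [MvPolynomial.aeval_monomial, Finsupp.weight_apply]
  apply Ideal.mul_mem_left
  unfold Finsupp.prod Finsupp.sum
  refine prod_mem_gammaFil ε _ _ _ fun p _ => ?_
  have := pow_mem_gammaFil ε (gamma_mem_gammaFil ε (hx p.1) (p.2 + 1)) (d p)
  show gamma (p.2 + 1) (x p.1) ^ d p ∈ gammaFil ε (d p • wt σ p)
  rwa [smul_eq_mul]

/-- a polynomial operation all of whose monomials have weight `≥ n` takes values in the `n`-th step of the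
γ-filtration on families of augmentation zero -/
theorem evγ_mem_of_wtGE (x : σ → A) (hx : ∀ s, ε (x s) = 0) {n : ℕ} {Q : Op σ} (hQ : WtGE n Q) :
    evγ x Q ∈ gammaFil ε n := by
  rw [Q.as_sum, map_sum]
  refine Ideal.sum_mem _ fun d hd => ?_
  exact gammaFil_anti ε (hQ d hd) (evγ_monomial_mem ε x hx d _)

end Fil

section Transfer

open scoped Groth.Agent.Helper6.Vp

variable {σ : Type v}

lemma map_shM_idealOfVars (τ : Type v) : Ideal.map (shM τ) (MvPolynomial.idealOfVars τ ℤ) = J τ := by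
  unfold J MvPolynomial.idealOfVars
  rw [Ideal.map_span, ← Set.range_comp]
  congr 2
  funext a
  show shM τ (MvPolynomial.X a : MvPolynomial τ ℤ) = MvPolynomial.X a - 1
  unfold shM
  rw [MvPolynomial.aeval_X]

lemma shM_mem (τ : Type v) {f : MvPolynomial τ ℤ} {n : ℕ} (hf : f ∈ MvPolynomial.idealOfVars τ ℤ ^ n) :
    shM τ f ∈ J τ ^ n := by
  rw [← map_shM_idealOfVars, ← Ideal.map_pow]
  exact Ideal.mem_map_of_mem _ hf

lemma evγ_xN_monomial_mem (N : ℕ) (d : (σ × ℕ) →₀ ℕ) (r : ℤ) :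
    evγ (xN σ N) (MvPolynomial.monomial d r) ∈ J (σ × Fin N) ^ (Finsupp.weight (wt σ) d) := by
  rw [evγ_xN]
  apply shM_mem
  rw [MvPolynomial.mem_pow_idealOfVars_iff]
  intro e he
  have h := T_monomial_isHomogeneous N d r
  have := h (MvPolynomial.mem_support_iff.1 he)
  rw [← this, Finsupp.degree_eq_weight_one]
  rfl

/-- Main transfer: for a γ-monomial `M` of weight `q + 1` in elements of augmentation zero of a special λ-ring,
`λ^(k+1) M ≡ (-1)^k (k+1)^q M` modulo the `(q+2)`-nd step of the γ-filtration. -/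
theorem lam_evγ_monomial_sub_mem (hP : ∀ n : ℕ, ∃ P : MvPolynomial (Fin n ⊕ Fin n) ℤ, IsMulPoly n P)
    (hQ : ∀ i j : ℕ, ∃ Q : MvPolynomial (Fin (i * j)) ℤ, IsCompPoly i j Q)
    {K : Type u} [CommRing K] {A : Type v} [CommRing A] [LambdaOps A] (hA : IsSpecial A) (ε : A →+* K)
    (x : σ → A) (hx : ∀ s, ε (x s) = 0) (d : (σ × ℕ) →₀ ℕ) (q : ℕ) (hd : Finsupp.weight (wt σ) d = q + 1)
    (k : ℕ) :
    LambdaOps.lam (k + 1) (evγ x (MvPolynomial.monomial d 1)) -
      (-1) ^ k * ((k : A) + 1) ^ q * evγ x (MvPolynomial.monomial d 1) ∈ gammaFil ε (q + 2) := by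
  obtain ⟨G', hG'⟩ := exists_lam_polyγ.{v} hP hQ (MvPolynomial.monomial d (1 : ℤ)) (k + 1)
  set G : Op σ := G' - MvPolynomial.C ((-1) ^ k * ((k : ℤ) + 1) ^ q) * MvPolynomial.monomial d 1 with hG
  have hev : ∀ (B : Type v) [CommRing B] [LambdaOps B], IsSpecial B → ∀ y : σ → B,
      evγ y G = LambdaOps.lam (k + 1) (evγ y (MvPolynomial.monomial d 1)) -
        (-1) ^ k * ((k : B) + 1) ^ q * evγ y (MvPolynomial.monomial d 1) := by
    intro B _ _ hB y
    rw [hG, map_sub, map_mul, hG' B hB y, evγ_C]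
    push_cast
    rfl
  have hwt : WtGE (q + 2) G := by
    apply wtGE_of_evγ_mem
    intro N
    rw [hev _ (isSpecial (σ × Fin N))]
    have hmem := evγ_xN_monomial_mem N d 1
    rw [hd] at hmem
    exact lam_sub_mem q _ hmem k
  rw [← hev A hA x]
  exact evγ_mem_of_wtGE ε x hx hwt

end Transfer

end Groth.Agent.Helper6.Vp
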