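import Mathlib.RingTheory.Binomial
import Mathlib.Algebra.MvPolynomial.Equiv
import Mathlib.Algebra.Polynomial.Roots
import Mathlib.Algebra.Polynomial.Smeval

/-!
# Identities between binomial coefficients hold in every binomial ring once they hold for natural numbers (helper6)
-/

universe u

namespace Groth.Agent.Helper6.Vp

section GP

variable {ι : Type*} (e : ι → ℕ)

/-- an integer polynomial in the symbols `C(c, e i)` becomes, after multiplication by a positive integer, an
integer polynomial in `c` -/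
lemma exists_clear_denominators (Φ : MvPolynomial ι ℤ) :
    ∃ (N : ℕ) (g : Polynomial ℤ), N ≠ 0 ∧
      (∀ m : ℕ, (N : ℤ) * MvPolynomial.aeval (fun i => ((Nat.choose m (e i) : ℕ) : ℤ)) Φ = g.eval (m : ℤ)) ∧
      ∀ (K : Type u) [CommRing K] [BinomialRing K] (c : K),
        N • MvPolynomial.aeval (fun i => Ring.choose c (e i)) Φ = Polynomial.aeval c g := by
  induction Φ using MvPolynomial.induction_on with
  | C z =>
    refine ⟨1, Polynomial.C z, one_ne_zero, ?_, ?_⟩
    · intro m
      simp
    · intro K _ _ c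
      simp
  | add p q hp hq =>
    obtain ⟨N₁, g₁, h₁, hm₁, hK₁⟩ := hp
    obtain ⟨N₂, g₂, h₂, hm₂, hK₂⟩ := hq
    refine ⟨N₁ * N₂, N₂ • g₁ + N₁ • g₂, Nat.mul_ne_zero h₁ h₂, ?_, ?_⟩
    · intro m
      rw [map_add, Polynomial.eval_add, Polynomial.eval_smul, Polynomial.eval_smul, ← hm₁ m, ← hm₂ m]
      push_cast
      simp only [nsmul_eq_mul]
      ring
    · intro K _ _ c
      rw [map_add, map_add, map_nsmul, map_nsmul, ← hK₁ K c, ← hK₂ K c]
      simp only [nsmul_eq_mul]
      push_cast
      ring
  | mul_X p i hp =>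
    obtain ⟨N, g, h, hm, hK⟩ := hp
    refine ⟨N * (e i).factorial, g * descPochhammer ℤ (e i),
      Nat.mul_ne_zero h (Nat.factorial_ne_zero _), ?_, ?_⟩
    · intro m
      rw [map_mul, MvPolynomial.aeval_X, Polynomial.eval_mul, ← hm m]
      have h1 := Ring.descPochhammer_eq_factorial_smul_choose ((m : ℕ) : ℤ) (e i)
      rw [Ring.choose_natCast, ← Polynomial.aeval_eq_smeval, Polynomial.coe_aeval_eq_eval] at h1
      rw [h1]
      push_cast
      simp only [nsmul_eq_mul]
      ring
    · intro K _ _ c
      rw [map_mul, MvPolynomial.aeval_X, map_mul, ← hK K c]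
      have h1 := Ring.descPochhammer_eq_factorial_smul_choose c (e i)
      rw [← Polynomial.aeval_eq_smeval] at h1
      rw [h1]
      simp only [nsmul_eq_mul]
      push_cast
      ring

/-- An integer polynomial identity between binomial coefficients `C(c, k)` which holds for all natural numbers `c`
holds for all elements of all binomial rings. -/
theorem binomial_poly_eq_zero (Φ : MvPolynomial ι ℤ)
    (h : ∀ m : ℕ, MvPolynomial.aeval (fun i => ((Nat.choose m (e i) : ℕ) : ℤ)) Φ = 0)
    (K : Type u) [CommRing K] [BinomialRing K] (c : K) :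
    MvPolynomial.aeval (fun i => Ring.choose c (e i)) Φ = 0 := by
  obtain ⟨N, g, hN, hm, hK⟩ := exists_clear_denominators.{u} e Φ
  have hg : g = 0 := by
    apply Polynomial.eq_zero_of_infinite_isRoot
    apply Set.infinite_of_injective_forall_mem (f := fun m : ℕ => (m : ℤ)) Nat.cast_injective
    intro m
    show g.eval (m : ℤ) = 0
    rw [← hm m, h m, mul_zero]
  have ht := hK K c
  rw [hg, map_zero] at ht
  have _i := BinomialRing.toIsAddTorsionFree (R := K)
  exact (nsmul_right_injective hN) (by simpa using ht)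

end GP

section GPext

variable {ι κ : Type*} (e : ι → ℕ)

lemma aeval_sumElim_eq {S : Type*} [CommRing S] (b : ι → S) (Ψ : MvPolynomial (κ ⊕ ι) ℤ) :
    MvPolynomial.aeval (Sum.elim MvPolynomial.X (fun i => MvPolynomial.C (b i))) Ψ =
      (MvPolynomial.map ((MvPolynomial.aeval b : MvPolynomial ι ℤ →ₐ[ℤ] S) : MvPolynomial ι ℤ →+* S)
        (MvPolynomial.sumRingEquiv ℤ κ ι Ψ) : MvPolynomial κ S) := by
  induction Ψ using MvPolynomial.induction_on with
  | C z =>
    rw [MvPolynomial.aeval_C, MvPolynomial.sumRingEquiv_C, MvPolynomial.map_C]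
    simp
  | add p q hp hq => rw [map_add, map_add, map_add, hp, hq]
  | mul_X p i hp =>
    rw [map_mul, map_mul, map_mul, hp, MvPolynomial.aeval_X]
    rcases i with k | i
    · rw [MvPolynomial.sumRingEquiv_X_inl, MvPolynomial.map_X, Sum.elim_inl]
    · rw [MvPolynomial.sumRingEquiv_X_inr, MvPolynomial.map_C, Sum.elim_inr]
      simp

/-- the same with polynomial coefficients -/
theorem binomial_poly_eq_zero' (Ψ : MvPolynomial (κ ⊕ ι) ℤ)
    (h : ∀ m : ℕ, MvPolynomial.aeval (Sum.elim MvPolynomial.X
      (fun i => MvPolynomial.C (((Nat.choose m (e i) : ℕ) : ℤ)))) Ψ = (0 : MvPolynomial κ ℤ))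
    (K : Type u) [CommRing K] [BinomialRing K] (c : K) :
    MvPolynomial.aeval (Sum.elim MvPolynomial.X (fun i => MvPolynomial.C (Ring.choose c (e i)))) Ψ =
      (0 : MvPolynomial κ K) := by
  rw [aeval_sumElim_eq]
  ext d
  rw [MvPolynomial.coeff_map, MvPolynomial.coeff_zero]
  apply binomial_poly_eq_zero e
  intro m
  have := congrArg (MvPolynomial.coeff d) (h m)
  rwa [aeval_sumElim_eq, MvPolynomial.coeff_map, MvPolynomial.coeff_zero] at this

end GPext

end Groth.Agent.Helper6.Vp
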