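import Groth.Agent.Lib.Helper6.Vp7
import Groth.Agent.Lib.Helper6.Vp8
import Groth.Agent.Lib.Helper13.LamConverse

/-!
# Multiplication by an element of a binomial ring: `λ_t(c u) = λ_t(u)^c` (helper6)
-/

universe u v

open Finset

namespace Groth.Agent.Helper6.Vp

open LambdaRing Groth.Agent.Helper13.Lam

section Theta

/-- the universal polynomial for the coefficient of `t^n` in `(λ_t(u) - 1)^j` -/
noncomputable def Θ (n j : ℕ) : MvPolynomial (Fin n) ℤ :=
  PowerSeries.coeff n ((polyS (fun k : Fin n => (MvPolynomial.X k : MvPolynomial (Fin n) ℤ)) - 1) ^ j)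

lemma map_Θ {S : Type*} [CommRing S] {n : ℕ} (φ : MvPolynomial (Fin n) ℤ →+* S) (j : ℕ) :
    φ (Θ n j) = PowerSeries.coeff n ((polyS (fun k : Fin n => φ (MvPolynomial.X k)) - 1) ^ j) := by
  unfold Θ
  rw [← PowerSeries.coeff_map, map_pow, map_sub, map_one, map_polyS]
  rfl

lemma coeff_sub_one_pow_eq_zero {R : Type*} [CommRing R] (L : PowerSeries R) (hL : PowerSeries.constantCoeff L = 1)
    {n j : ℕ} (h : n < j) : PowerSeries.coeff n ((L - 1) ^ j) = 0 := by
  have h1 : (PowerSeries.X : PowerSeries R) ∣ L - 1 := by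
    rw [PowerSeries.X_dvd_iff, map_sub, hL, map_one, sub_self]
  have h2 : (PowerSeries.X : PowerSeries R) ^ j ∣ (L - 1) ^ j := pow_dvd_pow_of_dvd h1 j
  exact PowerSeries.X_pow_dvd_iff.1 h2 n h

lemma coeff_pow_eq_sum {R : Type*} [CommRing R] (L : PowerSeries R) (hL : PowerSeries.constantCoeff L = 1)
    (n m : ℕ) :
    PowerSeries.coeff n (L ^ m) = ∑ j ∈ range (n + 1), (m.choose j : R) * PowerSeries.coeff n ((L - 1) ^ j) := by
  have h1 : L ^ m = ∑ j ∈ range (m + 1), (L - 1) ^ j * 1 ^ (m - j) * (m.choose j : PowerSeries R) := by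
    conv_lhs => rw [show L = (L - 1) + 1 by ring]
    exact add_pow _ _ _
  rw [h1, map_sum]
  have h2 : ∀ j, PowerSeries.coeff n ((L - 1) ^ j * 1 ^ (m - j) * (m.choose j : PowerSeries R)) =
      (m.choose j : R) * PowerSeries.coeff n ((L - 1) ^ j) := by
    intro j
    rw [one_pow, mul_one, mul_comm, ← map_natCast (PowerSeries.C (R := R)), PowerSeries.coeff_C_mul]
  rw [Finset.sum_congr rfl fun j _ => h2 j]
  have e1 : ∑ j ∈ range (m + 1), (m.choose j : R) * PowerSeries.coeff n ((L - 1) ^ j) =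
      ∑ j ∈ range (m + n + 1), (m.choose j : R) * PowerSeries.coeff n ((L - 1) ^ j) := by
    apply Finset.sum_subset
    · intro j hj; rw [mem_range] at hj ⊢; omega
    · intro j _ hj
      rw [mem_range, not_lt] at hj
      rw [Nat.choose_eq_zero_of_lt (by omega), Nat.cast_zero, zero_mul]
  have e2 : ∑ j ∈ range (n + 1), (m.choose j : R) * PowerSeries.coeff n ((L - 1) ^ j) =
      ∑ j ∈ range (m + n + 1), (m.choose j : R) * PowerSeries.coeff n ((L - 1) ^ j) := by
    apply Finset.sum_subset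
    · intro j hj; rw [mem_range] at hj ⊢; omega
    · intro j _ hj
      rw [mem_range, not_lt] at hj
      rw [coeff_sub_one_pow_eq_zero L hL (by omega), mul_zero]
  rw [e1, e2]

end Theta

section Nat

open scoped Groth.Agent.Helper6.Vp

lemma lamSeries_mul_natCast {A : Type*} [CommRing A] [LambdaOps A] (x : A) (m : ℕ) :
    lamSeries (x * (m : A)) = lamSeries x ^ m := by
  induction m with
  | zero => rw [Nat.cast_zero, mul_zero, lamSeries_zero, pow_zero]
  | succ m ih => rw [Nat.cast_succ, mul_add, mul_one, lamSeries_add, ih, pow_succ]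

lemma lamSeries_sum_X (n : ℕ) :
    lamSeries (∑ a : Fin n, (MvPolynomial.X a : MvPolynomial (Fin n) ℤ)) =
      polyS (fun k : Fin n => MvPolynomial.esymm (Fin n) ℤ ((k : ℕ) + 1)) := by
  classical
  have h1 : lamSeries (∑ a : Fin n, (MvPolynomial.X a : MvPolynomial (Fin n) ℤ)) =
      ∏ a : Fin n, (1 + PowerSeries.C (MvPolynomial.X a : MvPolynomial (Fin n) ℤ) * PowerSeries.X) := by
    have : ∀ s : Finset (Fin n), lamSeries (∑ a ∈ s, (MvPolynomial.X a : MvPolynomial (Fin n) ℤ)) =
        ∏ a ∈ s, (1 + PowerSeries.C (MvPolynomial.X a : MvPolynomial (Fin n) ℤ) * PowerSeries.X) := by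
      intro s
      induction s using Finset.induction_on with
      | empty => rw [Finset.sum_empty, Finset.prod_empty, lamSeries_zero]
      | insert a s ha ih =>
        rw [Finset.sum_insert ha, Finset.prod_insert ha, lamSeries_add, ih, X_eq_monomial, lamSeries_monomial]
    exact this _
  rw [h1, ← polyS_powersetCard]
  apply polyS_congr
  intro k
  rw [esymm_eq_sum]

/-- the identity for natural numbers -/
lemma aeval_mulPoly_natCast (n : ℕ) (P : MvPolynomial (Fin n ⊕ Fin n) ℤ) (hP : IsMulPoly n P) (m : ℕ) :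
    MvPolynomial.aeval (Sum.elim (fun k : Fin n => (MvPolynomial.X k : MvPolynomial (Fin n) ℤ))
      (fun k : Fin n => MvPolynomial.C (((m.choose ((k : ℕ) + 1) : ℕ) : ℤ)))) P =
      ∑ j ∈ range (n + 1), MvPolynomial.C (((m.choose j : ℕ) : ℤ)) * Θ n j := by
  apply esymm_aeval_injective ℤ n
  set E : MvPolynomial (Fin n) ℤ →ₐ[ℤ] MvPolynomial (Fin n) ℤ :=
    MvPolynomial.aeval (fun k : Fin n => MvPolynomial.esymm (Fin n) ℤ ((k : ℕ) + 1)) with hE
  set x : MvPolynomial (Fin n) ℤ := ∑ a : Fin n, MvPolynomial.X a with hx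
  have hlx : ∀ k : Fin n, LambdaOps.lam ((k : ℕ) + 1) x = MvPolynomial.esymm (Fin n) ℤ ((k : ℕ) + 1) := by
    intro k
    rw [← coeff_lamSeries, hx, lamSeries_sum_X, polyS, PowerSeries.coeff_mk, if_neg (by omega),
      dif_pos (by simp)]
    rfl
  have hlm : ∀ k : Fin n, LambdaOps.lam ((k : ℕ) + 1) ((m : ℕ) : MvPolynomial (Fin n) ℤ) =
      MvPolynomial.C (((m.choose ((k : ℕ) + 1) : ℕ) : ℤ)) := by
    intro k
    have := lam_intCast (A := MvPolynomial (Fin n) ℤ) (isSpecial (Fin n)).lam_one_eq_zero (m : ℤ) ((k : ℕ) + 1)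
    rw [Int.cast_natCast, Ring.choose_natCast] at this
    rw [this]
    simp
  -- left side
  have hL : E (MvPolynomial.aeval (Sum.elim (fun k : Fin n => (MvPolynomial.X k : MvPolynomial (Fin n) ℤ))
      (fun k : Fin n => MvPolynomial.C (((m.choose ((k : ℕ) + 1) : ℕ) : ℤ)))) P) =
      LambdaOps.lam n (x * ((m : ℕ) : MvPolynomial (Fin n) ℤ)) := by
    rw [(isSpecial (Fin n)).lam_mul n P hP, MvPolynomial.comp_aeval_apply]
    congr 2
    funext v
    rcases v with k | k
    · simp only [Sum.elim_inl]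
      rw [hE, MvPolynomial.aeval_X, hlx]
    · simp only [Sum.elim_inr]
      rw [hlm, hE, MvPolynomial.aeval_C]
      rfl
  -- right side
  have hR : E (∑ j ∈ range (n + 1), MvPolynomial.C (((m.choose j : ℕ) : ℤ)) * Θ n j) =
      ∑ j ∈ range (n + 1), ((m.choose j : ℕ) : MvPolynomial (Fin n) ℤ) *
        PowerSeries.coeff n ((lamSeries x - 1) ^ j) := by
    rw [map_sum]
    apply Finset.sum_congr rfl
    intro j _
    have hΘ : E (Θ n j) = PowerSeries.coeff n
        ((polyS (fun k : Fin n => E (MvPolynomial.X k)) - 1) ^ j) :=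
      map_Θ (E : MvPolynomial (Fin n) ℤ →+* MvPolynomial (Fin n) ℤ) j
    have hpoly : polyS (fun k : Fin n => E (MvPolynomial.X k)) = lamSeries x := by
      rw [hx, lamSeries_sum_X]
      apply polyS_congr
      intro k
      rw [hE, MvPolynomial.aeval_X]
    rw [map_mul, hΘ, hpoly]
    congr 1
    rw [hE, MvPolynomial.aeval_C]
    simp
  show E _ = E _
  rw [hL, hR, ← coeff_lamSeries, lamSeries_mul_natCast, coeff_pow_eq_sum _ (constantCoeff_lamSeries x)]

end Nat

section Binomial

variable {K : Type u} [CommRing K] [BinomialRing K]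

/-- the universal polynomial whose vanishing on binomial coefficients is the identity `λ_t(c u) = λ_t(u)^c` -/
noncomputable def Ψ (n : ℕ) (P : MvPolynomial (Fin n ⊕ Fin n) ℤ) : MvPolynomial (Fin n ⊕ ℕ) ℤ :=
  MvPolynomial.rename (Sum.map id (fun k : Fin n => (k : ℕ) + 1)) P -
    ∑ j ∈ range (n + 1), MvPolynomial.X (Sum.inr j) * MvPolynomial.rename Sum.inl (Θ n j)

lemma aeval_Ψ {S : Type*} [CommRing S] (n : ℕ) (P : MvPolynomial (Fin n ⊕ Fin n) ℤ) (b : ℕ → S) :
    MvPolynomial.aeval (Sum.elim (fun k : Fin n => (MvPolynomial.X k : MvPolynomial (Fin n) S))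
        (fun j : ℕ => MvPolynomial.C (b j))) (Ψ n P) =
      MvPolynomial.aeval (Sum.elim (fun k : Fin n => (MvPolynomial.X k : MvPolynomial (Fin n) S))
        (fun k : Fin n => MvPolynomial.C (b ((k : ℕ) + 1)))) P -
      ∑ j ∈ range (n + 1), MvPolynomial.C (b j) *
        MvPolynomial.aeval (fun k : Fin n => (MvPolynomial.X k : MvPolynomial (Fin n) S)) (Θ n j) := by
  unfold Ψ
  rw [map_sub, map_sum, MvPolynomial.aeval_rename]
  congr 1
  · congr 2
    funext v
    rcases v with k | k <;> rfl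
  · apply Finset.sum_congr rfl
    intro j _
    rw [map_mul, MvPolynomial.aeval_X, MvPolynomial.aeval_rename]
    rfl

/-- the universal identity over a binomial ring -/
lemma aeval_mulPoly_choose (n : ℕ) (P : MvPolynomial (Fin n ⊕ Fin n) ℤ) (hP : IsMulPoly n P) (c : K) :
    MvPolynomial.aeval (Sum.elim (fun k : Fin n => (MvPolynomial.X k : MvPolynomial (Fin n) K))
        (fun k : Fin n => MvPolynomial.C (Ring.choose c ((k : ℕ) + 1)))) P =
      ∑ j ∈ range (n + 1), MvPolynomial.C (Ring.choose c j) *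
        MvPolynomial.aeval (fun k : Fin n => (MvPolynomial.X k : MvPolynomial (Fin n) K)) (Θ n j) := by
  have h := binomial_poly_eq_zero'.{u} (ι := ℕ) (κ := Fin n) id (Ψ n P) ?_ K c
  · have h2 := aeval_Ψ n P (fun j => Ring.choose c j)
    simp only [id] at h
    rw [h] at h2
    exact (sub_eq_zero.1 h2.symm)
  · intro m
    have h2 := aeval_Ψ n P (fun j => (((m.choose j : ℕ) : ℤ)))
    simp only [id]
    rw [h2, aeval_mulPoly_natCast n P hP m, sub_eq_zero]
    apply Finset.sum_congr rfl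
    intro j _
    rw [MvPolynomial.aeval_X_left_apply]

lemma agreeBelow_sub_one_pow {R : Type*} [CommRing R] {m : ℕ} {φ ψ : PowerSeries R} (h : AgreeBelow m φ ψ)
    (j : ℕ) : AgreeBelow m ((φ - 1) ^ j) ((ψ - 1) ^ j) := by
  have h1 : AgreeBelow m (φ - 1) (ψ - 1) := by
    intro i hi
    rw [map_sub, map_sub, h i hi]
  induction j with
  | zero => rw [pow_zero, pow_zero]; exact AgreeBelow.refl _ _
  | succ j ih => rw [pow_succ, pow_succ]; exact ih.mul h1

/-- In a special λ-ring which is a λ-algebra over a binomial ring `K`: `λ_t(c u) = λ_t(u)^c` for `c ∈ K`. -/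
theorem lam_mul_algebraMap (hP : ∀ n : ℕ, ∃ P : MvPolynomial (Fin n ⊕ Fin n) ℤ, IsMulPoly n P)
    [LambdaOps K] (hKb : IsBinomial K) {A : Type v} [CommRing A] [LambdaOps A] [Algebra K A]
    (hA : IsSpecial A) (hKA : IsLambdaAlg K A) (c : K) (u : A) (n : ℕ) :
    LambdaOps.lam n (u * algebraMap K A c) =
      ∑ j ∈ range (n + 1), Ring.choose c j • PowerSeries.coeff n ((lamSeries u - 1) ^ j) := by
  obtain ⟨P, hPn⟩ := hP n
  have hc : ∀ k : ℕ, LambdaOps.lam k (algebraMap K A c) = algebraMap K A (Ring.choose c k) := by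
    intro k
    rw [← hKA k c, hKb k c]
  set φ : MvPolynomial (Fin n) K →ₐ[K] A :=
    MvPolynomial.aeval (fun k : Fin n => LambdaOps.lam ((k : ℕ) + 1) u) with hφ
  have hφX : ∀ k : Fin n, φ (MvPolynomial.X k) = LambdaOps.lam ((k : ℕ) + 1) u := fun k => MvPolynomial.aeval_X _ _
  have hφC : ∀ r : K, φ (MvPolynomial.C r) = algebraMap K A r := fun r => MvPolynomial.aeval_C _ _
  have key := congrArg φ (aeval_mulPoly_choose n P hPn c)
  have hL : φ (MvPolynomial.aeval (Sum.elim (fun k : Fin n => (MvPolynomial.X k : MvPolynomial (Fin n) K))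
      (fun k : Fin n => MvPolynomial.C (Ring.choose c ((k : ℕ) + 1)))) P) =
      LambdaOps.lam n (u * algebraMap K A c) := by
    rw [hA.lam_mul n P hPn]
    have := MvPolynomial.comp_aeval_apply (R := ℤ)
      (f := Sum.elim (fun k : Fin n => (MvPolynomial.X k : MvPolynomial (Fin n) K))
        (fun k : Fin n => MvPolynomial.C (Ring.choose c ((k : ℕ) + 1)))) (φ.restrictScalars ℤ) P
    rw [AlgHom.restrictScalars_apply] at this
    rw [this]
    congr 2
    funext v
    rcases v with k | k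
    · simp only [Sum.elim_inl, AlgHom.restrictScalars_apply]
      exact hφX k
    · simp only [Sum.elim_inr, AlgHom.restrictScalars_apply]
      rw [hφC, hc]
  rw [hL] at key
  rw [key, map_sum]
  apply Finset.sum_congr rfl
  intro j _
  rw [map_mul, hφC, Algebra.smul_def]
  congr 1
  set ψ : MvPolynomial (Fin n) ℤ →ₐ[ℤ] A :=
    MvPolynomial.aeval (fun k : Fin n => LambdaOps.lam ((k : ℕ) + 1) u) with hψ
  have h1 : φ (MvPolynomial.aeval (fun k : Fin n => (MvPolynomial.X k : MvPolynomial (Fin n) K)) (Θ n j)) =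
      ψ (Θ n j) := by
    have := MvPolynomial.comp_aeval_apply (R := ℤ)
      (f := fun k : Fin n => (MvPolynomial.X k : MvPolynomial (Fin n) K)) (φ.restrictScalars ℤ) (Θ n j)
    rw [AlgHom.restrictScalars_apply] at this
    rw [this, hψ]
    congr 2
    funext k
    rw [AlgHom.restrictScalars_apply]
    exact hφX k
  have h2 : ψ (Θ n j) = PowerSeries.coeff n ((polyS (fun k : Fin n => ψ (MvPolynomial.X k)) - 1) ^ j) :=
    map_Θ (ψ : MvPolynomial (Fin n) ℤ →+* A) j
  have h4 : (fun k : Fin n => ψ (MvPolynomial.X k)) = fun k : Fin n => LambdaOps.lam ((k : ℕ) + 1) u := by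
    funext k
    rw [hψ, MvPolynomial.aeval_X]
  have h3 : AgreeBelow (n + 1) (polyS fun k : Fin n => LambdaOps.lam ((k : ℕ) + 1) u) (lamSeries u) := by
    have := agreeBelow_polyS_lamSeries (RingHom.id A) n u
    rwa [PowerSeries.map_id] at this
  rw [h1, h2, h4]
  exact agreeBelow_sub_one_pow h3 j n (by omega)

end Binomial

end Groth.Agent.Helper6.Vp
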