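import Groth.Agent.S1233
import Groth.Agent.Lib.Helper1.SH2
import Groth.Agent.Lib.Helper2.WeakAss

/-!
# Weakly associated primes and (strict) henselization

For a local ring `R` with henselization / strict henselization `S` and an `R`-module `N`, the
maximal ideal of `S` is weakly associated to `S ⊗[R] N` iff the maximal ideal of `R` is weakly
associated to `N`.
-/

set_option autoImplicit false
set_option linter.style.haveILetI false

namespace Groth.Agent.Helper6.WAH

open TensorProduct IsLocalRing Polynomial Groth.Agent.Helper1.HFlat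

universe u

/-- the maximal ideal is weakly associated iff some nonzero element is killed by a power of every
non-unit -/
theorem max_mem_weakAss_iff {R : Type u} [CommRing R] [IsLocalRing R] {N : Type u}
    [AddCommGroup N] [Module R N] :
    maximalIdeal R ∈ FlatCA.weakAss R N ↔
      ∃ n : N, n ≠ 0 ∧ ∀ x ∈ maximalIdeal R, ∃ k : ℕ, x ^ k • n = 0 := by
  rw [Groth.Agent.Helper2.WeakAss.mem_weakAss_iff]
  have hone : (1 : R) ∉ maximalIdeal R :=
    (Ideal.ne_top_iff_one _).mp (maximalIdeal.isMaximal R).ne_top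
  constructor
  · rintro ⟨n, h1, h2⟩
    refine ⟨n, ?_, fun x hx => ?_⟩
    · rintro rfl
      exact hone (h1 1 (smul_zero _))
    · obtain ⟨s, hs, k, hk⟩ := h2 x hx
      have hsu : IsUnit s := by
        by_contra h
        exact hs ((mem_maximalIdeal s).mpr h)
      refine ⟨k, ?_⟩
      rw [mul_smul] at hk
      exact (hsu.smul_eq_zero).mp hk
  · rintro ⟨n, hn, h⟩
    refine ⟨n, fun a ha => ?_, fun x hx => ?_⟩
    · by_contra hau
      have hu : IsUnit a := by
        by_contra h'
        exact hau ((mem_maximalIdeal a).mpr h')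
      exact hn ((hu.smul_eq_zero).mp ha)
    · obtain ⟨k, hk⟩ := h x hx
      exact ⟨1, hone, k, by rw [one_mul]; exact hk⟩

theorem weakAss_congr {R : Type u} [CommRing R] {M M' : Type u} [AddCommGroup M] [Module R M]
    [AddCommGroup M'] [Module R M'] (e : M ≃ₗ[R] M') :
    FlatCA.weakAss R M = FlatCA.weakAss R M' := by
  have key : ∀ {M M' : Type u} [AddCommGroup M] [Module R M] [AddCommGroup M'] [Module R M']
      (e : M ≃ₗ[R] M'), FlatCA.weakAss R M ⊆ FlatCA.weakAss R M' := by
    intro M M' _ _ _ _ e p hp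
    obtain ⟨m, hm⟩ := hp
    refine ⟨e m, ?_⟩
    have h : (Submodule.span R {e m}).annihilator = (Submodule.span R {m}).annihilator := by
      ext a
      rw [Submodule.mem_annihilator_span_singleton, Submodule.mem_annihilator_span_singleton,
        ← map_smul, EmbeddingLike.map_eq_zero_iff]
    rw [h]
    exact hm
  exact Set.Subset.antisymm (key e) (key e.symm)

/-- the property: base change along `R → E` preserves and reflects "the maximal ideal is weakly
associated" -/
def WA (R E : Type u) [CommRing R] [IsLocalRing R] [CommRing E] [IsLocalRing E] [Algebra R E] :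
    Prop :=
  ∀ (N : Type u) [AddCommGroup N] [Module R N],
    maximalIdeal E ∈ FlatCA.weakAss E (E ⊗[R] N) ↔ maximalIdeal R ∈ FlatCA.weakAss R N

theorem WA_id (R : Type u) [CommRing R] [IsLocalRing R] :
    @WA R R _ _ _ _ (RingHom.id R).toAlgebra := by
  have e : (RingHom.id R).toAlgebra = Algebra.id R := Algebra.algebra_ext _ _ (fun _ => rfl)
  rw [e]
  intro N _ _
  rw [weakAss_congr (TensorProduct.lid R N)]

theorem WA_trans {R E E' : Type u} [CommRing R] [IsLocalRing R] [CommRing E] [IsLocalRing E]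
    [CommRing E'] [IsLocalRing E'] [Algebra E E'] (f : R →+* E)
    (hf : @WA R E _ _ _ _ f.toAlgebra) (hg : WA E E') :
    @WA R E' _ _ _ _ ((algebraMap E E').comp f).toAlgebra := by
  letI : Algebra R E := f.toAlgebra
  letI : Algebra R E' := ((algebraMap E E').comp f).toAlgebra
  haveI : IsScalarTower R E E' := IsScalarTower.of_algebraMap_eq (fun x => rfl)
  intro N _ _
  rw [← weakAss_congr (TensorProduct.AlgebraTensorModule.cancelBaseChange R E E' E' N)]
  exact (hg (E ⊗[R] N)).trans (hf N)

/-- one step of the towers -/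
theorem WA_Loc {B : Type u} [CommRing B] [IsLocalRing B] {Λ : Type u} [Finite Λ] (p : Λ → B[X])
    {K : Type u} [Field K] (φ : Q p →+* K) (hp : ∀ l, (p l).Monic)
    (hd : ∀ l, (p l).natDegree ≠ 0) [IsLocalHom (algebraMap B (Loc p φ))] : WA B (Loc p φ) := by
  intro N _ _
  haveI : Module.Projective B (Q p) := projective_quotient hp hd
  haveI : Algebra.IsIntegral B (Q p) := isIntegral_Q p hp
  haveI : Algebra.FiniteType B (Q p) :=
    Algebra.FiniteType.of_surjective (Ideal.Quotient.mkₐ B (relIdeal p))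
      (Ideal.Quotient.mkₐ_surjective B _)
  haveI : Module.Finite B (Q p) := Algebra.IsIntegral.finite
  haveI : (maximalIdeal (Loc p φ)).LiesOver (maximalIdeal B) :=
    ⟨(IsLocalRing.maximalIdeal_comap (algebraMap B (Loc p φ))).symm⟩
  exact Groth.Agent.S1233.aux_CD (C := Q p) (D := Loc p φ) (RingHom.ker φ).primeCompl N (maximalIdeal B)
    (maximalIdeal (Loc p φ))

section Towers

variable {R S : Type u} [CommRing R] [IsLocalRing R] [CommRing S] [HenselianLocalRing S]
  {ψ : R →+* S} [IsLocalHom ψ]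

omit [IsLocalHom ψ] in
theorem GoodMap.exists_WA {E : LocRing.{u}} {φ : E.A →+* S} (hg : GoodMap ψ E φ) :
    ∃ f : R →+* E.A, φ.comp f = ψ ∧ @WA R E.A _ _ _ _ f.toAlgebra := by
  induction hg with
  | base => exact ⟨RingHom.id R, RingHom.comp_id _, WA_id R⟩
  | step E φ δ h ih =>
    obtain ⟨f, hf, hWA⟩ := ih
    refine ⟨(algebraMap E.A (Ext1 δ)).comp f, ?_, ?_⟩
    · have h1 : (liftDNext (fun _ : PUnit.{u + 1} => δ) φ).comp (algebraMap E.A (Ext1 δ)) = φ :=
        RingHom.ext (liftDNext_algebraMap _ φ)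
      rw [← RingHom.comp_assoc, h1, hf]
    · exact WA_trans f hWA
        (WA_Loc (dpoly fun _ : PUnit.{u + 1} => δ) (dφ fun _ : PUnit.{u + 1} => δ)
          (dpoly_monic _) (dpoly_natDegree_ne_zero _))

theorem SGoodMap.exists_WA {E : LocRing.{u}} {φ : E.A →+* S} (hg : SGoodMap ψ E φ) :
    ∃ f : R →+* E.A, φ.comp f = ψ ∧ @WA R E.A _ _ _ _ f.toAlgebra := by
  induction hg with
  | base => exact ⟨RingHom.id R, RingHom.comp_id _, WA_id R⟩
  | step E φ δ h ih =>
    obtain ⟨f, hf, hWA⟩ := ih
    haveI : IsLocalHom φ := h.isLocalHom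
    refine ⟨(algebraMap E.A (SExt1 δ)).comp f, ?_, ?_⟩
    · rw [← RingHom.comp_assoc, liftSNext_comp, hf]
    · exact WA_trans f hWA
        (WA_Loc (spoly fun _ : PUnit.{u + 1} => δ) (sψ fun _ : PUnit.{u + 1} => δ)
          (spoly_monic _) (spoly_natDegree_ne_zero _))

end Towers

section Descent

theorem descent_core {R S : Type u} [CommRing R] [IsLocalRing R] [CommRing S] [IsLocalRing S]
    [Algebra R S] {E : Type u} [CommRing E] [IsLocalRing E] (f : R →+* E) (φ : E →+* S)
    (hcomp : φ.comp f = algebraMap R S) [IsLocalHom φ] (hWA : @WA R E _ _ _ _ f.toAlgebra)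
    (hff : letI := φ.toAlgebra; Module.FaithfullyFlat E S)
    (N : Type u) [AddCommGroup N] [Module R N] (y : S ⊗[R] N) (hy0 : y ≠ 0)
    (hy : ∀ z ∈ maximalIdeal S, ∃ k : ℕ, z ^ k • y = 0)
    (t : Finset (S × N)) (ht : y = t.sum fun i => i.1 ⊗ₜ[R] i.2)
    (hmem : ∀ i ∈ t, ∃ e : E, φ e = i.1) :
    maximalIdeal R ∈ FlatCA.weakAss R N := by
  letI : Algebra R E := f.toAlgebra
  letI : Algebra E S := φ.toAlgebra
  haveI : IsScalarTower R E S :=
    IsScalarTower.of_algebraMap_eq (fun r => (RingHom.congr_fun hcomp r).symm)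
  haveI : Module.FaithfullyFlat E S := hff
  rw [← hWA N, max_mem_weakAss_iff]
  obtain ⟨G, hGinj, hGsmul, hGtmul⟩ : ∃ G : E ⊗[R] N →+ S ⊗[R] N, Function.Injective G ∧
      (∀ (e : E) (w : E ⊗[R] N), G (e • w) = φ e • G w) ∧
      (∀ (e : E) (n : N), G (e ⊗ₜ[R] n) = φ e ⊗ₜ[R] n) := by
    refine ⟨((TensorProduct.AlgebraTensorModule.cancelBaseChange R E S S N).toLinearMap.toAddMonoidHom).comp
      (TensorProduct.mk E S (E ⊗[R] N) 1).toAddMonoidHom, ?_, ?_, ?_⟩
    · intro a b hab
      apply Module.FaithfullyFlat.tensorProduct_mk_injective (A := E) (B := S) (E ⊗[R] N)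
      exact (TensorProduct.AlgebraTensorModule.cancelBaseChange R E S S N).injective hab
    · intro e w
      show (TensorProduct.AlgebraTensorModule.cancelBaseChange R E S S N)
          ((1 : S) ⊗ₜ[E] (e • w)) =
        φ e • (TensorProduct.AlgebraTensorModule.cancelBaseChange R E S S N) ((1 : S) ⊗ₜ[E] w)
      have h1 : (1 : S) ⊗ₜ[E] (e • w) = φ e • ((1 : S) ⊗ₜ[E] w) := by
        rw [TensorProduct.smul_tmul', ← TensorProduct.smul_tmul, Algebra.smul_def e (1 : S),
          smul_eq_mul]
        rfl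
      rw [h1, map_smul]
    · intro e n
      show (TensorProduct.AlgebraTensorModule.cancelBaseChange R E S S N)
          ((1 : S) ⊗ₜ[E] (e ⊗ₜ[R] n)) = φ e ⊗ₜ[R] n
      rw [TensorProduct.AlgebraTensorModule.cancelBaseChange_tmul, Algebra.smul_def, mul_one]
      rfl
  choose! g hg using hmem
  have hGw : G (t.sum fun i => g i ⊗ₜ[R] i.2) = y := by
    rw [map_sum, ht]
    refine Finset.sum_congr rfl (fun i hi => ?_)
    rw [hGtmul, hg i hi]
  refine ⟨t.sum fun i => g i ⊗ₜ[R] i.2, ?_, ?_⟩
  · intro h0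
    rw [h0, map_zero] at hGw
    exact hy0 hGw.symm
  · intro x hx
    have hφx : φ x ∈ maximalIdeal S := map_mem_maximalIdeal φ hx
    obtain ⟨k, hk⟩ := hy _ hφx
    refine ⟨k, hGinj ?_⟩
    rw [hGsmul, map_zero, hGw, map_pow]
    exact hk

theorem WA_descent {R S : Type u} [CommRing R] [IsLocalRing R] [CommRing S] [IsLocalRing S]
    [Algebra R S] [Module.FaithfullyFlat R S]
    (hmax : (maximalIdeal R).map (algebraMap R S) = maximalIdeal S)
    (H : ∀ (m : ℕ) (x : Fin m → S), ∃ (E : LocRing.{u}) (f : R →+* E.A) (φ : E.A →+* S),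
      φ.comp f = algebraMap R S ∧ (∀ j, x j ∈ φ.range) ∧ IsLocalHom φ ∧
      @WA R E.A _ _ _ _ f.toAlgebra ∧ (letI := φ.toAlgebra; Module.FaithfullyFlat E.A S)) :
    WA R S := by
  intro N _ _
  constructor
  · intro h
    rw [max_mem_weakAss_iff] at h
    obtain ⟨y, hy0, hy⟩ := h
    classical
    obtain ⟨t, ht⟩ := TensorProduct.exists_finset y
    obtain ⟨E, f, φ, hcomp, hx, hloc, hWA, hff⟩ :=
      H t.card (fun j => ((t.equivFin.symm j : t) : S × N).1)
    have hmem : ∀ i ∈ t, ∃ e : E.A, φ e = i.1 := by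
      intro i hi
      have h1 := hx (t.equivFin ⟨i, hi⟩)
      simp only [Equiv.symm_apply_apply] at h1
      exact h1
    haveI := hloc
    exact descent_core f φ hcomp hWA hff N y hy0 hy t ht hmem
  · intro h
    rw [max_mem_weakAss_iff] at h ⊢
    obtain ⟨n, hn0, hn⟩ := h
    refine ⟨(1 : S) ⊗ₜ[R] n, ?_, ?_⟩
    · intro h0
      apply hn0
      apply Module.FaithfullyFlat.tensorProduct_mk_injective (A := R) (B := S) N
      rw [map_zero]
      exact h0
    · intro z hz
      rw [← hmax] at hz
      have hle : (maximalIdeal R).map (algebraMap R S) ≤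
          ((Submodule.span S {(1 : S) ⊗ₜ[R] n}).annihilator).radical := by
        rw [Ideal.map_le_iff_le_comap]
        intro r hr
        obtain ⟨k, hk⟩ := hn r hr
        rw [Ideal.mem_comap]
        refine ⟨k, ?_⟩
        rw [Submodule.mem_annihilator_span_singleton, ← map_pow, algebraMap_smul,
          ← TensorProduct.tmul_smul, hk, TensorProduct.tmul_zero]
      obtain ⟨k, hk⟩ := hle hz
      exact ⟨k, (Submodule.mem_annihilator_span_singleton _ _).mp hk⟩

end Descent

section Main

variable {R S : Type u} [CommRing R] [IsLocalRing R] [CommRing S] [HenselianLocalRing S]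
  [Algebra R S] [IsLocalHom (algebraMap R S)]

theorem WA_of_isHensHom (hψ : IsHensHom (algebraMap R S)) : WA R S := by
  haveI : Hensel.IsHenselization R S := ⟨inferInstance, hψ.universal⟩
  haveI : Module.FaithfullyFlat R S := faithfullyFlat_of_isHenselization R S
  refine WA_descent hψ.map_maximalIdeal ?_
  intro m x
  obtain ⟨E, φ, hg, hx⟩ := exists_good_fin hψ x
  obtain ⟨f, hf, hWA⟩ := GoodMap.exists_WA hg
  haveI := hg.isLocalHom
  exact ⟨E, f, φ, hf, hx, hg.isLocalHom, hWA, (hg.isHensHom hψ).faithfullyFlat⟩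

theorem WA_of_isSHensHom (hψ : IsSHensHom (algebraMap R S)) : WA R S := by
  haveI : Module.FaithfullyFlat R S := by
    have h := hψ.faithfullyFlat
    have e : (algebraMap R S).toAlgebra = ‹Algebra R S› := Algebra.algebra_ext _ _ (fun _ => rfl)
    rwa [e] at h
  refine WA_descent hψ.map_maximalIdeal ?_
  intro m x
  obtain ⟨E, φ, hg, hx⟩ := exists_sgood_fin hψ x
  obtain ⟨f, hf, hWA⟩ := SGoodMap.exists_WA hg
  haveI := hg.isLocalHom
  exact ⟨E, f, φ, hf, hx, hg.isLocalHom, hWA, (hg.isSHensHom hψ).faithfullyFlat⟩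

end Main

/-- henselization -/
theorem WA_of_isHenselization (R S : Type u) [CommRing R] [IsLocalRing R] [CommRing S]
    [IsLocalRing S] [Algebra R S] [IsLocalHom (algebraMap R S)] [Hensel.IsHenselization R S] :
    WA R S := by
  haveI : HenselianLocalRing S := Hensel.IsHenselization.henselian (R := R)
  exact WA_of_isHensHom (IsHensHom.of_isHenselization R S)

/-- strict henselization -/
theorem WA_of_isStrictHenselization (R S : Type u) [CommRing R] [IsLocalRing R] [CommRing S]
    [IsLocalRing S] [Algebra R S] [IsLocalHom (algebraMap R S)]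
    [Hensel.IsStrictHenselization R S] : WA R S := by
  haveI : HenselianLocalRing S := Hensel.IsStrictHenselization.henselian (R := R)
  exact WA_of_isSHensHom (IsSHensHom.of_isStrictHenselization R S)

end Groth.Agent.Helper6.WAH
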