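import Mathlib
import Groth.Prelude.Def_Hens2
import Groth.Agent.Lib.Helper26.PHQuick1
import Groth.Agent.Lib.Helper1.HPFinEt
import Groth.Agent.Lib.Helper1.HPEquiv
import Groth.Agent.Lib.Helper1.Hensel

/-!
# Weierstrass preparation for the henselization of `R[t]` along `(t)` (helper6), part A

Basic facts: a henselian pair is its own henselization, finite algebras over henselian local rings,
evaluation at `t = 0`, units, and the division theorem for Weierstrass polynomials.
-/

set_option autoImplicit false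

namespace Groth.Agent.Helper6.WeierHens

open Polynomial IsLocalRing
open Groth.Agent.Helper26

universe u

/-- A henselian pair is its own henselization; hence any henselization of it is bijective. -/
theorem self_bij {T : Type u} [CommRing T] (K : Ideal T) [hK : HenselianRing T K] {T' : Type u}
    [CommRing T'] [Algebra T T'] (h : Hens2.IsPairHenselization T K T') :
    Function.Bijective (algebraMap T T') := by
  have hself : Hens2.IsPairHenselization T K T := by
    refine ⟨?_, ?_⟩
    · rw [Algebra.algebraMap_self, Ideal.map_id]; exact hK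
    · intro C _ J f hC hle
      refine ⟨f, ?_, ?_⟩
      · ext x; rfl
      · intro g hg
        rw [← hg]; ext x; rfl
  obtain ⟨e⟩ := PH.nonempty_algEquiv hself h
  have he : (algebraMap T T' : T → T') = e := by
    funext x
    exact (e.commutes x).symm
  rw [he]
  exact e.bijective

theorem henselian_of_finite (R : Type u) [CommRing R] [HenselianLocalRing R] (T : Type u)
    [CommRing T] [Algebra R T] [Module.Finite R T] :
    HenselianRing T ((maximalIdeal R).map (algebraMap R T)) := by
  have hG : Groth.Agent.Helper1.GabberProp R (maximalIdeal R) :=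
    Groth.Agent.Helper1.gabberProp_of_henselianRing
  exact Groth.Agent.Helper1.henselianRing_map_of_isIntegral hG T

theorem henselian_of_le_radical {T : Type*} [CommRing T] {K J : Ideal T} [HenselianRing T K]
    (h : J ≤ K.radical) : HenselianRing T J := by
  have := Groth.Agent.Helper1.henselianRing_radical K
  exact Groth.Agent.Helper1.henselianRing_of_le h

theorem map_algebraMap_eq_map_C {R : Type*} [CommRing R] (m : Ideal R) :
    m.map (algebraMap R R[X]) = m.map (C : R →+* R[X]) := rfl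

/-- Division by a Weierstrass polynomial: `R[t]/(P) → R{t}/(P)` is bijective. -/
theorem weier_poly (R : Type u) [CommRing R] [HenselianLocalRing R] (B : Type u) [CommRing B]
    [Algebra R[X] B] (hB : Hens2.IsPairHenselization R[X] (Ideal.span {(X : R[X])}) B)
    (P : R[X]) (hP : P.Monic)
    (hPm : ∀ i : ℕ, i < P.natDegree → P.coeff i ∈ maximalIdeal R) :
    (∀ b : B, ∃ q : R[X], algebraMap R[X] B q - b ∈ Ideal.span {algebraMap R[X] B P}) ∧
    (∀ q : R[X], algebraMap R[X] B q ∈ Ideal.span {algebraMap R[X] B P} →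
      q ∈ Ideal.span {P}) := by
  set 𝔭 : Ideal R[X] := Ideal.span {P} with h𝔭
  have hmapP : 𝔭.map (algebraMap R[X] B) = Ideal.span {algebraMap R[X] B P} := by
    rw [h𝔭, Ideal.map_span, Set.image_singleton]
  have hfin : Module.Finite R (R[X] ⧸ 𝔭) := hP.finite_adjoinRoot
  have h1 : HenselianRing (R[X] ⧸ 𝔭) ((maximalIdeal R).map (algebraMap R (R[X] ⧸ 𝔭))) :=
    henselian_of_finite R (R[X] ⧸ 𝔭)
  have hXd : (Ideal.Quotient.mk 𝔭 X) ^ P.natDegree ∈
      (maximalIdeal R).map (algebraMap R (R[X] ⧸ 𝔭)) := by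
    have h0 : Ideal.Quotient.mk 𝔭 (X ^ P.natDegree +
        ∑ i ∈ Finset.range P.natDegree, C (P.coeff i) * X ^ i) = 0 := by
      rw [← hP.as_sum]
      exact Ideal.Quotient.eq_zero_iff_mem.2 (Ideal.mem_span_singleton_self P)
    rw [map_add, map_pow, map_sum] at h0
    rw [eq_neg_of_add_eq_zero_left h0]
    refine neg_mem (Ideal.sum_mem _ fun i hi => ?_)
    rw [map_mul]
    refine Ideal.mul_mem_right _ _ ?_
    have hc : Ideal.Quotient.mk 𝔭 (C (P.coeff i)) = algebraMap R (R[X] ⧸ 𝔭) (P.coeff i) := rfl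
    rw [hc]
    exact Ideal.mem_map_of_mem (algebraMap R (R[X] ⧸ 𝔭)) (hPm i (Finset.mem_range.1 hi))
  set JD : Ideal (R[X] ⧸ 𝔭) := (Ideal.span {(X : R[X])}).map (Ideal.Quotient.mk 𝔭) with hJD
  have hle : JD ≤ ((maximalIdeal R).map (algebraMap R (R[X] ⧸ 𝔭))).radical := by
    rw [hJD, Ideal.map_span, Set.image_singleton, Ideal.span_le, Set.singleton_subset_iff]
    exact ⟨P.natDegree, hXd⟩
  have h3 : HenselianRing (R[X] ⧸ 𝔭) JD := henselian_of_le_radical hle
  have h4 := PH.isPairHenselization_quotient hB 𝔭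
  have h5 := self_bij JD h4
  constructor
  · intro b
    obtain ⟨d, hd⟩ := h5.2 (Ideal.Quotient.mk _ b)
    obtain ⟨q, rfl⟩ := Ideal.Quotient.mk_surjective d
    refine ⟨q, ?_⟩
    rw [← hmapP]
    have hd' : Ideal.Quotient.mk (𝔭.map (algebraMap R[X] B)) (algebraMap R[X] B q) =
        Ideal.Quotient.mk _ b := hd
    exact Ideal.Quotient.eq.1 hd'
  · intro q hq
    rw [← hmapP] at hq
    have h6 : algebraMap (R[X] ⧸ 𝔭) (B ⧸ 𝔭.map (algebraMap R[X] B)) (Ideal.Quotient.mk 𝔭 q) = 0 := by
      have : Ideal.Quotient.mk (𝔭.map (algebraMap R[X] B)) (algebraMap R[X] B q) = 0 :=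
        Ideal.Quotient.eq_zero_iff_mem.2 hq
      exact this
    have h7 := h5.1 (h6.trans (map_zero _).symm)
    exact Ideal.Quotient.eq_zero_iff_mem.1 h7

section ev0

variable {R : Type u} [CommRing R] {B : Type u} [CommRing B] [Algebra R[X] B]
  (hB : Hens2.IsPairHenselization R[X] (Ideal.span {(X : R[X])}) B)

theorem map_constantCoeff_le :
    (Ideal.span {(X : R[X])}).map (constantCoeff : R[X] →+* R) ≤ ⊥ := by
  rw [Ideal.map_span, Set.image_singleton, Ideal.span_le, Set.singleton_subset_iff]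
  simp

/-- evaluation at `t = 0` on the henselization of `R[t]` along `(t)` -/
noncomputable def ev0 : B →+* R :=
  (hB.2 R ⊥ constantCoeff (PH.henselianRing_bot R) map_constantCoeff_le).exists.choose

theorem ev0_comp : (ev0 hB).comp (algebraMap R[X] B) = constantCoeff :=
  (hB.2 R ⊥ constantCoeff (PH.henselianRing_bot R) map_constantCoeff_le).exists.choose_spec

theorem ev0_algebraMap (q : R[X]) : ev0 hB (algebraMap R[X] B q) = q.coeff 0 := by
  have := RingHom.congr_fun (ev0_comp hB) q
  simpa [constantCoeff_apply] using this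

theorem ev0_t : ev0 hB (algebraMap R[X] B X) = 0 := by
  rw [ev0_algebraMap]; exact coeff_X_zero

theorem ev0_eq_zero_of_mem {j : B}
    (hj : j ∈ (Ideal.span {(X : R[X])}).map (algebraMap R[X] B)) : ev0 hB j = 0 := by
  have hle : (Ideal.span {(X : R[X])}).map (algebraMap R[X] B) ≤ RingHom.ker (ev0 hB) := by
    rw [Ideal.map_span, Set.image_singleton, Ideal.span_le, Set.singleton_subset_iff]
    exact (RingHom.mem_ker).2 (ev0_t hB)
  exact (RingHom.mem_ker).1 (hle hj)

variable [Algebra R B] [IsScalarTower R R[X] B]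

theorem ev0_algebraMap' (r : R) : ev0 hB (algebraMap R B r) = r := by
  rw [IsScalarTower.algebraMap_apply R R[X] B, ev0_algebraMap]
  exact coeff_C_zero

/-- `b ≡ ev0 b` modulo `t`. -/
theorem sub_ev0_mem (b : B) :
    b - algebraMap R B (ev0 hB b) ∈ (Ideal.span {(X : R[X])}).map (algebraMap R[X] B) := by
  obtain ⟨q, hq⟩ := (PH.bij_iff.1 (PH.quotientMap_bijective hB)).2 b
  have h1 : ev0 hB b = q.coeff 0 := by
    have h := ev0_eq_zero_of_mem hB hq
    rw [map_sub, ev0_algebraMap, sub_eq_zero] at h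
    exact h
  have h2 : algebraMap R[X] B q - algebraMap R B (q.coeff 0) ∈
      (Ideal.span {(X : R[X])}).map (algebraMap R[X] B) := by
    rw [IsScalarTower.algebraMap_apply R R[X] B, ← map_sub]
    apply Ideal.mem_map_of_mem
    rw [Ideal.mem_span_singleton]
    refine ⟨q.divX, ?_⟩
    exact sub_eq_of_eq_add (X_mul_divX_add q).symm
  rw [h1]
  have h3 : b - algebraMap R B (q.coeff 0) = (b - algebraMap R[X] B q) +
      (algebraMap R[X] B q - algebraMap R B (q.coeff 0)) := by ring
  rw [h3]
  exact Ideal.add_mem _ hq h2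

theorem isUnit_of_isUnit_ev0 {b : B} (h : IsUnit (ev0 hB b)) : IsUnit b := by
  have h1 := sub_ev0_mem hB b
  have h2 : IsUnit (algebraMap R B (ev0 hB b)) := h.map _
  have h3 := Groth.Agent.Helper1.isUnit_add_of_mem_jacobson h2 (hB.1.jac h1)
  rwa [add_sub_cancel] at h3

theorem ev0_mem_of_mem [IsLocalRing R] {μ : B}
    (hμ : μ ∈ (maximalIdeal R).map (algebraMap R B)) : ev0 hB μ ∈ maximalIdeal R := by
  have hle : (maximalIdeal R).map (algebraMap R B) ≤ (maximalIdeal R).comap (ev0 hB) := by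
    rw [Ideal.map_le_iff_le_comap]
    intro r hr
    rw [Ideal.mem_comap, Ideal.mem_comap, ev0_algebraMap']
    exact hr
  exact hle hμ

include hB in
theorem isUnit_of_notMem [IsLocalRing R] {b : B}
    (h : b ∉ (maximalIdeal R).map (algebraMap R B) ⊔
      (Ideal.span {(X : R[X])}).map (algebraMap R[X] B)) : IsUnit b := by
  apply isUnit_of_isUnit_ev0 hB
  by_contra hu
  have hm : ev0 hB b ∈ maximalIdeal R := (IsLocalRing.mem_maximalIdeal _).2 hu
  apply h
  have h3 : b = algebraMap R B (ev0 hB b) + (b - algebraMap R B (ev0 hB b)) := by ring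
  rw [h3]
  exact Ideal.add_mem _ (Ideal.mem_sup_left (Ideal.mem_map_of_mem _ hm))
    (Ideal.mem_sup_right (sub_ev0_mem hB b))

include hB in
theorem isUnit_one_sub [IsLocalRing R] {μ : B}
    (hμ : μ ∈ (maximalIdeal R).map (algebraMap R B)) : IsUnit (1 - μ) := by
  apply isUnit_of_isUnit_ev0 hB
  rw [map_sub, map_one]
  exact IsLocalRing.isUnit_one_sub_self_of_mem_nonunits _
    ((IsLocalRing.mem_maximalIdeal _).1 (ev0_mem_of_mem hB hμ))

end ev0

section general

variable {A : Type u} [CommRing A] {I : Ideal A} {B : Type u} [CommRing B] [Algebra A B]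
  (hB : Hens2.IsPairHenselization A I B)

include hB in
theorem exists_nbhd_rep_mod (𝔞 : Ideal A) (b : B) (a₀ : A)
    (h : b - algebraMap A B a₀ ∈ 𝔞.map (algebraMap A B)) :
    ∃ (R' : Type u) (_ : CommRing R') (_ : Algebra A R') (_ : PH.IsNbhd A I R')
      (σ : R' →ₐ[A] B) (x : R'), σ x = b ∧
        x - algebraMap A R' a₀ ∈ 𝔞.map (algebraMap A R') := by
  have h' : b - algebraMap A B a₀ ∈ Submodule.span B ((algebraMap A B) '' (𝔞 : Set A)) := h
  obtain ⟨k, c, g, hsum⟩ := Submodule.mem_span_set'.1 h'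
  choose a ha using fun i => (g i).2
  obtain ⟨R', _, _, hnb, σ, x, hx⟩ := PH.exists_nbhd_rep_fin hB k c
  refine ⟨R', inferInstance, inferInstance, hnb, σ,
    algebraMap A R' a₀ + ∑ i, x i * algebraMap A R' (a i), ?_, ?_⟩
  · have h1 : ∑ i, σ (x i * algebraMap A R' (a i)) = b - algebraMap A B a₀ := by
      rw [← hsum]
      refine Finset.sum_congr rfl fun i _ => ?_
      rw [map_mul, hx, σ.commutes, (ha i).2, smul_eq_mul]
    rw [map_add, map_sum, σ.commutes, h1]; ring
  · rw [add_sub_cancel_left]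
    exact Ideal.sum_mem _ fun i _ => Ideal.mul_mem_left _ _ (Ideal.mem_map_of_mem _ (ha i).1)

include hB in
theorem exists_sub_mem_pow (𝔞 : Ideal A) (n : ℕ) (μ : B) (hμ : μ ∈ 𝔞.map (algebraMap A B)) :
    ∃ a ∈ 𝔞, μ - algebraMap A B a ∈ (I ^ n).map (algebraMap A B) := by
  have hμ' : μ ∈ Submodule.span B ((algebraMap A B) '' (𝔞 : Set A)) := hμ
  refine Submodule.span_induction
    (p := fun μ _ => ∃ a ∈ 𝔞, μ - algebraMap A B a ∈ (I ^ n).map (algebraMap A B))
    ?_ ?_ ?_ ?_ hμ'
  · rintro _ ⟨a, ha, rfl⟩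
    exact ⟨a, ha, by rw [sub_self]; exact Ideal.zero_mem _⟩
  · exact ⟨0, 𝔞.zero_mem, by simp⟩
  · rintro x y _ _ ⟨a, ha, hxa⟩ ⟨a', ha', hya⟩
    refine ⟨a + a', 𝔞.add_mem ha ha', ?_⟩
    have h3 : x + y - algebraMap A B (a + a') =
        (x - algebraMap A B a) + (y - algebraMap A B a') := by
      rw [map_add]; ring
    rw [h3]; exact Ideal.add_mem _ hxa hya
  · rintro c x _ ⟨a, ha, hxa⟩
    obtain ⟨q, hq⟩ := PH.pow_surj hB n c
    refine ⟨q * a, 𝔞.mul_mem_left _ ha, ?_⟩
    have h3 : c • x - algebraMap A B (q * a) = c * (x - algebraMap A B a) +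
        (c - algebraMap A B q) * algebraMap A B a := by
      rw [map_mul, smul_eq_mul]; ring
    rw [h3]
    exact Ideal.add_mem _ (Ideal.mul_mem_left _ _ hxa) (Ideal.mul_mem_right _ _ hq)

end general

end Groth.Agent.Helper6.WeierHens
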