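import Mathlib
import Groth.Prelude.Def_Hens2
import Groth.Agent.Lib.Helper6.WeierHensA
import Groth.Agent.Lib.Helper1.HenselWeier

/-!
# Weierstrass preparation for the henselization of `R[t]` along `(t)` (helper6), part B

Finiteness of `R{t}/(f)` for `f ≡ tⁿ` modulo the maximal ideal, and the resulting factorisation
`f = P · unit` with `P` a Weierstrass polynomial.
-/

set_option autoImplicit false

namespace Groth.Agent.Helper6.WeierHens

open Polynomial IsLocalRing TensorProduct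
open Groth.Agent.Helper26

universe u

/-- If `S = M + 𝔪 S` for the `R`-span `M` of finitely many elements, the closed fibre is finite. -/
theorem finite_fiber_of_span (R : Type*) [CommRing R] [IsLocalRing R] {S : Type*} [CommRing S]
    [Algebra R S] {n : ℕ} (v : Fin n → S)
    (h : ∀ s : S, ∃ c : Fin n → R,
      s - ∑ i, c i • v i ∈ (maximalIdeal R).map (algebraMap R S)) :
    Module.Finite (maximalIdeal R).ResidueField ((maximalIdeal R).Fiber S) := by
  classical
  have hkill : ∀ w ∈ (maximalIdeal R).map (algebraMap R S),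
      (1 : (maximalIdeal R).ResidueField) ⊗ₜ[R] w = 0 := by
    intro w hw
    have hw' : w ∈ (maximalIdeal R • ⊤ : Submodule R S) := by
      rw [Ideal.smul_top_eq_map]; exact hw
    refine Submodule.smul_induction_on hw' ?_ ?_
    · intro r hr s _
      rw [← TensorProduct.smul_tmul, Algebra.smul_def, mul_one,
        Ideal.algebraMap_residueField_eq_zero.2 hr, TensorProduct.zero_tmul]
    · intro x y hx hy
      rw [TensorProduct.tmul_add, hx, hy, add_zero]
  refine ⟨⟨Finset.univ.image fun i => (1 : (maximalIdeal R).ResidueField) ⊗ₜ[R] v i, ?_⟩⟩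
  rw [eq_top_iff]
  rintro z -
  induction z using TensorProduct.induction_on with
  | zero => exact zero_mem _
  | add x y hx hy => exact add_mem hx hy
  | tmul a s =>
    obtain ⟨c, hc⟩ := h s
    have h1 : a ⊗ₜ[R] s = a • ((1 : (maximalIdeal R).ResidueField) ⊗ₜ[R] s) := by
      rw [TensorProduct.smul_tmul', smul_eq_mul, mul_one]
    have h2 : (1 : (maximalIdeal R).ResidueField) ⊗ₜ[R] s =
        ∑ i, (algebraMap R (maximalIdeal R).ResidueField (c i)) •
          ((1 : (maximalIdeal R).ResidueField) ⊗ₜ[R] v i) := by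
      have h3 := hkill _ hc
      rw [TensorProduct.tmul_sub, sub_eq_zero] at h3
      rw [h3, TensorProduct.tmul_sum]
      refine Finset.sum_congr rfl fun i _ => ?_
      rw [TensorProduct.tmul_smul, algebraMap_smul]
    rw [h1, h2]
    refine Submodule.smul_mem _ _ (Submodule.sum_mem _ fun i _ =>
      Submodule.smul_mem _ _ (Submodule.subset_span ?_))
    exact Finset.mem_coe.2 (Finset.mem_image_of_mem _ (Finset.mem_univ i))

/-- Over a henselian local ring, a finite type algebra with finite closed fibre splits off a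
finite part containing the whole closed fibre. -/
theorem exists_idem_finite (R : Type u) [CommRing R] [HenselianLocalRing R] (S : Type u)
    [CommRing S] [Algebra R S] [Algebra.FiniteType R S]
    [Module.Finite (maximalIdeal R).ResidueField ((maximalIdeal R).Fiber S)] :
    ∃ e : S, IsIdempotentElem e ∧ Module.Finite R (S ⧸ Ideal.span ({1 - e} : Set S)) ∧
      (maximalIdeal R).map (algebraMap R S) ⊔ Ideal.span {e} = ⊤ := by
  obtain ⟨e, he, hfin, hq⟩ :=
    Groth.Agent.Helper1.exists_isIdempotentElem_finite_of_finiteType R S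
  refine ⟨e, he, hfin, ?_⟩
  set J : Ideal S := (maximalIdeal R).map (algebraMap R S) with hJ
  by_contra hne
  obtain ⟨M, hM, hle⟩ := Ideal.exists_le_maximal _ hne
  have hMprime := hM.isPrime
  have hJM : J ≤ M := le_sup_left.trans hle
  have heM : Ideal.span {e} ≤ M := le_sup_right.trans hle
  have hMlies : M.LiesOver (maximalIdeal R) :=
    ⟨(maximalIdeal.isMaximal R).eq_of_le (Ideal.comap_ne_top _ hM.ne_top)
      (Ideal.map_le_iff_le_comap.mp hJM)⟩
  have hMqf : Algebra.QuasiFiniteAt R M :=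
    Groth.Agent.Helper1.quasiFiniteAt_of_finite_fiber (maximalIdeal R) M
  set Mbar : Ideal (S ⧸ Ideal.span {e}) := M.map (Ideal.Quotient.mk _) with hMbar
  have hcomap : Mbar.comap (Ideal.Quotient.mk _) = M := by
    rw [hMbar, Ideal.comap_map_of_surjective _ Ideal.Quotient.mk_surjective,
      ← RingHom.ker_eq_comap_bot, Ideal.mk_ker, sup_eq_left.mpr heM]
  have hMbarprime : Mbar.IsPrime :=
    Ideal.map_isPrime_of_surjective Ideal.Quotient.mk_surjective (by rw [Ideal.mk_ker]; exact heM)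
  have hMbarlies : Mbar.LiesOver (maximalIdeal R) := by
    constructor
    have : Mbar.under R = (Mbar.comap (Ideal.Quotient.mk _)).under R := by
      rw [Ideal.under, Ideal.under, Ideal.comap_comap]; rfl
    rw [this, hcomap]
    exact hMlies.over
  have hMbarqf : Algebra.QuasiFiniteAt R Mbar :=
    Algebra.QuasiFiniteAt.of_surjectiveOnStalks M (Ideal.Quotient.mkₐ R _)
      (RingHom.surjectiveOnStalks_of_surjective Ideal.Quotient.mk_surjective) Mbar hcomap.symm
  exact hq Mbar hMbarlies hMbarqf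

theorem exists_low_add {R : Type*} [CommRing R] (q : R[X]) (n : ℕ) :
    ∃ q₂ : R[X], q = ∑ i : Fin n, C (q.coeff i) * X ^ (i : ℕ) + X ^ n * q₂ := by
  have hd : X ^ n ∣ q - ∑ i : Fin n, C (q.coeff i) * X ^ (i : ℕ) := by
    rw [X_pow_dvd_iff]
    intro d hd
    rw [coeff_sub, finsetSum_coeff, sub_eq_zero,
      Finset.sum_eq_single (⟨d, hd⟩ : Fin n)]
    · rw [coeff_C_mul_X_pow]; simp
    · intro i _ hi
      rw [coeff_C_mul_X_pow, if_neg]
      intro h; exact hi (Fin.ext h.symm)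
    · intro h; exact absurd (Finset.mem_univ _) h
  obtain ⟨q₂, hq₂⟩ := hd
  exact ⟨q₂, by rw [← hq₂]; ring⟩

section core

variable (R : Type u) [CommRing R] [HenselianLocalRing R] (B : Type u) [CommRing B] [Algebra R B]
    [Algebra R[X] B] [IsScalarTower R R[X] B]
    (hB : Hens2.IsPairHenselization R[X] (Ideal.span {(X : R[X])}) B)

theorem map_C_map : ((maximalIdeal R).map (C : R →+* R[X])).map (algebraMap R[X] B) =
    (maximalIdeal R).map (algebraMap R B) := by
  rw [Ideal.map_map]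
  congr 1
  exact (IsScalarTower.algebraMap_eq R R[X] B).symm

omit [HenselianLocalRing R] [Algebra R B] [IsScalarTower R R[X] B] in
theorem map_span_X_pow (n : ℕ) : ((Ideal.span {(X : R[X])}) ^ n).map (algebraMap R[X] B) =
    Ideal.span {(algebraMap R[X] B X) ^ n} := by
  rw [Ideal.span_singleton_pow, Ideal.map_span, Set.image_singleton, map_pow]

include hB in
theorem coeff_mem_of_mem (q : R[X]) (n : ℕ)
    (h : algebraMap R[X] B q ∈ (maximalIdeal R).map (algebraMap R B) ⊔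
      Ideal.span {(algebraMap R[X] B X) ^ n}) :
    ∀ i, i < n → q.coeff i ∈ maximalIdeal R := by
  obtain ⟨μ, hμ, z, hz, hsum⟩ := Submodule.mem_sup.1 h
  rw [← map_C_map R B] at hμ
  obtain ⟨a, ha, hμa⟩ := exists_sub_mem_pow hB _ n μ hμ
  have h1 : algebraMap R[X] B (q - a) ∈
      ((Ideal.span {(X : R[X])}) ^ n).map (algebraMap R[X] B) := by
    have h0 : algebraMap R[X] B (q - a) = (μ - algebraMap R[X] B a) + z := by
      rw [map_sub, ← hsum]; ring
    rw [h0]
    refine Ideal.add_mem _ hμa ?_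
    rw [map_span_X_pow]; exact hz
  have h2 := PH.pow_inj hB n (q - a) h1
  rw [Ideal.span_singleton_pow, Ideal.mem_span_singleton, X_pow_dvd_iff] at h2
  intro i hi
  have h3 := h2 i hi
  rw [coeff_sub, sub_eq_zero] at h3
  rw [h3]
  exact Ideal.mem_map_C_iff.1 ha i

include hB in
theorem finite_quotient (f : B) (n : ℕ)
    (hf : f - (algebraMap R[X] B X) ^ n ∈ (maximalIdeal R).map (algebraMap R B)) :
    Module.Finite R (B ⧸ Ideal.span {f}) := by
  classical
  set 𝔞m : Ideal R[X] := (maximalIdeal R).map (C : R →+* R[X]) with h𝔞m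
  have hmB : 𝔞m.map (algebraMap R[X] B) = (maximalIdeal R).map (algebraMap R B) := map_C_map R B
  have hf' : f - algebraMap R[X] B (X ^ n) ∈ 𝔞m.map (algebraMap R[X] B) := by
    rw [hmB, map_pow]; exact hf
  obtain ⟨R', _, _, hnb, σ, f', hσf, hf'm⟩ := exists_nbhd_rep_mod hB 𝔞m f (X ^ n) hf'
  letI algRR' : Algebra R R' := ((algebraMap R[X] R').comp (C : R →+* R[X])).toAlgebra
  haveI : IsScalarTower R R[X] R' := IsScalarTower.of_algebraMap_eq (fun _ => rfl)
  letI algR'B : Algebra R' B := σ.toRingHom.toAlgebra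
  haveI : IsScalarTower R[X] R' B :=
    IsScalarTower.of_algebraMap_eq (fun a => (σ.commutes a).symm)
  haveI := hnb.etale
  haveI : Algebra.FiniteType R R' :=
    Algebra.FiniteType.trans (inferInstance : Algebra.FiniteType R R[X])
      (inferInstance : Algebra.FiniteType R[X] R')
  have hB' := PH.isPairHenselization_of_isNbhd hB R' hnb
  obtain ⟨X', hX'⟩ : ∃ x : R', x = algebraMap R[X] R' X := ⟨_, rfl⟩
  have hI' : (Ideal.span {(X : R[X])}).map (algebraMap R[X] R') = Ideal.span {X'} := by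
    rw [Ideal.map_span, Set.image_singleton, hX']
  have hXpow : ∀ k : ℕ, algebraMap R[X] R' (X ^ k) = X' ^ k := by
    intro k; rw [map_pow, hX']
  have hrep : ∀ x' : R', ∃ q : R[X], x' - algebraMap R[X] R' q ∈ Ideal.span {X' ^ n} := by
    intro x'
    obtain ⟨q, hq⟩ := PH.pow_surj hB n (σ x')
    refine ⟨q, ?_⟩
    have h1 : algebraMap R' B (x' - algebraMap R[X] R' q) ∈
        (((Ideal.span {(X : R[X])}).map (algebraMap R[X] R')) ^ n).map (algebraMap R' B) := by
      rw [← Ideal.map_pow, Ideal.map_map, ← IsScalarTower.algebraMap_eq R[X] R' B, map_sub,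
        ← IsScalarTower.algebraMap_apply R[X] R' B q]
      exact hq
    have h2 := PH.pow_inj hB' n _ h1
    rw [hI', Ideal.span_singleton_pow] at h2
    exact h2
  set 𝔣 : Ideal R' := Ideal.span {f'} with h𝔣
  have hmapS : ∀ y ∈ 𝔞m.map (algebraMap R[X] R'),
      Ideal.Quotient.mk 𝔣 y ∈ (maximalIdeal R).map (algebraMap R (R' ⧸ 𝔣)) := by
    intro y hy
    have h1 : (𝔞m.map (algebraMap R[X] R')).map (Ideal.Quotient.mk 𝔣) =
        (maximalIdeal R).map (algebraMap R (R' ⧸ 𝔣)) := by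
      rw [h𝔞m, Ideal.map_map, Ideal.map_map]; rfl
    rw [← h1]; exact Ideal.mem_map_of_mem _ hy
  have hXn : Ideal.Quotient.mk 𝔣 (X' ^ n) ∈ (maximalIdeal R).map (algebraMap R (R' ⧸ 𝔣)) := by
    have h1 : Ideal.Quotient.mk 𝔣 (X' ^ n) =
        - Ideal.Quotient.mk 𝔣 (f' - algebraMap R[X] R' (X ^ n)) := by
      rw [map_sub, Ideal.Quotient.eq_zero_iff_mem.2 (Ideal.mem_span_singleton_self f'), zero_sub,
        neg_neg, hXpow]
    rw [h1]
    exact neg_mem (hmapS _ hf'm)
  have hspan : ∀ s : R' ⧸ 𝔣, ∃ c : Fin n → R,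
      s - ∑ i, c i • (Ideal.Quotient.mk 𝔣 (X' ^ (i : ℕ))) ∈
        (maximalIdeal R).map (algebraMap R (R' ⧸ 𝔣)) := by
    intro s
    obtain ⟨x', rfl⟩ := Ideal.Quotient.mk_surjective s
    obtain ⟨q, hq⟩ := hrep x'
    obtain ⟨y, hy⟩ := Ideal.mem_span_singleton'.1 hq
    obtain ⟨q₂, hq₂⟩ := exists_low_add q n
    refine ⟨fun i => q.coeff i, ?_⟩
    have h1 : ∑ i : Fin n, q.coeff i • (Ideal.Quotient.mk 𝔣 (X' ^ (i : ℕ))) =
        Ideal.Quotient.mk 𝔣
          (algebraMap R[X] R' (∑ i : Fin n, C (q.coeff i) * X ^ (i : ℕ))) := by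
      simp only [map_sum, map_mul, map_pow, Algebra.smul_def, ← hX']
      rfl
    have h2 : x' - algebraMap R[X] R' (∑ i : Fin n, C (q.coeff i) * X ^ (i : ℕ)) =
        X' ^ n * (y + algebraMap R[X] R' q₂) := by
      have h3 : algebraMap R[X] R' q =
          algebraMap R[X] R' (∑ i : Fin n, C (q.coeff i) * X ^ (i : ℕ)) +
            X' ^ n * algebraMap R[X] R' q₂ := by
        conv_lhs => rw [hq₂]
        rw [map_add, map_mul, hXpow]
      have h4 : x' = algebraMap R[X] R' q + y * X' ^ n := by rw [hy]; ring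
      rw [h4, h3]; ring
    rw [h1, ← map_sub, h2, map_mul]
    exact Ideal.mul_mem_right _ _ hXn
  haveI : Algebra.FiniteType R (R' ⧸ 𝔣) :=
    Algebra.FiniteType.of_surjective (Ideal.Quotient.mkₐ R 𝔣) (Ideal.Quotient.mkₐ_surjective R 𝔣)
  haveI hfib : Module.Finite (maximalIdeal R).ResidueField ((maximalIdeal R).Fiber (R' ⧸ 𝔣)) :=
    finite_fiber_of_span R (fun i : Fin n => Ideal.Quotient.mk 𝔣 (X' ^ (i : ℕ))) hspan
  obtain ⟨e, he, hfinS₁, hsup⟩ := exists_idem_finite R (R' ⧸ 𝔣)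
  set 𝔤 : Ideal B := Ideal.span {f} with h𝔤
  have hσ𝔣 : ∀ a ∈ 𝔣, σ a ∈ 𝔤 := by
    intro a ha
    obtain ⟨c, rfl⟩ := Ideal.mem_span_singleton'.1 ha
    rw [map_mul, hσf]
    exact Ideal.mul_mem_left _ _ (Ideal.mem_span_singleton_self f)
  let τ : (R' ⧸ 𝔣) →+* (B ⧸ 𝔤) :=
    Ideal.Quotient.lift 𝔣 ((Ideal.Quotient.mk 𝔤).comp σ.toRingHom)
      (fun a ha => Ideal.Quotient.eq_zero_iff_mem.2 (hσ𝔣 a ha))
  have hτmk : ∀ x', τ (Ideal.Quotient.mk 𝔣 x') = Ideal.Quotient.mk 𝔤 (σ x') := fun _ => rfl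
  have halgB : ∀ r : R, σ (algebraMap R[X] R' (C r)) = algebraMap R B r := by
    intro r
    rw [σ.commutes]
    exact (IsScalarTower.algebraMap_apply R R[X] B r).symm
  have hτalg : ∀ r : R, τ (algebraMap R (R' ⧸ 𝔣) r) = algebraMap R (B ⧸ 𝔤) r := by
    intro r
    have h1 : algebraMap R (R' ⧸ 𝔣) r = Ideal.Quotient.mk 𝔣 (algebraMap R[X] R' (C r)) := rfl
    rw [h1, hτmk, halgB]
    rfl
  have hτe : τ (1 - e) = 0 := by
    have h1 : (1 : R' ⧸ 𝔣) ∈ (maximalIdeal R).map (algebraMap R (R' ⧸ 𝔣)) ⊔ Ideal.span {e} := by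
      rw [hsup]; trivial
    obtain ⟨μS, hμS, y, hy, hsum⟩ := Submodule.mem_sup.1 h1
    obtain ⟨c, rfl⟩ := Ideal.mem_span_singleton'.1 hy
    have h2 : τ μS ∈ (maximalIdeal R).map (algebraMap R (B ⧸ 𝔤)) := by
      have h0 : ((maximalIdeal R).map (algebraMap R (R' ⧸ 𝔣))).map τ =
          (maximalIdeal R).map (algebraMap R (B ⧸ 𝔤)) := by
        rw [Ideal.map_map]; congr 1; exact RingHom.ext hτalg
      rw [← h0]; exact Ideal.mem_map_of_mem _ hμS
    have h3 : (maximalIdeal R).map (algebraMap R (B ⧸ 𝔤)) =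
        ((maximalIdeal R).map (algebraMap R B)).map (Ideal.Quotient.mk 𝔤) := by
      rw [Ideal.map_map]; rfl
    rw [h3] at h2
    obtain ⟨μB, hμB, hμBeq⟩ :=
      (Ideal.mem_map_iff_of_surjective _ Ideal.Quotient.mk_surjective).1 h2
    have hu : IsUnit (1 - τ μS) := by
      rw [← hμBeq, ← map_one (Ideal.Quotient.mk 𝔤), ← map_sub]
      exact (isUnit_one_sub hB hμB).map _
    have h4 : (1 - τ μS) * τ (1 - e) = 0 := by
      have h5 : τ μS + τ c * τ e = 1 := by rw [← map_mul, ← map_add, hsum, map_one]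
      have h6 : τ e * τ e = τ e := by rw [← map_mul, he.eq]
      rw [map_sub, map_one]
      linear_combination (-(1 - τ e)) * h5 - τ c * h6
    exact (hu.mul_right_eq_zero).1 h4
  let π' : R' →ₐ[R] ((R' ⧸ 𝔣) ⧸ Ideal.span ({1 - e} : Set (R' ⧸ 𝔣))) :=
    (Ideal.Quotient.mkₐ R (Ideal.span ({1 - e} : Set (R' ⧸ 𝔣)))).comp (Ideal.Quotient.mkₐ R 𝔣)
  have hπ' : Function.Surjective π' :=
    (Ideal.Quotient.mkₐ_surjective R _).comp (Ideal.Quotient.mkₐ_surjective R _)
  set 𝔞 : Ideal R' := RingHom.ker π' with h𝔞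
  have hmem𝔞 : ∀ x', x' ∈ 𝔞 →
      Ideal.Quotient.mk 𝔣 x' ∈ Ideal.span ({1 - e} : Set (R' ⧸ 𝔣)) := by
    intro x' hx'
    have h0 : Ideal.Quotient.mk (Ideal.span ({1 - e} : Set (R' ⧸ 𝔣)))
        (Ideal.Quotient.mk 𝔣 x') = 0 := (RingHom.mem_ker).1 hx'
    exact Ideal.Quotient.eq_zero_iff_mem.1 h0
  have h𝔞σ : ∀ x' ∈ 𝔞, σ x' ∈ 𝔤 := by
    intro x' hx'
    obtain ⟨c, hc⟩ := Ideal.mem_span_singleton'.1 (hmem𝔞 x' hx')
    have h0 : Ideal.Quotient.mk 𝔤 (σ x') = 0 := by
      rw [← hτmk, ← hc, map_mul, hτe, mul_zero]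
    exact Ideal.Quotient.eq_zero_iff_mem.1 h0
  have hf'𝔞 : f' ∈ 𝔞 := by
    rw [h𝔞, RingHom.mem_ker]
    show Ideal.Quotient.mk _ (Ideal.Quotient.mk 𝔣 f') = 0
    rw [Ideal.Quotient.eq_zero_iff_mem.2 (Ideal.mem_span_singleton_self f'), map_zero]
  let eT : (R' ⧸ 𝔞) ≃ₐ[R] _ := Ideal.quotientKerAlgEquivOfSurjective hπ'
  haveI : Module.Finite R (R' ⧸ 𝔞) := Module.Finite.equiv eT.symm.toLinearEquiv
  have hT1 : HenselianRing (R' ⧸ 𝔞) ((maximalIdeal R).map (algebraMap R (R' ⧸ 𝔞))) :=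
    henselian_of_finite R (R' ⧸ 𝔞)
  set JT : Ideal (R' ⧸ 𝔞) :=
    ((Ideal.span {(X : R[X])}).map (algebraMap R[X] R')).map (Ideal.Quotient.mk 𝔞) with hJT
  have hXnT : (Ideal.Quotient.mk 𝔞 X') ^ n ∈
      (maximalIdeal R).map (algebraMap R (R' ⧸ 𝔞)) := by
    have h1 : (𝔞m.map (algebraMap R[X] R')).map (Ideal.Quotient.mk 𝔞) =
        (maximalIdeal R).map (algebraMap R (R' ⧸ 𝔞)) := by
      rw [h𝔞m, Ideal.map_map, Ideal.map_map]; rfl
    have h2 : (Ideal.Quotient.mk 𝔞 X') ^ n =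
        - Ideal.Quotient.mk 𝔞 (f' - algebraMap R[X] R' (X ^ n)) := by
      rw [map_sub, Ideal.Quotient.eq_zero_iff_mem.2 hf'𝔞, zero_sub, neg_neg, hXpow, map_pow]
    rw [h2, ← h1]
    exact neg_mem (Ideal.mem_map_of_mem _ hf'm)
  have hleT : JT ≤ ((maximalIdeal R).map (algebraMap R (R' ⧸ 𝔞))).radical := by
    rw [hJT, hI', Ideal.map_span, Set.image_singleton, Ideal.span_le, Set.singleton_subset_iff]
    exact ⟨n, hXnT⟩
  have hT3 : HenselianRing (R' ⧸ 𝔞) JT := henselian_of_le_radical hleT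
  have h4 := PH.isPairHenselization_quotient hB' 𝔞
  have h5 := self_bij JT h4
  have h𝔞B : 𝔞.map (algebraMap R' B) ≤ 𝔤 :=
    Ideal.map_le_iff_le_comap.2 (fun x' hx' => h𝔞σ x' hx')
  let ρ : (R' ⧸ 𝔞) →+* (B ⧸ 𝔤) :=
    Ideal.Quotient.lift 𝔞 ((Ideal.Quotient.mk 𝔤).comp σ.toRingHom)
      (fun a ha => Ideal.Quotient.eq_zero_iff_mem.2 (h𝔞σ a ha))
  have hρsurj : Function.Surjective ρ := by
    intro c
    obtain ⟨b, rfl⟩ := Ideal.Quotient.mk_surjective c
    obtain ⟨d, hd⟩ := h5.2 (Ideal.Quotient.mk _ b)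
    obtain ⟨x', rfl⟩ := Ideal.Quotient.mk_surjective d
    refine ⟨Ideal.Quotient.mk 𝔞 x', ?_⟩
    have hd' : Ideal.Quotient.mk (𝔞.map (algebraMap R' B)) (algebraMap R' B x') =
        Ideal.Quotient.mk _ b := hd
    have h6 : algebraMap R' B x' - b ∈ 𝔤 := h𝔞B (Ideal.Quotient.eq.1 hd')
    show Ideal.Quotient.mk 𝔤 (σ x') = Ideal.Quotient.mk 𝔤 b
    exact Ideal.Quotient.eq.2 h6
  let l : (R' ⧸ 𝔞) →ₗ[R] (B ⧸ 𝔤) :=
    { toFun := ρ
      map_add' := map_add ρ
      map_smul' := by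
        intro r x
        rw [RingHom.id_apply, Algebra.smul_def, Algebra.smul_def, map_mul]
        congr 1
        have h1 : algebraMap R (R' ⧸ 𝔞) r = Ideal.Quotient.mk 𝔞 (algebraMap R[X] R' (C r)) := rfl
        rw [h1]
        show Ideal.Quotient.mk 𝔤 (σ (algebraMap R[X] R' (C r))) = _
        rw [halgB]; rfl }
  exact Module.Finite.of_surjective l hρsurj

end core

end Groth.Agent.Helper6.WeierHens
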