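import Mathlib
import Groth.Prelude.Def_Hens2
import Groth.Agent.Lib.Helper6.WeierHensB

/-!
# Weierstrass preparation for the henselization of `R[t]` along `(t)` (helper6), part C

The factorisation `f = P · unit` for `f ≡ tⁿ`, and `t`-adic separatedness of `R{t}/𝔪`.
-/

set_option autoImplicit false

namespace Groth.Agent.Helper6.WeierHens

open Polynomial IsLocalRing TensorProduct
open Groth.Agent.Helper26

universe u

section core

variable (R : Type u) [CommRing R] [HenselianLocalRing R] (B : Type u) [CommRing B] [Algebra R B]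
    [Algebra R[X] B] [IsScalarTower R R[X] B]
    (hB : Hens2.IsPairHenselization R[X] (Ideal.span {(X : R[X])}) B)

include hB in
theorem exists_weier (f : B) (n : ℕ)
    (hf : f - (algebraMap R[X] B X) ^ n ∈ (maximalIdeal R).map (algebraMap R B)) :
    ∃ P : R[X], P.Monic ∧ P.natDegree = n ∧ (∀ i, i < n → P.coeff i ∈ maximalIdeal R) ∧
      ∃ w : Bˣ, f = algebraMap R[X] B P * (w : B) := by
  classical
  have hfin := finite_quotient R B hB f n hf
  obtain ⟨t, ht⟩ : ∃ x : B, x = algebraMap R[X] B X := ⟨_, rfl⟩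
  rw [← ht] at hf
  set 𝔤 : Ideal B := Ideal.span {f} with h𝔤
  have hmC : ∀ μ ∈ (maximalIdeal R).map (algebraMap R B),
      Ideal.Quotient.mk 𝔤 μ ∈ (maximalIdeal R).map (algebraMap R (B ⧸ 𝔤)) := by
    intro μ hμ
    have h1 : ((maximalIdeal R).map (algebraMap R B)).map (Ideal.Quotient.mk 𝔤) =
        (maximalIdeal R).map (algebraMap R (B ⧸ 𝔤)) := by
      rw [Ideal.map_map]; rfl
    rw [← h1]; exact Ideal.mem_map_of_mem _ hμ
  have htn : Ideal.Quotient.mk 𝔤 (t ^ n) ∈ (maximalIdeal R).map (algebraMap R (B ⧸ 𝔤)) := by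
    have h1 : Ideal.Quotient.mk 𝔤 (t ^ n) = - Ideal.Quotient.mk 𝔤 (f - t ^ n) := by
      rw [map_sub, Ideal.Quotient.eq_zero_iff_mem.2 (Ideal.mem_span_singleton_self f), zero_sub,
        neg_neg]
    rw [h1]; exact neg_mem (hmC _ hf)
  have hlow : ∀ a : Fin n → R,
      Ideal.Quotient.mk 𝔤 (algebraMap R[X] B (∑ i : Fin n, C (a i) * X ^ (i : ℕ))) =
        ∑ i : Fin n, a i • Ideal.Quotient.mk 𝔤 (t ^ (i : ℕ)) := by
    intro a
    rw [map_sum, map_sum]
    refine Finset.sum_congr rfl fun i _ => ?_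
    simp only [map_mul, map_pow]
    rw [← ht, Algebra.smul_def]
    congr 1
    rw [show algebraMap R[X] B (C (a i)) = algebraMap R B (a i) from
      (IsScalarTower.algebraMap_apply R R[X] B (a i)).symm]
    rfl
  have hle : (⊤ : Submodule R (B ⧸ 𝔤)) ≤
      Submodule.span R (Set.range fun i : Fin n => Ideal.Quotient.mk 𝔤 (t ^ (i : ℕ))) ⊔
        maximalIdeal R • ⊤ := by
    intro c _
    obtain ⟨b, rfl⟩ := Ideal.Quotient.mk_surjective c
    obtain ⟨q, hq⟩ := PH.pow_surj hB n b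
    rw [map_span_X_pow, ← ht] at hq
    obtain ⟨y, hy⟩ := Ideal.mem_span_singleton'.1 hq
    obtain ⟨q₂, hq₂⟩ := exists_low_add q n
    have h1 : b = algebraMap R[X] B (∑ i : Fin n, C (q.coeff i) * X ^ (i : ℕ)) +
        t ^ n * (y + algebraMap R[X] B q₂) := by
      have h3 : algebraMap R[X] B q =
          algebraMap R[X] B (∑ i : Fin n, C (q.coeff i) * X ^ (i : ℕ)) +
            t ^ n * algebraMap R[X] B q₂ := by
        conv_lhs => rw [hq₂]
        rw [map_add, map_mul, map_pow, ← ht]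
      have h4 : b = algebraMap R[X] B q + y * t ^ n := by rw [hy]; ring
      rw [h4, h3]; ring
    rw [h1, map_add, hlow]
    refine Submodule.add_mem_sup ?_ ?_
    · exact Submodule.sum_mem _ fun i _ =>
        Submodule.smul_mem _ _ (Submodule.subset_span ⟨i, rfl⟩)
    · rw [Ideal.smul_top_eq_map, Submodule.restrictScalars_mem, map_mul]
      exact Ideal.mul_mem_right _ _ htn
  have htop := Submodule.le_of_le_smul_of_le_jacobson_bot Module.Finite.fg_top
    (IsLocalRing.maximalIdeal_le_jacobson _) hle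
  have htnN : Ideal.Quotient.mk 𝔤 (t ^ n) ∈
      Submodule.span R (Set.range fun i : Fin n => Ideal.Quotient.mk 𝔤 (t ^ (i : ℕ))) :=
    htop trivial
  obtain ⟨a, ha⟩ := (Submodule.mem_span_range_iff_exists_fun R).1 htnN
  obtain ⟨Plow, hPlow⟩ : ∃ p : R[X], p = ∑ i : Fin n, C (a i) * X ^ (i : ℕ) := ⟨_, rfl⟩
  have hdeg : Plow.degree < (n : WithBot ℕ) := by rw [hPlow]; exact degree_sum_fin_lt a
  obtain ⟨P, hP⟩ : ∃ p : R[X], p = X ^ n - Plow := ⟨_, rfl⟩
  have hPmonic : P.Monic := by rw [hP]; exact monic_X_pow_sub hdeg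
  have hPnat : P.natDegree = n := by
    apply natDegree_eq_of_degree_eq_some
    rw [hP, degree_sub_eq_left_of_degree_lt, degree_X_pow]
    rw [degree_X_pow]; exact hdeg
  have halgP : algebraMap R[X] B P ∈ 𝔤 := by
    rw [← Ideal.Quotient.eq_zero_iff_mem, hP, map_sub, map_sub, hPlow, hlow, ha]
    simp only [map_pow]
    rw [← ht, sub_self]
  obtain ⟨w, hw⟩ := Ideal.mem_span_singleton'.1 halgP
  have hPlowB : algebraMap R[X] B Plow = t ^ n * (1 - w) - w * (f - t ^ n) := by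
    have h1 : algebraMap R[X] B P = t ^ n - algebraMap R[X] B Plow := by
      rw [hP, map_sub, map_pow, ← ht]
    rw [← hw] at h1
    linear_combination h1
  have hPlowmem : algebraMap R[X] B Plow ∈ (maximalIdeal R).map (algebraMap R B) ⊔
      Ideal.span {(algebraMap R[X] B X) ^ n} := by
    rw [hPlowB, ← ht]
    exact Ideal.sub_mem _
      (Ideal.mem_sup_right (Ideal.mul_mem_right _ _ (Ideal.mem_span_singleton_self _)))
      (Ideal.mem_sup_left (Ideal.mul_mem_left _ _ hf))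
  have hPlowcoeff : ∀ i, i < n → Plow.coeff i ∈ maximalIdeal R :=
    coeff_mem_of_mem R B hB Plow n hPlowmem
  have hPcoeff : ∀ i, i < n → P.coeff i ∈ maximalIdeal R := by
    intro i hi
    rw [hP, coeff_sub, coeff_X_pow, if_neg (ne_of_lt hi), zero_sub]
    exact neg_mem (hPlowcoeff i hi)
  have hPlow𝔞 : algebraMap R[X] B Plow ∈ (maximalIdeal R).map (algebraMap R B) := by
    rw [← map_C_map R B]
    apply Ideal.mem_map_of_mem
    rw [Ideal.mem_map_C_iff]
    intro k
    by_cases hk : k < n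
    · exact hPlowcoeff k hk
    · rw [coeff_eq_zero_of_degree_lt (lt_of_lt_of_le hdeg (by exact_mod_cast not_lt.1 hk))]
      exact Ideal.zero_mem _
  have hwu : IsUnit w := by
    by_cases h1 : (1 - w) ∈ (maximalIdeal R).map (algebraMap R B) ⊔
        (Ideal.span {(X : R[X])}).map (algebraMap R[X] B)
    · apply isUnit_of_isUnit_ev0 hB
      obtain ⟨μ, hμ, j, hj, hsum⟩ := Submodule.mem_sup.1 h1
      have h2 : ev0 hB w = 1 - ev0 hB μ := by
        have h3 : ev0 hB (1 - w) = ev0 hB μ := by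
          rw [← hsum, map_add, ev0_eq_zero_of_mem hB hj, add_zero]
        rw [map_sub, map_one] at h3
        rw [← h3]; ring
      rw [h2]
      exact IsLocalRing.isUnit_one_sub_self_of_mem_nonunits _
        ((IsLocalRing.mem_maximalIdeal _).1 (ev0_mem_of_mem hB hμ))
    · exfalso
      have hu := isUnit_of_notMem hB h1
      have h2 : t ^ n * (1 - w) ∈ (maximalIdeal R).map (algebraMap R B) := by
        have h0 : t ^ n * (1 - w) = algebraMap R[X] B Plow + w * (f - t ^ n) := by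
          rw [hPlowB]; ring
        rw [h0]
        exact Ideal.add_mem _ hPlow𝔞 (Ideal.mul_mem_left _ _ hf)
      have h3 : t ^ n ∈ (maximalIdeal R).map (algebraMap R B) := by
        obtain ⟨v, hv⟩ := hu.exists_right_inv
        have h0 : t ^ n = (t ^ n * (1 - w)) * v := by rw [mul_assoc, hv, mul_one]
        rw [h0]; exact Ideal.mul_mem_right _ _ h2
      have h4 : algebraMap R[X] B (X ^ n) ∈ (maximalIdeal R).map (algebraMap R B) ⊔
          Ideal.span {(algebraMap R[X] B X) ^ (n + 1)} := by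
        rw [map_pow, ← ht]; exact Ideal.mem_sup_left h3
      have h5 := coeff_mem_of_mem R B hB (X ^ n) (n + 1) h4 n (Nat.lt_succ_self n)
      rw [coeff_X_pow, if_pos rfl] at h5
      exact (Ideal.ne_top_iff_one _).1 (IsLocalRing.maximalIdeal.isMaximal R).ne_top h5
  refine ⟨P, hPmonic, hPnat, hPcoeff, hwu.unit⁻¹, ?_⟩
  have h6 : ((hwu.unit⁻¹ : Bˣ) : B) * w = 1 := hwu.val_inv_mul
  rw [← hw]
  calc f = (((hwu.unit⁻¹ : Bˣ) : B) * w) * f := by rw [h6, one_mul]
    _ = w * f * ((hwu.unit⁻¹ : Bˣ) : B) := by ring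

include hB in
/-- `t`-adic separatedness modulo `𝔪`: an element outside `𝔪 R{t}` is `tⁿ · unit` modulo `𝔪`. -/
theorem exists_pow_mul_unit (f : B) (hf : f ∉ (maximalIdeal R).map (algebraMap R B)) :
    ∃ (n : ℕ) (g : B), IsUnit g ∧
      f - (algebraMap R[X] B X) ^ n * g ∈ (maximalIdeal R).map (algebraMap R B) := by
  classical
  obtain ⟨t, ht⟩ : ∃ x : B, x = algebraMap R[X] B X := ⟨_, rfl⟩
  rw [← ht]
  set 𝔞m : Ideal R[X] := (maximalIdeal R).map (C : R →+* R[X]) with h𝔞m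
  have hmB : 𝔞m.map (algebraMap R[X] B) = (maximalIdeal R).map (algebraMap R B) := map_C_map R B
  -- step 1: `f` is not in all `𝔪 B + tⁿ B`
  have hex : ∃ n : ℕ, f ∉ (maximalIdeal R).map (algebraMap R B) ⊔ Ideal.span {t ^ n} := by
    by_contra hcon
    push Not at hcon
    have hK := PH.isPairHenselization_quotient hB 𝔞m
    set I₀ : Ideal (R[X] ⧸ 𝔞m) := (Ideal.span {(X : R[X])}).map (Ideal.Quotient.mk 𝔞m) with hI₀
    have hfK : ∀ n : ℕ, Ideal.Quotient.mk (𝔞m.map (algebraMap R[X] B)) f ∈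
        (I₀ ^ n).map (algebraMap (R[X] ⧸ 𝔞m) (B ⧸ 𝔞m.map (algebraMap R[X] B))) := by
      intro n
      obtain ⟨μ, hμ, z, hz, hsum⟩ := Submodule.mem_sup.1 (hcon n)
      obtain ⟨c, rfl⟩ := Ideal.mem_span_singleton'.1 hz
      rw [← hsum, map_add, Ideal.Quotient.eq_zero_iff_mem.2 (hmB ▸ hμ), zero_add, map_mul,
        Ideal.map_pow]
      refine Ideal.mul_mem_left _ _ ?_
      rw [map_pow]
      refine Ideal.pow_mem_pow ?_ n
      have h0 : Ideal.Quotient.mk (𝔞m.map (algebraMap R[X] B)) t =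
          algebraMap (R[X] ⧸ 𝔞m) (B ⧸ 𝔞m.map (algebraMap R[X] B))
            (Ideal.Quotient.mk 𝔞m X) := by rw [ht]; rfl
      rw [h0]
      exact Ideal.mem_map_of_mem _ (Ideal.mem_map_of_mem _ (Ideal.mem_span_singleton_self X))
    obtain ⟨R₀, _, _, hnb, σ, x₀, hx₀⟩ :=
      PH.exists_nbhd_rep hK (Ideal.Quotient.mk (𝔞m.map (algebraMap R[X] B)) f)
    letI algR₀K : Algebra R₀ (B ⧸ 𝔞m.map (algebraMap R[X] B)) := σ.toRingHom.toAlgebra
    haveI : IsScalarTower (R[X] ⧸ 𝔞m) R₀ (B ⧸ 𝔞m.map (algebraMap R[X] B)) :=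
      IsScalarTower.of_algebraMap_eq (fun a => (σ.commutes a).symm)
    have hK' := PH.isPairHenselization_of_isNbhd hK R₀ hnb
    have hx₀mem : ∀ n : ℕ, x₀ ∈ (I₀.map (algebraMap (R[X] ⧸ 𝔞m) R₀)) ^ n := by
      intro n
      refine PH.pow_inj hK' n x₀ ?_
      rw [← Ideal.map_pow, Ideal.map_map (algebraMap (R[X] ⧸ 𝔞m) R₀)
          (algebraMap R₀ (B ⧸ 𝔞m.map (algebraMap R[X] B))),
        ← IsScalarTower.algebraMap_eq (R[X] ⧸ 𝔞m) R₀ (B ⧸ 𝔞m.map (algebraMap R[X] B))]
      have h0 : algebraMap R₀ (B ⧸ 𝔞m.map (algebraMap R[X] B)) x₀ = σ x₀ := rfl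
      rw [h0, hx₀]
      exact hfK n
    letI := Ideal.Quotient.field (maximalIdeal R)
    haveI : IsNoetherianRing (R[X] ⧸ 𝔞m) :=
      isNoetherianRing_of_ringEquiv ((R ⧸ maximalIdeal R)[X])
        (Ideal.polynomialQuotientEquivQuotientPolynomial (maximalIdeal R))
    haveI := hnb.etale
    haveI : IsNoetherianRing R₀ := Algebra.FiniteType.isNoetherianRing (R[X] ⧸ 𝔞m) R₀
    have hinf : x₀ ∈ (⨅ i : ℕ, (I₀.map (algebraMap (R[X] ⧸ 𝔞m) R₀)) ^ i • ⊤ : Submodule R₀ R₀) := by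
      rw [Submodule.mem_iInf]
      intro i
      rw [smul_eq_mul, Ideal.mul_top]
      exact hx₀mem i
    obtain ⟨r, hr⟩ := (Ideal.mem_iInf_smul_pow_eq_bot_iff _ x₀).1 hinf
    have hrjac : σ (r : R₀) ∈ Ideal.jacobson (⊥ : Ideal (B ⧸ 𝔞m.map (algebraMap R[X] B))) := by
      apply hK.1.jac
      have h0 : (I₀.map (algebraMap (R[X] ⧸ 𝔞m) R₀)).map
          (algebraMap R₀ (B ⧸ 𝔞m.map (algebraMap R[X] B))) =
          I₀.map (algebraMap (R[X] ⧸ 𝔞m) (B ⧸ 𝔞m.map (algebraMap R[X] B))) := by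
        rw [Ideal.map_map (algebraMap (R[X] ⧸ 𝔞m) R₀)
            (algebraMap R₀ (B ⧸ 𝔞m.map (algebraMap R[X] B))),
          ← IsScalarTower.algebraMap_eq (R[X] ⧸ 𝔞m) R₀ (B ⧸ 𝔞m.map (algebraMap R[X] B))]
      rw [← h0]
      exact Ideal.mem_map_of_mem _ r.2
    have hu := Ideal.mem_jacobson_bot.1 hrjac (-1)
    have hzero : (σ (r : R₀) * (-1) + 1) * Ideal.Quotient.mk (𝔞m.map (algebraMap R[X] B)) f = 0 := by
      rw [← hx₀]
      have h0 : σ (r : R₀) * σ x₀ = σ x₀ := by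
        rw [← map_mul, ← smul_eq_mul, hr]
      linear_combination (-1 : B ⧸ 𝔞m.map (algebraMap R[X] B)) * h0
    have hf0 := (hu.mul_right_eq_zero).1 hzero
    apply hf
    rw [← hmB]
    exact Ideal.Quotient.eq_zero_iff_mem.1 hf0
  -- step 2: minimal such exponent
  have hn0 : Nat.find hex ≠ 0 := by
    intro h0
    have := Nat.find_spec hex
    rw [h0, pow_zero, Ideal.span_singleton_one, sup_top_eq] at this
    exact this trivial
  obtain ⟨k, hk⟩ := Nat.exists_eq_succ_of_ne_zero hn0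
  have hk1 : f ∈ (maximalIdeal R).map (algebraMap R B) ⊔ Ideal.span {t ^ k} := by
    by_contra hcon
    exact Nat.find_min hex (by rw [hk]; exact Nat.lt_succ_self k) hcon
  have hk2 : f ∉ (maximalIdeal R).map (algebraMap R B) ⊔ Ideal.span {t ^ (k + 1)} := by
    have := Nat.find_spec hex
    rwa [hk] at this
  obtain ⟨μ, hμ, z, hz, hsum⟩ := Submodule.mem_sup.1 hk1
  obtain ⟨g, rfl⟩ := Ideal.mem_span_singleton'.1 hz
  refine ⟨k, g, ?_, ?_⟩
  · apply isUnit_of_notMem hB
    intro hg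
    apply hk2
    obtain ⟨μ', hμ', j, hj, hsum'⟩ := Submodule.mem_sup.1 hg
    rw [Ideal.map_span, Set.image_singleton, ← ht] at hj
    obtain ⟨d, rfl⟩ := Ideal.mem_span_singleton'.1 hj
    have h0 : f = (μ + μ' * t ^ k) + d * t ^ (k + 1) := by
      rw [← hsum, ← hsum', pow_succ]; ring
    rw [h0]
    exact Ideal.add_mem _ (Ideal.mem_sup_left (Ideal.add_mem _ hμ (Ideal.mul_mem_right _ _ hμ')))
      (Ideal.mem_sup_right (Ideal.mul_mem_left _ _ (Ideal.mem_span_singleton_self _)))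
  · have h0 : f - t ^ k * g = μ := by rw [← hsum]; ring
    rw [h0]; exact hμ

end core

end Groth.Agent.Helper6.WeierHens
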