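import Mathlib
import Groth.Prelude.Def_Hens2
import Groth.Agent.Lib.Helper6.WeierHensC

/-!
# Weierstrass preparation for the henselization of `R[t]` along `(t)` (helper6), part D

The Weierstrass preparation theorem for `R{t}`.
-/

set_option autoImplicit false

namespace Groth.Agent.Helper6.WeierHens

open Polynomial IsLocalRing
open Groth.Agent.Helper26

universe u

theorem prep_main (R : Type u) [CommRing R]
    [HenselianLocalRing R] (B : Type u) [CommRing B] [Algebra R B] [Algebra R[X] B]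
    [IsScalarTower R R[X] B] (hB : Hens2.IsPairHenselization R[X] (Ideal.span {(X : R[X])}) B)
    (f : B) (hf : f ∉ (IsLocalRing.maximalIdeal R).map (algebraMap R B)) :
    (∃! Pu : R[X] × Bˣ, Pu.1.Monic ∧
        (∀ i : ℕ, i < Pu.1.natDegree → Pu.1.coeff i ∈ IsLocalRing.maximalIdeal R) ∧
        f = algebraMap R[X] B Pu.1 * (Pu.2 : B)) ∧
    (∀ (P : R[X]) (u : Bˣ), P.Monic →
        (∀ i : ℕ, i < P.natDegree → P.coeff i ∈ IsLocalRing.maximalIdeal R) →
        f = algebraMap R[X] B P * (u : B) →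
      (∀ b : B, ∃ q : R[X], algebraMap R[X] B q - b ∈ Ideal.span {f}) ∧
      (∀ q : R[X], algebraMap R[X] B q ∈ Ideal.span {f} → q ∈ Ideal.span {P})) := by
  have hspan : ∀ (P : R[X]) (u : Bˣ), f = algebraMap R[X] B P * (u : B) →
      Ideal.span {f} = Ideal.span {algebraMap R[X] B P} := by
    intro P u h
    rw [h]; exact Ideal.span_singleton_mul_right_unit u.isUnit _
  have hsecond : ∀ (P : R[X]) (u : Bˣ), P.Monic →
      (∀ i : ℕ, i < P.natDegree → P.coeff i ∈ IsLocalRing.maximalIdeal R) →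
      f = algebraMap R[X] B P * (u : B) →
      (∀ b : B, ∃ q : R[X], algebraMap R[X] B q - b ∈ Ideal.span {f}) ∧
      (∀ q : R[X], algebraMap R[X] B q ∈ Ideal.span {f} → q ∈ Ideal.span {P}) := by
    intro P u hP hPm h
    rw [hspan P u h]
    exact weier_poly R B hB P hP hPm
  refine ⟨?_, hsecond⟩
  have huniq : ∀ (P₁ P₂ : R[X]) (u₁ u₂ : Bˣ), P₁.Monic → P₂.Monic →
      (∀ i, i < P₁.natDegree → P₁.coeff i ∈ maximalIdeal R) →
      (∀ i, i < P₂.natDegree → P₂.coeff i ∈ maximalIdeal R) →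
      f = algebraMap R[X] B P₁ * (u₁ : B) → f = algebraMap R[X] B P₂ * (u₂ : B) → P₁ ∣ P₂ := by
    intro P₁ P₂ u₁ u₂ h1 h2 hm1 hm2 hf1 hf2
    have h3 : algebraMap R[X] B P₂ ∈ Ideal.span {algebraMap R[X] B P₁} := by
      rw [← hspan P₁ u₁ hf1, hspan P₂ u₂ hf2]
      exact Ideal.mem_span_singleton_self _
    exact Ideal.mem_span_singleton.1 ((weier_poly R B hB P₁ h1 hm1).2 P₂ h3)
  have hdeg : ∀ (P₁ P₂ : R[X]), P₁.Monic → P₂.Monic → P₁ ∣ P₂ →
      P₁.natDegree ≤ P₂.natDegree := by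
    rintro P₁ P₂ h1 h2 ⟨c, hc⟩
    have hc0 : c ≠ 0 := by
      rintro rfl
      rw [mul_zero] at hc
      exact h2.ne_zero hc
    rw [hc, h1.natDegree_mul' hc0]
    exact Nat.le_add_right _ _
  obtain ⟨n, g, hg, hfg⟩ := exists_pow_mul_unit R B hB f hf
  obtain ⟨ginv, hginv⟩ := hg.exists_right_inv
  have hf2 : f * ginv - (algebraMap R[X] B X) ^ n ∈ (maximalIdeal R).map (algebraMap R B) := by
    have h0 : f * ginv - (algebraMap R[X] B X) ^ n =
        (f - (algebraMap R[X] B X) ^ n * g) * ginv := by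
      linear_combination ((algebraMap R[X] B X) ^ n) * hginv
    rw [h0]; exact Ideal.mul_mem_right _ _ hfg
  obtain ⟨P, hPmonic, hPnat, hPcoeff, w, hw⟩ := exists_weier R B hB (f * ginv) n hf2
  have hPcoeff' : ∀ i, i < P.natDegree → P.coeff i ∈ maximalIdeal R := by
    intro i hi; rw [hPnat] at hi; exact hPcoeff i hi
  have hfP : f = algebraMap R[X] B P * ((w * hg.unit : Bˣ) : B) := by
    rw [Units.val_mul, hg.unit_spec, ← mul_assoc, ← hw, mul_assoc, mul_comm ginv g, hginv,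
      mul_one]
  refine ⟨(P, w * hg.unit), ⟨hPmonic, hPcoeff', hfP⟩, ?_⟩
  rintro ⟨P', u'⟩ ⟨hP'monic, hP'coeff, hfP'⟩
  dsimp only at hP'monic hP'coeff hfP'
  have hd1 : P ∣ P' := huniq P P' _ u' hPmonic hP'monic hPcoeff' hP'coeff hfP hfP'
  have hd2 : P' ∣ P := huniq P' P u' _ hP'monic hPmonic hP'coeff hPcoeff' hfP' hfP
  have hPP' : P' = P :=
    eq_of_monic_of_dvd_of_natDegree_le hPmonic hP'monic hd1 (hdeg P' P hP'monic hPmonic hd2)
  subst hPP'
  have hreg : IsSMulRegular B P' := by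
    haveI := PH.flat hB
    exact Module.Flat.isSMulRegular_of_nonZeroDivisors hPmonic.mem_nonZeroDivisors
  have hu : (u' : B) = ((w * hg.unit : Bˣ) : B) := by
    apply hreg
    show P' • (u' : B) = P' • ((w * hg.unit : Bˣ) : B)
    rw [Algebra.smul_def, Algebra.smul_def, ← hfP', ← hfP]
  rw [Prod.mk.injEq]
  exact ⟨rfl, Units.ext hu⟩

end Groth.Agent.Helper6.WeierHens
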