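import Mathlib
import Groth.Prelude.Def_Hens2
import Groth.Agent.Lib.Helper6.WeierHensC

/-!
# Ideals of `R[t⁻¹]` and of `R{t}[1/t]` away from the special fibre (helper6)
-/

set_option autoImplicit false

namespace Groth.Agent.Helper6.WeierHens

open Polynomial IsLocalRing
open Groth.Agent.Helper26

universe u

theorem reflect_weier (R : Type*) [CommRing R] [IsLocalRing R] (g : R[X]) (N : ℕ)
    (hN : g.natDegree ≤ N) (h0 : g.coeff 0 = 1)
    (hm : ∀ i, 1 ≤ i → g.coeff i ∈ maximalIdeal R) :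
    (reflect N g).Monic ∧ (reflect N g).natDegree = N ∧
      ∀ i, i < N → (reflect N g).coeff i ∈ maximalIdeal R := by
  have hdeg : (reflect N g).natDegree ≤ N :=
    (natDegree_reflect_le).trans (max_le le_rfl hN)
  have hc : (reflect N g).coeff N = 1 := by
    rw [coeff_reflect, revAt_le le_rfl, Nat.sub_self, h0]
  refine ⟨monic_of_natDegree_le_of_coeff_eq_one N hdeg hc, ?_, ?_⟩
  · refine le_antisymm hdeg (le_natDegree_of_ne_zero ?_)
    rw [hc]; exact one_ne_zero
  · intro i hi
    rw [coeff_reflect, revAt_le hi.le]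
    exact hm _ (Nat.sub_pos_of_lt hi)

theorem exists_g_of_sup (R : Type*) [CommRing R] [IsLocalRing R] (I : Ideal R[X])
    (h : I ⊔ (maximalIdeal R).map (algebraMap R R[X]) = ⊤) :
    ∃ g ∈ I, g.coeff 0 = 1 ∧ ∀ i, 1 ≤ i → g.coeff i ∈ maximalIdeal R := by
  have h1 : (1 : R[X]) ∈ I ⊔ (maximalIdeal R).map (algebraMap R R[X]) := by rw [h]; trivial
  obtain ⟨g₀, hg₀, μ, hμ, hsum⟩ := Submodule.mem_sup.1 h1
  rw [map_algebraMap_eq_map_C, Ideal.mem_map_C_iff] at hμ
  have hco : ∀ i, g₀.coeff i + μ.coeff i = (1 : R[X]).coeff i := by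
    intro i; rw [← coeff_add, hsum]
  have hu : IsUnit (g₀.coeff 0) := by
    have h2 : g₀.coeff 0 = 1 - μ.coeff 0 := by
      have := hco 0
      rw [coeff_one_zero] at this
      linear_combination this
    rw [h2]
    exact isUnit_one_sub_self_of_mem_nonunits _ ((mem_maximalIdeal _).1 (hμ 0))
  obtain ⟨v, hv⟩ := hu.exists_left_inv
  refine ⟨C v * g₀, I.mul_mem_left _ hg₀, ?_, ?_⟩
  · rw [coeff_C_mul, hv]
  · intro i hi
    rw [coeff_C_mul]
    have h2 : g₀.coeff i = - μ.coeff i := by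
      have := hco i
      rw [coeff_one, if_neg (by omega)] at this
      linear_combination this
    rw [h2]
    exact Ideal.mul_mem_left _ _ (neg_mem (hμ i))

section laurent

variable (R : Type u) [CommRing R] [HenselianLocalRing R] (B : Type u) [CommRing B] [Algebra R B]
    [Algebra R[X] B] [IsScalarTower R R[X] B]
    (hB : Hens2.IsPairHenselization R[X] (Ideal.span {(X : R[X])}) B)
    (L : Type u) [CommRing L] [Algebra B L] [Algebra R L] [IsScalarTower R B L]
    [IsLocalization.Away (algebraMap R[X] B X) L]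
    (ψ : R[X] →ₐ[R] L) (hψ : ψ X * algebraMap B L (algebraMap R[X] B X) = 1)

omit [HenselianLocalRing R] [IsLocalization.Away (algebraMap R[X] B X) L] in
theorem phi_eq (q : R[X]) : algebraMap B L (algebraMap R[X] B q) =
    eval₂ (algebraMap R L) (algebraMap B L (algebraMap R[X] B X)) q := by
  have h : (algebraMap B L).comp (algebraMap R[X] B) =
      eval₂RingHom (algebraMap R L) (algebraMap B L (algebraMap R[X] B X)) := by
    apply Polynomial.ringHom_ext
    · intro r
      show algebraMap B L (algebraMap R[X] B (C r)) = eval₂ _ _ (C r)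
      rw [eval₂_C, show (C r : R[X]) = algebraMap R R[X] r from rfl,
        ← IsScalarTower.algebraMap_apply R R[X] B, ← IsScalarTower.algebraMap_apply R B L]
    · show algebraMap B L (algebraMap R[X] B X) = eval₂ _ _ X
      rw [eval₂_X]
  exact RingHom.congr_fun h q

omit [HenselianLocalRing R] [Algebra R B] [Algebra R[X] B] [IsScalarTower R R[X] B]
  [Algebra B L] [IsScalarTower R B L] [IsLocalization.Away (algebraMap R[X] B X) L] in
theorem psi_eq (q : R[X]) : ψ q = eval₂ (algebraMap R L) (ψ X) q := by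
  have h : ψ = aeval (ψ X) := Polynomial.algHom_ext (by rw [aeval_X])
  conv_lhs => rw [h]
  rw [aeval_def]

include hψ in
omit [HenselianLocalRing R] [IsLocalization.Away (algebraMap R[X] B X) L] in
theorem psi_eq_phi_reflect (N : ℕ) (g : R[X]) (hg : g.natDegree ≤ N) :
    ψ g = algebraMap B L (algebraMap R[X] B (reflect N g)) * (ψ X) ^ N := by
  letI : Invertible (ψ X) :=
    ⟨algebraMap B L (algebraMap R[X] B X), by rw [mul_comm]; exact hψ, hψ⟩
  rw [psi_eq R L ψ g, phi_eq R B L (reflect N g)]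
  exact (eval₂_reflect_mul_pow (algebraMap R L) (ψ X) N g hg).symm

include hB hψ in
theorem key (g : R[X]) (h0 : g.coeff 0 = 1) (hm : ∀ i, 1 ≤ i → g.coeff i ∈ maximalIdeal R) :
    (∀ ℓ : L, ∃ q : R[X], ψ q - ℓ ∈ Ideal.span {ψ g}) ∧
      (∀ q : R[X], ψ q ∈ Ideal.span {ψ g} → q ∈ Ideal.span {g}) := by
  classical
  obtain ⟨P, hPdef⟩ : ∃ p : R[X], p = reflect g.natDegree g := ⟨_, rfl⟩
  obtain ⟨hPmonic, hPnat, hPcoeff⟩ := reflect_weier R g g.natDegree le_rfl h0 hm
  rw [← hPdef] at hPmonic hPnat hPcoeff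
  have hPcoeff' : ∀ i, i < P.natDegree → P.coeff i ∈ maximalIdeal R := by
    rw [hPnat]; exact hPcoeff
  obtain ⟨hA1, hA2⟩ := weier_poly R B hB P hPmonic hPcoeff'
  obtain ⟨s, hs⟩ : ∃ x : L, x = ψ X := ⟨_, rfl⟩
  obtain ⟨tL, htL⟩ : ∃ x : L, x = algebraMap B L (algebraMap R[X] B X) := ⟨_, rfl⟩
  have hst : s * tL = 1 := by rw [hs, htL]; exact hψ
  have hψrefl : ∀ (N : ℕ) (p : R[X]), p.natDegree ≤ N →
      ψ p = algebraMap B L (algebraMap R[X] B (reflect N p)) * s ^ N := by
    intro N p hp; rw [hs]; exact psi_eq_phi_reflect R B L ψ hψ N p hp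
  have hψg : ψ g = algebraMap B L (algebraMap R[X] B P) * s ^ g.natDegree := by
    rw [hPdef]; exact hψrefl _ g le_rfl
  have hsu : ∀ k : ℕ, IsUnit (s ^ k) := fun k => (IsUnit.of_mul_eq_one _ hst).pow k
  have hspan : Ideal.span {ψ g} = Ideal.span {algebraMap B L (algebraMap R[X] B P)} := by
    rw [hψg]; exact Ideal.span_singleton_mul_right_unit (hsu _) _
  constructor
  · obtain ⟨mkQ, hmkQ⟩ : ∃ φ : L →+* L ⧸ Ideal.span {ψ g}, φ = Ideal.Quotient.mk _ := ⟨_, rfl⟩
    have hmkQeq : ∀ a b : L, a - b ∈ Ideal.span {ψ g} → mkQ a = mkQ b := by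
      intro a b h; rw [hmkQ]; exact Ideal.Quotient.eq.2 h
    obtain ⟨𝒮, h𝒮⟩ : ∃ S : Subring (L ⧸ Ideal.span {ψ g}),
        S = (mkQ.comp ψ.toRingHom).range := ⟨_, rfl⟩
    have hψS : ∀ q, mkQ (ψ q) ∈ 𝒮 := fun q => by rw [h𝒮]; exact ⟨q, rfl⟩
    have htLS : mkQ tL ∈ 𝒮 := by
      have h1 : ψ g = s * ψ g.divX + 1 := by
        conv_lhs => rw [← X_mul_divX_add g, h0]
        rw [map_add, map_mul, C_1, map_one, hs]
      have h2 : mkQ tL = mkQ (ψ (- g.divX)) := by
        apply hmkQeq
        rw [Ideal.mem_span_singleton]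
        refine ⟨tL, ?_⟩
        rw [map_neg, h1]
        linear_combination (- ψ g.divX) * hst
      rw [h2]; exact hψS _
    have hRS : ∀ r : R, mkQ (algebraMap R L r) ∈ 𝒮 := by
      intro r
      have h1 : algebraMap R L r = ψ (C r) := (ψ.commutes r).symm
      rw [h1]; exact hψS _
    have hφS : ∀ q : R[X], mkQ (algebraMap B L (algebraMap R[X] B q)) ∈ 𝒮 := by
      intro q
      refine Polynomial.induction_on q ?_ ?_ ?_
      · intro a
        have h1 : algebraMap B L (algebraMap R[X] B (C a)) = algebraMap R L a := by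
          rw [show (C a : R[X]) = algebraMap R R[X] a from rfl,
            ← IsScalarTower.algebraMap_apply R R[X] B, ← IsScalarTower.algebraMap_apply R B L]
        rw [h1]; exact hRS a
      · intro p q hp hq
        rw [map_add, map_add, map_add]; exact 𝒮.add_mem hp hq
      · intro n a ih
        have h1 : C a * X ^ (n + 1) = C a * X ^ n * X := by rw [pow_succ, mul_assoc]
        rw [h1, map_mul (algebraMap R[X] B), map_mul (algebraMap B L), map_mul mkQ, ← htL]
        exact 𝒮.mul_mem ih htLS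
    have hBS : ∀ b : B, mkQ (algebraMap B L b) ∈ 𝒮 := by
      intro b
      obtain ⟨q₀, hq₀⟩ := hA1 b
      have h1 : mkQ (algebraMap B L (algebraMap R[X] B q₀)) = mkQ (algebraMap B L b) := by
        apply hmkQeq
        rw [hspan, ← map_sub]
        have h2 := Ideal.mem_map_of_mem (algebraMap B L) hq₀
        rw [Ideal.map_span, Set.image_singleton] at h2
        exact h2
      rw [← h1]; exact hφS q₀
    intro ℓ
    have hℓS : mkQ ℓ ∈ 𝒮 := by
      obtain ⟨k, b, hkb⟩ := IsLocalization.Away.surj (algebraMap R[X] B X) ℓ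
      rw [← htL] at hkb
      have h1 : ℓ = algebraMap B L b * s ^ k := by
        rw [← hkb, mul_assoc, ← mul_pow, mul_comm tL s, hst, one_pow, mul_one]
      rw [h1, map_mul, map_pow, hs]
      exact 𝒮.mul_mem (hBS b) (𝒮.pow_mem (hψS X) k)
    rw [h𝒮] at hℓS
    obtain ⟨q, hq⟩ := hℓS
    refine ⟨q, ?_⟩
    rw [hmkQ] at hq
    have hq' : Ideal.Quotient.mk (Ideal.span {ψ g}) (ψ q) =
        Ideal.Quotient.mk (Ideal.span {ψ g}) ℓ := hq
    exact Ideal.Quotient.eq.1 hq'
  · intro q hq
    rw [hspan] at hq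
    obtain ⟨r, hr⟩ : ∃ p : R[X], p = reflect q.natDegree q := ⟨_, rfl⟩
    have hψq : ψ q = algebraMap B L (algebraMap R[X] B r) * s ^ q.natDegree := by
      rw [hr]; exact hψrefl _ q le_rfl
    have h1 : algebraMap B L (algebraMap R[X] B r) ∈
        Ideal.span {algebraMap B L (algebraMap R[X] B P)} := by
      have h0 : algebraMap B L (algebraMap R[X] B r) = ψ q * tL ^ q.natDegree := by
        rw [hψq, mul_assoc, ← mul_pow, hst, one_pow, mul_one]
      rw [h0]; exact Ideal.mul_mem_right _ _ hq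
    obtain ⟨ℓ, hℓ⟩ := Ideal.mem_span_singleton'.1 h1
    obtain ⟨k, b₂, hkb⟩ := IsLocalization.Away.surj (algebraMap R[X] B X) ℓ
    have h2 : algebraMap B L (algebraMap R[X] B r * (algebraMap R[X] B X) ^ k) =
        algebraMap B L (b₂ * algebraMap R[X] B P) := by
      rw [map_mul, map_mul, map_pow, ← hℓ, ← hkb]; ring
    obtain ⟨c, hc⟩ :=
      (IsLocalization.eq_iff_exists (Submonoid.powers (algebraMap R[X] B X)) L).1 h2
    obtain ⟨j, hj⟩ := c.2
    have hj' : (algebraMap R[X] B X) ^ j = (c : B) := hj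
    have h3 : algebraMap R[X] B (X ^ (j + k) * r) ∈ Ideal.span {algebraMap R[X] B P} := by
      rw [Ideal.mem_span_singleton']
      refine ⟨(c : B) * b₂, ?_⟩
      rw [map_mul, map_pow, pow_add, hj']
      linear_combination (-1 : B) * hc
    have h4 := hA2 _ h3
    obtain ⟨c₀, hc₀⟩ := Ideal.mem_span_singleton.1 h4
    obtain ⟨c₁, hc₁⟩ : ∃ p : R[X], p = X ^ g.natDegree * c₀ := ⟨_, rfl⟩
    have h5 : X ^ (j + k + g.natDegree) * r = P * c₁ := by
      rw [hc₁, pow_add, mul_comm (X ^ (j + k)) (X ^ g.natDegree), mul_assoc, hc₀]; ring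
    have hrdeg : r.natDegree ≤ q.natDegree := by
      rw [hr]; exact (natDegree_reflect_le).trans (max_le le_rfl le_rfl)
    have hcdeg : c₁.natDegree ≤ j + k + q.natDegree := by
      by_cases hc0 : c₁ = 0
      · rw [hc0, natDegree_zero]; exact Nat.zero_le _
      · have h6 : (P * c₁).natDegree = P.natDegree + c₁.natDegree :=
          hPmonic.natDegree_mul' hc0
        have h7 : (X ^ (j + k + g.natDegree) * r).natDegree ≤
            (j + k + g.natDegree) + q.natDegree :=
          (natDegree_mul_le).trans (Nat.add_le_add (natDegree_X_pow_le _) hrdeg)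
        rw [h5, h6, hPnat] at h7
        omega
    have h8 : reflect ((j + k + g.natDegree) + q.natDegree) (X ^ (j + k + g.natDegree) * r) = q := by
      rw [reflect_mul _ _ (natDegree_X_pow_le _) hrdeg, reflect_monomial, revAt_le le_rfl,
        Nat.sub_self, pow_zero, one_mul, hr, reflect_reflect]
    have h9 : reflect (g.natDegree + (j + k + q.natDegree)) (P * c₁) =
        g * reflect (j + k + q.natDegree) c₁ := by
      rw [reflect_mul _ _ hPnat.le hcdeg, hPdef, reflect_reflect]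
    have h10 : (j + k + g.natDegree) + q.natDegree = g.natDegree + (j + k + q.natDegree) := by
      omega
    rw [h5, h10, h9] at h8
    rw [Ideal.mem_span_singleton]
    exact ⟨_, h8.symm⟩

include hB hψ in
theorem laurent_main :
    (∀ I : Ideal R[X], I ⊔ (maximalIdeal R).map (algebraMap R R[X]) = ⊤ →
        (I.map ψ.toRingHom).comap ψ.toRingHom = I ∧
        I.map ψ.toRingHom ⊔ (maximalIdeal R).map (algebraMap R L) = ⊤ ∧
        Function.Bijective
          (Ideal.quotientMap (I.map ψ.toRingHom) ψ.toRingHom Ideal.le_comap_map)) ∧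
    (∀ J : Ideal L, J ⊔ (maximalIdeal R).map (algebraMap R L) = ⊤ →
        (J.comap ψ.toRingHom).map ψ.toRingHom = J ∧
        J.comap ψ.toRingHom ⊔ (maximalIdeal R).map (algebraMap R R[X]) = ⊤) := by
  have hcompalg : ψ.toRingHom.comp (algebraMap R R[X]) = algebraMap R L :=
    RingHom.ext fun r => ψ.commutes r
  constructor
  · intro I hI
    obtain ⟨g, hgI, hg0, hgm⟩ := exists_g_of_sup R I hI
    obtain ⟨hK1, hK2⟩ := key R B hB L ψ hψ g hg0 hgm
    have hgle : Ideal.span {ψ g} ≤ I.map ψ.toRingHom := by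
      rw [Ideal.span_le, Set.singleton_subset_iff]
      exact Ideal.mem_map_of_mem ψ.toRingHom hgI
    have hmapI : ∀ z ∈ I.map ψ.toRingHom, ∃ i ∈ I, ψ i - z ∈ Ideal.span {ψ g} := by
      intro z hz
      have hz' : z ∈ Submodule.span L (ψ.toRingHom '' (I : Set R[X])) := hz
      refine Submodule.span_induction
        (p := fun z _ => ∃ i ∈ I, ψ i - z ∈ Ideal.span {ψ g}) ?_ ?_ ?_ ?_ hz'
      · rintro _ ⟨i, hi, rfl⟩
        refine ⟨i, hi, ?_⟩
        rw [show ψ.toRingHom i = ψ i from rfl, sub_self]; exact Ideal.zero_mem _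
      · exact ⟨0, I.zero_mem, by simp⟩
      · rintro x y _ _ ⟨i, hi, hxi⟩ ⟨i', hi', hyi⟩
        refine ⟨i + i', I.add_mem hi hi', ?_⟩
        have h0 : ψ (i + i') - (x + y) = (ψ i - x) + (ψ i' - y) := by rw [map_add]; ring
        rw [h0]; exact Ideal.add_mem _ hxi hyi
      · rintro c x _ ⟨i, hi, hxi⟩
        obtain ⟨qc, hqc⟩ := hK1 c
        refine ⟨qc * i, I.mul_mem_left _ hi, ?_⟩
        have h0 : ψ (qc * i) - c • x = ψ qc * (ψ i - x) + (ψ qc - c) * x := by
          rw [map_mul, smul_eq_mul]; ring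
        rw [h0]
        exact Ideal.add_mem _ (Ideal.mul_mem_left _ _ hxi) (Ideal.mul_mem_right _ _ hqc)
    have hcomap : (I.map ψ.toRingHom).comap ψ.toRingHom ≤ I := by
      intro q hq
      obtain ⟨i, hi, hiq⟩ := hmapI _ (Ideal.mem_comap.1 hq)
      have h1 : ψ (i - q) ∈ Ideal.span {ψ g} := by rw [map_sub]; exact hiq
      have h2 := hK2 _ h1
      have h3 : i - q ∈ I := (Ideal.span_le.2 (Set.singleton_subset_iff.2 hgI)) h2
      have h0 : q = i - (i - q) := by ring
      rw [h0]; exact I.sub_mem hi h3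
    refine ⟨le_antisymm hcomap Ideal.le_comap_map, ?_, ⟨?_, ?_⟩⟩
    · rw [eq_top_iff]
      have h1 : (I ⊔ (maximalIdeal R).map (algebraMap R R[X])).map ψ.toRingHom = ⊤ := by
        rw [hI, Ideal.map_top]
      rw [← h1, Ideal.map_sup]
      refine sup_le_sup le_rfl (le_of_eq ?_)
      rw [Ideal.map_map, hcompalg]
    · exact Ideal.quotientMap_injective' hcomap
    · intro y
      obtain ⟨ℓ, rfl⟩ := Ideal.Quotient.mk_surjective y
      obtain ⟨q, hq⟩ := hK1 ℓ
      refine ⟨Ideal.Quotient.mk I q, ?_⟩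
      rw [Ideal.quotientMap_mk]
      exact Ideal.Quotient.eq.2 (hgle hq)
  · intro J hJ
    have h1 : (1 : L) ∈ J ⊔ (maximalIdeal R).map (algebraMap R L) := by rw [hJ]; trivial
    obtain ⟨j, hj, μL, hμL, hsum⟩ := Submodule.mem_sup.1 h1
    have hmL : (maximalIdeal R).map (algebraMap R L) =
        ((maximalIdeal R).map (algebraMap R B)).map (algebraMap B L) := by
      rw [Ideal.map_map, ← IsScalarTower.algebraMap_eq]
    rw [hmL] at hμL
    obtain ⟨⟨⟨μB, hμB⟩, ⟨c, hc⟩⟩, hx⟩ :=
      (IsLocalization.mem_map_algebraMap_iff (Submonoid.powers (algebraMap R[X] B X)) L).1 hμL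
    dsimp only at hx
    obtain ⟨N, hN⟩ := hc
    have hN' : (algebraMap R[X] B X) ^ N = c := hN
    obtain ⟨f, hf⟩ : ∃ b : B, b = (algebraMap R[X] B X) ^ N - μB := ⟨_, rfl⟩
    have hfJ : algebraMap B L f ∈ J := by
      have h0 : algebraMap B L f = j * algebraMap B L c := by
        rw [hf, map_sub, hN', ← hx]
        linear_combination (-(algebraMap B L c)) * hsum
      rw [h0]; exact J.mul_mem_right _ hj
    have hfm : f - (algebraMap R[X] B X) ^ N ∈ (maximalIdeal R).map (algebraMap R B) := by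
      have h0 : f - (algebraMap R[X] B X) ^ N = -μB := by rw [hf]; ring
      rw [h0]; exact neg_mem hμB
    obtain ⟨P, hPmonic, hPnat, hPcoeff, w, hw⟩ := exists_weier R B hB f N hfm
    have hPJ : algebraMap B L (algebraMap R[X] B P) ∈ J := by
      have h0 : algebraMap R[X] B P = f * ((w⁻¹ : Bˣ) : B) := by
        rw [hw, mul_assoc, Units.mul_inv, mul_one]
      rw [h0, map_mul]; exact J.mul_mem_right _ hfJ
    obtain ⟨g, hg⟩ : ∃ p : R[X], p = reflect N P := ⟨_, rfl⟩
    have hgdeg : g.natDegree ≤ N := by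
      rw [hg]; exact (natDegree_reflect_le).trans (max_le le_rfl hPnat.le)
    have hg0 : g.coeff 0 = 1 := by
      rw [hg, coeff_reflect, revAt_le (Nat.zero_le N), Nat.sub_zero, ← hPnat]
      exact hPmonic.coeff_natDegree
    have hgm : ∀ i, 1 ≤ i → g.coeff i ∈ maximalIdeal R := by
      intro i hi
      rw [hg, coeff_reflect]
      by_cases hiN : i ≤ N
      · rw [revAt_le hiN]; exact hPcoeff _ (by omega)
      · rw [revAt_eq_self_of_lt (not_le.1 hiN),
          coeff_eq_zero_of_natDegree_lt (by rw [hPnat]; exact not_le.1 hiN)]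
        exact Ideal.zero_mem _
    have hψg : ψ g ∈ J := by
      rw [psi_eq_phi_reflect R B L ψ hψ N g hgdeg, hg, reflect_reflect]
      exact J.mul_mem_right _ hPJ
    obtain ⟨hK1, hK2⟩ := key R B hB L ψ hψ g hg0 hgm
    have hgle : Ideal.span {ψ g} ≤ J := by
      rw [Ideal.span_le, Set.singleton_subset_iff]; exact hψg
    have hgcomap : g ∈ J.comap ψ.toRingHom := Ideal.mem_comap.2 hψg
    constructor
    · apply le_antisymm Ideal.map_comap_le
      intro ℓ hℓ
      obtain ⟨q, hq⟩ := hK1 ℓ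
      have hqJ : ψ q ∈ J := by
        have h0 : ψ q = (ψ q - ℓ) + ℓ := by ring
        rw [h0]; exact J.add_mem (hgle hq) hℓ
      have h2 : ψ q ∈ (J.comap ψ.toRingHom).map ψ.toRingHom :=
        Ideal.mem_map_of_mem ψ.toRingHom (Ideal.mem_comap.2 hqJ)
      have h3 : ψ q - ℓ ∈ (J.comap ψ.toRingHom).map ψ.toRingHom := by
        obtain ⟨y, hy⟩ := Ideal.mem_span_singleton'.1 hq
        rw [← hy]
        exact Ideal.mul_mem_left _ _ (Ideal.mem_map_of_mem ψ.toRingHom hgcomap)
      have h0 : ℓ = ψ q - (ψ q - ℓ) := by ring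
      rw [h0]; exact Ideal.sub_mem _ h2 h3
    · rw [Ideal.eq_top_iff_one]
      have h0 : (1 : R[X]) = g + (1 - g) := by ring
      rw [h0]
      refine Ideal.add_mem _ (Ideal.mem_sup_left hgcomap) (Ideal.mem_sup_right ?_)
      rw [map_algebraMap_eq_map_C, Ideal.mem_map_C_iff]
      intro k
      rw [coeff_sub, coeff_one]
      by_cases hk : k = 0
      · rw [if_pos hk, hk, hg0, sub_self]; exact Ideal.zero_mem _
      · rw [if_neg hk, zero_sub]; exact neg_mem (hgm k (Nat.one_le_iff_ne_zero.2 hk))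

end laurent

end Groth.Agent.Helper6.WeierHens
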