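import Mathlib
import Groth.Agent.Lib.Helper1.HenselFactor
import Groth.Agent.Lib.Helper26.ZMTHens4

/-!
# Ideals of `R[s]` and of the Zariski-Laurent localisation avoiding the special fibre (helper6)

`R` henselian local, `L = S⁻¹ R[t]` with `S` generated by `t` and the polynomials with constant
term `1`, `ψ : R[s] → L`, `s ↦ t⁻¹`.
-/

set_option autoImplicit false
set_option linter.style.haveILetI false
set_option linter.unusedVariables false

namespace Groth.Agent.Helper6.ZarLoc

open Polynomial IsLocalRing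

universe u

theorem isUnit_coeff_zero_of_sub_one_mem {R : Type u} [CommRing R] [IsLocalRing R] (p : R[X])
    (hp : p - 1 ∈ (maximalIdeal R).map (C : R →+* R[X])) : IsUnit (p.coeff 0) := by
  have h0 := Ideal.mem_map_C_iff.1 hp 0
  rw [coeff_sub, coeff_one_zero] at h0
  by_contra hnu
  have h1 : p.coeff 0 ∈ maximalIdeal R := (IsLocalRing.mem_maximalIdeal _).2 hnu
  have h2 : (1 : R) ∈ maximalIdeal R := by
    have := sub_mem h1 h0
    rwa [sub_sub_cancel] at this
  exact (Ideal.ne_top_iff_one _).1 (maximalIdeal.isMaximal R).ne_top h2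

theorem isUnit_of_isUnit_coeff_zero {R : Type u} [CommRing R] (S : Submonoid R[X])
    {L : Type u} [CommRing L] [Algebra R[X] L] [IsLocalization S L]
    (h1S : ∀ f : R[X], f.coeff 0 = 1 → f ∈ S) (p : R[X])
    (hp : IsUnit (p.coeff 0)) : IsUnit (algebraMap R[X] L p) := by
  obtain ⟨c, hc⟩ := hp.exists_left_inv
  have hw : (C c * p).coeff 0 = 1 := by rw [coeff_C_mul, hc]
  have h1 : IsUnit (algebraMap R[X] L (C c * p)) :=
    IsLocalization.map_units L (⟨C c * p, h1S _ hw⟩ : S)
  rw [map_mul] at h1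
  exact isUnit_of_mul_isUnit_right h1

/-- Key lemma: in an `R`-algebra `Q` in which `y` is invertible with inverse `x` and `f(y) = 0` for a
polynomial `f ≡ 1` mod `𝔪`, every `w(x)` with `w(0) = 1` is a unit. -/
theorem isUnit_aeval_of_coeff_zero {R : Type u} [CommRing R] [IsLocalRing R] {Q : Type u}
    [CommRing Q] [Algebra R Q]
    (y x : Q) (hyx : y * x = 1) (f : R[X]) (hf0 : aeval y f = 0)
    (hf1 : f - 1 ∈ (maximalIdeal R).map (C : R →+* R[X])) (w : R[X]) (hw : w.coeff 0 = 1) :
    IsUnit (aeval x w) := by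
  classical
  letI : Invertible y := ⟨x, by rw [mul_comm]; exact hyx, hyx⟩
  have hc0 : IsUnit (f.coeff 0) := isUnit_coeff_zero_of_sub_one_mem f hf1
  obtain ⟨c, hc⟩ := hc0.exists_left_inv
  have hne : f.coeff 0 ≠ 0 := hc0.ne_zero
  have hrev0 : eval₂ (algebraMap R Q) x (reverse f) = 0 :=
    (eval₂_reverse_eq_zero_iff (algebraMap R Q) y f).2 hf0
  have hmonic : (C c * reverse f).Monic := by
    apply monic_C_mul_of_mul_leadingCoeff_eq_one
    rw [reverse_leadingCoeff, trailingCoeff_eq_coeff_zero hne, hc]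
  have hxint : IsIntegral R x :=
    ⟨C c * reverse f, hmonic, by rw [eval₂_mul, eval₂_C, hrev0, mul_zero]⟩
  -- work in the integral closure
  let D := integralClosure R Q
  let x' : D := ⟨x, hxint⟩
  haveI : Algebra.IsIntegral R D := inferInstance
  have hrev0' : aeval x' (reverse f) = 0 := by
    apply Subtype.ext
    rw [← Subalgebra.aeval_coe]
    exact hrev0
  have hxM : ∀ M : Ideal D, M.IsMaximal → x' ∈ M := by
    intro M hM
    have hcomap : (M.comap (algebraMap R D)).IsMaximal :=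
      Ideal.isMaximal_comap_of_isIntegral_of_isMaximal (R := R) M
    have heq : M.comap (algebraMap R D) = maximalIdeal R := IsLocalRing.eq_maximalIdeal hcomap
    let φ : R →+* D ⧸ M := (Ideal.Quotient.mk M).comp (algebraMap R D)
    have hφ : ∀ m ∈ maximalIdeal R, φ m = 0 := by
      intro m hm
      rw [← heq] at hm
      exact Ideal.Quotient.eq_zero_iff_mem.2 (Ideal.mem_comap.1 hm)
    have hfφ : f.map φ = 1 := by
      have h0 : (f - 1).map φ = 0 := by
        ext n
        rw [coeff_map, coeff_zero]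
        exact hφ _ (Ideal.mem_map_C_iff.1 hf1 n)
      rw [Polynomial.map_sub, Polynomial.map_one, sub_eq_zero] at h0
      exact h0
    have hrevφ : (reverse f).map φ = X ^ f.natDegree := by
      show (reflect f.natDegree f).map φ = X ^ f.natDegree
      rw [← reflect_map, hfφ, reflect_one]
    have h1 : (Ideal.Quotient.mk M) (aeval x' (reverse f)) =
        eval₂ φ (Ideal.Quotient.mk M x') (reverse f) := by
      rw [aeval_def, Polynomial.hom_eval₂]
    rw [hrev0', map_zero, ← eval_map, hrevφ, eval_pow, eval_X, ← map_pow] at h1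
    exact hM.isPrime.mem_of_pow_mem _ (Ideal.Quotient.eq_zero_iff_mem.1 h1.symm)
  have hdec : aeval x' (divX w) * x' + 1 = aeval x' w := by
    have := congrArg (aeval x') (divX_mul_X_add w)
    rw [hw, map_add, map_mul, aeval_X, C_1, map_one] at this
    exact this
  have hunit : IsUnit (aeval x' w) := by
    by_contra hnu
    have hne : Ideal.span {aeval x' w} ≠ ⊤ := by
      rwa [Ne, Ideal.span_singleton_eq_top]
    obtain ⟨M, hM, hle⟩ := Ideal.exists_le_maximal _ hne
    have hu : aeval x' w ∈ M := hle (Ideal.mem_span_singleton_self _)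
    have hx : x' ∈ M := hxM M hM
    have h1 : (1 : D) ∈ M := by
      have : (1 : D) = aeval x' w - aeval x' (divX w) * x' := by rw [← hdec]; ring
      rw [this]
      exact sub_mem hu (Ideal.mul_mem_left _ _ hx)
    exact (Ideal.ne_top_iff_one _).1 hM.ne_top h1
  have := hunit.map D.val
  rwa [Subalgebra.coe_val, ← Subalgebra.aeval_coe] at this

theorem finite_of_surjective_of_monic {R : Type u} [CommRing R] {A : Type u} [CommRing A]
    [Algebra R A] (π : R[X] →ₐ[R] A) (hπ : Function.Surjective π) (F₁ : R[X]) (hmon : F₁.Monic)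
    (h0 : π F₁ = 0) : Module.Finite R A := by
  have hkill : ∀ p ∈ Ideal.span {F₁}, π p = 0 := by
    intro p hp
    obtain ⟨b, rfl⟩ := Ideal.mem_span_singleton'.1 hp
    rw [map_mul, h0, mul_zero]
  let f : AdjoinRoot F₁ →ₐ[R] A := Ideal.Quotient.liftₐ (Ideal.span {F₁}) π hkill
  have hfsurj : Function.Surjective f := by
    intro z
    obtain ⟨p, rfl⟩ := hπ z
    exact ⟨Ideal.Quotient.mk _ p, rfl⟩
  haveI : Module.Finite R (AdjoinRoot F₁) := hmon.finite_adjoinRoot
  exact Module.Finite.of_surjective f.toLinearMap hfsurj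

theorem finite_quotient_of_map_ne_zero {R : Type u} [CommRing R] [IsLocalRing R] {E : Type u}
    [CommRing E] [Algebra R E] (π₀ : R[X] →ₐ[R] E) (hπ₀ : Function.Surjective π₀)
    (F : R[X]) (hF0 : π₀ F = 0) (hF : F.map (residue R) ≠ 0) :
    Module.Finite R (E ⧸ (maximalIdeal R).map (algebraMap R E)) := by
  classical
  set Fb := F.map (residue R) with hFb
  have hlc : Fb.leadingCoeff ≠ 0 := leadingCoeff_ne_zero.2 hF
  obtain ⟨u, hu⟩ := IsLocalRing.residue_surjective (Fb.leadingCoeff)⁻¹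
  have hmon : (C (Fb.leadingCoeff)⁻¹ * Fb).Monic :=
    monic_C_mul_of_mul_leadingCoeff_eq_one (inv_mul_cancel₀ hlc)
  have hlift : C (Fb.leadingCoeff)⁻¹ * Fb ∈ lifts (residue R) :=
    (mem_lifts _).2 ⟨C u * F, by rw [Polynomial.map_mul, map_C, hu]⟩
  obtain ⟨F₁, hF₁map, -, hF₁mon⟩ := lifts_and_natDegree_eq_and_monic hlift hmon
  have hdiff : F₁ - C u * F ∈ (maximalIdeal R).map (C : R →+* R[X]) := by
    rw [← IsLocalRing.ker_residue, ← Polynomial.ker_mapRingHom, RingHom.mem_ker, map_sub,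
      coe_mapRingHom, hF₁map, Polynomial.map_mul, map_C, hu, sub_self]
  have hπC : π₀.toRingHom.comp (C : R →+* R[X]) = algebraMap R E := by
    ext r
    show π₀ (C r) = _
    rw [Polynomial.C_eq_algebraMap]
    exact π₀.commutes r
  let π : R[X] →ₐ[R] (E ⧸ (maximalIdeal R).map (algebraMap R E)) :=
    (Ideal.Quotient.mkₐ R ((maximalIdeal R).map (algebraMap R E))).comp π₀
  have hsurj : Function.Surjective π := by
    show Function.Surjective ((Ideal.Quotient.mkₐ R _) ∘ π₀)
    exact (Ideal.Quotient.mkₐ_surjective R _).comp hπ₀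
  have hπm : ∀ p ∈ (maximalIdeal R).map (C : R →+* R[X]), π p = 0 := by
    intro p hp
    show Ideal.Quotient.mk ((maximalIdeal R).map (algebraMap R E)) (π₀ p) = 0
    rw [Ideal.Quotient.eq_zero_iff_mem]
    have h1 : π₀.toRingHom p ∈ ((maximalIdeal R).map (C : R →+* R[X])).map π₀.toRingHom :=
      Ideal.mem_map_of_mem _ hp
    rw [Ideal.map_map, hπC] at h1
    exact h1
  have hπF : π F = 0 := by
    show Ideal.Quotient.mk ((maximalIdeal R).map (algebraMap R E)) (π₀ F) = 0
    rw [hF0, map_zero]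
  have hzero : π F₁ = 0 := by
    have : F₁ = C u * F + (F₁ - C u * F) := by ring
    rw [this, map_add, map_mul, hπF, mul_zero, zero_add]
    exact hπm _ hdiff
  exact finite_of_surjective_of_monic π hsurj F₁ hF₁mon hzero

theorem exists_monic_of_quasiFinite {R : Type u} [CommRing R] [HenselianLocalRing R] {E : Type u}
    [CommRing E] [Algebra R E] (π₀ : R[X] →ₐ[R] E) (hπ₀ : Function.Surjective π₀)
    (F : R[X]) (hF0 : π₀ F = 0) (hF : F.map (residue R) ≠ 0) :
    ∃ (M gt : R[X]) (n : ℕ), M.Monic ∧ gt - 1 ∈ (maximalIdeal R).map (C : R →+* R[X]) ∧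
      π₀ (gt ^ n * M) = 0 := by
  classical
  have hfin := finite_quotient_of_map_ne_zero π₀ hπ₀ F hF0 hF
  haveI : Algebra.FiniteType R E := Algebra.FiniteType.of_surjective π₀ hπ₀
  obtain ⟨g, hg1, hgfin⟩ :=
    Groth.Agent.Helper26.ZMTHens.exists_away_finite (maximalIdeal R) E hfin
  haveI : Algebra.IsIntegral R (Localization.Away g) := Algebra.IsIntegral.of_finite R _
  obtain ⟨M, hMmon, hM0⟩ :=
    Algebra.IsIntegral.isIntegral (R := R) (algebraMap E (Localization.Away g) (π₀ X))
  have hM1 : algebraMap E (Localization.Away g) (π₀ M) = 0 := by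
    rw [← hM0]
    have h1 : π₀ M = eval₂ (algebraMap R E) (π₀ X) M := by
      have := aeval_algHom_apply π₀ X M
      rw [aeval_X_left_apply] at this
      exact this.symm
    rw [h1, Polynomial.hom_eval₂, ← IsScalarTower.algebraMap_eq]
  obtain ⟨⟨_, n, rfl⟩, hn⟩ :=
    (IsLocalization.map_eq_zero_iff (Submonoid.powers g) (Localization.Away g) (π₀ M)).1 hM1
  have hπC : π₀.toRingHom.comp (C : R →+* R[X]) = algebraMap R E := by
    ext r
    show π₀ (C r) = _
    rw [Polynomial.C_eq_algebraMap]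
    exact π₀.commutes r
  have hmE : (maximalIdeal R).map (algebraMap R E) =
      ((maximalIdeal R).map (C : R →+* R[X])).map π₀.toRingHom := by
    rw [Ideal.map_map, hπC]
  rw [hmE, Ideal.mem_map_iff_of_surjective π₀.toRingHom hπ₀] at hg1
  obtain ⟨G', hG', hG'g⟩ := hg1
  refine ⟨M, 1 + G', n, hMmon, by rw [add_sub_cancel_left]; exact hG', ?_⟩
  have hG'' : π₀ G' = g - 1 := hG'g
  rw [map_mul, map_pow, map_add, map_one, hG'', add_sub_cancel]
  exact hn

section Part1

variable {R : Type u} [CommRing R] [IsLocalRing R] (S : Submonoid R[X]) {L : Type u} [CommRing L]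
  [Algebra R[X] L] [IsLocalization S L] [Algebra R L] [IsScalarTower R R[X] L]

theorem part1
    (hshape : ∀ σ ∈ S, ∃ (k : ℕ) (w : R[X]), w.coeff 0 = 1 ∧ σ = X ^ k * w)
    (ψ : R[X] →ₐ[R] L) (hψ : ψ X * algebraMap R[X] L X = 1)
    (I : Ideal R[X]) (hI : I ⊔ (maximalIdeal R).map (algebraMap R R[X]) = ⊤) :
    (I.map ψ.toRingHom).comap ψ.toRingHom = I ∧
    I.map ψ.toRingHom ⊔ (maximalIdeal R).map (algebraMap R L) = ⊤ ∧
    Function.Bijective
      (Ideal.quotientMap (I.map ψ.toRingHom) ψ.toRingHom Ideal.le_comap_map) := by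
  classical
  rw [Polynomial.algebraMap_eq] at hI
  obtain ⟨i, hi, μ, hμ, hiμ⟩ := Submodule.mem_sup.1
    (show (1 : R[X]) ∈ I ⊔ (maximalIdeal R).map (C : R →+* R[X]) by rw [hI]; trivial)
  have hi1 : i - 1 ∈ (maximalIdeal R).map (C : R →+* R[X]) := by
    have : i - 1 = -μ := by rw [← hiμ]; ring
    rw [this]
    exact neg_mem hμ
  have hψC : ψ.toRingHom.comp (C : R →+* R[X]) = algebraMap R L := by
    ext r
    show ψ (C r) = _
    rw [Polynomial.C_eq_algebraMap]
    exact ψ.commutes r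
  have hψm : ∀ p ∈ (maximalIdeal R).map (C : R →+* R[X]),
      ψ p ∈ (maximalIdeal R).map (algebraMap R L) := by
    intro p hp
    have h1 : ψ.toRingHom p ∈ ((maximalIdeal R).map (C : R →+* R[X])).map ψ.toRingHom :=
      Ideal.mem_map_of_mem _ hp
    rw [Ideal.map_map, hψC] at h1
    exact h1
  have h1b : I.map ψ.toRingHom ⊔ (maximalIdeal R).map (algebraMap R L) = ⊤ := by
    rw [Ideal.eq_top_iff_one]
    have : (1 : L) = ψ i + ψ μ := by rw [← map_add, hiμ, map_one]
    rw [this]
    exact Submodule.add_mem_sup (Ideal.mem_map_of_mem ψ.toRingHom hi) (hψm μ hμ)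
  have hc0 : IsUnit (i.coeff 0) := isUnit_coeff_zero_of_sub_one_mem i hi1
  obtain ⟨c, hc⟩ := hc0.exists_left_inv
  set τ : R[X] := -(C c * divX i) with hτ
  have hXτ : X * τ = 1 - C c * i := by
    have h := divX_mul_X_add i
    have hcc : C c * C (i.coeff 0) = 1 := by rw [← C_mul, hc, C_1]
    rw [hτ]
    linear_combination hcc - (C c) * h
  let q := Ideal.Quotient.mk I
  have hqi : q i = 0 := Ideal.Quotient.eq_zero_iff_mem.2 hi
  have hqXτ : q X * q τ = 1 := by
    rw [← map_mul, hXτ, map_sub, map_one, map_mul, hqi, mul_zero, sub_zero]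
  let θ : R[X] →ₐ[R] (R[X] ⧸ I) := aeval (q τ)
  have hθX : θ X = q τ := aeval_X _
  have hqi' : aeval (q X) i = 0 := by
    have := aeval_algHom_apply (Ideal.Quotient.mkₐ R I) X i
    rw [aeval_X_left_apply] at this
    rw [show q X = Ideal.Quotient.mkₐ R I X from rfl, this]
    exact hqi
  have hθunit : ∀ σ : S, IsUnit (θ.toRingHom σ) := by
    rintro ⟨σ, hσ⟩
    obtain ⟨k, w, hw, rfl⟩ := hshape σ hσ
    show IsUnit (θ (X ^ k * w))
    rw [map_mul, map_pow, hθX]
    refine IsUnit.mul (IsUnit.pow _ ?_) ?_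
    · exact isUnit_iff_exists_inv.2 ⟨q X, by rw [mul_comm]; exact hqXτ⟩
    · exact isUnit_aeval_of_coeff_zero (q X) (q τ) hqXτ i hqi' hi1 w hw
  let θ' : L →+* (R[X] ⧸ I) := IsLocalization.lift hθunit
  have hθ'a : ∀ p, θ' (algebraMap R[X] L p) = θ p := fun p => IsLocalization.lift_eq hθunit p
  have hθ'ψ : ∀ p, θ' (ψ p) = q p := by
    have : (θ'.comp ψ.toRingHom) = q := by
      apply Polynomial.ringHom_ext
      · intro r
        show θ' (ψ (C r)) = q (C r)
        rw [Polynomial.C_eq_algebraMap, ψ.commutes, IsScalarTower.algebraMap_apply R R[X] L, hθ'a]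
        show aeval (q τ) (algebraMap R R[X] r) = _
        rw [← Polynomial.C_eq_algebraMap, aeval_C]
        rfl
      · show θ' (ψ X) = q X
        have h1 : θ' (ψ X) * q τ = 1 := by
          rw [← hθX, ← hθ'a, ← map_mul, hψ, map_one]
        calc θ' (ψ X) = θ' (ψ X) * (q X * q τ) := by rw [hqXτ, mul_one]
          _ = (θ' (ψ X) * q τ) * q X := by ring
          _ = q X := by rw [h1, one_mul]
    intro p
    exact RingHom.congr_fun this p
  have hker : ∀ z ∈ I.map ψ.toRingHom, θ' z = 0 := by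
    have : I.map ψ.toRingHom ≤ RingHom.ker θ' := by
      rw [Ideal.map_le_iff_le_comap]
      intro p hp
      rw [Ideal.mem_comap, RingHom.mem_ker]
      show θ' (ψ p) = 0
      rw [hθ'ψ]
      exact Ideal.Quotient.eq_zero_iff_mem.2 hp
    exact fun z hz => RingHom.mem_ker.1 (this hz)
  have h1a : (I.map ψ.toRingHom).comap ψ.toRingHom = I := by
    apply le_antisymm
    · intro p hp
      have := hker _ (Ideal.mem_comap.1 hp)
      rw [show (ψ.toRingHom p) = ψ p from rfl, hθ'ψ] at this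
      exact Ideal.Quotient.eq_zero_iff_mem.1 this
    · exact Ideal.le_comap_map
  refine ⟨h1a, h1b, ?_, ?_⟩
  · rw [injective_iff_map_eq_zero]
    intro z hz
    obtain ⟨p, rfl⟩ := Ideal.Quotient.mk_surjective z
    rw [Ideal.quotientMap_mk, Ideal.Quotient.eq_zero_iff_mem] at hz
    have := hker _ hz
    rw [show (ψ.toRingHom p) = ψ p from rfl, hθ'ψ] at this
    exact this
  · set ψbar := Ideal.quotientMap (I.map ψ.toRingHom) ψ.toRingHom Ideal.le_comap_map with hψbar
    let π := Ideal.Quotient.mk (I.map ψ.toRingHom)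
    have hcomp : ψbar.comp θ' = π := by
      apply IsLocalization.ringHom_ext S
      apply Polynomial.ringHom_ext
      · intro r
        show ψbar (θ' (algebraMap R[X] L (C r))) = π (algebraMap R[X] L (C r))
        rw [hθ'a]
        show ψbar (aeval (q τ) (C r)) = _
        rw [aeval_C, ← Ideal.Quotient.mk_algebraMap, hψbar, Ideal.quotientMap_mk]
        congr 1
        show ψ (algebraMap R R[X] r) = algebraMap R[X] L (C r)
        rw [ψ.commutes, IsScalarTower.algebraMap_apply R R[X] L, Polynomial.C_eq_algebraMap]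
      · show ψbar (θ' (algebraMap R[X] L X)) = π (algebraMap R[X] L X)
        rw [hθ'a, hθX, hψbar, Ideal.quotientMap_mk]
        show π (ψ τ) = π (algebraMap R[X] L X)
        rw [Ideal.Quotient.eq]
        have h2 : ψ X * ψ τ = 1 - ψ (C c) * ψ i := by
          rw [← map_mul, hXτ, map_sub, map_one, map_mul]
        have h4 : ψ τ = algebraMap R[X] L X * (1 - ψ (C c) * ψ i) := by
          rw [← h2, ← mul_assoc, mul_comm (algebraMap R[X] L X) (ψ X), hψ, one_mul]
        have hkey : ψ τ - algebraMap R[X] L X = -(algebraMap R[X] L X * ψ (C c) * ψ i) := by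
          rw [h4]; ring
        rw [hkey]
        exact neg_mem (Ideal.mul_mem_left _ _ (Ideal.mem_map_of_mem ψ.toRingHom hi))
    intro z
    obtain ⟨ℓ, rfl⟩ := Ideal.Quotient.mk_surjective z
    exact ⟨θ' ℓ, by rw [← RingHom.comp_apply, hcomp]⟩

end Part1

section Part2

variable {R : Type u} [CommRing R] [HenselianLocalRing R] (S : Submonoid R[X]) {L : Type u}
  [CommRing L] [Algebra R[X] L] [IsLocalization S L] [Algebra R L] [IsScalarTower R R[X] L]

theorem part2
    (h1S : ∀ f : R[X], f.coeff 0 = 1 → f ∈ S)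
    (hshape : ∀ σ ∈ S, ∃ (k : ℕ) (w : R[X]), w.coeff 0 = 1 ∧ σ = X ^ k * w)
    (ψ : R[X] →ₐ[R] L) (hψ : ψ X * algebraMap R[X] L X = 1)
    (J : Ideal L) (hJ : J ⊔ (maximalIdeal R).map (algebraMap R L) = ⊤) :
    ∃ i' : R[X], ψ i' ∈ J ∧ i' - 1 ∈ (maximalIdeal R).map (C : R →+* R[X]) := by
  classical
  obtain ⟨j, hj, μ, hμ, hjμ⟩ := Submodule.mem_sup.1
    (show (1 : L) ∈ J ⊔ (maximalIdeal R).map (algebraMap R L) by rw [hJ]; trivial)
  have hmL : (maximalIdeal R).map (algebraMap R L) =
      ((maximalIdeal R).map (C : R →+* R[X])).map (algebraMap R[X] L) := by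
    rw [Ideal.map_map, IsScalarTower.algebraMap_eq R R[X] L, Polynomial.algebraMap_eq]
  rw [hmL, IsLocalization.mem_map_algebraMap_iff S L] at hμ
  obtain ⟨⟨⟨G, hG⟩, σ⟩, hGσ⟩ := hμ
  obtain ⟨k, w, hw, hσ⟩ := hshape σ σ.2
  set F : R[X] := (σ : R[X]) - G with hF
  have haF : algebraMap R[X] L F ∈ J := by
    have h1 : algebraMap R[X] L F = j * algebraMap R[X] L σ := by
      have hj' : j = 1 - μ := by rw [← hjμ]; ring
      rw [hF, map_sub, hj']
      simp only at hGσ
      rw [← hGσ]
      ring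
    rw [h1]
    exact Ideal.mul_mem_right _ _ hj
  have hσk : ((σ : R[X])).coeff k = 1 := by
    have := coeff_X_pow_mul w k 0
    rw [zero_add] at this
    rw [hσ, this, hw]
  have hFk : residue R (F.coeff k) = 1 := by
    rw [hF, coeff_sub, hσk, map_sub, map_one,
      (IsLocalRing.residue_eq_zero_iff _).2 (Ideal.mem_map_C_iff.1 hG k), sub_zero]
  have hFb : F.map (residue R) ≠ 0 := by
    intro h0
    have := congrArg (fun p => p.coeff k) h0
    simp only [coeff_map, coeff_zero] at this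
    rw [hFk] at this
    exact one_ne_zero this
  obtain ⟨M, gt, n, hMmon, hgt1, hgtM⟩ := exists_monic_of_quasiFinite
    (Ideal.Quotient.mkₐ R (Ideal.span {F})) (Ideal.Quotient.mkₐ_surjective R _) F
    (Ideal.Quotient.eq_zero_iff_mem.2 (Ideal.mem_span_singleton_self F)) hFb
  have hdvd : gt ^ n * M ∈ Ideal.span {F} := Ideal.Quotient.eq_zero_iff_mem.1 hgtM
  have hgtu : IsUnit (algebraMap R[X] L gt) :=
    isUnit_of_isUnit_coeff_zero S h1S gt (isUnit_coeff_zero_of_sub_one_mem gt hgt1)
  have haM : algebraMap R[X] L M ∈ J := by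
    obtain ⟨b, hb⟩ := Ideal.mem_span_singleton'.1 hdvd
    have h1 : algebraMap R[X] L gt ^ n * algebraMap R[X] L M ∈ J := by
      rw [← map_pow, ← map_mul, ← hb, map_mul]
      exact Ideal.mul_mem_left _ _ haF
    obtain ⟨v, hv⟩ := (hgtu.pow n).exists_left_inv
    have : algebraMap R[X] L M = v * (algebraMap R[X] L gt ^ n * algebraMap R[X] L M) := by
      rw [← mul_assoc, hv, one_mul]
    rw [this]
    exact Ideal.mul_mem_left _ _ h1
  -- split off the power of X
  set Mb := M.map (residue R) with hMb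
  have hMbmon : Mb.Monic := hMmon.map _
  obtain ⟨vb, hvb, hndvd⟩ := exists_eq_pow_rootMultiplicity_mul_and_not_dvd Mb hMbmon.ne_zero 0
  rw [C_0, sub_zero] at hvb hndvd
  set e := rootMultiplicity 0 Mb with he
  have hvbmon : vb.Monic := by
    refine Monic.of_mul_monic_left (monic_X_pow e) ?_
    rw [← hvb]
    exact hMbmon
  have hv0 : vb.coeff 0 ≠ 0 := fun h => hndvd (X_dvd_iff.2 h)
  have hcop : IsCoprime (X ^ e) vb := by
    apply IsCoprime.pow_left
    refine ⟨-(C (vb.coeff 0)⁻¹ * divX vb), C (vb.coeff 0)⁻¹, ?_⟩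
    have h := divX_mul_X_add vb
    have hcc : C (vb.coeff 0)⁻¹ * C (vb.coeff 0) = 1 := by
      rw [← C_mul, inv_mul_cancel₀ hv0, C_1]
    linear_combination (-(C (vb.coeff 0)⁻¹)) * h + hcc
  obtain ⟨P, H, hMPH, hPmon, hHmon, hPmap, hHmap⟩ :=
    Groth.Agent.Helper1.exists_monic_factor_lift R M hMmon (X ^ e) vb (monic_X_pow e) hvbmon
      hcop hvb
  have hH0 : IsUnit (H.coeff 0) := by
    have : residue R (H.coeff 0) ≠ 0 := by
      rw [← coeff_map, hHmap]
      exact hv0
    by_contra hnu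
    exact this ((IsLocalRing.residue_eq_zero_iff _).2 ((IsLocalRing.mem_maximalIdeal _).2 hnu))
  have hHu : IsUnit (algebraMap R[X] L H) := isUnit_of_isUnit_coeff_zero S h1S H hH0
  have haP : algebraMap R[X] L P ∈ J := by
    rw [hMPH, map_mul] at haM
    obtain ⟨v, hv⟩ := hHu.exists_left_inv
    have : algebraMap R[X] L P = v * (algebraMap R[X] L P * algebraMap R[X] L H) := by
      rw [mul_comm (algebraMap R[X] L P), ← mul_assoc, hv, one_mul]
    rw [this]
    exact Ideal.mul_mem_left _ _ haM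
  have hPdeg : P.natDegree = e := by
    have := hPmon.natDegree_map (residue R)
    rw [hPmap, natDegree_X_pow] at this
    exact this.symm
  refine ⟨reverse P, ?_, ?_⟩
  · letI : Invertible (algebraMap R[X] L X) := ⟨ψ X, hψ, by rw [mul_comm]; exact hψ⟩
    have h := eval₂_reverse_mul_pow (algebraMap R L) (algebraMap R[X] L X) P
    have h1 : eval₂ (algebraMap R L) (ψ X) (reverse P) = ψ (reverse P) := by
      have := aeval_algHom_apply ψ X (reverse P)
      rw [aeval_X_left_apply] at this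
      exact this
    have h2 : eval₂ (algebraMap R L) (algebraMap R[X] L X) P = algebraMap R[X] L P := by
      have := aeval_algHom_apply (IsScalarTower.toAlgHom R R[X] L) X P
      rw [aeval_X_left_apply] at this
      exact this
    have h' : ψ (reverse P) * algebraMap R[X] L X ^ P.natDegree = algebraMap R[X] L P := by
      rw [← h1, ← h2]
      exact h
    have h3 : ψ (reverse P) = algebraMap R[X] L P * ψ X ^ P.natDegree := by
      calc ψ (reverse P)
          = ψ (reverse P) * (algebraMap R[X] L X ^ P.natDegree * ψ X ^ P.natDegree) := by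
            rw [← mul_pow, mul_comm (algebraMap R[X] L X), hψ, one_pow, mul_one]
        _ = algebraMap R[X] L P * ψ X ^ P.natDegree := by rw [← mul_assoc, h']
    rw [h3]
    exact Ideal.mul_mem_right _ _ haP
  · rw [← IsLocalRing.ker_residue, ← Polynomial.ker_mapRingHom, RingHom.mem_ker, map_sub,
      map_one, coe_mapRingHom]
    have : (reverse P).map (residue R) = 1 := by
      show (reflect P.natDegree P).map (residue R) = 1
      rw [← reflect_map, hPmap, hPdeg, reflect_monomial, revAt_le le_rfl, Nat.sub_self, pow_zero]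
    rw [this, sub_self]

theorem main
    (h1S : ∀ f : R[X], f.coeff 0 = 1 → f ∈ S)
    (hshape : ∀ σ ∈ S, ∃ (k : ℕ) (w : R[X]), w.coeff 0 = 1 ∧ σ = X ^ k * w)
    (ψ : R[X] →ₐ[R] L) (hψ : ψ X * algebraMap R[X] L X = 1) :
    (∀ I : Ideal R[X], I ⊔ (maximalIdeal R).map (algebraMap R R[X]) = ⊤ →
        (I.map ψ.toRingHom).comap ψ.toRingHom = I ∧
        I.map ψ.toRingHom ⊔ (maximalIdeal R).map (algebraMap R L) = ⊤ ∧
        Function.Bijective
          (Ideal.quotientMap (I.map ψ.toRingHom) ψ.toRingHom Ideal.le_comap_map)) ∧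
    (∀ J : Ideal L, J ⊔ (maximalIdeal R).map (algebraMap R L) = ⊤ →
        (J.comap ψ.toRingHom).map ψ.toRingHom = J ∧
        J.comap ψ.toRingHom ⊔ (maximalIdeal R).map (algebraMap R R[X]) = ⊤) := by
  refine ⟨fun I hI => part1 S hshape ψ hψ I hI, fun J hJ => ?_⟩
  obtain ⟨i', hi'J, hi'1⟩ := part2 S h1S hshape ψ hψ J hJ
  have hI' : J.comap ψ.toRingHom ⊔ (maximalIdeal R).map (algebraMap R R[X]) = ⊤ := by
    rw [Ideal.eq_top_iff_one, Polynomial.algebraMap_eq]
    have : (1 : R[X]) = i' + -(i' - 1) := by ring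
    rw [this]
    exact Submodule.add_mem_sup (Ideal.mem_comap.2 hi'J) (neg_mem hi'1)
  refine ⟨?_, hI'⟩
  obtain ⟨-, -, hbij⟩ := part1 S hshape ψ hψ _ hI'
  apply le_antisymm Ideal.map_comap_le
  intro ℓ hℓ
  obtain ⟨z, hz⟩ := hbij.2 (Ideal.Quotient.mk _ ℓ)
  obtain ⟨p, rfl⟩ := Ideal.Quotient.mk_surjective z
  rw [Ideal.quotientMap_mk, Ideal.Quotient.eq] at hz
  have hψp : ψ p ∈ J := by
    have h1 : ψ p - ℓ ∈ J := Ideal.map_comap_le hz
    have : ψ p = (ψ p - ℓ) + ℓ := by ring
    rw [this]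
    exact add_mem h1 hℓ
  have hp : ψ.toRingHom p ∈ (J.comap ψ.toRingHom).map ψ.toRingHom :=
    Ideal.mem_map_of_mem _ (Ideal.mem_comap.2 hψp)
  have : ℓ = ψ p - (ψ p - ℓ) := by ring
  rw [this]
  exact sub_mem hp hz

end Part2

section Closure

variable (R : Type u) [CommRing R]

theorem one_mem_gen (f : R[X]) (hf : f.coeff 0 = 1) :
    f ∈ Submonoid.closure ({f : R[X] | f.coeff 0 = 1} ∪ {X}) :=
  Submonoid.subset_closure (Or.inl hf)

theorem shape_of_mem_closure (σ : R[X])
    (hσ : σ ∈ Submonoid.closure ({f : R[X] | f.coeff 0 = 1} ∪ {X})) :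
    ∃ (k : ℕ) (w : R[X]), w.coeff 0 = 1 ∧ σ = X ^ k * w := by
  induction hσ using Submonoid.closure_induction with
  | mem x hx =>
    rcases hx with hx | hx
    · exact ⟨0, x, hx, by rw [pow_zero, one_mul]⟩
    · rw [Set.mem_singleton_iff] at hx
      subst hx
      exact ⟨1, 1, coeff_one_zero, by rw [pow_one, mul_one]⟩
  | one => exact ⟨0, 1, coeff_one_zero, by rw [pow_zero, one_mul]⟩
  | mul x y _ _ hx hy =>
    obtain ⟨k, w, hw, rfl⟩ := hx
    obtain ⟨k', w', hw', rfl⟩ := hy
    exact ⟨k + k', w * w', by rw [mul_coeff_zero, hw, hw', one_mul], by rw [pow_add]; ring⟩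

end Closure

end Groth.Agent.Helper6.ZarLoc
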